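import Mathlib
import Groth.Agent.Lib.H4FlatFibre
import Groth.Agent.Lib.H8EtaleFibre

/-!
# Fibrewise criteria for finite morphisms
-/

set_option autoImplicit false
set_option linter.all false

universe u

open CategoryTheory Limits AlgebraicGeometry TensorProduct

namespace Groth.Agent.H8FibreFlat

variable {X Y S : Scheme.{u}}

/-- The pullback of a morphism along a point of a fibre is flat. -/
theorem flat_snd_of_factor (f : X ⟶ Y) (g : Y ⟶ S) (h : ∀ s, Flat (pullback.snd f (pullback.fst g (S.fromSpecResidueField s))))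
    {K : Type u} [Field K] {T : Scheme.{u}} (j : T ⟶ Y) (p : T ⟶ Spec (CommRingCat.of K)) (q : Spec (CommRingCat.of K) ⟶ S)
    (hj : j ≫ g = p ≫ q) : Flat (pullback.snd f j) := by
  let s : S := q (IsLocalRing.closedPoint K)
  let φ := Scheme.descResidueField (Scheme.stalkClosedPointTo q)
  have hq : Spec.map φ ≫ S.fromSpecResidueField s = q := Scheme.descResidueField_stalkClosedPointTo_fromSpecResidueField K S q
  let l : T ⟶ pullback g (S.fromSpecResidueField s) := pullback.lift j (p ≫ Spec.map φ) (by rw [Category.assoc, hq, hj])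
  have hl : l ≫ pullback.fst g (S.fromSpecResidueField s) = j := pullback.lift_fst _ _ _
  haveI := h s
  let t : pullback f j ⟶ pullback f (pullback.fst g (S.fromSpecResidueField s)) :=
    pullback.lift (pullback.fst f j) (pullback.snd f j ≫ l) (by rw [Category.assoc, hl, pullback.condition])
  have sq : IsPullback t (pullback.snd f j) (pullback.snd f (pullback.fst g (S.fromSpecResidueField s))) l := by
    refine IsPullback.of_right ?_ (pullback.lift_snd _ _ _) (IsPullback.of_hasPullback f _)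
    rw [pullback.lift_fst, hl]
    exact IsPullback.of_hasPullback f j
  exact MorphismProperty.of_isPullback sq ‹Flat (pullback.snd f _)›

/-- A finite morphism over `S` which is flat on fibres is flat. -/
theorem flat_of_fibres (f : X ⟶ Y) (g : Y ⟶ S) [IsFinite f] [LocallyOfFinitePresentation f]
    [LocallyOfFinitePresentation g] [Flat (f ≫ g)]
    (h : ∀ s, Flat (pullback.snd f (pullback.fst g (S.fromSpecResidueField s)))) : Flat f := by
  rw [HasRingHomProperty.iff_exists_appLE (P := @Flat)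
    (RingHom.Flat.stableUnderComposition.stableUnderCompositionWithLocalizationAway RingHom.Flat.holdsForLocalizationAway).1]
  intro x
  obtain ⟨_, ⟨W, hW, rfl⟩, hyW, -⟩ :=
    S.isBasis_affineOpens.exists_subset_of_mem_open (Set.mem_univ (g (f x))) isOpen_univ
  obtain ⟨_, ⟨V, hV, rfl⟩, hyV, hVW⟩ :=
    Y.isBasis_affineOpens.exists_subset_of_mem_open (show f x ∈ (g ⁻¹ᵁ W : Y.Opens) from hyW) (g ⁻¹ᵁ W).2
  replace hW : IsAffineOpen W := hW
  replace hV : IsAffineOpen V := hV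
  have hV' : IsAffineOpen (f ⁻¹ᵁ V) := hV.preimage f
  refine ⟨⟨V, hV⟩, ⟨f ⁻¹ᵁ V, hV'⟩, hyV, le_rfl, ?_⟩
  let φ := g.appLE W V hVW
  let ψ := f.appLE V (f ⁻¹ᵁ V) le_rfl
  have hg : φ.hom.FinitePresentation :=
    HasRingHomProperty.appLE (P := @LocallyOfFinitePresentation) g inferInstance ⟨W, hW⟩ ⟨V, hV⟩ hVW
  have hfp : ψ.hom.FinitePresentation :=
    HasRingHomProperty.appLE (P := @LocallyOfFinitePresentation) f inferInstance ⟨V, hV⟩ ⟨_, hV'⟩ le_rfl
  have hfin : ψ.hom.Finite := by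
    rw [show ψ = f.app V from (Scheme.Hom.app_eq_appLE _).symm]
    exact f.finite_app V hV
  have hflat : (φ ≫ ψ).hom.Flat := by
    rw [show φ ≫ ψ = (f ≫ g).appLE W (f ⁻¹ᵁ V) (fun z hz => hVW hz) from Scheme.Hom.appLE_comp_appLE _ _ _ _ _ _ _]
    exact HasRingHomProperty.appLE (P := @Flat) (f ≫ g) inferInstance ⟨W, hW⟩ ⟨_, hV'⟩ _
  show ψ.hom.Flat
  letI := φ.hom.toAlgebra
  letI := ψ.hom.toAlgebra
  letI := (φ ≫ ψ).hom.toAlgebra
  haveI : IsScalarTower Γ(S, W) Γ(Y, V) Γ(X, f ⁻¹ᵁ V) := IsScalarTower.of_algebraMap_eq fun _ => rfl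
  haveI : Algebra.FinitePresentation Γ(S, W) Γ(Y, V) := hg
  haveI : Algebra.FinitePresentation Γ(Y, V) Γ(X, f ⁻¹ᵁ V) := hfp
  haveI : Module.Finite Γ(Y, V) Γ(X, f ⁻¹ᵁ V) := hfin
  haveI : Module.FinitePresentation Γ(Y, V) Γ(X, f ⁻¹ᵁ V) :=
    Module.FinitePresentation.of_finite_of_finitePresentation _ _
  haveI : Module.Flat Γ(S, W) Γ(X, f ⁻¹ᵁ V) := hflat
  refine H4FlatDescent.flat_of_flat_fibres Γ(S, W) Γ(Y, V) Γ(X, f ⁻¹ᵁ V) fun p _ => ?_
  let κ := p.ResidueField
  let F := Γ(Y, V) ⊗[Γ(S, W)] κ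
  let j : Spec (CommRingCat.of F) ⟶ Y := Spec.map (CommRingCat.ofHom (algebraMap Γ(Y, V) F)) ≫ hV.fromSpec
  have hflj : Flat (pullback.snd f j) := by
    refine flat_snd_of_factor f g h j
      (Spec.map (CommRingCat.ofHom (Algebra.TensorProduct.includeRight : κ →ₐ[Γ(S, W)] F).toRingHom))
      (Spec.map (CommRingCat.ofHom (algebraMap Γ(S, W) κ)) ≫ hW.fromSpec) ?_
    rw [Category.assoc, ← IsAffineOpen.SpecMap_appLE_fromSpec g hW hV hVW, ← Spec.map_comp_assoc, ← Spec.map_comp_assoc]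
    congr 2
    exact CommRingCat.hom_ext (RingHom.ext fun a =>
      ((IsScalarTower.algebraMap_apply Γ(S, W) Γ(Y, V) F a).symm).trans
        ((Algebra.TensorProduct.includeRight : κ →ₐ[Γ(S, W)] F).commutes a).symm)
  have sq1 : IsPullback hV'.fromSpec (Spec.map ψ) f hV.fromSpec := by
    refine IsPullback.of_iso (isPullback_morphismRestrict f V).flip hV'.isoSpec (Iso.refl _) hV.isoSpec (Iso.refl _) ?_ ?_ ?_ ?_
    · simp [← IsAffineOpen.isoSpec_inv_ι]
    · rw [← cancel_mono hV.fromSpec, Category.assoc, Category.assoc, IsAffineOpen.SpecMap_appLE_fromSpec f hV hV' le_rfl,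
        IsAffineOpen.fromSpec, IsAffineOpen.fromSpec]
      simp
    · simp
    · simp [← IsAffineOpen.isoSpec_inv_ι]
  have sq2 := isPullback_SpecMap_of_isPushout (CommRingCat.ofHom (algebraMap Γ(Y, V) Γ(X, f ⁻¹ᵁ V)))
    (CommRingCat.ofHom (algebraMap Γ(Y, V) F))
    (CommRingCat.ofHom ((Algebra.TensorProduct.includeRight : Γ(X, f ⁻¹ᵁ V) →ₐ[Γ(Y, V)] F ⊗[Γ(Y, V)] Γ(X, f ⁻¹ᵁ V)).toRingHom))
    (CommRingCat.ofHom (algebraMap F (F ⊗[Γ(Y, V)] Γ(X, f ⁻¹ᵁ V))))
    (CommRingCat.isPushout_tensorProduct Γ(Y, V) F Γ(X, f ⁻¹ᵁ V)).flip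
  have big := sq2.paste_horiz sq1
  have : Flat (Spec.map (CommRingCat.ofHom (algebraMap F (F ⊗[Γ(Y, V)] Γ(X, f ⁻¹ᵁ V))))) := by
    rw [← big.isoPullback_hom_snd]
    haveI : Flat (pullback.snd f j) := hflj
    exact MorphismProperty.comp_mem _ _ _ inferInstance hflj
  exact RingHom.flat_algebraMap_iff.mp ((HasRingHomProperty.Spec_iff (P := @Flat)).mp this)

end Groth.Agent.H8FibreFlat
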