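import Mathlib

/-!
# Künneth formula for global functions and affinization of group schemes over a field
-/

set_option autoImplicit false

universe u

open CategoryTheory Limits AlgebraicGeometry MonoidalCategory CartesianMonoidalCategory MonObj

namespace Groth.Agent.H8Affinize

variable {k : Type u} [Field k]

lemma flat_from_field {A : CommRingCat.{u}} (φ : Γ(Spec (CommRingCat.of k), ⊤) ⟶ A) :
    φ.hom.Flat := by
  let : Field Γ(Spec (CommRingCat.of k), ⊤) :=
    ((Scheme.ΓSpecIso (CommRingCat.of k)).commRingCatIsoToRingEquiv.toMulEquiv.isField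
      (Field.toIsField k)).toField
  algebraize [φ.hom]
  show Module.Flat _ _
  infer_instance

/-- Global functions on a product of quasi-compact quasi-separated schemes over a field. -/
theorem isPushout_appTop (X X' : Over (Spec (CommRingCat.of k)))
    [CompactSpace X.left] [QuasiSeparatedSpace X.left]
    [CompactSpace X'.left] [QuasiSeparatedSpace X'.left] :
    IsPushout X.hom.appTop X'.hom.appTop (fst X X').left.appTop (snd X X').left.appTop := by
  have H : IsPullback (fst X X').left (snd X X').left X.hom X'.hom :=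
    IsPullback.of_hasPullback X.hom X'.hom
  have hX : IsQuasiSeparated (α := X.left) (Set.univ : Set X.left) :=
    isQuasiSeparated_univ
  have hX' : IsQuasiSeparated (α := X'.left) (Set.univ : Set X'.left) :=
    isQuasiSeparated_univ
  haveI : Flat X'.hom := inferInstance
  have := isIso_pushoutSection_of_isCompact_of_flat_right_of_ringHomFlat H
    (US := ⊤) (UT := ⊤) (UX := ⊤) (UY := ⊤) (hUST := le_top) (hUSX := le_top)
    (hUY := by simp) (isAffineOpen_top _) (by simpa using isCompact_univ) (by simpa using hX')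
    (by simpa using isCompact_univ) (by simpa using hX) (flat_from_field _)
  have h := (isIso_pushoutSection_iff H (US := ⊤) (UT := ⊤) (UX := ⊤) (UY := ⊤)
    (hUST := le_top) (hUSX := le_top) (hUY := by simp)).mp this
  simpa [Scheme.Hom.app_eq_appLE, Scheme.Hom.appTop] using h

/-- Isomorphisms on global functions are stable under products. -/
theorem isIso_tensorHom_appTop {X X' A A' : Over (Spec (CommRingCat.of k))}
    [CompactSpace X.left] [QuasiSeparatedSpace X.left]
    [CompactSpace X'.left] [QuasiSeparatedSpace X'.left]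
    [CompactSpace A.left] [QuasiSeparatedSpace A.left]
    [CompactSpace A'.left] [QuasiSeparatedSpace A'.left]
    (q : X ⟶ A) (q' : X' ⟶ A') [IsIso q.left.appTop] [IsIso q'.left.appTop] :
    IsIso (q ⊗ₘ q').left.appTop := by
  have sX := isPushout_appTop X X'
  have sA := isPushout_appTop A A'
  have w : X.hom.appTop ≫ inv q.left.appTop ≫ (fst A A').left.appTop =
      X'.hom.appTop ≫ inv q'.left.appTop ≫ (snd A A').left.appTop := by
    have e1 : X.hom.appTop = A.hom.appTop ≫ q.left.appTop := by
      rw [← Scheme.Hom.comp_appTop, Over.w q]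
    have e2 : X'.hom.appTop = A'.hom.appTop ≫ q'.left.appTop := by
      rw [← Scheme.Hom.comp_appTop, Over.w q']
    rw [e1, e2, Category.assoc, Category.assoc, IsIso.hom_inv_id_assoc, IsIso.hom_inv_id_assoc]
    exact sA.w
  have f1 : (fst A A').left.appTop ≫ (q ⊗ₘ q').left.appTop =
      q.left.appTop ≫ (fst X X').left.appTop := by
    rw [← Scheme.Hom.comp_appTop, ← Scheme.Hom.comp_appTop, ← Over.comp_left, ← Over.comp_left,
      tensorHom_fst]
  have f2 : (snd A A').left.appTop ≫ (q ⊗ₘ q').left.appTop =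
      q'.left.appTop ≫ (snd X X').left.appTop := by
    rw [← Scheme.Hom.comp_appTop, ← Scheme.Hom.comp_appTop, ← Over.comp_left, ← Over.comp_left,
      tensorHom_snd]
  refine ⟨sX.desc _ _ w, ?_, ?_⟩
  · apply sA.hom_ext
    · rw [Category.comp_id, reassoc_of% f1, sX.inl_desc, IsIso.hom_inv_id_assoc]
    · rw [Category.comp_id, reassoc_of% f2, sX.inr_desc, IsIso.hom_inv_id_assoc]
  · apply sX.hom_ext
    · rw [Category.comp_id, sX.inl_desc_assoc, Category.assoc, f1, IsIso.inv_hom_id_assoc]
    · rw [Category.comp_id, sX.inr_desc_assoc, Category.assoc, f2, IsIso.inv_hom_id_assoc]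

variable {X A Z : Over (Spec (CommRingCat.of k))}

lemma ext_of_appTop_iso (q : X ⟶ A) [IsIso q.left.appTop] [IsAffine Z.left] {a b : A ⟶ Z}
    (h : q ≫ a = q ≫ b) : a = b := by
  apply Over.OverMorphism.ext
  apply ext_of_isAffine
  have := congrArg (fun m : X ⟶ Z => m.left.appTop) h
  simp only [Over.comp_left, Scheme.Hom.comp_appTop] at this
  exact (cancel_mono q.left.appTop).mp this

lemma exists_desc (q : X ⟶ A) [IsIso q.left.appTop] [IsAffine Z.left] (a : X ⟶ Z) :
    ∃ b : A ⟶ Z, q ≫ b = a := by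
  let b₀ : A.left ⟶ Z.left :=
    A.left.toSpecΓ ≫ Spec.map (a.left.appTop ≫ inv q.left.appTop) ≫ Z.left.isoSpec.inv
  have hb : q.left ≫ b₀ = a.left := by
    simp only [b₀]
    rw [Scheme.toSpecΓ_naturality_assoc, ← Spec.map_comp_assoc, Category.assoc,
      IsIso.inv_hom_id, Category.comp_id, ← Scheme.toSpecΓ_naturality_assoc]
    simp [Scheme.isoSpec]
  refine ⟨Over.homMk b₀ ?_, Over.OverMorphism.ext hb⟩
  apply ext_of_isAffine
  rw [← cancel_mono q.left.appTop, ← Scheme.Hom.comp_appTop, ← Scheme.Hom.comp_appTop,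
    ← Category.assoc, hb, Over.w a, Over.w q]

/-- An affinization of a group over a field is again a group. -/
theorem exists_grpObj {G : Over (Spec (CommRingCat.of k))} [GrpObj G]
    [CompactSpace G.left] [QuasiSeparatedSpace G.left]
    [CompactSpace (G ⊗ G).left] [QuasiSeparatedSpace (G ⊗ G).left]
    (q : G ⟶ A) [IsAffine A.left] [IsIso q.left.appTop] :
    ∃ g : GrpObj A, letI := g; IsMonHom q := by
  haveI : CompactSpace A.left := inferInstance
  haveI : QuasiSeparatedSpace A.left := inferInstance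
  haveI : IsAffine (A ⊗ A).left := inferInstanceAs (IsAffine (pullback A.hom A.hom))
  haveI : CompactSpace (A ⊗ A).left := inferInstance
  haveI : QuasiSeparatedSpace (A ⊗ A).left := inferInstance
  haveI : IsIso (q ⊗ₘ q).left.appTop := isIso_tensorHom_appTop q q
  haveI : IsIso ((q ⊗ₘ q) ⊗ₘ q).left.appTop := isIso_tensorHom_appTop (q ⊗ₘ q) q
  obtain ⟨m, hm⟩ := exists_desc (q ⊗ₘ q) (μ[G] ≫ q)
  obtain ⟨n, hn⟩ := exists_desc q ((𝟙 G : G ⟶ G)⁻¹ ≫ q)
  let e : 𝟙_ _ ⟶ A := η[G] ≫ q
  have hmul : ∀ {T : Over (Spec (CommRingCat.of k))} (a b : T ⟶ G),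
      lift (a ≫ q) (b ≫ q) ≫ m = (a * b) ≫ q := fun a b => by
    rw [← lift_map_assoc, hm, ← Category.assoc]
    rfl
  have h1 : ∀ {T : Over (Spec (CommRingCat.of k))}, toUnit T ≫ e = (1 : T ⟶ G) ≫ q := fun {T} => by
    rw [Hom.one_def, Category.assoc]
  have hl : lift (toUnit A ≫ e) (𝟙 A) ≫ m = 𝟙 A := by
    apply ext_of_appTop_iso q
    rw [← Category.assoc, comp_lift, ← Category.assoc, comp_toUnit, h1]
    have := hmul (1 : G ⟶ G) (𝟙 G)
    rw [Category.id_comp, _root_.one_mul, Category.id_comp] at this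
    exact this
  have hr : lift (𝟙 A) (toUnit A ≫ e) ≫ m = 𝟙 A := by
    apply ext_of_appTop_iso q
    rw [← Category.assoc, comp_lift, ← Category.assoc, comp_toUnit, h1]
    have := hmul (𝟙 G) (1 : G ⟶ G)
    rw [Category.id_comp, _root_.mul_one, Category.id_comp] at this
    exact this
  let M : MonObj A :=
    { one := e
      mul := m
      one_mul := by
        rw [← cancel_epi (λ_ A).inv, Iso.inv_hom_id,
          show (λ_ A).inv ≫ e ▷ A ≫ m = lift (toUnit A ≫ e) (𝟙 A) ≫ m by
            rw [← Category.assoc]; congr 1; ext <;> simp]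
        exact hl
      mul_one := by
        rw [← cancel_epi (ρ_ A).inv, Iso.inv_hom_id,
          show (ρ_ A).inv ≫ A ◁ e ≫ m = lift (𝟙 A) (toUnit A ≫ e) ≫ m by
            rw [← Category.assoc]; congr 1; ext <;> simp]
        exact hr
      mul_assoc := by
        apply ext_of_appTop_iso ((q ⊗ₘ q) ⊗ₘ q)
        let a := fst (G ⊗ G) G ≫ fst G G
        let b := fst (G ⊗ G) G ≫ snd G G
        let c := snd (G ⊗ G) G
        have e0 : (q ⊗ₘ q) ⊗ₘ q = lift (lift (a ≫ q) (b ≫ q)) (c ≫ q) := by
          ext <;> simp [a, b, c]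
        have e1 : ((q ⊗ₘ q) ⊗ₘ q) ≫ (m ▷ A) ≫ m = (a * b * c) ≫ q := by
          rw [e0, lift_whiskerRight_assoc, hmul, hmul]
        have e2 : ((q ⊗ₘ q) ⊗ₘ q) ≫ (α_ A A A).hom ≫ (A ◁ m) ≫ m = (a * (b * c)) ≫ q := by
          rw [e0, lift_lift_associator_hom_assoc, lift_whiskerLeft_assoc, hmul, hmul]
        rw [e1, e2, _root_.mul_assoc] }
  let g : GrpObj A :=
    { __ := M
      inv := n
      left_inv := by
        show lift n (𝟙 A) ≫ m = toUnit A ≫ e
        apply ext_of_appTop_iso q
        rw [← Category.assoc, comp_lift, hn, Category.comp_id, ← Category.assoc, comp_toUnit, h1]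
        have := hmul (𝟙 G : G ⟶ G)⁻¹ (𝟙 G)
        rw [inv_mul_cancel, Category.id_comp] at this
        exact this
      right_inv := by
        show lift (𝟙 A) n ≫ m = toUnit A ≫ e
        apply ext_of_appTop_iso q
        rw [← Category.assoc, comp_lift, hn, Category.comp_id, ← Category.assoc, comp_toUnit, h1]
        have := hmul (𝟙 G) (𝟙 G : G ⟶ G)⁻¹
        rw [mul_inv_cancel, Category.id_comp] at this
        exact this }
  refine ⟨g, ?_⟩
  letI := g
  exact { one_hom := rfl, mul_hom := hm.symm }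

end Groth.Agent.H8Affinize
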