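import Mathlib
import Groth.Prelude.Def_Red
import Groth.Agent.Lib.H8Affinize

/-!
# Rigidity for anti-affine group schemes
-/

set_option autoImplicit false

universe u

open CategoryTheory Limits AlgebraicGeometry MonoidalCategory CartesianMonoidalCategory MonObj

namespace Groth.Agent.H8AntiAffine

variable {k : Type u} [Field k]

local notation "Ov" => Over (Spec (CommRingCat.of k))

instance : Subsingleton ↥((𝟙_ (Over (Spec (CommRingCat.of k)))).left) :=
  inferInstanceAs (Subsingleton (PrimeSpectrum k))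

/-- A group scheme over a field is separated. -/
theorem isSeparated (G : Ov) [GrpObj G] : IsSeparated G.hom := by
  let c : G ⊗ G ⟶ G := (fst G G)⁻¹ * snd G G
  have w : lift (𝟙 G) (𝟙 G) ≫ c = toUnit G ≫ η[G] := by
    simp only [c, MonObj.comp_mul, GrpObj.comp_inv, lift_fst, lift_snd, inv_mul_cancel,
      Hom.one_def]
  have sq : IsPullback (lift (𝟙 G) (𝟙 G)) (toUnit G) c η[G] := by
    refine IsPullback.of_isLimit' ⟨w⟩ (PullbackCone.IsLimit.mk w (fun s => s.fst ≫ fst G G)
      (fun s => ?_) (fun s => toUnit_unique _ _) (fun s m h1 _ => ?_))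
    · have h : (s.fst ≫ fst G G)⁻¹ * (s.fst ≫ snd G G) = 1 := by
        have := s.condition
        simp only [c, MonObj.comp_mul, GrpObj.comp_inv] at this
        rw [this, Hom.one_def, toUnit_unique s.snd (toUnit _)]
      rw [inv_mul_eq_one] at h
      apply CartesianMonoidalCategory.hom_ext
      · simp
      · simpa using h
    · rw [← h1, Category.assoc, lift_fst, Category.comp_id]
  have h2 : IsPullback (lift (𝟙 G) (𝟙 G)).left (toUnit G).left c.left η[G].left :=
    sq.map (Over.forget _)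
  haveI : IsClosedImmersion η[G].left :=
    isClosedImmersion_of_comp_eq_id (Y := Spec (CommRingCat.of k)) G.hom η[G].left
      (by simp)
  have h3 : IsClosedImmersion (lift (𝟙 G) (𝟙 G)).left :=
    MorphismProperty.of_isPullback h2.flip ‹IsClosedImmersion η[G].left›
  constructor
  have e : pullback.diagonal G.hom = (lift (𝟙 G) (𝟙 G)).left := by
    apply pullback.hom_ext
    · rw [pullback.diagonal_fst]; exact (pullback.lift_fst (𝟙 G.left) (𝟙 G.left) rfl).symm
    · rw [pullback.diagonal_snd]; exact (pullback.lift_snd (𝟙 G.left) (𝟙 G.left) rfl).symm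
  rw [e]
  exact h3

/-- A product with an anti-affine scheme has the global functions of the other factor. -/
theorem isIso_snd_appTop (X T : Ov) [CompactSpace X.left] [QuasiSeparatedSpace X.left]
    [CompactSpace T.left] [QuasiSeparatedSpace T.left] [IsIso X.hom.appTop] :
    IsIso (snd X T).left.appTop :=
  (H8Affinize.isPushout_appTop X T).isIso_inr_of_isIso

/-- A scheme whose ring of functions is a field is connected. -/
theorem connectedSpace (X : Scheme.{u}) (h : IsField Γ(X, ⊤)) : ConnectedSpace X := by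
  haveI : Nontrivial Γ(X, ⊤) := h.nontrivial
  have hne : Nonempty X := by
    by_contra hc
    rw [not_nonempty_iff] at hc
    exact not_subsingleton Γ(X, ⊤) inferInstance
  rw [connectedSpace_iff_clopen]
  refine ⟨hne, fun Z hcl => ?_⟩
  let C : X.Opens := ⟨Z, hcl.isOpen⟩
  let D : X.Opens := ⟨Zᶜ, hcl.compl.isOpen⟩
  let U : Bool → X.Opens := fun b => bif b then C else D
  let sf : ∀ b, Γ(X, U b) := fun b => bif b then 1 else 0
  obtain ⟨e, he, -⟩ := X.sheaf.existsUnique_gluing' U ⊤ (fun b => homOfLE le_top)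
    (fun z _ => by
      by_cases hz : z ∈ C
      · exact TopologicalSpace.Opens.mem_iSup.mpr ⟨true, hz⟩
      · exact TopologicalSpace.Opens.mem_iSup.mpr ⟨false, hz⟩)
    sf (fun a b => by
      rcases a <;> rcases b
      · rfl
      · exact TopCat.Presheaf.section_ext X.sheaf _ _ _ fun z hz => absurd hz.2 hz.1
      · exact TopCat.Presheaf.section_ext X.sheaf _ _ _ fun z hz => absurd hz.1 hz.2
      · rfl)
  let e' : Γ(X, ⊤) := e
  have key : ∀ b z, z ∈ U b → (z ∈ X.basicOpen e' ↔ z ∈ X.basicOpen (sf b)) := by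
    intro b z hb
    have h2 : X.presheaf.map (homOfLE (le_top : U b ≤ ⊤)).op e' = sf b := he b
    rw [← h2, Scheme.basicOpen_res]
    exact ⟨fun h => ⟨hb, h⟩, fun h => h.2⟩
  have hmem : (X.basicOpen e' : Set X) = Z := Set.ext fun z => by
    by_cases hz : z ∈ C
    · refine iff_of_true ?_ hz
      rw [SetLike.mem_coe, key true z hz]
      simpa [sf, U] using hz
    · refine iff_of_false ?_ hz
      rw [SetLike.mem_coe, key false z hz]
      simp [sf, U]
  rcases eq_or_ne e' 0 with h0 | h0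
  · left; rw [← hmem, h0, Scheme.basicOpen_zero]; rfl
  · right
    obtain ⟨e'', he''⟩ := h.mul_inv_cancel h0
    rw [← hmem, X.basicOpen_of_isUnit (IsUnit.of_mul_eq_one _ he'')]
    simp

/-- Morphisms out of the spectrum of a Noetherian local ring are determined modulo powers of a
proper ideal. -/
theorem ext_of_quot_pow {C : CommRingCat.{u}} [IsLocalRing C] [IsNoetherianRing C] {G : Scheme.{u}}
    (I : Ideal C) (hI : I ≠ ⊤) (h₁ h₂ : Spec C ⟶ G)
    (h : ∀ j : ℕ, Spec.map (CommRingCat.ofHom (Ideal.Quotient.mk (I ^ (j + 1)))) ≫ h₁ =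
      Spec.map (CommRingCat.ofHom (Ideal.Quotient.mk (I ^ (j + 1)))) ≫ h₂) : h₁ = h₂ := by
  haveI : Nontrivial (C ⧸ I ^ 1) := Ideal.Quotient.nontrivial_iff.mpr (by rwa [pow_one])
  obtain ⟨s⟩ : Nonempty (PrimeSpectrum (C ⧸ I ^ 1)) := inferInstance
  let t : Spec C := PrimeSpectrum.comap (Ideal.Quotient.mk (I ^ 1)) s
  have ht : h₁ t = h₂ t := congrArg (fun m : Spec (CommRingCat.of (C ⧸ I ^ 1)) ⟶ G => m s) (h 0)
  obtain ⟨_, ⟨U, hU, rfl⟩, hxU, -⟩ := G.isBasis_affineOpens.exists_subset_of_mem_open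
    (Set.mem_univ (h₁ (IsLocalRing.closedPoint C))) isOpen_univ
  replace hU : IsAffineOpen U := hU
  have hspec : ∀ p : Spec C, p ⤳ IsLocalRing.closedPoint C := fun p =>
    IsLocalRing.specializes_closedPoint p
  have hr1 : Set.range h₁ ⊆ Set.range hU.fromSpec := by
    rintro _ ⟨p, rfl⟩
    rw [hU.range_fromSpec]
    exact ((hspec p).map h₁.continuous).mem_open U.isOpen hxU
  have htU : h₂ t ∈ U := by
    rw [← ht]
    exact ((hspec t).map h₁.continuous).mem_open U.isOpen hxU
  have hr2 : Set.range h₂ ⊆ Set.range hU.fromSpec := by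
    have hI' : I ≤ IsLocalRing.maximalIdeal C := IsLocalRing.le_maximalIdeal hI
    obtain ⟨s', hs'⟩ : IsLocalRing.closedPoint C ∈
        Set.range (PrimeSpectrum.comap (Ideal.Quotient.mk (I ^ 1))) := by
      rw [range_comap_of_surjective _ _ Ideal.Quotient.mk_surjective, Ideal.mk_ker]
      exact fun x hx => hI' (by rwa [pow_one] at hx)
    rintro _ ⟨p, rfl⟩
    rw [hU.range_fromSpec]
    refine ((hspec p).map h₂.continuous).mem_open U.isOpen ?_
    rw [← hs']
    have e := congrArg (fun m : Spec (CommRingCat.of (C ⧸ I ^ 1)) ⟶ G => m s') (h 0)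
    refine (e.symm.trans ?_ : _ = h₁ (IsLocalRing.closedPoint C)) ▸ hxU
    exact congrArg h₁ hs'
  have e1 := IsOpenImmersion.lift_fac hU.fromSpec h₁ hr1
  have e2 := IsOpenImmersion.lift_fac hU.fromSpec h₂ hr2
  set l₁ := IsOpenImmersion.lift hU.fromSpec h₁ hr1
  set l₂ := IsOpenImmersion.lift hU.fromSpec h₂ hr2
  have key : Spec.preimage l₁ = Spec.preimage l₂ := by
    refine CommRingCat.hom_ext (RingHom.ext fun a => ?_)
    rw [← sub_eq_zero, ← Ideal.mem_bot, ← Ideal.iInf_pow_eq_bot_of_isLocalRing I hI,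
      Ideal.mem_iInf]
    intro j
    have hj := h j
    rw [← e1, ← e2, ← Category.assoc, ← Category.assoc, cancel_mono,
      ← Spec.map_preimage l₁, ← Spec.map_preimage l₂, ← Spec.map_comp, ← Spec.map_comp] at hj
    have hj' := congrArg (fun m : Γ(G, U) ⟶ CommRingCat.of (C ⧸ I ^ (j + 1)) => m a)
      (Spec.map_injective hj)
    exact Ideal.pow_le_pow_right (Nat.le_succ j)
      (Ideal.Quotient.eq.mp hj' : _ ∈ I ^ (j + 1))
  rw [← e1, ← e2, ← Spec.map_preimage l₁, key, Spec.map_preimage]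

/-- A morphism from a reduced scheme with image in the unit section is trivial. -/
theorem eq_one_of_range {P G : Ov} [GrpObj G] [IsReduced P.left] (q : P ⟶ G)
    (h : Set.range q.left ⊆ Set.range η[G].left) : q = 1 := by
  haveI : IsClosedImmersion η[G].left :=
    isClosedImmersion_of_comp_eq_id (Y := Spec (CommRingCat.of k)) G.hom η[G].left (by simp)
  haveI : Surjective (pullback.fst q.left η[G].left) := ⟨fun z => by
    obtain ⟨s, hs⟩ := h ⟨z, rfl⟩
    obtain ⟨w, hw, -⟩ := Scheme.Pullback.exists_preimage_pullback z s hs.symm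
      (f := q.left) (g := η[G].left)
    exact ⟨w, hw⟩⟩
  haveI : IsIso (pullback.fst q.left η[G].left) :=
    isIso_of_isClosedImmersion_of_surjective _
  apply Over.OverMorphism.ext
  have h1 : q.left = inv (pullback.fst q.left η[G].left) ≫ pullback.snd q.left η[G].left ≫
      η[G].left := by
    rw [← pullback.condition, IsIso.inv_hom_id_assoc]
  have h2 : inv (pullback.fst q.left η[G].left) ≫ pullback.snd q.left η[G].left =
      (toUnit P).left := by
    have e : (inv (pullback.fst q.left η[G].left) ≫ pullback.snd q.left η[G].left) ≫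
        (𝟙_ Ov).hom = P.hom := by
      rw [← Over.w η[G], ← Category.assoc, Category.assoc _ _ η[G].left, ← h1, Over.w q]
    have e3 := congrArg Over.Hom.left (toUnit_unique (toUnit P)
      (Over.homMk (inv (pullback.fst q.left η[G].left) ≫ pullback.snd q.left η[G].left) e))
    exact e3.symm
  rw [h1, ← Category.assoc, h2, ← Over.comp_left, Hom.one_def]

/-- A morphism from the product with an anti-affine scheme which contracts everything to one
point only depends on the second factor. -/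
theorem exists_eq_snd_comp {X T G : Ov} [CompactSpace X.left] [QuasiSeparatedSpace X.left]
    [CompactSpace T.left] [QuasiSeparatedSpace T.left] [IsIso X.hom.appTop] [IsAffine T.left]
    (φ : X ⊗ T ⟶ G) (U : G.left.Opens) (hU : IsAffineOpen U) (h : Set.range φ.left ⊆ U) :
    ∃ b : T ⟶ G, φ = snd X T ≫ b := by
  haveI := isIso_snd_appTop X T
  haveI : IsAffine (U : Scheme) := hU
  let Uo : Ov := Over.mk (U.ι ≫ G.hom)
  haveI : IsAffine Uo.left := hU
  let φ' : X ⊗ T ⟶ Uo := Over.homMk (IsOpenImmersion.lift U.ι φ.left (by rw [Scheme.Opens.range_ι]; exact h)) (by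
    show IsOpenImmersion.lift U.ι φ.left _ ≫ U.ι ≫ G.hom = _
    rw [IsOpenImmersion.lift_fac_assoc, Over.w φ])
  obtain ⟨b, hb⟩ := H8Affinize.exists_desc (snd X T) φ'
  exact ⟨b ≫ Over.homMk U.ι rfl, by
    rw [reassoc_of% hb]
    exact Over.OverMorphism.ext (IsOpenImmersion.lift_fac _ _ _).symm⟩

/-- A connected algebraic group over an algebraically closed field is irreducible. -/
theorem irreducibleSpace [IsAlgClosed k] (H : Ov) [GrpObj H] [LocallyOfFiniteType H.hom]
    [CompactSpace H.left] [ConnectedSpace H.left] : IrreducibleSpace H.left := by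
  haveI := LocallyOfFiniteType.jacobsonSpace H.hom
  haveI : IsNoetherian H.left :=
    { __ := LocallyOfFiniteType.isLocallyNoetherian H.hom }
  have hfin := TopologicalSpace.NoetherianSpace.finite_irreducibleComponents (α := H.left)
  obtain ⟨p⟩ : Nonempty H.left := inferInstance
  set Z₀ := irreducibleComponent p
  have hZ₀ := irreducibleComponent_mem_irreducibleComponents p
  let O : Set H.left := (⋃₀ (irreducibleComponents H.left \ {Z₀}))ᶜ
  have hO : IsOpen O := by
    show IsOpen (_)ᶜ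
    rw [Set.sUnion_eq_biUnion, isOpen_compl_iff]
    exact hfin.sdiff.isClosed_biUnion fun W hW => isClosed_of_mem_irreducibleComponents W hW.1
  have hOne : O.Nonempty := by
    have hc : closure O = Z₀ := closure_sUnion_irreducibleComponents_sdiff_singleton hfin _ hZ₀
    by_contra hc'
    rw [Set.not_nonempty_iff_eq_empty] at hc'
    rw [hc', closure_empty] at hc
    exact Set.notMem_empty p (hc ▸ mem_irreducibleComponent)
  obtain ⟨x₀, hx₀, hx₀c⟩ := nonempty_inter_closedPoints hOne hO.isLocallyClosed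
  have huniq₀ : ∀ Z ∈ irreducibleComponents H.left, x₀ ∈ Z → Z = Z₀ := fun Z hZ hx => by
    by_contra hne
    exact hx₀ ⟨Z, ⟨hZ, hne⟩, hx⟩
  have huniq : ∀ x : H.left, IsClosed ({x} : Set H.left) → ∀ Z ∈ irreducibleComponents H.left,
      ∀ Z' ∈ irreducibleComponents H.left, x ∈ Z → x ∈ Z' → Z = Z' := by
    intro x hx Z hZ Z' hZ' hxZ hxZ'
    let x' : 𝟙_ Ov ⟶ H := Over.homMk _ ((pointEquivClosedPoint H.hom).symm ⟨x, hx⟩).2
    let y' : 𝟙_ Ov ⟶ H := Over.homMk _ ((pointEquivClosedPoint H.hom).symm ⟨x₀, hx₀c⟩).2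
    let α := (GrpObj.mulRight (A := H) y').symm ≪≫ GrpObj.mulRight (A := H) x'
    have hα : y' ≫ α.hom = x' := by
      dsimp only [Iso.trans_hom, Iso.symm_hom, α]
      rw [← Category.assoc, ← Iso.eq_comp_inv]
      simp [comp_lift_assoc]
    have hα' : α.hom.left x₀ = x := by
      have hx' : x'.left (IsLocalRing.closedPoint k) = x :=
        congrArg Subtype.val ((pointEquivClosedPoint H.hom).apply_symm_apply ⟨x, hx⟩)
      have hy' : y'.left (IsLocalRing.closedPoint k) = x₀ :=
        congrArg Subtype.val ((pointEquivClosedPoint H.hom).apply_symm_apply ⟨x₀, hx₀c⟩)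
      rw [← hx', ← hy', ← hα]
      rfl
    haveI : IsIso α.hom.left := ((Over.forget _).mapIso α).isIso_hom
    let e := α.hom.left.homeomorph
    have hZp : ∀ Z ∈ irreducibleComponents H.left, x ∈ Z → e ⁻¹' Z = Z₀ := fun Z hZ hxZ => by
      refine huniq₀ _ ?_ (by show α.hom.left x₀ ∈ Z; rw [hα']; exact hxZ)
      exact preimage_mem_irreducibleComponents hZ e.isOpenEmbedding ⟨x, hxZ, x₀, hα'⟩
    exact (Set.preimage_eq_preimage e.surjective).mp ((hZp Z hZ hxZ).trans (hZp Z' hZ' hxZ').symm)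
  have hdisj : ∀ Z ∈ irreducibleComponents H.left, Z ≠ Z₀ → Disjoint Z₀ Z := fun Z hZ hne => by
    rw [Set.disjoint_iff_inter_eq_empty]
    by_contra hc
    obtain ⟨x, hx, hxc⟩ := nonempty_inter_closedPoints (Set.nonempty_iff_ne_empty.mpr hc)
      ((isClosed_of_mem_irreducibleComponents _ hZ₀).inter
        (isClosed_of_mem_irreducibleComponents _ hZ)).isLocallyClosed
    exact hne (huniq x hxc Z hZ Z₀ hZ₀ hx.2 hx.1)
  have hopen : IsOpen Z₀ := by
    have : Z₀ = O := by
      refine subset_antisymm (fun x hx => ?_) ?_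
      · rintro ⟨Z, ⟨hZ, hne⟩, hxZ⟩
        exact Set.disjoint_left.mp (hdisj Z hZ hne) hx hxZ
      · intro x hx
        by_contra hxn
        exact hx ⟨irreducibleComponent x, ⟨irreducibleComponent_mem_irreducibleComponents x,
          fun h => hxn (h ▸ mem_irreducibleComponent)⟩, mem_irreducibleComponent⟩
    rw [this]; exact hO
  have huniv : Z₀ = Set.univ :=
    (IsClopen.eq_univ ⟨isClosed_of_mem_irreducibleComponents _ hZ₀, hopen⟩ ⟨p, mem_irreducibleComponent⟩)
  exact isIrreducible_iff_irreducibleSpace_univ (huniv ▸ isIrreducible_irreducibleComponent)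
where
  isIrreducible_iff_irreducibleSpace_univ {X : Type u} [TopologicalSpace X]
      (h : IsIrreducible (Set.univ : Set X)) : IrreducibleSpace X :=
    { toPreirreducibleSpace := ⟨h.2⟩, toNonempty := ⟨h.1.some⟩ }

set_option backward.isDefEq.respectTransparency false in
/-- Rigidity over an algebraically closed field. -/
theorem isMonHom_closed [IsAlgClosed k] (H G : Ov) [GrpObj H] [GrpObj G]
    [LocallyOfFiniteType H.hom] [LocallyOfFiniteType G.hom] [CompactSpace H.left]
    [IsIso H.hom.appTop] (f : H ⟶ G) (hf : η[H] ≫ f = η[G]) :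
    μ[H] ≫ f = (fst H H ≫ f) * (snd H H ≫ f) := by
  haveI hconn : ConnectedSpace H.left := by
    refine connectedSpace _ ?_
    have h : IsField Γ(Spec (CommRingCat.of k), ⊤) :=
      (Scheme.ΓSpecIso (CommRingCat.of k)).commRingCatIsoToRingEquiv.toMulEquiv.isField
        (Field.toIsField k)
    exact (asIso H.hom.appTop).symm.commRingCatIsoToRingEquiv.toMulEquiv.isField h
  haveI := irreducibleSpace H
  haveI : IsLocallyNoetherian H.left := LocallyOfFiniteType.isLocallyNoetherian H.hom
  haveI : QuasiSeparatedSpace H.left := inferInstance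
  haveI : LocallyOfFiniteType (H ⊗ H).hom :=
    inferInstanceAs (LocallyOfFiniteType (pullback.fst H.hom H.hom ≫ H.hom))
  haveI : IsLocallyNoetherian (H ⊗ H).left :=
    LocallyOfFiniteType.isLocallyNoetherian (H ⊗ H).hom
  haveI := LocallyOfFiniteType.jacobsonSpace (H ⊗ H).hom
  have hf1 : ∀ {T : Ov}, (1 : T ⟶ H) ≫ f = 1 := fun {T} => by
    rw [Hom.one_def, Category.assoc, hf, ← Hom.one_def]
  set a := μ[H] ≫ f with ha
  set b := (fst H H ≫ f) * (snd H H ≫ f) with hb
  have hμ : μ[H] = fst H H * snd H H := by rw [Hom.mul_def, lift_fst_snd, Category.id_comp]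
  -- infinitesimal rigidity
  have hinf : ∀ (y : H.left), y ∈ Set.range η[H].left → ∀ (J : Ideal (H.left.presheaf.stalk y)),
      (∃ n, IsLocalRing.maximalIdeal _ ^ n ≤ J) → J ≠ ⊤ →
      ∀ (T : Ov) (ιT : T ⟶ H) (eT : T.left ≅ Spec (CommRingCat.of (H.left.presheaf.stalk y ⧸ J))),
      ιT.left = eT.hom ≫ Spec.map (CommRingCat.ofHom (Ideal.Quotient.mk J)) ≫
        H.left.fromSpecStalk y →
      (H ◁ ιT) ≫ a = (H ◁ ιT) ≫ b := by
    rintro y hy J ⟨n, hn⟩ hJ T ιT eT hιT
    haveI : IsAffine T.left := .of_isIso eT.hom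
    have hr : ∀ s, ιT.left s ∈ Set.range η[H].left := by
      intro s
      rw [hιT, Scheme.Hom.comp_apply, Scheme.Hom.comp_apply]
      have : Spec.map (CommRingCat.ofHom (Ideal.Quotient.mk J)) (eT.hom s) =
          IsLocalRing.closedPoint (H.left.presheaf.stalk y) := by
        apply PrimeSpectrum.ext
        refine ((IsLocalRing.maximalIdeal.isMaximal _).eq_of_le
          (Spec.map (CommRingCat.ofHom (Ideal.Quotient.mk J)) (eT.hom s)).isPrime.ne_top ?_).symm
        have h1 : J ≤ (Spec.map (CommRingCat.ofHom (Ideal.Quotient.mk J)) (eT.hom s)).asIdeal :=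
          fun z hz => by
            show Ideal.Quotient.mk J z ∈ (eT.hom s).asIdeal
            rw [Ideal.Quotient.eq_zero_iff_mem.mpr hz]
            exact zero_mem _
        exact ((Spec.map (CommRingCat.ofHom (Ideal.Quotient.mk J)) (eT.hom s)).isPrime.le_of_pow_le
          (hn.trans h1))
      rw [this]
      exact (congrArg (fun z => z ∈ Set.range η[H].left) Scheme.fromSpecStalk_closedPoint).mpr hy
    let d : H ⊗ T ⟶ G := ((fst H T ≫ f))⁻¹ * ((fst H T * (snd H T ≫ ιT)) ≫ f)
    obtain ⟨_, ⟨U, hU, rfl⟩, hU1, -⟩ := G.left.isBasis_affineOpens.exists_subset_of_mem_open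
      (Set.mem_univ (η[G].left (Classical.arbitrary (Spec (CommRingCat.of k))))) isOpen_univ
    obtain ⟨c, hc⟩ := exists_eq_snd_comp d U hU (by
      rintro _ ⟨w, rfl⟩
      let P : Ov := Over.mk ((H ⊗ T).left.fromSpecResidueField w ≫ (H ⊗ T).hom)
      let p : P ⟶ H ⊗ T := Over.homMk ((H ⊗ T).left.fromSpecResidueField w) rfl
      haveI : IsReduced P.left :=
        inferInstanceAs (IsReduced (Spec ((H ⊗ T).left.residueField w)))
      have hp : p ≫ snd H T ≫ ιT = 1 := eq_one_of_range _ (by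
        rintro _ ⟨s, rfl⟩
        rw [Over.comp_left, Over.comp_left, Scheme.Hom.comp_apply, Scheme.Hom.comp_apply]
        exact hr _)
      have hd : p ≫ d = 1 := by
        simp only [d, MonObj.comp_mul, GrpObj.comp_inv]
        rw [← Category.assoc p (fst H T * _) f, MonObj.comp_mul, hp, _root_.mul_one,
          ← Category.assoc, inv_mul_cancel]
      obtain ⟨s⟩ : Nonempty P.left := inferInstanceAs (Nonempty (Spec ((H ⊗ T).left.residueField w)))
      have h1 : d.left w = (p ≫ d).left s := by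
        rw [Over.comp_left, Scheme.Hom.comp_apply,
          show p.left s = w from Scheme.fromSpecResidueField_apply w s]
      rw [h1, hd, Hom.one_def, Over.comp_left, Scheme.Hom.comp_apply]
      convert hU1 using 2
      exact Subsingleton.elim _ _)
    have hc' : c = ιT ≫ f := by
      have := congrArg (fun m => lift (1 : T ⟶ H) (𝟙 T) ≫ m) hc
      simp only [d, MonObj.comp_mul, GrpObj.comp_inv, lift_fst_assoc, lift_snd_assoc,
        hf1, inv_one, _root_.one_mul, lift_snd] at this
      rw [Category.id_comp] at this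
      rw [← this, ← Category.assoc, MonObj.comp_mul, lift_fst, lift_snd_assoc, Category.id_comp,
        _root_.one_mul]
    have key : (fst H T * (snd H T ≫ ιT)) ≫ f = (fst H T ≫ f) * (snd H T ≫ ιT ≫ f) := by
      rw [← hc', ← hc, mul_inv_cancel_left]
    rw [ha, hb, hμ, ← Category.assoc, MonObj.comp_mul, whiskerLeft_fst, whiskerLeft_snd, key,
      MonObj.comp_mul, whiskerLeft_fst_assoc, whiskerLeft_snd_assoc]
  -- agreement near the axis
  let 𝒲 : Set (H ⊗ H).left.Opens := {V | V.ι ≫ a.left = V.ι ≫ b.left}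
  let W : (H ⊗ H).left.Opens := sSup 𝒲
  have hW : W.ι ≫ a.left = W.ι ≫ b.left := by
    refine Scheme.Cover.hom_ext ((W.toScheme).openCoverOfIsOpenCover
      (fun V : 𝒲 => W.ι ⁻¹ᵁ V.1) ?_) _ _ fun V => ?_
    · rw [TopologicalSpace.IsOpenCover, eq_top_iff]
      rintro ⟨z, hz⟩ -
      obtain ⟨V, hV, hzV⟩ := TopologicalSpace.Opens.mem_sSup.mp hz
      exact TopologicalSpace.Opens.mem_iSup.mpr ⟨⟨V, hV⟩, hzV⟩
    · show (W.ι ⁻¹ᵁ V.1).ι ≫ W.ι ≫ a.left = (W.ι ⁻¹ᵁ V.1).ι ≫ W.ι ≫ b.left
      rw [← morphismRestrict_ι_assoc, ← morphismRestrict_ι_assoc, V.2]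
  have haxis : ∀ w : (H ⊗ H).left, (snd H H).left w ∈ Set.range η[H].left → w ∈ W := by
    intro w hw
    set y := (snd H H).left w
    let C := (H ⊗ H).left.presheaf.stalk w
    let ψ := ((snd H H).left.stalkMap w).hom
    let I := (IsLocalRing.maximalIdeal (H.left.presheaf.stalk y)).map ψ
    haveI : IsLocalHom ψ := (snd H H).left.toLRSHom.prop w
    have hI : I ≠ ⊤ := ne_top_of_le_ne_top (IsLocalRing.maximalIdeal.isMaximal _).ne_top
      (Ideal.map_le_iff_le_comap.mpr fun z hz => map_nonunit ψ z hz)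
    obtain ⟨V, hwV, hV⟩ := spread_out_unique_of_isGermInjective' (x := w) a.left b.left
      (ext_of_quot_pow I hI _ _ fun j => by
        let J := IsLocalRing.maximalIdeal (H.left.presheaf.stalk y) ^ (j + 1)
        have hJle : J ≤ (I ^ (j + 1)).comap ψ := Ideal.map_le_iff_le_comap.mp (by
          rw [Ideal.map_pow])
        let Q : Ov := Over.mk ((Spec.map (CommRingCat.ofHom (Ideal.Quotient.mk (I ^ (j + 1)))) ≫
          (H ⊗ H).left.fromSpecStalk w) ≫ (H ⊗ H).hom)
        let q : Q ⟶ H ⊗ H := Over.homMk _ rfl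
        let T : Ov := Over.mk ((Spec.map (CommRingCat.ofHom (Ideal.Quotient.mk J)) ≫
          H.left.fromSpecStalk y) ≫ H.hom)
        let ιT : T ⟶ H := Over.homMk _ rfl
        let t₀ : Q.left ⟶ T.left :=
          Spec.map (CommRingCat.ofHom (Ideal.quotientMap (I ^ (j + 1)) ψ hJle))
        have ht₀ : t₀ ≫ ιT.left = q.left ≫ (snd H H).left := by
          show t₀ ≫ Spec.map (CommRingCat.ofHom (Ideal.Quotient.mk J)) ≫ H.left.fromSpecStalk y =
            (Spec.map (CommRingCat.ofHom (Ideal.Quotient.mk (I ^ (j + 1)))) ≫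
              (H ⊗ H).left.fromSpecStalk w) ≫ (snd H H).left
          rw [Category.assoc, ← Scheme.SpecMap_stalkMap_fromSpecStalk, ← Spec.map_comp_assoc,
            ← Spec.map_comp_assoc]
          rfl
        let t : Q ⟶ T := Over.homMk t₀ (by
          rw [← Over.w ιT, ← Category.assoc, ht₀, Category.assoc, Over.w, Over.w])
        have hq : q = lift (q ≫ fst H H) t ≫ (H ◁ ιT) := by
          apply CartesianMonoidalCategory.hom_ext
          · rw [Category.assoc, whiskerLeft_fst, lift_fst]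
          · rw [Category.assoc, whiskerLeft_snd, lift_snd_assoc]
            exact Over.OverMorphism.ext ht₀.symm
        have hJ : J ≠ ⊤ := ne_top_of_le_ne_top (IsLocalRing.maximalIdeal.isMaximal _).ne_top
          (Ideal.pow_le_self (Nat.succ_ne_zero j))
        have h := congrArg Over.Hom.left (congrArg (fun m => lift (q ≫ fst H H) t ≫ m)
          (hinf y hw J ⟨j + 1, le_rfl⟩ hJ T ιT (Iso.refl _) (Category.id_comp _).symm))
        simp only [← Category.assoc, ← hq] at h
        rw [Over.comp_left, Over.comp_left] at h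
        simpa [q, ha] using h)
    exact TopologicalSpace.Opens.mem_sSup.mpr ⟨V, hV, hwV⟩
  have hagree : ∀ {T : Ov} (s : T ⟶ H ⊗ H), Set.range s.left ⊆ W → s ≫ a = s ≫ b := fun s hs => by
    apply Over.OverMorphism.ext
    show s.left ≫ a.left = s.left ≫ b.left
    rw [← IsOpenImmersion.lift_fac W.ι s.left (by simpa using hs)]
    exact (Category.assoc _ _ _).trans ((congrArg (_ ≫ ·) hW).trans (Category.assoc _ _ _).symm)
  -- the whole product
  let x := fst (H ⊗ H) H ≫ fst H H
  let y := fst (H ⊗ H) H ≫ snd H H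
  let y₁ := snd (H ⊗ H) H
  let p := lift (x * y₁) (y₁⁻¹ * y)
  let q := lift x y₁
  let r := lift y₁ (y₁⁻¹ * y)
  let Ω : ((H ⊗ H) ⊗ H).left.Opens := (p.left ⁻¹ᵁ W) ⊓ (q.left ⁻¹ᵁ W) ⊓ (r.left ⁻¹ᵁ W)
  let Ωo : Ov := Over.mk (Ω.ι ≫ ((H ⊗ H) ⊗ H).hom)
  let ω : Ωo ⟶ (H ⊗ H) ⊗ H := Over.homMk Ω.ι rfl
  have hω : ∀ z, ω.left z ∈ Ω := fun z => z.2
  have hp' : (ω ≫ p) ≫ a = (ω ≫ p) ≫ b := hagree _ (by
    rintro _ ⟨z, rfl⟩; exact (hω z).1.1)
  have hq' : (ω ≫ q) ≫ a = (ω ≫ q) ≫ b := hagree _ (by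
    rintro _ ⟨z, rfl⟩; exact (hω z).1.2)
  have hr' : (ω ≫ r) ≫ a = (ω ≫ r) ≫ b := hagree _ (by
    rintro _ ⟨z, rfl⟩; exact (hω z).2)
  have hπ : (ω ≫ fst (H ⊗ H) H) ≫ a = (ω ≫ fst (H ⊗ H) H) ≫ b := by
    set X := ω ≫ x with hX
    set Y := ω ≫ y with hY
    set Y₁ := ω ≫ y₁ with hY₁
    have e : ∀ u v : Ωo ⟶ H, lift u v ≫ a = (u * v) ≫ f ∧ lift u v ≫ b = (u ≫ f) * (v ≫ f) :=
      fun u v => by
      constructor
      · rw [ha, hμ, ← Category.assoc, MonObj.comp_mul, lift_fst, lift_snd]
      · rw [hb, MonObj.comp_mul, lift_fst_assoc, lift_snd_assoc]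
    have e1 : ω ≫ fst (H ⊗ H) H = lift X Y := by
      apply CartesianMonoidalCategory.hom_ext <;> simp [hX, hY, x, y]
    have ep : ω ≫ p = lift (X * Y₁) (Y₁⁻¹ * Y) := by
      simp only [p, comp_lift, MonObj.comp_mul, GrpObj.comp_inv, hX, hY, hY₁]
    have eq' : ω ≫ q = lift X Y₁ := by simp only [q, comp_lift, hX, hY₁]
    have er : ω ≫ r = lift Y₁ (Y₁⁻¹ * Y) := by
      simp only [r, comp_lift, MonObj.comp_mul, GrpObj.comp_inv, hY, hY₁]
    rw [ep, (e _ _).1, (e _ _).2] at hp'
    rw [eq', (e _ _).1, (e _ _).2] at hq'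
    rw [er, (e _ _).1, (e _ _).2] at hr'
    rw [mul_inv_cancel_left] at hr'
    rw [_root_.mul_assoc X, mul_inv_cancel_left, hq'] at hp'
    rw [e1, (e _ _).1, (e _ _).2, hp', _root_.mul_assoc, ← hr']
  let π : Ωo.left ⟶ (H ⊗ H).left := (ω ≫ fst (H ⊗ H) H).left
  haveI : UniversallyOpen H.hom := inferInstance
  haveI : Flat π := by
    show Flat (Ω.ι ≫ pullback.fst (H ⊗ H).hom H.hom)
    infer_instance
  haveI : Surjective π := by
    have ho : IsOpenMap π := by
      haveI : UniversallyOpen (pullback.fst (H ⊗ H).hom H.hom) := inferInstance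
      exact ((pullback.fst (H ⊗ H).hom H.hom).isOpenMap).comp Ω.ι.isOpenEmbedding.isOpenMap
    refine ⟨Set.range_eq_univ.mp ?_⟩
    by_contra hne
    obtain ⟨w, hw, hwc⟩ := nonempty_inter_closedPoints
      (Set.nonempty_compl.mpr hne) ho.isOpen_range.isClosed_compl.isLocallyClosed
    let c : 𝟙_ Ov ⟶ H ⊗ H := Over.homMk _ ((pointEquivClosedPoint (H ⊗ H).hom).symm ⟨w, hwc⟩).2
    have hc : c.left (IsLocalRing.closedPoint k) = w :=
      congrArg Subtype.val ((pointEquivClosedPoint (H ⊗ H).hom).apply_symm_apply ⟨w, hwc⟩)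
    let x₀ : H ⟶ H := toUnit H ≫ c ≫ fst H H
    let s : H ⟶ (H ⊗ H) ⊗ H := lift (toUnit H ≫ c) (𝟙 H)
    have wit : ∀ (o : H ⟶ H ⊗ H) (v : 𝟙_ Ov ⟶ H), v ≫ o ≫ snd H H = 1 →
        (o.left ⁻¹' (W : Set (H ⊗ H).left)).Nonempty := fun o v hv => by
      refine ⟨v.left (IsLocalRing.closedPoint k), haxis _ ?_⟩
      rw [← Scheme.Hom.comp_apply, ← Scheme.Hom.comp_apply, ← Over.comp_left, ← Over.comp_left,
        hv, Hom.one_def, Over.comp_left, Scheme.Hom.comp_apply]
      exact ⟨_, rfl⟩
    have hu : ∀ {v : 𝟙_ Ov ⟶ H}, v ≫ toUnit H = 𝟙 _ := fun {v} => toUnit_unique _ _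
    have n1 : ((s ≫ p).left ⁻¹' (W : Set (H ⊗ H).left)).Nonempty := wit _ (c ≫ snd H H) (by
      simp [p, s, y, y₁, x, MonObj.comp_mul, GrpObj.comp_inv, reassoc_of% hu])
    have n2 : ((s ≫ q).left ⁻¹' (W : Set (H ⊗ H).left)).Nonempty := wit _ 1 (by
      simp [q, s, y₁])
    have n3 : ((s ≫ r).left ⁻¹' (W : Set (H ⊗ H).left)).Nonempty := wit _ (c ≫ snd H H) (by
      simp [r, s, y, y₁, MonObj.comp_mul, GrpObj.comp_inv, reassoc_of% hu])
    obtain ⟨z, ⟨hz1, hz2⟩, hz3⟩ := nonempty_preirreducible_inter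
      (((W.isOpen.preimage (s ≫ p).left.continuous)).inter
        (W.isOpen.preimage (s ≫ q).left.continuous))
      (W.isOpen.preimage (s ≫ r).left.continuous)
      (nonempty_preirreducible_inter (W.isOpen.preimage (s ≫ p).left.continuous)
        (W.isOpen.preimage (s ≫ q).left.continuous) n1 n2) n3
    refine hw ⟨⟨s.left z, ⟨hz1, hz2⟩, hz3⟩, ?_⟩
    show (fst (H ⊗ H) H).left (s.left z) = w
    rw [← Scheme.Hom.comp_apply, ← Over.comp_left, lift_fst, Over.comp_left,
      Scheme.Hom.comp_apply, ← hc]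
    exact congrArg _ (Subsingleton.elim _ _)
  haveI : Epi π := Flat.epi_of_flat_of_surjective π
  apply Over.OverMorphism.ext
  rw [← cancel_epi π]
  exact congrArg Over.Hom.left hπ

set_option backward.isDefEq.respectTransparency false in
/-- A pointed morphism from an anti-affine algebraic group is a homomorphism. -/
theorem isMonHom (H G : Ov) [GrpObj H] [GrpObj G]
    [LocallyOfFiniteType H.hom] [LocallyOfFiniteType G.hom] [CompactSpace H.left]
    [IsIso H.hom.appTop] (f : H ⟶ G) (hf : η[H] ≫ f = η[G]) : IsMonHom f := by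
  refine ⟨hf, ?_⟩
  suffices key : μ[H] ≫ f = (fst H H ≫ f) * (snd H H ≫ f) by
    rw [key, Hom.mul_def]
    congr 1
  let K := AlgebraicClosure k
  let s : Spec (CommRingCat.of K) ⟶ Spec (CommRingCat.of k) :=
    Spec.map (CommRingCat.ofHom (algebraMap k K))
  haveI : Flat s := inferInstance
  haveI : Surjective s := inferInstance
  let F := Over.pullback s
  haveI : LocallyOfFiniteType (Red.bc s H).hom :=
    inferInstanceAs (LocallyOfFiniteType (pullback.snd H.hom s))
  haveI : LocallyOfFiniteType (Red.bc s G).hom :=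
    inferInstanceAs (LocallyOfFiniteType (pullback.snd G.hom s))
  haveI : CompactSpace (Red.bc s H).left := inferInstanceAs (CompactSpace ↥(pullback H.hom s))
  haveI : QuasiSeparatedSpace H.left :=
    haveI := LocallyOfFiniteType.isLocallyNoetherian H.hom
    inferInstance
  haveI : CompactSpace ↥(Over.mk s).left := inferInstanceAs (CompactSpace ↥(Spec (CommRingCat.of K)))
  haveI : QuasiSeparatedSpace ↥(Over.mk s).left := inferInstanceAs (QuasiSeparatedSpace ↥(Spec (CommRingCat.of K)))
  haveI : IsIso (Red.bc s H).hom.appTop :=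
    (H8Affinize.isPushout_appTop H (Over.mk s)).isIso_inr_of_isIso
  let e : η[H] ≫ f = η[G] := hf
  have h := isMonHom_closed (Red.bc s H) (Red.bc s G) (F.map f) (by
    show Functor.LaxMonoidal.ε F ≫ F.map η[H] ≫ F.map f = _
    rw [← F.map_comp, hf]
    rfl)
  have h1 : F.map (μ[H] ≫ f) = F.map ((fst H H ≫ f) * (snd H H ≫ f)) := by
    rw [← cancel_epi (Functor.LaxMonoidal.μ F H H), F.map_comp, Functor.map_mul]
    refine (Category.assoc _ _ _).symm.trans (h.trans ?_)
    rw [MonObj.comp_mul, F.map_comp, F.map_comp, ← Category.assoc, ← Category.assoc]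
    congr 1 <;> congr 1 <;> simp <;> rfl
  apply Over.OverMorphism.ext
  haveI : Surjective (pullback.fst (H ⊗ H).hom s) := inferInstance
  haveI : Flat (pullback.fst (H ⊗ H).hom s) := inferInstance
  haveI := Flat.epi_of_flat_of_surjective (pullback.fst (H ⊗ H).hom s)
  rw [← cancel_epi (pullback.fst (H ⊗ H).hom s)]
  have h2 := congrArg (fun m => m.left ≫ pullback.fst G.hom s) h1
  exact (pullback.lift_fst _ _ _).symm.trans (h2.trans (pullback.lift_fst _ _ _))

/-- An anti-affine algebraic group is commutative. -/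
theorem isCommMonObj (H : Ov) [GrpObj H] [LocallyOfFiniteType H.hom] [CompactSpace H.left]
    [IsIso H.hom.appTop] : IsCommMonObj H := by
  let v : H ⟶ H := (𝟙 H)⁻¹
  haveI : IsMonHom v := isMonHom H H v (by
    rw [GrpObj.comp_inv, Category.comp_id, show η[H] = (1 : 𝟙_ Ov ⟶ H) by
      rw [Hom.one_def, toUnit_unit, Category.id_comp], inv_one])
  constructor
  have hv : ∀ {T : Ov} (a b : T ⟶ H), a * b = b * a := fun {T} a b => by
    have h := MonObj.mul_comp a b v
    simp only [v, GrpObj.comp_inv, Category.comp_id] at h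
    rw [← inv_inj, h, mul_inv_rev]
  rw [show μ[H] = fst H H * snd H H by rw [Hom.mul_def, lift_fst_snd, Category.id_comp],
    MonObj.comp_mul, braiding_hom_fst, braiding_hom_snd]
  exact hv _ _

end Groth.Agent.H8AntiAffine
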