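import Mathlib

/-!
# Tensor products of domains over an algebraically closed field are domains
-/

set_option autoImplicit false

universe u v w

open TensorProduct

namespace Groth.Agent.H8DomainTensor

variable {K : Type u} [Field K] [IsAlgClosed K]

/-- The case where the first factor is of finite type. -/
theorem eq_zero_or_of_finiteType {A : Type v} {B : Type w} [CommRing A] [IsDomain A] [CommRing B]
    [IsDomain B] [Algebra K A] [Algebra K B] [Algebra.FiniteType K A] {u v : A ⊗[K] B}
    (h : u * v = 0) : u = 0 ∨ v = 0 := by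
  classical
  let b := Module.Basis.ofVectorSpace K B
  let ca := (TensorProduct.equivFinsuppOfBasisRight (M := A) b)
  by_contra hne
  push Not at hne
  obtain ⟨i, hi⟩ : ∃ i, ca u i ≠ 0 := by
    by_contra H
    push Not at H
    exact hne.1 (ca.injective (by rw [map_zero]; exact Finsupp.ext H))
  obtain ⟨j, hj⟩ : ∃ j, ca v j ≠ 0 := by
    by_contra H
    push Not at H
    exact hne.2 (ca.injective (by rw [map_zero]; exact Finsupp.ext H))
  have hall : ∀ m : Ideal A, m.IsMaximal → ca u i * ca v j ∈ m := by
    intro m hm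
    letI := Ideal.Quotient.field m
    haveI : Algebra.FiniteType K (A ⧸ m) :=
      Algebra.FiniteType.of_surjective (Ideal.Quotient.mkₐ K m) Ideal.Quotient.mk_surjective
    haveI : Module.Finite K (A ⧸ m) := finite_of_finite_type_of_isJacobsonRing K (A ⧸ m)
    haveI : Algebra.IsIntegral K (A ⧸ m) := Algebra.IsIntegral.of_finite K _
    have hb : Function.Bijective (algebraMap K (A ⧸ m)) :=
      IsAlgClosed.algebraMap_bijective_of_isIntegral (k := K) (K := A ⧸ m)
    let χ : A →ₐ[K] K :=
      (AlgEquiv.ofBijective (Algebra.ofId K (A ⧸ m)) hb).symm.toAlgHom.comp (Ideal.Quotient.mkₐ K m)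
    have hχ : ∀ a, χ a = 0 → a ∈ m := by
      intro a ha
      have h1 : (Ideal.Quotient.mk m a) = 0 := by
        apply (AlgEquiv.ofBijective (Algebra.ofId K (A ⧸ m)) hb).symm.injective
        rw [map_zero]
        exact ha
      exact Ideal.Quotient.eq_zero_iff_mem.mp h1
    let Φ : A ⊗[K] B →ₐ[K] B :=
      (Algebra.TensorProduct.lid K B).toAlgHom.comp (Algebra.TensorProduct.map χ (AlgHom.id K B))
    have key : ∀ w : A ⊗[K] B, ∀ l, b.repr (Φ w) l = χ (ca w l) := by
      intro w l
      induction w using TensorProduct.induction_on with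
      | zero => simp
      | tmul a y =>
        have : ca (a ⊗ₜ y) l = b.repr y l • a := by
          simp [ca, TensorProduct.equivFinsuppOfBasisRight_apply_tmul_apply]
        rw [this, map_smul]
        show b.repr (χ a • y) l = _
        simp [mul_comm]
      | add x y hx hy => simp [hx, hy]
    have h0 : Φ u * Φ v = 0 := by rw [← map_mul, h, map_zero]
    rcases mul_eq_zero.mp h0 with h1 | h1
    · exact m.mul_mem_right _ (hχ _ (by rw [← key u i, h1]; simp))
    · exact m.mul_mem_left _ (hχ _ (by rw [← key v j, h1]; simp))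
  have hbot : (⊥ : Ideal A).jacobson = ⊥ := by
    haveI : IsJacobsonRing A := isJacobsonRing_of_finiteType (A := K)
    exact IsJacobsonRing.out ‹_› (Ideal.isPrime_bot (α := A)).isRadical
  have : ca u i * ca v j ∈ (⊥ : Ideal A).jacobson := Ideal.mem_sInf.mpr fun {m} hm => hall m hm.2
  rw [hbot, Ideal.mem_bot] at this
  exact (mul_eq_zero.mp this).elim hi hj

/-- The tensor product of two domains over an algebraically closed field is a domain. -/
theorem isDomain {A : Type v} {B : Type w} [CommRing A] [IsDomain A] [CommRing B] [IsDomain B]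
    [Algebra K A] [Algebra K B] : IsDomain (A ⊗[K] B) := by
  have hnz : Nontrivial (A ⊗[K] B) := inferInstance
  haveI : NoZeroDivisors (A ⊗[K] B) := ⟨fun {u v} h => by
    let e := Algebra.TensorProduct.comm K A B
    obtain ⟨D₁, hD₁, hu⟩ := exists_fg_and_mem_baseChange (A := B) (e u)
    obtain ⟨D₂, hD₂, hv⟩ := exists_fg_and_mem_baseChange (A := B) (e v)
    have hD : (D₁ ⊔ D₂).FG := hD₁.sup hD₂
    haveI : Algebra.FiniteType K ↥(D₁ ⊔ D₂) := (Subalgebra.fg_iff_finiteType _).mp hD
    let ι₁ := Algebra.TensorProduct.map (AlgHom.id K B) (D₁ ⊔ D₂).val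
    have hinj : Function.Injective ι₁ :=
      Module.Flat.lTensor_preserves_injective_linearMap _ Subtype.val_injective
    have hmem : ∀ (D : Subalgebra K A), D ≤ D₁ ⊔ D₂ → ∀ w, w ∈ Subalgebra.baseChange B D →
        ∃ z, ι₁ z = w := by
      intro D hle w hw
      obtain ⟨z, rfl⟩ := hw
      refine ⟨Algebra.TensorProduct.map (AlgHom.id K B) (Subalgebra.inclusion hle) z, ?_⟩
      induction z using TensorProduct.induction_on with
      | zero => simp
      | tmul a y => rfl
      | add x y hx hy => simp only [map_add, hx, hy]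
    obtain ⟨zu, hzu⟩ := hmem D₁ le_sup_left _ hu
    obtain ⟨zv, hzv⟩ := hmem D₂ le_sup_right _ hv
    have h' : (Algebra.TensorProduct.comm K B ↥(D₁ ⊔ D₂) zu) *
        (Algebra.TensorProduct.comm K B ↥(D₁ ⊔ D₂) zv) = 0 := by
      rw [← map_mul]
      have : ι₁ (zu * zv) = 0 := by rw [map_mul, hzu, hzv, ← map_mul, h, map_zero]
      rw [(map_eq_zero_iff ι₁ hinj).mp this, map_zero]
    rcases eq_zero_or_of_finiteType h' with h0 | h0
    · left
      apply e.injective
      rw [← hzu, (map_eq_zero_iff _ (AlgEquiv.injective _)).mp h0, map_zero, map_zero]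
    · right
      apply e.injective
      rw [← hzv, (map_eq_zero_iff _ (AlgEquiv.injective _)).mp h0, map_zero, map_zero]⟩
  exact NoZeroDivisors.to_isDomain _

end Groth.Agent.H8DomainTensor
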