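import Mathlib
import Groth.Agent.Lib.H8DomainTensor

/-!
# Maximal points of schemes

* Flat morphisms map maximal points to maximal points.
* Over an algebraically closed field the points of a product lying over a given pair of points have
  a common generalisation lying over this pair.
* Maximality of the image survives base change along a morphism sending a maximal point to a
  maximal point.
-/

set_option autoImplicit false

universe u

open CategoryTheory Limits AlgebraicGeometry TopologicalSpace
open scoped TensorProduct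

namespace Groth.Agent.H8GenPoint

/-- A point without proper generalisations. -/
def IsMaxPt {X : Scheme.{u}} (x : X) : Prop := ∀ y, y ⤳ x → y = x

lemma IsMaxPt.eq {X : Scheme.{u}} {x y : X} (h : IsMaxPt x) (hy : y ⤳ x) : y = x := h y hy

/-- Every point has a maximal generalisation. -/
theorem exists_isMaxPt {X : Scheme.{u}} (x : X) : ∃ y, IsMaxPt y ∧ y ⤳ x := by
  obtain ⟨Z, hZ, hxZ⟩ : ∃ Z ∈ irreducibleComponents X, x ∈ Z :=
    ⟨irreducibleComponent x, irreducibleComponent_mem_irreducibleComponents x,
      mem_irreducibleComponent⟩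
  have hcl : IsClosed Z := isClosed_of_mem_irreducibleComponents Z hZ
  obtain ⟨η, hη⟩ := QuasiSober.sober hZ.prop hcl
  refine ⟨η, fun y hy => ?_, hη.specializes hxZ⟩
  have hsub : Z ⊆ closure {y} := by
    rw [← hη.def]
    exact closure_minimal (Set.singleton_subset_iff.mpr hy.mem_closure) isClosed_closure
  have : closure {y} ⊆ Z := hZ.2 isIrreducible_singleton.closure hsub
  exact (hy.antisymm (hη.specializes (this (subset_closure rfl)))).eq

/-- A lift of a generalisation along a flat morphism. -/
theorem exists_lift {X Y : Scheme.{u}} (f : X ⟶ Y) [Flat f] {x : X} {y : Y} (h : y ⤳ f x) :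
    ∃ z, z ⤳ x ∧ f z = y :=
  Flat.generalizingMap f h

/-- Flat morphisms map maximal points to maximal points. -/
theorem IsMaxPt.map {X Y : Scheme.{u}} (f : X ⟶ Y) [Flat f] {x : X} (h : IsMaxPt x) :
    IsMaxPt (f x) := by
  intro y hy
  obtain ⟨z, hz, rfl⟩ := exists_lift f hy
  rw [h z hz]

/-- Maximal points are preserved by isomorphisms. -/
theorem IsMaxPt.of_iso {X Y : Scheme.{u}} (f : X ⟶ Y) [IsIso f] {x : X} :
    IsMaxPt (f x) ↔ IsMaxPt x := by
  refine ⟨fun h => ?_, fun h => h.map f⟩
  have := h.map (inv f)
  rwa [← Scheme.Hom.comp_apply, IsIso.hom_inv_id] at this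

/-- Over an algebraically closed field two fields have a sum which is a domain. -/
theorem exists_sum {k : Type u} [Field k] [IsAlgClosed k] {P Q : CommRingCat.{u}} [IsDomain P]
    [IsDomain Q] (a : CommRingCat.of k ⟶ P) (b : CommRingCat.of k ⟶ Q) :
    ∃ C : CommRingCat.{u}, IsDomain C ∧ ∃ (inl : P ⟶ C) (inr : Q ⟶ C), a ≫ inl = b ≫ inr ∧
      ∀ (R : CommRingCat.{u}) (c : P ⟶ R) (d : Q ⟶ R), a ≫ c = b ≫ d →
        ∃ ψ : C ⟶ R, inl ≫ ψ = c ∧ inr ≫ ψ = d := by
  letI : Algebra k P := a.hom.toAlgebra
  letI : Algebra k Q := b.hom.toAlgebra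
  refine ⟨CommRingCat.of (P ⊗[k] Q), H8DomainTensor.isDomain (K := k) (A := P) (B := Q),
    CommRingCat.ofHom (Algebra.TensorProduct.includeLeft (S := k)).toRingHom,
    CommRingCat.ofHom (Algebra.TensorProduct.includeRight (A := P)).toRingHom, ?_, ?_⟩
  · refine CommRingCat.hom_ext (RingHom.ext fun r => ?_)
    exact ((Algebra.TensorProduct.includeLeft (S := k) (A := P) (B := Q)).commutes r).trans
      ((Algebra.TensorProduct.includeRight (A := P) (B := Q)).commutes r).symm
  · intro R c d h
    letI : Algebra k R := (a ≫ c).hom.toAlgebra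
    let cA : P →ₐ[k] R := ⟨c.hom, fun r => rfl⟩
    let dA : Q →ₐ[k] R := ⟨d.hom, fun r => (ConcreteCategory.congr_hom h r).symm⟩
    refine ⟨CommRingCat.ofHom (Algebra.TensorProduct.lift cA dA fun _ _ => Commute.all _ _).toRingHom,
      ?_, ?_⟩
    · refine CommRingCat.hom_ext (RingHom.ext fun r => ?_)
      exact congrArg (fun φ => φ r) (Algebra.TensorProduct.lift_comp_includeLeft cA dA fun _ _ => Commute.all _ _)
    · refine CommRingCat.hom_ext (RingHom.ext fun r => ?_)
      exact congrArg (fun φ => φ r) (Algebra.TensorProduct.lift_comp_includeRight cA dA fun _ _ => Commute.all _ _)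

/-- Over an algebraically closed field, the points of a product over a given pair of points have
a common generalisation over this pair. -/
theorem exists_generic_pair {k : Type u} [Field k] [IsAlgClosed k] {X Y : Scheme.{u}}
    (f : X ⟶ Spec (CommRingCat.of k)) (g : Y ⟶ Spec (CommRingCat.of k)) (x : X) (y : Y) :
    ∃ θ : ↥(pullback f g), pullback.fst f g θ = x ∧ pullback.snd f g θ = y ∧
      ∀ z, pullback.fst f g z = x → pullback.snd f g z = y → θ ⤳ z := by
  obtain ⟨a, ha⟩ := Spec.map_surjective (X.fromSpecResidueField x ≫ f)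
  obtain ⟨b, hb⟩ := Spec.map_surjective (Y.fromSpecResidueField y ≫ g)
  obtain ⟨C, hC, inl, inr, hab, huniv⟩ := exists_sum a b
  let m : Spec C ⟶ pullback f g :=
    pullback.lift (Spec.map inl ≫ X.fromSpecResidueField x) (Spec.map inr ≫ Y.fromSpecResidueField y)
      (by rw [Category.assoc, Category.assoc, ← ha, ← hb, ← Spec.map_comp, ← Spec.map_comp, hab])
  let p₀ : Spec C := ⟨⊥, Ideal.isPrime_bot⟩
  refine ⟨m p₀, ?_, ?_, ?_⟩
  · rw [← Scheme.Hom.comp_apply, pullback.lift_fst, Scheme.Hom.comp_apply]
    exact Scheme.fromSpecResidueField_apply _ _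
  · rw [← Scheme.Hom.comp_apply, pullback.lift_snd, Scheme.Hom.comp_apply]
    exact Scheme.fromSpecResidueField_apply _ _
  · intro z hx hy
    subst hx hy
    let cx := (pullback.fst f g).residueFieldMap z
    let cy := (pullback.snd f g).residueFieldMap z
    have hc : a ≫ cx = b ≫ cy := by
      apply Spec.map_injective
      rw [Spec.map_comp, Spec.map_comp, ha, hb, ← Category.assoc, ← Category.assoc,
        Scheme.Hom.SpecMap_residueFieldMap_fromSpecResidueField,
        Scheme.Hom.SpecMap_residueFieldMap_fromSpecResidueField, Category.assoc, Category.assoc,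
        pullback.condition]
    obtain ⟨ψ, hψl, hψr⟩ := huniv _ cx cy hc
    have hm : Spec.map ψ ≫ m
        = (pullback f g).fromSpecResidueField z := by
      apply pullback.hom_ext
      · rw [Category.assoc, pullback.lift_fst, ← Category.assoc, ← Spec.map_comp, hψl,
          Scheme.Hom.SpecMap_residueFieldMap_fromSpecResidueField]
      · rw [Category.assoc, pullback.lift_snd, ← Category.assoc, ← Spec.map_comp, hψr,
          Scheme.Hom.SpecMap_residueFieldMap_fromSpecResidueField]
    let pz : Spec ((pullback f g).residueField z) := IsLocalRing.closedPoint _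
    have hz : m (Spec.map ψ pz) = z := by
      rw [← Scheme.Hom.comp_apply, hm]
      exact Scheme.fromSpecResidueField_apply _ _
    have hs : p₀ ⤳ Spec.map ψ pz :=
      (PrimeSpectrum.le_iff_specializes _ _).mp
        (show (⊥ : Ideal _) ≤ _ from bot_le)
    have := hs.map m.continuous
    rwa [hz] at this

/-- If a morphism sends a maximal point to a maximal point, then after base change along a flat
morphism every maximal point over the former is sent to a maximal point. -/
theorem IsMaxPt.map_baseChange {A B A' B' : Scheme.{u}} {pA : A' ⟶ A} {pB : B' ⟶ B} {f : A ⟶ B}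
    {f' : A' ⟶ B'} (h : IsPullback f' pA pB f) [Flat pA] [Flat pB] {a : A} (hb : IsMaxPt (f a))
    {a' : A'} (ha' : IsMaxPt a') (e : pA a' = a) : IsMaxPt (f' a') := by
  intro b' hb'
  have hcomm : pB (f' a') = f a := by
    rw [← e, ← Scheme.Hom.comp_apply, ← Scheme.Hom.comp_apply, h.w]
  have hπ : pB b' = f a := hb.eq (hcomm ▸ hb'.map pB.continuous)
  let qa := A.fromSpecResidueField a
  let qb := B.fromSpecResidueField (f a)
  let r := Spec.map (f.residueFieldMap a)
  haveI : Flat r := by
    rw [HasRingHomProperty.Spec_iff (P := @Flat)]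
    show (f.residueFieldMap a).hom.Flat
    algebraize [(f.residueFieldMap a).hom]
    exact RingHom.flat_algebraMap_iff.mpr inferInstance
  have hr : qa ≫ f = r ≫ qb :=
    (Scheme.Hom.SpecMap_residueFieldMap_fromSpecResidueField f a).symm
  -- the fibres of `A'` over `a` and of `B'` over `f a`
  let j : pullback pA qa ⟶ pullback pB qb :=
    pullback.map pA qa pB qb f' r f h.w.symm hr
  have hsq : IsPullback j (pullback.snd pA qa) (pullback.snd pB qb) r := by
    refine IsPullback.of_right ?_ (pullback.lift_snd _ _ _) (IsPullback.of_hasPullback pB qb)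
    rw [pullback.lift_fst, ← hr]
    exact (IsPullback.of_hasPullback pA qa).paste_horiz h
  haveI : Flat j := MorphismProperty.of_isPullback hsq.flip ‹_›
  obtain ⟨za, hza⟩ : ∃ za, pullback.fst pA qa za = a' := by
    have : a' ∈ Set.range (pullback.fst pA qa) := by
      rw [Scheme.Pullback.range_fst]
      exact ⟨IsLocalRing.closedPoint _, by rw [Scheme.fromSpecResidueField_apply, e]⟩
    exact this
  obtain ⟨zb, hzb⟩ : ∃ zb, pullback.fst pB qb zb = b' := by
    have : b' ∈ Set.range (pullback.fst pB qb) := by
      rw [Scheme.Pullback.range_fst]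
      exact ⟨IsLocalRing.closedPoint _, by rw [Scheme.fromSpecResidueField_apply, hπ]⟩
    exact this
  have hemb : Topology.IsEmbedding (pullback.fst pB qb) :=
    (pullback.fst pB qb).isEmbedding
  have hjz : pullback.fst pB qb (j za) = f' a' := by
    rw [← Scheme.Hom.comp_apply, pullback.lift_fst, Scheme.Hom.comp_apply, hza]
  have hspec : zb ⤳ j za := hemb.toIsInducing.specializes_iff.mp (by rw [hzb, hjz]; exact hb')
  obtain ⟨w, hw, hjw⟩ := exists_lift j hspec
  have : pullback.fst pA qa w = a' :=
    ha'.eq (hza ▸ hw.map (pullback.fst pA qa).continuous)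
  rw [← hzb, ← hjw, ← Scheme.Hom.comp_apply, pullback.lift_fst, Scheme.Hom.comp_apply, this]

end Groth.Agent.H8GenPoint
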