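import Mathlib

/-!
# Cartier's theorem: group schemes in characteristic zero are reduced
-/

set_option autoImplicit false

universe u

open CategoryTheory Limits AlgebraicGeometry

namespace Groth.Agent.H8Cartier

section Algebra

variable {R : Type u} [CommRing R]

/-- A derivation maps nilpotent elements to nilpotent elements in `ℚ`-algebras. -/
lemma isNilpotent_derivation (hR : ∀ n : ℕ, 0 < n → IsUnit (n : R)) (D : R → R)
    (hD : ∀ a b, D (a * b) = a * D b + b * D a) (h0 : D 0 = 0) {a : R}
    (ha : IsNilpotent a) : IsNilpotent (D a) := by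
  obtain ⟨n, hn⟩ := ha
  have hpow : ∀ (x : R) (m : ℕ), D (x ^ (m + 1)) = (m + 1 : ℕ) * x ^ m * D x := by
    intro x m
    induction m with
    | zero => simp
    | succ m ih =>
      rw [pow_succ x (m + 1), hD, ih]
      push_cast
      ring
  rcases n with _ | n
  · exact ⟨1, by rw [pow_zero] at hn; rw [pow_one, ← mul_one (D a), hn, mul_zero]⟩
  have key : ∀ j, j ≤ n → a ^ (n - j) * D a ^ (2 * j + 1) = 0 := by
    intro j hj
    induction j with
    | zero =>
      have h := congrArg D hn
      rw [hpow, h0, mul_assoc] at h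
      simpa using (hR (n + 1) (by omega)).mul_right_eq_zero.mp h
    | succ j ih =>
      have h0' := ih (by omega)
      obtain ⟨m, hm⟩ : ∃ m, n - j = m + 1 := ⟨n - j - 1, by omega⟩
      have hm' : n - (j + 1) = m := by omega
      rw [hm] at h0'
      rw [hm']
      have h := congrArg D h0'
      rw [hD, hpow, hpow, h0] at h
      have h2 : ((m + 1 : ℕ) : R) * (a ^ m * D a ^ (2 * (j + 1) + 1)) = 0 := by
        have h3 : D a ^ (2 * (j + 1) + 1) = D a ^ (2 * j + 1) * D a * D a := by ring
        rw [h3]
        linear_combination D a * h - ((2 * j + 1 : ℕ) : R) * D (D a) * h0'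
      exact (hR (m + 1) (by omega)).mul_right_eq_zero.mp h2
  exact ⟨2 * n + 1, by simpa using key n le_rfl⟩

/-- A Noetherian local `ℚ`-algebra with an Euler derivation is reduced. -/
lemma isReduced_of_euler [IsLocalRing R] [IsNoetherianRing R]
    (hR : ∀ n : ℕ, 0 < n → IsUnit (n : R)) {σ : Type u} [Fintype σ] (x : σ → R)
    (hx : ∀ i, x i ∈ IsLocalRing.maximalIdeal R) (D : σ → R → R)
    (hDa : ∀ i a b, D i (a + b) = D i a + D i b)
    (hDm : ∀ i a b, D i (a * b) = a * D i b + b * D i a)
    (hE : ∀ y ∈ IsLocalRing.maximalIdeal R,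
      (∑ i, x i * D i y) - y ∈ IsLocalRing.maximalIdeal R ^ 2) : IsReduced R := by
  let m := IsLocalRing.maximalIdeal R
  let E : R → R := fun y => ∑ i, x i * D i y
  have hEa : ∀ a b, E (a + b) = E a + E b := fun a b => by
    simp only [E, hDa, mul_add, Finset.sum_add_distrib]
  have hEm : ∀ a b, E (a * b) = a * E b + b * E a := fun a b => by
    simp only [E, hDm, mul_add, Finset.sum_add_distrib, Finset.mul_sum]
    congr 1 <;> exact Finset.sum_congr rfl fun i _ => by ring
  have hEk : ∀ (k : ℕ) y, y ∈ m ^ (k + 1) → E y - (k + 1 : ℕ) * y ∈ m ^ (k + 2) := by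
    intro k
    induction k with
    | zero =>
      intro y hy
      rw [pow_one] at hy
      simpa [E] using hE y hy
    | succ k ih =>
      intro y hy
      rw [pow_succ] at hy
      induction hy using Submodule.mul_induction_on' with
      | mem_mul_mem a ha b hb =>
        have e : E (a * b) - ((k + 1 + 1 : ℕ) : R) * (a * b) =
            a * (E b - b) + b * (E a - ((k + 1 : ℕ) : R) * a) := by
          rw [hEm]
          push_cast
          ring
        rw [e]
        refine Ideal.add_mem _ ?_ ?_
        · have h2 : E b - b ∈ m ^ 2 := hE b hb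
          have := Ideal.mul_mem_mul ha h2
          rwa [← pow_add] at this
        · have := Ideal.mul_mem_mul hb (ih a ha)
          rwa [← pow_succ'] at this
      | add a _ b _ iha ihb =>
        have e : E (a + b) - ((k + 1 + 1 : ℕ) : R) * (a + b) =
            (E a - ((k + 1 + 1 : ℕ) : R) * a) + (E b - ((k + 1 + 1 : ℕ) : R) * b) := by
          rw [hEa]
          ring
        rw [e]
        exact Ideal.add_mem _ iha ihb
  refine ⟨fun a ha => ?_⟩
  have hm : ∀ k, ∀ b, IsNilpotent b → b ∈ m ^ (k + 1) := by
    intro k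
    induction k with
    | zero =>
      intro b hb
      rw [pow_one]
      exact nilradical_le_prime m hb
    | succ k ih =>
      intro b hb
      have h1 : E b ∈ m ^ (k + 2) := by
        refine Ideal.sum_mem _ fun i _ => ?_
        have h0 : D i 0 = 0 := by simpa using hDm i 0 0
        have := Ideal.mul_mem_mul (hx i)
          (ih _ (isNilpotent_derivation hR (D i) (hDm i) h0 hb))
        rwa [← pow_succ'] at this
      have h2 : ((k + 1 : ℕ) : R) * b ∈ m ^ (k + 2) := by
        have := Ideal.sub_mem _ h1 (hEk k b (ih b hb))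
        simpa using this
      exact (Ideal.unit_mul_mem_iff_mem _ (hR (k + 1) (by omega))).mp h2
  have : a ∈ ⨅ k : ℕ, m ^ k := by
    simp only [Submodule.mem_iInf]
    intro k
    rcases k with _ | k
    · simp
    · exact hm k a ha
  rwa [Ideal.iInf_pow_eq_bot_of_isLocalRing m (IsLocalRing.maximalIdeal.isMaximal R).ne_top,
    Ideal.mem_bot] at this

end Algebra

lemma isLocalRing_dualNumber (R : Type u) [CommRing R] [IsLocalRing R] :
    IsLocalRing (DualNumber R) := by
  refine IsLocalRing.of_isUnit_or_isUnit_one_sub_self fun a => ?_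
  rw [TrivSqZeroExt.isUnit_iff_isUnit_fst, TrivSqZeroExt.isUnit_iff_isUnit_fst]
  simpa using IsLocalRing.isUnit_or_isUnit_one_sub_self a.fst

lemma exists_factor {X : Scheme.{u}} {R : CommRingCat.{u}} [IsLocalRing R] (f : Spec R ⟶ X)
    (x : X) (h : f (IsLocalRing.closedPoint R) = x) :
    ∃ φ : X.presheaf.stalk x ⟶ R, Spec.map φ ≫ X.fromSpecStalk x = f := by
  subst h
  exact ⟨_, Scheme.Spec_stalkClosedPointTo_fromSpecStalk f⟩

section Group

open MonoidalCategory CartesianMonoidalCategory MonObj

variable {K : Type u} [Field K] [CharZero K] {G : Scheme.{u}} (f : G ⟶ Spec (.of K))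
  [LocallyOfFiniteType f] [GrpObj (Over.mk f)]

set_option maxHeartbeats 800000 in
set_option backward.isDefEq.respectTransparency false in
/-- Every tangent vector at the identity extends to a derivation of the local ring. -/
lemma exists_derivation (e : G) (al : CommRingCat.of K ⟶ G.presheaf.stalk e)
    (res : G.presheaf.stalk e ⟶ CommRingCat.of K) (hal : Spec.map al = G.fromSpecStalk e ≫ f)
    (hres : Spec.map res ≫ G.fromSpecStalk e = η[Over.mk f].left)
    (he : η[Over.mk f].left (IsLocalRing.closedPoint K) = e)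
    (lam : G.presheaf.stalk e → K) (hla : ∀ a b, lam (a + b) = lam a + lam b)
    (hlm : ∀ a b, lam (a * b) = res.hom a * lam b + res.hom b * lam a)
    (hlι : ∀ c, lam (al.hom c) = 0) :
    ∃ D : G.presheaf.stalk e → G.presheaf.stalk e,
      (∀ a b, D (a + b) = D a + D b) ∧ (∀ a b, D (a * b) = a * D b + b * D a) ∧
        ∀ a, res.hom (D a) = lam a := by
  have hι := hal
  have hresι : al ≫ res = 𝟙 _ := by
    apply Spec.map_injective
    rw [Spec.map_comp, hι, ← Category.assoc, hres, Spec.map_id]
    exact Over.w η[Over.mk f]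
  have hri : ∀ c : K, res.hom (al.hom c) = c := fun c => congrArg (fun φ => φ.hom c) hresι
  -- the objects
  let Kε : CommRingCat.{u} := CommRingCat.of (DualNumber K)
  let Rε : CommRingCat.{u} := CommRingCat.of (DualNumber (G.presheaf.stalk e))
  have : IsLocalRing Rε := isLocalRing_dualNumber (G.presheaf.stalk e)
  let inlR : (G.presheaf.stalk e) ⟶ Rε := CommRingCat.ofHom (TrivSqZeroExt.inlHom (G.presheaf.stalk e) (G.presheaf.stalk e))
  let inlK : CommRingCat.of K ⟶ Kε := CommRingCat.ofHom (TrivSqZeroExt.inlHom K K)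
  let fstR : Rε ⟶ (G.presheaf.stalk e) := CommRingCat.ofHom
    { toFun := fun z : DualNumber (G.presheaf.stalk e) => z.fst
      map_one' := rfl
      map_mul' := fun _ _ => rfl
      map_zero' := rfl
      map_add' := fun _ _ => rfl }
  let red : Rε ⟶ Kε := CommRingCat.ofHom
    { toFun := fun z : DualNumber (G.presheaf.stalk e) =>
        (TrivSqZeroExt.inl (res.hom z.fst) + TrivSqZeroExt.inr (res.hom z.snd) : DualNumber K)
      map_one' := by ext <;> simp
      map_mul' := fun a b => by ext <;> simp [_root_.mul_comm]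
      map_zero' := by ext <;> simp
      map_add' := fun a b => by ext <;> simp }
  let T : Over (Spec (CommRingCat.of K)) := Over.mk (Spec.map (al ≫ inlR))
  let T0 : Over (Spec (CommRingCat.of K)) := Over.mk (Spec.map al)
  let T1 : Over (Spec (CommRingCat.of K)) := Over.mk (Spec.map (al ≫ inlR ≫ red))
  let TK : Over (Spec (CommRingCat.of K)) := Over.mk (Spec.map (𝟙 (CommRingCat.of K)))
  let mkP : ∀ {A : CommRingCat.{u}} (j : CommRingCat.of K ⟶ A) (φ : (G.presheaf.stalk e) ⟶ A) (_ : al ≫ φ = j),
      (Over.mk (Spec.map j) ⟶ Over.mk f) := fun {A} j φ h =>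
    Over.homMk (Spec.map φ ≫ G.fromSpecStalk e)
      (by simp only [Over.mk_hom, Category.assoc, ← hι, ← Spec.map_comp, h])
  have hone : ∀ {A : CommRingCat.{u}} (j : CommRingCat.of K ⟶ A),
      (1 : Over.mk (Spec.map j) ⟶ Over.mk f).left = Spec.map (res ≫ j) ≫ G.fromSpecStalk e := by
    intro A j
    rw [Hom.one_def, Over.comp_left, Over.toUnit_left, Spec.map_comp, Category.assoc, hres]
    rfl
  have hfst : inlR ≫ fstR = 𝟙 (G.presheaf.stalk e) := rfl
  let u2 : (G.presheaf.stalk e) ⟶ Rε := CommRingCat.ofHom
    { toFun := fun a => (TrivSqZeroExt.inl (al.hom (res.hom a)) +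
        TrivSqZeroExt.inr (al.hom (lam a)) : DualNumber (G.presheaf.stalk e))
      map_one' := by
        have : lam 1 = 0 := by simpa using hlι 1
        ext <;> simp [this]
      map_mul' := fun a b => by ext <;> simp [hlm] <;> ring
      map_zero' := by
        have : lam 0 = 0 := by simpa using hla 0 0
        ext <;> simp [this]
      map_add' := fun a b => by ext <;> simp [hla] }
  have eu1 : ∀ a, TrivSqZeroExt.fst (u2.hom a : DualNumber (G.presheaf.stalk e)) = al.hom (res.hom a) := fun a => by
    show TrivSqZeroExt.fst ((TrivSqZeroExt.inl _ + TrivSqZeroExt.inr _ : DualNumber (G.presheaf.stalk e))) = _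
    simp
  have eu2 : ∀ a, TrivSqZeroExt.snd (u2.hom a : DualNumber (G.presheaf.stalk e)) = al.hom (lam a) := fun a => by
    show TrivSqZeroExt.snd ((TrivSqZeroExt.inl _ + TrivSqZeroExt.inr _ : DualNumber (G.presheaf.stalk e))) = _
    simp
  have ef : ∀ z : DualNumber (G.presheaf.stalk e), fstR.hom z = z.fst := fun _ => rfl
  have er1 : ∀ z : DualNumber (G.presheaf.stalk e),
      TrivSqZeroExt.fst (red.hom z : DualNumber K) = res.hom z.fst := fun z => by
    show TrivSqZeroExt.fst ((TrivSqZeroExt.inl _ + TrivSqZeroExt.inr _ : DualNumber K)) = _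
    simp
  have er2 : ∀ z : DualNumber (G.presheaf.stalk e),
      TrivSqZeroExt.snd (red.hom z : DualNumber K) = res.hom z.snd := fun z => by
    show TrivSqZeroExt.snd ((TrivSqZeroExt.inl _ + TrivSqZeroExt.inr _ : DualNumber K)) = _
    simp
  have ei : ∀ z, inlR.hom z = (TrivSqZeroExt.inl z : DualNumber (G.presheaf.stalk e)) := fun _ => rfl
  have hu2 : al ≫ u2 = al ≫ inlR := by
    apply CommRingCat.hom_ext
    ext c <;> simp [eu1, eu2, ei, hri, hlι, -DualNumber.inr_eq_smul_eps]
  let p1 : T ⟶ Over.mk f := mkP _ inlR rfl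
  let p2 : T ⟶ Over.mk f := mkP _ u2 hu2
  let s0 : T0 ⟶ T := Over.homMk (Spec.map fstR)
    (by simp only [T, T0, Over.mk_hom, ← Spec.map_comp, Category.assoc, hfst, Category.comp_id])
  let s1 : T1 ⟶ T := Over.homMk (Spec.map red)
    (by simp only [T, T1, Over.mk_hom, ← Spec.map_comp, Category.assoc])
  let s2 : TK ⟶ T := Over.homMk (Spec.map (fstR ≫ res))
    (by simp only [T, TK, Over.mk_hom, ← Spec.map_comp, Category.assoc]
        rw [← Category.assoc inlR, hfst, Category.id_comp, hresι])
  have h02 : s0 ≫ p2 = 1 := by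
    apply Over.OverMorphism.ext
    rw [hone, Over.comp_left]
    simp only [s0, p2, mkP, Over.homMk_left, ← Category.assoc, ← Spec.map_comp]
    congr 2
    apply CommRingCat.hom_ext
    ext a
    simp [ef, eu1]
  have h11 : s1 ≫ p1 = 1 := by
    apply Over.OverMorphism.ext
    rw [hone, Over.comp_left]
    simp only [s1, p1, mkP, Over.homMk_left, ← Category.assoc, ← Spec.map_comp]
    congr 2
    apply CommRingCat.hom_ext
    ext a <;> simp [ei, er1, er2, hri]
  have h21 : s2 ≫ p1 = 1 := by
    apply Over.OverMorphism.ext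
    rw [hone, Over.comp_left]
    simp only [s2, p1, mkP, Over.homMk_left, ← Category.assoc, ← Spec.map_comp]
    rw [hfst, Category.id_comp, Category.comp_id]
  have h22 : s2 ≫ p2 = 1 := by
    apply Over.OverMorphism.ext
    rw [hone, Over.comp_left]
    simp only [s2, p2, mkP, Over.homMk_left, ← Category.assoc, ← Spec.map_comp]
    congr 2
    apply CommRingCat.hom_ext
    ext a
    simp [ef, eu1, hri]
  let p : T ⟶ Over.mk f := p1 * p2
  have hcl : p.left (IsLocalRing.closedPoint Rε) = e := by
    have h1 : s2 ≫ p = 1 := by rw [MonObj.comp_mul, h21, h22, _root_.mul_one]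
    have h2 := congr(($h1).left (IsLocalRing.closedPoint K))
    rw [hone, Over.comp_left, Category.comp_id, hres] at h2
    rw [Scheme.Hom.comp_apply] at h2
    have hloc : s2.left (IsLocalRing.closedPoint K) = IsLocalRing.closedPoint Rε := by
      have : (RingHom.ker (fstR ≫ res).hom).IsMaximal :=
        RingHom.ker_isMaximal_of_surjective _ fun c =>
          ⟨inlR.hom (al.hom c), by simp [ei, ef, hri]⟩
      apply PrimeSpectrum.ext
      show Ideal.comap (fstR ≫ res).hom (IsLocalRing.maximalIdeal K) = IsLocalRing.maximalIdeal Rε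
      rw [IsLocalRing.maximalIdeal_eq_bot]
      exact IsLocalRing.eq_maximalIdeal this
    rw [hloc] at h2
    exact h2.trans he
  obtain ⟨φ, hφ⟩ := exists_factor p.left e hcl
  have hφ0 : φ ≫ fstR = 𝟙 (G.presheaf.stalk e) := by
    have h1 : (s0 ≫ p).left = (s0 ≫ p1).left := by rw [MonObj.comp_mul, h02, _root_.mul_one]
    simp only [Over.comp_left, s0, p1, mkP, Over.homMk_left, ← hφ, ← Category.assoc,
      ← Spec.map_comp, cancel_mono] at h1
    rw [Spec.map_injective ((cancel_mono (G.fromSpecStalk e)).mp h1), hfst]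
  have hφ1 : φ ≫ red = u2 ≫ red := by
    have h1 : (s1 ≫ p).left = (s1 ≫ p2).left := by rw [MonObj.comp_mul, h11, _root_.one_mul]
    simp only [Over.comp_left, s1, p2, mkP, Over.homMk_left, ← hφ, ← Category.assoc,
      ← Spec.map_comp, cancel_mono] at h1
    exact Spec.map_injective ((cancel_mono (G.fromSpecStalk e)).mp h1)
  have e0 : ∀ a, TrivSqZeroExt.fst (φ.hom a : DualNumber (G.presheaf.stalk e)) = a := fun a =>
    congrArg (fun g => g.hom a) hφ0
  refine ⟨fun a => TrivSqZeroExt.snd (φ.hom a : DualNumber (G.presheaf.stalk e)), fun a b => ?_, fun a b => ?_,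
    fun a => ?_⟩
  · simp only [map_add]
    exact TrivSqZeroExt.snd_add _ _
  · have := TrivSqZeroExt.snd_mul (φ.hom a : DualNumber (G.presheaf.stalk e)) (φ.hom b)
    rw [e0, e0] at this
    simp only [map_mul]
    rw [this]
    simp [_root_.mul_comm]
  · have := congrArg (fun g => TrivSqZeroExt.snd (g.hom a : DualNumber K)) hφ1
    simpa [er2, eu2, hri] using this

/-- Cartier: the local ring at the identity of a group scheme in characteristic zero is reduced. -/
lemma isReduced_stalk_one :
    IsReduced (G.presheaf.stalk (η[Over.mk f].left (IsLocalRing.closedPoint K))) := by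
  set e : G := η[Over.mk f].left (IsLocalRing.closedPoint K) with he
  have : IsLocallyNoetherian G := LocallyOfFiniteType.isLocallyNoetherian f
  set R := G.presheaf.stalk e with hR
  let al : CommRingCat.of K ⟶ R := Spec.preimage (G.fromSpecStalk e ≫ f)
  have hι : Spec.map al = G.fromSpecStalk e ≫ f := Spec.map_preimage _
  obtain ⟨res, hres⟩ := exists_factor (X := G) (R := CommRingCat.of K) η[Over.mk f].left e he.symm
  have hresι : al ≫ res = 𝟙 _ := by
    apply Spec.map_injective
    rw [Spec.map_comp, hι, ← Category.assoc, hres, Spec.map_id]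
    exact Over.w η[Over.mk f]
  have hri : ∀ c : K, res.hom (al.hom c) = c := fun c => congrArg (fun φ => φ.hom c) hresι
  have hker : RingHom.ker res.hom = IsLocalRing.maximalIdeal R := by
    have := RingHom.ker_isMaximal_of_surjective res.hom fun c => ⟨al.hom c, hri c⟩
    exact IsLocalRing.eq_maximalIdeal this
  have hmem : ∀ a : R, a ∈ IsLocalRing.maximalIdeal R ↔ res.hom a = 0 := fun a => by
    rw [← hker, RingHom.mem_ker]
  -- a basis of the cotangent space
  letI : Algebra K R := al.hom.toAlgebra
  let m := IsLocalRing.maximalIdeal R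
  have hsub : ∀ a : R, a - al.hom (res.hom a) ∈ m := fun a => (hmem _).mpr (by simp [hri])
  have : Module.Finite K m.Cotangent := by
    obtain ⟨s, hs⟩ := IsNoetherian.noetherian m
    classical
    have hs' : ∀ x ∈ s, x ∈ m := fun x hx => hs ▸ Submodule.subset_span hx
    refine ⟨⟨s.attach.image fun x => m.toCotangent ⟨x.1, hs' x.1 x.2⟩, ?_⟩⟩
    rw [eq_top_iff]
    rintro z -
    obtain ⟨⟨y, hy⟩, rfl⟩ := m.toCotangent_surjective z
    have hy' : y ∈ Submodule.span R (s : Set R) := hs.symm ▸ hy
    induction hy' using Submodule.span_induction with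
    | mem x hx =>
      refine Submodule.subset_span ?_
      simp only [Finset.coe_image, Set.mem_image, Finset.mem_coe, Finset.mem_attach, true_and]
      exact ⟨⟨x, hx⟩, rfl⟩
    | zero => exact (map_zero m.toCotangent) ▸ zero_mem _
    | add a b ha hb iha ihb =>
      have ha' : a ∈ m := hs ▸ ha
      have hb' : b ∈ m := hs ▸ hb
      exact (map_add m.toCotangent ⟨a, ha'⟩ ⟨b, hb'⟩) ▸ add_mem (iha ha') (ihb hb')
    | smul r a ha iha =>
      have ha' : a ∈ m := hs ▸ ha
      have : m.toCotangent ⟨r • a, hy⟩ = res.hom r • m.toCotangent ⟨a, ha'⟩ := by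
        rw [← IsScalarTower.algebraMap_smul R (res.hom r) (m.toCotangent ⟨a, ha'⟩),
          ← map_smul, Ideal.toCotangent_eq]
        show r * a - al.hom (res.hom r) * a ∈ m ^ 2
        rw [← sub_mul, pow_two]
        exact Ideal.mul_mem_mul (hsub r) ha'
      exact this ▸ Submodule.smul_mem _ _ (iha ha')
  let b := Module.finBasis K m.Cotangent
  choose x hx using fun i => m.toCotangent_surjective (b i)
  let lam : Fin (Module.finrank K m.Cotangent) → R → K := fun i a =>
    b.coord i (m.toCotangent ⟨a - al.hom (res.hom a), hsub a⟩)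
  have hla : ∀ i a c, lam i (a + c) = lam i a + lam i c := fun i a c => by
    simp only [lam, ← map_add]
    congr 2
    ext
    simp
    ring
  have hlι : ∀ i c, lam i (al.hom c) = 0 := fun i c => by
    simp only [lam, hri]
    rw [← (b.coord i).map_zero, ← map_zero m.toCotangent]
    congr 2
    ext
    simp
  have hlm : ∀ i a c, lam i (a * c) = res.hom a * lam i c + res.hom c * lam i a := fun i a c => by
    show b.coord i (m.toCotangent _) =
      res.hom a • b.coord i (m.toCotangent _) + res.hom c • b.coord i (m.toCotangent _)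
    rw [← (b.coord i).map_smul, ← (b.coord i).map_smul, ← (b.coord i).map_add]
    congr 1
    rw [← IsScalarTower.algebraMap_smul R (res.hom a) (m.toCotangent _),
      ← IsScalarTower.algebraMap_smul R (res.hom c) (m.toCotangent _), ← map_smul, ← map_smul,
      ← map_add, Ideal.toCotangent_eq]
    simp only [Submodule.coe_add, Submodule.coe_smul, smul_eq_mul, map_mul,
      RingHom.algebraMap_toAlgebra]
    have e : a * c - al.hom (res.hom a) * al.hom (res.hom c) -
        (al.hom (res.hom a) * (c - al.hom (res.hom c)) + al.hom (res.hom c) * (a - al.hom (res.hom a)))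
        = (a - al.hom (res.hom a)) * (c - al.hom (res.hom c)) := by ring
    rw [e, pow_two]
    exact Ideal.mul_mem_mul (hsub a) (hsub c)
  choose D hDa hDm hDr using fun i =>
    exists_derivation f e al res hι hres he.symm (lam i) (hla i) (hlm i) (hlι i)
  have hunit : ∀ n : ℕ, 0 < n → IsUnit (n : R) := fun n hn => by
    simpa using (Nat.cast_ne_zero.mpr hn.ne' : (n : K) ≠ 0).isUnit.map al.hom
  refine isReduced_of_euler hunit (σ := ULift (Fin (Module.finrank K m.Cotangent)))
    (fun i => (x i.down : R)) (fun i => (x i.down).2) (fun i => D i.down)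
    (fun i => hDa i.down) (fun i => hDm i.down) fun y hy => ?_
  have h1 : (∑ i : ULift (Fin (Module.finrank K m.Cotangent)), (x i.down : R) * D i.down y) ∈ m :=
    Ideal.sum_mem _ fun i _ => Ideal.mul_mem_right _ _ (x i.down).2
  show ((⟨_, h1⟩ : m) : R) - ((⟨y, hy⟩ : m) : R) ∈ m ^ 2
  rw [← Ideal.toCotangent_eq]
  have h2 : (⟨_, h1⟩ : m) = ∑ i : ULift (Fin (Module.finrank K m.Cotangent)), D i.down y • x i.down := by
    ext
    simp only [Submodule.coe_sum, Submodule.coe_smul, smul_eq_mul]
    exact Finset.sum_congr rfl fun i _ => _root_.mul_comm _ _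
  rw [h2, map_sum]
  conv_rhs => rw [← b.sum_repr (m.toCotangent ⟨y, hy⟩)]
  refine Fintype.sum_equiv Equiv.ulift _ _ fun i => ?_
  rw [map_smul, hx, Equiv.ulift_apply]
  have h3 : D i.down y • b i.down = res.hom (D i.down y) • b i.down := by
    obtain ⟨z, hz⟩ := m.toCotangent_surjective (b i.down)
    rw [← hz, ← IsScalarTower.algebraMap_smul R (res.hom (D i.down y)) (m.toCotangent z),
      ← map_smul, ← map_smul, Ideal.toCotangent_eq]
    show D i.down y * (z : R) - al.hom (res.hom (D i.down y)) * (z : R) ∈ m ^ 2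
    rw [← sub_mul, pow_two]
    exact Ideal.mul_mem_mul (hsub _) z.2
  rw [h3, hDr]
  congr 1
  simp only [lam, Module.Basis.coord_apply]
  congr 3
  ext
  simp [(hmem y).mp hy]

lemma isReduced_of_closedPoints {K : Type u} [Field K] {G : Scheme.{u}} (f : G ⟶ Spec (.of K))
    [LocallyOfFiniteType f] (h : ∀ x : G, IsClosed ({x} : Set G) →
    IsReduced (G.presheaf.stalk x)) : IsReduced G := by
  have := LocallyOfFiniteType.jacobsonSpace f
  refine @isReduced_of_isReduced_stalk G fun x => ?_
  obtain ⟨_, ⟨U, hU, rfl⟩, hxU, -⟩ :=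
    G.isBasis_affineOpens.exists_subset_of_mem_open (Set.mem_univ x) isOpen_univ
  have hred : IsReduced Γ(G, U) := by
    refine isReduced_ofLocalizationMaximal _ fun M hM => ?_
    let y : PrimeSpectrum Γ(G, U) := ⟨M, hM.isPrime⟩
    have hyU : hU.fromSpec y ∈ U := by rw [← SetLike.mem_coe, ← hU.range_fromSpec]; exact ⟨y, rfl⟩
    letI : Algebra Γ(G, U) (G.presheaf.stalk (hU.fromSpec y)) :=
      (G.presheaf.germ U _ hyU).hom.toAlgebra
    have : IsLocalization.AtPrime (G.presheaf.stalk (hU.fromSpec y)) y.asIdeal :=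
      hU.isLocalization_stalk' y hyU
    have hy : IsClosed ({hU.fromSpec y} : Set G) := by
      have hc : y ∈ closedPoints (PrimeSpectrum Γ(G, U)) :=
        mem_closedPoints_iff.mpr ((PrimeSpectrum.isClosed_singleton_iff_isMaximal y).mpr hM)
      rw [← mem_closedPoints_iff]
      have : IsOpenImmersion hU.fromSpec := hU.isOpenImmersion_fromSpec
      have := (hU.fromSpec.isOpenEmbedding).preimage_closedPoints
      exact (this.symm ▸ hc : y ∈ hU.fromSpec ⁻¹' closedPoints G)
    have := h _ hy
    exact isReduced_of_injective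
      (IsLocalization.algEquiv y.asIdeal.primeCompl (Localization.AtPrime y.asIdeal)
        (G.presheaf.stalk (hU.fromSpec y))).toRingEquiv.toRingHom
      (RingEquiv.injective _)
  letI : Algebra Γ(G, U) (G.presheaf.stalk x) :=
    (G.presheaf.germ U x hxU).hom.toAlgebra
  have : IsLocalization.AtPrime (G.presheaf.stalk x) (hU.primeIdealOf ⟨x, hxU⟩).asIdeal :=
    hU.isLocalization_stalk ⟨x, hxU⟩
  exact isReduced_localizationPreserves (hU.primeIdealOf ⟨x, hxU⟩).asIdeal.primeCompl _ hred

include f in
/-- Cartier's theorem over an algebraically closed field. -/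
theorem isReduced_of_isAlgClosed [IsAlgClosed K] : IsReduced G := by
  refine isReduced_of_closedPoints f fun x hx => ?_
  have := isReduced_stalk_one f
  let x' : 𝟙_ _ ⟶ Over.mk f := Over.homMk _ ((pointEquivClosedPoint f).symm ⟨x, hx⟩).2
  let α := GrpObj.mulRight (A := Over.mk f) x'
  have hα : η[Over.mk f] ≫ α.hom = x' := by
    have h1 : (η[Over.mk f] : 𝟙_ _ ⟶ Over.mk f) = 1 := by simp [Hom.one_def]
    simp [α, comp_lift_assoc]
    rw [← Hom.mul_def, h1, _root_.one_mul]
  have hα' : α.hom.left (η[Over.mk f].left (IsLocalRing.closedPoint K)) = x := by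
    have h2 := congr(($hα).left (IsLocalRing.closedPoint K))
    rw [Over.comp_left] at h2
    refine (Scheme.Hom.comp_apply _ _ _).symm.trans (h2.trans ?_)
    exact pointOfClosedPoint_apply f x hx _
  have : IsIso α.hom.left := (inferInstance : IsIso ((Over.forget _).map α.hom))
  rw [← hα']
  have : IsReduced ((Over.mk f).left.presheaf.stalk
      (η[Over.mk f].left (IsLocalRing.closedPoint K))) := isReduced_stalk_one f
  exact isReduced_of_injective
    ((asIso (α.hom.left.stalkMap (η[Over.mk f].left (IsLocalRing.closedPoint K)))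
      ).commRingCatIsoToRingEquiv).toRingHom (RingEquiv.injective _)

end Group

end Groth.Agent.H8Cartier
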