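import Mathlib
import Groth.Agent.Lib.H8Cartier

/-!
# Group schemes without nilpotent global functions are reduced

The ideal of nilpotents killed by all nilpotents is preserved by translations, so it is a trivial
vector bundle on the reduced group; a nonzero fibre at the identity gives a nonzero nilpotent
global function.
-/

set_option autoImplicit false

universe u

open CategoryTheory Limits AlgebraicGeometry MonoidalCategory CartesianMonoidalCategory MonObj
open scoped TensorProduct

namespace Groth.Agent.H8NilSection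

section Algebra

/-- Nilpotent elements killed by all nilpotent elements. -/
def canon (R : Type u) [CommRing R] : Ideal R :=
  nilradical R ⊓ Submodule.annihilator (nilradical R)

variable {R L : Type u} [CommRing R] [CommRing L]

lemma mem_canon {x : R} :
    x ∈ canon R ↔ IsNilpotent x ∧ ∀ z, IsNilpotent z → x * z = 0 := by
  simp [canon, mem_nilradical, Submodule.mem_annihilator, Submodule.mem_inf]

lemma mem_canon_equiv (e : R ≃+* L) {x : R} : e x ∈ canon L ↔ x ∈ canon R := by
  simp only [mem_canon, IsNilpotent.map_iff e.injective]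
  refine and_congr_right fun _ => ⟨fun h z hz => ?_, fun h z hz => ?_⟩
  · have := h (e z) ((IsNilpotent.map_iff e.injective).mpr hz)
    rwa [← map_mul, ← map_zero e, e.injective.eq_iff] at this
  · obtain ⟨z, rfl⟩ := e.surjective z
    rw [← map_mul, h z ((IsNilpotent.map_iff e.injective).mp hz), map_zero]

lemma canon_ne_bot [IsNoetherianRing R] (h : ¬ _root_.IsReduced R) : canon R ≠ ⊥ := by
  classical
  obtain ⟨n, hn⟩ : IsNilpotent (nilradical R) :=
    (Ideal.FG.isNilpotent_iff_le_nilradical (IsNoetherian.noetherian _)).mpr le_rfl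
  have hex : ∃ n, nilradical R ^ (n + 1) = ⊥ :=
    ⟨n, le_bot_iff.mp ((Ideal.pow_le_pow_right n.le_succ).trans hn.le)⟩
  have hm := Nat.find_spec hex
  rcases hN : Nat.find hex with _ | m
  · rw [hN] at hm
    exact absurd ⟨fun x hx => by
      have := hm.le (show x ∈ nilradical R ^ (0 + 1) by simpa using mem_nilradical.mpr hx)
      simpa using this⟩ h
  · rw [hN] at hm
    intro hc
    apply Nat.find_min hex (show m < Nat.find hex by omega)
    rw [eq_bot_iff, ← hc]
    intro x hx
    refine mem_canon.mpr ⟨mem_nilradical.mp (Ideal.pow_le_self (Nat.succ_ne_zero m) hx),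
      fun z hz => ?_⟩
    have : x * z ∈ nilradical R ^ (m + 1 + 1) := by
      rw [pow_succ]
      exact Ideal.mul_mem_mul hx (mem_nilradical.mpr hz)
    rwa [hm, Ideal.mem_bot] at this

variable [Algebra R L] (p : Ideal R) [p.IsPrime] [IsLocalization.AtPrime L p]

include p in
lemma algebraMap_mem_canon {x : R} (hx : x ∈ canon R) : algebraMap R L x ∈ canon L := by
  rw [mem_canon] at hx ⊢
  refine ⟨hx.1.map _, fun w hw => ?_⟩
  obtain ⟨⟨a, s⟩, ha⟩ := IsLocalization.surj p.primeCompl w
  obtain ⟨n, hn⟩ : IsNilpotent (algebraMap R L a) := ha ▸ (Commute.all _ _).isNilpotent_mul_right hw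
  rw [← map_pow, IsLocalization.map_eq_zero_iff p.primeCompl] at hn
  obtain ⟨t, ht⟩ := hn
  have hta : IsNilpotent ((t : R) * a) := ⟨n + 1, by
    rw [mul_pow, pow_succ a, pow_succ (t : R)]
    linear_combination ((t : R) ^ n * a) * ht⟩
  have h0 : algebraMap R L x * algebraMap R L a = 0 := by
    rw [← (IsLocalization.map_units L t).mul_right_inj, mul_zero, ← map_mul, ← map_mul,
      ← map_zero (algebraMap R L)]
    congr 1
    rw [← hx.2 _ hta]
    ring
  rw [← ha, ← _root_.mul_assoc] at h0
  exact (IsLocalization.map_units L s).mul_left_eq_zero.mp h0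

include p in
lemma exists_mem_canon [IsNoetherianRing R] {y : L} (hy : y ∈ canon L) :
    ∃ x ∈ canon R, ∃ s : p.primeCompl, algebraMap R L x = y * algebraMap R L s := by
  classical
  rw [mem_canon] at hy
  obtain ⟨⟨a, s⟩, ha⟩ := IsLocalization.surj p.primeCompl y
  obtain ⟨n, hn⟩ : IsNilpotent (algebraMap R L a) :=
    ha ▸ (Commute.all _ _).isNilpotent_mul_right hy.1
  rw [← map_pow, IsLocalization.map_eq_zero_iff p.primeCompl] at hn
  obtain ⟨t, ht⟩ := hn
  obtain ⟨T, hT⟩ := IsNoetherian.noetherian (nilradical R)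
  have hz : ∀ z ∈ T, ∃ u : p.primeCompl, (u : R) * (a * z) = 0 := fun z hzT => by
    rw [← IsLocalization.map_eq_zero_iff p.primeCompl L, map_mul, ← ha]
    rw [mul_right_comm, hy.2 _ ((mem_nilradical.mp (hT ▸ Submodule.subset_span hzT)).map _),
      zero_mul]
  choose u hu using hz
  let v : p.primeCompl := ∏ z ∈ T.attach, u z.1 z.2
  have hv : ∀ z, IsNilpotent z → (v : R) * (a * z) = 0 := fun z hzn => by
    have hz' : z ∈ Submodule.span R (T : Set R) := hT.symm ▸ mem_nilradical.mpr hzn
    induction hz' using Submodule.span_induction with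
    | mem x hx =>
      obtain ⟨w, hw⟩ : u x hx ∣ v :=
        Finset.dvd_prod_of_mem (fun z : T => u z.1 z.2) (Finset.mem_attach T ⟨x, hx⟩)
      rw [hw, Submonoid.coe_mul]
      linear_combination (w : R) * hu x hx
    | zero => simp
    | add x y hx hy ihx ihy =>
      rw [mul_add, mul_add, ihx (mem_nilradical.mp (hT ▸ hx)), ihy (mem_nilradical.mp (hT ▸ hy)),
        add_zero]
    | smul r x hx ihx =>
      rw [smul_eq_mul]
      linear_combination r * ihx (mem_nilradical.mp (hT ▸ hx))
  refine ⟨(v : R) * t * a, mem_canon.mpr ⟨⟨n + 1, ?_⟩, fun z hz => ?_⟩, v * t * s, ?_⟩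
  · rw [mul_pow, mul_pow, pow_succ a, pow_succ (t : R)]
    linear_combination ((v : R) ^ (n + 1) * (t : R) ^ n * a) * ht
  · linear_combination (t : R) * hv z hz
  · simp only [Submonoid.coe_mul, map_mul, ← ha]
    ring

lemma mem_canon_of_forall {x : R}
    (hx : ∀ q : Ideal R, ∀ hq : q.IsMaximal, ∃ (L : Type u) (_ : CommRing L) (_ : Algebra R L)
      (_ : IsLocalization (Ideal.primeCompl q (hp := hq.isPrime)) L),
      algebraMap R L x ∈ canon L) : x ∈ canon R := by
  refine mem_canon.mpr ⟨?_, fun z hz => ?_⟩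
  · rw [← mem_nilradical, nilradical_eq_sInf, Ideal.mem_sInf]
    intro P hP
    obtain ⟨q, hq, hPq⟩ := Ideal.exists_le_maximal P hP.ne_top
    obtain ⟨L, _, _, _, hxL⟩ := hx q hq
    obtain ⟨n, hn⟩ := (mem_canon.mp hxL).1
    rw [← map_pow, IsLocalization.map_eq_zero_iff (Ideal.primeCompl q (hp := hq.isPrime))] at hn
    obtain ⟨⟨t, ht⟩, htn⟩ := hn
    rcases hP.mem_or_mem (show t * x ^ n ∈ P from htn.symm ▸ P.zero_mem) with h | h
    · exact absurd (hPq h) ht
    · exact hP.mem_of_pow_mem n h
  · by_contra hne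
    have htop : Submodule.colon (⊥ : Submodule R R) {x * z} ≠ ⊤ := fun h => hne (by
      have h1 : (1 : R) ∈ Submodule.colon (⊥ : Submodule R R) {x * z} := by rw [h]; trivial
      simpa [Submodule.mem_colon_singleton] using h1)
    obtain ⟨q, hq, hle⟩ := Ideal.exists_le_maximal _ htop
    obtain ⟨L, _, _, _, hxL⟩ := hx q hq
    have h0 : algebraMap R L (x * z) = 0 := by
      rw [map_mul]
      exact (mem_canon.mp hxL).2 _ (hz.map _)
    rw [IsLocalization.map_eq_zero_iff (Ideal.primeCompl q (hp := hq.isPrime))] at h0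
    obtain ⟨⟨t, ht⟩, htn⟩ := h0
    exact ht (hle (by simpa [Submodule.mem_colon_singleton] using htn))

lemma eq_bot_of_le_smul {M : Type u} [AddCommGroup M] [Module R M] (N : Submodule R M) (hN : N.FG)
    (h : ∀ q : Ideal R, q.IsMaximal → N ≤ q • N) : N = ⊥ := by
  by_contra hne
  have htop : N.annihilator ≠ ⊤ := fun h => hne (Submodule.annihilator_eq_top_iff.mp h)
  obtain ⟨q, hq, hle⟩ := Ideal.exists_le_maximal _ htop
  obtain ⟨r, hr1, hr⟩ :=
    Submodule.exists_sub_one_mem_and_smul_eq_zero_of_fg_of_le_smul q N hN (h q hq)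
  apply hq.ne_top
  rw [Ideal.eq_top_iff_one]
  have : r ∈ q := hle (Submodule.mem_annihilator.mpr hr)
  simpa using q.sub_mem this hr1

lemma exists_algHom {k : Type u} [Field k] [IsAlgClosed k] [Algebra k R] [Algebra.FiniteType k R]
    (q : Ideal R) (hq : q.IsMaximal) : ∃ χ : R →ₐ[k] k, ∀ r, χ r = 0 ↔ r ∈ q := by
  letI := Ideal.Quotient.field q
  haveI : Algebra.FiniteType k (R ⧸ q) := .of_surjective (Ideal.Quotient.mkₐ k q)
    Ideal.Quotient.mk_surjective
  haveI : Module.Finite k (R ⧸ q) := finite_of_finite_type_of_isJacobsonRing k (R ⧸ q)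
  let e : k ≃ₐ[k] (R ⧸ q) := AlgEquiv.ofBijective (Algebra.ofId k (R ⧸ q))
    IsAlgClosed.algebraMap_bijective_of_isIntegral
  exact ⟨e.symm.toAlgHom.comp (Ideal.Quotient.mkₐ k q), fun r => by
    simp [Ideal.Quotient.eq_zero_iff_mem]⟩

/-- A family of fibre maps of a trivial bundle determines its constant sections. -/
theorem existsUnique_of_fibres {k A : Type u} [Field k] [IsAlgClosed k] [Algebra k R]
    [Algebra.FiniteType k R] [IsNoetherianRing R] [CommRing A] [Algebra k A]
    (θ : (R →ₐ[k] k) → (R →ₐ[k] A)) (W : Submodule k A) [FiniteDimensional k W]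
    (h1 : ∀ χ r, ∀ w ∈ W, θ χ r * w = χ r • w)
    (h2 : ∀ χ, ∀ x ∈ canon R, θ χ x ∈ W)
    (h3 : ∀ χ, ∀ w ∈ W, ∃ x ∈ canon R, θ χ x = w)
    (h4 : ∀ χ, ∀ x ∈ canon R, θ χ x = 0 → x ∈ RingHom.ker χ.toRingHom • canon R)
    (h5 : ∀ (l : A →ₗ[k] k) (r : R), ∃ c : R, ∀ χ, χ c = l (θ χ r))
    (w : A) (hw : w ∈ W) :
    ∃! x : R, x ∈ canon R ∧ ∀ χ, θ χ x = w := by
  classical
  let b := Module.finBasis k W
  choose l hl using fun i => LinearMap.exists_extend (b.coord i)
  have hli : ∀ i (v : A) (hv : v ∈ W), l i v = b.coord i ⟨v, hv⟩ := fun i v hv =>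
    congrArg (fun g => g ⟨v, hv⟩) (hl i)
  choose c hc using fun i r => h5 (l i) r
  haveI : IsJacobsonRing R := isJacobsonRing_of_finiteType (A := k) (B := R)
  have hnil : ∀ a : R, (∀ χ : R →ₐ[k] k, χ a = 0) → a ∈ nilradical R := fun a ha => by
    rw [nilradical, show (0 : Ideal R) = ⊥ from rfl, Ideal.radical_eq_jacobson,
      Ideal.jacobson, Ideal.mem_sInf]
    rintro q ⟨-, hq⟩
    obtain ⟨χ, hχ⟩ := exists_algHom (k := k) q hq
    exact (hχ a).mp (ha χ)
  have hext : ∀ {u v : Fin (Module.finrank k W) → R ⧸ nilradical R},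
      (∀ i a b', Ideal.Quotient.mk _ a = u i → Ideal.Quotient.mk _ b' = v i →
        ∀ χ : R →ₐ[k] k, χ a = χ b') → u = v := fun {u v} h => funext fun i => by
    obtain ⟨a, ha⟩ := Ideal.Quotient.mk_surjective (u i)
    obtain ⟨b', hb⟩ := Ideal.Quotient.mk_surjective (v i)
    rw [← ha, ← hb, Ideal.Quotient.eq]
    exact hnil _ fun χ => by rw [map_sub, h i a b' ha hb χ, sub_self]
  have hsame : ∀ {a b' : R}, Ideal.Quotient.mk (nilradical R) a = Ideal.Quotient.mk _ b' →
      ∀ χ : R →ₐ[k] k, χ a = χ b' := fun {a b'} h χ => by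
    rw [← sub_eq_zero, ← map_sub]
    exact ((mem_nilradical.mp (Ideal.Quotient.eq.mp h)).map χ).eq_zero
  let C : canon R →ₗ[R] (Fin (Module.finrank k W) → R ⧸ nilradical R) :=
    { toFun := fun x i => Ideal.Quotient.mk _ (c i x)
      map_add' := fun x y => hext fun i a b' ha hb χ => by
        simp only [Pi.add_apply, ← map_add] at hb
        rw [hsame ha χ, hsame hb χ, map_add, hc, hc, hc, Submodule.coe_add, map_add, map_add]
      map_smul' := fun r x => hext fun i a b' ha hb χ => by
        simp only [Pi.smul_apply, RingHom.id_apply, Algebra.smul_def, Ideal.Quotient.algebraMap_eq,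
          ← map_mul] at hb
        rw [hsame ha χ, hsame hb χ, map_mul, hc, hc, Submodule.coe_smul, smul_eq_mul, map_mul,
          h1 χ r _ (h2 χ x x.2), map_smul, smul_eq_mul] }
  have hCx : ∀ (x : canon R) i a, Ideal.Quotient.mk _ a = C x i →
      ∀ χ : R →ₐ[k] k, χ a = b.coord i ⟨θ χ x, h2 χ x x.2⟩ := fun x i a ha χ => by
    rw [hsame ha χ, hc, hli]
  have hsurj : LinearMap.range C = ⊤ := by
    suffices h : (⊤ : Submodule R (_ ⧸ LinearMap.range C)) = ⊥ from
      eq_top_iff.mpr fun v _ => (Submodule.Quotient.mk_eq_zero _).mp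
        ((Submodule.mem_bot R).mp (h ▸ (Submodule.mem_top : Submodule.Quotient.mk v ∈ _)))
    refine eq_bot_of_le_smul _ Module.Finite.fg_top fun q hq => ?_
    obtain ⟨χ, hχ⟩ := exists_algHom (k := k) q hq
    rintro v -
    obtain ⟨v, rfl⟩ := Submodule.Quotient.mk_surjective _ v
    choose a ha using fun i => Ideal.Quotient.mk_surjective (v i)
    obtain ⟨x, hx, hxv⟩ := h3 χ (∑ i, χ (a i) • (b i : A))
      (Submodule.sum_mem _ fun i _ => Submodule.smul_mem _ _ (b i).2)
    choose d hd using fun i => Ideal.Quotient.mk_surjective (C ⟨x, hx⟩ i)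
    have e : Submodule.Quotient.mk v =
        ∑ i, (a i - d i) • Submodule.Quotient.mk (p := LinearMap.range C)
          (Pi.single i (1 : R ⧸ nilradical R)) := by
      have h0 : Submodule.Quotient.mk (p := LinearMap.range C) (C ⟨x, hx⟩) = 0 :=
        (Submodule.Quotient.mk_eq_zero _).mpr ⟨_, rfl⟩
      rw [show Submodule.Quotient.mk v = (LinearMap.range C).mkQ (v - C ⟨x, hx⟩) by
        rw [map_sub]; simp [h0]]
      rw [show v - C ⟨x, hx⟩ = ∑ i, (a i - d i) • Pi.single i (1 : R ⧸ nilradical R) by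
        ext j
        rw [Pi.sub_apply, ← ha, ← hd, ← map_sub, Finset.sum_apply, Finset.sum_eq_single j]
        · simp [Algebra.smul_def]
        · intro i _ hij; simp [hij.symm]
        · simp]
      simp
    rw [e]
    refine Submodule.sum_mem _ fun i _ => Submodule.smul_mem_smul ?_ Submodule.mem_top
    rw [← hχ, map_sub, hCx ⟨x, hx⟩ i (d i) (hd i) χ, sub_eq_zero]
    have : (⟨θ χ x, h2 χ x hx⟩ : W) = ∑ i, χ (a i) • b i := Subtype.ext (by simp [hxv])
    rw [this]
    simp [Module.Basis.coord_apply, Finsupp.single_apply]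
  choose ξ hξ using fun i => LinearMap.range_eq_top.mp hsurj (Pi.single i (1 : R ⧸ nilradical R))
  let g : Fin (Module.finrank k W) → (R ⧸ nilradical R) →ₗ[R] canon R := fun i =>
    Submodule.liftQ _ (LinearMap.toSpanSingleton R _ (ξ i)) fun n hn => by
      rw [LinearMap.mem_ker, LinearMap.toSpanSingleton_apply]
      refine Subtype.ext ?_
      rw [Submodule.coe_smul, smul_eq_mul, mul_comm]
      exact (mem_canon.mp (ξ i).2).2 n (mem_nilradical.mp hn)
  let S : (Fin (Module.finrank k W) → R ⧸ nilradical R) →ₗ[R] canon R :=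
    ∑ i, (g i).comp (LinearMap.proj i)
  have hCS : ∀ v, C (S v) = v := fun v => by
    choose a ha using fun i => Ideal.Quotient.mk_surjective (v i)
    have : S v = ∑ i, a i • ξ i := by
      simp only [S, LinearMap.sum_apply, LinearMap.comp_apply, LinearMap.proj_apply, ← ha]
      rfl
    rw [this, map_sum]
    ext j
    rw [Finset.sum_apply, Finset.sum_eq_single j]
    · simp [hξ, ← ha, Algebra.smul_def]
    · intro i _ hij; simp [hξ, hij.symm]
    · simp
  -- injectivity
  have hinj : ∀ x : canon R, (∀ χ, θ χ x = 0) → x = 0 := by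
    let P : canon R →ₗ[R] canon R := LinearMap.id - S.comp C
    have hP : LinearMap.range P = ⊥ := by
      refine eq_bot_of_le_smul _ (IsNoetherian.noetherian _) fun q hq => ?_
      rintro _ ⟨x, rfl⟩
      obtain ⟨χ, hχ⟩ := exists_algHom (k := k) q hq
      have hC0 : C (P x) = 0 := by simp [P, hCS]
      have hθ : θ χ (P x) = 0 := by
        have : (⟨θ χ (P x), h2 χ _ (P x).2⟩ : W) = 0 := b.ext_elem fun i => by
          rw [map_zero, Finsupp.zero_apply, ← Module.Basis.coord_apply,
            ← hCx (P x) i 0 (by rw [hC0, map_zero]; rfl) χ, map_zero]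
        exact congrArg Subtype.val this
      have hmem : (P x : R) ∈ q * canon R := by
        have := h4 χ _ (P x).2 hθ
        rwa [show RingHom.ker χ.toRingHom = q from Ideal.ext fun r => hχ r] at this
      have hmem' : P x ∈ q • (⊤ : Submodule R (canon R)) := by
        rw [Submodule.mem_smul_top_iff]
        exact hmem
      have h := Submodule.mem_map_of_mem (f := P) hmem'
      rw [Submodule.map_smul'', Submodule.map_top] at h
      rwa [show P (P x) = P x by simp [P, hCS]] at h
    intro x hx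
    have hC0 : C x = 0 := hext fun i a b' ha hb χ => by
      rw [hCx x i a ha χ, hsame (hb.trans (map_zero _).symm) χ, map_zero]
      rw [show (⟨θ χ x, h2 χ x x.2⟩ : W) = 0 from Subtype.ext (hx χ), map_zero]
    have h : P x ∈ LinearMap.range P := ⟨x, rfl⟩
    rw [hP, Submodule.mem_bot] at h
    simpa [P, hC0] using h
  let v : Fin (Module.finrank k W) → R ⧸ nilradical R := fun i =>
    Ideal.Quotient.mk _ (algebraMap k R (b.coord i ⟨w, hw⟩))
  refine ⟨S v, ⟨(S v).2, fun χ => ?_⟩, fun x hx => ?_⟩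
  · have : (⟨θ χ (S v), h2 χ _ (S v).2⟩ : W) = ⟨w, hw⟩ := b.ext_elem fun i => by
      rw [← Module.Basis.coord_apply, ← hCx (S v) i (algebraMap k R (b.coord i ⟨w, hw⟩))
        (congrFun (hCS v) i).symm χ, AlgHom.commutes, ← Module.Basis.coord_apply]
      rfl
    exact congrArg Subtype.val this
  · have := hinj (⟨x, hx.1⟩ - S v) fun χ => by
      simp only [Submodule.coe_sub, map_sub, hx.2 χ, sub_eq_zero]
      have : (⟨θ χ (S v), h2 χ _ (S v).2⟩ : W) = ⟨w, hw⟩ := b.ext_elem fun i => by
        rw [← Module.Basis.coord_apply, ← hCx (S v) i (algebraMap k R (b.coord i ⟨w, hw⟩))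
          (congrFun (hCS v) i).symm χ, AlgHom.commutes, ← Module.Basis.coord_apply]
        rfl
      exact (congrArg Subtype.val this).symm
    exact congrArg Subtype.val (sub_eq_zero.mp this)

lemma exists_inf_le [IsNoetherianRing R] (m M : Ideal R) :
    ∃ t : ℕ, M ⊓ (m * M ⊔ m ^ (t + 1)) ≤ m * M := by
  obtain ⟨t, ht⟩ := Ideal.exists_pow_inf_eq_pow_smul (R := R) (M := R) m M
  refine ⟨t, ?_⟩
  rintro x ⟨hxM, hxI⟩
  obtain ⟨a, ha, b, hb, rfl⟩ := Submodule.mem_sup.mp hxI
  refine add_mem ha ?_
  have hbM : b ∈ M := by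
    have := M.sub_mem hxM (Ideal.mul_le_right (I := m) (J := M) ha)
    rwa [add_sub_cancel_left] at this
  have hb' : b ∈ m ^ (t + 1) • (⊤ : Submodule R R) ⊓ M :=
    ⟨by simpa [smul_eq_mul] using hb, hbM⟩
  rw [ht (t + 1) (by omega), add_tsub_cancel_left, pow_one] at hb'
  exact (Submodule.smul_mono le_rfl inf_le_right : _ ≤ m • M) hb'

end Algebra

section Geometry

variable {k : Type u} [Field k]

local notation "Ov" => Over (Spec (CommRingCat.of k))

/-- The point of `N` attached to a character of an affine open. -/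
noncomputable def pt (N : Ov) {U : N.left.Opens} (hU : IsAffineOpen U) [Algebra k Γ(N.left, U)]
    (hR : Spec.map (CommRingCat.ofHom (algebraMap k Γ(N.left, U))) = hU.fromSpec ≫ N.hom)
    (χ : Γ(N.left, U) →ₐ[k] k) : 𝟙_ Ov ⟶ N :=
  Over.homMk (Spec.map (CommRingCat.ofHom χ.toRingHom) ≫ hU.fromSpec) (by
    show (Spec.map (CommRingCat.ofHom χ.toRingHom) ≫ hU.fromSpec) ≫ N.hom = 𝟙 _
    rw [Category.assoc, ← hR, ← Spec.map_comp, ← CommRingCat.ofHom_comp, ← Spec.map_id]
    congr 1
    ext c
    exact χ.commutes c)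

set_option backward.isDefEq.respectTransparency false in
/-- Translates of an infinitesimal neighbourhood of the identity, computed on an affine open. -/
theorem exists_theta (N : Ov) [GrpObj N] {A : Type u} [CommRing A] [Algebra k A] (ε : A →ₐ[k] k)
    (hε : ∀ a, ε a = 0 → IsNilpotent a)
    (z : Over.mk (Spec.map (CommRingCat.ofHom (algebraMap k A))) ⟶ N)
    (hz : Spec.map (CommRingCat.ofHom ε.toRingHom) ≫ z.left = η[N].left)
    {U : N.left.Opens} (hU : IsAffineOpen U) [Algebra k Γ(N.left, U)]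
    (hR : Spec.map (CommRingCat.ofHom (algebraMap k Γ(N.left, U))) = hU.fromSpec ≫ N.hom) :
    ∃ θ : (Γ(N.left, U) →ₐ[k] k) → (Γ(N.left, U) →ₐ[k] A),
      (∀ χ, Spec.map (CommRingCat.ofHom (θ χ).toRingHom) ≫ hU.fromSpec =
        (z * (toUnit _ ≫ pt N hU hR χ)).left) ∧
      (∀ χ r, ε (θ χ r) = χ r) ∧
      ∀ (l : A →ₗ[k] k) (r : Γ(N.left, U)), ∃ c, ∀ χ : Γ(N.left, U) →ₐ[k] k,
        χ c = l (θ χ r) := by
  let R := Γ(N.left, U)
  let RA := R ⊗[k] A
  have hcm : ∀ {B C : Type u} [CommRing B] [CommRing C] [Algebra k B] [Algebra k C]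
      (φ : B →ₐ[k] C), CommRingCat.ofHom (algebraMap k B) ≫ CommRingCat.ofHom φ.toRingHom =
        CommRingCat.ofHom (algebraMap k C) := by
    intro B C _ _ _ _ φ
    ext c
    exact φ.commutes c
  let PA : Ov := Over.mk (Spec.map (CommRingCat.ofHom (algebraMap k A)))
  let P : Ov := Over.mk (Spec.map (CommRingCat.ofHom (algebraMap k R)))
  let T : Ov := Over.mk (Spec.map (CommRingCat.ofHom (algebraMap k RA)))
  let o : 𝟙_ Ov ⟶ PA := Over.homMk (Spec.map (CommRingCat.ofHom ε.toRingHom)) (by
    show Spec.map (CommRingCat.ofHom ε.toRingHom) ≫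
      Spec.map (CommRingCat.ofHom (algebraMap k A)) = 𝟙 _
    rw [← Spec.map_comp, hcm, ← Spec.map_id]
    rfl)
  let h : P ⟶ N := Over.homMk hU.fromSpec hR.symm
  let p1 : T ⟶ P := Over.homMk
    (Spec.map (CommRingCat.ofHom
      (Algebra.TensorProduct.includeLeft : R →ₐ[k] RA).toRingHom)) (by
      simp only [T, P, Over.mk_hom]
      rw [← Spec.map_comp, hcm])
  let p2 : T ⟶ PA := Over.homMk
    (Spec.map (CommRingCat.ofHom
      (Algebra.TensorProduct.includeRight : A →ₐ[k] RA).toRingHom)) (by
      simp only [T, PA, Over.mk_hom]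
      rw [← Spec.map_comp, hcm])
  let g : T ⟶ N := (p2 ≫ z) * (p1 ≫ h)
  let red : RA →ₐ[k] R := Algebra.TensorProduct.lift (AlgHom.id k R)
    ((Algebra.ofId k R).comp ε) (fun _ _ => Commute.all _ _)
  have hrd : ∀ (r : R) (v : A), red (r ⊗ₜ[k] v) = r * algebraMap k R (ε v) := fun r v =>
    Algebra.TensorProduct.lift_tmul _ _ _ r v
  let s : P ⟶ T := Over.homMk (Spec.map (CommRingCat.ofHom red.toRingHom)) (by
    simp only [T, P, Over.mk_hom]
    rw [← Spec.map_comp, hcm])
  have hs1 : s ≫ p1 = 𝟙 P := by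
    apply Over.OverMorphism.ext
    simp only [s, p1, Over.comp_left, Over.homMk_left, ← Spec.map_comp, ← CommRingCat.ofHom_comp]
    refine Eq.trans ?_ (Spec.map_id _)
    congr 1
    ext r
    refine (hrd r 1).trans ?_
    rw [map_one, map_one, _root_.mul_one]
    rfl
  have hs2 : s ≫ p2 = toUnit P ≫ o := by
    apply Over.OverMorphism.ext
    simp only [s, p2, o, Over.comp_left, Over.homMk_left, ← Spec.map_comp,
      ← CommRingCat.ofHom_comp, Over.toUnit_left]
    show _ = Spec.map (CommRingCat.ofHom (algebraMap k R)) ≫ _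
    rw [← Spec.map_comp, ← CommRingCat.ofHom_comp]
    congr 1
    ext a
    refine (hrd 1 a).trans ?_
    rw [_root_.one_mul]
    rfl
  have ho : o ≫ z = 1 := by
    rw [Hom.one_def, toUnit_unit, Category.id_comp]
    exact Over.OverMorphism.ext hz
  have hsg : s ≫ g = h := by
    simp only [g, MonObj.comp_mul, reassoc_of% hs1, reassoc_of% hs2, ho, MonObj.comp_one,
      _root_.one_mul]
  have hnil : ∀ a : RA, red a = 0 → IsNilpotent a := by
    intro a ha
    have key : a - red a ⊗ₜ[k] (1 : A) ∈ nilradical RA := by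
      clear ha
      induction a using TensorProduct.induction_on with
      | zero => simp
      | tmul r v =>
        have e : r ⊗ₜ[k] v - red (r ⊗ₜ[k] v) ⊗ₜ[k] (1 : A) =
            r ⊗ₜ[k] (1 : A) * (1 : R) ⊗ₜ[k] (v - algebraMap k A (ε v)) := by
          rw [Algebra.TensorProduct.tmul_mul_tmul, _root_.mul_one, _root_.one_mul,
            TensorProduct.tmul_sub]
          congr 1
          rw [hrd, Algebra.algebraMap_eq_smul_one, Algebra.algebraMap_eq_smul_one,
            TensorProduct.tmul_smul, mul_smul_comm, _root_.mul_one, TensorProduct.smul_tmul']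
        rw [e]
        exact Ideal.mul_mem_left _ _ (mem_nilradical.mpr
          ((hε _ (by simp)).map
            (Algebra.TensorProduct.includeRight : A →ₐ[k] RA)))
      | add x y hx hy =>
        have := add_mem hx hy
        rwa [sub_add_sub_comm, ← TensorProduct.add_tmul, ← map_add] at this
    rw [ha, TensorProduct.zero_tmul, sub_zero] at key
    exact mem_nilradical.mp key
  have hsurj : Function.Surjective s.left := by
    intro q
    have hred : Function.Surjective red.toRingHom := fun r =>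
      ⟨r ⊗ₜ[k] 1, (hrd r 1).trans (by rw [map_one, map_one, _root_.mul_one])⟩
    have : q ∈ Set.range (PrimeSpectrum.comap red.toRingHom) := by
      rw [range_comap_of_surjective _ _ hred]
      exact fun a ha => nilradical_le_prime q.asIdeal (mem_nilradical.mpr (hnil a ha))
    obtain ⟨p, hp⟩ := this
    exact ⟨p, hp⟩
  have hrange : Set.range g.left ⊆ Set.range hU.fromSpec := by
    rintro _ ⟨q, rfl⟩
    obtain ⟨p, rfl⟩ := hsurj q
    exact ⟨p, by rw [← Scheme.Hom.comp_apply, ← Over.comp_left, hsg]; rfl⟩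
  let Φ : CommRingCat.of R ⟶ CommRingCat.of RA :=
    Spec.preimage (IsOpenImmersion.lift hU.fromSpec g.left hrange)
  have hΦ : Spec.map Φ ≫ hU.fromSpec = g.left := by
    rw [Spec.map_preimage, IsOpenImmersion.lift_fac]
  have hΦc : ∀ c, Φ.hom (algebraMap k R c) = algebraMap k RA c := by
    have : CommRingCat.ofHom (algebraMap k R) ≫ Φ = CommRingCat.ofHom (algebraMap k RA) := by
      apply Spec.map_injective
      rw [Spec.map_comp, hR, ← Category.assoc, hΦ]
      exact Over.w g
    exact fun c => congrArg (fun m => m.hom c) this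
  let Φa : R →ₐ[k] RA := { Φ.hom with commutes' := hΦc }
  let sp : (R →ₐ[k] k) → (RA →ₐ[k] A) := fun χ =>
    Algebra.TensorProduct.lift ((Algebra.ofId k A).comp χ) (AlgHom.id k A)
      (fun _ _ => Commute.all _ _)
  have hsp : ∀ χ (r : R) (v : A), sp χ (r ⊗ₜ[k] v) = algebraMap k A (χ r) * v := fun χ r v =>
    Algebra.TensorProduct.lift_tmul _ _ _ r v
  refine ⟨fun χ => (sp χ).comp Φa, fun χ => ?_, fun χ r => ?_, fun l r => ?_⟩
  · let t : PA ⟶ T := Over.homMk (Spec.map (CommRingCat.ofHom (sp χ).toRingHom)) (by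
      simp only [T, PA, Over.mk_hom]
      rw [← Spec.map_comp, hcm])
    have ht2 : t ≫ p2 = 𝟙 PA := by
      apply Over.OverMorphism.ext
      simp only [t, p2, Over.comp_left, Over.homMk_left, ← Spec.map_comp,
        ← CommRingCat.ofHom_comp]
      refine Eq.trans ?_ (Spec.map_id _)
      congr 1
      ext a
      refine (hsp χ 1 a).trans ?_
      rw [map_one, map_one, _root_.one_mul]
      rfl
    have ht1 : t ≫ p1 ≫ h = toUnit PA ≫ pt N hU hR χ := by
      apply Over.OverMorphism.ext
      simp only [t, p1, h, pt, Over.comp_left, Over.homMk_left, ← Spec.map_comp_assoc,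
        ← CommRingCat.ofHom_comp, Over.toUnit_left]
      show _ = Spec.map (CommRingCat.ofHom (algebraMap k A)) ≫ _
      rw [← Spec.map_comp_assoc, ← CommRingCat.ofHom_comp]
      congr 2
      ext r
      refine (hsp χ r 1).trans ?_
      rw [_root_.mul_one]
      rfl
    have e : t ≫ g = z * (toUnit PA ≫ pt N hU hR χ) := by
      simp only [g, MonObj.comp_mul, reassoc_of% ht2, ht1]
    rw [← e, Over.comp_left, ← hΦ]
    show _ = Spec.map (CommRingCat.ofHom (sp χ).toRingHom) ≫ Spec.map Φ ≫ _
    rw [← Spec.map_comp_assoc]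
    rfl
  · have e2 : χ.comp red = ε.comp (sp χ) := Algebra.TensorProduct.ext' fun a v => by
      rw [AlgHom.comp_apply, AlgHom.comp_apply, hrd, hsp, map_mul, map_mul, AlgHom.commutes,
        AlgHom.commutes]
      rfl
    have h3 : red.comp Φa = AlgHom.id k R := by
      have : Φ ≫ CommRingCat.ofHom red.toRingHom = 𝟙 (CommRingCat.of R) := by
        apply Spec.map_injective
        rw [Spec.map_comp, Spec.map_id, ← cancel_mono hU.fromSpec, Category.assoc, hΦ,
          Category.id_comp]
        exact congrArg Over.Hom.left hsg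
      exact AlgHom.ext fun x => congrArg (fun m => m.hom x) this
    show (ε.comp (sp χ)) (Φa r) = χ r
    rw [← e2]
    exact congrArg χ (AlgHom.congr_fun h3 r)
  · refine ⟨TensorProduct.rid k R (LinearMap.lTensor R l (Φa r)), fun χ => ?_⟩
    show _ = l (sp χ (Φa r))
    induction Φa r using TensorProduct.induction_on with
    | zero => simp
    | tmul a v =>
      rw [hsp, LinearMap.lTensor_tmul]
      erw [TensorProduct.rid_tmul]
      rw [map_smul, ← Algebra.smul_def, map_smul, smul_eq_mul, smul_eq_mul, _root_.mul_comm]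
    | add x y hx hy => simp only [map_add, hx, hy]

set_option backward.isDefEq.respectTransparency false in
set_option maxHeartbeats 800000 in
/-- A group scheme over an algebraically closed field without nonzero nilpotent global functions
is reduced. -/
theorem isReduced_of_isReduced_appTop [IsAlgClosed k] (N : Ov) [GrpObj N]
    [LocallyOfFiniteType N.hom] [CompactSpace N.left] [_root_.IsReduced Γ(N.left, ⊤)] :
    IsReduced N.left := by
  classical
  haveI : IsLocallyNoetherian N.left := LocallyOfFiniteType.isLocallyNoetherian N.hom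
  haveI := LocallyOfFiniteType.jacobsonSpace N.hom
  set e : N.left := η[N].left (IsLocalRing.closedPoint k) with he
  let O := N.left.presheaf.stalk e
  suffices hred : _root_.IsReduced O by
    refine H8Cartier.isReduced_of_closedPoints N.hom fun x hx => ?_
    let x' : 𝟙_ Ov ⟶ N := Over.homMk _ ((pointEquivClosedPoint N.hom).symm ⟨x, hx⟩).2
    let α := GrpObj.mulRight (A := N) x'
    have hα : η[N] ≫ α.hom = x' := by
      have h1 : (η[N] : 𝟙_ _ ⟶ N) = 1 := by simp [Hom.one_def]
      simp [α, comp_lift_assoc]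
      rw [← Hom.mul_def, h1, _root_.one_mul]
    have hα' : α.hom.left e = x := by
      have h2 := congr(($hα).left (IsLocalRing.closedPoint k))
      rw [Over.comp_left] at h2
      refine (Scheme.Hom.comp_apply _ _ _).symm.trans (h2.trans ?_)
      exact pointOfClosedPoint_apply N.hom x hx _
    haveI : IsIso α.hom.left := ((Over.forget _).mapIso α).isIso_hom
    rw [← hα']
    exact isReduced_of_injective
      ((asIso (α.hom.left.stalkMap e)).commRingCatIsoToRingEquiv).toRingHom
      (RingEquiv.injective _)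
  by_contra hred
  -- the infinitesimal neighbourhood
  let al : CommRingCat.of k ⟶ O := Spec.preimage (N.left.fromSpecStalk e ≫ N.hom)
  have hal : Spec.map al = N.left.fromSpecStalk e ≫ N.hom := Spec.map_preimage _
  obtain ⟨res, hres⟩ :=
    H8Cartier.exists_factor (X := N.left) (R := CommRingCat.of k) η[N].left e he.symm
  have hresι : al ≫ res = 𝟙 _ := by
    apply Spec.map_injective
    rw [Spec.map_comp, hal, ← Category.assoc, hres, Spec.map_id]
    exact Over.w η[N]
  letI : Algebra k O := al.hom.toAlgebra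
  let resa : O →ₐ[k] k := { res.hom with commutes' := fun c => congrArg (fun φ => φ.hom c) hresι }
  have hker : ∀ a, resa a = 0 ↔ a ∈ IsLocalRing.maximalIdeal O := fun a => by
    have := RingHom.ker_isMaximal_of_surjective resa.toRingHom fun c => ⟨algebraMap k O c, by simp⟩
    rw [← IsLocalRing.eq_maximalIdeal this]
    exact Iff.rfl
  let M := canon O
  let m := IsLocalRing.maximalIdeal O
  obtain ⟨t, hMI⟩ := exists_inf_le m M
  let I : Ideal O := m * M ⊔ m ^ (t + 1)
  have hIm : I ≤ m := sup_le Ideal.mul_le_left (Ideal.pow_le_self (Nat.succ_ne_zero t))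
  let q : O →ₐ[k] O ⧸ I := Ideal.Quotient.mkₐ k I
  let ε : O ⧸ I →ₐ[k] k := Ideal.Quotient.liftₐ I resa fun a ha => (hker a).mpr (hIm ha)
  have hε : ∀ a, ε a = 0 → IsNilpotent a := by
    intro a ha
    obtain ⟨a, rfl⟩ := Ideal.Quotient.mk_surjective a
    refine ⟨t + 1, ?_⟩
    rw [← map_pow, Ideal.Quotient.eq_zero_iff_mem]
    exact le_sup_right (a := m * M) (Ideal.pow_mem_pow ((hker a).mp ha) _)
  let z : Over.mk (Spec.map (CommRingCat.ofHom (algebraMap k (O ⧸ I)))) ⟶ N :=
    Over.homMk (Spec.map (CommRingCat.ofHom q.toRingHom) ≫ N.left.fromSpecStalk e) (by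
      simp only [Over.mk_hom, Category.assoc, ← hal, ← Spec.map_comp]
      rfl)
  have hz : Spec.map (CommRingCat.ofHom ε.toRingHom) ≫ z.left = η[N].left := by
    rw [← hres]
    show _ ≫ Spec.map _ ≫ _ = _
    rw [← Spec.map_comp_assoc]
    rfl
  let W : Submodule k (O ⧸ I) := (Submodule.restrictScalars k M).map q.toLinearMap
  have hW : ∀ a ∈ M, q a ∈ W := fun a ha => ⟨a, ha, rfl⟩
  have hsmul : ∀ (a : O), ∀ w ∈ W, q a * w = resa a • w := by
    rintro a _ ⟨b, hb, rfl⟩
    show q a * q b = resa a • q b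
    rw [Algebra.smul_def, ← q.commutes, ← map_mul, ← map_mul, ← sub_eq_zero, ← map_sub,
      ← sub_mul]
    refine Ideal.Quotient.eq_zero_iff_mem.mpr (le_sup_left (b := m ^ (t + 1)) ?_)
    exact Ideal.mul_mem_mul ((hker _).mp (by simp)) hb
  haveI : FiniteDimensional k W := by
    obtain ⟨G, hG⟩ := IsNoetherian.noetherian M
    refine ⟨(Submodule.fg_top _).mpr ⟨G.image q, le_antisymm (Submodule.span_le.mpr ?_) ?_⟩⟩
    · intro y hy
      obtain ⟨g, hg, rfl⟩ := Finset.mem_image.mp (Finset.mem_coe.mp hy)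
      exact hW g (hG ▸ Submodule.subset_span hg)
    · rintro _ ⟨b, hb, rfl⟩
      have hb' : b ∈ Submodule.span O (G : Set O) := hG.symm ▸ hb
      induction hb' using Submodule.span_induction with
      | mem x hx => exact Submodule.subset_span (Finset.mem_image_of_mem q hx)
      | zero => simp
      | add x y hx hy ihx ihy =>
        rw [map_add]
        exact add_mem (ihx (hG ▸ hx)) (ihy (hG ▸ hy))
      | smul a x hx ihx =>
        have hxM : x ∈ M := hG ▸ hx
        have := hsmul a (q x) (hW x hxM)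
        show q (a * x) ∈ _
        rw [map_mul, this]
        exact Submodule.smul_mem _ _ (ihx hxM)
  obtain ⟨w₀, hw₀M, hw₀⟩ : ∃ a ∈ M, q a ≠ 0 := by
    by_contra hcon
    push Not at hcon
    apply canon_ne_bot hred
    refine Submodule.eq_bot_of_le_smul_of_le_jacobson_bot m M (IsNoetherian.noetherian _) ?_
      (IsLocalRing.maximalIdeal_le_jacobson _)
    exact fun a ha => hMI ⟨ha, Ideal.Quotient.eq_zero_iff_mem.mp (hcon a ha)⟩
  let w := q w₀
  -- the local sections
  let J := N.left.affineOpens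
  letI alg : ∀ U : J, Algebra k Γ(N.left, U.1) := fun U =>
    (Spec.preimage (U.2.fromSpec ≫ N.hom)).hom.toAlgebra
  have hR : ∀ U : J, Spec.map (CommRingCat.ofHom (algebraMap k Γ(N.left, U.1))) =
      U.2.fromSpec ≫ N.hom := fun U => Spec.map_preimage (U.2.fromSpec ≫ N.hom)
  haveI : ∀ U : J, Algebra.FiniteType k Γ(N.left, U.1) := fun U => by
    have h : LocallyOfFiniteType (Spec.map (CommRingCat.ofHom (algebraMap k Γ(N.left, U.1)))) := by
      rw [hR]; infer_instance
    exact RingHom.finiteType_algebraMap.mp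
      ((HasRingHomProperty.Spec_iff (P := @LocallyOfFiniteType)).mp h)
  choose θ hθ hεθ hlin using fun U : J => exists_theta N ε hε z hz U.2 (hR U)
  have hmem : ∀ (U : J) (x : Γ(N.left, U.1)), x ∈ canon _ →
      ∀ y (hy : y ∈ U.1), N.left.presheaf.germ U.1 y hy x ∈ canon (N.left.presheaf.stalk y) := by
    intro U x hx y hy
    letI := TopCat.Presheaf.algebra_section_stalk N.left.presheaf ⟨y, hy⟩
    haveI := U.2.isLocalization_stalk ⟨y, hy⟩
    exact algebraMap_mem_canon (L := N.left.presheaf.stalk y) (U.2.primeIdealOf ⟨y, hy⟩).asIdeal hx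
  have hres' : ∀ (U V : J) (hVU : V.1 ≤ U.1) (x : Γ(N.left, U.1)), x ∈ canon _ →
      N.left.presheaf.map (homOfLE hVU).op x ∈ canon Γ(N.left, V.1) := by
    intro U V hVU x hx
    let y : ∀ P : Ideal Γ(N.left, V.1), P.IsMaximal → N.left := fun P hP =>
      V.2.fromSpec ⟨P, hP.isPrime⟩
    have hy : ∀ P hP, y P hP ∈ V.1 := fun P hP => by
      rw [← SetLike.mem_coe, ← V.2.range_fromSpec]; exact ⟨_, rfl⟩
    refine mem_canon_of_forall fun P hP => ?_
    refine ⟨N.left.presheaf.stalk (y P hP), inferInstance,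
      TopCat.Presheaf.algebra_section_stalk N.left.presheaf ⟨y P hP, hy P hP⟩,
      V.2.isLocalization_stalk' ⟨P, hP.isPrime⟩ (hy P hP), ?_⟩
    have e := N.left.presheaf.germ_res_apply (homOfLE hVU) (y P hP) (hy P hP) x
    exact e.symm ▸ hmem U x hx _ (hVU (hy P hP))
  have key : ∀ U : J, ∃! x : Γ(N.left, U.1), x ∈ canon _ ∧ ∀ χ, θ U χ x = w := by
    intro U
    haveI : IsNoetherianRing Γ(N.left, U.1) := IsLocallyNoetherian.component_noetherian U
    have hloc : ∀ χ : Γ(N.left, U.1) →ₐ[k] k, ∃ (L : CommRingCat.{u})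
        (_ : Algebra Γ(N.left, U.1) L) (P : Ideal Γ(N.left, U.1)) (_ : P.IsPrime)
        (_ : IsLocalization.AtPrime L P) (S : L ≃+* O),
        P = RingHom.ker χ.toRingHom ∧ ∀ r, θ U χ r = q (S (algebraMap _ L r)) := by
      intro χ
      let τ := GrpObj.mulRight (A := N) (pt N U.2 (hR U) χ)
      haveI : IsIso τ.hom.left := ((Over.forget _).mapIso τ).isIso_hom
      have e1 : Spec.map (CommRingCat.ofHom (θ U χ).toRingHom) ≫ U.2.fromSpec =
          (Spec.map (CommRingCat.ofHom q.toRingHom) ≫ Spec.map (τ.hom.left.stalkMap e)) ≫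
            N.left.fromSpecStalk (τ.hom.left e) := by
        rw [hθ, Category.assoc, Scheme.SpecMap_stalkMap_fromSpecStalk, ← Category.assoc]
        have : z * (toUnit _ ≫ pt N U.2 (hR U) χ) = z ≫ τ.hom := by
          simp [τ, GrpObj.mulRight, comp_lift_assoc, Hom.mul_def]
        rw [this]
        rfl
      have hmax : RingHom.ker ε.toRingHom ≠ ⊤ := RingHom.ker_ne_top _
      have hy : τ.hom.left e ∈ U.1 := by
        have hpt := congrArg (fun φ : Spec (CommRingCat.of (O ⧸ I)) ⟶ N.left =>
          φ ((Spec.map (CommRingCat.ofHom ε.toRingHom)) (IsLocalRing.closedPoint k))) e1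
        rw [← SetLike.mem_coe, ← U.2.range_fromSpec]
        refine ⟨_, hpt.trans ?_⟩
        show N.left.fromSpecStalk _ ((Spec.map (τ.hom.left.stalkMap e))
          (PrimeSpectrum.comap q.toRingHom
            (PrimeSpectrum.comap ε.toRingHom (IsLocalRing.closedPoint k)))) = _
        have hcl : PrimeSpectrum.comap q.toRingHom
            (PrimeSpectrum.comap ε.toRingHom (IsLocalRing.closedPoint k)) =
              IsLocalRing.closedPoint O := by
          apply PrimeSpectrum.ext
          ext a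
          show ε (q a) ∈ IsLocalRing.maximalIdeal k ↔ _
          rw [IsLocalRing.maximalIdeal_eq_bot, Ideal.mem_bot]
          exact hker a
        rw [hcl]
        rw [← Scheme.Hom.comp_apply, Scheme.SpecMap_stalkMap_fromSpecStalk,
          Scheme.Hom.comp_apply, Scheme.fromSpecStalk_closedPoint]
      rw [← U.2.fromSpecStalk_eq_fromSpecStalk hy, IsAffineOpen.fromSpecStalk, ← Category.assoc,
        cancel_mono, ← Spec.map_comp, ← Spec.map_comp] at e1
      letI := TopCat.Presheaf.algebra_section_stalk N.left.presheaf ⟨τ.hom.left e, hy⟩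
      haveI := U.2.isLocalization_stalk ⟨τ.hom.left e, hy⟩
      let S := (asIso (τ.hom.left.stalkMap e)).commRingCatIsoToRingEquiv
      have hr : ∀ r, θ U χ r = q (S (algebraMap _ (N.left.presheaf.stalk (τ.hom.left e)) r)) :=
        fun r => congrArg (fun φ => φ.hom r) (Spec.map_injective e1)
      refine ⟨N.left.presheaf.stalk (τ.hom.left e), inferInstance,
        (U.2.primeIdealOf ⟨τ.hom.left e, hy⟩).asIdeal, inferInstance, inferInstance, S, ?_, hr⟩
      ext r
      rw [← IsLocalization.AtPrime.to_map_mem_maximal_iff (N.left.presheaf.stalk (τ.hom.left e))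
        (U.2.primeIdealOf ⟨τ.hom.left e, hy⟩).asIdeal, RingHom.mem_ker, AlgHom.toRingHom_eq_coe,
        RingHom.coe_coe, ← hεθ U χ r, hr, show ε (q _) = resa _ from rfl, hker,
        IsLocalRing.mem_maximalIdeal, IsLocalRing.mem_maximalIdeal, mem_nonunits_iff,
        mem_nonunits_iff, MulEquiv.isUnit_map]
    refine existsUnique_of_fibres (θ U) W ?_ ?_ ?_ ?_ (hlin U) w (hW w₀ hw₀M)
    · intro χ r v hv
      obtain ⟨L, _, P, _, _, S, -, hS⟩ := hloc χ
      rw [← hεθ U χ r, hS, hsmul _ v hv]
      rfl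
    · intro χ x hx
      obtain ⟨L, _, P, _, _, S, -, hS⟩ := hloc χ
      rw [hS]
      exact hW _ ((mem_canon_equiv S).mpr (algebraMap_mem_canon P hx))
    · rintro χ _ ⟨b, hb, rfl⟩
      obtain ⟨L, _, P, _, _, S, hP, hS⟩ := hloc χ
      obtain ⟨x, hx, s, hxs⟩ := exists_mem_canon (L := L) P
        ((mem_canon_equiv S).mp (by rwa [S.apply_symm_apply]) : S.symm b ∈ canon L)
      have hs : χ (s : Γ(N.left, U.1)) ≠ 0 := fun h => s.2 (by
        show (s : Γ(N.left, U.1)) ∈ P
        exact (SetLike.ext_iff.mp hP _).mpr h)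
      refine ⟨(χ (s : Γ(N.left, U.1)))⁻¹ • x, ?_, ?_⟩
      · rw [Algebra.smul_def]; exact Ideal.mul_mem_left _ _ hx
      · have e : θ U χ x = χ (s : Γ(N.left, U.1)) • q b := by
          rw [hS, hxs, map_mul, S.apply_symm_apply, map_mul, mul_comm, ← hS,
            ← hεθ U χ s, hS, hsmul _ _ (hW b hb)]
          rfl
        rw [map_smul, e, smul_smul, inv_mul_cancel₀ hs, one_smul]
        rfl
    · intro χ x hx hx0
      obtain ⟨L, _, P, _, _, S, hP, hS⟩ := hloc χ
      have h1 : S (algebraMap _ L x) ∈ m * M :=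
        hMI ⟨(mem_canon_equiv S).mpr (algebraMap_mem_canon P hx),
          Ideal.Quotient.eq_zero_iff_mem.mp ((hS x).symm.trans hx0)⟩
      rw [← hP]
      haveI := IsLocalization.AtPrime.isLocalRing L P
      have h2 : algebraMap _ L x ∈ (P * canon Γ(N.left, U.1)).map (algebraMap _ L) := by
        rw [Ideal.map_mul, IsLocalization.AtPrime.map_eq_maximalIdeal P L]
        have e1 : canon L ≤ (canon Γ(N.left, U.1)).map (algebraMap _ L) := fun y hy => by
          obtain ⟨a, ha, s, has⟩ := exists_mem_canon P hy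
          exact (Ideal.mul_unit_mem_iff_mem _ (IsLocalization.map_units L s)).mp
            (has ▸ Ideal.mem_map_of_mem _ ha)
        refine Ideal.mul_mono le_rfl e1 ?_
        have : (IsLocalRing.maximalIdeal L * canon L).map S.toRingHom ≥ m * M := by
          rw [Ideal.map_mul]
          refine Ideal.mul_mono (fun a ha => ?_) (fun a ha => ?_)
          · rw [← S.apply_symm_apply a]
            refine Ideal.mem_map_of_mem S.toRingHom ?_
            rw [IsLocalRing.mem_maximalIdeal, mem_nonunits_iff, MulEquiv.isUnit_map]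
            exact ha
          · rw [← S.apply_symm_apply a]
            exact Ideal.mem_map_of_mem S.toRingHom
              ((mem_canon_equiv S).mp (by rwa [S.apply_symm_apply]))
        obtain ⟨a, ha, hae⟩ := (Ideal.mem_map_iff_of_surjective _ S.surjective).mp (this h1)
        rwa [S.injective hae] at ha
      obtain ⟨⟨⟨a, ha⟩, s⟩, has⟩ := (IsLocalization.mem_map_algebraMap_iff P.primeCompl L).mp h2
      rw [← map_mul] at has
      obtain ⟨u, hu⟩ := (IsLocalization.eq_iff_exists P.primeCompl L).mp has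
      have hmax : P.IsMaximal := hP ▸ RingHom.ker_isMaximal_of_surjective _
        fun c => ⟨algebraMap k _ c, χ.commutes c⟩
      obtain ⟨v, hv⟩ := hmax.exists_inv (u * s).2
      obtain ⟨p, hp, hvp⟩ := hv
      have : x = v * ((u : Γ(N.left, U.1)) * a) + p * x := by
        rw [← hu]
        simp only [Submonoid.coe_mul] at hvp
        linear_combination (-x) * hvp
      rw [this]
      exact Ideal.add_mem _ (Ideal.mul_mem_left _ _ (Ideal.mul_mem_left _ _ ha))
        (Ideal.mul_mem_mul hp hx)
  choose sec hsec huniq using key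
  have hrestr : ∀ (U V : J) (hVU : V.1 ≤ U.1),
      N.left.presheaf.map (homOfLE hVU).op (sec U) = sec V := by
    intro U V hVU
    refine huniq V _ ⟨hres' U V hVU _ (hsec U).1, fun χ => ?_⟩
    let r : Γ(N.left, U.1) →ₐ[k] Γ(N.left, V.1) :=
      { (N.left.presheaf.map (homOfLE hVU).op).hom with
        commutes' := fun c => by
          have : CommRingCat.ofHom (algebraMap k Γ(N.left, U.1)) ≫
              N.left.presheaf.map (homOfLE hVU).op =
                CommRingCat.ofHom (algebraMap k Γ(N.left, V.1)) := by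
            apply Spec.map_injective
            rw [Spec.map_comp, hR, hR, ← Category.assoc, IsAffineOpen.map_fromSpec]
          exact congrArg (fun φ => φ.hom c) this }
    have hp : pt N U.2 (hR U) (χ.comp r) = pt N V.2 (hR V) χ := by
      apply Over.OverMorphism.ext
      show Spec.map (CommRingCat.ofHom (χ.comp r).toRingHom) ≫ U.2.fromSpec =
        Spec.map (CommRingCat.ofHom χ.toRingHom) ≫ V.2.fromSpec
      rw [← IsAffineOpen.map_fromSpec U.2 V.2 (homOfLE hVU).op, ← Category.assoc, ← Spec.map_comp]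
      rfl
    have e := (hθ V χ).trans ((congrArg (fun p => (z * (toUnit _ ≫ p)).left) hp.symm).trans
      (hθ U (χ.comp r)).symm)
    rw [← IsAffineOpen.map_fromSpec U.2 V.2 (homOfLE hVU).op, ← Category.assoc, cancel_mono,
      ← Spec.map_comp] at e
    have e' := congrArg (fun φ => φ.hom (sec U)) (Spec.map_injective e)
    exact e'.trans ((hsec U).2 (χ.comp r))
  obtain ⟨σ, hσ, -⟩ := N.left.sheaf.existsUnique_gluing' (fun U : J => U.1) ⊤
    (fun U => homOfLE le_top)
    (fun y _ => by
      obtain ⟨_, ⟨U, hU, rfl⟩, hyU, -⟩ :=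
        N.left.isBasis_affineOpens.exists_subset_of_mem_open (Set.mem_univ y) isOpen_univ
      exact TopologicalSpace.Opens.mem_iSup.mpr ⟨⟨U, hU⟩, hyU⟩)
    sec (fun U V => by
      refine TopCat.Presheaf.section_ext N.left.sheaf _ _ _ fun y hy => ?_
      obtain ⟨_, ⟨W', hW', rfl⟩, hyW, hle⟩ := N.left.isBasis_affineOpens.exists_subset_of_mem_open
        (show y ∈ ((U.1 ⊓ V.1 : N.left.Opens) : Set N.left) from hy) (U.1 ⊓ V.1).isOpen
      have h1 := hrestr U ⟨W', hW'⟩ fun a ha => (hle ha).1
      have h2 := hrestr V ⟨W', hW'⟩ fun a ha => (hle ha).2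
      have h1' := congrArg (N.left.presheaf.germ W' y hyW) h1
      have h2' := congrArg (N.left.presheaf.germ W' y hyW) h2
      rw [TopCat.Presheaf.germ_res_apply] at h1' h2'
      simp only [Scheme.sheaf, TopCat.Presheaf.germ_res_apply]
      exact h1'.trans h2'.symm)
  let σ' : Γ(N.left, ⊤) := σ
  have hσU : ∀ U : J, N.left.presheaf.map (homOfLE (le_top : U.1 ≤ ⊤)).op σ' = sec U := hσ
  have hσ0 : σ' = 0 := by
    haveI : CompactSpace N.left := inferInstance
    refine IsNilpotent.eq_zero ?_
    obtain ⟨F, hF⟩ := isCompact_univ.elim_finite_subcover (fun U : J => (U.1 : Set N.left))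
      (fun U => U.1.isOpen) fun y _ => by
        obtain ⟨_, ⟨U, hU, rfl⟩, hyU, -⟩ :=
          N.left.isBasis_affineOpens.exists_subset_of_mem_open (Set.mem_univ y) isOpen_univ
        exact Set.mem_iUnion.mpr ⟨⟨U, hU⟩, hyU⟩
    choose n hn using fun U : J => (mem_canon.mp (hsec U).1).1
    refine ⟨∑ U ∈ F, n U, TopCat.Presheaf.section_ext N.left.sheaf ⊤ _ _ fun y hy => ?_⟩
    obtain ⟨U, hUF, hyU⟩ := Set.mem_iUnion₂.mp (hF (Set.mem_univ y))
    have h1 : N.left.presheaf.germ U.1 y hyU (sec U) ^ n U = 0 := by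
      rw [← map_pow, hn, map_zero]
    rw [← hσU U, TopCat.Presheaf.germ_res_apply] at h1
    simp only [Scheme.sheaf, map_pow, map_zero]
    exact pow_eq_zero_of_le (Finset.single_le_sum (fun U _ => Nat.zero_le (n U)) hUF) h1
  obtain ⟨_, ⟨U₀, hU₀, rfl⟩, heU, -⟩ :=
    N.left.isBasis_affineOpens.exists_subset_of_mem_open (Set.mem_univ e) isOpen_univ
  let U : J := ⟨U₀, hU₀⟩
  haveI : Nonempty U.1 := ⟨⟨e, heU⟩⟩
  haveI : Nontrivial Γ(N.left, U.1) := Scheme.component_nontrivial N.left U.1
  obtain ⟨P, hP⟩ := Ideal.exists_maximal Γ(N.left, U.1)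
  obtain ⟨χ, -⟩ := exists_algHom (k := k) P hP
  apply hw₀
  show w = 0
  rw [← (hsec U).2 χ, ← hσU U, hσ0, map_zero, map_zero]

end Geometry

end Groth.Agent.H8NilSection
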