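import Mathlib
import Groth.Prelude.Def_Red
import Groth.Agent.Lib.H8NilSection
import Groth.Agent.Lib.H8Affinize

/-!
# Anti-affine group schemes are smooth
-/

set_option autoImplicit false

universe u

open CategoryTheory Limits AlgebraicGeometry MonoidalCategory CartesianMonoidalCategory MonObj

namespace Groth.Agent.H8AntiAffineSmooth

variable {k : Type u} [Field k]

set_option backward.isDefEq.respectTransparency false in
/-- A reduced group scheme over an algebraically closed field is smooth. -/
lemma smooth_of_isReduced [IsAlgClosed k] {G : Scheme.{u}} (f : G ⟶ Spec (CommRingCat.of k))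
    [LocallyOfFiniteType f] [GrpObj (Over.mk f)] [IsReduced G] : Smooth f := by
  have := LocallyOfFiniteType.jacobsonSpace f
  have : Nonempty G := ⟨η[Over.mk f].1 (IsLocalRing.closedPoint _)⟩
  rw [← Scheme.Hom.smoothLocus_eq_top_iff, ← TopologicalSpace.Opens.coe_eq_univ,
    ← not_ne_iff, ← Set.nonempty_compl]
  intro H
  obtain ⟨x, hx, hxc⟩ :=
    nonempty_inter_closedPoints H f.smoothLocus.2.isClosed_compl.isLocallyClosed
  obtain ⟨y, hy : y ∈ f.smoothLocus, hyc⟩ := nonempty_inter_closedPoints
    f.dense_smoothLocus_of_perfectField.nonempty f.smoothLocus.2.isLocallyClosed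
  let x' : 𝟙_ _ ⟶ Over.mk f := Over.homMk _ ((pointEquivClosedPoint f).symm ⟨x, hxc⟩).2
  let y' : 𝟙_ _ ⟶ Over.mk f := Over.homMk _ ((pointEquivClosedPoint f).symm ⟨y, hyc⟩).2
  let α := (GrpObj.mulRight (A := Over.mk f) x').symm ≪≫
    (GrpObj.mulRight (A := Over.mk f) y')
  have hα : x' ≫ α.hom = y' := by
    dsimp only [Iso.trans_hom, Iso.symm_hom, α]
    rw [← Category.assoc, ← Iso.eq_comp_inv]
    simp [comp_lift_assoc]
  have hα' : α.hom.left x = y := by
    simpa [x', y', pointEquivClosedPoint] using congr(($hα).left (IsLocalRing.closedPoint k))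
  rw! [← hα', ← α.hom.left.mem_preimage, Scheme.Hom.preimage_smoothLocus_eq,
    show α.hom.left ≫ f = f from α.hom.w] at hy
  exact hx hy

lemma isIso_appTop {N : Over (Spec (CommRingCat.of k))}
    (hO : Function.Bijective ((Scheme.ΓSpecIso (CommRingCat.of k)).inv ≫ N.hom.appTop).hom) :
    IsIso N.hom.appTop := by
  haveI : IsIso ((Scheme.ΓSpecIso (CommRingCat.of k)).inv ≫ N.hom.appTop) :=
    (ConcreteCategory.isIso_iff_bijective _).mpr hO
  exact IsIso.of_isIso_comp_left (Scheme.ΓSpecIso (CommRingCat.of k)).inv _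

lemma isField_appTop {N : Over (Spec (CommRingCat.of k))} [IsIso N.hom.appTop] :
    IsField Γ(N.left, ⊤) := by
  have h : IsField Γ(Spec (CommRingCat.of k), ⊤) :=
    (Scheme.ΓSpecIso (CommRingCat.of k)).commRingCatIsoToRingEquiv.toMulEquiv.isField
      (Field.toIsField k)
  exact (asIso N.hom.appTop).symm.commRingCatIsoToRingEquiv.toMulEquiv.isField h

set_option backward.isDefEq.respectTransparency false in
/-- An anti-affine group scheme is smooth. -/
theorem smooth (N : Over (Spec (CommRingCat.of k))) [GrpObj N] [LocallyOfFiniteType N.hom]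
    [CompactSpace N.left] [IsIso N.hom.appTop] : Smooth N.hom := by
  let K := AlgebraicClosure k
  let s : Spec (CommRingCat.of K) ⟶ Spec (CommRingCat.of k) :=
    Spec.map (CommRingCat.ofHom (algebraMap k K))
  haveI : IsLocallyNoetherian N.left := LocallyOfFiniteType.isLocallyNoetherian N.hom
  haveI : LocallyOfFiniteType (Red.bc s N).hom :=
    inferInstanceAs (LocallyOfFiniteType (pullback.snd N.hom s))
  haveI : CompactSpace (Red.bc s N).left := inferInstanceAs (CompactSpace ↥(pullback N.hom s))
  haveI : QuasiSeparatedSpace N.left := inferInstance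
  haveI : CompactSpace ↥(Over.mk s).left := inferInstanceAs (CompactSpace ↥(Spec (CommRingCat.of K)))
  haveI : QuasiSeparatedSpace ↥(Over.mk s).left :=
    inferInstanceAs (QuasiSeparatedSpace ↥(Spec (CommRingCat.of K)))
  haveI : IsIso (Red.bc s N).hom.appTop :=
    (H8Affinize.isPushout_appTop N (Over.mk s)).isIso_inr_of_isIso
  haveI : _root_.IsReduced Γ((Red.bc s N).left, ⊤) := by
    letI := (isField_appTop (N := Red.bc s N)).toField
    infer_instance
  haveI := H8NilSection.isReduced_of_isReduced_appTop (Red.bc s N)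
  haveI : GrpObj (Over.mk (Red.bc s N).hom) := (inferInstance : GrpObj (Red.bc s N))
  haveI : IsReduced (pullback N.hom s) := inferInstanceAs (IsReduced (Red.bc s N).left)
  apply MorphismProperty.of_pullback_snd_of_descendsAlong
    (Q := @Surjective ⊓ @Flat ⊓ @QuasiCompact) (g := s)
  · exact ⟨⟨inferInstance, inferInstance⟩, inferInstance⟩
  · exact smooth_of_isReduced (Red.bc s N).hom

end Groth.Agent.H8AntiAffineSmooth
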