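import Mathlib

/-!
# Subgroup objects
-/

set_option autoImplicit false

universe v u

open CategoryTheory MonoidalCategory CartesianMonoidalCategory MonObj

namespace Groth.Agent.H8SubGrp

variable {C : Type u} [Category.{v} C] [CartesianMonoidalCategory C] {G N : C} [GrpObj G]

/-- A monomorphism whose points form subgroups underlies a subgroup object. -/
theorem exists_grpObj (n : N ⟶ G) [Mono n] (Sub : ∀ X : C, Subgroup (X ⟶ G))
    (h : ∀ (X : C) (g : X ⟶ G), (∃ z : X ⟶ N, z ≫ n = g) ↔ g ∈ Sub X) :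
    ∃ inst : GrpObj N, letI := inst; IsMonHom n := by
  have hn : ∀ {X : C} (z : X ⟶ N), z ≫ n ∈ Sub X := fun z => (h _ _).mp ⟨z, rfl⟩
  obtain ⟨e, he⟩ := (h (𝟙_ C) 1).mpr (one_mem _)
  obtain ⟨m, hm⟩ := (h (N ⊗ N) _).mpr (mul_mem (hn (fst N N)) (hn (snd N N)))
  obtain ⟨v, hv⟩ := (h N _).mpr (inv_mem (hn (𝟙 N)))
  rw [Category.id_comp] at hv
  have hη : (1 : 𝟙_ C ⟶ G) = η[G] := by
    rw [Hom.one_def, toUnit_unit, Category.id_comp]
  have hm' : ∀ {X : C} (a b : X ⟶ N), lift a b ≫ m ≫ n = (a ≫ n) * (b ≫ n) := fun a b => by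
    rw [hm, comp_mul, lift_fst_assoc, lift_snd_assoc]
  refine ⟨{ one := e
            mul := m
            inv := v
            one_mul := ?_
            mul_one := ?_
            mul_assoc := ?_
            left_inv := ?_
            right_inv := ?_ }, ?_⟩
  · rw [← cancel_mono n, Category.assoc, hm, comp_mul, whiskerRight_fst_assoc,
      whiskerRight_snd_assoc, he, MonObj.comp_one, _root_.one_mul, leftUnitor_hom]
  · rw [← cancel_mono n, Category.assoc, hm, comp_mul, whiskerLeft_fst_assoc,
      whiskerLeft_snd_assoc, he, MonObj.comp_one, _root_.mul_one, rightUnitor_hom]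
  · simp only [← cancel_mono n, Category.assoc, hm, comp_mul, whiskerRight_fst_assoc,
      whiskerRight_snd_assoc, whiskerLeft_fst_assoc, whiskerLeft_snd_assoc,
      associator_hom_fst_assoc, associator_hom_snd_fst_assoc, associator_hom_snd_snd_assoc,
      _root_.mul_assoc]
  · rw [← cancel_mono n, Category.assoc, hm', Category.id_comp, hv, inv_mul_cancel,
      Category.assoc, show e ≫ n = η[G] from he.trans hη, Hom.one_def]
  · rw [← cancel_mono n, Category.assoc, hm', Category.id_comp, hv, mul_inv_cancel,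
      Category.assoc, show e ≫ n = η[G] from he.trans hη, Hom.one_def]
  · exact @IsMonHom.mk C _ _ N G (_) _ n (he.trans hη) (by
      show m ≫ n = (n ⊗ₘ n) ≫ μ[G]
      rw [hm, Hom.mul_def]
      congr 1
      ext <;> simp)

end Groth.Agent.H8SubGrp
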