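import Mathlib
import Groth.Agent.Lib.H8GrpFlat
import Groth.Agent.Lib.H8SubGrp

/-!
# The image of a quasi-compact homomorphism of group schemes over a field
-/

set_option autoImplicit false

universe u

open CategoryTheory Limits AlgebraicGeometry MonoidalCategory CartesianMonoidalCategory MonObj

namespace Groth.Agent.H8GrpImg

/-- The map onto the scheme-theoretic image is schematically dominant. -/
lemma ker_toImage {X Y : Scheme.{u}} (f : X ⟶ Y) [QuasiCompact f] : f.toImage.ker = ⊥ := by
  have : IsClosedImmersion (f.toImage.imageι ≫ f.imageι) := inferInstance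
  have h1 : (f.imageι).ker = (f.toImage.imageι ≫ f.imageι).ker := by
    refine le_antisymm (Scheme.Hom.le_ker_comp _ _) ?_
    calc (f.toImage.imageι ≫ f.imageι).ker
        ≤ (f.toImage.toImage ≫ f.toImage.imageι ≫ f.imageι).ker := Scheme.Hom.le_ker_comp _ _
      _ = f.imageι.ker := by
        rw [← Category.assoc, Scheme.Hom.toImage_imageι, Scheme.Hom.toImage_imageι]
        exact (Scheme.IdealSheafData.ker_subschemeι _).symm
  have := IsClosedImmersion.isIso_of_ker_eq (f.toImage.imageι ≫ f.imageι) f.imageι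
    f.toImage.imageι rfl h1.symm
  exact (Scheme.isIso_subschemeι_iff_eq_bot _).mp this

variable {k : Type u} [Field k]

lemma ker_le_of_comp {X Y Z : Scheme.{u}} (p : X ⟶ Y) (a : Y ⟶ Z) (J : Z.IdealSheafData)
    (hp : p.ker = ⊥) (h : J ≤ (p ≫ a).ker) : J ≤ a.ker := by
  rw [Scheme.Hom.ker_comp, hp, Scheme.IdealSheafData.map_bot] at h
  exact h

/-- Image factorization of a quasi-compact homomorphism. -/
theorem exists_image (H G : Over (Spec (CommRingCat.of k))) [GrpObj H] [GrpObj G]
    (f : H ⟶ G) [IsMonHom f] [QuasiCompact f.left] :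
    ∃ (H' : Over (Spec (CommRingCat.of k))) (_ : GrpObj H') (i : H' ⟶ G) (f' : H ⟶ H'),
      IsMonHom i ∧ IsMonHom f' ∧ f' ≫ i = f ∧ IsClosedImmersion i.left ∧
      f'.left.ker = ⊥ ∧ QuasiCompact f'.left ∧ Surjective f'.left := by
  let H' : Over (Spec (CommRingCat.of k)) := Over.mk (f.left.imageι ≫ G.hom)
  let i : H' ⟶ G := Over.homMk f.left.imageι rfl
  let f' : H ⟶ H' := Over.homMk f.left.toImage (by
    show f.left.toImage ≫ f.left.imageι ≫ G.hom = H.hom
    rw [Scheme.Hom.toImage_imageι_assoc, Over.w f])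
  have hfi : f' ≫ i = f := Over.OverMorphism.ext (Scheme.Hom.toImage_imageι f.left)
  haveI hci : IsClosedImmersion i.left := inferInstanceAs (IsClosedImmersion f.left.imageι)
  haveI : Mono i.left := inferInstance
  haveI : Mono i := (Over.forget _).mono_of_mono_map (f := i) ‹Mono i.left›
  haveI hqc : QuasiCompact f'.left := inferInstanceAs (QuasiCompact f.left.toImage)
  have hker : f'.left.ker = ⊥ := ker_toImage f.left
  haveI : IsSchemeTheoreticallyDominant f'.left := ⟨hker⟩
  have hle : i.left.ker ≤ f.left.ker := by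
    rw [show f.left = f'.left ≫ i.left from (Scheme.Hom.toImage_imageι f.left).symm]
    exact Scheme.Hom.le_ker_comp _ _
  -- lifting criterion
  have key : ∀ {X Y : Over (Spec (CommRingCat.of k))} (p : X ⟶ Y) (a : Y ⟶ G) (b : X ⟶ H),
      p.left.ker = ⊥ → p ≫ a = b ≫ f → ∃ c : Y ⟶ H', c ≫ i = a := by
    intro X Y p a b hp h
    have hl : i.left.ker ≤ a.left.ker := by
      refine ker_le_of_comp p.left a.left _ hp ?_
      rw [← Over.comp_left, h, Over.comp_left]
      exact hle.trans (Scheme.Hom.le_ker_comp _ _)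
    refine ⟨Over.homMk (IsClosedImmersion.lift i.left a.left hl) ?_,
      Over.OverMorphism.ext (IsClosedImmersion.lift_fac _ _ _)⟩
    show IsClosedImmersion.lift i.left a.left hl ≫ i.left ≫ G.hom = Y.hom
    rw [IsClosedImmersion.lift_fac_assoc, Over.w a]
  -- `f' ⊗ f'` is schematically dominant
  have hff : (f' ⊗ₘ f').left.ker = ⊥ := by
    have e : f' ⊗ₘ f' = (f' ▷ H) ≫ (β_ H' H).hom ≫ (f' ▷ H') ≫ (β_ H' H').hom := by
      apply CartesianMonoidalCategory.hom_ext <;> simp
    have : IsIso (β_ H' H).hom.left := ((Over.forget _).mapIso (β_ H' H)).isIso_hom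
    have : IsIso (β_ H' H').hom.left := ((Over.forget _).mapIso (β_ H' H')).isIso_hom
    haveI : ∀ C : Over (Spec (CommRingCat.of k)), IsSchemeTheoreticallyDominant (f' ▷ C).left := by
      intro C
      haveI : Flat (fst H' C).left := inferInstanceAs (Flat (pullback.fst H'.hom C.hom))
      exact IsSchemeTheoreticallyDominant.of_isPullback (H8Shear.isPullback_whiskerRight f' C).flip
    rw [e, Over.comp_left, Over.comp_left, Over.comp_left]
    exact Scheme.Hom.ker_eq_bot _
  let Sub : ∀ X : Over (Spec (CommRingCat.of k)), Subgroup (X ⟶ G) := fun X =>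
    { carrier := {g | ∃ z : X ⟶ H', z ≫ i = g}
      one_mem' := ⟨(1 : X ⟶ H) ≫ f', by rw [Category.assoc, hfi, MonObj.one_comp]⟩
      mul_mem' := by
        rintro _ _ ⟨a, rfl⟩ ⟨b, rfl⟩
        obtain ⟨m, hm⟩ := key (f' ⊗ₘ f') ((fst H' H' ≫ i) * (snd H' H' ≫ i)) μ[H] hff (by
          rw [MonObj.comp_mul, tensorHom_fst_assoc, tensorHom_snd_assoc, hfi, ← MonObj.mul_comp,
            show μ[H] = fst H H * snd H H by rw [Hom.mul_def, lift_fst_snd, Category.id_comp]])
        exact ⟨lift a b ≫ m, by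
          rw [Category.assoc, hm, MonObj.comp_mul, lift_fst_assoc, lift_snd_assoc]⟩
      inv_mem' := by
        rintro _ ⟨a, rfl⟩
        obtain ⟨n, hn⟩ := key f' i⁻¹ (𝟙 H : H ⟶ H)⁻¹ hker (by
          rw [GrpObj.comp_inv, hfi, GrpObj.inv_comp, Category.id_comp])
        exact ⟨a ≫ n, by rw [Category.assoc, hn, GrpObj.comp_inv]⟩ }
  obtain ⟨g, hg⟩ := H8SubGrp.exists_grpObj i Sub (fun X x => Iff.rfl)
  letI := g
  haveI := hg
  haveI hf' : IsMonHom f' :=
    { one_hom := by rw [← cancel_mono i, Category.assoc, hfi, IsMonHom.one_hom, IsMonHom.one_hom]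
      mul_hom := by
        rw [← cancel_mono i, Category.assoc, Category.assoc, hfi, IsMonHom.mul_hom,
          IsMonHom.mul_hom, ← Category.assoc (f' ⊗ₘ f'), tensorHom_comp_tensorHom, hfi] }
  refine ⟨H', g, i, f', hg, hf', hfi, hci, hker, hqc, ?_⟩
  exact H8GrpFlat.surjective_of_denseRange f' f'.left.denseRange

end Groth.Agent.H8GrpImg
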