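import Mathlib
import Groth.Agent.Lib.H8AntiAffine
import Groth.Agent.Lib.H8AntiAffineSmooth
import Groth.Agent.Lib.H8GrpImg
import Groth.Prelude.Def_Red

/-!
# Permanence properties of anti-affine group schemes
-/

set_option autoImplicit false

universe u

open CategoryTheory Limits AlgebraicGeometry MonoidalCategory CartesianMonoidalCategory MonObj
open scoped TensorProduct

namespace Groth.Agent.H8AntiAffine2

variable {k : Type u} [Field k]

local notation "Ov" => Over (Spec (CommRingCat.of k))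

lemma bijective_iff (N : Ov) :
    Function.Bijective ((Scheme.ΓSpecIso (CommRingCat.of k)).inv ≫ N.hom.appTop).hom ↔
      IsIso N.hom.appTop := by
  refine ⟨H8AntiAffineSmooth.isIso_appTop, fun h => ?_⟩
  exact ConcreteCategory.bijective_of_isIso ((Scheme.ΓSpecIso (CommRingCat.of k)).inv ≫ N.hom.appTop)

lemma isField_base : IsField Γ(Spec (CommRingCat.of k), ⊤) :=
  (Scheme.ΓSpecIso (CommRingCat.of k)).commRingCatIsoToRingEquiv.toMulEquiv.isField
    (Field.toIsField k)

lemma nontrivial_appTop (X : Scheme.{u}) [Nonempty X] : Nontrivial Γ(X, ⊤) :=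
  haveI : Nonempty (⊤ : X.Opens) := ⟨⟨Classical.arbitrary _, trivial⟩⟩
  Scheme.component_nontrivial X ⊤

lemma nonempty_left (X : Ov) (x : 𝟙_ Ov ⟶ X) : Nonempty X.left :=
  ⟨x.left (show Spec (CommRingCat.of k) from IsLocalRing.closedPoint k)⟩

lemma injective_of_nonempty (X : Ov) [Nonempty X.left] : Function.Injective X.hom.appTop.hom := by
  letI := (isField_base (k := k)).toField
  haveI := nontrivial_appTop X.left
  exact RingHom.injective (R := Γ(Spec (CommRingCat.of k), ⊤)) X.hom.appTop.hom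

lemma isIso_appTop_of_surjective (X : Ov) [Nonempty X.left]
    (h : Function.Surjective X.hom.appTop.hom) : IsIso X.hom.appTop :=
  (ConcreteCategory.isIso_iff_bijective _).mpr ⟨injective_of_nonempty X, h⟩

/-- A scheme below an anti-affine one is anti-affine. -/
lemma isIso_appTop_of_injective {X Y : Ov} [Nonempty Y.left] (p : X ⟶ Y) [IsIso X.hom.appTop]
    (hp : Function.Injective p.left.appTop.hom) : IsIso Y.hom.appTop := by
  refine isIso_appTop_of_surjective Y fun b => ?_
  obtain ⟨c, hc⟩ := (ConcreteCategory.bijective_of_isIso X.hom.appTop).2 (p.left.appTop b)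
  refine ⟨c, hp ?_⟩
  rw [← CommRingCat.comp_apply, ← Scheme.Hom.comp_appTop, Over.w p]
  exact hc

lemma injective_appTop_of_ker {X Y : Scheme.{u}} (p : X ⟶ Y) [QuasiCompact p] (h : p.ker = ⊥) :
    Function.Injective p.appTop.hom := by
  rw [injective_iff_map_eq_zero]
  intro s hs
  refine TopCat.Presheaf.section_ext Y.sheaf ⊤ _ _ fun y hy => ?_
  obtain ⟨_, ⟨U, hU, rfl⟩, hyU, -⟩ :=
    Y.isBasis_affineOpens.exists_subset_of_mem_open (Set.mem_univ y) isOpen_univ
  replace hU : IsAffineOpen U := hU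
  have h1 : Y.presheaf.map (homOfLE (le_top : U ≤ ⊤)).op s ∈ p.ker.ideal ⟨U, hU⟩ := by
    rw [Scheme.Hom.ker_apply, RingHom.mem_ker]
    have := congrArg (fun m => m.hom s) (p.naturality (homOfLE (le_top : U ≤ ⊤)).op)
    refine this.trans ?_
    rw [CommRingCat.hom_comp, RingHom.comp_apply]
    exact (congrArg _ hs).trans (map_zero (X.presheaf.map _).hom)
  rw [h, Scheme.IdealSheafData.ideal_bot, Pi.bot_apply, Ideal.mem_bot] at h1
  have h2 := congrArg (Y.presheaf.germ U y hyU) h1
  rw [TopCat.Presheaf.germ_res_apply, map_zero] at h2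
  exact h2.trans (map_zero (Y.presheaf.germ ⊤ y hy).hom).symm

/-- Flat surjective quasi-compact morphisms are injective on functions. -/
lemma injective_appTop_of_flat {X Y : Scheme.{u}} (w : X ⟶ Y) [Flat w] [Surjective w] :
    Function.Injective w.appTop.hom := by
  rw [injective_iff_map_eq_zero]
  intro s hs
  refine TopCat.Presheaf.section_ext Y.sheaf ⊤ _ _ fun y hy => ?_
  obtain ⟨q, rfl⟩ := w.surjective y
  algebraize [(w.stalkMap q).hom]
  have : Module.FaithfullyFlat (Y.presheaf.stalk (w q)) (X.presheaf.stalk q) :=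
    @Module.FaithfullyFlat.of_flat_of_isLocalHom _ _ _ _ _ _ _
      (Flat.stalkMap w q) (w.toLRSHom.prop q)
  refine (‹RingHom.FaithfullyFlat _›).injective ?_
  have h := Scheme.Hom.germ_stalkMap_apply w ⊤ q hy s
  refine h.trans ?_
  rw [show (ConcreteCategory.hom (w.app ⊤)) s = 0 from hs]
  simp only [map_zero]
  exact (map_zero _).symm.trans (congrArg _ (map_zero _).symm)

/-- A morphism to an affine scheme from an anti-affine one is constant. -/
lemma eq_const {X A : Ov} [IsIso X.hom.appTop] [IsAffine A.left] (f : X ⟶ A) (x : 𝟙_ Ov ⟶ X) :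
    f = toUnit X ≫ x ≫ f := by
  haveI : IsIso (toUnit X).left.appTop := by
    rw [show (toUnit X).left = X.hom from (Category.comp_id _).symm.trans (Over.w (toUnit X))]
    infer_instance
  obtain ⟨c, hc⟩ := H8Affinize.exists_desc (toUnit X) f
  have : x ≫ f = c := by
    rw [← hc, ← Category.assoc, toUnit_unique (x ≫ toUnit X) (𝟙 _), Category.id_comp]
  rw [this, hc]

/-- Descent of isomorphisms on functions along a field extension. -/
lemma isIso_of_isPushout {A B C P : CommRingCat.{u}} (hA : IsField A) [Nontrivial C]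
    {f : A ⟶ B} {g : A ⟶ C} {a : B ⟶ P} {b : C ⟶ P} (h : IsPushout f g a b) [IsIso b]
    (hf : Function.Injective f.hom) : IsIso f := by
  letI := hA.toField
  algebraize [f.hom, g.hom]
  have h0 : IsPushout f g
      (CommRingCat.ofHom (Algebra.TensorProduct.includeLeftRingHom : B →+* B ⊗[A] C))
      (CommRingCat.ofHom (Algebra.TensorProduct.includeRight : C →ₐ[A] B ⊗[A] C).toRingHom) :=
    CommRingCat.isPushout_tensorProduct A B C
  have hb : IsIso (CommRingCat.ofHom
      (Algebra.TensorProduct.includeRight : C →ₐ[A] B ⊗[A] C).toRingHom) := by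
    rw [← h.inr_isoIsPushout_hom _ _ h0]
    infer_instance
  obtain ⟨ρ, hρ⟩ : ∃ ρ : C →ₗ[A] A, ρ 1 = 1 := by
    obtain ⟨ρ, hρ⟩ := LinearMap.exists_leftInverse_of_injective (Algebra.linearMap A C)
      (LinearMap.ker_eq_bot.mpr (algebraMap A C).injective)
    exact ⟨ρ, by simpa using LinearMap.congr_fun hρ 1⟩
  rw [ConcreteCategory.isIso_iff_bijective]
  refine ⟨hf, fun y => ?_⟩
  obtain ⟨c, hc⟩ := (ConcreteCategory.bijective_of_isIso (CommRingCat.ofHom
      (Algebra.TensorProduct.includeRight : C →ₐ[A] B ⊗[A] C).toRingHom)).2 (y ⊗ₜ[A] (1 : C))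
  refine ⟨ρ c, ?_⟩
  have hc' : (1 : B) ⊗ₜ[A] c = y ⊗ₜ[A] (1 : C) := hc
  have := congrArg (fun z => TensorProduct.rid A B (LinearMap.lTensor B ρ z)) hc'
  simp only [LinearMap.lTensor_tmul, hρ] at this
  erw [TensorProduct.rid_tmul, TensorProduct.rid_tmul] at this
  rw [one_smul] at this
  refine Eq.trans ?_ this
  show algebraMap A B (ρ c) = _
  rw [Algebra.algebraMap_eq_smul_one]

lemma quasiSeparatedSpace (G : Ov) [LocallyOfFiniteType G.hom] : QuasiSeparatedSpace G.left :=
  haveI := LocallyOfFiniteType.isLocallyNoetherian G.hom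
  inferInstance

set_option backward.isDefEq.respectTransparency false in
/-- Anti-affineness is invariant under field extensions. -/
theorem baseChange_iff (K : Type u) [Field K] [Algebra k K] (G : Ov) [LocallyOfFiniteType G.hom]
    [CompactSpace G.left] [Nonempty G.left] :
    IsIso G.hom.appTop ↔
      IsIso (Red.bc (Spec.map (CommRingCat.ofHom (algebraMap k K))) G).hom.appTop := by
  let s : Spec (CommRingCat.of K) ⟶ Spec (CommRingCat.of k) :=
    Spec.map (CommRingCat.ofHom (algebraMap k K))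
  haveI := quasiSeparatedSpace G
  haveI : CompactSpace ↥(Over.mk s).left := inferInstanceAs (CompactSpace ↥(Spec (CommRingCat.of K)))
  haveI : QuasiSeparatedSpace ↥(Over.mk s).left :=
    inferInstanceAs (QuasiSeparatedSpace ↥(Spec (CommRingCat.of K)))
  have hp := H8Affinize.isPushout_appTop G (Over.mk s)
  constructor
  · intro h
    exact hp.isIso_inr_of_isIso
  · intro h
    haveI : IsIso (snd G (Over.mk s)).left.appTop := h
    haveI : Nontrivial Γ((Over.mk s).left, ⊤) := by
      haveI : Nonempty (Over.mk s).left := inferInstanceAs (Nonempty (Spec (CommRingCat.of K)))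
      exact nontrivial_appTop _
    exact isIso_of_isPushout isField_base hp (injective_of_nonempty G)

/-- A product is anti-affine iff the factors are. -/
theorem prod_iff (X Y : Ov) [CompactSpace X.left] [QuasiSeparatedSpace X.left]
    [CompactSpace Y.left] [QuasiSeparatedSpace Y.left] (x : 𝟙_ Ov ⟶ X) (y : 𝟙_ Ov ⟶ Y) :
    IsIso (X ⊗ Y).hom.appTop ↔ IsIso X.hom.appTop ∧ IsIso Y.hom.appTop := by
  haveI := nonempty_left X x
  haveI := nonempty_left Y y
  constructor
  · intro h
    have key : ∀ {Z : Ov} [Nonempty Z.left] (σ : Z ⟶ X ⊗ Y) (π : X ⊗ Y ⟶ Z), σ ≫ π = 𝟙 Z →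
        IsIso Z.hom.appTop := fun {Z} _ σ π e => by
      refine isIso_appTop_of_injective π fun a b hab => ?_
      have := congrArg σ.left.appTop hab
      rwa [← CommRingCat.comp_apply, ← CommRingCat.comp_apply, ← Scheme.Hom.comp_appTop,
        ← Over.comp_left, e, Over.id_left, Scheme.Hom.id_appTop] at this
    exact ⟨key (lift (𝟙 X) (toUnit X ≫ y)) (fst X Y) (lift_fst _ _),
      key (lift (toUnit Y ≫ x) (𝟙 Y)) (snd X Y) (lift_snd _ _)⟩
  · rintro ⟨hX, hY⟩
    haveI : IsIso (snd X Y).left.appTop :=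
      (H8Affinize.isPushout_appTop X Y).isIso_inr_of_isIso
    rw [show (X ⊗ Y).hom = (snd X Y).left ≫ Y.hom from (Over.w (snd X Y)).symm,
      Scheme.Hom.comp_appTop]
    infer_instance

set_option backward.isDefEq.respectTransparency false in
/-- An extension of anti-affine groups is anti-affine. -/
theorem isIso_appTop_of_extension {G G₁ G₂ : Ov} [GrpObj G] [GrpObj G₂] [CompactSpace G.left]
    [QuasiSeparatedSpace G.left] [CompactSpace G₁.left] [QuasiSeparatedSpace G₁.left]
    [QuasiSeparatedSpace G₂.left] (q : G ⟶ G₂) [IsMonHom q] [Flat q.left] [Surjective q.left]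
    (i : G₁ ⟶ G) (sq : IsPullback i (toUnit G₁) q η[G₂]) [IsIso G₁.hom.appTop]
    [IsIso G₂.hom.appTop] : IsIso G.hom.appTop := by
  haveI := nonempty_left G η[G]
  let r := fst G (𝟙_ Ov)
  have hr : IsIso r := by
    rw [show r = (ρ_ G).hom from (CartesianMonoidalCategory.rightUnitor_hom G).symm]
    infer_instance
  have h1 : IsPullback (fst G G₁ * (snd G G₁ ≫ i)) (G ◁ toUnit G₁) q (r ≫ q) := by
    have := H8GrpFlat.isPullback_translate q η[G₂] i (toUnit G₁) sq
    rwa [show (fst G _ ≫ q) * (snd G _ ≫ η[G₂]) = r ≫ q by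
      rw [show snd G (𝟙_ Ov) ≫ η[G₂] = 1 by
        rw [Hom.one_def, toUnit_unique (snd G _) (toUnit _)], _root_.mul_one]] at this
  have h2 : IsPullback (fst G G₁ * (snd G G₁ ≫ i)) (fst G G₁) q q :=
    h1.of_iso (Iso.refl _) (Iso.refl _) (asIso r) (Iso.refl _) (by simp) (by simp [r]) (by simp)
      (by simp)
  let w := fst G G₁ * (snd G G₁ ≫ i)
  have H : IsPullback w.left (fst G G₁).left q.left q.left := h2.map (Over.forget _)
  haveI : IsIso (fst G G₁).left.appTop :=
    (H8Affinize.isPushout_appTop G G₁).isIso_inl_of_isIso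
  obtain ⟨e₁, he⟩ : ∃ e₁ : 𝟙_ Ov ⟶ G₁, e₁ ≫ i = η[G] :=
    ⟨sq.lift η[G] (𝟙 _) (by rw [Category.id_comp, IsMonHom.one_hom]), sq.lift_fst _ _ _⟩
  let σ : G ⟶ G ⊗ G₁ := lift (𝟙 G) (toUnit G ≫ e₁)
  have hw : σ ≫ w = 𝟙 G := by
    simp only [w, σ, MonObj.comp_mul, lift_fst, lift_snd_assoc, Category.assoc, he]
    rw [← Hom.one_def, _root_.mul_one]
  have hf : σ ≫ fst G G₁ = 𝟙 G := lift_fst _ _
  have e : w.left.appTop = (fst G G₁).left.appTop := by
    haveI : IsIso σ.left.appTop := by
      have := congrArg (fun m : G ⟶ G => m.left.appTop) hf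
      simp only [Over.comp_left, Scheme.Hom.comp_appTop, Over.id_left, Scheme.Hom.id_appTop] at this
      exact IsIso.of_isIso_fac_left this
    rw [← cancel_mono σ.left.appTop, ← Scheme.Hom.comp_appTop, ← Scheme.Hom.comp_appTop,
      ← Over.comp_left, ← Over.comp_left, hw, hf]
  have hc : w.left ≫ G.left.toSpecΓ = (fst G G₁).left ≫ G.left.toSpecΓ := by
    rw [Scheme.toSpecΓ_naturality, Scheme.toSpecΓ_naturality, e]
  haveI : QuasiCompact q.left := quasiCompact_of_compactSpace q.left
  haveI : EffectiveEpi q.left := inferInstance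
  have hdesc : ∀ {Z : Scheme.{u}} (g₁ g₂ : Z ⟶ G.left), g₁ ≫ q.left = g₂ ≫ q.left →
      g₁ ≫ G.left.toSpecΓ = g₂ ≫ G.left.toSpecΓ := fun {Z} g₁ g₂ hg => by
    rw [← H.lift_fst g₁ g₂ hg, Category.assoc, hc, ← Category.assoc, H.lift_snd]
  let g : G₂.left ⟶ Spec Γ(G.left, ⊤) := EffectiveEpi.desc q.left G.left.toSpecΓ hdesc
  have hg : q.left ≫ g = G.left.toSpecΓ := EffectiveEpi.fac _ _ hdesc
  refine isIso_appTop_of_surjective G fun a => ?_
  obtain ⟨b, hb⟩ : ∃ b, q.left.appTop b = a := by
    haveI : IsIso G.left.toSpecΓ.appTop := by rw [Scheme.toSpecΓ_appTop]; infer_instance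
    obtain ⟨c, hc⟩ := (ConcreteCategory.bijective_of_isIso G.left.toSpecΓ.appTop).2 a
    refine ⟨g.appTop c, ?_⟩
    rw [← CommRingCat.comp_apply, ← Scheme.Hom.comp_appTop, hg]
    exact hc
  obtain ⟨c, rfl⟩ := (ConcreteCategory.bijective_of_isIso G₂.hom.appTop).2 b
  refine ⟨c, ?_⟩
  rw [← hb, ← CommRingCat.comp_apply, ← Scheme.Hom.comp_appTop, Over.w q]

end Groth.Agent.H8AntiAffine2
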