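import Mathlib
import Groth.Agent.Lib.H8GrpFlat

/-!
# The pullback of a homomorphism along itself is governed by the kernel
-/

set_option autoImplicit false

universe u

open CategoryTheory Limits AlgebraicGeometry MonoidalCategory CartesianMonoidalCategory MonObj

namespace Groth.Agent.H8SelfPullback

variable {S : Scheme.{u}} {G H N : Over S} [GrpObj G] [GrpObj H]

omit [GrpObj G] [GrpObj H] in
lemma whiskerLeft_prop (P : MorphismProperty Scheme.{u}) [P.IsStableUnderBaseChange]
    [P.RespectsIso] {A B : Over S} (h : A ⟶ B) (hh : P h.left) : P (G ◁ h).left := by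
  have e : G ◁ h = (β_ G A).hom ≫ (h ▷ G) ≫ (β_ B G).hom := by
    apply CartesianMonoidalCategory.hom_ext <;> simp
  have : IsIso (β_ G A).hom.left := ((Over.forget _).mapIso (β_ G A)).isIso_hom
  have : IsIso (β_ B G).hom.left := ((Over.forget _).mapIso (β_ B G)).isIso_hom
  rw [e, Over.comp_left, Over.comp_left, P.cancel_left_of_respectsIso,
    P.cancel_right_of_respectsIso]
  exact MorphismProperty.of_isPullback (H8Shear.isPullback_whiskerRight h G).flip hh

/-- If the structure map of the kernel has a property, so have the projections of `G ×_H G`. -/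
theorem pullback_self_prop (P : MorphismProperty Scheme.{u}) [P.IsStableUnderBaseChange]
    [P.RespectsIso] (f : G ⟶ H) [IsMonHom f] (i : N ⟶ G) (sq : IsPullback i (toUnit N) f η[H])
    (hP : P N.hom) : P (pullback.fst f.left f.left) ∧ P (pullback.snd f.left f.left) := by
  let r := fst G (𝟙_ (Over S))
  have : IsIso r := by
    rw [show r = (ρ_ G).hom from (CartesianMonoidalCategory.rightUnitor_hom G).symm]
    infer_instance
  have h1 : IsPullback (fst G N * (snd G N ≫ i)) (G ◁ toUnit N) f (r ≫ f) := by
    have := H8GrpFlat.isPullback_translate f η[H] i (toUnit N) sq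
    rwa [show (fst G _ ≫ f) * (snd G _ ≫ η[H]) = r ≫ f by
      rw [show snd G (𝟙_ (Over S)) ≫ η[H] = 1 by
        rw [Hom.one_def, toUnit_unique (snd G _) (toUnit _)], _root_.mul_one]] at this
  have h2 : IsPullback (fst G N * (snd G N ≫ i)) ((G ◁ toUnit N) ≫ r) f f :=
    h1.of_iso (Iso.refl _) (Iso.refl _) (asIso r) (Iso.refl _) (by simp) (by simp) (by simp)
      (by simp)
  have h3 : IsPullback (fst G N * (snd G N ≫ i)).left ((G ◁ toUnit N) ≫ r).left f.left f.left :=
    h2.map (Over.forget _)
  have : IsIso r.left := inferInstanceAs (IsIso ((Over.forget _).map r))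
  have hb : P (toUnit N).left := by
    rw [show (toUnit N).left = N.hom from (Category.comp_id _).symm.trans (Over.w (toUnit N))]
    exact hP
  have h4 : P ((G ◁ toUnit N) ≫ r).left := by
    rw [Over.comp_left, P.cancel_right_of_respectsIso]
    exact whiskerLeft_prop P _ hb
  constructor
  · rw [← h3.flip.isoPullback_hom_fst] at h4
    exact (P.cancel_left_of_respectsIso _ _).mp h4
  · rw [← h3.isoPullback_hom_snd] at h4
    exact (P.cancel_left_of_respectsIso _ _).mp h4

end Groth.Agent.H8SelfPullback
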