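import Mathlib
import Groth.Agent.Lib.H8AntiAffine
import Groth.Agent.Lib.H8AntiAffineSmooth
import Groth.Agent.Lib.H8AntiAffine2
import Groth.Agent.Lib.H8SelfPullback

/-!
# Rigidity for morphisms from products with an anti-affine factor
-/

set_option autoImplicit false

universe u

open CategoryTheory Limits AlgebraicGeometry MonoidalCategory CartesianMonoidalCategory
open scoped TensorProduct

namespace Groth.Agent.H8Rigidity2

variable {k : Type u} [Field k]

local notation "Ov" => Over (Spec (CommRingCat.of k))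

/-- The equalizer of two morphisms to a separated scheme. -/
lemma exists_equalizer {P Z S : Scheme.{u}} (h : Z ⟶ S) [IsSeparated h] {a b : P ⟶ Z}
    (w : a ≫ h = b ≫ h) :
    ∃ (E : Scheme.{u}) (e : E ⟶ P), IsClosedImmersion e ∧ e ≫ a = e ≫ b ∧
      ∀ {Q : Scheme.{u}} (p : Q ⟶ P), p ≫ a = p ≫ b → ∃ c, c ≫ e = p := by
  let l := pullback.lift a b w
  have d1 : pullback.diagonal h ≫ pullback.fst h h = 𝟙 Z := pullback.diagonal_fst h
  have d2 : pullback.diagonal h ≫ pullback.snd h h = 𝟙 Z := pullback.diagonal_snd h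
  refine ⟨_, pullback.fst l (pullback.diagonal h), inferInstance, ?_, fun {Q} p hp => ?_⟩
  · have e1 := congrArg (· ≫ pullback.fst h h)
      (pullback.condition (f := l) (g := pullback.diagonal h))
    have e2 := congrArg (· ≫ pullback.snd h h)
      (pullback.condition (f := l) (g := pullback.diagonal h))
    simp only [Category.assoc, l, pullback.lift_fst, d1, Category.comp_id] at e1
    simp only [Category.assoc, l, pullback.lift_snd, d2, Category.comp_id] at e2
    exact e1.trans e2.symm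
  · refine ⟨pullback.lift p (p ≫ a) ?_, pullback.lift_fst _ _ _⟩
    apply pullback.hom_ext
    · simp only [Category.assoc, l, pullback.lift_fst, d1, Category.comp_id]
    · simp only [Category.assoc, l, pullback.lift_snd, d2, Category.comp_id, hp]

/-- Morphisms to a separated scheme which agree on a schematically dense family agree. -/
lemma eq_of_iInf_ker {C : CommRingCat.{u}} {Z S : Scheme.{u}} (h : Z ⟶ S) [IsSeparated h]
    {a b : Spec C ⟶ Z} (w : a ≫ h = b ≫ h) {n : Type*} {D : n → CommRingCat.{u}}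
    (φ : ∀ i, C ⟶ D i) (hφ : ∀ x : C, (∀ i, φ i x = 0) → x = 0)
    (hab : ∀ i, Spec.map (φ i) ≫ a = Spec.map (φ i) ≫ b) : a = b := by
  obtain ⟨E, e, _, he, hlift⟩ := exists_equalizer h w
  obtain ⟨I, u, rfl⟩ := IsClosedImmersion.Spec_iff.mp ‹IsClosedImmersion e›
  have hI : I = ⊥ := by
    refine eq_bot_iff.mpr fun x hx => hφ x fun i => ?_
    obtain ⟨c, hc⟩ := hlift _ (hab i)
    rw [← Category.assoc, ← Spec.map_preimage (c ≫ u.hom), ← Spec.map_comp] at hc
    rw [← Spec.map_injective hc, CommRingCat.comp_apply]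
    refine (congrArg _ (Ideal.Quotient.eq_zero_iff_mem.mpr hx)).trans (map_zero _)
  subst hI
  haveI : IsIso (u.hom ≫ Spec.map (CommRingCat.ofHom (Ideal.Quotient.mk (⊥ : Ideal C)))) := by
    haveI : IsIso (CommRingCat.ofHom (Ideal.Quotient.mk (⊥ : Ideal C))) :=
      (ConcreteCategory.isIso_iff_bijective _).mpr
        ⟨(injective_iff_map_eq_zero _).mpr fun x hx => Ideal.Quotient.eq_zero_iff_mem.mp hx,
          Ideal.Quotient.mk_surjective⟩
    infer_instance
  rwa [cancel_epi] at he

/-- Morphisms to a separated scheme which agree after a schematically dominant morphism agree. -/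
lemma eq_of_dominant {P Q Z S : Scheme.{u}} (h : Z ⟶ S) [IsSeparated h] {a b : P ⟶ Z}
    (w : a ≫ h = b ≫ h) (p : Q ⟶ P) [IsSchemeTheoreticallyDominant p] (hp : p ≫ a = p ≫ b) :
    a = b := by
  obtain ⟨E, e, _, he, hlift⟩ := exists_equalizer h w
  obtain ⟨c, hc⟩ := hlift p hp
  have hker : e.ker = ⊥ := le_bot_iff.mp (by
    rw [← p.ker_eq_bot, ← hc]
    exact Scheme.Hom.le_ker_comp _ _)
  haveI : IsIso e :=
    IsClosedImmersion.isIso_of_ker_eq e (𝟙 P) e (Category.comp_id e) (by simp [hker])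
  rwa [cancel_epi] at he

/-- A map on a product with a one-point scheme which is constant on the axis factors through it. -/
lemma exists_factor_one_point {X T Z : Ov} [CompactSpace X.left] [QuasiSeparatedSpace X.left]
    [IsIso X.hom.appTop] [IsAffine T.left] (o : 𝟙_ Ov ⟶ T) [Surjective o.left]
    (x : 𝟙_ Ov ⟶ X) (φ : X ⊗ T ⟶ Z) (z : 𝟙_ Ov ⟶ Z) (hφ : (X ◁ o) ≫ φ = toUnit _ ≫ z) :
    φ = snd X T ≫ lift (toUnit T ≫ x) (𝟙 T) ≫ φ := by
  haveI : Surjective (X ◁ o).left :=
    H8SelfPullback.whiskerLeft_prop (P := @Surjective) o ‹_›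
  obtain ⟨_, ⟨U, hU, rfl⟩, hzU, -⟩ := Z.left.isBasis_affineOpens.exists_subset_of_mem_open
    (Set.mem_univ (z.left (show Spec (CommRingCat.of k) from IsLocalRing.closedPoint k)))
    isOpen_univ
  obtain ⟨c, hc⟩ := H8AntiAffine.exists_eq_snd_comp φ U hU (by
    rintro _ ⟨w, rfl⟩
    obtain ⟨v, rfl⟩ := (X ◁ o).left.surjective w
    rw [← Scheme.Hom.comp_apply, ← Over.comp_left, hφ, Over.comp_left, Scheme.Hom.comp_apply]
    convert hzU
    exact Subsingleton.elim _ _)
  rw [hc, lift_snd_assoc, Category.id_comp]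

/-- Whiskering is a base change. -/
lemma isPullback_whiskerLeft (X : Ov) {T Y : Ov} (j : T ⟶ Y) :
    IsPullback (snd X T) (X ◁ j) j (snd X Y) := by
  refine IsPullback.of_isLimit' ⟨(whiskerLeft_snd X j).symm⟩
    (PullbackCone.IsLimit.mk _ (fun s => lift (s.snd ≫ fst X Y) s.fst) (fun s => lift_snd _ _)
      (fun s => ?_) (fun s m h1 h2 => ?_))
  · apply CartesianMonoidalCategory.hom_ext
    · simp
    · simpa using s.condition
  · apply CartesianMonoidalCategory.hom_ext
    · rw [lift_fst, ← h2, Category.assoc, whiskerLeft_fst]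
    · rw [lift_snd, h1]

set_option backward.isDefEq.respectTransparency false in
/-- Morphisms from `X × Spec O` which agree on all infinitesimal neighbourhoods agree. -/
theorem eq_of_formal {X Z : Ov} [IsSeparated Z.hom] {O : Type u} [CommRing O] [Algebra k O]
    [IsNoetherianRing O] [IsLocalRing O]
    (a b : X ⊗ Over.mk (Spec.map (CommRingCat.ofHom (algebraMap k O))) ⟶ Z)
    (h : ∀ n : ℕ, ∀ ι : Over.mk (Spec.map (CommRingCat.ofHom
        (algebraMap k (O ⧸ IsLocalRing.maximalIdeal O ^ (n + 1))))) ⟶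
      Over.mk (Spec.map (CommRingCat.ofHom (algebraMap k O))),
      ι.left = Spec.map (CommRingCat.ofHom (Ideal.Quotient.mk _)) →
        (X ◁ ι) ≫ a = (X ◁ ι) ≫ b) : a = b := by
  let T : Ov := Over.mk (Spec.map (CommRingCat.ofHom (algebraMap k O)))
  have hcm : ∀ {B C : Type u} [CommRing B] [CommRing C] [Algebra k B] [Algebra k C]
      (φ : B →ₐ[k] C), CommRingCat.ofHom (algebraMap k B) ≫ CommRingCat.ofHom φ.toRingHom =
        CommRingCat.ofHom (algebraMap k C) := by
    intro B C _ _ _ _ φ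
    ext c
    exact φ.commutes c
  apply Over.OverMorphism.ext
  let 𝒰 := X.left.affineOpenCover.openCover
  refine Scheme.Cover.hom_ext (𝒰.pullback₁ (fst X T).left) _ _ fun i => ?_
  let B := X.left.affineOpenCover.X i
  letI : Algebra k B := (Spec.preimage (X.left.affineOpenCover.f i ≫ X.hom)).hom.toAlgebra
  have hB : Spec.map (CommRingCat.ofHom (algebraMap k B)) = X.left.affineOpenCover.f i ≫ X.hom :=
    Spec.map_preimage (X.left.affineOpenCover.f i ≫ X.hom)
  let V : Ov := Over.mk (Spec.map (CommRingCat.ofHom (algebraMap k B)))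
  let j : V ⟶ X := Over.homMk (X.left.affineOpenCover.f i) hB.symm
  let P : Ov := Over.mk (Spec.map (CommRingCat.ofHom (algebraMap k (B ⊗[k] O))))
  let p1 : P ⟶ V := Over.homMk (Spec.map (CommRingCat.ofHom
      (Algebra.TensorProduct.includeLeft : B →ₐ[k] B ⊗[k] O).toRingHom)) (by
    simp only [P, V, Over.mk_hom]
    rw [← Spec.map_comp, hcm])
  let p2 : P ⟶ T := Over.homMk (Spec.map (CommRingCat.ofHom
      (Algebra.TensorProduct.includeRight : O →ₐ[k] B ⊗[k] O).toRingHom)) (by
    simp only [P, T, Over.mk_hom]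
    rw [← Spec.map_comp, hcm])
  let π : P ⟶ X ⊗ T := lift p1 p2 ≫ (j ▷ T)
  haveI : IsIso (lift p1 p2).left := by
    have e : (lift p1 p2).left = (pullbackSpecIso k B O).inv := by
      apply pullback.hom_ext
      · exact (congrArg Over.Hom.left (lift_fst p1 p2) : (lift p1 p2).left ≫ (fst V T).left = p1.left).trans
          (pullbackSpecIso_inv_fst k B O).symm
      · exact (congrArg Over.Hom.left (lift_snd p1 p2) : (lift p1 p2).left ≫ (snd V T).left = p2.left).trans
          (pullbackSpecIso_inv_snd k B O).symm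
    rw [e]
    infer_instance
  have key : π.left ≫ a.left = π.left ≫ b.left := by
    let D : ℕ → CommRingCat.{u} := fun n =>
      CommRingCat.of (B ⊗[k] (O ⧸ IsLocalRing.maximalIdeal O ^ (n + 1)))
    let ψ : ∀ n, B ⊗[k] O →ₐ[k] B ⊗[k] (O ⧸ IsLocalRing.maximalIdeal O ^ (n + 1)) := fun n =>
      Algebra.TensorProduct.map (AlgHom.id k B) (Ideal.Quotient.mkₐ k _)
    refine eq_of_iInf_ker (C := CommRingCat.of (B ⊗[k] O)) Z.hom ?_ (D := D)
      (fun n => CommRingCat.ofHom (ψ n).toRingHom) ?_ ?_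
    · rw [Category.assoc, Category.assoc, Over.w a, Over.w b]
    · intro x hx
      classical
      let bb := Module.Free.chooseBasis k B
      let e := TensorProduct.equivFinsuppOfBasisLeft (N := O) bb
      refine e.injective (Finsupp.ext fun m => ?_)
      rw [map_zero, Finsupp.zero_apply]
      have hkey : ∀ n, TensorProduct.equivFinsuppOfBasisLeft
          (N := O ⧸ IsLocalRing.maximalIdeal O ^ (n + 1)) bb (ψ n x) m =
            Ideal.Quotient.mk _ (e x m) := by
        intro n
        clear hx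
        induction x using TensorProduct.induction_on with
        | zero => simp
        | tmul c d =>
          simp only [ψ, e, Algebra.TensorProduct.map_tmul, AlgHom.id_apply,
            TensorProduct.equivFinsuppOfBasisLeft_apply_tmul, Finsupp.mapRange_apply]
          rw [← Ideal.Quotient.mkₐ_eq_mk k]
          exact (map_smul (Ideal.Quotient.mkₐ k (IsLocalRing.maximalIdeal O ^ (n + 1))) _ _).symm
        | add c d hc hd =>
          simp only [map_add, Finsupp.add_apply, hc, hd]
      rw [← Ideal.mem_bot, ← Ideal.iInf_pow_eq_bot_of_isLocalRing (IsLocalRing.maximalIdeal O)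
        (IsLocalRing.maximalIdeal.isMaximal O).ne_top, Ideal.mem_iInf]
      intro n
      refine Ideal.pow_le_pow_right n.le_succ ?_
      rw [← Ideal.Quotient.eq_zero_iff_mem, ← hkey]
      have h0 : ψ n x = 0 := hx n
      rw [h0, map_zero, Finsupp.zero_apply]
    · intro n
      let Tn : Ov := Over.mk (Spec.map (CommRingCat.ofHom
        (algebraMap k (O ⧸ IsLocalRing.maximalIdeal O ^ (n + 1)))))
      let ι : Tn ⟶ T := Over.homMk (Spec.map (CommRingCat.ofHom
          (Ideal.Quotient.mkₐ k (IsLocalRing.maximalIdeal O ^ (n + 1))).toRingHom)) (by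
        simp only [Tn, T, Over.mk_hom]
        rw [← Spec.map_comp, hcm])
      let Pn : Ov := Over.mk (Spec.map (CommRingCat.ofHom (algebraMap k (D n))))
      let s : Pn ⟶ P := Over.homMk (Spec.map (CommRingCat.ofHom (ψ n).toRingHom)) (by
        simp only [Pn, P, D, Over.mk_hom]
        rw [← Spec.map_comp, hcm])
      let q2 : Pn ⟶ Tn := Over.homMk (Spec.map (CommRingCat.ofHom
          (Algebra.TensorProduct.includeRight :
            (O ⧸ IsLocalRing.maximalIdeal O ^ (n + 1)) →ₐ[k] _).toRingHom)) (by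
        simp only [Pn, Tn, D, Over.mk_hom]
        rw [← Spec.map_comp, hcm])
      have e : s ≫ π = lift (s ≫ p1 ≫ j) q2 ≫ (X ◁ ι) := by
        apply CartesianMonoidalCategory.hom_ext
        · simp [π]
        · simp only [π, Category.assoc, whiskerRight_snd, lift_snd, whiskerLeft_snd]
          rw [lift_snd_assoc]
          apply Over.OverMorphism.ext
          simp only [s, p2, q2, ι, Over.comp_left, Over.homMk_left, ← Spec.map_comp,
            ← CommRingCat.ofHom_comp]
          congr 2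
      exact congrArg Over.Hom.left (show s ≫ π ≫ a = s ≫ π ≫ b by
        rw [reassoc_of% e, reassoc_of% e, h n ι rfl])
  have H : IsPullback (j ▷ T).left (fst V T).left (fst X T).left j.left :=
    H8Shear.isPullback_whiskerRight j T
  have e2 : pullback.fst (fst X T).left (𝒰.f i) = H.isoPullback.inv ≫ (j ▷ T).left :=
    (Iso.eq_inv_comp _).mpr H.isoPullback_hom_fst
  show pullback.fst (fst X T).left (𝒰.f i) ≫ a.left = pullback.fst (fst X T).left (𝒰.f i) ≫ b.left
  rw [e2, Category.assoc, Category.assoc]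
  congr 1
  rw [← cancel_epi (lift p1 p2).left, ← Category.assoc, ← Category.assoc, ← Over.comp_left]
  exact key

/-- The local scheme at a rational point. -/
structure Loc (Y : Ov) (y : 𝟙_ Ov ⟶ Y) where
  /-- the local ring -/
  O : Type u
  [instCR : CommRing O]
  [instAlg : Algebra k O]
  [instLocal : IsLocalRing O]
  [instNoeth : IsNoetherianRing O]
  /-- its augmentation -/
  res : O →ₐ[k] k
  /-- the localization morphism -/
  ι : Over.mk (Spec.map (CommRingCat.ofHom (algebraMap k O))) ⟶ Y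
  res_comp : Spec.map (CommRingCat.ofHom res.toRingHom) ≫ ι.left = y.left

attribute [instance] Loc.instCR Loc.instAlg Loc.instLocal Loc.instNoeth

/-- The local scheme at a rational point of a locally Noetherian scheme. -/
theorem exists_loc (Y : Ov) [IsLocallyNoetherian Y.left] (y : 𝟙_ Ov ⟶ Y) :
    ∃ L : Loc Y y, ∃ e : CommRingCat.of L.O ≅
        Y.left.presheaf.stalk (y.left (IsLocalRing.closedPoint k)),
      L.ι.left = Spec.map e.inv ≫ Y.left.fromSpecStalk _ := by
  set e := y.left (IsLocalRing.closedPoint k) with he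
  let O := Y.left.presheaf.stalk e
  let al : CommRingCat.of k ⟶ O := Spec.preimage (Y.left.fromSpecStalk e ≫ Y.hom)
  have hal : Spec.map al = Y.left.fromSpecStalk e ≫ Y.hom := Spec.map_preimage _
  obtain ⟨res, hres⟩ :=
    H8Cartier.exists_factor (X := Y.left) (R := CommRingCat.of k) y.left e he.symm
  have hresι : al ≫ res = 𝟙 _ := by
    apply Spec.map_injective
    rw [Spec.map_comp, hal, ← Category.assoc, hres, Spec.map_id]
    exact Over.w y
  letI : Algebra k O := al.hom.toAlgebra
  let ι : Over.mk (Spec.map (CommRingCat.ofHom (algebraMap k O))) ⟶ Y :=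
    Over.homMk (Y.left.fromSpecStalk e) hal.symm
  exact ⟨{ O := O
           res := { res.hom with commutes' := fun c => congrArg (fun φ => φ.hom c) hresι }
           ι := ι
           res_comp := hres }, Iso.refl _,
    ((congrArg (· ≫ Y.left.fromSpecStalk e) (Spec.map_id _)).trans (Category.id_comp _)).symm⟩

set_option backward.isDefEq.respectTransparency false in
/-- A map from `X × Y` contracting the axis over a rational point only depends on `Y` near it. -/
theorem agree_loc {X Y Z : Ov} [CompactSpace X.left] [QuasiSeparatedSpace X.left]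
    [IsIso X.hom.appTop] [IsSeparated Z.hom] (y : 𝟙_ Ov ⟶ Y) (L : Loc Y y) (x : 𝟙_ Ov ⟶ X)
    (f : X ⊗ Y ⟶ Z) (z : 𝟙_ Ov ⟶ Z) (hf : (X ◁ y) ≫ f = toUnit _ ≫ z) :
    (X ◁ L.ι) ≫ f = (X ◁ L.ι) ≫ snd X Y ≫ lift (toUnit Y ≫ x) (𝟙 Y) ≫ f := by
  refine eq_of_formal _ _ fun n ιn hιn => ?_
  let m := IsLocalRing.maximalIdeal L.O
  let Tn : Ov := Over.mk (Spec.map (CommRingCat.ofHom (algebraMap k (L.O ⧸ m ^ (n + 1)))))
  have hker : ∀ a, L.res a = 0 ↔ a ∈ m := fun a => by
    have := RingHom.ker_isMaximal_of_surjective L.res.toRingHom fun c =>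
      ⟨algebraMap k L.O c, by simp⟩
    show _ ↔ a ∈ IsLocalRing.maximalIdeal L.O
    rw [← IsLocalRing.eq_maximalIdeal this]
    exact Iff.rfl
  let r : L.O ⧸ m ^ (n + 1) →ₐ[k] k := Ideal.Quotient.liftₐ _ L.res fun a ha =>
    (hker a).mpr (Ideal.pow_le_self (Nat.succ_ne_zero n) ha)
  let o : 𝟙_ Ov ⟶ Tn := Over.homMk (Spec.map (CommRingCat.ofHom r.toRingHom)) (by
    show Spec.map _ ≫ Spec.map _ = 𝟙 _
    rw [← Spec.map_comp, ← Spec.map_id]
    congr 1
    ext c
    exact r.commutes c)
  haveI : Surjective o.left := ⟨fun q => by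
    refine ⟨IsLocalRing.closedPoint k, PrimeSpectrum.ext ?_⟩
    have hsurj : Function.Surjective r.toRingHom := fun c => ⟨algebraMap k _ c, r.commutes c⟩
    show Ideal.comap r.toRingHom (IsLocalRing.maximalIdeal k) = q.asIdeal
    rw [IsLocalRing.maximalIdeal_eq_bot]
    refine (RingHom.ker_isMaximal_of_surjective r.toRingHom hsurj).eq_of_le q.isPrime.ne_top ?_
    intro a ha
    obtain ⟨a, rfl⟩ := Ideal.Quotient.mk_surjective a
    refine q.isPrime.mem_of_pow_mem (n + 1) ?_
    rw [← map_pow, Ideal.Quotient.eq_zero_iff_mem.mpr (Ideal.pow_mem_pow ((hker a).mp ha) _)]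
    exact q.asIdeal.zero_mem⟩
  have hoy : o ≫ ιn ≫ L.ι = y := by
    apply Over.OverMorphism.ext
    rw [Over.comp_left, Over.comp_left, hιn]
    simp only [o, Over.homMk_left, ← Spec.map_comp_assoc, ← CommRingCat.ofHom_comp]
    exact L.res_comp
  haveI : IsAffine Tn.left := inferInstanceAs (IsAffine (Spec _))
  have h1 := exists_factor_one_point o x ((X ◁ ιn) ≫ (X ◁ L.ι) ≫ f) z (by
    rw [← MonoidalCategory.whiskerLeft_comp_assoc, ← MonoidalCategory.whiskerLeft_comp_assoc,
      Category.assoc, hoy, hf])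
  rw [h1, whiskerLeft_snd_assoc, whiskerLeft_snd_assoc]
  congr 1
  rw [← Category.assoc, ← Category.assoc, ← Category.assoc ιn L.ι, ← Category.assoc]
  congr 1
  apply CartesianMonoidalCategory.hom_ext <;> simp <;> rfl

set_option backward.isDefEq.respectTransparency false in
/-- Rigidity over an integral base. -/
theorem rigidity_integral {X Y Z : Ov} [CompactSpace X.left] [QuasiSeparatedSpace X.left]
    [IsIso X.hom.appTop] [IsLocallyNoetherian Y.left] [IrreducibleSpace Y.left] [IsReduced Y.left]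
    [IsSeparated Z.hom] (x : 𝟙_ Ov ⟶ X) (y : 𝟙_ Ov ⟶ Y) (f : X ⊗ Y ⟶ Z) (z : 𝟙_ Ov ⟶ Z)
    (hf : (X ◁ y) ≫ f = toUnit _ ≫ z) :
    f = snd X Y ≫ lift (toUnit Y ≫ x) (𝟙 Y) ≫ f := by
  obtain ⟨L, e, he⟩ := exists_loc Y y
  haveI : IsDominant L.ι.left := by
    rw [he]
    haveI : IsDominant (Y.left.fromSpecStalk (y.left (IsLocalRing.closedPoint k))) := by
      refine ⟨dense_iff_closure_eq.mpr (Set.univ_subset_iff.mp ?_)⟩
      rw [← genericPoint_closure (α := Y.left), Scheme.range_fromSpecStalk]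
      exact closure_mono (Set.singleton_subset_iff.mpr (genericPoint_specializes _))
    infer_instance
  haveI := IsSchemeTheoreticallyDominant.of_isDominant L.ι.left
  haveI : CompactSpace (Over.mk (Spec.map (CommRingCat.ofHom (algebraMap k L.O)))).left :=
    inferInstanceAs (CompactSpace ↥(Spec (CommRingCat.of L.O)))
  haveI : QuasiCompact L.ι.left := quasiCompact_of_compactSpace L.ι.left
  have hflat : Flat (snd X Y).left := inferInstanceAs (Flat (pullback.snd X.hom Y.hom))
  haveI : IsSchemeTheoreticallyDominant (X ◁ L.ι).left :=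
    IsSchemeTheoreticallyDominant.of_isPullback (f := L.ι.left) (g := (snd X Y).left)
      (pX := (snd X _).left) ((isPullback_whiskerLeft X L.ι).map (Over.forget _))
  apply Over.OverMorphism.ext
  exact eq_of_dominant Z.hom ((Over.w f).trans (Over.w (snd X Y ≫ _)).symm) (X ◁ L.ι).left
    (congrArg Over.Hom.left (agree_loc y L x f z hf))

variable [IsAlgClosed k]

/-- The rational point at a closed point. -/
noncomputable def closedPt (X : Ov) [LocallyOfFiniteType X.hom] (p : X.left)
    (hp : IsClosed ({p} : Set X.left)) : 𝟙_ Ov ⟶ X :=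
  Over.homMk _ ((pointEquivClosedPoint X.hom).symm ⟨p, hp⟩).2

lemma closedPt_apply (X : Ov) [LocallyOfFiniteType X.hom] (p : X.left)
    (hp : IsClosed ({p} : Set X.left)) :
    (closedPt X p hp).left (IsLocalRing.closedPoint k) = p :=
  congrArg Subtype.val ((pointEquivClosedPoint X.hom).apply_symm_apply ⟨p, hp⟩)

lemma isClosed_pt (X : Ov) [LocallyOfFiniteType X.hom] (s : 𝟙_ Ov ⟶ X) :
    IsClosed ({s.left (IsLocalRing.closedPoint k)} : Set X.left) :=
  ((pointEquivClosedPoint X.hom)
    (⟨s.left, Over.w s⟩ : { g : Spec (CommRingCat.of k) ⟶ X.left // g ≫ X.hom = 𝟙 _ })).2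

set_option backward.isDefEq.respectTransparency false in
/-- A morphism sending all rational points of an axis into one point is constant on the axis. -/
lemma exists_eq_const_axis {X Z : Ov} [LocallyOfFiniteType X.hom] [CompactSpace X.left]
    [IsIso X.hom.appTop] (φ : X ⊗ 𝟙_ Ov ⟶ Z) (z : 𝟙_ Ov ⟶ Z)
    (h : ∀ s : 𝟙_ Ov ⟶ X ⊗ 𝟙_ Ov, (s ≫ φ).left (IsLocalRing.closedPoint k) =
      z.left (IsLocalRing.closedPoint k)) (x : 𝟙_ Ov ⟶ X) :
    φ = toUnit _ ≫ lift x (𝟙 _) ≫ φ := by
  haveI : IsLocallyNoetherian X.left := LocallyOfFiniteType.isLocallyNoetherian X.hom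
  haveI : QuasiSeparatedSpace X.left := inferInstance
  obtain ⟨_, ⟨U, hU, rfl⟩, hzU, -⟩ := Z.left.isBasis_affineOpens.exists_subset_of_mem_open
    (Set.mem_univ (z.left (IsLocalRing.closedPoint k))) isOpen_univ
  haveI : IsAffine (𝟙_ Ov).left := inferInstanceAs (IsAffine (Spec (CommRingCat.of k)))
  haveI : CompactSpace (𝟙_ Ov).left := inferInstance
  haveI : QuasiSeparatedSpace (𝟙_ Ov).left := inferInstance
  obtain ⟨c, hc⟩ := H8AntiAffine.exists_eq_snd_comp φ U hU (by
    suffices ⊤ ≤ φ.left ⁻¹ᵁ ⟨U, U.isOpen⟩ by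
      rintro _ ⟨w, rfl⟩; exact this trivial
    rw [top_le_iff]
    by_contra hne
    haveI : LocallyOfFiniteType (𝟙_ Ov).hom :=
      inferInstanceAs (LocallyOfFiniteType (𝟙 (Spec (CommRingCat.of k))))
    haveI : LocallyOfFiniteType (X ⊗ 𝟙_ Ov).hom :=
      inferInstanceAs (LocallyOfFiniteType (pullback.fst X.hom (𝟙_ Ov).hom ≫ X.hom))
    haveI := LocallyOfFiniteType.jacobsonSpace (X ⊗ 𝟙_ Ov).hom
    obtain ⟨w, hw, hwc⟩ := nonempty_inter_closedPoints
      (Set.nonempty_compl.mpr (fun h => hne (TopologicalSpace.Opens.ext h)))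
      (φ.left ⁻¹ᵁ ⟨U, U.isOpen⟩).isOpen.isClosed_compl.isLocallyClosed
    apply hw
    show φ.left w ∈ U
    rw [← closedPt_apply (X ⊗ 𝟙_ Ov) w hwc, ← Scheme.Hom.comp_apply, ← Over.comp_left, h]
    exact hzU)
  rw [hc, lift_snd_assoc, Category.id_comp, toUnit_unique (snd X (𝟙_ Ov)) (toUnit _)]

/-- Morphisms agreeing on the local schemes at all closed points agree. -/
lemma ext_of_closedPoints {P Z : Scheme.{u}} [IsLocallyNoetherian P] [JacobsonSpace P]
    {a b : P ⟶ Z}
    (h : ∀ w, IsClosed ({w} : Set P) → P.fromSpecStalk w ≫ a = P.fromSpecStalk w ≫ b) :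
    a = b := by
  let 𝒲 : Set P.Opens := {V | V.ι ≫ a = V.ι ≫ b}
  have htop : sSup 𝒲 = ⊤ := by
    by_contra hne
    obtain ⟨w, hw, hwc⟩ := nonempty_inter_closedPoints
      (Set.nonempty_compl.mpr fun h => hne (TopologicalSpace.Opens.ext h))
      (sSup 𝒲).isOpen.isClosed_compl.isLocallyClosed
    obtain ⟨V, hwV, hV⟩ := spread_out_unique_of_isGermInjective' (x := w) a b (h w hwc)
    exact hw (TopologicalSpace.Opens.mem_sSup.mpr ⟨V, hV, hwV⟩)
  refine Scheme.Cover.hom_ext (P.openCoverOfIsOpenCover (fun V : 𝒲 => V.1) ?_) _ _ fun V => V.2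
  rw [TopologicalSpace.IsOpenCover, ← htop, sSup_eq_iSup']

set_option backward.isDefEq.respectTransparency false in
/-- Rigidity over a connected base over an algebraically closed field. -/
theorem rigidity_connected {X Y Z : Ov} [LocallyOfFiniteType X.hom] [CompactSpace X.left]
    [IsIso X.hom.appTop] [LocallyOfFiniteType Y.hom] [CompactSpace Y.left]
    [ConnectedSpace Y.left] [IsSeparated Z.hom] (x : 𝟙_ Ov ⟶ X) (y : 𝟙_ Ov ⟶ Y)
    (f : X ⊗ Y ⟶ Z) (z : 𝟙_ Ov ⟶ Z) (hf : (X ◁ y) ≫ f = toUnit _ ≫ z) :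
    f = snd X Y ≫ lift (toUnit Y ≫ x) (𝟙 Y) ≫ f := by
  haveI := LocallyOfFiniteType.jacobsonSpace X.hom
  haveI := LocallyOfFiniteType.jacobsonSpace Y.hom
  haveI : IsLocallyNoetherian X.left := LocallyOfFiniteType.isLocallyNoetherian X.hom
  haveI : IsLocallyNoetherian Y.left := LocallyOfFiniteType.isLocallyNoetherian Y.hom
  haveI : QuasiSeparatedSpace X.left := inferInstance
  let g : Y ⟶ Z := lift (toUnit Y ≫ x) (𝟙 Y) ≫ f
  let η₀ : (𝟙_ Ov).left := show Spec (CommRingCat.of k) from IsLocalRing.closedPoint k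
  have heq : ∀ a : 𝟙_ Ov ⟶ X, (lift (toUnit Y ≫ a) (𝟙 Y) ≫ f).left ≫ Z.hom = g.left ≫ Z.hom :=
    fun a => (Over.w _).trans (Over.w _).symm
  choose E' e he hcond hlift using fun a => exists_equalizer Z.hom (heq a)
  let C : Set Y.left := ⋂ a, Set.range (e a)
  have hCcl : IsClosed C := isClosed_iInter fun a => (he a).base_closed.isClosed_range
  -- constancy on the axis over a closed point of `C`
  have haxis : ∀ q, ∀ hq : IsClosed ({q} : Set Y.left), q ∈ C →
      (X ◁ closedPt Y q hq) ≫ f = toUnit _ ≫ (closedPt Y q hq ≫ g) := by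
    intro q hq hqC
    set y' := closedPt Y q hq
    have hsx : lift x (𝟙 (𝟙_ Ov)) ≫ (X ◁ y') = y' ≫ lift (toUnit Y ≫ x) (𝟙 Y) := by
      apply CartesianMonoidalCategory.hom_ext <;> simp
    rw [exists_eq_const_axis ((X ◁ y') ≫ f) (y' ≫ g) (fun s => ?_) x, reassoc_of% hsx]
    obtain ⟨v, hv⟩ := Set.mem_iInter.mp hqC (s ≫ fst X _)
    have e2 : s ≫ (X ◁ y') = y' ≫ lift (toUnit Y ≫ s ≫ fst X _) (𝟙 Y) := by
      apply CartesianMonoidalCategory.hom_ext
      · simp
      · simp
        rw [← Category.assoc, toUnit_unique (s ≫ snd X (𝟙_ Ov)) (𝟙 _), Category.id_comp]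
    have hv' : ((lift (toUnit Y ≫ s ≫ fst X _) (𝟙 Y)) ≫ f).left q = g.left q := by
      rw [← hv, ← Scheme.Hom.comp_apply, hcond, Scheme.Hom.comp_apply]
    have hy' : y'.left η₀ = q := closedPt_apply Y q hq
    rw [reassoc_of% e2, Over.comp_left, Scheme.Hom.comp_apply, hy', hv', ← hy',
      ← Scheme.Hom.comp_apply, ← Over.comp_left]
  have hy0 : IsClosed ({y.left η₀} : Set Y.left) := isClosed_pt Y y
  -- `C` is stable under generization at closed points
  have hgen : ∀ q, IsClosed ({q} : Set Y.left) → q ∈ C → ∀ p, p ⤳ q → p ∈ C := by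
    intro q hq hqC p hp
    refine Set.mem_iInter.mpr fun a => ?_
    obtain ⟨L, i, hi⟩ := exists_loc Y (closedPt Y q hq)
    have h := congrArg (fun m => lift (toUnit _ ≫ a) (𝟙 _) ≫ m)
      (agree_loc (closedPt Y q hq) L x f _ (haxis q hq hqC))
    have hs : lift (toUnit _ ≫ a) (𝟙 _) ≫ (X ◁ L.ι) = L.ι ≫ lift (toUnit Y ≫ a) (𝟙 Y) := by
      apply CartesianMonoidalCategory.hom_ext <;> simp
    simp only [reassoc_of% hs, lift_snd_assoc, Category.id_comp] at h
    obtain ⟨c, hc⟩ := hlift a L.ι.left (congrArg Over.Hom.left h)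
    have : p ∈ Set.range L.ι.left := by
      obtain ⟨v, hv⟩ : p ∈ Set.range (Y.left.fromSpecStalk
          ((closedPt Y q hq).left (IsLocalRing.closedPoint k))) := by
        rw [Scheme.range_fromSpecStalk]
        exact hp.trans (specializes_of_eq (closedPt_apply Y q hq).symm)
      rw [hi]
      refine ⟨(Spec.map i.hom) v, Eq.trans ?_ hv⟩
      have : Spec.map i.hom ≫ Spec.map i.inv ≫ Y.left.fromSpecStalk
          ((closedPt Y q hq).left (IsLocalRing.closedPoint k)) = Y.left.fromSpecStalk _ := by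
        rw [← Spec.map_comp_assoc, Iso.inv_hom_id, Spec.map_id, Category.id_comp]
      exact congrArg (fun m : Spec _ ⟶ Y.left => m v) this
    obtain ⟨v, rfl⟩ := this
    exact ⟨c v, by rw [← Scheme.Hom.comp_apply, hc]⟩
  have hy0C : y.left η₀ ∈ C := by
    refine Set.mem_iInter.mpr fun a => ?_
    have h : ∀ b : 𝟙_ Ov ⟶ X, y ≫ lift (toUnit Y ≫ b) (𝟙 Y) ≫ f = z := fun b => by
      have := congrArg (fun m => lift b (𝟙 (𝟙_ Ov)) ≫ m) hf
      have hs : lift b (𝟙 (𝟙_ Ov)) ≫ (X ◁ y) = y ≫ lift (toUnit Y ≫ b) (𝟙 Y) := by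
        apply CartesianMonoidalCategory.hom_ext <;> simp
      simpa [reassoc_of% hs] using this
    obtain ⟨c, hc⟩ := hlift a y.left (congrArg Over.Hom.left ((h a).trans (h x).symm))
    exact ⟨c η₀, by rw [← Scheme.Hom.comp_apply, hc]⟩
  -- `C` is everything
  have hCuniv : ∀ q, IsClosed ({q} : Set Y.left) → q ∈ C := by
    haveI : IsNoetherian Y.left := { }
    have hfin := TopologicalSpace.NoetherianSpace.finite_irreducibleComponents (α := Y.left)
    have key : ∀ q, IsClosed ({q} : Set Y.left) → q ∈ C → ∀ W ∈ irreducibleComponents Y.left,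
        q ∈ W → W ⊆ C := by
      intro q hq hqC W hW hqW
      have hgp := hW.1.isGenericPoint_genericPoint (isClosed_of_mem_irreducibleComponents W hW)
      rw [← hgp.def]
      exact closure_minimal (Set.singleton_subset_iff.mpr
        (hgen q hq hqC _ (hgp.specializes hqW))) hCcl
    have hCopen : IsOpen C := by
      have : Cᶜ = ⋃₀ {W ∈ irreducibleComponents Y.left | ¬ W ⊆ C} := by
        refine subset_antisymm (fun q hq => ?_) (Set.sUnion_subset fun W hW q hqW hqC => ?_)
        · exact ⟨irreducibleComponent q, ⟨irreducibleComponent_mem_irreducibleComponents q,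
            fun h => hq (h mem_irreducibleComponent)⟩, mem_irreducibleComponent⟩
        · obtain ⟨q', hq', hq'c⟩ := nonempty_inter_closedPoints
            (show (C ∩ W).Nonempty from ⟨q, hqC, hqW⟩)
            (hCcl.inter (isClosed_of_mem_irreducibleComponents W hW.1)).isLocallyClosed
          exact hW.2 (key q' hq'c hq'.1 W hW.1 hq'.2)
      rw [← isClosed_compl_iff, this, Set.sUnion_eq_biUnion]
      exact (hfin.subset fun W hW => hW.1).isClosed_biUnion
        fun W hW => isClosed_of_mem_irreducibleComponents W hW.1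
    intro q hq
    rw [IsClopen.eq_univ ⟨hCcl, hCopen⟩ ⟨_, hy0C⟩]
    trivial
  -- conclusion
  haveI : LocallyOfFiniteType (X ⊗ Y).hom :=
    inferInstanceAs (LocallyOfFiniteType (pullback.fst X.hom Y.hom ≫ X.hom))
  haveI : IsLocallyNoetherian (X ⊗ Y).left :=
    LocallyOfFiniteType.isLocallyNoetherian (X ⊗ Y).hom
  haveI := LocallyOfFiniteType.jacobsonSpace (X ⊗ Y).hom
  apply Over.OverMorphism.ext
  refine ext_of_closedPoints fun w hw => ?_
  let s := closedPt (X ⊗ Y) w hw
  have hq : IsClosed ({(snd X Y).left w} : Set Y.left) := by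
    have := isClosed_pt Y (s ≫ snd X Y)
    rwa [Over.comp_left, Scheme.Hom.comp_apply, closedPt_apply] at this
  set q := (snd X Y).left w with hqdef
  obtain ⟨L, i, hi⟩ := exists_loc Y (closedPt Y q hq)
  have hag := congrArg Over.Hom.left
    (agree_loc (closedPt Y q hq) L x f _ (haxis q hq (hCuniv q hq)))
  let ey := Y.left.presheaf.stalkCongr (Inseparable.of_eq (closedPt_apply Y q hq))
  let ψ : CommRingCat.of L.O ⟶ (X ⊗ Y).left.presheaf.stalk w :=
    i.hom ≫ ey.hom ≫ (snd X Y).left.stalkMap w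
  have hψ : Spec.map ψ ≫ L.ι.left = (X ⊗ Y).left.fromSpecStalk w ≫ (snd X Y).left := by
    rw [hi, ← Scheme.SpecMap_stalkMap_fromSpecStalk, ← Spec.map_comp_assoc]
    simp only [ψ, Iso.inv_hom_id_assoc, Spec.map_comp, Category.assoc]
    congr 1
    simp only [ey, TopCat.Presheaf.stalkCongr]
    exact Scheme.SpecMap_stalkSpecializes_fromSpecStalk _
  let W : Ov := Over.mk ((X ⊗ Y).left.fromSpecStalk w ≫ (X ⊗ Y).hom)
  let jw : W ⟶ X ⊗ Y := Over.homMk ((X ⊗ Y).left.fromSpecStalk w) rfl
  let t : W ⟶ Over.mk (Spec.map (CommRingCat.ofHom (algebraMap k L.O))) :=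
    Over.homMk (Spec.map ψ) (by
      show Spec.map ψ ≫ _ = _
      rw [← Over.w L.ι, ← Category.assoc, hψ, Category.assoc, Over.w]
      rfl)
  have hj : lift (jw ≫ fst X Y) t ≫ (X ◁ L.ι) = jw := by
    apply CartesianMonoidalCategory.hom_ext
    · simp
    · rw [Category.assoc, whiskerLeft_snd, lift_snd_assoc]
      exact Over.OverMorphism.ext hψ
  have h3 := congrArg (fun m => (lift (jw ≫ fst X Y) t).left ≫ m) hag
  simp only [Over.comp_left] at h3
  rw [← Category.assoc, ← Category.assoc (lift (jw ≫ fst X Y) t).left, ← Over.comp_left, hj] at h3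
  exact h3

end Groth.Agent.H8Rigidity2
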