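import Mathlib
import Groth.Agent.Lib.H8GenPoint
import Groth.Agent.Lib.H8Rigidity2

/-!
# Irreducible components of group schemes over a field

Every point of a group scheme over a field has a unique maximal generalisation, and the set of points
whose maximal generalisation lies in a given open is open.
-/

set_option autoImplicit false

universe u

open CategoryTheory Limits AlgebraicGeometry MonoidalCategory CartesianMonoidalCategory
open scoped MonObj

namespace Groth.Agent.H8Component

open H8GenPoint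

variable {k : Type u} [Field k]

local notation "Ov" => Over (Spec (CommRingCat.of k))
local notation "S0" => Spec (CommRingCat.of k)

/-- The point of the base change of `G` given by a point of `G` with values in a field. -/
noncomputable def pnt {K : Type u} [Field K] {G : Over (Spec (CommRingCat.of k))}
    {s : Spec (CommRingCat.of K) ⟶ Spec (CommRingCat.of k)} (p : Over.mk s ⟶ G) :
    ↥(G ⊗ Over.mk s).left :=
  (lift p (𝟙 (Over.mk s))).left (IsLocalRing.closedPoint K)

lemma fst_pnt {K : Type u} [Field K] {G : Over (Spec (CommRingCat.of k))}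
    {s : Spec (CommRingCat.of K) ⟶ Spec (CommRingCat.of k)} (p : Over.mk s ⟶ G) :
    (fst G (Over.mk s)).left (pnt p) = p.left (IsLocalRing.closedPoint K) := by
  show ((lift p (𝟙 (Over.mk s))) ≫ fst G (Over.mk s)).left (IsLocalRing.closedPoint K) = _
  rw [lift_fst]

/-- Every point is the image of a point with values in an algebraically closed field. -/
theorem exists_geom_point (G : Over (Spec (CommRingCat.of k))) (x : G.left) :
    ∃ (K : Type u) (_ : Field K) (_ : IsAlgClosed K) (s : Spec (CommRingCat.of K) ⟶ S0)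
      (p : Over.mk s ⟶ G), p.left (IsLocalRing.closedPoint K) = x := by
  let K := AlgebraicClosure (G.left.residueField x)
  let q : Spec (CommRingCat.of K) ⟶ G.left :=
    Spec.map (CommRingCat.ofHom (algebraMap (G.left.residueField x) K)) ≫
      G.left.fromSpecResidueField x
  refine ⟨K, inferInstance, inferInstance, q ≫ G.hom, Over.homMk q rfl, ?_⟩
  show (Spec.map (CommRingCat.ofHom (algebraMap (G.left.residueField x) K)) ≫
      G.left.fromSpecResidueField x) _ = x
  rw [Scheme.Hom.comp_apply]
  exact Scheme.fromSpecResidueField_apply _ _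

section Fst

variable (G T : Over (Spec (CommRingCat.of k)))

instance flat_fst : Flat (fst G T).left := by
  rw [Over.fst_left]
  infer_instance

instance flat_snd : Flat (snd G T).left := by
  rw [Over.snd_left]
  infer_instance

end Fst

section AlgClosed

set_option backward.isDefEq.respectTransparency false in
/-- Over an algebraically closed field at most one maximal point specialises to the origin. -/
theorem eq_of_specializes_one [IsAlgClosed k] (H : Ov) [GrpObj H] (t : S0) {γ₁ γ₂ : H.left}
    (h₁ : IsMaxPt γ₁) (h₂ : IsMaxPt γ₂) (hs₁ : γ₁ ⤳ (η[H]).left t) (hs₂ : γ₂ ⤳ (η[H]).left t) :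
    γ₁ = γ₂ := by
  obtain ⟨θ, -, -, hθ⟩ := exists_generic_pair H.hom H.hom γ₁ γ₂
  have key : ∀ (j : H ⟶ H ⊗ H), j ≫ μ[H] = 𝟙 H → ∀ (a b : H ⊗ H ⟶ H), j ≫ a = 𝟙 H →
      j ≫ b = toUnit H ≫ η[H] → Flat b.left → ∀ c c' : H.left, IsMaxPt c → c' ⤳ η[H].left t →
      ∃ z, z ⤳ j.left c ∧ μ[H].left (j.left c) = c ∧ a.left z = c ∧ b.left z = c' := by
    intro j hj a b ha hb hfl c c' hc hc'
    have e1 : b.left (j.left c) = η[H].left t := by
      rw [← Scheme.Hom.comp_apply, ← Over.comp_left, hb, Over.comp_left, Scheme.Hom.comp_apply]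
      haveI : Subsingleton ↥(𝟙_ Ov).left := inferInstanceAs (Subsingleton ↥(S0))
      congr 1
      exact Subsingleton.elim _ _
    obtain ⟨z, hz, hz'⟩ := @exists_lift _ _ b.left hfl (j.left c) c' (e1.symm ▸ hc')
    refine ⟨z, hz, ?_, hc.eq ?_, hz'⟩
    · rw [← Scheme.Hom.comp_apply, ← Over.comp_left, hj]
      rfl
    · have : a.left (j.left c) = c := by
        rw [← Scheme.Hom.comp_apply, ← Over.comp_left, ha]
        rfl
      have h3 := hz.map a.left.continuous
      rwa [this] at h3
  obtain ⟨z₁, hz₁, hm₁, hf₁, hg₁⟩ := key (lift (𝟙 H) (toUnit H ≫ η[H]))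
    (show (𝟙 H : H ⟶ H) * 1 = 𝟙 H from _root_.mul_one _) (fst H H) (snd H H) (lift_fst _ _)
    (lift_snd _ _) inferInstance γ₁ γ₂ h₁ hs₂
  obtain ⟨z₂, hz₂, hm₂, hg₂, hf₂⟩ := key (lift (toUnit H ≫ η[H]) (𝟙 H))
    (show (1 : H ⟶ H) * 𝟙 H = 𝟙 H from _root_.one_mul _) (snd H H) (fst H H) (lift_snd _ _)
    (lift_fst _ _) inferInstance γ₂ γ₁ h₂ hs₁
  have e1 := h₁.eq (((hθ z₁ hf₁ hg₁).trans hz₁).map μ[H].left.continuous |>.trans
    (specializes_of_eq hm₁))
  have e2 := h₂.eq (((hθ z₂ hf₂ hg₂).trans hz₂).map μ[H].left.continuous |>.trans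
    (specializes_of_eq hm₂))
  exact e1.symm.trans e2

/-- Over an algebraically closed field at most one maximal point specialises to a rational point. -/
theorem eq_of_specializes_rat [IsAlgClosed k] (H : Ov) [GrpObj H] (p : 𝟙_ Ov ⟶ H) (t : S0)
    {γ₁ γ₂ : H.left} (h₁ : IsMaxPt γ₁) (h₂ : IsMaxPt γ₂) (hs₁ : γ₁ ⤳ p.left t)
    (hs₂ : γ₂ ⤳ p.left t) : γ₁ = γ₂ := by
  let e : H ≅ H :=
    { hom := (𝟙 H) * (toUnit H ≫ p⁻¹)
      inv := (𝟙 H) * (toUnit H ≫ p)
      hom_inv_id := by
        rw [MonObj.comp_mul, ← Category.assoc, toUnit_unique (_ ≫ toUnit H) (toUnit H),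
          Category.comp_id, _root_.mul_assoc, ← MonObj.comp_mul, inv_mul_cancel, MonObj.comp_one,
          _root_.mul_one]
      inv_hom_id := by
        rw [MonObj.comp_mul, ← Category.assoc, toUnit_unique (_ ≫ toUnit H) (toUnit H),
          Category.comp_id, _root_.mul_assoc, ← MonObj.comp_mul, mul_inv_cancel, MonObj.comp_one,
          _root_.mul_one] }
  let eL : H.left ≅ H.left := (Over.forget _).mapIso e
  have he : p ≫ e.hom = η[H] := by
    show p ≫ ((𝟙 H) * (toUnit H ≫ p⁻¹)) = η[H]
    rw [MonObj.comp_mul, ← Category.assoc, toUnit_unique (p ≫ toUnit H) (𝟙 _), Category.id_comp,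
      Category.comp_id, mul_inv_cancel]
    simp [Hom.one_def]
  have hp : eL.hom (p.left t) = η[H].left t := by
    show (p ≫ e.hom).left t = _
    rw [he]
  have := eq_of_specializes_one H t (h₁.map eL.hom) (h₂.map eL.hom)
    (by rw [← hp]; exact hs₁.map eL.hom.continuous) (by rw [← hp]; exact hs₂.map eL.hom.continuous)
  exact (eL.hom.isOpenEmbedding.injective this)

end AlgClosed

variable (G : Over (Spec (CommRingCat.of k))) [GrpObj G]

set_option backward.isDefEq.respectTransparency false in
/-- Every point has exactly one maximal generalisation. -/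
theorem existsUnique_gen (x : G.left) : ∃! y, IsMaxPt y ∧ y ⤳ x := by
  obtain ⟨y, hy, hyx⟩ := exists_isMaxPt x
  refine ⟨y, ⟨hy, hyx⟩, ?_⟩
  rintro y' ⟨hy', hyx'⟩
  obtain ⟨K, _, _, s, p, hp⟩ := exists_geom_point G x
  let π := (fst G (Over.mk s)).left
  have hπ : π (pnt p) = x := (fst_pnt p).trans hp
  have lift_max : ∀ y, IsMaxPt y → y ⤳ x → ∃ w, IsMaxPt w ∧ w ⤳ pnt p ∧ π w = y := by
    intro y hy hyx
    obtain ⟨z, hz, hz'⟩ := exists_lift π (hπ.symm ▸ hyx : y ⤳ π (pnt p))
    obtain ⟨w, hw, hwz⟩ := exists_isMaxPt z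
    exact ⟨w, hw, hwz.trans hz, hy.eq (hz' ▸ hwz.map π.continuous)⟩
  obtain ⟨w, hw, hws, rfl⟩ := lift_max y hy hyx
  obtain ⟨w', hw', hws', rfl⟩ := lift_max y' hy' hyx'
  let p' : 𝟙_ (Over (Spec (CommRingCat.of K))) ⟶ (Over.pullback s).obj G :=
    Over.homMk (lift p (𝟙 (Over.mk s))).left
      (show ((lift p (𝟙 (Over.mk s))) ≫ snd G (Over.mk s)).left = _ by rw [lift_snd]; rfl)
  letI : GrpObj ((Over.pullback s).obj G) := Functor.grpObjObj
  exact congrArg π (eq_of_specializes_rat ((Over.pullback s).obj G) p' (IsLocalRing.closedPoint K)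
    hw' hw hws' hws)

/-- The maximal generalisation of a point. -/
noncomputable def gen (x : G.left) : G.left := (existsUnique_gen G x).choose

lemma isMaxPt_gen (x : G.left) : IsMaxPt (gen G x) := (existsUnique_gen G x).choose_spec.1.1

lemma gen_specializes (x : G.left) : gen G x ⤳ x := (existsUnique_gen G x).choose_spec.1.2

lemma eq_gen {x y : G.left} (h : IsMaxPt y) (hs : y ⤳ x) : y = gen G x :=
  (existsUnique_gen G x).choose_spec.2 y ⟨h, hs⟩

lemma gen_eq_of_specializes {x y : G.left} (h : y ⤳ x) : gen G y = gen G x :=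
  eq_gen G (isMaxPt_gen G y) ((gen_specializes G y).trans h)

lemma gen_eq_self {y : G.left} (h : IsMaxPt y) : gen G y = y :=
  (eq_gen G h specializes_rfl).symm

section Field

variable {K : Type u} [Field K] (s : Spec (CommRingCat.of K) ⟶ Spec (CommRingCat.of k))

set_option backward.isDefEq.respectTransparency false in
/-- Every point of a base change has exactly one maximal generalisation. -/
theorem existsUnique_genT (z : ↥(G ⊗ Over.mk s).left) : ∃! y, IsMaxPt y ∧ y ⤳ z :=
  letI : GrpObj ((Over.pullback s).obj G) := Functor.grpObjObj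
  existsUnique_gen ((Over.pullback s).obj G) z

/-- The maximal generalisation of a point of a base change. -/
noncomputable def genT (z : ↥(G ⊗ Over.mk s).left) : ↥(G ⊗ Over.mk s).left :=
  (existsUnique_genT G s z).choose

lemma isMaxPt_genT (z : ↥(G ⊗ Over.mk s).left) : IsMaxPt (genT G s z) :=
  (existsUnique_genT G s z).choose_spec.1.1

lemma genT_specializes (z : ↥(G ⊗ Over.mk s).left) : genT G s z ⤳ z :=
  (existsUnique_genT G s z).choose_spec.1.2

lemma eq_genT {z y : ↥(G ⊗ Over.mk s).left} (h : IsMaxPt y) (hs : y ⤳ z) : y = genT G s z :=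
  (existsUnique_genT G s z).choose_spec.2 y ⟨h, hs⟩

lemma fst_genT (z : ↥(G ⊗ Over.mk s).left) :
    (fst G (Over.mk s)).left (genT G s z) = gen G ((fst G (Over.mk s)).left z) :=
  eq_gen G ((isMaxPt_genT G s z).map _)
    ((genT_specializes G s z).map (fst G (Over.mk s)).left.continuous)

lemma map_genT (e : G ⊗ Over.mk s ⟶ G ⊗ Over.mk s) [IsIso e] (z : ↥(G ⊗ Over.mk s).left) :
    e.left (genT G s z) = genT G s (e.left z) := by
  haveI : IsIso e.left := ((Over.forget _).mapIso (asIso e)).isIso_hom
  exact eq_genT G s ((isMaxPt_genT G s z).map _) ((genT_specializes G s z).map e.left.continuous)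

end Field

/-- The origin. -/
noncomputable def org : G.left := η[G].left (IsLocalRing.closedPoint k)

/-- The generic point of the identity component. -/
noncomputable def gen₀ : G.left := gen G (org G)

/-- The maximal point of a base change above the origin. -/
noncomputable def gen₀T {K : Type u} [Field K]
    (s : Spec (CommRingCat.of K) ⟶ Spec (CommRingCat.of k)) : ↥(G ⊗ Over.mk s).left :=
  genT G s (pnt (1 : Over.mk s ⟶ G))

lemma fst_pnt_one {K : Type u} [Field K]
    (s : Spec (CommRingCat.of K) ⟶ Spec (CommRingCat.of k)) :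
    (fst G (Over.mk s)).left (pnt (1 : Over.mk s ⟶ G)) = org G := by
  rw [fst_pnt, Hom.one_def, Over.comp_left, Scheme.Hom.comp_apply]
  haveI : Subsingleton ↥(𝟙_ Ov).left := inferInstanceAs (Subsingleton ↥(S0))
  exact congrArg _ (Subsingleton.elim _ _)

lemma fst_gen₀T {K : Type u} [Field K]
    (s : Spec (CommRingCat.of K) ⟶ Spec (CommRingCat.of k)) :
    (fst G (Over.mk s)).left (gen₀T G s) = gen₀ G := by
  rw [gen₀T, fst_genT, fst_pnt_one]
  rfl

/-- Change of the field. -/
lemma map_gen₀T {K L : Type u} [Field K] [Field L]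
    {s : Spec (CommRingCat.of K) ⟶ Spec (CommRingCat.of k)}
    {s' : Spec (CommRingCat.of L) ⟶ Spec (CommRingCat.of k)} (v : Over.mk s' ⟶ Over.mk s)
    [Flat (G ◁ v).left] : (G ◁ v).left (gen₀T G s') = gen₀T G s := by
  refine eq_genT G s ((isMaxPt_genT G s' _).map _) ?_
  have h : (G ◁ v).left (pnt (1 : Over.mk s' ⟶ G)) = pnt (1 : Over.mk s ⟶ G) := by
    show ((lift (1 : Over.mk s' ⟶ G) (𝟙 _)) ≫ G ◁ v).left (IsLocalRing.closedPoint L)
      = (lift (1 : Over.mk s ⟶ G) (𝟙 _)).left (IsLocalRing.closedPoint K)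
    have e : lift (1 : Over.mk s' ⟶ G) (𝟙 _) ≫ G ◁ v = v ≫ lift (1 : Over.mk s ⟶ G) (𝟙 _) := by
      rw [lift_whiskerLeft, comp_lift, MonObj.comp_one, Category.comp_id, Category.id_comp]
    rw [e, Over.comp_left, Scheme.Hom.comp_apply]
    haveI : Subsingleton ↥(Over.mk s).left := inferInstanceAs (Subsingleton ↥(Spec (CommRingCat.of K)))
    exact congrArg _ (Subsingleton.elim _ _)
  rw [← h]
  exact (genT_specializes G s' _).map (G ◁ v).left.continuous

omit [GrpObj G] in
lemma isPullback_whisker {T T' : Over (Spec (CommRingCat.of k))} (v : T' ⟶ T) :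
    IsPullback (G ◁ v).left (snd G T').left (snd G T).left v.left :=
  (((H8Rigidity2.isPullback_whiskerLeft G v).flip).map (Over.forget _))

omit [GrpObj G] in
lemma flat_whisker {K L : Type u} [Field K] [Field L]
    {s : Spec (CommRingCat.of K) ⟶ Spec (CommRingCat.of k)}
    {s' : Spec (CommRingCat.of L) ⟶ Spec (CommRingCat.of k)} (v : Over.mk s' ⟶ Over.mk s) :
    Flat (G ◁ v).left := by
  haveI : Flat v.left := by
    obtain ⟨a, ha⟩ := Spec.map_surjective (v.left : Spec (CommRingCat.of L) ⟶ Spec (CommRingCat.of K))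
    rw [← ha, HasRingHomProperty.Spec_iff (P := @Flat)]
    letI : Algebra K L := a.hom.toAlgebra
    show (algebraMap K L).Flat
    exact RingHom.flat_algebraMap_iff.mpr inferInstance
  exact MorphismProperty.of_isPullback (isPullback_whisker G v).flip ‹_›

omit [GrpObj G] in
lemma surjective_whisker {K L : Type u} [Field K] [Field L]
    {s : Spec (CommRingCat.of K) ⟶ Spec (CommRingCat.of k)}
    {s' : Spec (CommRingCat.of L) ⟶ Spec (CommRingCat.of k)} (v : Over.mk s' ⟶ Over.mk s) :
    Surjective (G ◁ v).left := by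
  haveI : Surjective v.left := ⟨fun t => ⟨IsLocalRing.closedPoint L, by
    haveI : Subsingleton ↥(Over.mk s).left := inferInstanceAs (Subsingleton ↥(Spec (CommRingCat.of K)))
    exact Subsingleton.elim _ _⟩⟩
  exact MorphismProperty.of_isPullback (isPullback_whisker G v).flip ‹_›

set_option backward.isDefEq.respectTransparency false in
/-- The identity component is geometrically irreducible. -/
theorem genT_eq_of_gen_eq {K : Type u} [Field K]
    (s : Spec (CommRingCat.of K) ⟶ Spec (CommRingCat.of k)) (z : ↥(G ⊗ Over.mk s).left)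
    (hz : gen G ((fst G (Over.mk s)).left z) = gen₀ G) : genT G s z = gen₀T G s := by
  suffices H : ∀ ζ : ↥(G ⊗ Over.mk s).left, IsMaxPt ζ → (fst G (Over.mk s)).left ζ = gen₀ G →
      ζ = gen₀T G s from H _ (isMaxPt_genT G s z) (by rw [fst_genT, hz])
  intro ζ hζ hζ0
  -- the algebraic closure of the base
  let Ω := AlgebraicClosure k
  let s₀ : Spec (CommRingCat.of Ω) ⟶ S0 := Spec.map (CommRingCat.ofHom (algebraMap k Ω))
  have h₀ : ∀ ζ : ↥(G ⊗ Over.mk s₀).left, IsMaxPt ζ → (fst G (Over.mk s₀)).left ζ = gen₀ G →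
      ζ = gen₀T G s₀ := by
    intro ζ hζ hζ0
    haveI : IsIntegralHom s₀ :=
      IsIntegralHom.SpecMap_iff.mpr (algebraMap_isIntegral_iff.mpr inferInstance)
    haveI : IsIntegralHom (Over.mk s₀).hom := ‹IsIntegralHom s₀›
    haveI : IsIntegralHom (fst G (Over.mk s₀)).left := by rw [Over.fst_left]; infer_instance
    let π := (fst G (Over.mk s₀)).left
    obtain ⟨w, hw, hw'⟩ : ∃ w ∈ closure {ζ}, π w = org G := by
      have hcl : IsClosed (π '' closure {ζ}) := π.isClosedMap _ isClosed_closure
      have h1 : gen₀ G ∈ π '' closure {ζ} := ⟨ζ, subset_closure rfl, hζ0⟩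
      exact hcl.stableUnderSpecialization (gen_specializes G (org G)) h1
    have hwe : w = pnt (1 : Over.mk s₀ ⟶ G) := by
      let j : 𝟙_ Ov ⊗ Over.mk s₀ ⟶ G ⊗ Over.mk s₀ := η[G] ▷ Over.mk s₀
      have hrange : ∀ w' : ↥(G ⊗ Over.mk s₀).left, π w' = org G → w' ∈ Set.range j.left := by
        intro w' hw'
        rw [Over.whiskerRight_left]
        refine (Scheme.Pullback.range_map (𝟙_ Ov).hom (Over.mk s₀).hom G.hom (Over.mk s₀).hom
          η[G].left (𝟙 (Over.mk s₀).left) (𝟙 S0) _ _).ge ⟨⟨IsLocalRing.closedPoint k, hw'.symm⟩, ?_⟩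
        exact ⟨_, rfl⟩
      obtain ⟨a, ha⟩ := hrange w hw'
      obtain ⟨b, hb⟩ := hrange _ (fst_pnt_one G s₀)
      haveI : Subsingleton ↥((Over.forget S0).obj (Over.mk s₀)) :=
        inferInstanceAs (Subsingleton ↥(Spec (CommRingCat.of Ω)))
      haveI : Subsingleton ↥(𝟙_ Ov ⊗ Over.mk s₀).left :=
        ((Over.forget _).mapIso (λ_ (Over.mk s₀))).hom.homeomorph.injective.subsingleton
      rw [← ha, ← hb, Subsingleton.elim a b]
    exact eq_genT G s₀ hζ (hwe ▸ specializes_iff_mem_closure.mpr hw)
  -- an algebraically closed extension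
  let L := AlgebraicClosure K
  obtain ⟨a, ha⟩ := Spec.map_surjective s
  letI : Algebra k K := a.hom.toAlgebra
  letI : Algebra k L := ((algebraMap K L).comp a.hom).toAlgebra
  let ι₀ : Ω →ₐ[k] L := IsAlgClosed.lift
  let s' : Spec (CommRingCat.of L) ⟶ S0 := Spec.map (CommRingCat.ofHom (algebraMap k L))
  let v : Over.mk s' ⟶ Over.mk s := Over.homMk (Spec.map (CommRingCat.ofHom (algebraMap K L))) (by
    show _ ≫ s = Spec.map _
    rw [← ha, ← Spec.map_comp]
    rfl)
  let v₀ : Over.mk s' ⟶ Over.mk s₀ := Over.homMk (Spec.map (CommRingCat.ofHom ι₀.toRingHom)) (by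
    show _ ≫ s₀ = Spec.map _
    rw [← Spec.map_comp, ← CommRingCat.ofHom_comp, AlgHom.toRingHom_eq_coe, AlgHom.comp_algebraMap])
  haveI := flat_whisker G v
  haveI := flat_whisker G v₀
  haveI := surjective_whisker G v
  obtain ⟨ζ', rfl⟩ := (G ◁ v).left.surjective ζ
  have hζ'max := isMaxPt_genT G s' ζ'
  have e1 : (G ◁ v).left (genT G s' ζ') = (G ◁ v).left ζ' :=
    hζ.eq ((genT_specializes G s' ζ').map (G ◁ v).left.continuous)
  rw [← e1] at hζ0 ⊢
  have hfst : ∀ {T T' : Ov} (w : T' ⟶ T) (q : ↥(G ⊗ T').left),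
      (fst G T).left ((G ◁ w).left q) = (fst G T').left q := fun {T T'} w q => by
    rw [← Scheme.Hom.comp_apply, ← Over.comp_left, whiskerLeft_fst]
  rw [hfst] at hζ0
  have h2 := h₀ _ (hζ'max.map (G ◁ v₀).left) (by rw [hfst, hζ0])
  rw [← map_gen₀T G v₀] at h2
  -- both points lie over the same pair
  suffices genT G s' ζ' = gen₀T G s' by rw [this, map_gen₀T G v]
  let P := (isPullback_whisker G v₀).isoPullback
  haveI : IsAlgClosed Ω := inferInstance
  obtain ⟨θ, -, -, hθ⟩ := exists_generic_pair (k := Ω) (snd G (Over.mk s₀)).left v₀.left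
    ((G ◁ v₀).left (gen₀T G s')) (IsLocalRing.closedPoint L)
  have hpair : ∀ q : ↥(G ⊗ Over.mk s').left, IsMaxPt q →
      (G ◁ v₀).left q = (G ◁ v₀).left (gen₀T G s') → P.hom q = θ := by
    intro q hq hq'
    refine ((hq.map P.hom).eq (hθ _ ?_ ?_)).symm
    · rw [← Scheme.Hom.comp_apply, IsPullback.isoPullback_hom_fst]
      exact hq'
    · haveI : Subsingleton ↥(Spec (CommRingCat.of L)) := inferInstance
      exact Subsingleton.elim (α := ↥(Spec (CommRingCat.of L))) _ _
  exact P.hom.isOpenEmbedding.injective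
    ((hpair _ hζ'max h2).trans (hpair _ (isMaxPt_genT G s' _) rfl).symm)

set_option backward.isDefEq.respectTransparency false in
/-- Translation on the right by a point with values in a field. -/
noncomputable def transl {K : Type u} [Field K]
    {s : Spec (CommRingCat.of K) ⟶ Spec (CommRingCat.of k)} (p : Over.mk s ⟶ G) :
    G ⊗ Over.mk s ≅ G ⊗ Over.mk s where
  hom := lift (fst G (Over.mk s) * (snd G (Over.mk s) ≫ p)) (snd G (Over.mk s))
  inv := lift (fst G (Over.mk s) * (snd G (Over.mk s) ≫ p⁻¹)) (snd G (Over.mk s))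
  hom_inv_id := by
    apply CartesianMonoidalCategory.hom_ext
    · rw [Category.assoc, lift_fst, MonObj.comp_mul, lift_fst, ← Category.assoc, lift_snd,
        _root_.mul_assoc, ← MonObj.comp_mul, mul_inv_cancel, MonObj.comp_one, _root_.mul_one,
        Category.id_comp]
    · rw [Category.assoc, lift_snd, lift_snd, Category.id_comp]
  inv_hom_id := by
    apply CartesianMonoidalCategory.hom_ext
    · rw [Category.assoc, lift_fst, MonObj.comp_mul, lift_fst, ← Category.assoc, lift_snd,
        _root_.mul_assoc, ← MonObj.comp_mul, inv_mul_cancel, MonObj.comp_one, _root_.mul_one,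
        Category.id_comp]
    · rw [Category.assoc, lift_snd, lift_snd, Category.id_comp]

lemma transl_pnt_one {K : Type u} [Field K]
    {s : Spec (CommRingCat.of K) ⟶ Spec (CommRingCat.of k)} (p : Over.mk s ⟶ G) :
    (transl G p).hom.left (pnt (1 : Over.mk s ⟶ G)) = pnt p := by
  show (lift (1 : Over.mk s ⟶ G) (𝟙 _) ≫ (transl G p).hom).left (IsLocalRing.closedPoint K) = _
  rw [show lift (1 : Over.mk s ⟶ G) (𝟙 _) ≫ (transl G p).hom = lift p (𝟙 _) by
    rw [transl, comp_lift, MonObj.comp_mul, lift_fst, lift_snd, ← Category.assoc, lift_snd,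
      Category.id_comp, _root_.one_mul]]
  rfl

set_option backward.isDefEq.respectTransparency false in
/-- Multiplication by the identity component preserves maximal generalisations. -/
theorem gen_mul (z : ↥(G ⊗ G).left) (hz : gen G ((fst G G).left z) = gen₀ G) :
    gen G (μ[G].left z) = gen G ((snd G G).left z) := by
  obtain ⟨K, _, _, s, p, hp⟩ := exists_geom_point G ((snd G G).left z)
  obtain ⟨z', hz', -⟩ := Scheme.exists_preimage_of_isPullback (isPullback_whisker G p)
    z (IsLocalRing.closedPoint K) hp.symm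
  subst hz'
  have hfst : (fst G G).left ((G ◁ p).left z') = (fst G (Over.mk s)).left z' := by
    rw [← Scheme.Hom.comp_apply, ← Over.comp_left, whiskerLeft_fst]
  rw [hfst] at hz
  have h1 := genT_eq_of_gen_eq G s z' hz
  have e : G ◁ p ≫ μ[G] = (transl G p).hom ≫ fst G (Over.mk s) := by
    rw [transl, lift_fst, Hom.mul_def]
    congr 1
  have e2 : μ[G].left ((G ◁ p).left z') = (fst G (Over.mk s)).left ((transl G p).hom.left z') := by
    rw [← Scheme.Hom.comp_apply, ← Over.comp_left, e, Over.comp_left, Scheme.Hom.comp_apply]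
  rw [e2, ← fst_genT, ← map_genT, h1, gen₀T, map_genT, transl_pnt_one, fst_genT, fst_pnt, hp]

set_option backward.isDefEq.respectTransparency false in
/-- Every point is a product of the identity component and its maximal generalisation. -/
theorem exists_mul_eq (x : G.left) :
    ∃ z : ↥(G ⊗ G).left, (fst G G).left z = gen₀ G ∧ (snd G G).left z = gen G x ∧
      μ[G].left z = x := by
  obtain ⟨K, _, _, s, p, hp⟩ := exists_geom_point G x
  let T := Over.mk s
  letI inv' : G ⊗ T ≅ G ⊗ T :=
    { hom := lift (fst G T)⁻¹ (snd G T)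
      inv := lift (fst G T)⁻¹ (snd G T)
      hom_inv_id := by
        apply CartesianMonoidalCategory.hom_ext
        · rw [Category.assoc, lift_fst, GrpObj.comp_inv, lift_fst, inv_inv, Category.id_comp]
        · rw [Category.assoc, lift_snd, lift_snd, Category.id_comp]
      inv_hom_id := by
        apply CartesianMonoidalCategory.hom_ext
        · rw [Category.assoc, lift_fst, GrpObj.comp_inv, lift_fst, inv_inv, Category.id_comp]
        · rw [Category.assoc, lift_snd, lift_snd, Category.id_comp] }
  let m : G ⊗ T ⟶ G ⊗ G := lift (fst G T)⁻¹ (fst G T * (snd G T ≫ p))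
  haveI : IsIso inv'.hom := inv'.isIso_hom
  refine ⟨m.left (gen₀T G s), ?_, ?_, ?_⟩
  · rw [← Scheme.Hom.comp_apply, ← Over.comp_left,
      show m ≫ fst G G = inv'.hom ≫ fst G T by simp [m, inv'], Over.comp_left,
      Scheme.Hom.comp_apply, gen₀T, map_genT]
    have : inv'.hom.left (pnt (1 : T ⟶ G)) = pnt (1 : T ⟶ G) := by
      show (lift (1 : T ⟶ G) (𝟙 _) ≫ inv'.hom).left (IsLocalRing.closedPoint K) = _
      rw [show lift (1 : T ⟶ G) (𝟙 _) ≫ inv'.hom = lift (1 : T ⟶ G) (𝟙 _) by
        simp [inv', comp_lift, GrpObj.comp_inv]]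
      rfl
    rw [this, ← gen₀T, fst_gen₀T]
  · rw [← Scheme.Hom.comp_apply, ← Over.comp_left,
      show m ≫ snd G G = (transl G p).hom ≫ fst G T by simp [m, transl, T], Over.comp_left,
      Scheme.Hom.comp_apply, gen₀T, map_genT, transl_pnt_one, fst_genT, fst_pnt, hp]
  · rw [← Scheme.Hom.comp_apply, ← Over.comp_left,
      show m ≫ μ[G] = snd G T ≫ p by
        show (fst G T)⁻¹ * (fst G T * (snd G T ≫ p)) = _
        rw [← _root_.mul_assoc, inv_mul_cancel, _root_.one_mul],
      Over.comp_left, Scheme.Hom.comp_apply, ← hp]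
    haveI : Subsingleton ↥T.left := inferInstanceAs (Subsingleton ↥(Spec (CommRingCat.of K)))
    exact congrArg _ (Subsingleton.elim _ _)

set_option backward.isDefEq.respectTransparency false in
/-- The set of points with maximal generalisation in an open is open. -/
theorem isOpen_gen_preimage (U : G.left.Opens) : IsOpen {x | gen G x ∈ U} := by
  let Z : TopologicalSpace.Closeds G.left := ⟨closure {gen₀ G}, isClosed_closure⟩
  let I := Scheme.IdealSheafData.vanishingIdeal Z
  let C : Ov := Over.mk (I.subschemeι ≫ G.hom)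
  let i : C ⟶ G := Over.homMk I.subschemeι rfl
  let sh : C ⊗ G ≅ C ⊗ G :=
    { hom := lift (fst C G) ((fst C G ≫ i) * snd C G)
      inv := lift (fst C G) ((fst C G ≫ i)⁻¹ * snd C G)
      hom_inv_id := by
        apply CartesianMonoidalCategory.hom_ext
        · rw [Category.assoc, lift_fst, lift_fst, Category.id_comp]
        · rw [Category.assoc, lift_snd, MonObj.comp_mul, GrpObj.comp_inv, ← Category.assoc,
            lift_fst, lift_snd, ← _root_.mul_assoc, inv_mul_cancel, _root_.one_mul, Category.id_comp]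
      inv_hom_id := by
        apply CartesianMonoidalCategory.hom_ext
        · rw [Category.assoc, lift_fst, lift_fst, Category.id_comp]
        · rw [Category.assoc, lift_snd, MonObj.comp_mul, ← Category.assoc,
            lift_fst, lift_snd, ← _root_.mul_assoc, mul_inv_cancel, _root_.one_mul, Category.id_comp] }
  have hμ : sh.hom ≫ snd C G = (i ▷ G) ≫ μ[G] := by
    rw [show sh.hom ≫ snd C G = (fst C G ≫ i) * snd C G from lift_snd _ _, Hom.mul_def]
    congr 1
  have hsurj : ∀ a : ↥C.left, gen G (i.left a) = gen₀ G := by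
    intro a
    have : i.left a ∈ closure {gen₀ G} := by
      have := I.range_subschemeι.le ⟨a, rfl⟩
      rw [Scheme.IdealSheafData.coe_support_vanishingIdeal] at this
      exact this
    rw [← gen_eq_of_specializes G (specializes_iff_mem_closure.mpr this)]
    exact gen_eq_self G (isMaxPt_gen G _)
  haveI : UniversallyOpen (snd C G).left := by rw [Over.snd_left]; infer_instance
  haveI : IsIso sh.hom.left := ((Over.forget _).mapIso sh).isIso_hom
  have heq : {x | gen G x ∈ U}
      = (sh.hom ≫ snd C G).left '' ((snd C G).left ⁻¹' {x | x ∈ U}) := by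
    ext x
    constructor
    · intro hx
      obtain ⟨z, h1, h2, h3⟩ := exists_mul_eq G x
      obtain ⟨a, ha⟩ : (fst G G).left z ∈ Set.range i.left := by
        show _ ∈ Set.range I.subschemeι
        rw [Scheme.IdealSheafData.range_subschemeι]
        simp only [I, Scheme.IdealSheafData.coe_support_vanishingIdeal, Z]
        exact (specializes_iff_mem_closure.mp
          (by rw [← h1]))
      obtain ⟨w, hw⟩ : z ∈ Set.range (i ▷ G).left := by
        rw [Over.whiskerRight_left]
        exact (Scheme.Pullback.range_map C.hom G.hom G.hom G.hom i.left (𝟙 G.left) (𝟙 S0) _ _).ge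
          ⟨⟨a, ha⟩, ⟨_, rfl⟩⟩
      refine ⟨w, ?_, ?_⟩
      · show (snd C G).left w ∈ U
        rw [show (snd C G).left w = (snd G G).left z by
          rw [← hw, ← Scheme.Hom.comp_apply, ← Over.comp_left, whiskerRight_snd], h2]
        exact hx
      · rw [hμ, Over.comp_left, Scheme.Hom.comp_apply, hw, h3]
    · rintro ⟨w, hw, rfl⟩
      show gen G _ ∈ U
      rw [hμ, Over.comp_left, Scheme.Hom.comp_apply, gen_mul G _ (by
          rw [← Scheme.Hom.comp_apply, ← Over.comp_left, whiskerRight_fst, Over.comp_left,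
            Scheme.Hom.comp_apply]
          exact hsurj _),
        ← Scheme.Hom.comp_apply, ← Over.comp_left, whiskerRight_snd]
      exact (gen_specializes G _).mem_open U.2 hw
  rw [heq]
  haveI : UniversallyOpen (sh.hom ≫ snd C G).left := by rw [Over.comp_left]; infer_instance
  exact ((sh.hom ≫ snd C G).left.isOpenMap _ (U.2.preimage (snd C G).left.continuous))

end Groth.Agent.H8Component
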