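import Mathlib
import Groth.Agent.Lib.H8Component
import Groth.Agent.Lib.H8AntiAffine
import Groth.Agent.Lib.H8SubGrp

/-!
# The identity component of a group scheme over a field

Connected components of group schemes over a field are irreducible, and the identity component is a
closed flat geometrically irreducible quasi-compact subgroup scheme.
-/

set_option autoImplicit false

universe u

open CategoryTheory Limits AlgebraicGeometry MonoidalCategory CartesianMonoidalCategory
open scoped MonObj

namespace Groth.Agent.H8IdComp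

open H8GenPoint H8Component

variable {k : Type u} [Field k]

local notation "Ov" => Over (Spec (CommRingCat.of k))
local notation "S0" => Spec (CommRingCat.of k)

/-- A point in the closure of an open with compact traces on affine opens has a generalisation
in it. -/
theorem exists_specializes_of_mem_closure {X : Scheme.{u}} (U : X.Opens)
    (hU : ∀ V : X.Opens, IsAffineOpen V → IsCompact ((U : Set X) ∩ V)) {x : X}
    (hx : x ∈ closure (U : Set X)) : ∃ y ∈ U, y ⤳ x := by
  obtain ⟨_, ⟨V, hV, rfl⟩, hxV, -⟩ :=
    X.isBasis_affineOpens.exists_subset_of_mem_open (Set.mem_univ x) isOpen_univ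
  replace hV : IsAffineOpen V := hV
  obtain ⟨R, g, hg⟩ := isCompact_iff_exists.mp
    (show IsCompact ((U ⊓ V : X.Opens) : Set X) from hU V hV)
  let h : Spec R ⟶ Spec Γ(X, V) := IsOpenImmersion.lift hV.fromSpec g (by
    rw [IsAffineOpen.range_fromSpec, hg]
    exact Set.inter_subset_right)
  have hh : h ≫ hV.fromSpec = g := IsOpenImmersion.lift_fac ..
  obtain ⟨p, rfl⟩ : x ∈ Set.range hV.fromSpec := by rw [IsAffineOpen.range_fromSpec]; exact hxV
  have hp : p ∈ closure (Set.range h) := by
    have h1 : hV.fromSpec p ∈ closure ((U : Set X) ∩ V) :=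
      closure_mono (Set.inter_comm _ _).le (V.2.inter_closure ⟨hxV, hx⟩)
    rw [show (U : Set X) ∩ V = ((U ⊓ V : X.Opens) : Set X) from rfl, ← hg, ← hh,
      Scheme.Hom.comp_base, TopCat.coe_comp, Set.range_comp] at h1
    have h2 := hV.fromSpec.isOpenEmbedding.isInducing.closure_eq_preimage_closure_image
      (s := Set.range h)
    rw [h2]
    exact h1
  let φ := (Spec.preimage h).hom
  have hφ : ⇑h = PrimeSpectrum.comap φ := by
    conv_lhs => rw [← Spec.map_preimage h]
    rfl
  rw [hφ] at hp
  erw [PrimeSpectrum.closure_range_comap] at hp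
  obtain ⟨q, hq, hqp⟩ := Ideal.exists_minimalPrimes_le (I := RingHom.ker φ) (J := p.asIdeal) hp
  obtain ⟨q', hq', hq''⟩ := Ideal.exists_comap_eq_of_mem_minimalPrimes φ (I := ⊥) q hq
  let r : Spec R := (⟨q', hq'⟩ : PrimeSpectrum R)
  refine ⟨g r, (hg.le ⟨r, rfl⟩).1, ?_⟩
  rw [show g r = hV.fromSpec (h r) by rw [← Scheme.Hom.comp_apply, hh]]
  refine Specializes.map ?_ hV.fromSpec.continuous
  rw [hφ]
  refine (PrimeSpectrum.le_iff_specializes _ _).mp ?_
  show q'.comap φ ≤ p.asIdeal
  exact hq''.2.trans_le hqp

variable (G : Over (Spec (CommRingCat.of k))) [GrpObj G]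

/-- The set of points with maximal generalisation in an affine open is open and closed. -/
theorem isClopen_gen_preimage (U : G.left.Opens) (hU : IsAffineOpen U) :
    IsClopen {x | gen G x ∈ U} := by
  refine ⟨?_, isOpen_gen_preimage G U⟩
  haveI := H8AntiAffine.isSeparated G
  haveI : G.left.IsSeparated := ⟨by
    rw [show terminal.from G.left = G.hom ≫ terminal.from _ from terminal.hom_ext _ _]
    infer_instance⟩
  refine closure_subset_iff_isClosed.mp fun x hx => ?_
  have hx' : x ∈ closure (U : Set G.left) := by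
    refine closure_minimal (fun y hy => ?_) isClosed_closure hx
    exact (gen_specializes G y).mem_closed isClosed_closure (subset_closure hy)
  obtain ⟨y, hy, hyx⟩ := exists_specializes_of_mem_closure U (fun V hV =>
    (hU.inf hV).isCompact) hx'
  show gen G x ∈ U
  rw [← gen_eq_of_specializes G hyx]
  exact (gen_specializes G y).mem_open U.2 hy

/-- The connected components are the closures of the maximal points. -/
theorem connectedComponent_eq (x : G.left) : connectedComponent x = closure {gen G x} := by
  refine Set.Subset.antisymm (fun y hy => ?_) ?_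
  · rw [← specializes_iff_mem_closure]
    by_contra hne
    have hne' : gen G x ≠ gen G y := fun h => hne (h ▸ gen_specializes G y)
    obtain ⟨O, hO, hxO, hyO⟩ : ∃ O, IsOpen O ∧ gen G x ∈ O ∧ gen G y ∉ O := by
      have : ¬ gen G y ⤳ gen G x := fun h => hne' (((isMaxPt_gen G x) _ h)).symm
      rwa [not_specializes_iff_exists_open] at this
    obtain ⟨_, ⟨U, hU, rfl⟩, hxU, hUO⟩ :=
      G.left.isBasis_affineOpens.exists_subset_of_mem_open hxO hO
    exact hyO (hUO ((isClopen_gen_preimage G U hU).connectedComponent_subset hxU hy))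
  · exact isIrreducible_singleton.closure.isPreirreducible.isPreconnected.subset_connectedComponent
      (specializes_iff_mem_closure.mp (gen_specializes G x))

/-- Connected group schemes are irreducible. -/
theorem irreducibleSpace [ConnectedSpace G.left] : IrreducibleSpace G.left := by
  have h := connectedComponent_eq G (org G)
  rw [PreconnectedSpace.connectedComponent_eq_univ] at h
  rw [irreducibleSpace_def]
  show IsIrreducible (Set.univ : Set G.left)
  rw [h]
  exact isIrreducible_singleton.closure

lemma mem_closure_gen₀_iff {x : G.left} : x ∈ closure {gen₀ G} ↔ gen G x = gen₀ G := by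
  refine ⟨fun h => ?_, fun h => h ▸ specializes_iff_mem_closure.mp (gen_specializes G x)⟩
  rw [← gen_eq_of_specializes G (specializes_iff_mem_closure.mpr h)]
  exact gen_eq_self G (isMaxPt_gen G _)

set_option backward.isDefEq.respectTransparency false in
/-- A scheme mapping homeomorphically onto the identity component is geometrically irreducible. -/
theorem geometricallyIrreducible {Z : Scheme.{u}} (j : Z ⟶ G.left) [IsClosedImmersion j]
    (hj : Set.range j = closure {gen₀ G}) : GeometricallyIrreducible (j ≫ G.hom) := by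
  refine ⟨geometrically_iff_of_isClosedUnderIsomorphisms.mpr fun K _ s => ?_⟩
  let m : pullback (j ≫ G.hom) s ⟶ pullback G.hom s :=
    pullback.map _ _ _ _ j (𝟙 _) (𝟙 _) (by simp) (by simp)
  haveI : IsClosedImmersion m := by
    have h : IsPullback m (pullback.fst (j ≫ G.hom) s) (pullback.fst G.hom s) j := by
      refine (IsPullback.of_right ?_ ?_ (IsPullback.of_hasPullback G.hom s).flip).flip.flip
      · simp [m]
        exact (IsPullback.of_hasPullback (j ≫ G.hom) s).flip
      · simp [m]
    exact MorphismProperty.of_isPullback h.flip ‹_›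
  have hrange : Set.range m = closure {gen₀T G s} := by
    rw [Scheme.Pullback.range_map, hj]
    simp only [Scheme.Hom.id_base, TopCat.coe_id, Set.range_id, Set.preimage_univ, Set.inter_univ]
    ext z
    simp only [Set.mem_preimage, mem_closure_gen₀_iff]
    constructor
    · intro hz
      rw [← genT_eq_of_gen_eq G s z hz]
      exact specializes_iff_mem_closure.mp (genT_specializes G s z)
    · intro hz
      have h1 : (fst G (Over.mk s)).left z ∈ closure {gen₀ G} := by
        rw [← fst_gen₀T G s]
        exact specializes_iff_mem_closure.mp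
          ((specializes_iff_mem_closure.mpr hz).map (fst G (Over.mk s)).left.continuous)
      exact (mem_closure_gen₀_iff G).mp h1
  have hirr : IsIrreducible (Set.range m) := hrange ▸ isIrreducible_singleton.closure
  obtain ⟨z, hz⟩ : ∃ z, m z = gen₀T G s := hrange.ge (subset_closure rfl)
  have hd : Dense ({z} : Set ↥(pullback (j ≫ G.hom) s)) := fun w => by
    rw [m.isEmbedding.isInducing.closure_eq_preimage_closure_image, Set.image_singleton, hz]
    show m w ∈ closure {gen₀T G s}
    rw [← hrange]
    exact ⟨w, rfl⟩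
  rw [irreducibleSpace_def]
  simpa [hd.closure_eq] using (isIrreducible_singleton (x := z)).closure

/-- A point outside the identity component is separated from it by a clopen set. -/
theorem exists_isClopen {y : G.left} (hy : y ∉ closure {gen₀ G}) :
    ∃ W : Set G.left, IsClopen W ∧ closure {gen₀ G} ⊆ W ∧ y ∉ W := by
  have hne : gen₀ G ≠ gen G y := fun h => hy ((mem_closure_gen₀_iff G).mpr h.symm)
  obtain ⟨O, hO, hxO, hyO⟩ : ∃ O, IsOpen O ∧ gen₀ G ∈ O ∧ gen G y ∉ O := by
    have : ¬ gen G y ⤳ gen₀ G := fun h => hne ((isMaxPt_gen G _) _ h).symm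
    rwa [not_specializes_iff_exists_open] at this
  obtain ⟨_, ⟨U, hU, rfl⟩, hxU, hUO⟩ :=
    G.left.isBasis_affineOpens.exists_subset_of_mem_open hxO hO
  exact ⟨_, isClopen_gen_preimage G U hU, fun z hz => by
    show gen G z ∈ U
    rw [(mem_closure_gen₀_iff G).mp hz]
    exact hxU, fun h => hyO (hUO h)⟩

/-- A compact set outside the identity component is separated from it by a clopen set. -/
theorem exists_isClopen_of_isCompact {K : Set G.left} (hK : IsCompact K)
    (hd : ∀ y ∈ K, y ∉ closure {gen₀ G}) :
    ∃ W : Set G.left, IsClopen W ∧ closure {gen₀ G} ⊆ W ∧ ∀ y ∈ K, y ∉ W := by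
  choose W hW hCW hyW using fun (y : K) => exists_isClopen G (hd y.1 y.2)
  obtain ⟨s, hs⟩ := hK.elim_finite_subcover (fun y => (W y)ᶜ) (fun y => (hW y).1.isOpen_compl)
    (fun y hy => Set.mem_iUnion.mpr ⟨⟨y, hy⟩, hyW ⟨y, hy⟩⟩)
  refine ⟨⋂ y ∈ s, W y, isClopen_biInter_finset fun y _ => hW y,
    Set.subset_iInter₂ fun y _ => hCW y, fun y hy h => ?_⟩
  obtain ⟨z, hzs, hz⟩ := Set.mem_iUnion₂.mp (hs hy)
  exact hz (Set.mem_iInter₂.mp h z hzs)

set_option backward.isDefEq.respectTransparency false in
/-- If a section on an affine open becomes zero near the component after inverting `g`, it is killed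
near the component by a power of `g`. -/
theorem exists_pow_mul (U : G.left.affineOpens) (g f : Γ(G.left, U.1))
    (h : ∀ y (hy : y ∈ U.1), y ∈ G.left.basicOpen g → y ∈ closure {gen₀ G} →
      G.left.presheaf.germ U.1 y hy f = 0) :
    ∃ m : ℕ, ∀ y (hy : y ∈ U.1), y ∈ closure {gen₀ G} →
      G.left.presheaf.germ U.1 y hy (g ^ m * f) = 0 := by
  let Zf : Set G.left := {y | ∃ hy : y ∈ U.1, G.left.presheaf.germ U.1 y hy f = 0}
  have hZf : IsOpen Zf := by
    rw [isOpen_iff_forall_mem_open]
    rintro y ⟨hy, h0⟩
    obtain ⟨W, hyW, i₁, i₂, hW⟩ := G.left.presheaf.germ_eq y hy hy f 0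
      (h0.trans (map_zero _).symm)
    refine ⟨W, fun z hz => ⟨i₁.le hz, ?_⟩, W.2, hyW⟩
    rw [← G.left.presheaf.germ_res_apply i₁ z hz f, hW, map_zero, map_zero]
  have hK : IsCompact ((G.left.basicOpen g : Set G.left) \ Zf) :=
    (U.2.basicOpen g).isCompact.diff hZf
  obtain ⟨W, hW, hCW, hWK⟩ := exists_isClopen_of_isCompact G hK (fun y hy hyC =>
    hy.2 ⟨G.left.basicOpen_le g hy.1, h y _ hy.1 hyC⟩)
  let V : G.left.Opens := ⟨W, hW.2⟩ ⊓ U.1
  have hV : IsCompact (V : Set G.left) := U.2.isCompact.inter_left hW.1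
  let i : V ⟶ U.1 := homOfLE inf_le_right
  obtain ⟨m, hm⟩ := exists_pow_mul_eq_zero_of_res_basicOpen_eq_zero_of_isCompact G.left hV
    (G.left.presheaf.map i.op f) (G.left.presheaf.map i.op g) (by
      apply TopCat.Presheaf.section_ext G.left.sheaf
      intro y hy
      rw [map_zero]
      have hy' : y ∈ V := G.left.basicOpen_le _ hy
      have hyg : y ∈ G.left.basicOpen g := by
        rw [Scheme.basicOpen_res] at hy
        exact hy.2
      obtain ⟨hyU, h0⟩ : y ∈ Zf := by
        by_contra hyZ
        exact hWK y ⟨hyg, hyZ⟩ hy'.1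
      rw [← h0]
      erw [TopCat.Presheaf.germ_res_apply, TopCat.Presheaf.germ_res_apply]
      rfl)
  refine ⟨m, fun y hy hyC => ?_⟩
  rw [← G.left.presheaf.germ_res_apply i y ⟨hCW hyC, hy⟩, map_mul, map_pow]
  exact (congrArg _ hm).trans (map_zero _)

set_option backward.isDefEq.respectTransparency false in
/-- The ideal sheaf of sections vanishing near the identity component. -/
noncomputable def idealSheaf : G.left.IdealSheafData where
  ideal U :=
    { carrier := {f | ∀ x (hx : x ∈ U.1), x ∈ closure {gen₀ G} →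
        G.left.presheaf.germ U.1 x hx f = 0}
      add_mem' := fun hf hg x hx hxC => by rw [map_add, hf x hx hxC, hg x hx hxC, add_zero]
      zero_mem' := fun x hx _ => map_zero _
      smul_mem' := fun r f hf x hx hxC => by rw [smul_eq_mul, map_mul, hf x hx hxC, mul_zero] }
  map_ideal_basicOpen U g := by
    refine le_antisymm (Ideal.map_le_iff_le_comap.mpr fun f hf x hx hxC => ?_) fun q hq => ?_
    · erw [TopCat.Presheaf.germ_res_apply]
      exact hf x _ hxC
    · haveI := U.2.isLocalization_basicOpen g
      obtain ⟨f, ⟨_, n, rfl⟩, e⟩ := IsLocalization.exists_mk'_eq (Submonoid.powers g) q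
      obtain ⟨m, hm⟩ := exists_pow_mul G U g f (fun y hy hyg hyC => by
        have h3 := hq y hyg hyC
        rw [← e] at h3
        have h4 := congrArg (G.left.presheaf.germ (G.left.basicOpen g) y hyg)
          (IsLocalization.mk'_spec Γ(G.left, G.left.basicOpen g) f
            (⟨g ^ n, n, rfl⟩ : Submonoid.powers g))
        rw [map_mul] at h4
        erw [h3, zero_mul, TopCat.Presheaf.germ_res_apply] at h4
        exact h4.symm)
      rw [← e]
      refine (IsLocalization.mk'_mem_map_algebraMap_iff (Submonoid.powers g)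
        Γ(G.left, G.left.basicOpen g) _ _ _).mpr ?_
      exact ⟨g ^ m, ⟨m, rfl⟩, hm⟩

set_option backward.isDefEq.respectTransparency false in
lemma support_idealSheaf : ((idealSheaf G).support : Set G.left) = closure {gen₀ G} := by
  ext x
  obtain ⟨_, ⟨U, hU, rfl⟩, hxU, -⟩ :=
    G.left.isBasis_affineOpens.exists_subset_of_mem_open (Set.mem_univ x) isOpen_univ
  replace hU : IsAffineOpen U := hU
  replace hxU : x ∈ U := hxU
  show x ∈ (idealSheaf G).supportSet ↔ _
  rw [Scheme.IdealSheafData.mem_supportSet_iff_of_mem (U := ⟨U, hU⟩) hxU]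
  refine ⟨fun h => ?_, fun hx => ?_⟩
  · by_contra hx
    obtain ⟨W, hW, hCW, hxW⟩ := exists_isClopen G hx
    obtain ⟨g, hgW, hxg⟩ : ∃ g : Γ(G.left, U), G.left.basicOpen g ≤ ⟨Wᶜ, hW.1.isOpen_compl⟩ ∧
        x ∈ G.left.basicOpen g := by
      obtain ⟨g, hle, hxg⟩ := hU.exists_basicOpen_le (V := ⟨Wᶜ, hW.1.isOpen_compl⟩) ⟨x, hxW⟩ hxU
      exact ⟨g, hle, hxg⟩
    obtain ⟨m, hm⟩ := exists_pow_mul G ⟨U, hU⟩ g 1 (fun y hy hyg hyC =>
      absurd (hCW hyC) (hgW hyg))
    have h1 : x ∉ G.left.basicOpen (g ^ m * 1) :=
      (G.left.mem_zeroLocus_iff _ _).mp h _ hm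
    apply h1
    rw [mul_one, Scheme.mem_basicOpen _ _ _ hxU, map_pow]
    exact ((Scheme.mem_basicOpen _ _ _ hxU).mp hxg).pow m
  · rw [Scheme.mem_zeroLocus_iff]
    intro f hf hfx
    rw [Scheme.mem_basicOpen _ _ _ hxU, hf x hxU hx] at hfx
    exact not_isUnit_zero hfx

/-- The identity component, as a scheme over the field. -/
noncomputable abbrev comp : Ov := Over.mk ((idealSheaf G).subschemeι ≫ G.hom)

/-- The inclusion of the identity component. -/
noncomputable abbrev incl : comp G ⟶ G := Over.homMk (idealSheaf G).subschemeι rfl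

lemma range_incl : Set.range (incl G).left = closure {gen₀ G} :=
  (Scheme.IdealSheafData.range_subschemeι _).trans (support_idealSheaf G)

instance isClosedImmersion_incl : IsClosedImmersion (incl G).left :=
  inferInstanceAs (IsClosedImmersion (idealSheaf G).subschemeι)

set_option backward.isDefEq.respectTransparency false in
/-- The inclusion of the identity component is flat. -/
theorem flat_incl : Flat (incl G).left := by
  let j := (idealSheaf G).subschemeι
  show Flat j
  refine Flat.of_stalkMap j fun y => RingHom.Flat.of_bijective ⟨?_, j.stalkMap_surjective y⟩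
  rw [injective_iff_map_eq_zero]
  intro s hs
  have hyC : j y ∈ closure {gen₀ G} :=
    (range_incl G).le ⟨y, rfl⟩
  obtain ⟨_, ⟨U, hU, rfl⟩, hxU, -⟩ :=
    G.left.isBasis_affineOpens.exists_subset_of_mem_open (Set.mem_univ (j y)) isOpen_univ
  replace hU : IsAffineOpen U := hU
  replace hxU : j y ∈ U := hxU
  haveI := hU.isLocalization_stalk ⟨j y, hxU⟩
  letI : Algebra Γ(G.left, U) (G.left.presheaf.stalk (j y)) :=
    (G.left.presheaf.germ U (j y) hxU).hom.toAlgebra
  obtain ⟨f, t, rfl⟩ := IsLocalization.exists_mk'_eq (hU.primeIdealOf ⟨j y, hxU⟩).asIdeal.primeCompl s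
  have hf : j.stalkMap y (G.left.presheaf.germ U (j y) hxU f) = 0 := by
    have h := congrArg (j.stalkMap y).hom
      (IsLocalization.mk'_spec (G.left.presheaf.stalk (j y)) f t)
    rw [map_mul, hs, zero_mul] at h
    exact h.symm
  rw [Scheme.Hom.germ_stalkMap_apply] at hf
  obtain ⟨W, hyW, i₁, i₂, hW⟩ := (idealSheaf G).subscheme.presheaf.germ_eq y (show y ∈ j ⁻¹ᵁ U from hxU) (show y ∈ j ⁻¹ᵁ U from hxU) _ 0
    (hf.trans (map_zero _).symm)
  obtain ⟨W', hW', hWW⟩ : ∃ W' : Set G.left, IsOpen W' ∧ j ⁻¹' W' = (W : Set _) :=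
    j.isEmbedding.isInducing.isOpen_iff.mp W.2 |>.imp fun _ h => ⟨h.1, h.2⟩
  obtain ⟨g, hle, hxg⟩ := hU.exists_basicOpen_le (V := ⟨W', hW'⟩)
    ⟨j y, show y ∈ j ⁻¹' W' by rw [hWW]; exact hyW⟩ hxU
  have hzero : j.app (G.left.basicOpen g) (G.left.presheaf.map (homOfLE (G.left.basicOpen_le g)).op f)
      = 0 := by
    have hnat := ConcreteCategory.congr_hom (j.naturality (homOfLE (G.left.basicOpen_le g)).op) f
    refine hnat.trans ?_
    have hle' : j ⁻¹ᵁ G.left.basicOpen g ≤ W := fun z hz => hWW.le (show z ∈ j ⁻¹' W' from hle hz)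
    rw [CategoryTheory.comp_apply, show ((TopologicalSpace.Opens.map j.base).map
      (homOfLE (G.left.basicOpen_le g)).op.unop).op = i₁.op ≫ (homOfLE hle').op from
      Subsingleton.elim _ _, Functor.map_comp, CategoryTheory.comp_apply]
    erw [hW]
    rw [map_zero]
    exact map_zero _
  have hmem : G.left.presheaf.map (homOfLE (G.left.basicOpen_le g)).op f
      ∈ (idealSheaf G).ideal ⟨_, hU.basicOpen g⟩ := by
    rw [← Scheme.IdealSheafData.ker_subschemeι_app]
    exact hzero
  have h0 := hmem (j y) hxg hyC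
  erw [TopCat.Presheaf.germ_res_apply] at h0
  rw [IsLocalization.mk'_eq_mul_mk'_one, RingHom.algebraMap_toAlgebra]
  erw [h0]
  rw [zero_mul]

/-- A morphism factors through the identity component as soon as it does so set-theoretically. -/
theorem ideal_le_ker {T : Scheme.{u}} (g : T ⟶ G.left) (hg : ∀ t, g t ∈ closure {gen₀ G}) :
    (incl G).left.ker ≤ g.ker := by
  show (idealSheaf G).subschemeι.ker ≤ _
  rw [Scheme.IdealSheafData.ker_subschemeι]
  refine Scheme.IdealSheafData.le_ofIdeals_iff.mpr fun U f hf => ?_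
  rw [RingHom.mem_ker]
  refine TopCat.Presheaf.section_ext T.sheaf _ _ _ fun t ht => ?_
  erw [map_zero]
  exact (Scheme.Hom.germ_stalkMap_apply g U.1 t ht f).symm.trans
    ((congrArg _ (hf (g t) ht (hg t))).trans (map_zero _))

/-- The factorisation through the identity component. -/
noncomputable def factor {T : Ov} (g : T ⟶ G) (hg : ∀ t, g.left t ∈ closure {gen₀ G}) :
    T ⟶ comp G :=
  Over.homMk (IsClosedImmersion.lift (incl G).left g.left (ideal_le_ker G g.left hg)) (by
    show _ ≫ (idealSheaf G).subschemeι ≫ G.hom = _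
    rw [← Category.assoc]
    show (_ ≫ (incl G).left) ≫ _ = _
    rw [IsClosedImmersion.lift_fac, Over.w])

lemma factor_incl {T : Ov} (g : T ⟶ G) (hg : ∀ t, g.left t ∈ closure {gen₀ G}) :
    factor G g hg ≫ incl G = g :=
  Over.OverMorphism.ext (IsClosedImmersion.lift_fac _ _ _)

lemma incl_mem (a : (comp G).left) : (incl G).left a ∈ closure {gen₀ G} :=
  (range_incl G).le ⟨a, rfl⟩

set_option backward.isDefEq.respectTransparency false in
lemma gen_inv (x : G.left) (hx : gen G x = gen₀ G) : gen G (ι[G].left x) = gen₀ G := by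
  haveI : IsIso ι[G].left := ((Over.forget _).mapIso (asIso ι[G])).isIso_hom
  have h1 : ι[G].left (gen G x) = gen G (ι[G].left x) :=
    eq_gen G ((isMaxPt_gen G x).map _) ((gen_specializes G x).map ι[G].left.continuous)
  have h2 : ι[G].left (gen₀ G) = gen₀ G := by
    have h3 : ι[G].left (org G) = org G := by
      show ι[G].left (η[G].left _) = η[G].left _
      rw [← Scheme.Hom.comp_apply, ← Over.comp_left, GrpObj.one_inv]
    have h4 := eq_gen G ((isMaxPt_gen G (org G)).map ι[G].left)
      ((gen_specializes G (org G)).map ι[G].left.continuous)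
    rw [h3] at h4
    exact h4
  rw [← h1, hx, h2]

set_option backward.isDefEq.respectTransparency false in
/-- The identity component is a subgroup. -/
theorem exists_grpObj : ∃ inst : GrpObj (comp G), letI := inst; IsMonHom (incl G) := by
  haveI : Mono (incl G) := (Over.forget _).mono_of_mono_map
    (inferInstanceAs (Mono (idealSheaf G).subschemeι))
  refine H8SubGrp.exists_grpObj (incl G) (fun X =>
    { carrier := {x | ∀ t, gen G (x.left t) = gen₀ G}
      one_mem' := fun t => by
        rw [Hom.one_def, Over.comp_left, Scheme.Hom.comp_apply]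
        haveI : Subsingleton ↥(𝟙_ Ov).left := inferInstanceAs (Subsingleton ↥(S0))
        rw [Subsingleton.elim ((toUnit X).left t) (IsLocalRing.closedPoint k : ↥(𝟙_ Ov).left)]
        rfl
      mul_mem' := fun {x y} hx hy t => by
        show gen G ((lift x y ≫ μ[G]).left t) = gen₀ G
        rw [Over.comp_left, Scheme.Hom.comp_apply]
        have hfst : (fst G G).left ((lift x y).left t) = x.left t := by
          rw [← Scheme.Hom.comp_apply, ← Over.comp_left, lift_fst]
        have hsnd : (snd G G).left ((lift x y).left t) = y.left t := by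
          rw [← Scheme.Hom.comp_apply, ← Over.comp_left, lift_snd]
        rw [gen_mul G _ (by rw [hfst]; exact hx t), hsnd]
        exact hy t
      inv_mem' := fun {x} hx t => by
        show gen G ((x ≫ ι[G]).left t) = gen₀ G
        rw [Over.comp_left, Scheme.Hom.comp_apply]
        exact gen_inv G _ (hx t) }) fun X g => ⟨?_, fun hg => ?_⟩
  · rintro ⟨z, rfl⟩ t
    exact (mem_closure_gen₀_iff G).mp (incl_mem G _)
  · exact ⟨factor G g (fun t => (mem_closure_gen₀_iff G).mpr (hg t)), factor_incl G _ _⟩

set_option backward.isDefEq.respectTransparency false in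
/-- The identity component is quasi-compact. -/
theorem isCompact_closure_gen₀ : IsCompact (closure {gen₀ G}) := by
  obtain ⟨_, ⟨U, hU, rfl⟩, heU, -⟩ :=
    G.left.isBasis_affineOpens.exists_subset_of_mem_open (Set.mem_univ (gen₀ G)) isOpen_univ
  replace hU : IsAffineOpen U := hU
  replace heU : gen₀ G ∈ U := heU
  haveI : IsAffine (Scheme.Opens.toScheme (U : G.left.Opens)) := hU
  let P := pullback ((Scheme.Opens.ι (U : G.left.Opens)) ≫ G.hom) ((Scheme.Opens.ι (U : G.left.Opens)) ≫ G.hom)
  let m : P ⟶ G.left := pullback.map _ _ G.hom G.hom (Scheme.Opens.ι (U : G.left.Opens)) (Scheme.Opens.ι (U : G.left.Opens)) (𝟙 _) (by simp) (by simp) ≫ μ[G].left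
  haveI : CompactSpace ↥P := inferInstance
  refine IsCompact.of_isClosed_subset (isCompact_range m.continuous) isClosed_closure ?_
  intro x hx
  obtain ⟨z, h1, h2, h3⟩ := exists_mul_eq G x
  obtain ⟨w, hw⟩ : z ∈ Set.range (pullback.map ((Scheme.Opens.ι (U : G.left.Opens)) ≫ G.hom) ((Scheme.Opens.ι (U : G.left.Opens)) ≫ G.hom) G.hom G.hom (Scheme.Opens.ι (U : G.left.Opens)) (Scheme.Opens.ι (U : G.left.Opens))
      (𝟙 _) (by simp) (by simp)) := by
    rw [Scheme.Pullback.range_map]
    refine ⟨?_, ?_⟩
    · show (fst G G).left z ∈ Set.range (Scheme.Opens.ι (U : G.left.Opens))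
      rw [Scheme.Opens.range_ι, h1]
      exact heU
    · show (snd G G).left z ∈ Set.range (Scheme.Opens.ι (U : G.left.Opens))
      rw [Scheme.Opens.range_ι, h2, (mem_closure_gen₀_iff G).mp hx]
      exact heU
  exact ⟨w, by rw [← h3, ← hw]; rfl⟩

theorem compactSpace_comp : CompactSpace ↥(comp G).left := by
  refine ⟨?_⟩
  rw [(incl G).left.isEmbedding.isCompact_iff, Set.image_univ, range_incl]
  exact isCompact_closure_gen₀ G

theorem geometricallyIrreducible_comp : GeometricallyIrreducible (comp G).hom :=
  geometricallyIrreducible G (idealSheaf G).subschemeι (range_incl G)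

end Groth.Agent.H8IdComp
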