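import Mathlib
import Groth.Agent.Lib.H8EtaleAt

/-!
# The differential at the origin of the power map of a group scheme

For a group scheme locally of finite type over a field, the power map `x ↦ xⁿ` induces
multiplication by `n` on the cotangent space at the origin.
-/

set_option autoImplicit false

universe u

open CategoryTheory Limits AlgebraicGeometry MonoidalCategory CartesianMonoidalCategory
open scoped MonObj

namespace Groth.Agent.H8PowTangent

variable {k : Type u} [Field k]

local notation "Ov" => Over (Spec (CommRingCat.of k))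

/-- The spectrum of a `k`-algebra, over `k`. -/
noncomputable abbrev pt (k : Type u) [Field k] (C : Type u) [CommRing C] [Algebra k C] :
    Over (Spec (CommRingCat.of k)) :=
  Over.mk (Spec.map (CommRingCat.ofHom (algebraMap k C)))

/-- The morphism of spectra of an algebra homomorphism. -/
noncomputable def pm {C D : Type u} [CommRing C] [Algebra k C] [CommRing D] [Algebra k D]
    (σ : C →ₐ[k] D) : pt k D ⟶ pt k C :=
  Over.homMk (Spec.map (CommRingCat.ofHom σ.toRingHom)) (by
    show _ ≫ Spec.map (CommRingCat.ofHom (algebraMap k C))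
      = Spec.map (CommRingCat.ofHom (algebraMap k D))
    rw [← Spec.map_comp, ← CommRingCat.ofHom_comp, AlgHom.toRingHom_eq_coe, AlgHom.comp_algebraMap])

lemma pm_comp {C D E : Type u} [CommRing C] [Algebra k C] [CommRing D] [Algebra k D] [CommRing E]
    [Algebra k E] (σ : C →ₐ[k] D) (τ : D →ₐ[k] E) : pm τ ≫ pm σ = pm (τ.comp σ) := by
  apply Over.OverMorphism.ext
  show Spec.map _ ≫ Spec.map _ = Spec.map _
  rw [← Spec.map_comp]
  rfl

lemma pm_id {C : Type u} [CommRing C] [Algebra k C] : pm (AlgHom.id k C) = 𝟙 (pt k C) := by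
  apply Over.OverMorphism.ext
  show Spec.map _ = 𝟙 _
  exact Spec.map_id _

variable (G : Over (Spec (CommRingCat.of k))) [GrpObj G]

/-- The origin, as a morphism from the spectrum of `k`. -/
noncomputable abbrev one₀ : pt k k ⟶ G := 1

/-- The origin, as a point. -/
noncomputable def org : G.left := (one₀ G).left (IsLocalRing.closedPoint k)

section Unique

variable {G}

set_option backward.isDefEq.respectTransparency false in
/-- Two points with values in a local ring centred at the origin are equal as soon as they agree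
after a jointly injective pair of projections. -/
theorem eq_of_proj {C D E : Type u} [CommRing C] [Algebra k C] [IsLocalRing C] [CommRing D]
    [Algebra k D] [CommRing E] [Algebra k E] (w w' : pt k C ⟶ G) (ev : C →ₐ[k] k)
    [IsLocalHom ev.toRingHom] (hw : pm ev ≫ w = 1) (hw' : pm ev ≫ w' = 1)
    (π₁ : C →ₐ[k] D) (π₂ : C →ₐ[k] E) (hinj : ∀ c, π₁ c = 0 → π₂ c = 0 → c = 0)
    (h₁ : pm π₁ ≫ w = pm π₁ ≫ w') (h₂ : pm π₂ ≫ w = pm π₂ ≫ w') : w = w' := by
  obtain ⟨_, ⟨U, hU, rfl⟩, heU, -⟩ :=
    G.left.isBasis_affineOpens.exists_subset_of_mem_open (Set.mem_univ (org G)) isOpen_univ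
  replace hU : IsAffineOpen U := hU
  have key : ∀ v : pt k C ⟶ G, pm ev ≫ v = 1 →
      Set.range (v.left : Spec (CommRingCat.of C) ⟶ G.left) ⊆ Set.range hU.fromSpec := by
    intro v hv
    have hcl : (v.left : Spec (CommRingCat.of C) ⟶ G.left) (IsLocalRing.closedPoint C) = org G := by
      show _ = (one₀ G).left (IsLocalRing.closedPoint k)
      rw [show one₀ G = pm ev ≫ v from hv.symm]
      show _ = (Spec.map (CommRingCat.ofHom ev.toRingHom) ≫
        (v.left : Spec (CommRingCat.of C) ⟶ G.left)) (IsLocalRing.closedPoint k)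
      rw [Scheme.Hom.comp_apply]
      congr 1
      exact (IsLocalRing.comap_closedPoint ev.toRingHom).symm
    rw [hU.range_fromSpec]
    rintro _ ⟨c, rfl⟩
    have hs : c ⤳ IsLocalRing.closedPoint C := IsLocalRing.specializes_closedPoint c
    exact (hs.map (v.left : Spec (CommRingCat.of C) ⟶ G.left).continuous).mem_open U.2
      (by rw [hcl]; exact heU)
  obtain ⟨τ, hτ⟩ := Spec.map_surjective
    (IsOpenImmersion.lift hU.fromSpec (w.left : Spec (CommRingCat.of C) ⟶ G.left) (key w hw))
  obtain ⟨τ', hτ'⟩ := Spec.map_surjective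
    (IsOpenImmersion.lift hU.fromSpec (w'.left : Spec (CommRingCat.of C) ⟶ G.left) (key w' hw'))
  have e : (w.left : Spec (CommRingCat.of C) ⟶ G.left) = Spec.map τ ≫ hU.fromSpec := by
    rw [hτ, IsOpenImmersion.lift_fac]
  have e' : (w'.left : Spec (CommRingCat.of C) ⟶ G.left) = Spec.map τ' ≫ hU.fromSpec := by
    rw [hτ', IsOpenImmersion.lift_fac]
  have hp : ∀ {D : Type u} [CommRing D] [Algebra k D] (π : C →ₐ[k] D),
      pm π ≫ w = pm π ≫ w' → ∀ a, π (τ.hom a) = π (τ'.hom a) := by
    intro D _ _ π h a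
    have h0 : Spec.map (CommRingCat.ofHom π.toRingHom) ≫
        (w.left : Spec (CommRingCat.of C) ⟶ G.left)
        = Spec.map (CommRingCat.ofHom π.toRingHom) ≫
        (w'.left : Spec (CommRingCat.of C) ⟶ G.left) := congrArg (fun q => q.left) h
    rw [e, e', ← Category.assoc, ← Category.assoc, cancel_mono, ← Spec.map_comp,
      ← Spec.map_comp] at h0
    exact ConcreteCategory.congr_hom (Spec.map_injective h0) a
  have : τ = τ' := CommRingCat.hom_ext (RingHom.ext fun a => sub_eq_zero.mp
    (hinj _ (by rw [map_sub, hp π₁ h₁, sub_self]) (by rw [map_sub, hp π₂ h₂, sub_self])))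
  apply Over.OverMorphism.ext
  show (w.left : Spec (CommRingCat.of C) ⟶ G.left) = w'.left
  rw [e, e', this]

end Unique

section SquareZero

variable {G} {A : Type u} [CommRing A] [Algebra k A] (ev : A →ₐ[k] k)
  (hsq : ∀ a b : A, ev a = 0 → ev b = 0 → a * b = 0)

/-- The infinitesimal part of an element. -/
noncomputable def infin (a : A) : A := a - algebraMap k A (ev a)

lemma ev_infin (a : A) : ev (infin ev a) = 0 := by simp [infin]

include hsq in
lemma infin_mul (a b : A) : infin ev (a * b)
    = algebraMap k A (ev a) * infin ev b + algebraMap k A (ev b) * infin ev a := by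
  have h := hsq _ _ (ev_infin ev a) (ev_infin ev b)
  unfold infin at h ⊢
  rw [map_mul ev, map_mul]
  linear_combination h

/-- The subalgebra of pairs with the same value. -/
noncomputable abbrev pairs : Subalgebra k (A × A) :=
  AlgHom.equalizer (ev.comp (AlgHom.fst k A A)) (ev.comp (AlgHom.snd k A A))

/-- First projection. -/
noncomputable def pr₁ : pairs ev →ₐ[k] A := (AlgHom.fst k A A).comp (pairs ev).val

/-- Second projection. -/
noncomputable def pr₂ : pairs ev →ₐ[k] A := (AlgHom.snd k A A).comp (pairs ev).val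

lemma ev_pr₁ (c : pairs ev) : ev (pr₁ ev c) = ev (pr₂ ev c) := c.2

/-- The diagonal. -/
noncomputable def diag : A →ₐ[k] pairs ev :=
  ((AlgHom.id k A).prod (AlgHom.id k A)).codRestrict _ fun _ => rfl

/-- The first axis. -/
noncomputable def ax₁ : A →ₐ[k] pairs ev :=
  ((AlgHom.id k A).prod ((Algebra.ofId k A).comp ev)).codRestrict _ fun a => by
    show ev a = ev (algebraMap k A (ev a))
    simp

/-- The second axis. -/
noncomputable def ax₂ : A →ₐ[k] pairs ev :=
  (((Algebra.ofId k A).comp ev).prod (AlgHom.id k A)).codRestrict _ fun a => by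
    show ev (algebraMap k A (ev a)) = ev a
    simp

/-- `(r + x, r + y) ↦ r + n x + m y`. -/
noncomputable def comb (n m : ℕ) : pairs ev →ₐ[k] A where
  toFun c := algebraMap k A (ev (pr₁ ev c)) + n * infin ev (pr₁ ev c) + m * infin ev (pr₂ ev c)
  map_one' := by simp [infin]
  map_zero' := by simp [infin]
  map_add' c d := by simp only [map_add, infin]; ring
  map_mul' c d := by
    have h1 := hsq _ _ (ev_infin ev (pr₁ ev c)) (ev_infin ev (pr₁ ev d))
    have h2 := hsq _ _ (ev_infin ev (pr₁ ev c)) (ev_infin ev (pr₂ ev d))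
    have h3 := hsq _ _ (ev_infin ev (pr₂ ev c)) (ev_infin ev (pr₁ ev d))
    have h4 := hsq _ _ (ev_infin ev (pr₂ ev c)) (ev_infin ev (pr₂ ev d))
    simp only [map_mul, infin_mul ev hsq, ← ev_pr₁]
    linear_combination -((n : A) ^ 2 * h1) - ((n : A) * m * h2) - ((n : A) * m * h3)
      - ((m : A) ^ 2 * h4)
  commutes' r := by simp [infin]

/-- The scaling of the infinitesimal part. -/
noncomputable def scale (n : ℕ) : A →ₐ[k] A := (comb ev hsq n 0).comp (diag ev)

lemma scale_apply (n : ℕ) (a : A) :
    scale ev hsq n a = algebraMap k A (ev a) + n * infin ev a := by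
  show algebraMap k A (ev a) + n * infin ev a + (0 : ℕ) * infin ev a = _
  simp

include hsq in
/-- The `n`-th power of an infinitesimal point is obtained by scaling by `n`. -/
theorem pow_eq (z : pt k A ⟶ G) (hz : pm ev ≫ z = 1) (n : ℕ) :
    z ^ n = pm (scale ev hsq n) ≫ z := by
  have hax : pm (ev.comp (AlgHom.id k A)) ≫ z = 1 := by rw [AlgHom.comp_id, hz]
  have hcst : pm ((Algebra.ofId k A).comp ev) ≫ z = 1 := by
    rw [← pm_comp, Category.assoc, hz, MonObj.comp_one]
  have hloc : ∀ c : pairs ev, ev (pr₁ ev c) ≠ 0 → IsUnit c := by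
    intro c hc
    have hnil : IsNilpotent (c - algebraMap k (pairs ev) (ev (pr₁ ev c))) := by
      refine ⟨2, ?_⟩
      rw [pow_two]
      apply Subtype.ext
      refine Prod.ext ?_ ?_
      · exact hsq (pr₁ ev (c - algebraMap k (pairs ev) (ev (pr₁ ev c)))) _ (by simp [pr₁]) (by simp [pr₁])
      · refine hsq (pr₂ ev (c - algebraMap k (pairs ev) (ev (pr₁ ev c)))) _ ?_ ?_ <;>
          · show ev (pr₂ ev (c - algebraMap k (pairs ev) (ev (pr₁ ev c)))) = 0
            rw [← ev_pr₁]
            simp
    have := hnil.isUnit_add_left_of_commute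
      ((Ne.isUnit hc).map (algebraMap k (pairs ev))) (Commute.all _ _)
    simpa using this
  haveI : Nontrivial (pairs ev) :=
    ⟨0, 1, fun h => by simpa using congrArg (fun c => ev (pr₁ ev c)) h⟩
  haveI : IsLocalRing (pairs ev) := IsLocalRing.of_isUnit_or_isUnit_one_sub_self fun c => by
    by_cases hc : ev (pr₁ ev c) = 0
    · exact Or.inr (hloc _ (by simp [hc]))
    · exact Or.inl (hloc c hc)
  haveI : IsLocalHom (ev.comp (pr₁ ev)).toRingHom := ⟨fun c hc => hloc c hc.ne_zero⟩
  have hproj : ∀ (ρ : pairs ev →ₐ[k] A), pm ρ ≫ (pm (ax₁ ev) ≫ z * pm (ax₂ ev) ≫ z)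
      = pm (ρ.comp (ax₁ ev)) ≫ z * pm (ρ.comp (ax₂ ev)) ≫ z := fun ρ => by
    rw [MonObj.comp_mul, ← Category.assoc, ← Category.assoc, pm_comp, pm_comp]
  have hPQ : pm (ax₁ ev) ≫ z * pm (ax₂ ev) ≫ z = pm (diag ev) ≫ z := by
    refine eq_of_proj _ _ (ev.comp (pr₁ ev)) ?_ ?_ (pr₁ ev) (pr₂ ev) ?_ ?_ ?_
    · rw [← pm_comp, Category.assoc, hproj,
        show (pr₁ ev).comp (ax₁ ev) = AlgHom.id k A from rfl,
        show (pr₁ ev).comp (ax₂ ev) = (Algebra.ofId k A).comp ev from rfl, hcst, _root_.mul_one,
        pm_id, Category.id_comp, hz]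
    · rw [← pm_comp, Category.assoc, ← Category.assoc (pm (pr₁ ev)), pm_comp,
        show (pr₁ ev).comp (diag ev) = AlgHom.id k A from rfl, pm_id, Category.id_comp, hz]
    · intro c h1 h2
      exact Subtype.ext (Prod.ext h1 h2)
    · rw [hproj, show (pr₁ ev).comp (ax₁ ev) = AlgHom.id k A from rfl,
        show (pr₁ ev).comp (ax₂ ev) = (Algebra.ofId k A).comp ev from rfl, hcst, _root_.mul_one,
        ← Category.assoc, pm_comp, show (pr₁ ev).comp (diag ev) = AlgHom.id k A from rfl]
    · rw [hproj, show (pr₂ ev).comp (ax₁ ev) = (Algebra.ofId k A).comp ev from rfl,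
        show (pr₂ ev).comp (ax₂ ev) = AlgHom.id k A from rfl, hcst, _root_.one_mul,
        ← Category.assoc, pm_comp, show (pr₂ ev).comp (diag ev) = AlgHom.id k A from rfl]
  induction n with
  | zero =>
    have : scale ev hsq 0 = (Algebra.ofId k A).comp ev := by
      ext a
      rw [scale_apply]
      simp
    rw [pow_zero, this, hcst]
  | succ n ih =>
    have h := congrArg (fun q => pm (comb ev hsq n 1) ≫ q) hPQ
    rw [hproj, ← Category.assoc, pm_comp] at h
    have e1 : (comb ev hsq n 1).comp (ax₁ ev) = scale ev hsq n := by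
      ext a
      rw [scale_apply]
      show algebraMap k A (ev a) + n * infin ev a + (1 : ℕ) * infin ev (algebraMap k A (ev a)) = _
      simp [infin]
    have e2 : (comb ev hsq n 1).comp (ax₂ ev) = AlgHom.id k A := by
      ext a
      show algebraMap k A (ev (algebraMap k A (ev a))) + n * infin ev (algebraMap k A (ev a))
        + (1 : ℕ) * infin ev a = a
      simp [infin]
    have e3 : (comb ev hsq n 1).comp (diag ev) = scale ev hsq (n + 1) := by
      ext a
      rw [scale_apply]
      show algebraMap k A (ev a) + n * infin ev a + (1 : ℕ) * infin ev a = _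
      push_cast
      ring
    rw [e1, e2, e3, ← ih, pm_id, Category.id_comp] at h
    rw [pow_succ, h]

end SquareZero

section Origin

set_option backward.isDefEq.respectTransparency false in
lemma org_pow (n : ℕ) : ((𝟙 G : G ⟶ G) ^ n).left (org G) = org G := by
  show ((one₀ G).left ≫ ((𝟙 G : G ⟶ G) ^ n).left) (IsLocalRing.closedPoint k)
    = (one₀ G).left (IsLocalRing.closedPoint k)
  rw [← Over.comp_left, MonObj.comp_pow, Category.comp_id, one_pow]

/-- The endomorphism of the local ring at the origin induced by the power map. -/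
noncomputable def powStalk (n : ℕ) :
    G.left.presheaf.stalk (org G) ⟶ G.left.presheaf.stalk (org G) :=
  G.left.presheaf.stalkSpecializes (specializes_of_eq (org_pow G n)) ≫
    ((𝟙 G : G ⟶ G) ^ n).left.stalkMap (org G)

set_option backward.isDefEq.respectTransparency false in
/-- The power map is `n` on the cotangent space at the origin. -/
theorem powStalk_spec (n : ℕ) :
    (∀ a, (powStalk G n).hom a - a ∈ IsLocalRing.maximalIdeal _) ∧
    (∀ a ∈ IsLocalRing.maximalIdeal _,
      (powStalk G n).hom a - (n : G.left.presheaf.stalk (org G)) * a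
        ∈ IsLocalRing.maximalIdeal _ ^ 2) ∧
    ((n : k) ≠ 0 → IsUnit (n : G.left.presheaf.stalk (org G))) ∧
    ((n : k) = 0 → (n : G.left.presheaf.stalk (org G)) = 0) := by
  let e := org G
  let S := G.left.presheaf.stalk e
  obtain ⟨ι₀, hι₀⟩ : ∃ ι₀ : CommRingCat.of k ⟶ S,
      Spec.map ι₀ = G.left.fromSpecStalk e ≫ G.hom := Spec.map_surjective _
  letI : Algebra k S := ι₀.hom.toAlgebra
  let u0 : Spec (CommRingCat.of k) ⟶ G.left := (one₀ G).left
  have hu0 : u0 ≫ G.hom = Spec.map (CommRingCat.ofHom (algebraMap k k)) := Over.w (one₀ G)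
  obtain ⟨ε₀, hε₀, hεloc⟩ : ∃ ε₀ : S ⟶ CommRingCat.of k,
      Spec.map ε₀ ≫ G.left.fromSpecStalk e = u0 ∧ IsLocalHom ε₀.hom :=
    ⟨Scheme.stalkClosedPointTo u0, Scheme.Spec_stalkClosedPointTo_fromSpecStalk u0,
      Scheme.isLocalHom_stalkClosedPointTo' u0⟩
  have hcomp : ι₀ ≫ ε₀ = CommRingCat.ofHom (algebraMap k k) := by
    apply Spec.map_injective
    rw [Spec.map_comp, hι₀, ← Category.assoc, hε₀, hu0]
  let ev : S →ₐ[k] k :=
    { ε₀.hom with commutes' := fun r => ConcreteCategory.congr_hom hcomp r }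
  have hker : ∀ a, a ∈ IsLocalRing.maximalIdeal S ↔ ev a = 0 := by
    intro a
    refine ⟨fun ha => ?_, fun ha hu => ?_⟩
    · by_contra h
      exact ha ((Ne.isUnit h).of_map ε₀.hom)
    · exact (hu.map ev).ne_zero ha
  have hres : ∀ a, a - algebraMap k S (ev a) ∈ IsLocalRing.maximalIdeal S := fun a => by
    rw [hker, map_sub, AlgHom.commutes]
    exact sub_self _
  let A := S ⧸ IsLocalRing.maximalIdeal S ^ 2
  let evA : A →ₐ[k] k := Ideal.Quotient.liftₐ _ ev fun a ha => by
    rw [← hker]
    exact Ideal.pow_le_self two_ne_zero ha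
  have hsq : ∀ a b : A, evA a = 0 → evA b = 0 → a * b = 0 := by
    intro a b ha hb
    obtain ⟨a, rfl⟩ := Ideal.Quotient.mk_surjective a
    obtain ⟨b, rfl⟩ := Ideal.Quotient.mk_surjective b
    rw [← map_mul, Ideal.Quotient.eq_zero_iff_mem, pow_two]
    exact Ideal.mul_mem_mul ((hker a).mpr ha) ((hker b).mpr hb)
  let π : S →ₐ[k] A := Ideal.Quotient.mkₐ k _
  let zS : pt k S ⟶ G := Over.homMk (G.left.fromSpecStalk e) (by
    show _ = Spec.map (CommRingCat.ofHom (algebraMap k S))
    rw [← hι₀]
    rfl)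
  let z : pt k A ⟶ G := pm π ≫ zS
  have hz : pm evA ≫ z = 1 := by
    show pm evA ≫ pm π ≫ zS = 1
    rw [← Category.assoc, pm_comp]
    apply Over.OverMorphism.ext
    exact hε₀
  have hpow := pow_eq evA hsq z hz n
  let f : G.left ⟶ G.left := ((𝟙 G : G ⟶ G) ^ n).left
  have hleft : (z ^ n).left
      = Spec.map (CommRingCat.ofHom (π.toRingHom.comp (powStalk G n).hom)) ≫
        G.left.fromSpecStalk e := by
    rw [show z ^ n = z ≫ (𝟙 G : G ⟶ G) ^ n by rw [MonObj.comp_pow, Category.comp_id]]
    show (Spec.map (CommRingCat.ofHom π.toRingHom) ≫ G.left.fromSpecStalk e) ≫ f = _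
    rw [Category.assoc, ← Scheme.SpecMap_stalkMap_fromSpecStalk f,
      ← Scheme.SpecMap_stalkSpecializes_fromSpecStalk (specializes_of_eq (org_pow G n)),
      ← Category.assoc, ← Category.assoc, ← Spec.map_comp, ← Spec.map_comp]
    rfl
  have hright : (z ^ n).left
      = Spec.map (CommRingCat.ofHom ((scale evA hsq n).toRingHom.comp π.toRingHom)) ≫
        G.left.fromSpecStalk e := by
    rw [hpow]
    show Spec.map _ ≫ Spec.map _ ≫ G.left.fromSpecStalk e = _
    rw [← Category.assoc, ← Spec.map_comp]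
    rfl
  have key := Spec.map_injective ((cancel_mono _).mp (hleft.symm.trans hright))
  have hkey : ∀ a, Ideal.Quotient.mk (IsLocalRing.maximalIdeal S ^ 2) ((powStalk G n).hom a)
      = scale evA hsq n (Ideal.Quotient.mk _ a) := fun a => ConcreteCategory.congr_hom key a
  have hdiff : ∀ a, (powStalk G n).hom a -
      (algebraMap k S (ev a) + (n : S) * (a - algebraMap k S (ev a)))
        ∈ IsLocalRing.maximalIdeal S ^ 2 := by
    intro a
    rw [← Ideal.Quotient.eq, hkey a, scale_apply]
    simp only [infin, map_add, map_mul, map_sub, map_natCast]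
    rfl
  refine ⟨fun a => ?_, fun a ha => ?_, fun h => ?_, fun h => ?_⟩
  · have e' : (powStalk G n).hom a - a = ((powStalk G n).hom a -
      (algebraMap k S (ev a) + (n : S) * (a - algebraMap k S (ev a))))
        + ((n : S) - 1) * (a - algebraMap k S (ev a)) := by ring
    rw [e']
    exact add_mem (Ideal.pow_le_self two_ne_zero (hdiff a)) (Ideal.mul_mem_left _ _ (hres a))
  · have := hdiff a
    rw [(hker a).mp ha, map_zero, zero_add, sub_zero] at this
    exact this
  · rw [← map_natCast (algebraMap k S) n]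
    exact (Ne.isUnit h).map _
  · rw [← map_natCast (algebraMap k S) n, h, map_zero]

end Origin

end Groth.Agent.H8PowTangent
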