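import Mathlib
import Groth.Agent.Lib.H8PowTangent

/-!
# Where the power map of a group scheme is étale

For a group scheme locally of finite type over a field and `n` invertible in the field, `x ↦ xⁿ` is
étale near the origin and near every central rational point, hence everywhere when the group is
commutative. Conversely, if `n` vanishes in the field and the power map is étale then the local ring
at the origin is a field.
-/

set_option autoImplicit false

universe u

open CategoryTheory Limits AlgebraicGeometry MonoidalCategory CartesianMonoidalCategory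
open scoped MonObj

namespace Groth.Agent.H8PowEtale

open H8PowTangent

variable {k : Type u} [Field k] (G : Over (Spec (CommRingCat.of k))) [GrpObj G]

local notation "Ov" => Over (Spec (CommRingCat.of k))
local notation "S0" => Spec (CommRingCat.of k)

set_option backward.isDefEq.respectTransparency false in
lemma org_eq (p : ↥(𝟙_ Ov).left) : η[G].left p = org G := by
  show _ = (toUnit (pt k k) ≫ η[G]).left (IsLocalRing.closedPoint k)
  have h : (toUnit (pt k k)).left (IsLocalRing.closedPoint k) = p := by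
    haveI : Subsingleton ↥(𝟙_ Ov).left := inferInstanceAs (Subsingleton ↥(S0))
    exact Subsingleton.elim _ _
  rw [Over.comp_left, Scheme.Hom.comp_apply, h]

lemma isIso_stalkSpecializes_of_eq {X : Scheme.{u}} {x y : X} (h : x = y) :
    IsIso (X.presheaf.stalkSpecializes (specializes_of_eq h)) := by
  subst h
  rw [TopCat.Presheaf.stalkSpecializes_refl]
  infer_instance

lemma isIso_spec (n : ℕ) :
    IsIso (G.left.presheaf.stalkSpecializes (specializes_of_eq (org_pow G n))) :=
  isIso_stalkSpecializes_of_eq (org_pow G n)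

section LFT

variable [LocallyOfFiniteType G.hom]

omit [GrpObj G] in
lemma locallyOfFinitePresentation_end (f : G ⟶ G) : LocallyOfFinitePresentation f.left := by
  haveI : IsLocallyNoetherian G.left := LocallyOfFiniteType.isLocallyNoetherian G.hom
  haveI : LocallyOfFiniteType (f.left ≫ G.hom) := by rw [Over.w]; infer_instance
  haveI : LocallyOfFiniteType f.left := locallyOfFiniteType_of_comp f.left G.hom
  infer_instance

lemma isNoetherianRing_stalk : IsNoetherianRing (G.left.presheaf.stalk (org G)) := by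
  haveI : IsLocallyNoetherian G.left := LocallyOfFiniteType.isLocallyNoetherian G.hom
  infer_instance

lemma essFiniteType_powStalk (n : ℕ) : (powStalk G n).hom.EssFiniteType := by
  haveI := locallyOfFinitePresentation_end G ((𝟙 G : G ⟶ G) ^ n)
  haveI := isIso_spec G n
  exact (RingHom.FiniteType.of_surjective _
    (ConcreteCategory.bijective_of_isIso
      (G.left.presheaf.stalkSpecializes (specializes_of_eq (org_pow G n)))).2).essFiniteType.comp
    (LocallyOfFiniteType.stalkMap _ _)

/-- For `n` invertible in the field the power map is étale near the origin. -/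
theorem exists_etale_org (n : ℕ) (hn : (n : k) ≠ 0) :
    ∃ U : G.left.Opens, org G ∈ U ∧ Etale (U.ι ≫ ((𝟙 G : G ⟶ G) ^ n).left) := by
  haveI := locallyOfFinitePresentation_end G ((𝟙 G : G ⟶ G) ^ n)
  haveI := isNoetherianRing_stalk G
  haveI := isIso_spec G n
  obtain ⟨h1, h2, h3, -⟩ := powStalk_spec G n
  have hm := H8EtaleAt.map_maximalIdeal_eq _ _ (h3 hn) h1 h2
  have hfl := H8EtaleAt.flat_endo _ h1 hm
  have hun := H8EtaleAt.formallyUnramified_endo _ h1 hm (essFiniteType_powStalk G n)
  refine H8EtaleAt.exists_etale_nhd _ _ ?_ ?_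
  · exact (RingHom.Flat.respectsIso.cancel_left_isIso _ _).mp hfl
  · exact (RingHom.FormallyUnramified.respectsIso.cancel_left_isIso _ _).mp hun

/-- If `n` vanishes in the field and the power map is étale, then the local ring at the origin is a
field. -/
theorem isField_of_etale (n : ℕ) (hn : (n : k) = 0) [Etale ((𝟙 G : G ⟶ G) ^ n).left] :
    IsField (G.left.presheaf.stalk (org G)) := by
  haveI := isNoetherianRing_stalk G
  haveI := isIso_spec G n
  obtain ⟨h1, h2, -, h4⟩ := powStalk_spec G n
  have hun : (powStalk G n).hom.FormallyUnramified :=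
    (RingHom.FormallyUnramified.respectsIso.cancel_left_isIso _ _).mpr
      (FormallyUnramified.stalkMap _ _)
  have hle : ∀ a ∈ IsLocalRing.maximalIdeal (G.left.presheaf.stalk (org G)),
      (powStalk G n).hom a ∈ IsLocalRing.maximalIdeal _ ^ 2 := fun a ha => by
    simpa [h4 hn] using h2 a ha
  have hloc : IsLocalHom (powStalk G n).hom := ⟨fun a ha => by
    by_contra hna
    have h := add_mem (h1 a) (show a ∈ IsLocalRing.maximalIdeal _ from hna)
    rw [sub_add_cancel] at h
    exact h ha⟩
  have key : ∀ {R S : Type u} [CommRing R] [CommRing S] [IsLocalRing R] [IsLocalRing S]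
      (φ : R →+* S) [IsLocalHom φ], φ.FormallyUnramified → φ.EssFiniteType →
      (IsLocalRing.maximalIdeal R).map φ = IsLocalRing.maximalIdeal S := by
    intro R S _ _ _ _ φ _ hu he
    algebraize [φ]
    haveI : IsLocalHom (algebraMap R S) := ‹IsLocalHom φ›
    exact Algebra.FormallyUnramified.map_maximalIdeal
  have hmap := key _ hun (essFiniteType_powStalk G n)
  rw [IsLocalRing.isField_iff_maximalIdeal_eq, ← le_bot_iff]
  refine (Submodule.eq_bot_of_le_smul_of_le_jacobson_bot (IsLocalRing.maximalIdeal _) _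
    (IsNoetherian.noetherian _) ?_ (IsLocalRing.maximalIdeal_le_jacobson _)).le
  calc IsLocalRing.maximalIdeal (G.left.presheaf.stalk (org G))
      = _ := hmap.symm
    _ ≤ IsLocalRing.maximalIdeal (G.left.presheaf.stalk (org G)) ^ 2 :=
        Ideal.map_le_iff_le_comap.mpr (fun a ha => Ideal.mem_comap.mpr (hle a ha))
    _ = _ := by rw [pow_two]; rfl

/-- For `n` invertible in the field the power map is étale near every central rational point. -/
theorem exists_etale_central (n : ℕ) (hn : (n : k) ≠ 0) (g : 𝟙_ Ov ⟶ G)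
    (hg : ∀ (X : Ov) (x : X ⟶ G), (toUnit X ≫ g) * x = x * (toUnit X ≫ g)) :
    ∃ U : G.left.Opens, Set.range g.left.base ⊆ (U : Set ↥G.left) ∧
      Etale (U.ι ≫ ((𝟙 G : G ⟶ G) ^ n).left) := by
  obtain ⟨U₀, hU₀, het⟩ := exists_etale_org G n hn
  let τ : (𝟙_ Ov ⟶ G) → (G ⟶ G) := fun h => (toUnit G ≫ h) * 𝟙 G
  have hτ : ∀ h h', τ h ≫ τ h' = τ (h' * h) := by
    intro h h'
    show τ h ≫ ((toUnit G ≫ h') * 𝟙 G) = _
    rw [MonObj.comp_mul, ← Category.assoc, toUnit_unique (τ h ≫ toUnit G) (toUnit G),
      Category.comp_id]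
    show (toUnit G ≫ h') * ((toUnit G ≫ h) * 𝟙 G) = (toUnit G ≫ (h' * h)) * 𝟙 G
    rw [MonObj.comp_mul, _root_.mul_assoc]
  have hτ1 : τ 1 = 𝟙 G := by
    show (toUnit G ≫ 1) * 𝟙 G = 𝟙 G
    rw [MonObj.comp_one, _root_.one_mul]
  let e : G ≅ G :=
    { hom := τ g
      inv := τ g⁻¹
      hom_inv_id := by rw [hτ, inv_mul_cancel, hτ1]
      inv_hom_id := by rw [hτ, mul_inv_cancel, hτ1] }
  have he : ((𝟙 G : G ⟶ G) ^ n) ≫ τ (g ^ n) = τ g ≫ ((𝟙 G : G ⟶ G) ^ n) := by
    show ((𝟙 G : G ⟶ G) ^ n) ≫ ((toUnit G ≫ (g ^ n)) * 𝟙 G) = _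
    rw [MonObj.comp_mul, ← Category.assoc, toUnit_unique (_ ≫ toUnit G) (toUnit G),
      Category.comp_id, MonObj.comp_pow, MonObj.comp_pow, Category.comp_id]
    exact ((show Commute (toUnit G ≫ g) (𝟙 G) from hg G (𝟙 G)).mul_pow n).symm
  haveI : IsIso (τ (g ^ n)).left := by
    let e' : G ≅ G :=
      { hom := τ (g ^ n)
        inv := τ (g ^ n)⁻¹
        hom_inv_id := by rw [hτ, inv_mul_cancel, hτ1]
        inv_hom_id := by rw [hτ, mul_inv_cancel, hτ1] }
    exact ((Over.forget _).mapIso e').isIso_hom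
  let eL : G.left ≅ G.left := (Over.forget _).mapIso e
  refine ⟨eL.inv ⁻¹ᵁ U₀, ?_, ?_⟩
  · rintro _ ⟨p, rfl⟩
    show eL.inv (g.left p) ∈ U₀
    have : g ≫ τ g⁻¹ = η[G] := by
      show g ≫ ((toUnit G ≫ g⁻¹) * 𝟙 G) = _
      rw [MonObj.comp_mul, ← Category.assoc, toUnit_unique (g ≫ toUnit G) (𝟙 _), Category.id_comp,
        Category.comp_id, inv_mul_cancel]
      exact (by simp [Hom.one_def] : (1 : 𝟙_ Ov ⟶ G) = η[G])
    rw [← Scheme.Hom.comp_apply]
    show (g ≫ τ g⁻¹).left p ∈ U₀
    rw [this]
    exact (org_eq G p).symm ▸ hU₀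
  · have : (eL.inv ⁻¹ᵁ U₀).ι ≫ ((𝟙 G : G ⟶ G) ^ n).left
        = (eL.inv ∣_ U₀) ≫ (U₀.ι ≫ ((𝟙 G : G ⟶ G) ^ n).left) ≫ (τ (g ^ n)).left := by
      rw [Category.assoc, ← Over.comp_left, he, Over.comp_left, morphismRestrict_ι_assoc]
      have h2 : eL.inv ≫ (τ g).left = 𝟙 _ := eL.inv_hom_id
      rw [reassoc_of% h2]
    rw [this]
    infer_instance

end LFT

section Comm

variable [LocallyOfFiniteType G.hom] [IsCommMonObj G]

set_option backward.isDefEq.respectTransparency false in
/-- Over an algebraically closed field the power map of a commutative group is étale. -/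
theorem etale_pow_isAlgClosed [IsAlgClosed k] (n : ℕ) (hn : (n : k) ≠ 0) :
    Etale ((𝟙 G : G ⟶ G) ^ n).left := by
  have hex : ∀ x : closedPoints G.left, ∃ U : G.left.Opens, x.1 ∈ U ∧
      Etale (U.ι ≫ ((𝟙 G : G ⟶ G) ^ n).left) := by
    intro x
    let g : 𝟙_ Ov ⟶ G := Over.homMk (pointOfClosedPoint G.hom x.1 x.2) (pointOfClosedPoint_comp _ _ _)
    obtain ⟨U, hU, het⟩ := exists_etale_central G n hn g (fun X y => _root_.mul_comm _ _)
    refine ⟨U, ?_, het⟩
    have : g.left (IsLocalRing.closedPoint k) ∈ U := hU ⟨_, rfl⟩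
    rwa [show g.left (IsLocalRing.closedPoint k) = x.1 from pointOfClosedPoint_apply _ _ _ _] at this
  choose U hxU hU using hex
  haveI : JacobsonSpace G.left := LocallyOfFiniteType.jacobsonSpace G.hom
  have htop : iSup U = ⊤ := by
    rw [eq_top_iff]
    rintro y -
    by_contra hy
    obtain ⟨x, hx, hxc⟩ := nonempty_inter_closedPoints (Z := ((iSup U : G.left.Opens) : Set G.left)ᶜ)
      ⟨y, hy⟩ (iSup U).2.isClosed_compl.isLocallyClosed
    exact hx (TopologicalSpace.Opens.mem_iSup.mpr ⟨⟨x, hxc⟩, hxU _⟩)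
  exact IsZariskiLocalAtSource.of_iSup_eq_top (P := @Etale) U htop hU

end Comm

section BaseChange

variable [LocallyOfFiniteType G.hom] [IsCommMonObj G]

set_option backward.isDefEq.respectTransparency false in
/-- The power map of a commutative group is étale when `n` is invertible in the field. -/
theorem etale_pow (n : ℕ) (hn : (n : k) ≠ 0) : Etale ((𝟙 G : G ⟶ G) ^ n).left := by
  let K := AlgebraicClosure k
  let s : Spec (CommRingCat.of K) ⟶ S0 := Spec.map (CommRingCat.ofHom (algebraMap k K))
  let F := Over.pullback s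
  let G' := F.obj G
  letI : GrpObj G' := Functor.grpObjObj
  haveI : LocallyOfFiniteType G'.hom := inferInstanceAs (LocallyOfFiniteType (pullback.snd G.hom s))
  haveI : IsCommMonObj G' := Functor.isCommMonObj_obj
  have hmap : ∀ m : ℕ, F.map ((𝟙 G : G ⟶ G) ^ m) = (𝟙 G' : G' ⟶ G') ^ m := by
    intro m
    induction m with
    | zero => rw [pow_zero, pow_zero, Functor.map_one]
    | succ m ih => rw [pow_succ, pow_succ, Functor.map_mul, ih, CategoryTheory.Functor.map_id]
  have hn' : (n : K) ≠ 0 := by
    rw [← map_natCast (algebraMap k K)]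
    exact (map_ne_zero _).mpr hn
  have het : Etale (F.map ((𝟙 G : G ⟶ G) ^ n)).left := by
    rw [hmap]; exact etale_pow_isAlgClosed G' n hn'
  have hpb : IsPullback (pullback.fst G.hom s) (F.map ((𝟙 G : G ⟶ G) ^ n)).left
      ((𝟙 G : G ⟶ G) ^ n).left (pullback.fst G.hom s) := by
    refine IsPullback.of_bot ?_ ?_ (IsPullback.of_hasPullback G.hom s)
    · rw [Over.w]
      have : (F.map ((𝟙 G : G ⟶ G) ^ n)).left ≫ pullback.snd G.hom s = pullback.snd G.hom s :=
        Over.w (F.map _)
      rw [this]
      exact IsPullback.of_hasPullback G.hom s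
    · simp [F]
  haveI : Surjective (pullback.fst G.hom s) := inferInstance
  exact MorphismProperty.of_isPullback_of_descendsAlong (P := @Etale)
    (Q := @Surjective ⊓ @Flat ⊓ @QuasiCompact) hpb.flip
    ⟨⟨inferInstance, inferInstance⟩, inferInstance⟩ het

end BaseChange

end Groth.Agent.H8PowEtale
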