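import Mathlib
import Groth.Agent.Lib.H8FibreFlat
import Groth.Agent.Lib.H8PowEtale
import Groth.Agent.Lib.H8IdComp
import Groth.Agent.Lib.H6.Misc2

/-!
# Multiplication by invertible integers on abelian schemes
-/

set_option autoImplicit false
set_option linter.all false

universe u

open CategoryTheory Limits AlgebraicGeometry MonoidalCategory CartesianMonoidalCategory MonObj GrpObj

namespace Groth.Agent.H8AbSchMul

/-- Étale morphisms are locally quasi-finite. -/
theorem locallyQuasiFinite_of_etale {X Y : Scheme.{u}} (f : X ⟶ Y) (hf : Etale f) : LocallyQuasiFinite f := by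
  rw [HasRingHomProperty.iff_appLE (P := @LocallyQuasiFinite)]
  intro U V e
  have h := HasRingHomProperty.appLE (P := @Etale) f hf U V e
  algebraize [(f.appLE U V e).hom]
  haveI : Algebra.Etale Γ(Y, U) Γ(X, V) := h
  show Algebra.QuasiFinite Γ(Y, U) Γ(X, V)
  refine ⟨fun P _ => ?_⟩
  exact Algebra.FormallyUnramified.finite_of_free P.ResidueField (P.Fiber Γ(X, V))

set_option backward.isDefEq.respectTransparency false in
/-- A connected geometrically reduced group over a field is geometrically integral. -/
theorem geometricallyIntegral {k : Type u} [Field k] (G : Over (Spec (CommRingCat.of k))) [GrpObj G]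
    [LocallyOfFiniteType G.hom] [GeometricallyReduced G.hom] [GeometricallyConnected G.hom] :
    GeometricallyIntegral G.hom := by
  haveI : GeometricallyIrreducible G.hom := by
    refine ⟨geometrically_iff_of_isClosedUnderIsomorphisms.mpr fun K _ s => ?_⟩
    let G' := (Over.pullback s).obj G
    letI : GrpObj G' := Functor.grpObjObj
    haveI : LocallyOfFiniteType G'.hom := inferInstanceAs (LocallyOfFiniteType (pullback.snd G.hom s))
    haveI : GeometricallyConnected G'.hom := inferInstanceAs (GeometricallyConnected (pullback.snd G.hom s))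
    haveI : ConnectedSpace G'.left := GeometricallyConnected.connectedSpace_of_subsingleton G'.hom
    exact H8IdComp.irreducibleSpace G'
  exact GeometricallyIntegral.of_geometricallyReduced_of_geometricallyIrreducible G.hom

variable {S : Scheme.{u}} (X : Over S) [GrpObj X] [IsProper X.hom] [Flat X.hom] [LocallyOfFinitePresentation X.hom]
  [GeometricallyReduced X.hom] [GeometricallyConnected X.hom]

set_option backward.isDefEq.respectTransparency false in
/-- The power maps on the fibres of an abelian scheme are étale. -/
theorem etale_fibre {K : Type u} [Field K] (t : Spec (CommRingCat.of K) ⟶ S) (n : ℕ) (hn : (n : K) ≠ 0) :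
    Etale ((Over.pullback t).map ((𝟙 X : X ⟶ X) ^ n)).left := by
  let F := Over.pullback t
  let G := F.obj X
  letI : GrpObj G := Functor.grpObjObj
  haveI : LocallyOfFiniteType G.hom := inferInstanceAs (LocallyOfFiniteType (pullback.snd X.hom t))
  haveI : GeometricallyReduced G.hom := inferInstanceAs (GeometricallyReduced (pullback.snd X.hom t))
  haveI : GeometricallyConnected G.hom := inferInstanceAs (GeometricallyConnected (pullback.snd X.hom t))
  haveI : IsProper G.hom := inferInstanceAs (IsProper (pullback.snd X.hom t))
  haveI := geometricallyIntegral G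
  haveI : IsCommMonObj G := isCommMonObj_of_isProper_of_geometricallyIntegral G
  have hmap : ∀ m : ℕ, F.map ((𝟙 X : X ⟶ X) ^ m) = (𝟙 G : G ⟶ G) ^ m := by
    intro m
    induction m with
    | zero => rw [pow_zero, pow_zero, Functor.map_one]
    | succ m ih => rw [pow_succ, pow_succ, Functor.map_mul, ih, CategoryTheory.Functor.map_id]
  rw [hmap]
  exact H8PowEtale.etale_pow G n hn

lemma natCast_ne_zero {K : Type u} [Field K] (t : Spec (CommRingCat.of K) ⟶ S) {n : ℕ}
    (hn : IsUnit (n : Γ(S, ⊤))) : (n : K) ≠ 0 := by
  have h := hn.map (t.appTop ≫ (Scheme.ΓSpecIso (CommRingCat.of K)).hom).hom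
  rw [map_natCast] at h
  exact h.ne_zero

set_option backward.isDefEq.respectTransparency false in
lemma isPullback_map {T : Scheme.{u}} (t : T ⟶ S) (g : X ⟶ X) :
    IsPullback (pullback.fst X.hom t) ((Over.pullback t).map g).left g.left (pullback.fst X.hom t) := by
  refine IsPullback.of_bot ?_ ?_ (IsPullback.of_hasPullback X.hom t)
  · rw [Over.w]
    have : ((Over.pullback t).map g).left ≫ pullback.snd X.hom t = pullback.snd X.hom t :=
      Over.w ((Over.pullback t).map g)
    rw [this]
    exact IsPullback.of_hasPullback X.hom t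
  · simp

set_option backward.isDefEq.respectTransparency false in
theorem isFinite_etale_pow (n : ℕ) (hn : IsUnit (n : Γ(S, ⊤))) :
    IsFinite ((𝟙 X : X ⟶ X) ^ n).left ∧ Etale ((𝟙 X : X ⟶ X) ^ n).left := by
  let g := (𝟙 X : X ⟶ X) ^ n
  let f := g.left
  haveI hlfp : LocallyOfFinitePresentation (f ≫ X.hom) := by rw [Over.w g]; infer_instance
  haveI hfl : Flat (f ≫ X.hom) := by rw [Over.w g]; infer_instance
  haveI hpr : IsProper (f ≫ X.hom) := by rw [Over.w g]; infer_instance
  haveI : IsProper f := IsProper.of_comp f X.hom
  haveI : LocallyOfFinitePresentation f := Groth.Agent.H6.lfp_cancel f X.hom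
  have het : ∀ s : S, Etale ((Over.pullback (S.fromSpecResidueField s)).map g).left := fun s =>
    etale_fibre X (S.fromSpecResidueField s) n (natCast_ne_zero (S.fromSpecResidueField s) hn)
  have hpb : ∀ s : S, Etale (pullback.snd f (pullback.fst X.hom (S.fromSpecResidueField s))) := fun s => by
    haveI := het s
    rw [← (isPullback_map X (S.fromSpecResidueField s) g).isoPullback_inv_snd]
    infer_instance
  have hfib : ∀ y : X.left, Etale (f.fiberToSpecResidueField y) := by
    suffices H : ∀ (s : S) (z : ↥(pullback X.hom (S.fromSpecResidueField s))),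
        Etale (f.fiberToSpecResidueField (pullback.fst X.hom (S.fromSpecResidueField s) z)) by
      intro y
      obtain ⟨z, hz⟩ : y ∈ Set.range (pullback.fst X.hom (S.fromSpecResidueField (X.hom y))) := by
        rw [Scheme.Pullback.range_fst, Scheme.range_fromSpecResidueField]
        rfl
      exact hz ▸ H _ z
    intro s z
    let p := pullback.fst X.hom (S.fromSpecResidueField s)
    have sq := isPullback_fiberToSpecResidueField_of_isPullback (IsPullback.of_hasPullback f p) z
    haveI := hpb s
    haveI h1 : Etale ((pullback.snd f p).fiberToSpecResidueField z) := inferInstance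
    exact MorphismProperty.of_isPullback_of_descendsAlong (P := @Etale)
      (Q := @Surjective ⊓ @Flat ⊓ @QuasiCompact) sq.flip
      ⟨⟨inferInstance, inferInstance⟩, inferInstance⟩ h1
  haveI : LocallyQuasiFinite f := LocallyQuasiFinite.of_fiberToSpecResidueField f fun y => by
    exact locallyQuasiFinite_of_etale _ (hfib y)
  haveI : IsFinite f := IsFinite.iff_isProper_and_locallyQuasiFinite f |>.mpr ⟨inferInstance, inferInstance⟩
  haveI : Flat f := H8FibreFlat.flat_of_fibres f X.hom fun s => by
    haveI := hpb s
    infer_instance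
  exact ⟨‹_›, H8EtaleFibre.etale_of_fibres f hfib⟩

set_option backward.isDefEq.respectTransparency false in
theorem result (n : ℤ) (hn : IsUnit (n : Γ(S, ⊤))) :
    IsFinite (𝟙 X ^ n).left ∧ Etale (𝟙 X ^ n).left := by
  obtain ⟨m, rfl | rfl⟩ := Int.eq_nat_or_neg n
  · rw [zpow_natCast]
    exact isFinite_etale_pow X m (by simpa using hn)
  · obtain ⟨h1, h2⟩ := isFinite_etale_pow X m (by simpa [IsUnit.neg_iff] using hn)
    rw [zpow_neg, zpow_natCast, show ((𝟙 X : X ⟶ X) ^ m)⁻¹ = ((𝟙 X : X ⟶ X) ^ m) ≫ ι[X] from rfl, Over.comp_left]
    haveI := h1; haveI := h2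
    haveI : IsIso (ι[X]).left := inferInstance
    exact ⟨inferInstance, inferInstance⟩

end Groth.Agent.H8AbSchMul
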