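import Mathlib

/-!
# Finite Hopf algebras of invertible dimension are étale
-/

set_option autoImplicit false

universe u v

open TensorProduct HopfAlgebra

namespace Groth.Agent.H8TraceEtale

variable (k : Type u) [Field k] (A : Type v) [CommRing A]

section Separable

variable [Algebra k A] [FiniteDimensional k A]

/-- A finite algebra with nondegenerate trace form has no differentials. -/
theorem formallyUnramified_of_trace
    (hnd : ∀ x : A, (∀ y, Algebra.trace k A (x * y) = 0) → x = 0) :
    Subsingleton Ω[A⁄k] := by
  classical
  set τ := Algebra.trace k A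
  let B : LinearMap.BilinForm k A := Algebra.traceForm k A
  have hB : B.Nondegenerate := by
    refine (LinearMap.IsRefl.nondegenerate_iff_separatingLeft
      (B := B) (fun x y h => ?_)).mpr ?_
    · show τ (y * x) = 0
      rw [mul_comm]; exact h
    · intro x hx
      exact hnd x hx
  let b := Module.finBasis k A
  let b' := B.dualBasis hB b
  have h1 : ∀ x, x = ∑ j, τ (x * b j) • b' j := fun x => by
    conv_lhs => rw [← b'.sum_repr x]
    refine Finset.sum_congr rfl fun j _ => ?_
    rw [LinearMap.BilinForm.dualBasis_repr_apply]
    rfl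
  have hd : ∀ i j, τ (b' i * b j) = if j = i then 1 else 0 := fun i j =>
    LinearMap.BilinForm.apply_dualBasis_left hB b i j
  have h2 : ∀ x j, b.repr x j = τ (x * b' j) := fun x j => by
    conv_rhs => rw [← b.sum_repr x]
    rw [Finset.sum_mul, map_sum]
    rw [Finset.sum_eq_single j]
    · rw [smul_mul_assoc, map_smul, mul_comm, hd, if_pos rfl, smul_eq_mul, mul_one]
    · intro i _ hij
      rw [smul_mul_assoc, map_smul, mul_comm, hd, if_neg hij, smul_zero]
    · simp
  have h2' : ∀ x, x = ∑ j, τ (x * b' j) • b j := fun x => by
    conv_lhs => rw [← b.sum_repr x]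
    simp only [h2]
  have hc : ∑ i, b i * b' i = 1 := by
    refine sub_eq_zero.mp (hnd _ fun y => ?_)
    have hy : τ y = ∑ i, τ (y * b i * b' i) := by
      simp only [τ]
      rw [Algebra.trace_eq_matrix_trace b, Matrix.trace]
      refine Finset.sum_congr rfl fun i _ => ?_
      rw [Matrix.diag_apply, Algebra.leftMulMatrix_eq_repr_mul, h2]
    rw [sub_mul, map_sub, one_mul, Finset.sum_mul, map_sum, hy, ← Finset.sum_sub_distrib]
    exact Finset.sum_eq_zero fun i _ => by rw [sub_eq_zero, mul_comm (b i * b' i) y, mul_assoc]
  let D := KaehlerDifferential.D k A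
  have key : ∀ a, D a = 0 := by
    intro a
    have e1 : ∑ i, (a * b i) • D (b' i) = ∑ i, b i • D (a * b' i) := by
      have el : ∀ i, (a * b i) • D (b' i) = ∑ j, τ (a * b i * b' j) • (b j • D (b' i)) := fun i => by
        conv_lhs => rw [h2' (a * b i)]
        rw [Finset.sum_smul]
        exact Finset.sum_congr rfl fun j _ => smul_assoc _ _ _
      have er : ∀ i, b i • D (a * b' i) = ∑ j, τ (a * b' i * b j) • (b i • D (b' j)) := fun i => by
        conv_lhs => rw [h1 (a * b' i)]
        rw [map_sum, Finset.smul_sum]
        refine Finset.sum_congr rfl fun j _ => ?_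
        rw [Derivation.map_smul, smul_comm]
      simp only [el, er]
      rw [Finset.sum_comm]
      refine Finset.sum_congr rfl fun i _ => Finset.sum_congr rfl fun j _ => ?_
      congr 2
      ring
    have e2 : ∑ i, b i • D (a * b' i) = (∑ i, (a * b i) • D (b' i)) + (∑ i, b i * b' i) • D a := by
      rw [Finset.sum_smul, ← Finset.sum_add_distrib]
      refine Finset.sum_congr rfl fun i _ => ?_
      rw [Derivation.leibniz, smul_add, smul_smul, smul_smul, mul_comm a (b i)]
    rw [hc, one_smul, ← e1] at e2
    exact left_eq_add.mp e2
  refine subsingleton_of_forall_eq 0 fun ω => ?_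
  have hω : ω ∈ Submodule.span A (Set.range D) := by
    rw [KaehlerDifferential.span_range_derivation]; trivial
  induction hω using Submodule.span_induction with
  | mem x hx => obtain ⟨a, rfl⟩ := hx; exact key a
  | zero => rfl
  | add x y _ _ hx hy => rw [hx, hy, add_zero]
  | smul a x _ hx => rw [hx, smul_zero]

end Separable

variable [HopfAlgebra k A] [FiniteDimensional k A]

/-- The shear map of a Hopf algebra. -/
noncomputable def shear : A ⊗[k] A →ₐ[A] A ⊗[k] A :=
  Algebra.TensorProduct.lift (Algebra.ofId A (A ⊗[k] A)) (Bialgebra.comulAlgHom k A)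
    fun _ _ => mul_comm _ _

lemma shear_one_tmul (x : A) :
    shear k A (1 ⊗ₜ x) = CoalgebraStruct.comul (R := k) x := by
  simp [shear, ← Algebra.TensorProduct.one_def]

lemma shear_bijective : Function.Bijective (shear k A) := by
  let S' : A ⊗[k] A →ₐ[A] A ⊗[k] A :=
    Algebra.TensorProduct.lift (Algebra.ofId A (A ⊗[k] A))
      ((Algebra.TensorProduct.map (HopfAlgebra.antipodeAlgHom k A) (AlgHom.id k A)).comp
        (Bialgebra.comulAlgHom k A))
      fun _ _ => mul_comm _ _
  have main : ∀ x : A, S' (CoalgebraStruct.comul (R := k) x) = 1 ⊗ₜ x ∧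
      shear k A (Algebra.TensorProduct.map (HopfAlgebra.antipodeAlgHom k A) (AlgHom.id k A)
        (CoalgebraStruct.comul (R := k) x)) = 1 ⊗ₜ x := by
    intro x
    let F : (A →ₗ[k] A) → (A →ₗ[k] A) → A ⊗[k] (A ⊗[k] A) →ₗ[k] A ⊗[k] A := fun p q =>
      (LinearMap.mul' k A).rTensor A ∘ₗ (TensorProduct.map p q).rTensor A ∘ₗ
        (TensorProduct.assoc k A A A).symm.toLinearMap
    have hF : ∀ p q : A →ₗ[k] A,
        F p q ((CoalgebraStruct.comul (R := k) (A := A)).lTensor A (CoalgebraStruct.comul x)) =
        (LinearMap.mul' k A ∘ₗ TensorProduct.map p q ∘ₗ CoalgebraStruct.comul).rTensor A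
          (CoalgebraStruct.comul (R := k) x) := by
      intro p q
      simp only [F, LinearMap.coe_comp, Function.comp_apply, LinearEquiv.coe_coe,
        Coalgebra.coassoc_symm_apply, LinearMap.rTensor_comp]
    have hl : ∀ z : A ⊗[k] A, S' z =
        F LinearMap.id (antipode k) ((CoalgebraStruct.comul (R := k) (A := A)).lTensor A z) := by
      intro z
      induction z using TensorProduct.induction_on with
      | zero => simp
      | add p q hp hq => simp only [map_add, hp, hq]
      | tmul p q =>
        simp only [S', Algebra.TensorProduct.lift_tmul, LinearMap.lTensor_tmul, AlgHom.coe_comp,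
          Function.comp_apply, Bialgebra.comulAlgHom_apply]
        generalize CoalgebraStruct.comul (R := k) q = w
        induction w using TensorProduct.induction_on with
        | zero => simp
        | add r s hr hs => simp only [map_add, tmul_add, mul_add, hr, hs]
        | tmul r s => simp [F, Algebra.ofId_apply]
    have hr : ∀ z : A ⊗[k] A, shear k A
        (Algebra.TensorProduct.map (HopfAlgebra.antipodeAlgHom k A) (AlgHom.id k A) z) =
        F (antipode k) LinearMap.id ((CoalgebraStruct.comul (R := k) (A := A)).lTensor A z) := by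
      intro z
      induction z using TensorProduct.induction_on with
      | zero => simp
      | add p q hp hq => simp only [map_add, hp, hq]
      | tmul p q =>
        simp only [shear, Algebra.TensorProduct.map_tmul, Algebra.TensorProduct.lift_tmul,
          LinearMap.lTensor_tmul, Bialgebra.comulAlgHom_apply, AlgHom.coe_id, id_eq]
        generalize CoalgebraStruct.comul (R := k) q = w
        induction w using TensorProduct.induction_on with
        | zero => simp
        | add r s hr hs => simp only [map_add, tmul_add, mul_add, hr, hs]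
        | tmul r s => simp [F, Algebra.ofId_apply]
    constructor
    · rw [hl, hF, show TensorProduct.map LinearMap.id (antipode k (A := A)) =
        (antipode k).lTensor A from rfl, HopfAlgebra.mul_antipode_lTensor_comul,
        LinearMap.rTensor_comp_apply, Coalgebra.rTensor_counit_comul]
      simp
    · rw [hr, hF, show TensorProduct.map (antipode k (A := A)) LinearMap.id =
        (antipode k).rTensor A from rfl, HopfAlgebra.mul_antipode_rTensor_comul,
        LinearMap.rTensor_comp_apply, Coalgebra.rTensor_counit_comul]
      simp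
  have hl : S'.comp (shear k A) = AlgHom.id A _ :=
    Algebra.TensorProduct.ext (by ext) (by
      ext x
      simpa [shear_one_tmul] using (main x).1)
  have hr : (shear k A).comp S' = AlgHom.id A _ :=
    Algebra.TensorProduct.ext (by ext) (by
      ext x
      simpa [S', Algebra.TensorProduct.lift_tmul, ← Algebra.TensorProduct.one_def] using (main x).2)
  exact ⟨Function.LeftInverse.injective fun z => AlgHom.congr_fun hl z,
    Function.RightInverse.surjective fun z => AlgHom.congr_fun hr z⟩

/-- Contraction of the second factor by the trace. -/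
noncomputable def contract : A ⊗[k] A →ₗ[k] A :=
  (TensorProduct.rid k A).toLinearMap ∘ₗ (Algebra.trace k A).lTensor A

lemma trace_eq_contract (w : A ⊗[k] A) : Algebra.trace A (A ⊗[k] A) w = contract k A w := by
  induction w using TensorProduct.induction_on with
  | zero => simp
  | add p q hp hq => simp only [map_add, hp, hq]
  | tmul a b =>
    have e : a ⊗ₜ[k] b = a • ((1 : A) ⊗ₜ[k] b) := by simp [TensorProduct.smul_tmul']
    rw [e, map_smul]
    have h1 : Algebra.lmul A (A ⊗[k] A) ((1 : A) ⊗ₜ[k] b) = (Algebra.lmul k A b).baseChange A := by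
      refine TensorProduct.AlgebraTensorModule.curry_injective ?_
      ext y
      simp
    rw [Algebra.trace_apply, h1, LinearMap.trace_baseChange, ← Algebra.trace_apply]
    simp [contract, Algebra.smul_def, mul_comm]

/-- The trace form of a finite Hopf algebra of invertible dimension is nondegenerate. -/
theorem trace_nondegenerate (hn : (Module.finrank k A : k) ≠ 0) (x : A)
    (hx : ∀ y, Algebra.trace k A (x * y) = 0) : x = 0 := by
  classical
  set τ := Algebra.trace k A
  have hτ1 : τ 1 ≠ 0 := by
    rw [show (1 : A) = algebraMap k A 1 from (map_one _).symm]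
    simp only [τ]
    rw [Algebra.trace_algebraMap, nsmul_one]
    exact hn
  let e := AlgEquiv.ofBijective (shear k A) (shear_bijective k A)
  let b := Module.finBasis k A
  -- the kernel of the trace form is a subcomodule
  have key : ∀ z : A, (∀ y, τ (z * y) = 0) → ∃ c : Fin (Module.finrank k A) → A,
      CoalgebraStruct.comul (R := k) z = ∑ i, b i ⊗ₜ[k] c i ∧ ∀ i y, τ (c i * y) = 0 := by
    intro z hz
    have hzero : ∀ w : A ⊗[k] A,
        Algebra.trace A (A ⊗[k] A) (((1 : A) ⊗ₜ[k] z) * w) = 0 := fun w => by
      induction w using TensorProduct.induction_on with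
      | zero => simp
      | add p q hp hq => simp only [mul_add, map_add, hp, hq, add_zero]
      | tmul a c => simp [trace_eq_contract, contract, show Algebra.trace k A (z * c) = 0 from hz c]
    obtain ⟨d, hd⟩ : ∃ d : _ →₀ A,
        d = TensorProduct.equivFinsuppOfBasisLeft b (CoalgebraStruct.comul (R := k) z) := ⟨_, rfl⟩
    have hzd : CoalgebraStruct.comul (R := k) z = d.sum fun i m => b i ⊗ₜ[k] m := by
      rw [hd, ← TensorProduct.equivFinsuppOfBasisLeft_symm_apply, LinearEquiv.symm_apply_apply]
    rw [Finsupp.sum_fintype _ _ (fun _ => by simp)] at hzd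
    refine ⟨d, hzd, fun i y => ?_⟩
    obtain ⟨w, hw⟩ := e.surjective ((1 : A) ⊗ₜ[k] y)
    have h : contract k A (CoalgebraStruct.comul (R := k) z * (1 : A) ⊗ₜ[k] y) = 0 := by
      rw [← shear_one_tmul, ← hw, show shear k A (1 ⊗ₜ z) = e (1 ⊗ₜ z) from rfl, ← map_mul,
        ← trace_eq_contract, Algebra.trace_eq_of_algEquiv, hzero]
    rw [hzd, Finset.sum_mul, map_sum] at h
    have h' : ∑ j, τ (d j * y) • b j = 0 := by
      refine Eq.trans ?_ h
      refine Finset.sum_congr rfl fun j _ => ?_
      simp [contract, τ]
    exact Fintype.linearIndependent_iff.mp b.linearIndependent _ h' i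
  have hε : ∀ z : A, (∀ y, τ (z * y) = 0) → CoalgebraStruct.counit (R := k) z = 0 := by
    intro z hz
    obtain ⟨c, hc, hcN⟩ := key z hz
    have h : τ (algebraMap k A (CoalgebraStruct.counit (R := k) z) * 1) = 0 := by
      rw [← HopfAlgebra.mul_antipode_rTensor_comul_apply (R := k) z, hc]
      simp only [map_sum, LinearMap.rTensor_tmul, LinearMap.mul'_apply, Finset.sum_mul]
      refine Finset.sum_eq_zero fun i _ => ?_
      rw [mul_one, mul_comm]
      exact hcN i _
    rw [mul_one, show algebraMap k A (CoalgebraStruct.counit (R := k) z) =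
      CoalgebraStruct.counit (R := k) z • (1 : A) from Algebra.algebraMap_eq_smul_one _,
      map_smul, smul_eq_mul] at h
    exact (mul_eq_zero.mp h).resolve_right hτ1
  obtain ⟨c, hc, hcN⟩ := key x hx
  have hx' := Coalgebra.lTensor_counit_comul (R := k) x
  rw [hc, map_sum] at hx'
  have : x ⊗ₜ[k] (1 : k) = 0 := by
    rw [← hx']
    exact Finset.sum_eq_zero fun i _ => by simp [hε _ (hcN i)]
  simpa using congrArg (TensorProduct.rid k A) this

/-- A finite Hopf algebra of invertible dimension over a field is unramified. -/
theorem formallyUnramified (hn : (Module.finrank k A : k) ≠ 0) : Algebra.FormallyUnramified k A :=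
  ⟨formallyUnramified_of_trace k A (trace_nondegenerate k A hn)⟩

end Groth.Agent.H8TraceEtale
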