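import Mathlib
import Groth.Agent.Lib.H8TraceEtale

/-!
# Freeness over an infinitesimal coideal subalgebra
-/

set_option autoImplicit false

universe u v

open TensorProduct

namespace Groth.Agent.H8Free

variable {k : Type u} [Field k] {A : Type v} [CommRing A] [HopfAlgebra k A]

/-- The shear map is surjective (no finiteness needed). -/
lemma exists_shear_eq (z : A ⊗[k] A) :
    ∃ w : A ⊗[k] A, Algebra.TensorProduct.lift (Algebra.ofId A (A ⊗[k] A))
      (Bialgebra.comulAlgHom k A) (fun _ _ => mul_comm _ _) w = z := by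
  induction z using TensorProduct.induction_on with
  | zero => exact ⟨0, map_zero _⟩
  | add p q hp hq =>
    obtain ⟨w, hw⟩ := hp
    obtain ⟨w', hw'⟩ := hq
    exact ⟨w + w', by rw [map_add, hw, hw']⟩
  | tmul a x =>
    refine ⟨(a ⊗ₜ[k] (1 : A)) * Algebra.TensorProduct.map (HopfAlgebra.antipodeAlgHom k A)
      (AlgHom.id k A) (CoalgebraStruct.comul (R := k) x), ?_⟩
    let F : A ⊗[k] (A ⊗[k] A) →ₗ[k] A ⊗[k] A :=
      (LinearMap.mul' k A ∘ₗ TensorProduct.map (HopfAlgebra.antipode k) LinearMap.id).rTensor A ∘ₗ
        (TensorProduct.assoc k A A A).symm.toLinearMap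
    have hr : ∀ z : A ⊗[k] A, Algebra.TensorProduct.lift (Algebra.ofId A (A ⊗[k] A))
        (Bialgebra.comulAlgHom k A) (fun _ _ => mul_comm _ _)
          (Algebra.TensorProduct.map (HopfAlgebra.antipodeAlgHom k A) (AlgHom.id k A) z) =
        F ((CoalgebraStruct.comul (R := k) (A := A)).lTensor A z) := by
      intro z
      induction z using TensorProduct.induction_on with
      | zero => simp
      | add p q hp hq => simp only [map_add, hp, hq]
      | tmul p q =>
        simp only [Algebra.TensorProduct.map_tmul, Algebra.TensorProduct.lift_tmul,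
          LinearMap.lTensor_tmul, Bialgebra.comulAlgHom_apply, AlgHom.coe_id, id_eq]
        generalize CoalgebraStruct.comul (R := k) q = w
        induction w using TensorProduct.induction_on with
        | zero => simp
        | add r s hr hs => simp only [map_add, tmul_add, mul_add, hr, hs]
        | tmul r s => simp [F, Algebra.ofId_apply]
    rw [map_mul, hr]
    simp only [F, LinearMap.coe_comp, Function.comp_apply, LinearEquiv.coe_coe,
      Coalgebra.coassoc_symm_apply]
    rw [← LinearMap.rTensor_comp_apply, LinearMap.comp_assoc,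
      show TensorProduct.map (HopfAlgebra.antipode k (A := A)) LinearMap.id =
        (HopfAlgebra.antipode k).rTensor A from rfl,
      HopfAlgebra.mul_antipode_rTensor_comul, LinearMap.rTensor_comp_apply,
      Coalgebra.rTensor_counit_comul]
    simp [Algebra.ofId_apply]

lemma matrix_comm {R : Type*} [CommRing R] {n : ℕ} (M N : Matrix (Fin n) (Fin n) R)
    (h : M * N = 1) : N * M = 1 :=
  (Matrix.mul_eq_one_comm_of_card_eq (Fin n) (Fin n) R rfl).mp h

lemma vec_zero {R : Type*} [CommRing R] {n : ℕ} (v : Fin n → R) (M N : Matrix (Fin n) (Fin n) R)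
    (h : Matrix.vecMul v M = 0) (h' : M * N = 1) : v = 0 := by
  rw [← Matrix.vecMul_one v, ← h', ← Matrix.vecMul_vecMul, h, Matrix.zero_vecMul]

variable (B : Subalgebra k A)

/-- The augmentation ideal of a subalgebra. -/
noncomputable def aug : Ideal B :=
  RingHom.ker ((Bialgebra.counitAlgHom k A).comp B.val)

set_option backward.isDefEq.respectTransparency false in
/-- A Hopf algebra is free over a left coideal subalgebra with nilpotent augmentation ideal. -/
theorem exists_basis (hΔ : ∀ b ∈ B, CoalgebraStruct.comul (R := k) b ∈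
      (Algebra.TensorProduct.map (AlgHom.id k A) B.val).range)
    (hnil : IsNilpotent (aug B))
    [Module.Finite k (A ⧸ (aug B).map (algebraMap B A))] :
    Nonempty (Module.Basis (Fin (Module.finrank k (A ⧸ (aug B).map (algebraMap B A)))) B A) := by
  classical
  set P := aug B with hP
  set J := P.map (algebraMap B A) with hJ
  set r := Module.finrank k (A ⧸ J)
  let bq := Module.finBasis k (A ⧸ J)
  choose e he using fun i : Fin r => Ideal.Quotient.mk_surjective (bq i)
  have hq : ∀ (b : B) (i : Fin r),
      Ideal.Quotient.mk J (b • e i) = (Bialgebra.counitAlgHom k A (b : A)) • bq i := by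
    intro b i
    rw [← he i]
    show Ideal.Quotient.mk J ((b : A) * e i) =
      (Ideal.Quotient.mkₐ k J) ((Bialgebra.counitAlgHom k A (b : A)) • e i)
    rw [Ideal.Quotient.mkₐ_eq_mk, Ideal.Quotient.eq, Algebra.smul_def, ← sub_mul]
    refine Ideal.mul_mem_right _ _ ?_
    have : b - algebraMap k B (Bialgebra.counitAlgHom k A (b : A)) ∈ P := by
      rw [hP, aug, RingHom.mem_ker, map_sub, AlgHom.commutes]
      simp
    exact Ideal.mem_map_of_mem (algebraMap B A) this
  -- generation
  have hspan : ⊤ ≤ Submodule.span B (Set.range e) := by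
    set N := Submodule.span B (Set.range e)
    have h1 : (⊤ : Submodule B A) ≤ N ⊔ P • ⊤ := by
      intro a _
      have ha : ∀ c : Fin r → k, ∑ i, c i • e i ∈ N := fun c =>
        Submodule.sum_mem _ fun i _ => Submodule.smul_of_tower_mem _ _ (Submodule.subset_span ⟨i, rfl⟩)
      refine Submodule.mem_sup.mpr ⟨∑ i, bq.repr (Ideal.Quotient.mk J a) i • e i, ha _,
        a - ∑ i, bq.repr (Ideal.Quotient.mk J a) i • e i, ?_, by abel⟩
      rw [Ideal.smul_top_eq_map, Submodule.restrictScalars_mem, ← hJ,
        ← Ideal.Quotient.eq_zero_iff_mem, map_sub, map_sum, sub_eq_zero]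
      conv_lhs => rw [← bq.sum_repr (Ideal.Quotient.mk J a)]
      refine Finset.sum_congr rfl fun i _ => ?_
      rw [← he i]
      exact (map_smul (Ideal.Quotient.mkₐ k J) _ _).symm
    have h2 : ∀ n, (⊤ : Submodule B A) ≤ N ⊔ (P ^ n) • ⊤ := by
      intro n
      induction n with
      | zero => rw [pow_zero, one_smul]; exact le_sup_right
      | succ n ih =>
        refine ih.trans (sup_le le_sup_left ?_)
        calc (P ^ n) • (⊤ : Submodule B A) ≤ (P ^ n) • (N ⊔ P • ⊤) := Submodule.smul_mono le_rfl h1
          _ ≤ N ⊔ (P ^ (n + 1)) • ⊤ := by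
            rw [Submodule.smul_sup, ← Submodule.smul_assoc, smul_eq_mul, ← pow_succ]
            exact sup_le_sup_right Submodule.smul_le_right _
    obtain ⟨n, hn⟩ := hnil
    have := h2 n
    rwa [hn, Submodule.zero_eq_bot, Submodule.bot_smul, sup_bot_eq] at this
  -- relations
  let π := Fintype.linearCombination B e
  let K := LinearMap.ker π
  let I : Ideal B := Ideal.span {x | ∃ c ∈ K, ∃ i, x = c i}
  have hIP : I ≤ P := by
    refine Ideal.span_le.mpr ?_
    rintro _ ⟨c, hc, i, rfl⟩
    have h0 : ∑ j, c j • e j = 0 := by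
      simpa [π, Fintype.linearCombination_apply] using LinearMap.mem_ker.mp hc
    have h1 := congrArg (Ideal.Quotient.mk J) h0
    rw [map_sum, map_zero] at h1
    simp only [hq] at h1
    show c i ∈ P
    rw [hP, aug, RingHom.mem_ker]
    exact Fintype.linearIndependent_iff.mp bq.linearIndependent _ h1 i
  let ν : A ⊗[k] B →ₐ[k] A ⊗[k] A := Algebra.TensorProduct.map (AlgHom.id k A) B.val
  have hν : Function.Injective ν :=
    Module.Flat.lTensor_preserves_injective_linearMap (M := A) B.val.toLinearMap
      Subtype.val_injective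
  let φ : B →ₐ[k] A ⊗[k] B := (AlgEquiv.ofInjective ν hν).symm.toAlgHom.comp
    (((Bialgebra.comulAlgHom k A).comp B.val).codRestrict ν.range fun b => hΔ _ b.2)
  have hφ : ∀ b : B, ν (φ b) = CoalgebraStruct.comul (R := k) (b : A) := fun b => by
    simp only [φ, AlgHom.coe_comp, Function.comp_apply]
    rw [← AlgEquiv.ofInjective_apply ν hν]
    exact congrArg Subtype.val ((AlgEquiv.ofInjective ν hν).apply_symm_apply _)
  -- two generating families of `A ⊗ A`
  let f : Fin r → A ⊗[k] A := fun i => (1 : A) ⊗ₜ[k] e i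
  let g : Fin r → A ⊗[k] A := fun i => CoalgebraStruct.comul (R := k) (e i)
  have hgen : ∀ x : A, ∃ c : Fin r → B, ∑ j, (c j : A) * e j = x := fun x => by
    obtain ⟨c, hc⟩ := (Submodule.mem_span_range_iff_exists_fun B).mp (hspan (x := x) trivial)
    exact ⟨c, hc⟩
  have hf : ∀ z : A ⊗[k] A, ∃ d : Fin r → A ⊗[k] B, ∑ j, ν (d j) * f j = z := by
    intro z
    induction z using TensorProduct.induction_on with
    | zero => exact ⟨0, by simp⟩
    | add p q hp hq =>
      obtain ⟨d, hd⟩ := hp
      obtain ⟨d', hd'⟩ := hq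
      exact ⟨d + d', by simp [add_mul, Finset.sum_add_distrib, hd, hd']⟩
    | tmul a x =>
      obtain ⟨c, hc⟩ := hgen x
      refine ⟨fun j => a ⊗ₜ[k] c j, ?_⟩
      simp only [ν, f, Algebra.TensorProduct.map_tmul, Algebra.TensorProduct.tmul_mul_tmul]
      simp [← TensorProduct.tmul_sum, hc]
  have hg : ∀ z : A ⊗[k] A, ∃ d : Fin r → A ⊗[k] B, ∑ j, ν (d j) * g j = z := by
    intro z
    obtain ⟨w, rfl⟩ := exists_shear_eq z
    induction w using TensorProduct.induction_on with
    | zero => exact ⟨0, by simp⟩
    | add p q hp hq =>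
      obtain ⟨d, hd⟩ := hp
      obtain ⟨d', hd'⟩ := hq
      exact ⟨d + d', by simp [add_mul, Finset.sum_add_distrib, hd, hd']⟩
    | tmul a x =>
      obtain ⟨c, hc⟩ := hgen x
      refine ⟨fun j => (a ⊗ₜ[k] (1 : B)) * φ (c j), ?_⟩
      rw [Algebra.TensorProduct.lift_tmul, Bialgebra.comulAlgHom_apply, ← hc]
      simp only [map_sum, map_mul, hφ, Bialgebra.comul_mul, Finset.mul_sum, g]
      refine Finset.sum_congr rfl fun j _ => ?_
      simp [ν, Algebra.ofId_apply, mul_assoc]
  let I' : Ideal (A ⊗[k] B) :=
    I.map (Algebra.TensorProduct.includeRight : B →ₐ[k] A ⊗[k] B)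
  have hrel : ∀ d : Fin r → A ⊗[k] B, ∑ j, ν (d j) * f j = 0 → ∀ j, d j ∈ I' := by
    intro d hd
    let D : A ⊗[k] (Fin r → B) := ∑ j, (LinearMap.single k (fun _ => B) j).lTensor A (d j)
    have hD : ∀ j, (LinearMap.proj (φ := fun _ : Fin r => B) (R := k) j).lTensor A D = d j := by
      intro j
      simp only [D, map_sum, ← LinearMap.lTensor_comp_apply]
      rw [Finset.sum_eq_single j]
      · rw [LinearMap.proj_comp_single_same, LinearMap.lTensor_id]; rfl
      · intro i _ hi
        rw [LinearMap.proj_comp_single_ne k (fun _ => B) j i hi.symm]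
        simp
      · simp
    have hπD : ∀ j (w : A ⊗[k] B),
        (π.restrictScalars k).lTensor A ((LinearMap.single k (fun _ => B) j).lTensor A w) =
          ν w * f j := by
      intro j w
      induction w using TensorProduct.induction_on with
      | zero => simp
      | add p q hp hq => simp only [map_add, add_mul, hp, hq]
      | tmul a b =>
        simp [ν, f, π, Fintype.linearCombination_apply_single, Subalgebra.smul_def]
    have hπ0 : (π.restrictScalars k).lTensor A D = 0 := by
      simp only [D, map_sum, hπD, hd]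
    have hex : Function.Exact ((LinearMap.ker (π.restrictScalars k)).subtype.lTensor A)
        ((π.restrictScalars k).lTensor A) :=
      Module.Flat.lTensor_exact A (LinearMap.exact_subtype_ker_map _)
    obtain ⟨w, hw⟩ := (hex D).mp hπ0
    intro j
    rw [← hD j, ← hw]
    clear hw hex
    induction w using TensorProduct.induction_on with
    | zero => simp
    | add p q hp hq => simp only [map_add]; exact add_mem hp hq
    | tmul a c =>
      simp only [LinearMap.lTensor_tmul]
      have : (c : Fin r → B) j ∈ I := Ideal.subset_span ⟨c.1, c.2, j, rfl⟩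
      have h := Ideal.mul_mem_left I' (a ⊗ₜ[k] (1 : B))
        (Ideal.mem_map_of_mem (Algebra.TensorProduct.includeRight : B →ₐ[k] A ⊗[k] B) this)
      simpa using h
  choose T hT using fun i => hf (g i)
  choose U hU using fun i => hg (f i)
  let q := Ideal.Quotient.mk I'
  let Tq : Matrix (Fin r) (Fin r) ((A ⊗[k] B) ⧸ I') := fun i j => q (T i j)
  let Uq : Matrix (Fin r) (Fin r) ((A ⊗[k] B) ⧸ I') := fun i j => q (U i j)
  have hUT : Uq * Tq = 1 := by
    refine Matrix.ext fun i l => ?_
    have h0 : ∑ l', ν ((∑ j, U i j * T j l') - if i = l' then 1 else 0) * f l' = 0 := by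
      simp only [map_sub, sub_mul, Finset.sum_sub_distrib, map_sum, Finset.sum_mul, map_mul]
      rw [Finset.sum_comm, sub_eq_zero]
      simp only [mul_assoc, ← Finset.mul_sum, hT, hU]
      simp [apply_ite ν, ite_mul]
    have h := Ideal.Quotient.eq_zero_iff_mem.mpr (hrel _ h0 l)
    rw [map_sub, map_sum, sub_eq_zero] at h
    simp only [map_mul, apply_ite q, map_one, map_zero] at h
    rw [Matrix.mul_apply, Matrix.one_apply]
    convert h using 2 <;> simp [q, Uq, Tq]
  have hTU : Tq * Uq = 1 := matrix_comm Uq Tq hUT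
  have hcoef : ∀ c ∈ K, ∀ i, φ (c i) ∈ I' := by
    intro c hc i
    have h0 : ∑ j, (c j : A) * e j = 0 := by
      simpa [π, Fintype.linearCombination_apply, Subalgebra.smul_def] using LinearMap.mem_ker.mp hc
    have h1 : ∑ j, ν (φ (c j)) * g j = 0 := by
      simp only [hφ, g, ← Bialgebra.comul_mul, ← map_sum, h0, map_zero]
    have h2 : ∑ l, ν (∑ j, φ (c j) * T j l) * f l = 0 := by
      simp only [map_sum, Finset.sum_mul, map_mul]
      rw [Finset.sum_comm]
      simp only [mul_assoc, ← Finset.mul_sum, hT]
      exact h1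
    have h3 : Matrix.vecMul (fun j => q (φ (c j))) Tq = 0 := by
      funext l
      have := Ideal.Quotient.eq_zero_iff_mem.mpr (hrel _ h2 l)
      simpa [Matrix.vecMul, dotProduct, Tq, q] using this
    exact Ideal.Quotient.eq_zero_iff_mem.mp (congrFun (vec_zero _ Tq Uq h3 hTU) i)
  have hI' : I ≤ I'.comap φ := by
    refine Ideal.span_le.mpr ?_
    rintro _ ⟨c, hc, i, rfl⟩
    exact hcoef c hc i
  let α : A ⊗[k] B →ₐ[k] A := (Algebra.TensorProduct.rid k k A).toAlgHom.comp
    (Algebra.TensorProduct.map (AlgHom.id k A) ((Bialgebra.counitAlgHom k A).comp B.val))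
  have hαI : I' ≤ RingHom.ker α := by
    refine Ideal.map_le_iff_le_comap.mpr fun x hx => ?_
    have hx' : (Bialgebra.counitAlgHom k A) (x : A) = 0 := hIP hx
    rw [Bialgebra.counitAlgHom_apply] at hx'
    rw [Ideal.mem_comap, RingHom.mem_ker]
    show α ((1 : A) ⊗ₜ[k] x) = 0
    simp [α, hx']
  have hαν : ∀ w : A ⊗[k] B, α w =
      TensorProduct.rid k A ((CoalgebraStruct.counit (R := k) (A := A)).lTensor A (ν w)) := by
    intro w
    induction w using TensorProduct.induction_on with
    | zero => simp
    | add p q hp hq => simp only [map_add, hp, hq]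
    | tmul a b => simp [α, ν]
  have hI0 : I = ⊥ := by
    refine eq_bot_iff.mpr fun x hx => ?_
    have h := hαI (hI' hx)
    rw [RingHom.mem_ker, hαν, hφ, Coalgebra.lTensor_counit_comul, TensorProduct.rid_tmul,
      one_smul] at h
    exact Subtype.ext h
  have hli : LinearIndependent B e := by
    rw [Fintype.linearIndependent_iff]
    intro c hc i
    have : c i ∈ I := Ideal.subset_span ⟨c, LinearMap.mem_ker.mpr
      (by simpa [π, Fintype.linearCombination_apply] using hc), i, rfl⟩
    rwa [hI0, Ideal.mem_bot] at this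
  exact ⟨Module.Basis.mk hli hspan⟩

end Groth.Agent.H8Free
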