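import Mathlib

/-!
# Finite Hopf algebras of height one
-/

set_option autoImplicit false

universe u v

open TensorProduct

namespace Groth.Agent.H8HeightOne

variable (k : Type u) [Field k] (A : Type v) [CommRing A] [HopfAlgebra k A]

/-- The augmentation ideal. -/
noncomputable abbrev M : Ideal A := RingHom.ker (Bialgebra.counitAlgHom k A)

lemma sub_counit_mem (a : A) : a - algebraMap k A (Bialgebra.counitAlgHom k A a) ∈ M k A := by
  rw [M, RingHom.mem_ker, map_sub, AlgHom.commutes]
  simp

/-- Projection to the augmentation ideal followed by the cotangent map. -/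
noncomputable def toCot : A →ₗ[k] (M k A).Cotangent :=
  ((M k A).toCotangent.restrictScalars k) ∘ₗ
    { toFun := fun a => ⟨a - algebraMap k A (Bialgebra.counitAlgHom k A a), sub_counit_mem k A a⟩
      map_add' := fun a b => Subtype.ext (by
        show a + b - algebraMap k A _ = (a - _) + (b - _)
        rw [map_add, map_add]; abel)
      map_smul' := fun c a => Subtype.ext (by
        show c • a - algebraMap k A _ = c • (a - _)
        rw [smul_sub, map_smul, smul_eq_mul, map_mul, ← Algebra.smul_def]) }

lemma toCot_of_mem {a : A} (h : a ∈ M k A) : toCot k A a = (M k A).toCotangent ⟨a, h⟩ := by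
  have h0 : Bialgebra.counitAlgHom k A a = 0 := h
  show (M k A).toCotangent _ = _
  congr 1
  refine Subtype.ext ?_
  show a - algebraMap k A (Bialgebra.counitAlgHom k A a) = a
  rw [h0, map_zero, sub_zero]

lemma toCot_mul (a b : A) : toCot k A (a * b) =
    Bialgebra.counitAlgHom k A a • toCot k A b + Bialgebra.counitAlgHom k A b • toCot k A a := by
  set e := Bialgebra.counitAlgHom k A
  have ha : a = algebraMap k A (e a) + (a - algebraMap k A (e a)) := by abel
  have hb : b = algebraMap k A (e b) + (b - algebraMap k A (e b)) := by abel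
  set a' := a - algebraMap k A (e a) with ha'
  set b' := b - algebraMap k A (e b) with hb'
  have hd : a * b - algebraMap k A (e (a * b)) - (e a • b' + e b • a') = a' * b' := by
    rw [map_mul, map_mul, Algebra.smul_def, Algebra.smul_def, ha', hb']
    ring
  have h2 : (M k A).toCotangent ⟨_, sub_counit_mem k A (a * b)⟩ =
      e a • (M k A).toCotangent ⟨b', sub_counit_mem k A b⟩ +
        e b • (M k A).toCotangent ⟨a', sub_counit_mem k A a⟩ := by
    rw [← LinearMap.map_smul_of_tower, ← LinearMap.map_smul_of_tower, ← map_add,
      Ideal.toCotangent_eq]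
    show a * b - algebraMap k A (e (a * b)) - (e a • b' + e b • a') ∈ M k A ^ 2
    rw [hd, pow_two]
    exact Ideal.mul_mem_mul (sub_counit_mem k A a) (sub_counit_mem k A b)
  exact h2

/-- The counit on the second factor. -/
noncomputable def augR : A ⊗[k] A →ₗ[k] A :=
  (TensorProduct.rid k A).toLinearMap ∘ₗ (CoalgebraStruct.counit (R := k) (A := A)).lTensor A

/-- A functional on the second factor. -/
noncomputable def contrR (δ : A →ₗ[k] k) : A ⊗[k] A →ₗ[k] A :=
  (TensorProduct.rid k A).toLinearMap ∘ₗ δ.lTensor A

lemma contrR_mul (δ : A →ₗ[k] k)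
    (hδ : ∀ a b, δ (a * b) = Bialgebra.counitAlgHom k A a * δ b + Bialgebra.counitAlgHom k A b * δ a)
    (z w : A ⊗[k] A) :
    contrR k A δ (z * w) = augR k A z * contrR k A δ w + augR k A w * contrR k A δ z := by
  induction z using TensorProduct.induction_on with
  | zero => simp
  | add p q hp hq => simp only [add_mul, map_add, hp, hq, mul_add]; ring
  | tmul a b =>
    induction w using TensorProduct.induction_on with
    | zero => simp
    | add p q hp hq => simp only [mul_add, map_add, hp, hq, add_mul]; ring
    | tmul c d =>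
      simp only [contrR, augR, Algebra.TensorProduct.tmul_mul_tmul, LinearMap.coe_comp,
        LinearEquiv.coe_coe, Function.comp_apply, LinearMap.lTensor_tmul, TensorProduct.rid_tmul, hδ,
        Bialgebra.counitAlgHom_apply, smul_mul_smul_comm, add_smul]
      rw [mul_comm c a]

/-- The invariant derivation attached to a tangent vector. -/
noncomputable def D (δ : A →ₗ[k] k)
    (hδ : ∀ a b, δ (a * b) = Bialgebra.counitAlgHom k A a * δ b + Bialgebra.counitAlgHom k A b * δ a) :
    Derivation k A A :=
  Derivation.mk' (contrR k A δ ∘ₗ CoalgebraStruct.comul (R := k)) fun a b => by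
    simp only [LinearMap.coe_comp, Function.comp_apply, Bialgebra.comul_mul, contrR_mul k A δ hδ]
    simp [augR, Coalgebra.lTensor_counit_comul]

lemma counit_D (δ : A →ₗ[k] k)
    (hδ : ∀ a b, δ (a * b) = Bialgebra.counitAlgHom k A a * δ b + Bialgebra.counitAlgHom k A b * δ a)
    (a : A) : Bialgebra.counitAlgHom k A (D k A δ hδ a) = δ a := by
  have h : ∀ z : A ⊗[k] A, Bialgebra.counitAlgHom k A (contrR k A δ z) =
      δ (TensorProduct.lid k A ((CoalgebraStruct.counit (R := k) (A := A)).rTensor A z)) := by
    intro z
    induction z using TensorProduct.induction_on with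
    | zero => simp
    | add p q hp hq => simp only [map_add, hp, hq]
    | tmul b c => simp [contrR, mul_comm]
  show Bialgebra.counitAlgHom k A (contrR k A δ (CoalgebraStruct.comul (R := k) a)) = δ a
  rw [h, Coalgebra.rTensor_counit_comul]
  simp

lemma derivation_pow_le (d : Derivation k A A) (I : Ideal A) :
    ∀ n, ∀ a ∈ I ^ (n + 1), d a ∈ I ^ n := by
  intro n
  induction n with
  | zero => intro a _; simp
  | succ n ih =>
    intro a ha
    rw [pow_succ] at ha
    refine Submodule.mul_induction_on ha ?_ fun x y hx hy => by rw [map_add]; exact add_mem hx hy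
    intro r hr s hs
    rw [d.leibniz]
    refine add_mem (Ideal.mul_mem_right _ _ hr) ?_
    rw [smul_eq_mul, pow_succ, mul_comm s]
    exact Ideal.mul_mem_mul (ih r hr) hs

open MvPolynomial in
lemma aeval_mem_pow {σ : Type*} (I : Ideal A) (x : σ → A) (hx : ∀ i, x i ∈ I)
    {n : ℕ} (P : MvPolynomial σ k) (hP : ∀ a ∈ P.support, n ≤ a.sum fun _ e => e) :
    aeval x P ∈ I ^ n := by
  rw [aeval_def, eval₂_eq]
  refine Ideal.sum_mem _ fun a ha => Ideal.mul_mem_left _ _ (Ideal.pow_le_pow_right (hP a ha) ?_)
  rw [Finsupp.sum, ← Finset.prod_pow_eq_pow_sum]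
  exact Ideal.prod_mem_prod fun i _ => Ideal.pow_mem_pow (hx i) _

variable (p : ℕ) [Fact p.Prime] [CharP k p]

open MvPolynomial in
/-- Monomials with exponents `< p` in lifts of a basis of the cotangent space are independent. -/
lemma eq_zero_of_aeval_eq_zero {d : ℕ} (b : Module.Basis (Fin d) k (M k A).Cotangent)
    (x : Fin d → A) (hxM : ∀ i, x i ∈ M k A) (hx : ∀ i, toCot k A (x i) = b i)
    (P : MvPolynomial (Fin d) k) (hP : ∀ a ∈ P.support, ∀ i, a i < p) (h0 : aeval x P = 0) :
    P = 0 := by
  classical
  let δ : Fin d → A →ₗ[k] k := fun i => b.coord i ∘ₗ toCot k A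
  have hδ : ∀ i a c, δ i (a * c) =
      Bialgebra.counitAlgHom k A a * δ i c + Bialgebra.counitAlgHom k A c * δ i a := by
    intro i a c
    simp only [δ, LinearMap.coe_comp, Function.comp_apply, toCot_mul, map_add, map_smul, smul_eq_mul]
  let Dd : Fin d → Derivation k A A := fun i => D k A (δ i) (hδ i)
  have hDx : ∀ i j, Dd i (x j) - (if i = j then 1 else 0) ∈ M k A := by
    intro i j
    rw [M, RingHom.mem_ker, map_sub, counit_D]
    simp [δ, hx, Finsupp.single_apply, eq_comm, apply_ite (Bialgebra.counitAlgHom k A)]
  have hchain : ∀ i (Q : MvPolynomial (Fin d) k),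
      Dd i (aeval x Q) = ∑ j, aeval x (pderiv j Q) * Dd i (x j) := by
    intro i Q
    induction Q using MvPolynomial.induction_on with
    | C c => simp
    | add q r hq hr => simp only [map_add, hq, hr, add_mul, Finset.sum_add_distrib]
    | mul_X q m hq =>
      simp only [map_mul, aeval_X, Derivation.leibniz, smul_eq_mul, pderiv_X, hq, map_add, add_mul,
        Finset.sum_add_distrib, Finset.mul_sum]
      congr 1
      · rw [Finset.sum_eq_single m]
        · simp
        · intro j _ hj; simp [hj]
        · simp
      · refine Finset.sum_congr rfl fun j _ => by ring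
  have key : ∀ n, ∀ Q : MvPolynomial (Fin d) k,
      (∀ a ∈ Q.support, (∀ i, a i < p) ∧ (a.sum fun _ e => e) = n) →
      aeval x Q ∈ M k A ^ (n + 1) → Q = 0 := by
    intro n
    induction n with
    | zero =>
      intro Q hQ h
      have hC : Q = C (coeff 0 Q) := by
        refine MvPolynomial.ext _ _ fun a => ?_
        rw [coeff_C]
        split_ifs with ha
        · rw [← ha]
        · by_contra hne
          have := (hQ a (mem_support_iff.mpr hne)).2
          refine ha (Finsupp.ext fun i => ?_).symm
          rw [Finsupp.sum, Finset.sum_eq_zero_iff] at this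
          by_contra hi
          exact hi (this i (Finsupp.mem_support_iff.mpr hi))
      rw [hC, aeval_C, zero_add, pow_one, M, RingHom.mem_ker, AlgHom.commutes] at h
      rw [hC, show coeff 0 Q = 0 from h, map_zero]
    | succ n ih =>
      intro Q hQ h
      have hsupp : ∀ i, ∀ a ∈ (pderiv i Q).support,
          (∀ j, a j < p) ∧ (a.sum fun _ e => e) = n := by
        intro i a ha
        rw [mem_support_iff, coeff_pderiv] at ha
        obtain ⟨h1, h2⟩ := hQ _ (mem_support_iff.mpr (left_ne_zero_of_mul ha))
        refine ⟨fun j => lt_of_le_of_lt ?_ (h1 j), ?_⟩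
        · simp
        · rw [Finsupp.sum_add_index' (fun _ => rfl) (fun _ _ _ => rfl), Finsupp.sum_single_index] at h2
          · omega
          · rfl
      have hzero : ∀ i, pderiv i Q = 0 := by
        intro i
        refine ih _ (hsupp i) ?_
        have h1 : Dd i (aeval x Q) ∈ M k A ^ (n + 1) :=
          derivation_pow_le k A (Dd i) (M k A) (n + 1) _ h
        have h2 : Dd i (aeval x Q) - aeval x (pderiv i Q) ∈ M k A ^ (n + 1) := by
          have : aeval x (pderiv i Q) = ∑ j, aeval x (pderiv j Q) * (if i = j then 1 else 0) := by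
            simp
          rw [hchain, this, ← Finset.sum_sub_distrib]
          refine Ideal.sum_mem _ fun j _ => ?_
          rw [← mul_sub, pow_succ]
          exact Ideal.mul_mem_mul
            (aeval_mem_pow k A (M k A) x hxM _ fun a ha => (hsupp j a ha).2.ge) (hDx i j)
        have := Ideal.sub_mem _ h1 h2
        simpa using this
      refine MvPolynomial.ext _ _ fun a => ?_
      rw [coeff_zero]
      by_contra hne
      obtain ⟨h1, h2⟩ := hQ a (mem_support_iff.mpr hne)
      obtain ⟨i, hi⟩ : ∃ i, a i ≠ 0 := by
        by_contra hc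
        simp only [not_exists, not_not] at hc
        have : a = 0 := Finsupp.ext hc
        simp [this] at h2
      have ha : a - Finsupp.single i 1 + Finsupp.single i 1 = a :=
        tsub_add_cancel_of_le (Finsupp.single_le_iff.mpr (Nat.one_le_iff_ne_zero.mpr hi))
      have := congrArg (coeff (a - Finsupp.single i 1)) (hzero i)
      rw [coeff_pderiv, ha, coeff_zero] at this
      have hai : ((((a - Finsupp.single i 1 : Fin d →₀ ℕ)) i : ℕ) : k) + 1 = (a i : k) := by
        rw [← Nat.cast_succ]
        congr 1
        simp; omega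
      rw [hai, mul_eq_zero] at this
      rcases this with h3 | h3
      · exact hne h3
      · rw [CharP.cast_eq_zero_iff k p] at h3
        exact hi (Nat.eq_zero_of_dvd_of_lt h3 (h1 i))
  by_contra hne
  have hex : ∃ n, ∃ a ∈ P.support, (a.sum fun _ e => e) = n := by
    obtain ⟨a, ha⟩ := (support_nonempty.mpr hne)
    exact ⟨_, a, ha, rfl⟩
  obtain ⟨a₀, ha₀, hdeg⟩ := Nat.find_spec hex
  set m := Nat.find hex
  have hmin : ∀ a ∈ P.support, m ≤ a.sum fun _ e => e := fun a ha => Nat.find_min' hex ⟨a, ha, rfl⟩
  have hQ := key m (homogeneousComponent m P) (fun a ha => ?_) ?_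
  · have := congrArg (coeff a₀) hQ
    rw [coeff_homogeneousComponent, coeff_zero] at this
    rw [if_pos (by rw [← hdeg, Finsupp.degree_apply]; rfl)] at this
    exact mem_support_iff.mp ha₀ this
  · rw [mem_support_iff, coeff_homogeneousComponent] at ha
    split_ifs at ha with hd
    · exact ⟨hP a (mem_support_iff.mpr ha), by rw [← hd, Finsupp.degree_apply]; rfl⟩
    · exact absurd rfl ha
  · have h1 : aeval x (P - homogeneousComponent m P) ∈ M k A ^ (m + 1) := by
      refine aeval_mem_pow k A (M k A) x hxM _ fun a ha => ?_
      rw [mem_support_iff, coeff_sub, coeff_homogeneousComponent] at ha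
      split_ifs at ha with hd
      · exact absurd (sub_self _) ha
      · rw [sub_zero] at ha
        rcases (hmin a (mem_support_iff.mpr ha)).lt_or_eq with h | h
        · exact h
        · exact absurd (by rw [h, Finsupp.degree_apply]; rfl) hd
    rw [map_sub, h0, zero_sub, neg_mem_iff] at h1
    exact h1

/-- A finite Hopf algebra of height one has dimension `p` to the dimension of its cotangent space. -/
theorem finrank_eq [Module.Finite k A]
    (h1 : ∀ f : A, Bialgebra.counitAlgHom k A f = 0 → f ^ p = 0) :
    Module.finrank k A = p ^ Module.finrank k (M k A).Cotangent := by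
  classical
  haveI : IsNoetherianRing A := IsNoetherianRing.of_finite k A
  have hsurj : Function.Surjective (toCot k A) := by
    intro c
    obtain ⟨⟨a, ha⟩, rfl⟩ := (M k A).toCotangent_surjective c
    exact ⟨a, toCot_of_mem k A ha⟩
  haveI : Module.Finite k (M k A).Cotangent := Module.Finite.of_surjective _ hsurj
  set d := Module.finrank k (M k A).Cotangent
  let b := Module.finBasis k (M k A).Cotangent
  choose y hy using fun i => (M k A).toCotangent_surjective (b i)
  let x : Fin d → A := fun i => (y i : A)
  have hxM : ∀ i, x i ∈ M k A := fun i => (y i).2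
  have hx : ∀ i, toCot k A (x i) = b i := fun i => (toCot_of_mem k A (y i).2).trans (hy i)
  let e : (Fin d → Fin p) → A := fun a => ∏ i, x i ^ (a i : ℕ)
  have hzero : ∀ i (n : ℕ), p ≤ n → x i ^ n = 0 := fun i n hn => by
    rw [← Nat.sub_add_cancel hn, pow_add, h1 _ (hxM i), mul_zero]
  have hgen : ∀ a : Fin d → ℕ, ∏ i, x i ^ a i ∈ Submodule.span k (Set.range e) := by
    intro a
    by_cases h : ∀ i, a i < p
    · exact Submodule.subset_span ⟨fun i => ⟨a i, h i⟩, rfl⟩
    · simp only [not_forall, not_lt] at h
      obtain ⟨i, hi⟩ := h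
      rw [Finset.prod_eq_zero (Finset.mem_univ i) (hzero i _ hi)]
      exact zero_mem _
  have hadj : ∀ P : MvPolynomial (Fin d) k,
      MvPolynomial.aeval x P ∈ Submodule.span k (Set.range e) := by
    intro P
    rw [MvPolynomial.aeval_def, MvPolynomial.eval₂_eq']
    refine Submodule.sum_mem _ fun a _ => ?_
    rw [← Algebra.smul_def]
    exact Submodule.smul_mem _ _ (hgen _)
  obtain ⟨N, hN⟩ : IsNilpotent (M k A) :=
    (Ideal.FG.isNilpotent_iff_le_nilradical (IsNoetherian.noetherian (M k A))).mpr
      fun f hf => mem_nilradical.mpr ⟨p, h1 f hf⟩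
  have hspan : ∀ n (f : A), ∃ P : MvPolynomial (Fin d) k,
      f - MvPolynomial.aeval x P ∈ M k A ^ n := by
    have hstep : ∀ n (f : A), f ∈ M k A ^ n → ∃ P : MvPolynomial (Fin d) k,
        f - MvPolynomial.aeval x P ∈ M k A ^ (n + 1) := by
      intro n
      induction n with
      | zero =>
        intro f _
        refine ⟨MvPolynomial.C (Bialgebra.counitAlgHom k A f), ?_⟩
        rw [MvPolynomial.aeval_C, zero_add, pow_one]
        exact sub_counit_mem k A f
      | succ n ih =>
        intro f hf
        rw [pow_succ'] at hf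
        refine Submodule.mul_induction_on hf ?_ ?_
        · intro r hr s hs
          obtain ⟨P, hP⟩ := ih s hs
          refine ⟨(∑ i, MvPolynomial.C (b.repr (toCot k A r) i) * MvPolynomial.X i) * P, ?_⟩
          have hr' : r - ∑ i, b.repr (toCot k A r) i • x i ∈ M k A ^ 2 := by
            have hm : ∑ i, b.repr (toCot k A r) i • x i ∈ M k A :=
              Submodule.sum_mem _ fun i _ => Submodule.smul_of_tower_mem _ _ (hxM i)
            have he : toCot k A r = toCot k A (∑ i, b.repr (toCot k A r) i • x i) := by
              simp only [map_sum, map_smul, hx, b.sum_repr]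
            exact (Ideal.toCotangent_eq (M k A)).mp
              (((toCot_of_mem k A hr).symm.trans he).trans (toCot_of_mem k A hm))
          simp only [map_mul, map_sum, MvPolynomial.aeval_C, MvPolynomial.aeval_X, ← Algebra.smul_def]
          have e1 : r * s - (∑ i, b.repr (toCot k A r) i • x i) * MvPolynomial.aeval x P =
              (r - ∑ i, b.repr (toCot k A r) i • x i) * s +
              (∑ i, b.repr (toCot k A r) i • x i) * (s - MvPolynomial.aeval x P) := by ring
          rw [e1]
          refine add_mem ?_ ?_
          · rw [show n + 1 + 1 = 2 + n by omega, pow_add]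
            exact Ideal.mul_mem_mul hr' hs
          · rw [show n + 1 + 1 = 1 + (n + 1) by omega, pow_add, pow_one]
            exact Ideal.mul_mem_mul
              (Submodule.sum_mem _ fun i _ => Submodule.smul_of_tower_mem _ _ (hxM i)) hP
        · rintro f g ⟨P, hP⟩ ⟨Q, hQ⟩
          refine ⟨P + Q, ?_⟩
          rw [map_add, add_sub_add_comm]
          exact add_mem hP hQ
    intro n
    induction n with
    | zero => intro f; exact ⟨0, by simp⟩
    | succ n ih =>
      intro f
      obtain ⟨P, hP⟩ := ih f
      obtain ⟨Q, hQ⟩ := hstep n _ hP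
      exact ⟨P + Q, by rwa [map_add, ← sub_sub]⟩
  have htop : ⊤ ≤ Submodule.span k (Set.range e) := fun f _ => by
    obtain ⟨P, hP⟩ := hspan N f
    rw [hN, Submodule.zero_eq_bot, Submodule.mem_bot, sub_eq_zero] at hP
    exact hP ▸ hadj P
  have hli : LinearIndependent k e := by
    rw [Fintype.linearIndependent_iff]
    intro g hg a
    let φ : (Fin d → Fin p) → (Fin d →₀ ℕ) := fun c => Finsupp.equivFunOnFinite.symm fun i => (c i : ℕ)
    have hφ : Function.Injective φ := fun c c' h => funext fun i => Fin.ext (DFunLike.congr_fun h i)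
    have hP0 := eq_zero_of_aeval_eq_zero k A p b x hxM hx (∑ c, MvPolynomial.monomial (φ c) (g c))
      (fun c hc i => ?_) ?_
    · have := congrArg (MvPolynomial.coeff (φ a)) hP0
      rw [MvPolynomial.coeff_sum, Finset.sum_eq_single a, MvPolynomial.coeff_monomial, if_pos rfl,
        MvPolynomial.coeff_zero] at this
      · exact this
      · intro c _ hc; rw [MvPolynomial.coeff_monomial, if_neg (hφ.ne hc)]
      · simp
    · obtain ⟨c', -, hc'⟩ := Finset.mem_biUnion.mp (MvPolynomial.support_sum hc)
      have := Finset.mem_singleton.mp (MvPolynomial.support_monomial_subset hc')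
      rw [this]
      exact (c' i).2
    · rw [map_sum, ← hg]
      refine Finset.sum_congr rfl fun c _ => ?_
      rw [MvPolynomial.aeval_monomial, Algebra.smul_def, Finsupp.prod_fintype _ _ (by simp)]
      rfl
  rw [Module.finrank_eq_card_basis (Module.Basis.mk hli htop), Fintype.card_fun, Fintype.card_fin,
    Fintype.card_fin]

end Groth.Agent.H8HeightOne
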