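import Mathlib
import Groth.Agent.Lib.H8Free
import Groth.Agent.Lib.H8HeightOne

/-!
# Connected finite Hopf algebras in characteristic `p`
-/

set_option autoImplicit false

universe u v

open TensorProduct

namespace Groth.Agent.H8FiniteHopf

variable {k : Type u} [Field k] {A : Type v} [CommRing A] [HopfAlgebra k A]

variable (k A) in
lemma nontrivial_tensor : Nontrivial (A ⊗[k] A) :=
  (Algebra.TensorProduct.lift (Bialgebra.counitAlgHom k A) (Bialgebra.counitAlgHom k A)
    fun _ _ => mul_comm _ _).toRingHom.domain_nontrivial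

lemma nontrivial_self (k : Type u) [Field k] (A : Type v) [CommRing A] [HopfAlgebra k A] :
    Nontrivial A :=
  (Bialgebra.counitAlgHom k A).toRingHom.domain_nontrivial

omit [HopfAlgebra k A] [CommRing A] in
lemma sum_tmul_sum {ι : Type*} [Fintype ι] {M N : Type*} [AddCommGroup M] [Module k M]
    [AddCommGroup N] [Module k N] (r s : ι → k) (x : ι → M) (y : ι → N) :
    (∑ i, r i • x i) ⊗ₜ[k] (∑ j, s j • y j) =
      ∑ ij : ι × ι, (r ij.1 * s ij.2) • (x ij.1 ⊗ₜ[k] y ij.2) := by
  rw [TensorProduct.sum_tmul, Fintype.sum_prod_type]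
  refine Finset.sum_congr rfl fun i _ => ?_
  rw [TensorProduct.tmul_sum]
  exact Finset.sum_congr rfl fun j _ => TensorProduct.smul_tmul_smul _ _ _ _

/-- A coideal criterion for ideals. -/
lemma isCoideal_of_mkₐ (J : Ideal A) (h0 : ∀ x ∈ J, CoalgebraStruct.counit (R := k) x = 0)
    (h : ∀ x ∈ J, TensorProduct.map (Ideal.Quotient.mkₐ k J).toLinearMap
      (Ideal.Quotient.mkₐ k J).toLinearMap (CoalgebraStruct.comul (R := k) x) = 0) :
    (J.restrictScalars k).IsCoideal := by
  refine ⟨fun x hx => h0 x hx, fun x hx => ?_⟩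
  have he : (J.restrictScalars k).mkQ =
      (Submodule.Quotient.restrictScalarsEquiv k J).symm.toLinearMap ∘ₗ
        (Ideal.Quotient.mkₐ k J).toLinearMap := by
    refine LinearMap.ext fun a => ?_
    exact ((Submodule.Quotient.restrictScalarsEquiv k J).symm_apply_apply
      (Submodule.Quotient.mk a)).symm
  rw [he, TensorProduct.map_comp, LinearMap.comp_apply, h x hx, map_zero]

variable [IsAlgClosed k] (p : ℕ) [Fact p.Prime] [CharP k p]

lemma charP_self (k : Type u) [Field k] (A : Type v) [CommRing A] [HopfAlgebra k A]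
    (p : ℕ) [CharP k p] : CharP A p :=
  haveI := nontrivial_self k A
  charP_of_injective_algebraMap (algebraMap k A).injective p

omit [IsAlgClosed k] in
lemma charP_tensor : CharP (A ⊗[k] A) p :=
  haveI := nontrivial_tensor k A
  charP_of_injective_algebraMap (algebraMap k (A ⊗[k] A)).injective p

variable (k A) in
/-- The image of Frobenius. -/
def frobRange : Subalgebra k A where
  carrier := {a | ∃ b, b ^ p = a}
  mul_mem' := by rintro _ _ ⟨a, rfl⟩ ⟨b, rfl⟩; exact ⟨a * b, mul_pow a b p⟩
  add_mem' := by
    rintro _ _ ⟨a, rfl⟩ ⟨b, rfl⟩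
    haveI := charP_self k A p
    exact ⟨a + b, add_pow_char a b p⟩
  algebraMap_mem' c := by
    obtain ⟨s, hs⟩ := IsAlgClosed.exists_pow_nat_eq c (Fact.out : p.Prime).pos
    exact ⟨algebraMap k A s, by rw [← map_pow, hs]⟩

variable (k A) in
/-- The kernel of Frobenius. -/
noncomputable def frobKer : Ideal A :=
  haveI := charP_self k A p
  RingHom.ker (frobenius A p)

lemma mem_frobKer {a : A} : a ∈ frobKer k A p ↔ a ^ p = 0 := Iff.rfl

variable {ι : Type*} [Fintype ι] (bq : Module.Basis ι k (A ⧸ frobKer k A p)) (e : ι → A)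
  (he : ∀ i, Ideal.Quotient.mk (frobKer k A p) (e i) = bq i)

include he in
lemma linearIndependent_pow : LinearIndependent k fun i => e i ^ p := by
  rw [Fintype.linearIndependent_iff]
  intro g hg i
  choose s hs using fun j => IsAlgClosed.exists_pow_nat_eq (g j) (Fact.out : p.Prime).pos
  haveI := charP_self k A p
  have h0 : (∑ j, s j • e j) ^ p = 0 := by
    simp only [sum_pow_char, smul_pow, hs, hg]
  have h1 := Ideal.Quotient.eq_zero_iff_mem.mpr ((mem_frobKer (k := k) p).mpr h0)
  rw [map_sum] at h1
  have h2 : ∑ j, s j • bq j = 0 := by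
    refine Eq.trans ?_ h1
    refine Finset.sum_congr rfl fun j _ => ?_
    rw [← he j]
    exact (map_smul (Ideal.Quotient.mkₐ k (frobKer k A p)) (s j) (e j)).symm
  rw [← hs i, Fintype.linearIndependent_iff.mp bq.linearIndependent s h2 i,
    zero_pow (Fact.out : p.Prime).ne_zero]

include he in
lemma exists_decomp (z : A ⊗[k] A) : ∃ c : ι × ι → k,
    (z - ∑ ij, c ij • (e ij.1 ⊗ₜ[k] e ij.2)) ^ p = 0 ∧
    TensorProduct.map (Ideal.Quotient.mkₐ k (frobKer k A p)).toLinearMap
      (Ideal.Quotient.mkₐ k (frobKer k A p)).toLinearMap z = ∑ ij, c ij • (bq ij.1 ⊗ₜ[k] bq ij.2) := by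
  haveI := charP_tensor (k := k) (A := A) p
  have hp0 : p ≠ 0 := (Fact.out : p.Prime).ne_zero
  induction z using TensorProduct.induction_on with
  | zero => exact ⟨0, by simp [hp0]⟩
  | add y w hy hw =>
    obtain ⟨c, hc, hc'⟩ := hy
    obtain ⟨d, hd, hd'⟩ := hw
    refine ⟨c + d, ?_, ?_⟩
    · simp only [Pi.add_apply, add_smul, Finset.sum_add_distrib]
      rw [add_sub_add_comm, add_pow_char, hc, hd, add_zero]
    · simp only [map_add, hc', hd', Pi.add_apply, add_smul, Finset.sum_add_distrib]
  | tmul a b =>
    have hdec : ∀ a : A, (a - ∑ i, bq.repr (Ideal.Quotient.mk (frobKer k A p) a) i • e i) ^ p = 0 := by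
      intro a
      rw [← mem_frobKer (k := k), ← Ideal.Quotient.eq_zero_iff_mem, map_sub, map_sum, sub_eq_zero]
      conv_lhs => rw [← bq.sum_repr (Ideal.Quotient.mk (frobKer k A p) a)]
      refine Finset.sum_congr rfl fun i _ => ?_
      rw [← he i]
      exact (map_smul (Ideal.Quotient.mkₐ k (frobKer k A p)) _ _).symm
    set r := fun a : A => bq.repr (Ideal.Quotient.mk (frobKer k A p) a)
    refine ⟨fun ij => r a ij.1 * r b ij.2, ?_, ?_⟩
    · have : a ⊗ₜ[k] b - ∑ ij : ι × ι, (r a ij.1 * r b ij.2) • (e ij.1 ⊗ₜ[k] e ij.2) =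
          (a - ∑ i, r a i • e i) ⊗ₜ[k] b + (∑ i, r a i • e i) ⊗ₜ[k] (b - ∑ i, r b i • e i) := by
        rw [← sum_tmul_sum (fun i => r a i) (fun i => r b i) e e, TensorProduct.sub_tmul,
          TensorProduct.tmul_sub]
        abel
      rw [this, add_pow_char, Algebra.TensorProduct.tmul_pow, Algebra.TensorProduct.tmul_pow,
        hdec a, hdec b, TensorProduct.zero_tmul, TensorProduct.tmul_zero, add_zero]
    · rw [TensorProduct.map_tmul]
      simp only [AlgHom.toLinearMap_apply, Ideal.Quotient.mkₐ_eq_mk]
      conv_lhs => rw [← bq.sum_repr (Ideal.Quotient.mk (frobKer k A p) a),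
        ← bq.sum_repr (Ideal.Quotient.mk (frobKer k A p) b)]
      exact sum_tmul_sum _ _ _ _

lemma map_mkₐ_eq_zero [Module.Finite k A] (z : A ⊗[k] A) (hz : z ^ p = 0) :
    TensorProduct.map (Ideal.Quotient.mkₐ k (frobKer k A p)).toLinearMap
      (Ideal.Quotient.mkₐ k (frobKer k A p)).toLinearMap z = 0 := by
  let bq := Module.finBasis k (A ⧸ frobKer k A p)
  choose e he using fun i => Ideal.Quotient.mk_surjective (bq i)
  obtain ⟨c, hc, hc'⟩ := exists_decomp p bq e he z
  haveI := charP_tensor (k := k) (A := A) p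
  rw [sub_pow_char, hz, zero_sub, neg_eq_zero, sum_pow_char] at hc
  simp only [smul_pow, Algebra.TensorProduct.tmul_pow] at hc
  have hi := (linearIndependent_pow p bq e he).tmul_of_flat_left (linearIndependent_pow p bq e he)
  have h0 := Fintype.linearIndependent_iff.mp hi _ hc
  rw [hc']
  refine Finset.sum_eq_zero fun ij _ => ?_
  rw [eq_zero_of_pow_eq_zero (h0 ij), zero_smul]

instance isHopfIdeal_frobKer [Module.Finite k A] : (frobKer k A p).IsHopfIdeal k := by
  haveI := isCoideal_of_mkₐ (k := k) (frobKer k A p) (fun x hx => ?_) fun x hx => ?_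
  · refine ⟨fun x hx => ?_⟩
    rw [mem_frobKer] at hx ⊢
    rw [← HopfAlgebra.toLinearMap_antipodeAlgHom, AlgHom.toLinearMap_apply, ← map_pow, hx, map_zero]
  · rw [mem_frobKer] at hx
    refine eq_zero_of_pow_eq_zero (n := p) ?_
    rw [← Bialgebra.counitAlgHom_apply, ← map_pow, hx, map_zero]
  · refine map_mkₐ_eq_zero p _ ?_
    rw [← Bialgebra.comul_pow, (mem_frobKer p).mp hx, map_zero]

lemma finrank_frobRange [Module.Finite k A] :
    Module.finrank k (frobRange k A p) = Module.finrank k (A ⧸ frobKer k A p) := by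
  let bq := Module.finBasis k (A ⧸ frobKer k A p)
  choose e he using fun i => Ideal.Quotient.mk_surjective (bq i)
  haveI := charP_self k A p
  have hspan : Subalgebra.toSubmodule (frobRange k A p) =
      Submodule.span k (Set.range fun i => e i ^ p) := by
    refine le_antisymm ?_ (Submodule.span_le.mpr ?_)
    · rintro _ ⟨b, rfl⟩
      have h : (b - ∑ i, bq.repr (Ideal.Quotient.mk (frobKer k A p) b) i • e i) ^ p = 0 := by
        rw [← mem_frobKer (k := k), ← Ideal.Quotient.eq_zero_iff_mem, map_sub, map_sum, sub_eq_zero]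
        conv_lhs => rw [← bq.sum_repr (Ideal.Quotient.mk (frobKer k A p) b)]
        refine Finset.sum_congr rfl fun i _ => ?_
        rw [← he i]
        exact (map_smul (Ideal.Quotient.mkₐ k (frobKer k A p)) _ _).symm
      rw [sub_pow_char, sub_eq_zero, sum_pow_char] at h
      rw [h]
      exact Submodule.sum_mem _ fun i _ => by
        rw [smul_pow]; exact Submodule.smul_mem _ _ (Submodule.subset_span ⟨i, rfl⟩)
    · rintro _ ⟨i, rfl⟩
      exact ⟨e i, rfl⟩
  have h1 : Module.finrank k (Subalgebra.toSubmodule (frobRange k A p)) = _ :=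
    (congrArg (fun S : Submodule k A => Module.finrank k S) hspan).trans
      (finrank_span_eq_card (linearIndependent_pow p bq e he))
  rw [Subalgebra.finrank_toSubmodule, Fintype.card_fin] at h1
  exact h1

/-- The ideal generated by the augmentation ideal of the Frobenius image. -/
noncomputable def frobAug : Ideal A :=
  (H8Free.aug (frobRange k A p)).map (algebraMap (frobRange k A p) A)

lemma pow_mem_frobAug {f : A} (hf : Bialgebra.counitAlgHom k A f = 0) :
    f ^ p ∈ frobAug (k := k) (A := A) p := by
  have : (⟨f ^ p, f, rfl⟩ : frobRange k A p) ∈ H8Free.aug (frobRange k A p) := by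
    rw [H8Free.aug, RingHom.mem_ker]
    show Bialgebra.counitAlgHom k A (f ^ p) = 0
    rw [map_pow, hf, zero_pow (Fact.out : p.Prime).ne_zero]
  exact Ideal.mem_map_of_mem (algebraMap (frobRange k A p) A) this

lemma frobAug_le {I : Ideal A} (h : ∀ f, Bialgebra.counitAlgHom k A f = 0 → f ^ p ∈ I) :
    frobAug (k := k) (A := A) p ≤ I := by
  refine Ideal.map_le_iff_le_comap.mpr ?_
  rintro ⟨_, f, rfl⟩ hx
  rw [H8Free.aug, RingHom.mem_ker] at hx
  change Bialgebra.counitAlgHom k A (f ^ p) = 0 at hx
  rw [map_pow] at hx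
  exact h f (eq_zero_of_pow_eq_zero hx)

instance isHopfIdeal_frobAug : (frobAug (k := k) (A := A) p).IsHopfIdeal k := by
  set J := frobAug (k := k) (A := A) p
  have hcounit : ∀ x ∈ J, CoalgebraStruct.counit (R := k) x = 0 := fun x hx =>
    (frobAug_le p (I := RingHom.ker (Bialgebra.counitAlgHom k A)) fun f hf => by
      rw [RingHom.mem_ker, map_pow, hf, zero_pow (Fact.out : p.Prime).ne_zero]) hx
  haveI := isCoideal_of_mkₐ (k := k) J hcounit fun x hx => ?_
  · refine ⟨fun x hx => ?_⟩
    refine (frobAug_le p (I := J.comap (HopfAlgebra.antipodeAlgHom k A)) fun f hf => ?_) hx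
    rw [Ideal.mem_comap, map_pow]
    refine pow_mem_frobAug p ?_
    show CoalgebraStruct.counit (HopfAlgebra.antipode k f) = 0
    rw [HopfAlgebra.counit_antipode]
    exact hf
  · let e2 := Algebra.TensorProduct.lift (Bialgebra.counitAlgHom k A) (Bialgebra.counitAlgHom k A)
      fun _ _ => mul_comm _ _
    let Φ := Algebra.TensorProduct.map (Ideal.Quotient.mkₐ k J) (Ideal.Quotient.mkₐ k J)
    have hpow : ∀ z : A ⊗[k] A, Φ (z ^ p) = algebraMap k _ (e2 z ^ p) := by
      haveI := charP_tensor (k := k) (A := A) p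
      intro z
      induction z using TensorProduct.induction_on with
      | zero => simp [(Fact.out : p.Prime).ne_zero]
      | add y w hy hw => rw [add_pow_char, map_add, hy, hw, map_add, add_pow_char, map_add]
      | tmul a b =>
        have hq : ∀ a : A, Ideal.Quotient.mk J (a ^ p) =
            algebraMap k _ (Bialgebra.counitAlgHom k A a ^ p) := by
          intro a
          haveI := charP_self k A p
          have h := pow_mem_frobAug (k := k) p (f := a - algebraMap k A (Bialgebra.counitAlgHom k A a))
            (by rw [map_sub, AlgHom.commutes]; simp)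
          rw [sub_pow_char, ← map_pow, ← Ideal.Quotient.eq] at h
          exact h
        rw [Algebra.TensorProduct.tmul_pow, Algebra.TensorProduct.map_tmul,
          Ideal.Quotient.mkₐ_eq_mk, hq, hq, Algebra.TensorProduct.lift_tmul, mul_pow, map_mul,
          Algebra.TensorProduct.algebraMap_apply, Algebra.TensorProduct.algebraMap_apply,
          Algebra.TensorProduct.tmul_mul_tmul]
        simp only [mul_one]
        rw [Algebra.algebraMap_eq_smul_one (R := k) (Bialgebra.counitAlgHom k A a ^ p),
          Algebra.algebraMap_eq_smul_one (R := k) (Bialgebra.counitAlgHom k A b ^ p),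
          TensorProduct.smul_tmul_smul, smul_mul_smul_comm, one_mul, TensorProduct.smul_tmul']
    show Φ (CoalgebraStruct.comul (R := k) x) = 0
    refine (frobAug_le p (I := RingHom.ker (Φ.comp (Bialgebra.comulAlgHom k A))) fun f hf => ?_) hx
    have he2 : ∀ z : A ⊗[k] A, e2 z = Bialgebra.counitAlgHom k A
        (TensorProduct.rid k A ((CoalgebraStruct.counit (R := k) (A := A)).lTensor A z)) := by
      intro z
      induction z using TensorProduct.induction_on with
      | zero => simp
      | add y w hy hw => simp only [map_add, hy, hw]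
      | tmul a b => simp [e2, mul_comm]
    rw [RingHom.mem_ker, map_pow, AlgHom.comp_apply, Bialgebra.comulAlgHom_apply, ← map_pow, hpow,
      he2, Coalgebra.lTensor_counit_comul, TensorProduct.rid_tmul, one_smul, hf,
      zero_pow (Fact.out : p.Prime).ne_zero, map_zero]

lemma exists_frobenius_basis [Module.Finite k A]
    (hloc : ∀ f, Bialgebra.counitAlgHom k A f = 0 → IsNilpotent f) :
    Nonempty (Module.Basis (Fin (Module.finrank k (A ⧸ frobAug (k := k) (A := A) p)))
      (frobRange k A p) A) := by
  haveI : Module.Finite k (A ⧸ frobAug (k := k) (A := A) p) :=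
    Module.Finite.of_surjective (Ideal.Quotient.mkₐ k _).toLinearMap Ideal.Quotient.mk_surjective
  refine H8Free.exists_basis (frobRange k A p) ?_ ?_
  · rintro _ ⟨a, rfl⟩
    have h : ∀ z : A ⊗[k] A, z ^ p ∈
        (Algebra.TensorProduct.map (AlgHom.id k A) (frobRange k A p).val).range := by
      haveI := charP_tensor (k := k) (A := A) p
      intro z
      induction z using TensorProduct.induction_on with
      | zero => rw [zero_pow (Fact.out : p.Prime).ne_zero]; exact zero_mem _
      | add y w hy hw => rw [add_pow_char]; exact add_mem hy hw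
      | tmul x y => exact ⟨(x ^ p) ⊗ₜ[k] ⟨y ^ p, y, rfl⟩, by simp⟩
    rw [Bialgebra.comul_pow]
    exact h _
  · haveI : Module.Finite k (frobRange k A p) := FiniteDimensional.finiteDimensional_subalgebra _
    haveI : IsNoetherianRing (frobRange k A p) := IsNoetherianRing.of_finite k _
    refine (Ideal.FG.isNilpotent_iff_le_nilradical (IsNoetherian.noetherian _)).mpr fun x hx => ?_
    obtain ⟨n, hn⟩ := hloc (x : A) hx
    exact mem_nilradical.mpr ⟨n, Subtype.ext (by simpa using hn)⟩

omit [Fact p.Prime] [CharP k p] [IsAlgClosed k] in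
lemma finrank_eq_one_of_bot (h : ∀ f, Bialgebra.counitAlgHom k A f = 0 → f = 0) :
    Module.finrank k A = 1 := by
  rw [← Module.finrank_self k]
  refine (LinearEquiv.ofBijective (Bialgebra.counitAlgHom k A).toLinearMap ⟨?_, ?_⟩).finrank_eq
  · refine (injective_iff_map_eq_zero _).mpr fun f hf => h f hf
  · intro c; exact ⟨algebraMap k A c, by simp⟩

/-- The order of a connected finite group scheme is a power of `p`. -/
theorem exists_finrank_eq_pow (A : Type v) [CommRing A] [HopfAlgebra k A] [Module.Finite k A]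
    (hloc : ∀ f, Bialgebra.counitAlgHom k A f = 0 → IsNilpotent f) :
    ∃ m, Module.finrank k A = p ^ m := by
  obtain ⟨N, hN⟩ : ∃ N, Module.finrank k A = N := ⟨_, rfl⟩
  induction N using Nat.strong_induction_on generalizing A with
  | _ N ih =>
    by_cases h0 : ∀ f, Bialgebra.counitAlgHom k A f = 0 → f = 0
    · exact ⟨0, by rw [pow_zero, finrank_eq_one_of_bot h0]⟩
    simp only [not_forall] at h0
    obtain ⟨f, hf, hf0⟩ := h0
    classical
    have hK : (frobKer k A p).restrictScalars k ≠ ⊥ := by
      haveI := nontrivial_self k A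
      obtain ⟨j, hj⟩ := hloc f hf
      have hex : ∃ j, f ^ j = 0 := ⟨j, hj⟩
      have h1 := Nat.find_spec hex
      obtain ⟨i, hi⟩ : ∃ i, Nat.find hex = i + 2 := by
        refine ⟨Nat.find hex - 2, ?_⟩
        rcases Nat.lt_or_ge (Nat.find hex) 2 with h | h
        · exfalso
          interval_cases hh : Nat.find hex
          · simp at h1
          · exact hf0 (by simpa using h1)
        · omega
      rw [hi] at h1
      intro hbot
      have hmem : f ^ (i + 1) ∈ (frobKer k A p).restrictScalars k := by
        rw [Submodule.restrictScalars_mem, mem_frobKer, ← pow_mul]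
        refine pow_eq_zero_of_le ?_ h1
        nlinarith [(Fact.out : p.Prime).two_le]
      rw [hbot, Submodule.mem_bot] at hmem
      exact Nat.find_min hex (by omega) hmem
    have hlt : Module.finrank k (A ⧸ frobKer k A p) < N := by
      rw [← hN, ← ((frobKer k A p).restrictScalars k).finrank_quotient_add_finrank,
        (Submodule.Quotient.restrictScalarsEquiv k (frobKer k A p)).finrank_eq]
      have := Submodule.one_le_finrank_iff.mpr hK
      omega
    haveI : Module.Finite k (A ⧸ frobKer k A p) :=
      Module.Finite.of_surjective (Ideal.Quotient.mkₐ k _).toLinearMap Ideal.Quotient.mk_surjective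
    obtain ⟨m, hm⟩ := ih _ hlt (A ⧸ frobKer k A p) (fun g hg => by
      obtain ⟨a, rfl⟩ := Ideal.Quotient.mk_surjective g
      exact (hloc a hg).map _) rfl
    haveI : Module.Finite k (A ⧸ frobAug (k := k) (A := A) p) :=
      Module.Finite.of_surjective (Ideal.Quotient.mkₐ k _).toLinearMap Ideal.Quotient.mk_surjective
    obtain ⟨d, hd⟩ : ∃ d, Module.finrank k (A ⧸ frobAug (k := k) (A := A) p) = p ^ d :=
      ⟨_, H8HeightOne.finrank_eq k (A ⧸ frobAug (k := k) (A := A) p) p fun g hg => by
      obtain ⟨a, rfl⟩ := Ideal.Quotient.mk_surjective g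
      rw [← map_pow, Ideal.Quotient.eq_zero_iff_mem]
      exact pow_mem_frobAug p hg⟩
    obtain ⟨b⟩ := exists_frobenius_basis (k := k) (A := A) p hloc
    haveI := nontrivial_self k A
    haveI : Module.Free (frobRange k A p) A := Module.Free.of_basis b
    refine ⟨m + d, ?_⟩
    rw [← Module.finrank_mul_finrank k (frobRange k A p) A, Module.finrank_eq_card_basis b,
      Fintype.card_fin, finrank_frobRange, hm, hd, ← pow_add]

end Groth.Agent.H8FiniteHopf
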