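import Mathlib
import Groth.Agent.Lib.H8FiniteHopf
import Groth.Agent.Lib.H8TraceEtale

/-!
# A finite group scheme over a field is killed by its order
-/

set_option autoImplicit false

universe u v w

open TensorProduct WithConv

namespace Groth.Agent.H8FiniteKill

section Conv

variable {k : Type u} [CommRing k] {A : Type v} [CommRing A] [HopfAlgebra k A]
  {B : Type*} [CommRing B] [Algebra k B]

lemma comp_one {C : Type*} [CommRing C] [Algebra k C] (h : B →ₐ[k] C) :
    h.comp (1 : WithConv (A →ₐ[k] B)).ofConv = (1 : WithConv (A →ₐ[k] C)).ofConv := by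
  refine AlgHom.ext fun a => ?_
  simp [AlgHom.convOne_apply]

lemma comp_pow {C : Type*} [CommRing C] [Algebra k C] (h : B →ₐ[k] C) (f : WithConv (A →ₐ[k] B))
    (n : ℕ) : h.comp (f ^ n).ofConv = (toConv (h.comp f.ofConv) ^ n).ofConv := by
  induction n with
  | zero => rw [pow_zero, pow_zero]; exact comp_one h
  | succ n ih =>
    rw [pow_succ, AlgHom.comp_convMul_distrib, ih, pow_succ]

end Conv

variable {k : Type u} [Field k] {A : Type v} [CommRing A] [HopfAlgebra k A]

/-- A nilpotent ideal vanishes in the power given by the dimension. -/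
lemma pow_finrank_eq_bot [Module.Finite k A] {I : Ideal A} (h : IsNilpotent I) :
    I ^ Module.finrank k A = ⊥ := by
  have key : ∀ j, I ^ j = ⊥ ∨
      Module.finrank k ((I ^ j).restrictScalars k) + j ≤ Module.finrank k A := by
    intro j
    induction j with
    | zero => exact Or.inr (by rw [add_zero]; exact Submodule.finrank_le _)
    | succ j ih =>
      by_cases h1 : I ^ (j + 1) = ⊥
      · exact Or.inl h1
      refine Or.inr ?_
      rcases ih with h0 | h0
      · exact absurd (by rw [pow_succ, h0, Ideal.bot_mul]) h1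
      have hlt : (I ^ (j + 1)).restrictScalars k < (I ^ j).restrictScalars k := by
        refine lt_of_le_of_ne (fun x hx => Ideal.pow_le_pow_right (Nat.le_succ j) hx) fun heq => ?_
        have heq' : I ^ (j + 1) = I ^ j := Submodule.restrictScalars_injective k _ _ heq
        have hc : ∀ c, I ^ (j + c) = I ^ j := by
          intro c
          induction c with
          | zero => rfl
          | succ c ihc => rw [← add_assoc, pow_succ, ihc, ← pow_succ, heq']
        obtain ⟨n, hn⟩ := h
        refine h1 ?_
        rw [heq', ← hc n, pow_add, hn, mul_zero]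
        rfl
      have := Submodule.finrank_lt_finrank_of_lt hlt
      omega
  rcases key (Module.finrank k A) with h0 | h0
  · exact h0
  · refine Submodule.restrictScalars_injective k _ _ ?_
    rw [Submodule.restrictScalars_bot, ← Submodule.finrank_eq_zero]
    omega

lemma pow_apply_mem (I : Ideal A) (ψ : WithConv (A →ₗ[k] A)) (hψ : ∀ a, ψ a ∈ I) :
    ∀ (n : ℕ) (a : A), (ψ ^ n) a ∈ I ^ n := by
  intro n
  induction n with
  | zero => intro a; simp
  | succ n ih =>
    intro a
    rw [pow_succ ψ, pow_succ I, LinearMap.convMul_apply]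
    induction CoalgebraStruct.comul (R := k) a using TensorProduct.induction_on with
    | zero => simp
    | add y z hy hz => simp only [map_add]; exact add_mem hy hz
    | tmul b c =>
      rw [TensorProduct.map_tmul, LinearMap.mul'_apply]
      exact Ideal.mul_mem_mul (ih b) (hψ c)

variable [IsAlgClosed k]

/-- Connected case. -/
lemma pow_eq_one_of_connected [Module.Finite k A]
    (hloc : ∀ f, Bialgebra.counitAlgHom k A f = 0 → IsNilpotent f) :
    (toConv (AlgHom.id k A)) ^ Module.finrank k A = 1 := by
  classical
  haveI : IsNoetherianRing A := IsNoetherianRing.of_finite k A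
  set M := RingHom.ker (Bialgebra.counitAlgHom k A)
  have hM : IsNilpotent M := (Ideal.FG.isNilpotent_iff_le_nilradical (IsNoetherian.noetherian M)).mpr
    fun f hf => mem_nilradical.mpr (hloc f hf)
  set φ : WithConv (A →ₗ[k] A) := toConv LinearMap.id
  set ψ := φ - 1
  have hψ : ∀ a, ψ a ∈ M := by
    intro a
    show Bialgebra.counitAlgHom k A (a - (1 : WithConv (A →ₗ[k] A)) a) = 0
    simp
  have hψN : ψ ^ Module.finrank k A = 0 := by
    refine WithConv.ofConv_injective (LinearMap.ext fun a => ?_)
    have := pow_apply_mem M ψ hψ (Module.finrank k A) a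
    rw [pow_finrank_eq_bot hM, Submodule.mem_bot] at this
    exact this
  suffices hlin : φ ^ Module.finrank k A = 1 by
    refine WithConv.ofConv_injective (AlgHom.toLinearMap_injective (WithConv.toConv_injective ?_))
    rw [AlgHom.toLinearMap_convPow, AlgHom.toLinearMap_convOne]
    exact hlin
  rcases CharP.exists' k with hc | ⟨p, hp, hcp⟩
  · -- characteristic zero: `A = k`
    haveI : Nontrivial A := H8FiniteHopf.nontrivial_self k A
    haveI := H8TraceEtale.formallyUnramified k A (Nat.cast_ne_zero.mpr Module.finrank_pos.ne')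
    haveI : IsReduced A := Algebra.FormallyUnramified.isReduced_of_field k A
    have h1 : Module.finrank k A = 1 :=
      H8FiniteHopf.finrank_eq_one_of_bot fun f hf => (hloc f hf).eq_zero
    rw [h1, pow_one] at hψN ⊢
    exact sub_eq_zero.mp hψN
  · obtain ⟨m, hm⟩ := H8FiniteHopf.exists_finrank_eq_pow p A hloc
    rw [hm] at hψN ⊢
    have hcast : ∀ n : ℕ, p ∣ n → ((n : ℕ) : WithConv (A →ₗ[k] A)) = 0 := by
      rintro n ⟨c, rfl⟩
      rw [Nat.cast_mul, ← mul_one ((p : ℕ) : WithConv (A →ₗ[k] A)), ← nsmul_eq_mul,
        ← Nat.cast_smul_eq_nsmul k, CharP.cast_eq_zero, zero_smul, zero_mul]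
    have hexp : φ = ψ + 1 := by simp [ψ]
    rw [hexp, (Commute.one_right ψ).add_pow, Finset.sum_eq_single 0]
    · simp
    · intro i hi hi0
      rcases eq_or_ne i (p ^ m) with rfl | hne
      · simp [hψN]
      · rw [hcast _ (hp.out.dvd_choose_pow hi0 hne), mul_zero]
    · simp

/-- The translation by a point. -/
noncomputable def translate (χ : WithConv (A →ₐ[k] k)) : A →ₐ[k] A :=
  (toConv ((Algebra.ofId k A).comp χ.ofConv) * toConv (AlgHom.id k A)).ofConv

omit [IsAlgClosed k] in
lemma translate_comp (χ ψ : WithConv (A →ₐ[k] k)) :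
    (translate ψ).comp (translate χ) = translate (χ * ψ) := by
  show (translate ψ).comp (toConv ((Algebra.ofId k A).comp χ.ofConv) * toConv (AlgHom.id k A)).ofConv = _
  rw [AlgHom.comp_convMul_distrib, WithConv.ofConv_toConv, WithConv.ofConv_toConv, ← AlgHom.comp_assoc,
    show (translate ψ).comp (Algebra.ofId k A) = Algebra.ofId k A from Algebra.ext_id _ _ _,
    AlgHom.comp_id, translate, translate, AlgHom.comp_convMul_distrib, WithConv.toConv_ofConv,
    WithConv.toConv_ofConv, mul_assoc]

omit [IsAlgClosed k] in
lemma translate_one : translate (1 : WithConv (A →ₐ[k] k)) = AlgHom.id k A := by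
  rw [translate, comp_one, WithConv.toConv_ofConv, one_mul]

omit [IsAlgClosed k] in
lemma counit_comp_translate (χ : WithConv (A →ₐ[k] k)) :
    (Bialgebra.counitAlgHom k A).comp (translate χ) = χ.ofConv := by
  rw [translate, AlgHom.comp_convMul_distrib, AlgHom.comp_id, ← AlgHom.comp_assoc,
    show (Bialgebra.counitAlgHom k A).comp (Algebra.ofId k A) = AlgHom.id k k from
      Algebra.ext_id _ _ _, AlgHom.id_comp, WithConv.toConv_ofConv,
    show toConv (Bialgebra.counitAlgHom k A) = (1 : WithConv (A →ₐ[k] k)) from
      WithConv.ofConv_injective (AlgHom.ext fun a => by simp [AlgHom.convOne_apply]), mul_one]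

lemma exists_point [Module.Finite k A] (m : Ideal A) [m.IsMaximal] :
    ∃ χ : A →ₐ[k] k, RingHom.ker χ = m := by
  letI := Ideal.Quotient.field m
  haveI : Module.Finite k (A ⧸ m) :=
    Module.Finite.of_surjective (Ideal.Quotient.mkₐ k m).toLinearMap Ideal.Quotient.mk_surjective
  have hb : Function.Bijective (algebraMap k (A ⧸ m)) :=
    IsAlgClosed.algebraMap_bijective_of_isIntegral
  refine ⟨(AlgEquiv.ofBijective (Algebra.ofId k (A ⧸ m)) hb).symm.toAlgHom.comp
    (Ideal.Quotient.mkₐ k m), Ideal.ext fun a => ?_⟩
  rw [RingHom.mem_ker, AlgHom.comp_apply]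
  exact (map_eq_zero_iff _ (AlgEquiv.injective _)).trans Ideal.Quotient.eq_zero_iff_mem

/-- A finite group scheme over an algebraically closed field is killed by its order. -/
theorem pow_finrank_eq_one_of_isAlgClosed [Module.Finite k A] :
    (toConv (AlgHom.id k A)) ^ Module.finrank k A = 1 := by
  classical
  haveI : IsNoetherianRing A := IsNoetherianRing.of_finite k A
  haveI : IsArtinianRing A := IsArtinianRing.of_finite k A
  haveI : Nontrivial A := H8FiniteHopf.nontrivial_self k A
  set e := Bialgebra.counitAlgHom k A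
  set M := RingHom.ker e
  haveI hker : ∀ χ : A →ₐ[k] k, (RingHom.ker χ).IsMaximal := fun χ =>
    RingHom.ker_isMaximal_of_surjective χ fun c => ⟨algebraMap k A c, by simp⟩
  -- stable power of the augmentation ideal
  obtain ⟨j, hj⟩ : ∃ j, ∀ i, j ≤ i → M ^ i = M ^ j := by
    obtain ⟨n, hn⟩ := IsArtinian.monotone_stabilizes (R := A) (M := A)
      ⟨fun i => OrderDual.toDual (M ^ i), fun a b hab => Ideal.pow_le_pow_right hab⟩
    exact ⟨n, fun i hi => (hn i hi).symm⟩
  set J := M ^ (j + 1) with hJ
  have hstab : ∀ i, j + 1 ≤ i → M ^ i = J := fun i hi => by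
    rw [hJ, hj i (by omega), hj (j + 1) (by omega)]
  have hJM : J ≤ M := Ideal.pow_le_self (by omega)
  obtain ⟨f, hf, hJf⟩ : ∃ f, IsIdempotentElem f ∧ J = Ideal.span {f} :=
    (Ideal.isIdempotentElem_iff_of_fg J (IsNoetherian.noetherian J)).mp (by
      show J * J = J
      rw [hJ, ← pow_add]
      exact hstab _ (by omega))
  haveI hnilq : ∀ g : A ⧸ J, g ∈ M.map (Ideal.Quotient.mk J) → IsNilpotent g := by
    intro g hg
    obtain ⟨a, ha, rfl⟩ := (Ideal.mem_map_iff_of_surjective _ Ideal.Quotient.mk_surjective).mp hg
    refine ⟨j + 1, ?_⟩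
    rw [← map_pow, Ideal.Quotient.eq_zero_iff_mem, hJ]
    exact Ideal.pow_mem_pow ha _
  haveI : Module.Finite k (A ⧸ J) :=
    Module.Finite.of_surjective (Ideal.Quotient.mkₐ k J).toLinearMap Ideal.Quotient.mk_surjective
  let eq : (A ⧸ J) →ₐ[k] k := Ideal.Quotient.liftₐ J e fun a ha => hJM ha
  have heq : ∀ g, eq g = 0 → IsNilpotent g := by
    intro g hg
    obtain ⟨a, rfl⟩ := Ideal.Quotient.mk_surjective g
    exact hnilq _ (Ideal.mem_map_of_mem _ hg)
  -- `J` is a Hopf ideal
  haveI : J.IsHopfIdeal k := by
    haveI := H8FiniteHopf.isCoideal_of_mkₐ (k := k) J (fun x hx => hJM hx) fun x hx => ?_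
    · refine ⟨fun x hx => ?_⟩
      have hS : M ≤ M.comap (HopfAlgebra.antipodeAlgHom k A) := fun a ha => by
        show CoalgebraStruct.counit (HopfAlgebra.antipode k a) = 0
        rw [HopfAlgebra.counit_antipode]
        exact ha
      have : J ≤ J.comap (HopfAlgebra.antipodeAlgHom k A) := by
        rw [hJ]
        exact (Ideal.pow_right_mono hS _).trans (Ideal.le_comap_pow _ _)
      exact this hx
    · let Φ := Algebra.TensorProduct.map (Ideal.Quotient.mkₐ k J) (Ideal.Quotient.mkₐ k J)
      let e2 : (A ⧸ J) ⊗[k] (A ⧸ J) →ₐ[k] k :=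
        Algebra.TensorProduct.lift eq eq fun _ _ => mul_comm _ _
      have hnil2 : ∀ z, IsNilpotent (z - algebraMap k ((A ⧸ J) ⊗[k] (A ⧸ J)) (e2 z)) := by
        intro z
        induction z using TensorProduct.induction_on with
        | zero => simp
        | add y w hy hw =>
          rw [map_add, map_add, add_sub_add_comm]
          exact (Commute.all _ _).isNilpotent_add hy hw
        | tmul a b =>
          have ha : IsNilpotent (a - algebraMap k _ (eq a)) := heq _ (by simp)
          have hb : IsNilpotent (b - algebraMap k _ (eq b)) := heq _ (by simp)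
          have hsplit : a ⊗ₜ[k] b - algebraMap k ((A ⧸ J) ⊗[k] (A ⧸ J)) (e2 (a ⊗ₜ[k] b)) =
              (Algebra.TensorProduct.includeLeft (S := k) (a - algebraMap k _ (eq a))) * (1 ⊗ₜ[k] b) +
              algebraMap k ((A ⧸ J) ⊗[k] (A ⧸ J)) (eq a) *
                Algebra.TensorProduct.includeRight (b - algebraMap k _ (eq b)) := by
            simp only [map_sub, AlgHom.commutes, e2, Algebra.TensorProduct.lift_tmul, map_mul,
              Algebra.TensorProduct.includeLeft_apply, Algebra.TensorProduct.includeRight_apply,
              sub_mul, mul_sub, Algebra.TensorProduct.tmul_mul_tmul, mul_one, one_mul]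
            simp only [Algebra.TensorProduct.algebraMap_apply, Algebra.TensorProduct.tmul_mul_tmul,
              mul_one, one_mul]
            abel
          rw [hsplit]
          exact mem_nilradical.mp (add_mem
            (Ideal.mul_mem_right _ _ (mem_nilradical.mpr (ha.map _)))
            (Ideal.mul_mem_left _ _ (mem_nilradical.mpr (hb.map _))))
      have he2 : ∀ z : A ⊗[k] A, e2 (Φ z) = e
          (TensorProduct.rid k A ((CoalgebraStruct.counit (R := k) (A := A)).lTensor A z)) := by
        intro z
        induction z using TensorProduct.induction_on with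
        | zero => simp
        | add y w hy hw => simp only [map_add, hy, hw]
        | tmul a b => simp [e2, Φ, eq, e, mul_comm]
      show Φ (CoalgebraStruct.comul (R := k) x) = 0
      suffices h : Ideal.span {f} ≤ RingHom.ker (Φ.comp (Bialgebra.comulAlgHom k A)) from
        h (hJf.le hx)
      rw [Ideal.span_le, Set.singleton_subset_iff, SetLike.mem_coe, RingHom.mem_ker]
      set g := Φ.comp (Bialgebra.comulAlgHom k A) f with hgdef
      have hid : IsIdempotentElem g := hf.map _
      have h0 : e2 g = 0 := by
        rw [hgdef, AlgHom.comp_apply, Bialgebra.comulAlgHom_apply, he2,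
          Coalgebra.lTensor_counit_comul, TensorProduct.rid_tmul, one_smul]
        exact hJM (hJf ▸ Ideal.mem_span_singleton_self f)
      have := hnil2 g
      rw [h0, map_zero, sub_zero] at this
      exact hid.eq_zero_of_isNilpotent this
  have hconn := pow_eq_one_of_connected (k := k) (A := A ⧸ J) fun g hg => by
    obtain ⟨a, rfl⟩ := Ideal.Quotient.mk_surjective g
    exact heq _ hg
  -- points
  have hpts : Function.Injective fun χ : WithConv (A →ₐ[k] k) =>
      (⟨RingHom.ker χ.ofConv, hker _⟩ : MaximalSpectrum A) := by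
    intro χ ψ h
    refine WithConv.ofConv_injective (AlgHom.ext fun a => ?_)
    have hm : a - algebraMap k A (χ.ofConv a) ∈ RingHom.ker ψ.ofConv := by
      have hh : RingHom.ker χ.ofConv = RingHom.ker ψ.ofConv := congrArg MaximalSpectrum.asIdeal h
      rw [← hh, RingHom.mem_ker]
      simp
    rw [RingHom.mem_ker, map_sub, AlgHom.commutes, sub_eq_zero] at hm
    exact hm.symm
  haveI : Finite (WithConv (A →ₐ[k] k)) := Finite.of_injective _ hpts
  haveI := Fintype.ofFinite (WithConv (A →ₐ[k] k))
  set n := Fintype.card (WithConv (A →ₐ[k] k))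
  set φ := toConv (AlgHom.id k A) ^ n with hφ
  -- `φ` kills `J`
  have hφf : φ.ofConv f = 0 := by
    refine (hf.map φ.ofConv).eq_zero_of_isNilpotent (mem_nilradical.mp ?_)
    rw [nilradical_eq_sInf, Ideal.mem_sInf]
    intro P hP
    haveI : P.IsPrime := hP
    haveI : P.IsMaximal := IsArtinianRing.isMaximal_of_isPrime P
    obtain ⟨χ, hχ⟩ := exists_point (k := k) P
    rw [← hχ, RingHom.mem_ker]
    show (χ.comp φ.ofConv) f = 0
    rw [hφ, comp_pow, WithConv.ofConv_toConv, AlgHom.comp_id,
      pow_card_eq_one, AlgHom.convOne_apply, Algebra.algebraMap_self]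
    exact hJM (hJf ▸ Ideal.mem_span_singleton_self f)
  have hφJ : ∀ a ∈ J, φ.ofConv a = 0 := by
    intro a ha
    rw [hJf, Ideal.mem_span_singleton] at ha
    obtain ⟨c, rfl⟩ := ha
    rw [map_mul, hφf, zero_mul]
  let g : (A ⧸ J) →ₐ[k] A := Ideal.Quotient.liftₐ J φ.ofConv hφJ
  set N₀ := Module.finrank k (A ⧸ J)
  have hkill : φ ^ N₀ = 1 := by
    have hφg : φ = toConv (g.comp (Ideal.Quotient.mkₐ k J)) :=
      WithConv.ofConv_injective (AlgHom.ext fun a => rfl)
    have hmk : ∀ i : ℕ, (toConv (Ideal.Quotient.mkₐ k J) ^ i).ofConv =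
        ((toConv (AlgHom.id k (A ⧸ J)) ^ i).ofConv).comp
          ((Bialgebra.Quotient.mkBialgHom (R := k) J : A →ₐc[k] A ⧸ J) : A →ₐ[k] A ⧸ J) := by
      intro i
      induction i with
      | zero =>
        rw [pow_zero, pow_zero]
        exact AlgHom.ext fun a => by simp [AlgHom.convOne_apply]
      | succ i ih =>
        rw [pow_succ, pow_succ, AlgHom.convMul_comp_bialgHom_distrib, ← ih, WithConv.toConv_ofConv]
        rfl
    refine WithConv.ofConv_injective ?_
    rw [hφg, ← WithConv.ofConv_toConv (Ideal.Quotient.mkₐ k J)]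
    conv_lhs => rw [← comp_pow g (toConv (Ideal.Quotient.mkₐ k J)) N₀, hmk, hconn]
    exact AlgHom.ext fun a => by simp [AlgHom.convOne_apply]
  -- counting
  have hcount : Module.finrank k A = n * N₀ := by
    let L : A →ₗ[k] (WithConv (A →ₐ[k] k) → A ⧸ J) :=
      LinearMap.pi fun χ => (Ideal.Quotient.mkₐ k J).toLinearMap ∘ₗ (translate χ).toLinearMap
    have hinv : ∀ χ : WithConv (A →ₐ[k] k), ∀ a,
        translate χ⁻¹ (translate χ a) = a ∧ translate χ (translate χ⁻¹ a) = a := by
      intro χ a
      constructor
      · rw [← AlgHom.comp_apply, translate_comp, mul_inv_cancel, translate_one]; rfl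
      · rw [← AlgHom.comp_apply, translate_comp, inv_mul_cancel, translate_one]; rfl
    have hmap : ∀ χ : WithConv (A →ₐ[k] k), ∀ a,
        translate χ a ∈ J ↔ a ∈ RingHom.ker χ.ofConv ^ (j + 1) := by
      intro χ
      let τ : A ≃+* A :=
        { toFun := translate χ
          invFun := translate χ⁻¹
          left_inv := fun a => (hinv χ a).1
          right_inv := fun a => (hinv χ a).2
          map_mul' := map_mul _
          map_add' := map_add _ }
      intro a
      have hM' : M.map τ.symm = RingHom.ker χ.ofConv := by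
        rw [Ideal.map_symm]
        refine Ideal.ext fun b => ?_
        show e (translate χ b) = 0 ↔ _
        rw [← AlgHom.comp_apply, counit_comp_translate]
        rfl
      rw [← hM', ← Ideal.map_pow, Ideal.map_symm]
      rfl
    have hcop : Pairwise (Function.onFun IsCoprime
        fun χ : WithConv (A →ₐ[k] k) => RingHom.ker χ.ofConv ^ (j + 1)) := by
      intro χ ψ hne
      refine IsCoprime.pow (Ideal.isCoprime_iff_sup_eq.mpr
        ((hker χ.ofConv).coprime_of_ne (hker ψ.ofConv) ?_))
      intro h
      exact hne (hpts (MaximalSpectrum.ext h))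
    have hbij : Function.Bijective L := by
      constructor
      · refine (injective_iff_map_eq_zero _).mpr fun a ha => ?_
        obtain ⟨N, hN⟩ := IsArtinianRing.isNilpotent_nilradical (R := A)
        have hall : ∀ χ : WithConv (A →ₐ[k] k), ∀ i, j + 1 ≤ i → a ∈ RingHom.ker χ.ofConv ^ i := by
          intro χ i hi
          have h0 : translate χ a ∈ J := Ideal.Quotient.eq_zero_iff_mem.mp (congrFun ha χ)
          let τ : A ≃+* A :=
            { toFun := translate χ
              invFun := translate χ⁻¹
              left_inv := fun a => (hinv χ a).1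
              right_inv := fun a => (hinv χ a).2
              map_mul' := map_mul _
              map_add' := map_add _ }
          have hM' : M.map τ.symm = RingHom.ker χ.ofConv := by
            rw [Ideal.map_symm]
            refine Ideal.ext fun b => ?_
            show e (translate χ b) = 0 ↔ _
            rw [← AlgHom.comp_apply, counit_comp_translate]
            rfl
          rw [← hM', ← Ideal.map_pow, Ideal.map_symm, hstab i hi]
          exact h0
        have hinf : a ∈ ∏ χ : WithConv (A →ₐ[k] k), RingHom.ker χ.ofConv ^ (N + (j + 1)) := by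
          rw [Ideal.prod_eq_iInf_of_pairwise_isCoprime]
          · simp only [Submodule.mem_iInf]
            exact fun χ _ => hall χ _ (by omega)
          · intro χ _ ψ _ hne
            exact IsCoprime.pow (Ideal.isCoprime_iff_sup_eq.mpr
              ((hker χ.ofConv).coprime_of_ne (hker ψ.ofConv) fun h => hne (hpts (MaximalSpectrum.ext h))))
        rw [Finset.prod_pow] at hinf
        have hle : (∏ χ : WithConv (A →ₐ[k] k), RingHom.ker χ.ofConv) ≤ nilradical A := by
          rw [nilradical_eq_sInf]
          refine le_sInf fun P hP => ?_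
          haveI : P.IsPrime := hP
          haveI : P.IsMaximal := IsArtinianRing.isMaximal_of_isPrime P
          obtain ⟨χ, hχ⟩ := exists_point (k := k) P
          exact (Ideal.prod_le_inf.trans (Finset.inf_le (Finset.mem_univ (toConv χ)))).trans hχ.le
        have := Ideal.pow_right_mono hle _ hinf
        rw [pow_add, hN, Ideal.zero_eq_bot, Ideal.bot_mul, Submodule.mem_bot] at this
        exact this
      · intro y
        choose x hx using fun χ => Ideal.Quotient.mk_surjective (y χ)
        obtain ⟨a, ha⟩ := Ideal.exists_forall_sub_mem_ideal hcop fun χ => translate χ⁻¹ (x χ)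
        refine ⟨a, funext fun χ => ?_⟩
        show Ideal.Quotient.mk J (translate χ a) = y χ
        rw [← hx χ, Ideal.Quotient.eq]
        have := (hmap χ _).mpr (ha χ)
        rwa [map_sub, (hinv χ _).2] at this
    rw [(LinearEquiv.ofBijective L hbij).finrank_eq, Module.finrank_pi_fintype, Finset.sum_const,
      Finset.card_univ, smul_eq_mul]
  rw [hcount, pow_mul]
  exact hkill

end Groth.Agent.H8FiniteKill
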