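import Mathlib
import Groth.Agent.Lib.H8FiniteKill

/-!
# Faithful flatness over a Noetherian Hopf subalgebra
-/

set_option autoImplicit false

universe u v w x

open TensorProduct WithConv

namespace Groth.Agent.H8HopfFF

/-! ## Flatness over an Artinian ring -/

/-- Descent of flatness along an injective map out of a local ring with nilpotent maximal ideal. -/
theorem flat_of_isNilpotent_maximalIdeal {R : Type u} [CommRing R] [IsLocalRing R]
    (hnil : IsNilpotent (IsLocalRing.maximalIdeal R)) {S : Type v} [CommRing S] [Algebra R S]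
    (hinj : Function.Injective (algebraMap R S)) (M : Type w) [AddCommGroup M] [Module R M]
    [Module.Flat S (S ⊗[R] M)] : Module.Flat R M := by
  classical
  set m := IsLocalRing.maximalIdeal R with hm
  let k := IsLocalRing.ResidueField R
  let b := Module.Free.chooseBasis k (k ⊗[R] M)
  have hsurj : Function.Surjective (TensorProduct.mk R k M 1) := fun z => by
    induction z using TensorProduct.induction_on with
    | zero => exact ⟨0, map_zero _⟩
    | add y z hy hz =>
      obtain ⟨y', rfl⟩ := hy
      obtain ⟨z', rfl⟩ := hz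
      exact ⟨y' + z', map_add _ _ _⟩
    | tmul r y =>
      obtain ⟨r', rfl⟩ := IsLocalRing.residue_surjective r
      refine ⟨r' • y, ?_⟩
      rw [TensorProduct.mk_apply, ← TensorProduct.smul_tmul, Algebra.smul_def, mul_one]
      rfl
  choose e he using fun i => hsurj (b i)
  -- generation
  have hspan : ⊤ ≤ Submodule.span R (Set.range e) := by
    set N := Submodule.span R (Set.range e)
    have h1 : (⊤ : Submodule R M) ≤ N ⊔ m • ⊤ := by
      intro y _
      obtain ⟨c, hc⟩ : ∃ c : Module.Free.ChooseBasisIndex k (k ⊗[R] M) →₀ R,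
          (1 : k) ⊗ₜ[R] Finsupp.linearCombination R e c = (1 : k) ⊗ₜ[R] y := by
        have hmem : (1 : k) ⊗ₜ[R] y ∈ (Submodule.span R (Set.range e)).map (TensorProduct.mk R k M 1) := by
          have hb : (Submodule.span k (Set.range b)).restrictScalars R ≤
              (Submodule.span R (Set.range e)).map (TensorProduct.mk R k M 1) := by
            intro z hz
            refine Submodule.span_induction (fun z hz => ?_) (zero_mem _)
              (fun _ _ _ _ h h' => add_mem h h') (fun r z _ h => ?_) hz
            · obtain ⟨i, rfl⟩ := hz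
              exact ⟨e i, Submodule.subset_span ⟨i, rfl⟩, he i⟩
            · obtain ⟨r', rfl⟩ := IsLocalRing.residue_surjective r
              exact Submodule.smul_mem _ r' h
          exact hb (by rw [b.span_eq]; trivial)
        obtain ⟨n, hn, hn'⟩ := hmem
        obtain ⟨c, rfl⟩ := (Finsupp.mem_span_range_iff_exists_finsupp).mp hn
        exact ⟨c, hn'⟩
      refine Submodule.mem_sup.mpr ⟨Finsupp.linearCombination R e c, ?_, y - Finsupp.linearCombination R e c,
        ?_, by abel⟩
      · rw [Finsupp.linearCombination_apply]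
        exact Submodule.sum_mem _ fun i _ => Submodule.smul_mem _ _ (Submodule.subset_span ⟨i, rfl⟩)
      · have h0 : (1 : k) ⊗ₜ[R] (y - Finsupp.linearCombination R e c) = 0 := by
          rw [TensorProduct.tmul_sub, hc, sub_self]
        have := (congrArg (TensorProduct.quotTensorEquivQuotSMul M m) h0).trans
          (LinearEquiv.map_zero _)
        change TensorProduct.quotTensorEquivQuotSMul M m (Ideal.Quotient.mk m 1 ⊗ₜ[R] _) = 0 at this
        rw [TensorProduct.quotTensorEquivQuotSMul_mk_tmul, one_smul, Submodule.Quotient.mk_eq_zero] at this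
        exact this
    have h2 : ∀ n, (⊤ : Submodule R M) ≤ N ⊔ (m ^ n) • ⊤ := by
      intro n
      induction n with
      | zero => rw [pow_zero, one_smul]; exact le_sup_right
      | succ n ih =>
        refine ih.trans (sup_le le_sup_left ?_)
        calc (m ^ n) • (⊤ : Submodule R M) ≤ (m ^ n) • (N ⊔ m • ⊤) := Submodule.smul_mono le_rfl h1
          _ ≤ N ⊔ (m ^ (n + 1)) • ⊤ := by
            rw [Submodule.smul_sup, ← Submodule.smul_assoc, smul_eq_mul, ← pow_succ]
            exact sup_le_sup_right Submodule.smul_le_right _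
    obtain ⟨n, hn⟩ := hnil
    have := h2 n
    rwa [hn, Submodule.zero_eq_bot, Submodule.bot_smul, sup_bot_eq] at this
  -- independence
  have hli : LinearIndependent R e := by
    rw [linearIndependent_iff']
    intro s g hg i hi
    let x : s → S ⊗[R] M := fun l => (1 : S) ⊗ₜ[R] e l
    have hrel : ∑ l : s, algebraMap R S (g l) • x l = 0 := by
      simp only [x, algebraMap_smul, ← TensorProduct.tmul_smul, ← TensorProduct.tmul_sum]
      rw [← Finset.sum_coe_sort s] at hg
      rw [hg, TensorProduct.tmul_zero]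
    obtain ⟨n, a, y, hy, ha⟩ := Module.Flat.isTrivialRelation_of_sum_smul_eq_zero hrel
    let J : Ideal S := m.map (algebraMap R S)
    -- coordinates modulo `J`
    let qa : (R ⧸ m) →ₐ[R] S ⧸ J := Ideal.Quotient.liftₐ m (Algebra.ofId R (S ⧸ J)) fun r hr => by
      show algebraMap R (S ⧸ J) r = 0
      rw [IsScalarTower.algebraMap_apply R S (S ⧸ J)]
      exact Ideal.Quotient.eq_zero_iff_mem.mpr (Ideal.mem_map_of_mem _ hr)
    let lam : s → (S ⊗[R] M →ₗ[S] S ⧸ J) := fun l =>
      LinearMap.liftBaseChange S ((qa.toLinearMap : k →ₗ[R] S ⧸ J) ∘ₗ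
        ((b.coord l).restrictScalars R) ∘ₗ TensorProduct.mk R k M 1)
    have hlam : ∀ l l' : s, lam l (x l') = if l = l' then 1 else 0 := by
      intro l l'
      show (1 : S) • qa (b.coord l ((1 : k) ⊗ₜ[R] e l')) = _
      rw [one_smul, show (1 : k) ⊗ₜ[R] e (l' : Module.Free.ChooseBasisIndex k (k ⊗[R] M)) = b l' from he _]
      simp only [Module.Basis.coord_apply, Module.Basis.repr_self, Finsupp.single_apply, Subtype.coe_inj]
      split_ifs with h1 h2 h2
      · exact map_one qa
      · exact absurd h1.symm h2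
      · exact absurd h2.symm h1
      · exact map_zero qa
    choose c hc using fun (j : Fin n) (l : s) => Ideal.Quotient.mk_surjective (lam l (y j))
    let Am : Matrix s (Fin n) S := Matrix.of a
    let Cm : Matrix (Fin n) s S := Matrix.of c
    have hAC : (Ideal.Quotient.mk J).mapMatrix (Am * Cm) = 1 := by
      refine Matrix.ext fun l' l => ?_
      rw [RingHom.mapMatrix_apply, Matrix.map_apply, Matrix.mul_apply, map_sum, Matrix.one_apply]
      have := hlam l l'
      rw [hy l', map_sum] at this
      simp only [map_smul] at this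
      rw [show (if l' = l then (1 : S ⧸ J) else 0) = if l = l' then 1 else 0 by simp [eq_comm], ← this]
      refine Finset.sum_congr rfl fun j _ => ?_
      rw [map_mul, ← hc j l]
      rfl
    have hJnil : J ≤ nilradical S := by
      obtain ⟨N, hN⟩ := hnil
      refine Ideal.map_le_iff_le_comap.mpr fun r hr => ?_
      refine mem_nilradical.mpr ⟨N, ?_⟩
      have : r ^ N ∈ m ^ N := Ideal.pow_mem_pow hr _
      rw [hN, Submodule.zero_eq_bot, Submodule.mem_bot] at this
      rw [← map_pow, this, map_zero]
    have hdet : IsUnit (Am * Cm).det := by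
      have h1 : Ideal.Quotient.mk J (Am * Cm).det = 1 := by rw [RingHom.map_det, hAC, Matrix.det_one]
      rw [← map_one (Ideal.Quotient.mk J), Ideal.Quotient.eq] at h1
      have := (mem_nilradical.mp (hJnil h1)).isUnit_add_one
      rwa [sub_add_cancel] at this
    have hv : Matrix.vecMul (fun l : s => algebraMap R S (g l)) (Am * Cm) = 0 := by
      rw [← Matrix.vecMul_vecMul]
      have : Matrix.vecMul (fun l : s => algebraMap R S (g l)) Am = 0 := funext fun j => by
        simpa [Matrix.vecMul, dotProduct, Am] using ha j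
      rw [this, Matrix.zero_vecMul]
    have := congrArg (fun v => Matrix.vecMul v (Am * Cm)⁻¹) hv
    simp only [Matrix.vecMul_vecMul, Matrix.mul_nonsing_inv _ hdet, Matrix.vecMul_one,
      Matrix.zero_vecMul] at this
    exact hinj ((congrFun this ⟨i, hi⟩).trans (map_zero _).symm)
  haveI : Module.Free R M := Module.Free.of_basis (Module.Basis.mk hli hspan)
  infer_instance

/-! ## The translation torsor -/

section Torsor

variable {k : Type u} [Field k] {B : Type w} [CommRing B] [HopfAlgebra k B]
  {A : Type v} [CommRing A] [HopfAlgebra k A] (f : B →ₐc[k] A)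

/-- The base map twisted by `f`: a `B`-algebra `B'` gives the `B`-algebra `A ⊗ B'`. -/
noncomputable def twHom (B' : Type x) [CommRing B'] [Algebra k B'] [Algebra B B']
    [IsScalarTower k B B'] : B →ₐ[k] A ⊗[k] B' :=
  (toConv ((Algebra.TensorProduct.includeLeft : A →ₐ[k] A ⊗[k] B').comp (f : B →ₐ[k] A)) *
    toConv ((Algebra.TensorProduct.includeRight : B' →ₐ[k] A ⊗[k] B').comp
      (IsScalarTower.toAlgHom k B B'))).ofConv

/-- `A ⊗ B'` with the twisted `B`-structure. -/
def Tw (_f : B →ₐc[k] A) (B' : Type x) [CommRing B'] [Algebra k B'] : Type (max v x) := A ⊗[k] B'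

variable (B' : Type x) [CommRing B'] [Algebra k B']

noncomputable instance : CommRing (Tw f B') := inferInstanceAs (CommRing (A ⊗[k] B'))

noncomputable instance : Algebra k (Tw f B') := inferInstanceAs (Algebra k (A ⊗[k] B'))

variable [Algebra B B'] [IsScalarTower k B B']

noncomputable instance : Algebra B (Tw f B') := (twHom f B').toRingHom.toAlgebra

instance : IsScalarTower k B (Tw f B') :=
  IsScalarTower.of_algebraMap_eq fun c => ((twHom f B').commutes c).symm

/-- The identification. -/
noncomputable def toTw : A ⊗[k] B' →ₐ[k] Tw f B' := AlgHom.id k (A ⊗[k] B')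

lemma algebraMap_tw (b : B) : algebraMap B (Tw f B') b = toTw f B' (twHom f B' b) := rfl

/-- Left inclusion. -/
noncomputable def inA : A →ₐ[k] Tw f B' := (toTw f B').comp Algebra.TensorProduct.includeLeft

/-- Right inclusion. -/
noncomputable def inR : B' →ₐ[k] Tw f B' := (toTw f B').comp Algebra.TensorProduct.includeRight

lemma toAlgHom_tw : IsScalarTower.toAlgHom k B (Tw f B') =
    (toConv ((inA f B').comp (f : B →ₐ[k] A)) *
      toConv ((inR f B').comp (IsScalarTower.toAlgHom k B B'))).ofConv := by
  have : IsScalarTower.toAlgHom k B (Tw f B') = (toTw f B').comp (twHom f B') := AlgHom.ext fun b => rfl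
  rw [this, twHom, AlgHom.comp_convMul_distrib]
  rfl

variable [Algebra B A] [IsScalarTower k B A]

/-- `Tw` is functorial. -/
noncomputable def twMap : Tw f B' →ₐ[B] Tw f (B' ⊗[B] A) :=
  let F : Tw f B' →ₐ[k] Tw f (B' ⊗[B] A) := (toTw f _).comp (Algebra.TensorProduct.map (AlgHom.id k A)
    ((Algebra.TensorProduct.includeLeft : B' →ₐ[B] B' ⊗[B] A).restrictScalars k))
  { F with
    commutes' := fun b => by
      have : F.comp (IsScalarTower.toAlgHom k B (Tw f B')) =
          IsScalarTower.toAlgHom k B (Tw f (B' ⊗[B] A)) := by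
        rw [toAlgHom_tw, toAlgHom_tw, AlgHom.comp_convMul_distrib]
        congr 3 <;>
        · refine AlgHom.ext fun a => ?_
          simp [F, inA, inR, toTw]
      exact AlgHom.congr_fun this b }

/-- The coaction on `A` twisted. -/
noncomputable def chiHom : WithConv (A →ₐ[k] Tw f (B' ⊗[B] A)) :=
  toConv (inA f _) * toConv ((inR f _).comp
    ((Algebra.TensorProduct.includeRight : A →ₐ[B] B' ⊗[B] A).restrictScalars k))

variable (hf : IsScalarTower.toAlgHom k B A = (f : B →ₐ[k] A))

include hf in
lemma includeRight_comp :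
    (((Algebra.TensorProduct.includeRight : A →ₐ[B] B' ⊗[B] A).restrictScalars k)).comp
      (f : B →ₐ[k] A) = IsScalarTower.toAlgHom k B (B' ⊗[B] A) := by
  rw [← hf]
  exact AlgHom.ext fun b => (Algebra.TensorProduct.includeRight : A →ₐ[B] B' ⊗[B] A).commutes b

/-- The coaction as a map of `B`-algebras. -/
noncomputable def chi : A →ₐ[B] Tw f (B' ⊗[B] A) :=
  { (chiHom f B').ofConv with
    commutes' := fun b => by
      have : ((chiHom f B').ofConv).comp (f : B →ₐ[k] A) =
          IsScalarTower.toAlgHom k B (Tw f (B' ⊗[B] A)) := by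
        rw [chiHom, AlgHom.convMul_comp_bialgHom_distrib, toAlgHom_tw, WithConv.ofConv_toConv,
          WithConv.ofConv_toConv, AlgHom.comp_assoc, includeRight_comp f B' hf]
      rw [← hf] at this
      exact AlgHom.congr_fun this b }

/-- The comparison map. -/
noncomputable def psi : Tw f B' ⊗[B] A →ₐ[B] Tw f (B' ⊗[B] A) :=
  Algebra.TensorProduct.lift (twMap f B') (chi f B' hf) fun _ _ => mul_comm _ _

/-- `Tw B' ⊗ A` with the structure coming from `B'`. -/
def Tg : Type (max v x) := Tw f B' ⊗[B] A

noncomputable instance : CommRing (Tg f B') := inferInstanceAs (CommRing (Tw f B' ⊗[B] A))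

noncomputable instance : Algebra k (Tg f B') := inferInstanceAs (Algebra k (Tw f B' ⊗[B] A))

/-- The left inclusion. -/
noncomputable def inL : Tw f B' →ₐ[k] Tg f B' :=
  (Algebra.TensorProduct.includeLeft : Tw f B' →ₐ[k] Tw f B' ⊗[B] A)

/-- The right inclusion. -/
noncomputable def inRt : A →ₐ[k] Tg f B' :=
  (Algebra.TensorProduct.includeRight : A →ₐ[B] Tw f B' ⊗[B] A).restrictScalars k

/-- The `B'`-component. -/
noncomputable def inB' : B' →ₐ[k] Tg f B' := (inL f B').comp (inR f B')

noncomputable instance : Algebra B (Tg f B') :=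
  ((inB' f B').comp (IsScalarTower.toAlgHom k B B')).toRingHom.toAlgebra

instance : IsScalarTower k B (Tg f B') :=
  IsScalarTower.of_algebraMap_eq fun c =>
    (((inB' f B').comp (IsScalarTower.toAlgHom k B B')).commutes c).symm

/-- The `A`-component. -/
noncomputable def tauHom : WithConv (A →ₐ[k] Tg f B') :=
  toConv (((inL f B').comp (inA f B')).comp (HopfAlgebra.antipodeAlgHom k A)) * toConv (inRt f B')

omit [Algebra B A] [IsScalarTower k B A] in
lemma antipode_mul_cancel {C : Type*} [CommRing C] [Algebra k C] (g : A →ₐ[k] C) :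
    toConv (g.comp (HopfAlgebra.antipodeAlgHom k A)) * toConv g = 1 := by
  have h := congrArg (fun z : WithConv (A →ₐ[k] A) => g.comp z.ofConv)
    (AlgHom.antipode_id_cancel (R := k) (A := A))
  rw [AlgHom.comp_convMul_distrib, H8FiniteKill.comp_one] at h
  exact WithConv.ofConv_injective h

omit [Algebra B A] [IsScalarTower k B A] in
lemma mul_antipode_cancel {C : Type*} [CommRing C] [Algebra k C] (g : A →ₐ[k] C) :
    toConv g * toConv (g.comp (HopfAlgebra.antipodeAlgHom k A)) = 1 := by
  have h : ((toConv (LinearMap.id (R := k) (M := A))) *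
      toConv (HopfAlgebra.antipode k (A := A))) = 1 := LinearMap.id_mul_antipode
  have h' : toConv (AlgHom.id k A) * toConv (HopfAlgebra.antipodeAlgHom k A) = 1 :=
    WithConv.ofConv_injective (AlgHom.toLinearMap_injective (WithConv.toConv_injective
      ((AlgHom.toLinearMap_convMul _ _).trans (h.trans AlgHom.toLinearMap_convOne.symm))))
  have h2 := congrArg (fun z : WithConv (A →ₐ[k] A) => g.comp z.ofConv) h'
  rw [AlgHom.comp_convMul_distrib, H8FiniteKill.comp_one] at h2
  exact WithConv.ofConv_injective h2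

include hf in
lemma tau_comp : ((tauHom f B').ofConv).comp (f : B →ₐ[k] A) =
    (inB' f B').comp (IsScalarTower.toAlgHom k B B') := by
  have h1 : (inRt f B').comp (f : B →ₐ[k] A) =
      (inL f B').comp (IsScalarTower.toAlgHom k B (Tw f B')) := by
    rw [← hf]
    refine AlgHom.ext fun b => ?_
    exact ((Algebra.TensorProduct.includeRight : A →ₐ[B] Tw f B' ⊗[B] A).commutes b)
  rw [tauHom, AlgHom.convMul_comp_bialgHom_distrib, WithConv.ofConv_toConv, WithConv.ofConv_toConv, h1,
    toAlgHom_tw, AlgHom.comp_convMul_distrib]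
  simp only [WithConv.ofConv_toConv, WithConv.toConv_ofConv]
  rw [← mul_assoc]
  have h2 := congrArg (fun z : WithConv (A →ₐ[k] Tg f B') => z.ofConv.comp (f : B →ₐ[k] A))
    (antipode_mul_cancel ((inL f B').comp (inA f B')))
  rw [AlgHom.convMul_comp_bialgHom_distrib] at h2
  have h3 : toConv ((((inL f B').comp (inA f B')).comp (HopfAlgebra.antipodeAlgHom k A)).comp (f : B →ₐ[k] A)) *
      toConv ((inL f B').comp ((inA f B').comp (f : B →ₐ[k] A))) = 1 := by
    refine WithConv.ofConv_injective (h2.trans ?_)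
    refine AlgHom.ext fun b => ?_
    simp [AlgHom.convOne_apply]
  rw [h3, one_mul]
  rfl

/-- The `A`-component as a map of `B`-algebras. -/
noncomputable def tau : A →ₐ[B] Tg f B' :=
  { (tauHom f B').ofConv with
    commutes' := fun b => by
      have h := AlgHom.congr_fun (tau_comp f B' hf) b
      rw [← hf] at h
      exact h }

/-- The inverse comparison map. -/
noncomputable def phi : A ⊗[k] (B' ⊗[B] A) →ₐ[k] Tg f B' :=
  Algebra.TensorProduct.lift
    ((inL f B').comp (inA f B'))
    ((Algebra.TensorProduct.lift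
      ({ inB' f B' with commutes' := fun b => rfl } : B' →ₐ[B] Tg f B') (tau f B' hf)
      fun _ _ => mul_comm _ _).restrictScalars k) fun _ _ => mul_comm _ _

lemma psi_tmul_one (x : Tw f B') : psi f B' hf (x ⊗ₜ[B] 1) = twMap f B' x := by
  simp [psi]

lemma psi_inA (a : A) : psi f B' hf (inA f B' a ⊗ₜ[B] 1) = inA f _ a := by
  rw [psi_tmul_one]; rfl

lemma psi_inR (b : B') : psi f B' hf (inR f B' b ⊗ₜ[B] 1) = inR f _ (b ⊗ₜ[B] 1) := by
  rw [psi_tmul_one]; rfl

lemma psi_phi (z : A ⊗[k] (B' ⊗[B] A)) : psi f B' hf (phi f B' hf z) = toTw f _ z := by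
  let Ψ : Tg f B' →ₐ[k] Tw f (B' ⊗[B] A) := (psi f B' hf).restrictScalars k
  suffices h : Ψ.comp (phi f B' hf) = toTw f _ from AlgHom.congr_fun h z
  refine Algebra.TensorProduct.ext' fun a w => ?_
  induction w using TensorProduct.induction_on with
  | zero => simp
  | add y z hy hz => simp only [TensorProduct.tmul_add, map_add, hy, hz]
  | tmul b a' =>
    have htau : Ψ.comp (tauHom f B').ofConv = (inR f (B' ⊗[B] A)).comp
        ((Algebra.TensorProduct.includeRight : A →ₐ[B] B' ⊗[B] A).restrictScalars k) := by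
      rw [tauHom, AlgHom.comp_convMul_distrib, WithConv.ofConv_toConv, WithConv.ofConv_toConv]
      rw [show Ψ.comp (((inL f B').comp (inA f B')).comp (HopfAlgebra.antipodeAlgHom k A)) =
          (inA f _).comp (HopfAlgebra.antipodeAlgHom k A) from AlgHom.ext fun a => psi_inA f B' hf _]
      rw [show Ψ.comp (inRt f B') =
          (chiHom f B').ofConv from AlgHom.ext fun a => by
            show psi f B' hf (1 ⊗ₜ[B] a) = _
            simp [psi, chi]]
      rw [WithConv.toConv_ofConv, chiHom, ← mul_assoc, antipode_mul_cancel, one_mul, WithConv.ofConv_toConv]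
    have h1 : phi f B' hf (a ⊗ₜ[k] (b ⊗ₜ[B] a')) = inL f B' (inA f B' a) *
        (inL f B' (inR f B' b) * (tauHom f B').ofConv a') := by
      simp [phi, tau, inB']
    show Ψ (phi f B' hf (a ⊗ₜ[k] (b ⊗ₜ[B] a'))) = _
    rw [h1, map_mul, map_mul]
    rw [show Ψ ((tauHom f B').ofConv a') = inR f _ (1 ⊗ₜ[B] a') from AlgHom.congr_fun htau a']
    show psi f B' hf (_ ⊗ₜ[B] 1) * (psi f B' hf (_ ⊗ₜ[B] 1) * _) = _
    rw [psi_inA, psi_inR, ← map_mul (inR f (B' ⊗[B] A))]
    simp only [inA, inR, AlgHom.comp_apply, ← map_mul, Algebra.TensorProduct.includeLeft_apply,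
      Algebra.TensorProduct.includeRight_apply, Algebra.TensorProduct.tmul_mul_tmul, mul_one, one_mul]

lemma phi_psi (z : Tw f B' ⊗[B] A) :
    phi f B' hf ((psi f B' hf z : Tw f (B' ⊗[B] A)) : A ⊗[k] (B' ⊗[B] A)) = (z : Tg f B') := by
  induction z using TensorProduct.induction_on with
  | zero => exact map_zero _
  | add y z hy hz =>
    rw [map_add]
    exact (map_add (phi f B' hf) _ _).trans (congrArg₂ (· + ·) hy hz)
  | tmul x a' =>
    let Φ : Tw f (B' ⊗[B] A) →ₐ[k] Tg f B' := phi f B' hf
    show Φ (psi f B' hf (x ⊗ₜ[B] a')) = _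
    rw [show psi f B' hf (x ⊗ₜ[B] a') = twMap f B' x * (chiHom f B').ofConv a' by simp [psi, chi],
      map_mul]
    have h1 : Φ.comp ((twMap f B').restrictScalars k) = inL f B' := by
      refine Algebra.TensorProduct.ext' fun a b => ?_
      show phi f B' hf (a ⊗ₜ[k] (b ⊗ₜ[B] (1 : A))) = _
      simp [phi, inB']
      rw [← map_mul]
      refine congrArg (inL f B') ?_
      show ((a ⊗ₜ[k] (1 : B')) * ((1 : A) ⊗ₜ[k] b) : A ⊗[k] B') = a ⊗ₜ[k] b
      rw [Algebra.TensorProduct.tmul_mul_tmul, mul_one, one_mul]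
    have h2 : Φ.comp (chiHom f B').ofConv = inRt f B' := by
      rw [chiHom, AlgHom.comp_convMul_distrib, WithConv.ofConv_toConv, WithConv.ofConv_toConv]
      rw [show Φ.comp (inA f (B' ⊗[B] A)) =
          (inL f B').comp (inA f B') from
        AlgHom.ext fun a => by
          show phi f B' hf (a ⊗ₜ[k] 1) = _
          simp [phi]]
      rw [show Φ.comp ((inR f (B' ⊗[B] A)).comp
          ((Algebra.TensorProduct.includeRight : A →ₐ[B] B' ⊗[B] A).restrictScalars k)) =
          (tauHom f B').ofConv from AlgHom.ext fun a => by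
            show phi f B' hf (1 ⊗ₜ[k] (1 ⊗ₜ[B] a)) = _
            simp [phi, tau]]
      rw [WithConv.toConv_ofConv, tauHom, ← mul_assoc, mul_antipode_cancel, one_mul,
        WithConv.ofConv_toConv]
    rw [show Φ (twMap f B' x) = ((x ⊗ₜ[B] (1 : A) : Tw f B' ⊗[B] A)) from AlgHom.congr_fun h1 x,
      show Φ ((chiHom f B').ofConv a') = ((1 : Tw f B') ⊗ₜ[B] a') from AlgHom.congr_fun h2 a']
    show (x ⊗ₜ[B] (1 : A)) * ((1 : Tw f B') ⊗ₜ[B] a') = x ⊗ₜ[B] a'
    rw [Algebra.TensorProduct.tmul_mul_tmul, mul_one, one_mul]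

include hf in
/-- Flatness of the pullback along the twisted base map. -/
theorem flat_tw (hflat : (algebraMap B' (B' ⊗[B] A)).Flat) :
    (Algebra.TensorProduct.includeLeftRingHom : Tw f B' →+* Tw f B' ⊗[B] A).Flat := by
  let e : Tw f B' ⊗[B] A ≃+* Tw f (B' ⊗[B] A) := RingEquiv.ofBijective (psi f B' hf).toRingHom
    ⟨fun y z h => (phi_psi f B' hf y).symm.trans ((congrArg (phi f B' hf) h).trans (phi_psi f B' hf z)),
      fun z => ⟨phi f B' hf z, psi_phi f B' hf z⟩⟩
  have h : (Algebra.TensorProduct.includeLeftRingHom : Tw f B' →+* Tw f B' ⊗[B] A) =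
      e.symm.toRingHom.comp (twMap f B').toRingHom := by
    refine RingHom.ext fun x => e.injective ?_
    show e _ = e (e.symm _)
    rw [e.apply_symm_apply]
    show psi f B' hf (x ⊗ₜ[B] 1) = _
    simp [psi]
  rw [h]
  refine RingHom.Flat.comp ?_ (RingHom.Flat.of_bijective e.symm.bijective)
  exact RingHom.Flat.tensorProductMap (R := k) (S := k) (f := AlgHom.id k A)
    (g := ((Algebra.TensorProduct.includeLeft : B' →ₐ[B] B' ⊗[B] A).restrictScalars k))
    (RingHom.Flat.of_bijective Function.bijective_id) hflat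

end Torsor

/-! ## Surjectivity -/

section Surj

variable {k : Type u} [Field k] {B : Type w} [CommRing B] [HopfAlgebra k B]

/-- Two fields over `k` embed in a common one. -/
lemma exists_common_field {F : Type u} [Field F] (E₁ : Type v) (E₂ : Type w) [Field E₁] [Field E₂]
    [Algebra F E₁] [Algebra F E₂] :
    ∃ (Ω : Type (max v w)) (_ : Field Ω) (i₁ : E₁ →+* Ω) (i₂ : E₂ →+* Ω),
      i₁.comp (algebraMap F E₁) = i₂.comp (algebraMap F E₂) := by
  haveI : Nontrivial (E₁ ⊗[F] E₂) := inferInstance
  obtain ⟨M, hM⟩ := Ideal.exists_maximal (E₁ ⊗[F] E₂)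
  refine ⟨(E₁ ⊗[F] E₂) ⧸ M, Ideal.Quotient.field M,
    (Ideal.Quotient.mk M).comp Algebra.TensorProduct.includeLeftRingHom,
    (Ideal.Quotient.mk M).comp (Algebra.TensorProduct.includeRight : E₂ →ₐ[F] E₁ ⊗[F] E₂).toRingHom,
    RingHom.ext fun x => congrArg (Ideal.Quotient.mk M) ?_⟩
  show algebraMap F E₁ x ⊗ₜ[F] (1 : E₂) = (1 : E₁) ⊗ₜ[F] algebraMap F E₂ x
  rw [Algebra.algebraMap_eq_smul_one, Algebra.algebraMap_eq_smul_one, TensorProduct.smul_tmul]

variable {A : Type v} [CommRing A] [HopfAlgebra k A] (f : B →ₐc[k] A)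

/-- A rational point of the target lifts, over some field, along an injective homomorphism. -/
lemma exists_lift_point (hinj : Function.Injective f) (h : B →ₐ[k] k) :
    ∃ (Ω : Type v) (_ : Field Ω) (_ : Algebra k Ω) (g : A →ₐ[k] Ω),
      g.comp (f : B →ₐ[k] A) = (Algebra.ofId k Ω).comp h := by
  haveI : Nontrivial B := (Bialgebra.counitAlgHom k B).toRingHom.domain_nontrivial
  obtain ⟨⟨η, hη⟩⟩ := Ideal.nonempty_minimalPrimes (I := (⊥ : Ideal B)) bot_ne_top
  haveI : η.IsPrime := hη.1.1
  let τ : B →ₐ[k] B := H8FiniteKill.translate (toConv h)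
  have hτ : Function.Injective τ := fun x y hxy => by
    have e := congrArg (H8FiniteKill.translate (toConv h)⁻¹) hxy
    simpa only [τ, ← AlgHom.comp_apply, H8FiniteKill.translate_comp, mul_inv_cancel,
      H8FiniteKill.translate_one, AlgHom.id_apply] using e
  let f' : B →+* A := (f : B →ₐ[k] A).toRingHom
  let f'' : B →+* A := ((f : B →ₐ[k] A).comp τ).toRingHom
  obtain ⟨P, hP, hPη⟩ := Ideal.exists_comap_eq_of_mem_minimalPrimes_of_injective
    (f := f') hinj η hη
  obtain ⟨Q, hQ, hQη⟩ := Ideal.exists_comap_eq_of_mem_minimalPrimes_of_injective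
    (f := f'') (hinj.comp hτ) η hη
  letI : Algebra η.ResidueField P.ResidueField := (Ideal.ResidueField.map η P f' hPη.symm).toAlgebra
  letI : Algebra η.ResidueField Q.ResidueField := (Ideal.ResidueField.map η Q f'' hQη.symm).toAlgebra
  obtain ⟨M, hM⟩ := Ideal.exists_maximal (P.ResidueField ⊗[η.ResidueField] Q.ResidueField)
  let Ω := (P.ResidueField ⊗[η.ResidueField] Q.ResidueField) ⧸ M
  letI : Field Ω := Ideal.Quotient.field M
  let g1 : A →+* Ω := ((Ideal.Quotient.mk M).comp Algebra.TensorProduct.includeLeftRingHom).comp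
    (algebraMap A P.ResidueField)
  let g2 : A →+* Ω := ((Ideal.Quotient.mk M).comp
    (Algebra.TensorProduct.includeRight : Q.ResidueField →ₐ[η.ResidueField]
      P.ResidueField ⊗[η.ResidueField] Q.ResidueField).toRingHom).comp (algebraMap A Q.ResidueField)
  have hg : ∀ b : B, g1 (f b) = g2 (f (τ b)) := by
    intro b
    refine congrArg (Ideal.Quotient.mk M) ?_
    show algebraMap A P.ResidueField (f' b) ⊗ₜ[η.ResidueField] (1 : Q.ResidueField) =
      (1 : P.ResidueField) ⊗ₜ[η.ResidueField] algebraMap A Q.ResidueField (f'' b)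
    have e1 : algebraMap A P.ResidueField (f' b) =
        algebraMap η.ResidueField P.ResidueField (algebraMap B η.ResidueField b) :=
      (Ideal.ResidueField.map_algebraMap η P f' hPη.symm b).symm
    have e2 : algebraMap A Q.ResidueField (f'' b) =
        algebraMap η.ResidueField Q.ResidueField (algebraMap B η.ResidueField b) :=
      (Ideal.ResidueField.map_algebraMap η Q f'' hQη.symm b).symm
    rw [e1, e2, Algebra.algebraMap_eq_smul_one (A := P.ResidueField),
      Algebra.algebraMap_eq_smul_one (A := Q.ResidueField), TensorProduct.smul_tmul]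
  letI : Algebra k Ω := (g1.comp (algebraMap k A)).toAlgebra
  let G1 : A →ₐ[k] Ω := { g1 with commutes' := fun c => rfl }
  let G2 : A →ₐ[k] Ω :=
    { g2 with
      commutes' := fun c => by
        show g2 (algebraMap k A c) = g1 (algebraMap k A c)
        have := hg (algebraMap k B c)
        rw [τ.commutes, AlgHomClass.commutes] at this
        exact this.symm }
  refine ⟨Ω, inferInstance, inferInstance,
    (toConv G1 * toConv (G2.comp (HopfAlgebra.antipodeAlgHom k A))).ofConv, ?_⟩
  have h1 : G1.comp (f : B →ₐ[k] A) =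
      (toConv ((Algebra.ofId k Ω).comp h) * toConv (G2.comp (f : B →ₐ[k] A))).ofConv := by
    have : G1.comp (f : B →ₐ[k] A) = (G2.comp (f : B →ₐ[k] A)).comp τ := AlgHom.ext hg
    rw [this]
    simp only [τ, H8FiniteKill.translate]
    rw [AlgHom.comp_convMul_distrib, ← AlgHom.comp_assoc,
      show (G2.comp (f : B →ₐ[k] A)).comp (Algebra.ofId k B) = Algebra.ofId k Ω from
        Algebra.ext_id _ _ _, AlgHom.comp_id]
  have h2 := congrArg (fun z : WithConv (A →ₐ[k] Ω) => z.ofConv.comp (f : B →ₐ[k] A))
    (mul_antipode_cancel (k := k) (A := A) G2)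
  rw [AlgHom.convMul_comp_bialgHom_distrib] at h2
  have h3 : toConv (G2.comp (f : B →ₐ[k] A)) *
      toConv ((G2.comp (HopfAlgebra.antipodeAlgHom k A)).comp (f : B →ₐ[k] A)) = 1 := by
    refine WithConv.ofConv_injective (h2.trans ?_)
    refine AlgHom.ext fun b => ?_
    simp [AlgHom.convOne_apply]
  rw [AlgHom.convMul_comp_bialgHom_distrib, WithConv.ofConv_toConv, WithConv.ofConv_toConv, h1,
    WithConv.toConv_ofConv, mul_assoc, h3, mul_one, WithConv.ofConv_toConv]

/-- Any point of the target over a field lifts over a bigger field. -/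
lemma exists_lift_point' (hinj : Function.Injective f) (L : Type x) [Field L] [Algebra k L]
    (d : B →ₐ[k] L) :
    ∃ (Ω : Type (max v x)) (_ : Field Ω) (_ : Algebra k Ω) (g : A →ₐ[k] Ω) (ι : L →ₐ[k] Ω),
      g.comp (f : B →ₐ[k] A) = ι.comp d := by
  let fL : L ⊗[k] B →ₐc[L] L ⊗[k] A := Bialgebra.TensorProduct.map (BialgHom.id L L) f
  have hfL : Function.Injective fL := by
    have : ∀ z, fL z = LinearMap.lTensor L ((f : B →ₐ[k] A).toLinearMap) z := fun z => by
      induction z using TensorProduct.induction_on with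
      | zero => simp
      | add y z hy hz => simp only [map_add, hy, hz]
      | tmul a b => simp [fL]
    intro y z hyz
    rw [this, this] at hyz
    exact Module.Flat.lTensor_preserves_injective_linearMap ((f : B →ₐ[k] A).toLinearMap) hinj hyz
  let dL : L ⊗[k] B →ₐ[L] L :=
    Algebra.TensorProduct.lift (Algebra.ofId L L) d fun _ _ => mul_comm _ _
  obtain ⟨Ω, hΩ, hΩ', g, hg⟩ := exists_lift_point fL hfL dL
  letI : Algebra k Ω := ((algebraMap L Ω).comp (algebraMap k L)).toAlgebra
  haveI : IsScalarTower k L Ω := IsScalarTower.of_algebraMap_eq fun c => rfl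
  refine ⟨Ω, hΩ, inferInstance, (g.restrictScalars k).comp Algebra.TensorProduct.includeRight,
    IsScalarTower.toAlgHom k L Ω, AlgHom.ext fun b => ?_⟩
  have := AlgHom.congr_fun hg ((1 : L) ⊗ₜ[k] b)
  simpa [fL, dL] using this

/-- An injective Hopf homomorphism is surjective on spectra. -/
theorem comap_surjective (hinj : Function.Injective f) :
    Function.Surjective (PrimeSpectrum.comap (f : B →ₐ[k] A).toRingHom) := by
  intro q
  obtain ⟨Ω, _, _, g, ι, hg⟩ := exists_lift_point' f hinj q.asIdeal.ResidueField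
    (IsScalarTower.toAlgHom k B q.asIdeal.ResidueField)
  refine ⟨⟨RingHom.ker g, RingHom.ker_isPrime _⟩, PrimeSpectrum.ext (Ideal.ext fun b => ?_)⟩
  show g ((f : B →ₐ[k] A) b) = 0 ↔ b ∈ q.asIdeal
  rw [← AlgHom.comp_apply, hg, AlgHom.comp_apply, map_eq_zero_iff ι ι.toRingHom.injective]
  exact Ideal.algebraMap_residueField_eq_zero

end Surj

/-! ## The theorem -/

section Main

variable {k : Type u} [Field k] {B : Type w} [CommRing B] [HopfAlgebra k B]
  {A : Type v} [CommRing A] [HopfAlgebra k A]

/-- The shear map `b ↦ Σ f b₁ ⊗ b₂`. -/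
noncomputable def sigma (g : B →ₐ[k] A) : WithConv (B →ₐ[k] A ⊗[k] B) :=
  toConv ((Algebra.TensorProduct.includeLeft : A →ₐ[k] A ⊗[k] B).comp g) *
    toConv (Algebra.TensorProduct.includeRight : B →ₐ[k] A ⊗[k] B)

/-- The automorphism extending `sigma`. -/
noncomputable def shearHom (g : B →ₐ[k] A) : A ⊗[k] B →ₐ[k] A ⊗[k] B :=
  Algebra.TensorProduct.lift Algebra.TensorProduct.includeLeft (sigma g).ofConv
    fun _ _ => mul_comm _ _

lemma shearHom_comp (g g' : B →ₐ[k] A) (h : toConv g' * toConv g = 1) (z : A ⊗[k] B) :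
    shearHom g (shearHom g' z) = z := by
  suffices hs : (shearHom g).comp (shearHom g') = AlgHom.id k _ from AlgHom.congr_fun hs z
  have hl : (shearHom g).comp Algebra.TensorProduct.includeLeft =
      (Algebra.TensorProduct.includeLeft : A →ₐ[k] A ⊗[k] B) := AlgHom.ext fun a => by
    simp [shearHom]
  have hr : (shearHom g).comp Algebra.TensorProduct.includeRight = (sigma g).ofConv :=
    AlgHom.ext fun a => by simp [shearHom]
  have h' := congrArg (fun z : WithConv (B →ₐ[k] A) =>
    (Algebra.TensorProduct.includeLeft : A →ₐ[k] A ⊗[k] B).comp z.ofConv) h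
  rw [AlgHom.comp_convMul_distrib, H8FiniteKill.comp_one] at h'
  have h'' := WithConv.ofConv_injective h'
  have hσ : (shearHom g).comp (sigma g').ofConv =
      (Algebra.TensorProduct.includeRight : B →ₐ[k] A ⊗[k] B) := by
    rw [sigma, AlgHom.comp_convMul_distrib, WithConv.ofConv_toConv, WithConv.ofConv_toConv,
      ← AlgHom.comp_assoc, hl, hr, WithConv.toConv_ofConv, sigma, ← mul_assoc]
    simp only [WithConv.ofConv_toConv] at h''
    rw [h'', one_mul, WithConv.ofConv_toConv]
  refine Algebra.TensorProduct.ext' fun a b => ?_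
  have e1 : shearHom g' (a ⊗ₜ[k] b) =
      (a ⊗ₜ[k] (1 : B)) * (sigma g').ofConv b := by
    simp [shearHom]
  rw [AlgHom.comp_apply, e1, map_mul, AlgHom.id_apply,
    show shearHom g (a ⊗ₜ[k] (1 : B)) = a ⊗ₜ[k] 1 from AlgHom.congr_fun hl a,
    show shearHom g ((sigma g').ofConv b) = (1 : A) ⊗ₜ[k] b from AlgHom.congr_fun hσ b,
    Algebra.TensorProduct.tmul_mul_tmul, mul_one, one_mul]

variable (f : B →ₐc[k] A)

lemma flat_sigma : ((sigma (f : B →ₐ[k] A)).ofConv).toRingHom.Flat := by
  have h1 := congrArg (fun z : WithConv (A →ₐ[k] A) => z.ofConv.comp (f : B →ₐ[k] A))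
    (antipode_mul_cancel (k := k) (A := A) (AlgHom.id k A))
  have h2 := congrArg (fun z : WithConv (A →ₐ[k] A) => z.ofConv.comp (f : B →ₐ[k] A))
    (mul_antipode_cancel (k := k) (A := A) (AlgHom.id k A))
  rw [AlgHom.convMul_comp_bialgHom_distrib] at h1 h2
  have hone : ((1 : WithConv (A →ₐ[k] A)).ofConv).comp (f : B →ₐ[k] A) =
      (1 : WithConv (B →ₐ[k] A)).ofConv := AlgHom.ext fun b => by simp [AlgHom.convOne_apply]
  simp only [AlgHom.id_comp, WithConv.ofConv_toConv, hone] at h1 h2
  let g : B →ₐ[k] A := f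
  let g' : B →ₐ[k] A := (HopfAlgebra.antipodeAlgHom k A).comp (f : B →ₐ[k] A)
  have hbij : Function.Bijective (shearHom g) := Function.bijective_iff_has_inverse.mpr
    ⟨shearHom g', fun z => shearHom_comp g' g (WithConv.ofConv_injective h2) z,
      fun z => shearHom_comp g g' (WithConv.ofConv_injective h1) z⟩
  have e : ((sigma g).ofConv).toRingHom =
      (shearHom g).toRingHom.comp (Algebra.TensorProduct.includeRight : B →ₐ[k] A ⊗[k] B).toRingHom :=
    RingHom.ext fun b => by simp [shearHom, ← Algebra.TensorProduct.one_def]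
  rw [e]
  refine RingHom.Flat.comp ?_ (RingHom.Flat.of_bijective hbij)
  have e2 : (Algebra.TensorProduct.includeRight : B →ₐ[k] A ⊗[k] B).toRingHom =
      (Algebra.TensorProduct.comm k B A).toAlgHom.toRingHom.comp (algebraMap B (B ⊗[k] A)) :=
    RingHom.ext fun b => by simp
  rw [e2]
  exact RingHom.Flat.comp (RingHom.flat_algebraMap_iff.mpr inferInstance)
    (RingHom.Flat.of_bijective (Algebra.TensorProduct.comm k B A).bijective)

/-- An injective homomorphism out of a Noetherian Hopf algebra is faithfully flat. -/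
theorem faithfullyFlat [IsNoetherianRing B] (hinj : Function.Injective f) :
    (f : B →ₐ[k] A).toRingHom.FaithfullyFlat := by
  refine RingHom.FaithfullyFlat.iff_flat_and_comap_surjective.mpr ⟨?_, comap_surjective f hinj⟩
  letI : Algebra B A := (f : B →ₐ[k] A).toRingHom.toAlgebra
  haveI : IsScalarTower k B A :=
    IsScalarTower.of_algebraMap_eq fun c => ((f : B →ₐ[k] A).commutes c).symm
  have hf : IsScalarTower.toAlgHom k B A = (f : B →ₐ[k] A) := AlgHom.ext fun b => rfl
  show Module.Flat B A
  -- `A ⊗_B A` is flat over `A`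
  have hAA : Module.Flat A (A ⊗[B] A) := by
    letI : Algebra B k := (Bialgebra.counitAlgHom k B).toRingHom.toAlgebra
    haveI : IsScalarTower k B k :=
      IsScalarTower.of_algebraMap_eq fun c => ((Bialgebra.counitAlgHom k B).commutes c).symm
    have hk : (algebraMap k (k ⊗[B] A)).Flat := RingHom.flat_algebraMap_iff.mpr inferInstance
    have h := flat_tw f k hf hk
    let e : Tw f k →ₐ[B] A :=
      { (Algebra.TensorProduct.rid k k A).toAlgHom with
        commutes' := fun b => by
          have : (Algebra.TensorProduct.rid k k A).toAlgHom.comp (twHom f k) = (f : B →ₐ[k] A) := by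
            rw [twHom, AlgHom.comp_convMul_distrib, WithConv.ofConv_toConv, WithConv.ofConv_toConv,
              ← AlgHom.comp_assoc, ← AlgHom.comp_assoc,
              show (Algebra.TensorProduct.rid k k A).toAlgHom.comp Algebra.TensorProduct.includeLeft =
                AlgHom.id k A from AlgHom.ext fun a => by simp,
              AlgHom.id_comp]
            have : toConv (((Algebra.TensorProduct.rid k k A).toAlgHom.comp
                Algebra.TensorProduct.includeRight).comp (IsScalarTower.toAlgHom k B k)) =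
                (1 : WithConv (B →ₐ[k] A)) := WithConv.ofConv_injective (AlgHom.ext fun x => by
              simp [AlgHom.convOne_apply, Algebra.algebraMap_eq_smul_one, RingHom.algebraMap_toAlgebra])
            rw [this, mul_one, WithConv.ofConv_toConv]
          exact AlgHom.congr_fun this b }
    have heb : Function.Bijective e := (Algebra.TensorProduct.rid k k A).bijective
    let e' : Tw f k ≃ₐ[B] A := AlgEquiv.ofBijective e heb
    have hA : (Algebra.TensorProduct.includeLeftRingHom : A →+* A ⊗[B] A).Flat := by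
      have : (Algebra.TensorProduct.includeLeftRingHom : A →+* A ⊗[B] A) =
          (Algebra.TensorProduct.congr e' AlgEquiv.refl).toRingEquiv.toRingHom.comp
            ((Algebra.TensorProduct.includeLeftRingHom : Tw f k →+* Tw f k ⊗[B] A).comp
              e'.symm.toRingEquiv.toRingHom) := RingHom.ext fun a => by simp
      rw [this]
      exact RingHom.Flat.comp (RingHom.Flat.comp (RingHom.Flat.of_bijective e'.symm.bijective) h)
        (RingHom.Flat.of_bijective (Algebra.TensorProduct.congr e' AlgEquiv.refl).bijective)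
    exact RingHom.flat_algebraMap_iff.mp hA
  -- flatness at a minimal prime
  haveI : Nontrivial B := (Bialgebra.counitAlgHom k B).toRingHom.domain_nontrivial
  obtain ⟨⟨η, hη⟩⟩ := Ideal.nonempty_minimalPrimes (I := (⊥ : Ideal B)) bot_ne_top
  haveI : η.IsPrime := hη.1.1
  let R := Localization.AtPrime η
  haveI : Module.Flat R (R ⊗[B] A) := by
    haveI : IsNoetherianRing R := IsLocalization.isNoetherianRing η.primeCompl R inferInstance
    haveI : Ring.KrullDimLE 0 R := .of_isLocalization _ hη _
    have hnil : IsNilpotent (IsLocalRing.maximalIdeal R) := by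
      haveI : IsArtinianRing R := isArtinianRing_iff_krullDimLE_zero.mpr inferInstance
      exact (isArtinianRing_iff_isNilpotent_maximalIdeal R).mp inferInstance
    have hinjS : Function.Injective (algebraMap R (R ⊗[B] A)) := by
      have h := Module.Flat.lTensor_preserves_injective_linearMap (M := R) (Algebra.linearMap B A) hinj
      intro y z hyz
      refine (TensorProduct.rid B R).symm.injective (h ?_)
      change y ⊗ₜ[B] (1 : A) = z ⊗ₜ[B] (1 : A) at hyz
      simpa using hyz
    letI : Algebra A (R ⊗[B] A) :=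
      (Algebra.TensorProduct.includeRight : A →ₐ[B] R ⊗[B] A).toRingHom.toAlgebra
    haveI : IsScalarTower B A (R ⊗[B] A) := IsScalarTower.of_algebraMap_eq fun b =>
      ((Algebra.TensorProduct.includeRight : A →ₐ[B] R ⊗[B] A).commutes b).symm
    haveI : Module.Flat (R ⊗[B] A) ((R ⊗[B] A) ⊗[R] (R ⊗[B] A)) := by
      haveI : Module.Flat (R ⊗[B] A) ((R ⊗[B] A) ⊗[A] (A ⊗[B] A)) := inferInstance
      exact Module.Flat.of_linearEquiv
        ((TensorProduct.AlgebraTensorModule.cancelBaseChange B R (R ⊗[B] A) (R ⊗[B] A) A).trans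
          (TensorProduct.AlgebraTensorModule.cancelBaseChange B A (R ⊗[B] A) (R ⊗[B] A) A).symm)
    exact flat_of_isNilpotent_maximalIdeal hnil hinjS (R ⊗[B] A)
  have hR : (algebraMap R (R ⊗[B] A)).Flat := RingHom.flat_algebraMap_iff.mpr inferInstance
  haveI : IsScalarTower k B R := inferInstance
  -- the faithfully flat base
  haveI : Module.Flat B (Tw f R) := by
    have h1 : (algebraMap B (Tw f R)) =
        (Algebra.TensorProduct.map (AlgHom.id k A) (IsScalarTower.toAlgHom k B R)).toRingHom.comp
          ((sigma (f : B →ₐ[k] A)).ofConv).toRingHom := by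
      have e : IsScalarTower.toAlgHom k B (Tw f R) = (toTw f R).comp
          ((Algebra.TensorProduct.map (AlgHom.id k A) (IsScalarTower.toAlgHom k B R)).comp
            (sigma (f : B →ₐ[k] A)).ofConv) := by
        rw [toAlgHom_tw, sigma, AlgHom.comp_convMul_distrib, AlgHom.comp_convMul_distrib]
        congr 3 <;>
        · refine AlgHom.ext fun a => ?_
          simp [inA, inR]
      exact RingHom.ext fun b => AlgHom.congr_fun e b
    refine RingHom.flat_algebraMap_iff.mp ?_
    rw [h1]
    exact RingHom.Flat.comp (flat_sigma f) (RingHom.Flat.tensorProductMap (R := k) (S := k)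
      (f := AlgHom.id k A) (g := IsScalarTower.toAlgHom k B R)
      (RingHom.Flat.of_bijective Function.bijective_id)
      (RingHom.flat_algebraMap_iff.mpr (IsLocalization.flat R η.primeCompl)))
  haveI : Module.FaithfullyFlat B (Tw f R) := by
    refine Module.FaithfullyFlat.of_comap_surjective fun q => ?_
    obtain ⟨M, hM⟩ := Ideal.exists_maximal (q.asIdeal.ResidueField ⊗[k] η.ResidueField)
    letI := Ideal.Quotient.field M
    let L := (q.asIdeal.ResidueField ⊗[k] η.ResidueField) ⧸ M
    let jq : q.asIdeal.ResidueField →ₐ[k] L :=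
      (Ideal.Quotient.mkₐ k M).comp Algebra.TensorProduct.includeLeft
    let jη : η.ResidueField →ₐ[k] L :=
      (Ideal.Quotient.mkₐ k M).comp Algebra.TensorProduct.includeRight
    let h : B →ₐ[k] L := jq.comp (IsScalarTower.toAlgHom k B q.asIdeal.ResidueField)
    let ξ' : R →ₐ[k] L := jη.comp (IsScalarTower.toAlgHom k R η.ResidueField)
    let ξ : B →ₐ[k] L := ξ'.comp (IsScalarTower.toAlgHom k B R)
    let d : B →ₐ[k] L := (toConv h * toConv (ξ.comp (HopfAlgebra.antipodeAlgHom k B))).ofConv
    obtain ⟨Ω, _, _, g, ι, hg⟩ := exists_lift_point' f hinj L d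
    let pt : Tw f R →ₐ[k] Ω :=
      (Algebra.TensorProduct.lift g (ι.comp ξ') fun _ _ => mul_comm _ _ : A ⊗[k] R →ₐ[k] Ω)
    have hpt : pt.comp (IsScalarTower.toAlgHom k B (Tw f R)) = ι.comp h := by
      rw [toAlgHom_tw, AlgHom.comp_convMul_distrib, WithConv.ofConv_toConv, WithConv.ofConv_toConv,
        ← AlgHom.comp_assoc, ← AlgHom.comp_assoc,
        show pt.comp (inA f R) = g from AlgHom.ext fun a => by
          show Algebra.TensorProduct.lift g (ι.comp ξ') (fun _ _ => mul_comm _ _) (a ⊗ₜ[k] (1 : R)) = g a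
          simp,
        show pt.comp (inR f R) = ι.comp ξ' from AlgHom.ext fun a => by
          show Algebra.TensorProduct.lift g (ι.comp ξ') (fun _ _ => mul_comm _ _) ((1 : A) ⊗ₜ[k] a) = _
          simp,
        hg, show (ι.comp ξ').comp (IsScalarTower.toAlgHom k B R) = ι.comp ξ from rfl]
      refine (AlgHom.comp_convMul_distrib ι (toConv d) (toConv ξ)).symm.trans (congrArg ι.comp ?_)
      simp only [d, WithConv.toConv_ofConv]
      rw [mul_assoc, antipode_mul_cancel, mul_one, WithConv.ofConv_toConv]
    refine ⟨⟨RingHom.ker pt, RingHom.ker_isPrime _⟩, PrimeSpectrum.ext (Ideal.ext fun b => ?_)⟩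
    show pt (IsScalarTower.toAlgHom k B (Tw f R) b) = 0 ↔ b ∈ q.asIdeal
    rw [← AlgHom.comp_apply, hpt]
    simp only [h, AlgHom.comp_apply]
    rw [map_eq_zero_iff ι ι.toRingHom.injective, map_eq_zero_iff jq jq.toRingHom.injective]
    exact Ideal.algebraMap_residueField_eq_zero
  haveI : Module.Flat (Tw f R) (Tw f R ⊗[B] A) :=
    RingHom.flat_algebraMap_iff.mp (flat_tw f R hf hR)
  exact Module.Flat.of_flat_tensorProduct B A (Tw f R)

end Main

end Groth.Agent.H8HopfFF
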