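import Mathlib
import Groth.Agent.Lib.H8GrpFlat
import Groth.Agent.Lib.H8HopfFF

/-!
# Schematically dominant homomorphisms to affine Noetherian group schemes are faithfully flat
-/

set_option autoImplicit false

universe u

open CategoryTheory Limits AlgebraicGeometry MonoidalCategory CartesianMonoidalCategory MonObj
open scoped TensorProduct

namespace Groth.Agent.H8GrpFlatN

theorem flat_localization {B S R : Type u} [CommRing B] [CommRing S] [CommRing R] [Algebra B S]
    [Algebra B R] [Module.Flat B R] [IsLocalRing R]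
    (hnil : IsNilpotent (IsLocalRing.maximalIdeal R))
    (hinj : Function.Injective (algebraMap B S)) [Module.Flat S (S ⊗[B] S)] :
    Module.Flat R (R ⊗[B] S) := by
  letI : Algebra S (R ⊗[B] S) := Algebra.TensorProduct.rightAlgebra
  haveI : IsScalarTower B S (R ⊗[B] S) := IsScalarTower.of_algebraMap_eq fun b => by
    show _ = (1 : R) ⊗ₜ[B] algebraMap B S b
    rw [Algebra.algebraMap_eq_smul_one (R := B) (A := S), TensorProduct.tmul_smul]
    exact Algebra.algebraMap_eq_smul_one b
  let e2 := TensorProduct.AlgebraTensorModule.cancelBaseChange B S (R ⊗[B] S) (R ⊗[B] S) S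
  let e1 := TensorProduct.AlgebraTensorModule.cancelBaseChange B R (R ⊗[B] S) (R ⊗[B] S) S
  haveI : Module.Flat (R ⊗[B] S) ((R ⊗[B] S) ⊗[R] (R ⊗[B] S)) :=
    Module.Flat.of_linearEquiv (e1.trans e2.symm)
  exact H8HopfFF.flat_of_isNilpotent_maximalIdeal hnil
    (S := R ⊗[B] S) (Algebra.TensorProduct.includeLeft_injective (S := R) hinj) (R ⊗[B] S)

lemma isNilpotent_maximalIdeal {B : Type u} [CommRing B] [IsNoetherianRing B] (p : Ideal B)
    [p.IsPrime] (hp : p ∈ minimalPrimes B) :
    IsNilpotent (IsLocalRing.maximalIdeal (Localization.AtPrime p)) := by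
  haveI : IsNoetherianRing (Localization.AtPrime p) :=
    IsLocalization.isNoetherianRing p.primeCompl _ inferInstance
  rw [Ideal.FG.isNilpotent_iff_le_nilradical (IsNoetherian.noetherian _), nilradical_eq_sInf]
  refine le_sInf fun q hq => le_of_eq ?_
  have := IsLocalization.subsingleton_primeSpectrum_of_mem_minimalPrimes p hp
    (Localization.AtPrime p)
  exact congrArg PrimeSpectrum.asIdeal
    (Subsingleton.elim (⟨_, (IsLocalRing.maximalIdeal.isMaximal _).isPrime⟩ : PrimeSpectrum (Localization.AtPrime p)) ⟨q, hq⟩)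

variable {k : Type u} [Field k] {G H : Over (Spec (CommRingCat.of k))} [GrpObj G] [GrpObj H]

omit [GrpObj G] [GrpObj H] in
lemma flat_whiskerLeft {A B : Over (Spec (CommRingCat.of k))} (h : A ⟶ B) [Flat h.left] :
    Flat (G ◁ h).left := by
  have e : G ◁ h = (β_ G A).hom ≫ (h ▷ G) ≫ (β_ B G).hom := by
    apply CartesianMonoidalCategory.hom_ext <;> simp
  have : IsIso (β_ G A).hom.left := ((Over.forget _).mapIso (β_ G A)).isIso_hom
  have : IsIso (β_ B G).hom.left := ((Over.forget _).mapIso (β_ B G)).isIso_hom
  have : Flat (h ▷ G).left :=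
    MorphismProperty.of_isPullback (H8Shear.isPullback_whiskerRight h G).flip ‹_›
  rw [e, Over.comp_left, Over.comp_left]
  infer_instance

/-- The pullback of a homomorphism along itself is flat. -/
theorem flat_pullback_self (f : G ⟶ H) [IsMonHom f] :
    Flat (pullback.snd f.left f.left) := by
  let x : 𝟙_ (Over (Spec (CommRingCat.of k))) ⟶ H := η[H]
  let P : Over (Spec (CommRingCat.of k)) := Over.mk (pullback.fst f.left x.left ≫ G.hom)
  let a : P ⟶ G := Over.homMk (pullback.fst f.left x.left) rfl
  let b : P ⟶ 𝟙_ _ := Over.homMk (pullback.snd f.left x.left) (by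
    show pullback.snd f.left x.left ≫ _ = pullback.fst f.left x.left ≫ G.hom
    rw [← Over.w x, ← Over.w f, pullback.condition_assoc])
  have sq : IsPullback a b f x :=
    IsPullback.of_map (Over.forget _) (Over.OverMorphism.ext pullback.condition)
      (IsPullback.of_hasPullback f.left x.left)
  have hbflat : Flat b.left := by
    have : Flat P.hom := inferInstance
    have e : b.left = P.hom := (Category.comp_id _).symm.trans (Over.w b)
    rw [e]
    exact this
  have : Flat (G ◁ b).left := flat_whiskerLeft b
  let r := fst G (𝟙_ (Over (Spec (CommRingCat.of k))))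
  have : IsIso r := by
    rw [show r = (ρ_ G).hom from (CartesianMonoidalCategory.rightUnitor_hom G).symm]
    infer_instance
  have h1 : IsPullback (fst G P * (snd G P ≫ a)) (G ◁ b) f (r ≫ f) := by
    have := H8GrpFlat.isPullback_translate f x a b sq
    rwa [show (fst G _ ≫ f) * (snd G _ ≫ x) = r ≫ f by
      rw [show snd G (𝟙_ (Over (Spec (CommRingCat.of k)))) ≫ x = 1 by
        rw [Hom.one_def, toUnit_unique (snd G _) (toUnit _)], _root_.mul_one]] at this
  have h2 : IsPullback (fst G P * (snd G P ≫ a)) ((G ◁ b) ≫ r) f f :=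
    h1.of_iso (Iso.refl _) (Iso.refl _) (asIso r) (Iso.refl _) (by simp) (by simp) (by simp)
      (by simp)
  have h3 : IsPullback (fst G P * (snd G P ≫ a)).left ((G ◁ b) ≫ r).left f.left f.left :=
    h2.map (Over.forget _)
  have h4 : h3.isoPullback.hom ≫ pullback.snd f.left f.left = ((G ◁ b) ≫ r).left :=
    h3.isoPullback_hom_snd
  have : IsIso r.left := inferInstanceAs (IsIso ((Over.forget _).map r))
  have : Flat ((G ◁ b) ≫ r).left := by rw [Over.comp_left]; infer_instance
  rw [show pullback.snd f.left f.left = h3.isoPullback.inv ≫ ((G ◁ b) ≫ r).left from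
    (Iso.eq_inv_comp _).mpr h4]
  infer_instance

/-- A homomorphism from a quasi-compact group to an affine Noetherian one which is injective on
global functions is faithfully flat. -/
theorem flat_and_surjective (f : G ⟶ H) [IsMonHom f] [CompactSpace G.left] [IsAffine H.left]
    [IsNoetherianRing Γ(H.left, ⊤)] (hinj : Function.Injective f.left.appTop.hom) :
    Flat f.left ∧ Surjective f.left := by
  let B := Γ(H.left, ⊤)
  let 𝒰 := G.left.affineCover.finiteSubcover
  let S0 := Γ(∐ 𝒰.X, ⊤)
  let g0 : Spec S0 ⟶ G.left := (∐ 𝒰.X).isoSpec.inv ≫ Sigma.desc 𝒰.f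
  haveI : Flat g0 := inferInstance
  haveI : Surjective g0 := inferInstance
  haveI : QuasiCompact f.left := by
    haveI : CompactSpace H.left := inferInstance
    haveI : QuasiSeparatedSpace H.left := inferInstance
    exact quasiCompact_of_compactSpace f.left
  let f' : G.left ⟶ Spec B := f.left ≫ H.left.isoSpec.hom
  let g1 : Spec S0 ⟶ Spec B := g0 ≫ f'
  let φ : B ⟶ S0 := Spec.preimage g1
  have hg1 : Spec.map φ = g1 := Spec.map_preimage g1
  have happ : ∀ {X Y : Scheme.{u}} (w : X ⟶ Y) [Flat w] [Surjective w],
      Function.Injective w.appTop.hom := by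
    intro X Y w _ _
    rw [injective_iff_map_eq_zero]
    intro s hs
    refine TopCat.Presheaf.section_ext Y.sheaf ⊤ _ _ fun y hy => ?_
    obtain ⟨q, rfl⟩ := w.surjective y
    algebraize [(w.stalkMap q).hom]
    have : Module.FaithfullyFlat (Y.presheaf.stalk (w q)) (X.presheaf.stalk q) :=
      @Module.FaithfullyFlat.of_flat_of_isLocalHom _ _ _ _ _ _ _
        (Flat.stalkMap w q) (w.toLRSHom.prop q)
    refine (‹RingHom.FaithfullyFlat _›).injective ?_
    have h := Scheme.Hom.germ_stalkMap_apply w ⊤ q hy s
    refine h.trans ?_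
    rw [show (ConcreteCategory.hom (w.app ⊤)) s = 0 from hs]
    simp only [map_zero]
    exact (map_zero _).symm.trans (congrArg _ (map_zero _).symm)
  have hφ : Function.Injective φ.hom := by
    have h1 : Function.Injective g1.appTop.hom := by
      have e : g1.appTop = H.left.isoSpec.hom.appTop ≫ f.left.appTop ≫ g0.appTop := by
        simp only [g1, f', Scheme.Hom.comp_appTop]
        exact Category.assoc _ _ _
      rw [e]
      simp only [CommRingCat.hom_comp, RingHom.coe_comp]
      haveI : IsIso H.left.isoSpec.hom.appTop :=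
        inferInstanceAs (IsIso (Scheme.Γ.map H.left.isoSpec.hom.op))
      exact (happ g0).comp (hinj.comp (ConcreteCategory.bijective_of_isIso H.left.isoSpec.hom.appTop).1)
    rw [← hg1] at h1
    have e := Scheme.ΓSpecIso_naturality φ
    have : φ = (Scheme.ΓSpecIso B).inv ≫ (Spec.map φ).appTop ≫ (Scheme.ΓSpecIso S0).hom := by
      rw [e, Iso.inv_hom_id_assoc]
    rw [this]
    simp only [CommRingCat.hom_comp, RingHom.coe_comp]
    exact ((ConcreteCategory.bijective_of_isIso (Scheme.ΓSpecIso S0).hom).1.comp h1).comp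
      (ConcreteCategory.bijective_of_isIso (Scheme.ΓSpecIso B).inv).1
  letI : Algebra B S0 := φ.hom.toAlgebra
  -- surjectivity
  have hdense : DenseRange f.left := by
    have h1 : DenseRange (PrimeSpectrum.comap φ.hom) := by
      rw [PrimeSpectrum.denseRange_comap_iff_minimalPrimes]
      intro I hI
      obtain ⟨q, hq, hqI⟩ := Ideal.exists_comap_eq_of_mem_minimalPrimes_of_injective hφ I hI
      exact ⟨⟨q, hq⟩, PrimeSpectrum.ext hqI⟩
    have h2 : DenseRange g1 := by rw [← hg1]; exact h1
    have h3 : DenseRange (g1 ≫ H.left.isoSpec.inv) := by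
      rw [show ⇑(g1 ≫ H.left.isoSpec.inv) = ⇑H.left.isoSpec.inv ∘ ⇑g1 from rfl]
      exact (H.left.isoSpec.inv.surjective.denseRange).comp h2 H.left.isoSpec.inv.continuous
    refine h3.mono ?_
    rintro y ⟨q, rfl⟩
    refine ⟨g0 q, ?_⟩
    rw [show g1 ≫ H.left.isoSpec.inv = g0 ≫ f.left by simp [g1, f']]
    rfl
  have hsurj : Surjective f.left := H8GrpFlat.surjective_of_denseRange f hdense
  refine ⟨?_, hsurj⟩
  -- `S0 ⊗ S0` is flat over `S0`
  have hff : Flat (pullback.fst f' f') := by
    have h1 : IsPullback (pullback.fst f.left f.left) (pullback.snd f.left f.left) f' f' :=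
      (IsPullback.of_hasPullback f.left f.left).of_iso (Iso.refl _) (Iso.refl _) (Iso.refl _)
        H.left.isoSpec (by simp) (by simp) (by simp [f']) (by simp [f'])
    haveI := flat_pullback_self f
    rw [show pullback.fst f' f' = h1.flip.isoPullback.inv ≫ pullback.snd f.left f.left from
      (Iso.eq_inv_comp _).mpr h1.flip.isoPullback_hom_fst]
    infer_instance
  have hfst1 : Flat (pullback.fst g1 f') := by
    let l : pullback g1 f' ⟶ pullback f' f' :=
      pullback.lift (pullback.fst g1 f' ≫ g0) (pullback.snd g1 f')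
        (by rw [Category.assoc]; exact pullback.condition)
    have h : IsPullback l (pullback.fst g1 f') (pullback.fst f' f') g0 :=
      IsPullback.of_right
        (by rw [show l ≫ pullback.snd f' f' = pullback.snd g1 f' from pullback.lift_snd _ _ _]
            exact (IsPullback.of_hasPullback g1 f').flip)
        (pullback.lift_fst _ _ _) (IsPullback.of_hasPullback f' f').flip
    exact MorphismProperty.of_isPullback h hff
  have hfst2 : Flat (pullback.fst g1 g1) := by
    let l : pullback g1 g1 ⟶ pullback g1 f' :=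
      pullback.lift (pullback.fst g1 g1) (pullback.snd g1 g1 ≫ g0)
        (by rw [Category.assoc]; exact pullback.condition)
    have h : IsPullback l (pullback.snd g1 g1) (pullback.snd g1 f') g0 :=
      IsPullback.of_right
        (by rw [show l ≫ pullback.fst g1 f' = pullback.fst g1 g1 from pullback.lift_fst _ _ _]
            exact IsPullback.of_hasPullback g1 g1)
        (pullback.lift_snd _ _ _) (IsPullback.of_hasPullback g1 f')
    haveI : Flat l := MorphismProperty.of_isPullback h.flip ‹Flat g0›
    rw [show pullback.fst g1 g1 = l ≫ pullback.fst g1 f' from (pullback.lift_fst _ _ _).symm]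
    infer_instance
  haveI : Module.Flat S0 (S0 ⊗[B] S0) := by
    rw [← hg1] at hfst2
    have h := pullbackSpecIso_inv_fst B S0 S0
    have : Flat (Spec.map (CommRingCat.ofHom
        (Algebra.TensorProduct.includeLeftRingHom : S0 →+* S0 ⊗[B] S0))) := by
      rw [← h]
      haveI : Flat (pullback.fst (Spec.map (CommRingCat.ofHom (algebraMap B S0)))
        (Spec.map (CommRingCat.ofHom (algebraMap B S0)))) := hfst2
      infer_instance
    exact RingHom.flat_algebraMap_iff.mp ((HasRingHomProperty.Spec_iff (P := @Flat)).mp this)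
  -- a minimal prime
  haveI : Nonempty H.left := ⟨η[H].left (show (𝟙_ (Over (Spec (CommRingCat.of k)))).left from
    Classical.arbitrary (Spec (CommRingCat.of k)))⟩
  haveI : Nonempty (Spec B) := ⟨H.left.isoSpec.hom (Classical.arbitrary _)⟩
  haveI : Nontrivial B := PrimeSpectrum.nonempty_iff_nontrivial.mp ‹Nonempty (Spec B)›
  obtain ⟨p, hp⟩ : (minimalPrimes B).Nonempty :=
    Set.nonempty_coe_sort.mp (Ideal.nonempty_minimalPrimes (I := (⊥ : Ideal B)) bot_ne_top)
  haveI : p.IsPrime := hp.1.1
  let R := Localization.AtPrime p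
  haveI : Module.Flat B R := IsLocalization.flat R p.primeCompl
  have hflatR : Module.Flat R (R ⊗[B] S0) :=
    flat_localization (isNilpotent_maximalIdeal p hp) hφ
  let ρ : Spec (CommRingCat.of R) ⟶ Spec B := Spec.map (CommRingCat.ofHom (algebraMap B R))
  let T : Over (Spec (CommRingCat.of k)) := Over.mk ((ρ ≫ H.left.isoSpec.inv) ≫ H.hom)
  let x : T ⟶ H := Over.homMk (ρ ≫ H.left.isoSpec.inv) rfl
  haveI : Nonempty T.left := inferInstanceAs (Nonempty (Spec (CommRingCat.of R)))
  haveI : Flat ρ :=
    (HasRingHomProperty.Spec_iff (P := @Flat)).mpr (RingHom.flat_algebraMap_iff.mpr ‹_›)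
  haveI : Flat x.left := inferInstanceAs (Flat (ρ ≫ H.left.isoSpec.inv))
  refine H8GrpFlat.flat_of_flat_pullback f x ?_
  have hρ : IsPullback (pullback.fst f.left x.left) (pullback.snd f.left x.left) f' ρ :=
    (IsPullback.of_hasPullback f.left x.left).of_iso (Iso.refl _) (Iso.refl _) (Iso.refl _)
      H.left.isoSpec (by simp) (by simp) (by simp [f']) (by simp [x])
  have hP' : IsPullback (pullback.fst g0 (pullback.fst f.left x.left))
      (pullback.snd g0 (pullback.fst f.left x.left) ≫ pullback.snd f.left x.left) g1 ρ :=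
    (IsPullback.of_hasPullback g0 (pullback.fst f.left x.left)).paste_vert hρ
  haveI : Flat (pullback.snd g0 (pullback.fst f.left x.left) ≫ pullback.snd f.left x.left) := by
    have h5 : Flat (pullback.fst ρ (Spec.map (CommRingCat.ofHom (algebraMap B S0)))) := by
      have h := pullbackSpecIso_hom_fst B R S0
      rw [← h]
      haveI : Flat (Spec.map (CommRingCat.ofHom
          (Algebra.TensorProduct.includeLeftRingHom : R →+* R ⊗[B] S0))) :=
        (HasRingHomProperty.Spec_iff (P := @Flat)).mpr (RingHom.flat_algebraMap_iff.mpr hflatR)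
      infer_instance
    change Flat (pullback.fst ρ (Spec.map φ)) at h5
    rw [hg1] at h5
    rw [← hP'.flip.isoPullback_hom_fst]
    infer_instance
  exact H8GrpFlat.flat_of_comp (pullback.snd g0 (pullback.fst f.left x.left)) _

end Groth.Agent.H8GrpFlatN
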