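import Mathlib

/-! Finiteness theorems for comodules and coalgebras over a field. -/

universe u v w

open TensorProduct

namespace Groth.Agent.H8Coalg

variable {k : Type u} [Field k] {A : Type v} [AddCommGroup A] [Module k A] [Coalgebra k A]
  {V : Type w} [AddCommGroup V] [Module k V]

/-- Every vector of a comodule lies in a finite-dimensional subcomodule. -/
theorem exists_finite_subcomod_single (ρ : V →ₗ[k] V ⊗[k] A)
    (hco : (TensorProduct.assoc k V A A).toLinearMap ∘ₗ ρ.rTensor A ∘ₗ ρ =
      (CoalgebraStruct.comul (R := k) (A := A)).lTensor V ∘ₗ ρ)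
    (hcu : (CoalgebraStruct.counit (R := k) (A := A)).lTensor V ∘ₗ ρ = (TensorProduct.mk k V k).flip 1)
    (v : V) :
    ∃ W : Submodule k V, Module.Finite k W ∧ v ∈ W ∧ ∀ x ∈ W, ρ x ∈ LinearMap.range (W.subtype.rTensor A) := by
  classical
  let e := Module.Free.chooseBasis k A
  let eqv := TensorProduct.equivFinsuppOfBasisRight (M := V) e
  let c := eqv (ρ v)
  let W : Submodule k V := Submodule.span k (c.support.image c : Set V)
  have hcW : ∀ b, c b ∈ W := fun b => by
    by_cases hb : b ∈ c.support
    · exact Submodule.subset_span (Finset.mem_image_of_mem _ hb)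
    · rw [Finsupp.notMem_support_iff.mp hb]; exact zero_mem _
  have hρv : ρ v ∈ LinearMap.range (W.subtype.rTensor A) := by
    have : ρ v = c.sum fun b x => x ⊗ₜ[k] e b := by
      rw [← TensorProduct.equivFinsuppOfBasisRight_symm_apply]
      exact (eqv.symm_apply_apply _).symm
    rw [this]
    exact Submodule.sum_mem _ fun b _ => ⟨⟨c b, hcW b⟩ ⊗ₜ e b, by simp⟩
  refine ⟨W, Module.Finite.span_of_finite k (Finset.finite_toSet _), ?_, ?_⟩
  · have h := LinearMap.congr_fun hcu v
    simp only [LinearMap.comp_apply, LinearMap.flip_apply, TensorProduct.mk_apply] at h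
    obtain ⟨z, hz⟩ := hρv
    have : v = (TensorProduct.rid k V) ((CoalgebraStruct.counit (R := k) (A := A)).lTensor V (ρ v)) := by simp [h]
    rw [this, ← hz]
    clear hz h this
    induction z using TensorProduct.induction_on with
    | zero => simp
    | tmul a b => simp only [LinearMap.rTensor_tmul, LinearMap.lTensor_tmul, rid_tmul]; exact W.smul_mem _ a.2
    | add a b ha hb => simp only [map_add]; exact add_mem ha hb
  · intro x hx
    change x ∈ Submodule.comap ρ (LinearMap.range (W.subtype.rTensor A))
    refine (Submodule.span_le.mpr ?_) hx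
    intro y hy
    obtain ⟨b, -, rfl⟩ := Finset.mem_image.mp hy
    let f : A →ₗ[k] k := e.coord b
    let h₀ : A ⊗[k] A →ₗ[k] A := (TensorProduct.rid k A).toLinearMap ∘ₗ f.lTensor A
    have hg : ∀ (z : V ⊗[k] A), ρ ((TensorProduct.rid k V) (f.lTensor V z)) =
        h₀.lTensor V ((TensorProduct.assoc k V A A) (ρ.rTensor A z)) := by
      intro z
      induction z using TensorProduct.induction_on with
      | zero => simp
      | tmul a b =>
        simp only [LinearMap.lTensor_tmul, rid_tmul, map_smul, LinearMap.rTensor_tmul]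
        generalize ρ a = w
        induction w using TensorProduct.induction_on with
        | zero => simp
        | tmul p q => simp [h₀]
        | add p q hp hq => simp only [smul_add, add_tmul, map_add, hp, hq]
      | add a b ha hb => simp only [map_add, ha, hb]
    have hc' : c b = (TensorProduct.rid k V) (f.lTensor V (ρ v)) := by
      show eqv (ρ v) b = _
      generalize ρ v = z
      induction z using TensorProduct.induction_on with
      | zero => simp
      | tmul a q => simp [eqv, f]
      | add p q hp hq => simp only [map_add, Finsupp.add_apply, hp, hq]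
    show ρ (c b) ∈ LinearMap.range (W.subtype.rTensor A)
    rw [hc', hg]
    have h2 := LinearMap.congr_fun hco v
    simp only [LinearMap.comp_apply, LinearEquiv.coe_coe] at h2
    rw [h2, ← LinearMap.lTensor_comp_apply]
    obtain ⟨z, hz⟩ := hρv
    refine ⟨(h₀ ∘ₗ CoalgebraStruct.comul).lTensor W z, ?_⟩
    rw [← hz, ← LinearMap.comp_apply, LinearMap.rTensor_comp_lTensor, ← LinearMap.lTensor_comp_rTensor,
      LinearMap.comp_apply]

/-- Every finite set of vectors of a comodule lies in a finite-dimensional subcomodule. -/
theorem exists_finite_subcomod (ρ : V →ₗ[k] V ⊗[k] A)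
    (hco : (TensorProduct.assoc k V A A).toLinearMap ∘ₗ ρ.rTensor A ∘ₗ ρ =
      (CoalgebraStruct.comul (R := k) (A := A)).lTensor V ∘ₗ ρ)
    (hcu : (CoalgebraStruct.counit (R := k) (A := A)).lTensor V ∘ₗ ρ = (TensorProduct.mk k V k).flip 1)
    (s : Finset V) :
    ∃ W : Submodule k V, Module.Finite k W ∧ (s : Set V) ⊆ W ∧ ∀ x ∈ W, ρ x ∈ LinearMap.range (W.subtype.rTensor A) := by
  classical
  induction s using Finset.induction_on with
  | empty => exact ⟨⊥, inferInstance, by simp, by intro x hx; rw [Submodule.mem_bot] at hx; simp [hx]⟩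
  | insert a s _ ih =>
    obtain ⟨W₁, h1, hs1, hW1⟩ := ih
    obtain ⟨W₂, h2, ha, hW2⟩ := exists_finite_subcomod_single ρ hco hcu a
    refine ⟨W₁ ⊔ W₂, inferInstance, ?_, ?_⟩
    · rw [Finset.coe_insert, Set.insert_subset_iff]
      exact ⟨Submodule.mem_sup_right ha, hs1.trans fun x hx => Submodule.mem_sup_left hx⟩
    · have key : ∀ (U : Submodule k V), U ≤ W₁ ⊔ W₂ →
          LinearMap.range (U.subtype.rTensor A) ≤ LinearMap.range ((W₁ ⊔ W₂).subtype.rTensor A) := by
        intro U hU
        rintro _ ⟨z, rfl⟩
        exact ⟨(Submodule.inclusion hU).rTensor A z, by rw [← LinearMap.rTensor_comp_apply]; rfl⟩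
      intro x hx
      obtain ⟨y, hy, z, hz, rfl⟩ := Submodule.mem_sup.mp hx
      rw [map_add]
      exact add_mem (key _ le_sup_left (hW1 y hy)) (key _ le_sup_right (hW2 z hz))

/-- The fundamental theorem of coalgebras. -/
theorem exists_finite_subcoalgebra (s : Finset A) :
    ∃ B : Submodule k A, Module.Finite k B ∧ (↑s : Set A) ⊆ B ∧
      ∀ b ∈ B, CoalgebraStruct.comul (R := k) b ∈ LinearMap.range (TensorProduct.map B.subtype B.subtype) := by
  classical
  obtain ⟨W, hWf, hsW, hW⟩ := exists_finite_subcomod (CoalgebraStruct.comul (R := k) (A := A))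
    Coalgebra.coassoc Coalgebra.lTensor_counit_comp_comul s
  let w := Module.finBasis k W
  choose φ hφ using fun i => LinearMap.exists_extend (w.coord i)
  let a : Fin (Module.finrank k W) → Fin (Module.finrank k W) → A :=
    fun i j => (TensorProduct.lid k A) ((φ i).rTensor A (CoalgebraStruct.comul (R := k) (w j : A)))
  let B : Submodule k A := Submodule.span k (Set.range fun p : _ × _ => a p.1 p.2)
  have haB : ∀ i j, a i j ∈ B := fun i j => Submodule.subset_span ⟨(i, j), rfl⟩
  have hexp : ∀ j, CoalgebraStruct.comul (R := k) (w j : A) = ∑ i, (w i : A) ⊗ₜ[k] a i j := by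
    intro j
    have hwd := hW _ (w j).2
    simp only [a]
    obtain ⟨z, hz⟩ := hwd
    rw [← hz]
    clear hz
    induction z using TensorProduct.induction_on with
    | zero => simp
    | tmul p q =>
      have hp : ∀ i, φ i (p : A) = w.repr p i := fun i => LinearMap.congr_fun (hφ i) p
      simp only [LinearMap.rTensor_tmul, Submodule.subtype_apply, lid_tmul, hp]
      have hh : (p : A) = ∑ i, w.repr p i • (w i : A) := by
        have hh := (congrArg Subtype.val (w.sum_repr p)).symm
        simp only [Submodule.coe_sum, Submodule.coe_smul] at hh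
        exact hh
      conv_lhs => rw [hh, sum_tmul]
      simp [smul_tmul]
    | add p q hp hq => simp only [map_add, tmul_add, Finset.sum_add_distrib, ← hp, ← hq]
  refine ⟨B, Module.Finite.span_of_finite k (Set.finite_range _), ?_, ?_⟩
  · intro x hx
    have hxW : x ∈ W := hsW hx
    have hwB : ∀ j, (w j : A) ∈ B := by
      intro j
      have h := Coalgebra.rTensor_counit_comul (R := k) (w j : A)
      rw [hexp j] at h
      have h2 := congrArg (TensorProduct.lid k A) h
      simp only [map_sum, LinearMap.rTensor_tmul, lid_tmul, one_smul] at h2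
      rw [← h2]
      exact sum_mem fun i _ => B.smul_mem _ (haB i j)
    have : x = ∑ j, w.repr ⟨x, hxW⟩ j • (w j : A) := by
      have hh := (congrArg Subtype.val (w.sum_repr ⟨x, hxW⟩)).symm
      simp only [Submodule.coe_sum, Submodule.coe_smul] at hh
      exact hh
    rw [this]
    exact sum_mem fun j _ => B.smul_mem _ (hwB j)
  · intro b hb
    change b ∈ Submodule.comap (CoalgebraStruct.comul (R := k)) (LinearMap.range (TensorProduct.map B.subtype B.subtype))
    refine Submodule.span_le.mpr ?_ hb
    rintro _ ⟨⟨i, j⟩, rfl⟩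
    rw [SetLike.mem_coe, Submodule.mem_comap]
    have hg : ∀ z : A ⊗[k] A, CoalgebraStruct.comul (R := k) ((TensorProduct.lid k A) ((φ i).rTensor A z)) =
        (TensorProduct.lid k (A ⊗[k] A)) ((φ i).rTensor (A ⊗[k] A) ((CoalgebraStruct.comul (R := k) (A := A)).lTensor A z)) := by
      intro z
      induction z using TensorProduct.induction_on with
      | zero => simp
      | tmul p q => simp
      | add p q hp hq => simp only [map_add, hp, hq]
    have h : CoalgebraStruct.comul (R := k) (a i j) = ∑ l, a i l ⊗ₜ[k] a l j := by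
      rw [show a i j = _ from rfl, hg, ← Coalgebra.coassoc_apply, hexp j]
      simp only [map_sum, LinearMap.rTensor_tmul]
      refine Finset.sum_congr rfl fun l _ => ?_
      simp only [a]
      generalize CoalgebraStruct.comul (R := k) (w l : A) = z
      induction z using TensorProduct.induction_on with
      | zero => simp
      | tmul p q => simp [smul_tmul']
      | add p q hp hq => simp only [map_add, add_tmul, hp, hq]
    rw [h]
    exact Submodule.sum_mem _ fun l _ => ⟨⟨_, haB i l⟩ ⊗ₜ ⟨_, haB l j⟩, by simp⟩

end Groth.Agent.H8Coalg
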