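import Mathlib

/-! Antipode of a commutative Hopf algebra. -/

universe u v

open TensorProduct HopfAlgebra

namespace Groth.Agent.H8Hopf

variable {R : Type u} [CommRing R] {A : Type v} [CommRing A] [HopfAlgebra R A]

theorem antipode_antipode (a : A) : antipode R (antipode R a) = a := by
  let f : WithConv (A →ₐ[R] A) := WithConv.toConv (AlgHom.id R A)
  have h1 : (f⁻¹)⁻¹ = f := inv_inv f
  exact congrArg (fun g : WithConv (A →ₐ[R] A) => g.ofConv a) h1

theorem comul_antipode (a : A) :
    CoalgebraStruct.comul (R := R) (antipode R a) =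
      TensorProduct.map (antipode R) (antipode R) (TensorProduct.comm R A A (CoalgebraStruct.comul (R := R) a)) := by
  let L : WithConv (A →ₐ[R] A ⊗[R] A) := WithConv.toConv Algebra.TensorProduct.includeLeft
  let M : WithConv (A →ₐ[R] A ⊗[R] A) := WithConv.toConv Algebra.TensorProduct.includeRight
  let D : WithConv (A →ₐ[R] A ⊗[R] A) := WithConv.toConv (Bialgebra.comulAlgHom R A)
  have hD : L * M = D := by
    apply WithConv.ofConv_injective
    ext b
    show Algebra.TensorProduct.lmul' R (Algebra.TensorProduct.map L.ofConv M.ofConv (CoalgebraStruct.comul (R := R) b)) =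
      CoalgebraStruct.comul (R := R) b
    generalize CoalgebraStruct.comul (R := R) b = z
    induction z using TensorProduct.induction_on with
    | zero => simp
    | tmul p q => simp [L, M]
    | add p q hp hq => simp only [map_add, hp, hq]
  have h : D⁻¹ = M⁻¹ * L⁻¹ := (congrArg (fun g : WithConv (A →ₐ[R] A ⊗[R] A) => g⁻¹) hD.symm).trans (@mul_inv_rev (WithConv (A →ₐ[R] A ⊗[R] A)) _ L M)
  have h2 := congrArg (fun g : WithConv (A →ₐ[R] A ⊗[R] A) => g.ofConv a) h
  change CoalgebraStruct.comul (R := R) (antipode R a) = Algebra.TensorProduct.lmul' R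
    (Algebra.TensorProduct.map (M⁻¹).ofConv (L⁻¹).ofConv (CoalgebraStruct.comul (R := R) a)) at h2
  rw [h2]
  generalize CoalgebraStruct.comul (R := R) a = z
  induction z using TensorProduct.induction_on with
  | zero => simp
  | tmul p q =>
    have hM : (M⁻¹).ofConv p = (1 : A) ⊗ₜ[R] antipode R p := rfl
    have hL : (L⁻¹).ofConv q = antipode R q ⊗ₜ[R] (1 : A) := rfl
    simp [hM, hL]
  | add p q hp hq => simp only [map_add, hp, hq]

end Groth.Agent.H8Hopf
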