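import Mathlib
import Groth.Agent.Lib.H8HopfFF
import Groth.Agent.Lib.H8Coalg
import Groth.Agent.Lib.H8Hopf

/-!
# Hopf subalgebras: structure, finitely generated ones, faithful flatness
-/

set_option autoImplicit false

universe u v

open TensorProduct WithConv

namespace Groth.Agent.H8HopfSub

variable {k : Type u} [Field k] {A : Type v} [CommRing A] [HopfAlgebra k A]

/-- A Hopf subalgebra. -/
def IsHopfSub (B : Subalgebra k A) : Prop :=
  (∀ b ∈ B, CoalgebraStruct.comul (R := k) (A := A) b ∈
      LinearMap.range (TensorProduct.map B.val.toLinearMap B.val.toLinearMap)) ∧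
    ∀ b ∈ B, HopfAlgebraStruct.antipode (R := k) (A := A) b ∈ B

variable (B : Subalgebra k A)

/-- The inclusion of the squares. -/
noncomputable def sqVal : B ⊗[k] B →ₐ[k] A ⊗[k] A := Algebra.TensorProduct.map B.val B.val

lemma sqVal_injective : Function.Injective (sqVal B) :=
  TensorProduct.map_injective_of_flat_flat B.val.toLinearMap B.val.toLinearMap
    Subtype.val_injective Subtype.val_injective

variable {B}

/-- The restricted comultiplication. -/
noncomputable def comulB (hB : IsHopfSub B) : B →ₐ[k] B ⊗[k] B :=
  (AlgEquiv.ofInjective (sqVal B) (sqVal_injective B)).symm.toAlgHom.comp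
    (((Bialgebra.comulAlgHom k A).comp B.val).codRestrict (sqVal B).range fun b => hB.1 _ b.2)

lemma sqVal_comulB (hB : IsHopfSub B) :
    (sqVal B).comp (comulB hB) = (Bialgebra.comulAlgHom k A).comp B.val := by
  refine AlgHom.ext fun b => ?_
  simp only [comulB, AlgHom.coe_comp, Function.comp_apply]
  rw [← AlgEquiv.ofInjective_apply (sqVal B) (sqVal_injective B)]
  exact congrArg Subtype.val
    ((AlgEquiv.ofInjective (sqVal B) (sqVal_injective B)).apply_symm_apply _)

/-- The bialgebra structure of a Hopf subalgebra. -/
@[reducible] noncomputable def bialgebra (hB : IsHopfSub B) : Bialgebra k B :=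
  Bialgebra.ofAlgHom (comulB hB) ((Bialgebra.counitAlgHom k A).comp B.val)
    (by
      refine AlgHom.ext fun b => ?_
      apply TensorProduct.map_injective_of_flat_flat B.val.toLinearMap (sqVal B).toLinearMap
        Subtype.val_injective (sqVal_injective B)
      have hl : ∀ z : B ⊗[k] B, TensorProduct.map B.val.toLinearMap (sqVal B).toLinearMap
          (Algebra.TensorProduct.assoc k k k B B B
            (Algebra.TensorProduct.map (comulB hB) (AlgHom.id k B) z)) =
          TensorProduct.assoc k A A A ((CoalgebraStruct.comul (R := k) (A := A)).rTensor A (sqVal B z)) := by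
        intro z
        induction z using TensorProduct.induction_on with
        | zero => simp
        | add y z hy hz => simp only [map_add, hy, hz]
        | tmul y z =>
          have e : CoalgebraStruct.comul (R := k) (A := A) (y : A) = sqVal B (comulB hB y) :=
            (AlgHom.congr_fun (sqVal_comulB hB) y).symm
          simp only [Algebra.TensorProduct.map_tmul, AlgHom.id_apply, sqVal, LinearMap.rTensor_tmul,
            Subalgebra.coe_val, e]
          generalize comulB hB y = w
          induction w using TensorProduct.induction_on with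
          | zero => simp
          | add y z hy hz => simp only [map_add, add_tmul, hy, hz]
          | tmul y z => simp
      have hr : ∀ z : B ⊗[k] B, TensorProduct.map B.val.toLinearMap (sqVal B).toLinearMap
          (Algebra.TensorProduct.map (AlgHom.id k B) (comulB hB) z) =
          (CoalgebraStruct.comul (R := k) (A := A)).lTensor A (sqVal B z) := by
        intro z
        induction z using TensorProduct.induction_on with
        | zero => simp
        | add y z hy hz => simp only [map_add, hy, hz]
        | tmul y z =>
          have e : CoalgebraStruct.comul (R := k) (A := A) (z : A) = sqVal B (comulB hB z) :=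
            (AlgHom.congr_fun (sqVal_comulB hB) z).symm
          simp [sqVal, e] <;> rfl
      show TensorProduct.map _ _ (Algebra.TensorProduct.assoc k k k B B B
          (Algebra.TensorProduct.map (comulB hB) (AlgHom.id k B) (comulB hB b))) =
        TensorProduct.map _ _ (Algebra.TensorProduct.map (AlgHom.id k B) (comulB hB) (comulB hB b))
      rw [hl, hr, show sqVal B (comulB hB b) = CoalgebraStruct.comul (R := k) (b : A) from
        AlgHom.congr_fun (sqVal_comulB hB) b, Coalgebra.coassoc_apply])
    (by
      refine AlgHom.ext fun b => ?_
      apply Module.Flat.lTensor_preserves_injective_linearMap (M := k) B.val.toLinearMap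
        Subtype.val_injective
      have h : ∀ z : B ⊗[k] B, (B.val.toLinearMap.lTensor k)
          (Algebra.TensorProduct.map ((Bialgebra.counitAlgHom k A).comp B.val) (AlgHom.id k B) z) =
          (CoalgebraStruct.counit (R := k) (A := A)).rTensor A (sqVal B z) := by
        intro z
        induction z using TensorProduct.induction_on with
        | zero => simp
        | add y z hy hz => simp only [map_add, hy, hz]
        | tmul y z => simp [sqVal]
      show (B.val.toLinearMap.lTensor k) (Algebra.TensorProduct.map _ _ (comulB hB b)) = _
      rw [h, show sqVal B (comulB hB b) = CoalgebraStruct.comul (R := k) (b : A) from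
        AlgHom.congr_fun (sqVal_comulB hB) b, Coalgebra.rTensor_counit_comul]
      simp)
    (by
      refine AlgHom.ext fun b => ?_
      have hinj : Function.Injective (B.val.toLinearMap.rTensor k) :=
        Module.Flat.rTensor_preserves_injective_linearMap _ Subtype.val_injective
      apply hinj
      have h : ∀ z : B ⊗[k] B, (B.val.toLinearMap.rTensor k)
          (Algebra.TensorProduct.map (AlgHom.id k B) ((Bialgebra.counitAlgHom k A).comp B.val) z) =
          (CoalgebraStruct.counit (R := k) (A := A)).lTensor A (sqVal B z) := by
        intro z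
        induction z using TensorProduct.induction_on with
        | zero => simp
        | add y z hy hz => simp only [map_add, hy, hz]
        | tmul y z => simp [sqVal]
      show (B.val.toLinearMap.rTensor k) (Algebra.TensorProduct.map _ _ (comulB hB b)) = _
      rw [h, show sqVal B (comulB hB b) = CoalgebraStruct.comul (R := k) (b : A) from
        AlgHom.congr_fun (sqVal_comulB hB) b, Coalgebra.lTensor_counit_comul]
      simp)

/-- The Hopf algebra structure of a Hopf subalgebra. -/
@[reducible] noncomputable def hopf (hB : IsHopfSub B) : HopfAlgebra k B :=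
  letI := bialgebra hB
  HopfAlgebra.ofAlgHom
    (((HopfAlgebra.antipodeAlgHom k A).comp B.val).codRestrict B fun b => hB.2 _ b.2)
    (by
      refine AlgHom.ext fun b => Subtype.val_injective ?_
      have h : ∀ z : B ⊗[k] B, ((Algebra.TensorProduct.lift
          (((HopfAlgebra.antipodeAlgHom k A).comp B.val).codRestrict B fun b => hB.2 _ b.2)
          (AlgHom.id k B) fun _ => Commute.all _) z : A) =
          LinearMap.mul' k A ((HopfAlgebra.antipode k (A := A)).rTensor A (sqVal B z)) := by
        intro z
        induction z using TensorProduct.induction_on with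
        | zero => simp
        | add y z hy hz => simp only [map_add, Subalgebra.coe_add, hy, hz]
        | tmul y z => simp [sqVal]
      show ((Algebra.TensorProduct.lift
          (((HopfAlgebra.antipodeAlgHom k A).comp B.val).codRestrict B fun b => hB.2 _ b.2)
          (AlgHom.id k B) fun _ => Commute.all _) (comulB hB b) : A) = _
      rw [h, show sqVal B (comulB hB b) = CoalgebraStruct.comul (R := k) (b : A) from
        AlgHom.congr_fun (sqVal_comulB hB) b, HopfAlgebra.mul_antipode_rTensor_comul_apply]
      rfl)
    (by
      refine AlgHom.ext fun b => Subtype.val_injective ?_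
      have h : ∀ z : B ⊗[k] B, ((Algebra.TensorProduct.lift (AlgHom.id k B)
          (((HopfAlgebra.antipodeAlgHom k A).comp B.val).codRestrict B fun b => hB.2 _ b.2)
          fun _ _ => Commute.all _ _) z : A) =
          LinearMap.mul' k A ((HopfAlgebra.antipode k (A := A)).lTensor A (sqVal B z)) := by
        intro z
        induction z using TensorProduct.induction_on with
        | zero => simp
        | add y z hy hz => simp only [map_add, Subalgebra.coe_add, hy, hz]
        | tmul y z => simp [sqVal]
      show ((Algebra.TensorProduct.lift (AlgHom.id k B)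
          (((HopfAlgebra.antipodeAlgHom k A).comp B.val).codRestrict B fun b => hB.2 _ b.2)
          fun _ _ => Commute.all _ _) (comulB hB b) : A) = _
      rw [h, show sqVal B (comulB hB b) = CoalgebraStruct.comul (R := k) (b : A) from
        AlgHom.congr_fun (sqVal_comulB hB) b, HopfAlgebra.mul_antipode_lTensor_comul_apply]
      rfl)

/-- The inclusion of a Hopf subalgebra. -/
noncomputable def valHom (hB : IsHopfSub B) :
    letI := hopf hB
    B →ₐc[k] A :=
  letI := hopf hB
  BialgHom.ofAlgHom B.val (AlgHom.ext fun _ => rfl) (sqVal_comulB hB)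

/-- Every finite set lies in a finitely generated Hopf subalgebra. -/
theorem exists_fg (s : Finset A) : ∃ B : Subalgebra k A, (↑s : Set A) ⊆ B ∧ B.FG ∧ IsHopfSub B := by
  classical
  obtain ⟨C, hC, hsC, hΔ⟩ := H8Coalg.exists_finite_subcoalgebra (k := k) s
  obtain ⟨T, hT⟩ : C.FG := Module.Finite.iff_fg.mp hC
  let G : Set A := ↑T ∪ HopfAlgebra.antipode k '' ↑T
  let B := Algebra.adjoin k G
  have hCB : C ≤ Subalgebra.toSubmodule B := by
    rw [← hT, Submodule.span_le]
    exact fun t ht => Algebra.subset_adjoin (Or.inl ht)
  have hSC : ∀ c ∈ C, HopfAlgebra.antipode k c ∈ B := by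
    intro c hc
    rw [← hT] at hc
    induction hc using Submodule.span_induction with
    | mem x hx => exact Algebra.subset_adjoin (Or.inr ⟨x, hx, rfl⟩)
    | zero => simp
    | add x y _ _ hx hy => rw [map_add]; exact add_mem hx hy
    | smul r x _ hx => rw [map_smul]; exact Subalgebra.smul_mem _ hx r
  refine ⟨B, fun x hx => hCB (hsC hx), ⟨T ∪ T.image (HopfAlgebra.antipode k),
    by rw [Finset.coe_union, Finset.coe_image]⟩, ?_, ?_⟩
  · have hle : B ≤ (sqVal B).range.comap (Bialgebra.comulAlgHom k A) := by
      refine Algebra.adjoin_le ?_
      have hCsq : ∀ z, TensorProduct.map C.subtype C.subtype z ∈ (sqVal B).range := by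
        intro z
        induction z using TensorProduct.induction_on with
        | zero => simp
        | add y w hy hw => rw [map_add]; exact add_mem hy hw
        | tmul y w => exact ⟨⟨_, hCB y.2⟩ ⊗ₜ[k] ⟨_, hCB w.2⟩, by simp [sqVal]⟩
      have hSsq : ∀ z, TensorProduct.map (HopfAlgebra.antipode k) (HopfAlgebra.antipode k)
          (TensorProduct.comm k A A (TensorProduct.map C.subtype C.subtype z)) ∈ (sqVal B).range := by
        intro z
        induction z using TensorProduct.induction_on with
        | zero => simp
        | add y w hy hw => simp only [map_add]; exact add_mem hy hw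
        | tmul y w => exact ⟨⟨_, hSC _ w.2⟩ ⊗ₜ[k] ⟨_, hSC _ y.2⟩, by simp [sqVal]⟩
      rintro x (hx | ⟨t, ht, rfl⟩)
      · obtain ⟨z, hz⟩ := hΔ x (hT ▸ Submodule.subset_span hx)
        show CoalgebraStruct.comul (R := k) x ∈ (sqVal B).range
        rw [← hz]
        exact hCsq z
      · obtain ⟨z, hz⟩ := hΔ t (hT ▸ Submodule.subset_span ht)
        show CoalgebraStruct.comul (R := k) (HopfAlgebra.antipode k t) ∈ (sqVal B).range
        rw [H8Hopf.comul_antipode, ← hz]
        exact hSsq z
    exact fun b hb => hle hb
  · have hle : B ≤ B.comap (HopfAlgebra.antipodeAlgHom k A) := by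
      refine Algebra.adjoin_le ?_
      rintro x (hx | ⟨t, ht, rfl⟩)
      · exact hSC x (hT ▸ Submodule.subset_span hx)
      · show HopfAlgebra.antipode k (HopfAlgebra.antipode k t) ∈ B
        rw [H8Hopf.antipode_antipode]
        exact Algebra.subset_adjoin (Or.inl ht)
    exact fun b hb => hle hb

/-- A commutative Hopf algebra over a field is faithfully flat over any Hopf subalgebra. -/
theorem faithfullyFlat (hB : IsHopfSub B) : Module.FaithfullyFlat B A := by
  classical
  letI := hopf hB
  -- every finite subset of `B` lies in a Noetherian Hopf subalgebra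
  have key : ∀ s : Finset B, ∃ (C : Subalgebra k B), (↑s : Set B) ⊆ C ∧
      ((B.val.comp C.val).toRingHom).FaithfullyFlat := by
    intro s
    obtain ⟨C, hsC, hfg, hC⟩ := exists_fg (k := k) s
    letI := hopf hC
    haveI : Algebra.FiniteType k C := (Subalgebra.fg_iff_finiteType C).mp hfg
    haveI : IsNoetherianRing C := Algebra.FiniteType.isNoetherianRing k C
    exact ⟨C, hsC, H8HopfFF.faithfullyFlat ((valHom hB).comp (valHom hC))
      (Subtype.val_injective.comp Subtype.val_injective)⟩
  haveI hflat : Module.Flat B A := by
    refine Module.Flat.iff_forall_isTrivialRelation.mpr fun {l g x} hrel => ?_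
    obtain ⟨C, hsC, hC⟩ := key (Finset.univ.image g)
    haveI : Module.FaithfullyFlat C A := RingHom.faithfullyFlat_algebraMap_iff.mp hC
    let g' : Fin l → C := fun i => ⟨g i, hsC (Finset.mem_coe.mpr (Finset.mem_image_of_mem g (Finset.mem_univ i)))⟩
    have hrel' : ∑ i, g' i • x i = 0 := by
      rw [← hrel]
      exact Finset.sum_congr rfl fun i _ => rfl
    obtain ⟨n, a, y, hy, ha⟩ :=
      Module.Flat.isTrivialRelation_of_sum_smul_eq_zero (R := C) (M := A) (f := g') (x := x) hrel'
    refine ⟨n, fun i j => (a i j : B), y, fun i => (hy i).trans (Finset.sum_congr rfl fun j _ => rfl),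
      fun j => ?_⟩
    have := congrArg Subtype.val (ha j)
    simpa [g'] using this
  refine { hflat with submodule_ne_top := fun m hm htop => ?_ }
  rw [Ideal.smul_top_eq_map, Submodule.restrictScalars_eq_top_iff, Ideal.eq_top_iff_one] at htop
  obtain ⟨T, hT, hT1⟩ := Submodule.mem_span_finite_of_mem_span htop
  obtain ⟨T', hT', rfl⟩ := Finset.subset_set_image_iff.mp hT
  obtain ⟨C, hsC, hC⟩ := key T'
  haveI : Module.FaithfullyFlat C A := RingHom.faithfullyFlat_algebraMap_iff.mp hC
  have h1 : (1 : A) ∈ (m.comap C.val.toRingHom).map (algebraMap C A) := by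
    refine Submodule.span_le.mpr ?_ hT1
    intro z hz
    obtain ⟨b, hb, rfl⟩ := Finset.mem_image.mp (Finset.mem_coe.mp hz)
    exact Ideal.mem_map_of_mem (algebraMap C A) (x := ⟨b, hsC hb⟩) (I := m.comap C.val.toRingHom) (hT' hb)
  have h2 : (1 : C) ∈ m.comap C.val.toRingHom := by
    rw [← Ideal.comap_map_eq_self_of_faithfullyFlat (B := A) (m.comap C.val.toRingHom), Ideal.mem_comap]
    simpa using h1
  exact hm.ne_top ((Ideal.eq_top_iff_one m).mpr h2)

end Groth.Agent.H8HopfSub
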