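import Mathlib
import Groth.Agent.Lib.H8GrpFlatN
import Groth.Agent.Lib.H8HopfSub

/-!
# Schematically dominant homomorphisms from algebraic groups to affine groups
-/

set_option autoImplicit false

universe u

open CategoryTheory Limits AlgebraicGeometry MonoidalCategory CartesianMonoidalCategory MonObj
open scoped TensorProduct

namespace Groth.Agent.H8GrpImage

/-- The ideal of the "diagonal relations" of `B → S`. -/
def relIdeal {k A S : Type u} [CommRing k] [CommRing A] [Algebra k A] [CommRing S] [Algebra k S]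
    (φ : A →ₐ[k] S) (B : Subalgebra k A) : Ideal (S ⊗[k] S) :=
  Ideal.span ((fun b => φ b ⊗ₜ[k] (1 : S) - (1 : S) ⊗ₜ[k] φ b) '' (B : Set A))

lemma relIdeal_mono {k A S : Type u} [CommRing k] [CommRing A] [Algebra k A] [CommRing S] [Algebra k S]
    (φ : A →ₐ[k] S) {B C : Subalgebra k A} (h : B ≤ C) : relIdeal φ B ≤ relIdeal φ C :=
  Ideal.span_mono (Set.image_mono h)

/-- An element whose relation follows from those of a faithfully flat subalgebra lies in it. -/
lemma mem_range_of_mem_relIdeal {k A S : Type u} [CommRing k] [CommRing A] [Algebra k A] [CommRing S]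
    [Algebra k S] (φ : A →ₐ[k] S) (B : Subalgebra k A)
    (hff : (φ.comp B.val).toRingHom.FaithfullyFlat) {a : A}
    (h : φ a ⊗ₜ[k] (1 : S) - (1 : S) ⊗ₜ[k] φ a ∈ relIdeal φ B) :
    ∃ b : B, φ b = φ a := by
  letI : Algebra B S := (φ.comp B.val).toRingHom.toAlgebra
  haveI : Module.FaithfullyFlat B S := hff
  haveI : IsScalarTower k B S :=
    IsScalarTower.of_algebraMap_eq fun r => ((φ.comp B.val).commutes r).symm
  let m : S ⊗[k] S →ₐ[k] S ⊗[B] S :=
    Algebra.TensorProduct.productMap
      ((Algebra.TensorProduct.includeLeft : S →ₐ[B] S ⊗[B] S).restrictScalars k)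
      ((Algebra.TensorProduct.includeRight : S →ₐ[B] S ⊗[B] S).restrictScalars k)
  have hle : relIdeal φ B ≤ RingHom.ker m.toRingHom := by
    refine Ideal.span_le.mpr ?_
    rintro _ ⟨b, hb, rfl⟩
    show m _ = 0
    rw [map_sub, sub_eq_zero]
    simp only [m, Algebra.TensorProduct.productMap_apply_tmul, map_one]
    rw [_root_.mul_one, _root_.one_mul]
    exact (Algebra.TensorProduct.algebraMap_apply (A := S) (B := S) (⟨b, hb⟩ : B)).symm.trans
      (Algebra.TensorProduct.algebraMap_apply' (A := S) (B := S) (⟨b, hb⟩ : B))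
  have h1 : φ a ⊗ₜ[B] (1 : S) = (1 : S) ⊗ₜ[B] φ a := by
    have : m _ = 0 := hle h
    simpa [m, sub_eq_zero] using this
  let Q := S ⧸ (LinearMap.range (Algebra.linearMap B S))
  have h2 : (1 : S) ⊗ₜ[B] (Submodule.Quotient.mk (φ a) : Q) = 0 := by
    have := congrArg (LinearMap.lTensor S (LinearMap.range (Algebra.linearMap B S)).mkQ) h1
    rw [LinearMap.lTensor_tmul, LinearMap.lTensor_tmul] at this
    rw [show (LinearMap.range (Algebra.linearMap B S)).mkQ (1 : S) = 0 from
      (Submodule.Quotient.mk_eq_zero _).mpr ⟨1, map_one (algebraMap B S)⟩, TensorProduct.tmul_zero] at this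
    exact this.symm
  have h3 : (Submodule.Quotient.mk (φ a) : Q) = 0 :=
    Module.FaithfullyFlat.tensorProduct_mk_injective (A := B) (B := S) Q (h2.trans (by simp))
  obtain ⟨b, hb⟩ := (Submodule.Quotient.mk_eq_zero _).mp h3
  exact ⟨b, hb⟩

variable {k : Type u} [Field k]

set_option backward.isDefEq.respectTransparency false in
/-- A schematically dominant homomorphism from an algebraic group to an affine group is faithfully
flat, and the target is of finite type. -/
theorem main (G G' : Over (Spec (CommRingCat.of k))) [GrpObj G] [GrpObj G']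
    [LocallyOfFiniteType G.hom] [QuasiCompact G.hom] [IsAffine G'.left]
    (u : G ⟶ G') [IsMonHom u] (hinj : Function.Injective u.left.appTop.hom) :
    Flat u.left ∧ Surjective u.left ∧ LocallyOfFiniteType G'.hom := by
  classical
  obtain ⟨A', ⟨e⟩⟩ : (hopfSpec (CommRingCat.of k)).essImage (Grp.mk G') :=
    essImage_hopfSpec.mpr ‹_›
  let A := A'.unop
  let Y : Over (Spec (CommRingCat.of k)) :=
    (Spec (CommRingCat.of A)).asOver (Spec (CommRingCat.of k))
  let i : Y ⟶ G' := e.hom.hom.hom
  let j : G' ⟶ Y := e.inv.hom.hom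
  have hij : i ≫ j = 𝟙 Y := congrArg (fun m => m.hom.hom) e.hom_inv_id
  have hji : j ≫ i = 𝟙 G' := congrArg (fun m => m.hom.hom) e.inv_hom_id
  haveI : IsMonHom j := inferInstanceAs (IsMonHom e.inv.hom.hom)
  haveI : IsIso i.left := ⟨j.left, congrArg Over.Hom.left hij, congrArg Over.Hom.left hji⟩
  haveI : IsIso j.left := ⟨i.left, congrArg Over.Hom.left hji, congrArg Over.Hom.left hij⟩
  let v : G ⟶ Y := u ≫ j
  haveI : IsMonHom v := inferInstanceAs (IsMonHom (u ≫ j))
  haveI : IsIso j.left.appTop := inferInstanceAs (IsIso (Scheme.Γ.map j.left.op))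
  have hv : Function.Injective v.left.appTop.hom := by
    have e1 : v.left.appTop = j.left.appTop ≫ u.left.appTop := Scheme.Hom.comp_appTop u.left j.left
    rw [e1]
    simp only [CommRingCat.hom_comp, RingHom.coe_comp]
    exact hinj.comp (ConcreteCategory.bijective_of_isIso j.left.appTop).1
  haveI : CompactSpace G.left := QuasiCompact.compactSpace_of_compactSpace G.hom
  let 𝒰 := G.left.affineCover.finiteSubcover
  let S0 := Γ(∐ 𝒰.X, ⊤)
  let g0 : Spec S0 ⟶ G.left := (∐ 𝒰.X).isoSpec.inv ≫ Limits.Sigma.desc 𝒰.f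
  haveI : Flat g0 := inferInstance
  haveI : Surjective g0 := inferInstance
  haveI : LocallyOfFiniteType (Limits.Sigma.desc 𝒰.f) :=
    IsZariskiLocalAtSource.sigmaDesc fun i => inferInstance
  let φ₀ : CommRingCat.of k ⟶ S0 := Spec.preimage (g0 ≫ G.hom)
  letI : Algebra k S0 := φ₀.hom.toAlgebra
  haveI : Algebra.FiniteType k S0 := by
    have h : LocallyOfFiniteType (Spec.map φ₀) := by rw [Spec.map_preimage]; infer_instance
    exact (HasRingHomProperty.Spec_iff (P := @LocallyOfFiniteType)).mp h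
  haveI : Algebra.FiniteType k (S0 ⊗[k] S0) :=
    Algebra.FiniteType.trans (S := S0) inferInstance inferInstance
  haveI : IsNoetherianRing (S0 ⊗[k] S0) := Algebra.FiniteType.isNoetherianRing k _
  let φ : CommRingCat.of A ⟶ S0 := Spec.preimage (g0 ≫ v.left)
  have hφk : φ₀ = CommRingCat.ofHom (algebraMap k A) ≫ φ := by
    apply Spec.map_injective
    rw [Spec.map_comp, Spec.map_preimage, Spec.map_preimage, Category.assoc]
    exact congrArg (g0 ≫ ·) (Over.w v).symm
  let φa : A →ₐ[k] S0 :=
    { φ.hom with commutes' := fun r => (congrArg (fun m : CommRingCat.of k ⟶ S0 => m r) hφk).symm }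
  -- the theorem for finitely generated Hopf subalgebras
  have key : ∀ (B : Subalgebra k A) (hB : H8HopfSub.IsHopfSub B), B.FG →
      (φa.comp B.val).toRingHom.FaithfullyFlat := by
    intro B hB hfg
    letI := H8HopfSub.hopf hB
    let Y0 : Over (Spec (CommRingCat.of k)) :=
      (Spec (CommRingCat.of B)).asOver (Spec (CommRingCat.of k))
    let qq := (hopfSpec (CommRingCat.of k)).map
      (CommHopfAlgCat.ofHom (H8HopfSub.valHom hB)).op
    let q : Y ⟶ Y0 := qq.hom.hom
    haveI : IsMonHom q := inferInstanceAs (IsMonHom qq.hom.hom)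
    have hq : q.left = Spec.map (CommRingCat.ofHom B.val.toRingHom) := rfl
    haveI : IsAffine Y0.left := inferInstanceAs (IsAffine (Spec (CommRingCat.of B)))
    haveI : Algebra.FiniteType k B := (Subalgebra.fg_iff_finiteType B).mp hfg
    haveI : IsNoetherianRing B := Algebra.FiniteType.isNoetherianRing k B
    haveI : IsNoetherianRing Γ(Y0.left, ⊤) := isNoetherianRing_of_ringEquiv B
      (Scheme.ΓSpecIso (CommRingCat.of B)).commRingCatIsoToRingEquiv.symm
    haveI : IsMonHom (v ≫ q) := inferInstance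
    have hqinj : Function.Injective q.left.appTop.hom := by
      rw [hq]
      have e2 : (Spec.map (CommRingCat.ofHom B.val.toRingHom)).appTop =
          (Scheme.ΓSpecIso (CommRingCat.of B)).hom ≫ CommRingCat.ofHom B.val.toRingHom ≫
            (Scheme.ΓSpecIso (CommRingCat.of A)).inv := by
        rw [← Scheme.ΓSpecIso_naturality_assoc, Iso.hom_inv_id, Category.comp_id]
      rw [e2]
      simp only [CommRingCat.hom_comp, RingHom.coe_comp]
      exact ((ConcreteCategory.bijective_of_isIso (Scheme.ΓSpecIso (CommRingCat.of A)).inv).1.comp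
        Subtype.val_injective).comp
        (ConcreteCategory.bijective_of_isIso (Scheme.ΓSpecIso (CommRingCat.of B)).hom).1
    obtain ⟨hf, hs⟩ := H8GrpFlatN.flat_and_surjective (v ≫ q) (by
      rw [show (v ≫ q).left.appTop = q.left.appTop ≫ v.left.appTop from
        Scheme.Hom.comp_appTop v.left q.left]
      simp only [CommRingCat.hom_comp, RingHom.coe_comp]
      exact hv.comp hqinj)
    have e3 : g0 ≫ (v ≫ q).left = Spec.map (CommRingCat.ofHom (φa.comp B.val).toRingHom) := by
      rw [Over.comp_left, hq, ← Category.assoc, ← Spec.map_preimage (g0 ≫ v.left), ← Spec.map_comp]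
      rfl
    haveI := hf
    haveI := hs
    exact (flat_and_surjective_SpecMap_iff (CommRingCat.ofHom (φa.comp B.val).toRingHom)).mp
      (e3 ▸ ⟨inferInstanceAs (Flat (g0 ≫ (v ≫ q).left)),
        inferInstanceAs (Surjective (g0 ≫ (v ≫ q).left))⟩)
  have hφinj : Function.Injective φa := by
    intro a b hab
    obtain ⟨B, hs, hfg, hB⟩ := H8HopfSub.exists_fg (k := k) ({a, b} : Finset A)
    letI : Algebra B S0 := (φa.comp B.val).toRingHom.toAlgebra
    have := (key B hB hfg).injective
      (a₁ := (⟨a, hs (by simp)⟩ : B)) (a₂ := (⟨b, hs (by simp)⟩ : B)) hab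
    exact congrArg Subtype.val this
  -- a maximal finitely generated Hopf subalgebra
  let 𝒮 : Set (Ideal (S0 ⊗[k] S0)) :=
    {I | ∃ B : Subalgebra k A, H8HopfSub.IsHopfSub B ∧ B.FG ∧ relIdeal φa B = I}
  obtain ⟨B₁, -, hfg₁, hB₁⟩ := H8HopfSub.exists_fg (k := k) (∅ : Finset A)
  obtain ⟨I, ⟨B, hB, hfg, rfl⟩, hmax⟩ :=
    set_has_maximal_iff_noetherian.mpr ‹IsNoetherianRing (S0 ⊗[k] S0)› 𝒮
      ⟨_, B₁, hB₁, hfg₁, rfl⟩
  have htop : B = ⊤ := by
    refine eq_top_iff.mpr fun a _ => ?_
    obtain ⟨T, hT⟩ := hfg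
    obtain ⟨C, hs, hfgC, hC⟩ := H8HopfSub.exists_fg (k := k) (insert a T)
    have hle : B ≤ C := hT ▸ Algebra.adjoin_le fun t ht => hs (by simp [Finset.mem_coe.mp ht])
    have heq : relIdeal φa B = relIdeal φa C :=
      (relIdeal_mono φa hle).eq_or_lt.resolve_right fun hlt => hmax _ ⟨C, hC, hfgC, rfl⟩ hlt
    obtain ⟨b, hb⟩ := mem_range_of_mem_relIdeal φa B (key B hB ⟨T, hT⟩) (a := a) (by
      rw [heq]
      exact Ideal.subset_span ⟨a, hs (by simp), rfl⟩)
    exact hφinj hb ▸ b.2
  haveI : Algebra.FiniteType k A := ⟨htop ▸ hfg⟩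
  haveI : IsNoetherianRing A := Algebra.FiniteType.isNoetherianRing k A
  haveI : IsAffine Y.left := inferInstanceAs (IsAffine (Spec (CommRingCat.of A)))
  haveI : IsNoetherianRing Γ(Y.left, ⊤) := isNoetherianRing_of_ringEquiv A
    (Scheme.ΓSpecIso (CommRingCat.of A)).commRingCatIsoToRingEquiv.symm
  obtain ⟨hf, hs⟩ := H8GrpFlatN.flat_and_surjective v hv
  haveI := hf
  haveI := hs
  have hu : u.left = v.left ≫ i.left := by
    rw [← Over.comp_left, Category.assoc, hji, Category.comp_id]
  refine ⟨hu ▸ inferInstanceAs (Flat (v.left ≫ i.left)),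
    hu ▸ inferInstanceAs (Surjective (v.left ≫ i.left)), ?_⟩
  haveI hY : LocallyOfFiniteType Y.hom :=
    inferInstanceAs (LocallyOfFiniteType (Spec (CommRingCat.of A) ↘ Spec (CommRingCat.of k)))
  rw [show G'.hom = j.left ≫ Y.hom from (Over.w j).symm]
  infer_instance

end Groth.Agent.H8GrpImage
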