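import Mathlib
import Groth.Agent.Lib.H8GrpImage

/-!
# Schematically dominant homomorphisms from quasi-compact groups to affine groups are faithfully flat
-/

set_option autoImplicit false

universe u

open CategoryTheory Limits AlgebraicGeometry MonoidalCategory CartesianMonoidalCategory MonObj
open scoped TensorProduct

namespace Groth.Agent.H8GrpFlatGen

variable {k : Type u} [Field k]

/-- An algebra all of whose finitely generated Hopf subalgebras act faithfully flatly on `S` acts
faithfully flatly on `S`. -/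
theorem faithfullyFlat_of_fg {A S : Type u} [CommRing A] [HopfAlgebra k A] [CommRing S] [Algebra k S]
    (φ : A →ₐ[k] S)
    (h : ∀ B : Subalgebra k A, H8HopfSub.IsHopfSub B → B.FG →
      (φ.comp B.val).toRingHom.FaithfullyFlat) :
    φ.toRingHom.FaithfullyFlat := by
  classical
  letI : Algebra A S := φ.toRingHom.toAlgebra
  haveI hflat : Module.Flat A S := by
    refine Module.Flat.iff_forall_isTrivialRelation.mpr fun {l g x} hrel => ?_
    obtain ⟨B, hsB, hfg, hB⟩ := H8HopfSub.exists_fg (k := k) (Finset.univ.image g)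
    haveI : Module.FaithfullyFlat B S := RingHom.faithfullyFlat_algebraMap_iff.mp (h B hB hfg)
    let g' : Fin l → B := fun i =>
      ⟨g i, hsB (Finset.mem_coe.mpr (Finset.mem_image_of_mem g (Finset.mem_univ i)))⟩
    have hrel' : ∑ i, g' i • x i = 0 := by
      rw [← hrel]
      exact Finset.sum_congr rfl fun i _ => rfl
    obtain ⟨n, a, y, hy, ha⟩ :=
      Module.Flat.isTrivialRelation_of_sum_smul_eq_zero (R := B) (M := S) (f := g') (x := x) hrel'
    refine ⟨n, fun i j => (a i j : A), y, fun i => (hy i).trans (Finset.sum_congr rfl fun j _ => rfl),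
      fun j => ?_⟩
    have := congrArg Subtype.val (ha j)
    simpa [g'] using this
  show Module.FaithfullyFlat A S
  refine { hflat with submodule_ne_top := fun m hm htop => ?_ }
  rw [Ideal.smul_top_eq_map, Submodule.restrictScalars_eq_top_iff, Ideal.eq_top_iff_one] at htop
  obtain ⟨T, hT, hT1⟩ := Submodule.mem_span_finite_of_mem_span htop
  obtain ⟨T', hT', rfl⟩ := Finset.subset_set_image_iff.mp hT
  obtain ⟨B, hsB, hfg, hB⟩ := H8HopfSub.exists_fg (k := k) T'
  haveI : Module.FaithfullyFlat B S := RingHom.faithfullyFlat_algebraMap_iff.mp (h B hB hfg)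
  have h1 : (1 : S) ∈ (m.comap B.val.toRingHom).map (algebraMap B S) := by
    refine Submodule.span_le.mpr ?_ hT1
    intro z hz
    obtain ⟨b, hb, rfl⟩ := Finset.mem_image.mp (Finset.mem_coe.mp hz)
    exact Ideal.mem_map_of_mem (algebraMap B S) (x := ⟨b, hsB hb⟩) (I := m.comap B.val.toRingHom) (hT' hb)
  have h2 : (1 : B) ∈ m.comap B.val.toRingHom := by
    rw [← Ideal.comap_map_eq_self_of_faithfullyFlat (B := S) (m.comap B.val.toRingHom), Ideal.mem_comap]
    simpa using h1
  exact hm.ne_top ((Ideal.eq_top_iff_one m).mpr h2)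

set_option backward.isDefEq.respectTransparency false in
/-- A homomorphism from a quasi-compact group to an affine group which is injective on global
functions is faithfully flat. -/
theorem flat_and_surjective (G G' : Over (Spec (CommRingCat.of k))) [GrpObj G] [GrpObj G']
    [CompactSpace G.left] [IsAffine G'.left]
    (u : G ⟶ G') [IsMonHom u] (hinj : Function.Injective u.left.appTop.hom) :
    Flat u.left ∧ Surjective u.left := by
  classical
  obtain ⟨A', ⟨e⟩⟩ : (hopfSpec (CommRingCat.of k)).essImage (Grp.mk G') :=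
    essImage_hopfSpec.mpr ‹_›
  let A := A'.unop
  let Y : Over (Spec (CommRingCat.of k)) :=
    (Spec (CommRingCat.of A)).asOver (Spec (CommRingCat.of k))
  let i : Y ⟶ G' := e.hom.hom.hom
  let j : G' ⟶ Y := e.inv.hom.hom
  have hij : i ≫ j = 𝟙 Y := congrArg (fun m => m.hom.hom) e.hom_inv_id
  have hji : j ≫ i = 𝟙 G' := congrArg (fun m => m.hom.hom) e.inv_hom_id
  haveI : IsMonHom j := inferInstanceAs (IsMonHom e.inv.hom.hom)
  haveI : IsIso i.left := ⟨j.left, congrArg Over.Hom.left hij, congrArg Over.Hom.left hji⟩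
  haveI : IsIso j.left := ⟨i.left, congrArg Over.Hom.left hji, congrArg Over.Hom.left hij⟩
  let v : G ⟶ Y := u ≫ j
  haveI : IsMonHom v := inferInstanceAs (IsMonHom (u ≫ j))
  haveI : IsIso j.left.appTop := inferInstanceAs (IsIso (Scheme.Γ.map j.left.op))
  have hv : Function.Injective v.left.appTop.hom := by
    have e1 : v.left.appTop = j.left.appTop ≫ u.left.appTop := Scheme.Hom.comp_appTop u.left j.left
    rw [e1]
    simp only [CommRingCat.hom_comp, RingHom.coe_comp]
    exact hinj.comp (ConcreteCategory.bijective_of_isIso j.left.appTop).1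
  let 𝒰 := G.left.affineCover.finiteSubcover
  let S0 := Γ(∐ 𝒰.X, ⊤)
  let g0 : Spec S0 ⟶ G.left := (∐ 𝒰.X).isoSpec.inv ≫ Limits.Sigma.desc 𝒰.f
  haveI : Flat g0 := inferInstance
  haveI : Surjective g0 := inferInstance
  let φ₀ : CommRingCat.of k ⟶ S0 := Spec.preimage (g0 ≫ G.hom)
  letI : Algebra k S0 := φ₀.hom.toAlgebra
  let φ : CommRingCat.of A ⟶ S0 := Spec.preimage (g0 ≫ v.left)
  have hφk : φ₀ = CommRingCat.ofHom (algebraMap k A) ≫ φ := by
    apply Spec.map_injective
    rw [Spec.map_comp, Spec.map_preimage, Spec.map_preimage, Category.assoc]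
    exact congrArg (g0 ≫ ·) (Over.w v).symm
  let φa : A →ₐ[k] S0 :=
    { φ.hom with commutes' := fun r => (congrArg (fun m : CommRingCat.of k ⟶ S0 => m r) hφk).symm }
  have key : ∀ (B : Subalgebra k A), H8HopfSub.IsHopfSub B → B.FG →
      (φa.comp B.val).toRingHom.FaithfullyFlat := by
    intro B hB hfg
    letI := H8HopfSub.hopf hB
    let Y0 : Over (Spec (CommRingCat.of k)) :=
      (Spec (CommRingCat.of B)).asOver (Spec (CommRingCat.of k))
    let qq := (hopfSpec (CommRingCat.of k)).map
      (CommHopfAlgCat.ofHom (H8HopfSub.valHom hB)).op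
    let q : Y ⟶ Y0 := qq.hom.hom
    haveI : IsMonHom q := inferInstanceAs (IsMonHom qq.hom.hom)
    have hq : q.left = Spec.map (CommRingCat.ofHom B.val.toRingHom) := rfl
    haveI : IsAffine Y0.left := inferInstanceAs (IsAffine (Spec (CommRingCat.of B)))
    haveI : Algebra.FiniteType k B := (Subalgebra.fg_iff_finiteType B).mp hfg
    haveI : IsNoetherianRing B := Algebra.FiniteType.isNoetherianRing k B
    haveI : IsNoetherianRing Γ(Y0.left, ⊤) := isNoetherianRing_of_ringEquiv B
      (Scheme.ΓSpecIso (CommRingCat.of B)).commRingCatIsoToRingEquiv.symm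
    haveI : IsMonHom (v ≫ q) := inferInstance
    have hqinj : Function.Injective q.left.appTop.hom := by
      rw [hq]
      have e2 : (Spec.map (CommRingCat.ofHom B.val.toRingHom)).appTop =
          (Scheme.ΓSpecIso (CommRingCat.of B)).hom ≫ CommRingCat.ofHom B.val.toRingHom ≫
            (Scheme.ΓSpecIso (CommRingCat.of A)).inv := by
        rw [← Scheme.ΓSpecIso_naturality_assoc, Iso.hom_inv_id, Category.comp_id]
      rw [e2]
      simp only [CommRingCat.hom_comp, RingHom.coe_comp]
      exact ((ConcreteCategory.bijective_of_isIso (Scheme.ΓSpecIso (CommRingCat.of A)).inv).1.comp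
        Subtype.val_injective).comp
        (ConcreteCategory.bijective_of_isIso (Scheme.ΓSpecIso (CommRingCat.of B)).hom).1
    obtain ⟨hf, hs⟩ := H8GrpFlatN.flat_and_surjective (v ≫ q) (by
      rw [show (v ≫ q).left.appTop = q.left.appTop ≫ v.left.appTop from
        Scheme.Hom.comp_appTop v.left q.left]
      simp only [CommRingCat.hom_comp, RingHom.coe_comp]
      exact hv.comp hqinj)
    have e3 : g0 ≫ (v ≫ q).left = Spec.map (CommRingCat.ofHom (φa.comp B.val).toRingHom) := by
      rw [Over.comp_left, hq, ← Category.assoc, ← Spec.map_preimage (g0 ≫ v.left), ← Spec.map_comp]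
      rfl
    haveI := hf
    haveI := hs
    exact (flat_and_surjective_SpecMap_iff (CommRingCat.ofHom (φa.comp B.val).toRingHom)).mp
      (e3 ▸ ⟨inferInstanceAs (Flat (g0 ≫ (v ≫ q).left)),
        inferInstanceAs (Surjective (g0 ≫ (v ≫ q).left))⟩)
  have hff := faithfullyFlat_of_fg φa key
  obtain ⟨h1, h2⟩ := (flat_and_surjective_SpecMap_iff φ).mpr hff
  rw [show Spec.map φ = g0 ≫ v.left from Spec.map_preimage _] at h1 h2
  haveI := h1
  haveI := h2
  haveI : Flat v.left := H8GrpFlat.flat_of_comp g0 v.left
  haveI : Surjective v.left := Surjective.of_comp g0 v.left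
  have hu : u.left = v.left ≫ i.left := by
    rw [← Over.comp_left, Category.assoc, hji, Category.comp_id]
  exact ⟨hu ▸ inferInstanceAs (Flat (v.left ≫ i.left)),
    hu ▸ inferInstanceAs (Surjective (v.left ≫ i.left))⟩

end Groth.Agent.H8GrpFlatGen
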