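import Mathlib
import Groth.Agent.Lib.H8AntiAffine
import Groth.Agent.Lib.H8AntiAffineSmooth
import Groth.Agent.Lib.H8GrpFlatGen
import Groth.Agent.Lib.H8SubGrp

/-!
# The kernel of the affinization morphism is anti-affine
-/

set_option autoImplicit false

universe u

open CategoryTheory Limits AlgebraicGeometry MonoidalCategory CartesianMonoidalCategory MonObj

namespace Groth.Agent.H8AffKernel

variable {k : Type u} [Field k]

local notation "Ov" => Over (Spec (CommRingCat.of k))

/-- The kernel of a homomorphism as a subgroup. -/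
theorem exists_grpObj_kernel {G H N : Ov} [GrpObj G] [GrpObj H] (f : G ⟶ H) [IsMonHom f] (i : N ⟶ G)
    (sq : IsPullback i (toUnit N) f η[H]) : ∃ g : GrpObj N, letI := g; IsMonHom i := by
  haveI : Mono η[H] := ⟨fun a b _ => toUnit_unique a b⟩
  haveI : Mono i := MorphismProperty.of_isPullback (P := MorphismProperty.monomorphisms Ov)
    sq.flip (MorphismProperty.monomorphisms.infer_property _)
  refine H8SubGrp.exists_grpObj i (fun X => (MonoidHom.ker
    { toFun := fun g : X ⟶ G => g ≫ f
      map_one' := MonObj.one_comp f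
      map_mul' := fun a b => MonObj.mul_comp a b f } : Subgroup (X ⟶ G))) fun X g => ?_
  rw [MonoidHom.mem_ker]
  show _ ↔ g ≫ f = 1
  constructor
  · rintro ⟨z, rfl⟩
    rw [Category.assoc, sq.w, ← Category.assoc, toUnit_unique (z ≫ toUnit N) (toUnit X),
      ← Hom.one_def]
  · intro h
    exact ⟨sq.lift g (toUnit X) (by rw [h, Hom.one_def]), sq.lift_fst _ _ _⟩

set_option backward.isDefEq.respectTransparency false in
/-- If a flat homomorphism to an affine group is bijective on global functions, its kernel is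
anti-affine. -/
theorem isIso_appTop_kernel {G A N : Ov} [GrpObj G] [GrpObj A] [CompactSpace G.left]
    [QuasiSeparatedSpace G.left] [CompactSpace N.left] [QuasiSeparatedSpace N.left]
    [IsAffine A.left] (q : G ⟶ A) [IsMonHom q] [IsIso q.left.appTop] [Flat q.left]
    (i : N ⟶ G) (sq : IsPullback i (toUnit N) q η[A]) : IsIso N.hom.appTop := by
  let r := fst G (𝟙_ Ov)
  have hr : IsIso r := by
    rw [show r = (ρ_ G).hom from (CartesianMonoidalCategory.rightUnitor_hom G).symm]
    infer_instance
  have h1 : IsPullback (fst G N * (snd G N ≫ i)) (G ◁ toUnit N) q (r ≫ q) := by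
    have := H8GrpFlat.isPullback_translate q η[A] i (toUnit N) sq
    rwa [show (fst G _ ≫ q) * (snd G _ ≫ η[A]) = r ≫ q by
      rw [show snd G (𝟙_ Ov) ≫ η[A] = 1 by
        rw [Hom.one_def, toUnit_unique (snd G _) (toUnit _)], _root_.mul_one]] at this
  have h2 : IsPullback (fst G N * (snd G N ≫ i)) (fst G N) q q :=
    h1.of_iso (Iso.refl _) (Iso.refl _) (asIso r) (Iso.refl _) (by simp) (by simp [r]) (by simp)
      (by simp)
  have H : IsPullback (fst G N * (snd G N ≫ i)).left (fst G N).left q.left q.left :=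
    h2.map (Over.forget _)
  have hG : IsQuasiSeparated (α := G.left) (Set.univ : Set G.left) := isQuasiSeparated_univ
  have hflat : q.left.appTop.hom.Flat :=
    RingHom.Flat.of_bijective (ConcreteCategory.bijective_of_isIso q.left.appTop)
  have hiso := isIso_pushoutSection_of_isCompact_of_flat_right_of_ringHomFlat H
    (US := ⊤) (UT := ⊤) (UX := ⊤) (UY := ⊤) (hUST := le_top) (hUSX := le_top)
    (hUY := by simp) (isAffineOpen_top _) (by simpa using isCompact_univ) (by simpa using hG)
    (by simpa using isCompact_univ) (by simpa using hG)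
    (by simpa [Scheme.Hom.app_eq_appLE, Scheme.Hom.appTop] using hflat)
  have hp := (isIso_pushoutSection_iff H (US := ⊤) (UT := ⊤) (UX := ⊤) (UY := ⊤)
    (hUST := le_top) (hUSX := le_top) (hUY := by simp)).mp hiso
  have hp' : IsPushout q.left.appTop q.left.appTop (fst G N * (snd G N ≫ i)).left.appTop
      (fst G N).left.appTop := by
    simpa [Scheme.Hom.app_eq_appLE, Scheme.Hom.appTop] using hp
  haveI : IsIso (fst G N).left.appTop := hp'.isIso_inr_of_isIso
  -- restrict along the unit of `G`
  let σ : N ⟶ G ⊗ N := lift (toUnit N ≫ η[G]) (𝟙 N)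
  haveI : Nonempty N.left := by
    have hw : η[G] ≫ q = 𝟙 (𝟙_ Ov) ≫ η[A] := by rw [Category.id_comp, IsMonHom.one_hom]
    exact ⟨(sq.lift η[G] (𝟙 _) hw).left (show Spec (CommRingCat.of k) from IsLocalRing.closedPoint k)⟩
  let : Field Γ(Spec (CommRingCat.of k), ⊤) :=
    ((Scheme.ΓSpecIso (CommRingCat.of k)).commRingCatIsoToRingEquiv.toMulEquiv.isField
      (Field.toIsField k)).toField
  haveI : Nontrivial Γ(N.left, ⊤) :=
    haveI : Nonempty (⊤ : N.left.Opens) := ⟨⟨Classical.arbitrary _, trivial⟩⟩
    Scheme.component_nontrivial N.left ⊤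
  rw [ConcreteCategory.isIso_iff_bijective]
  refine ⟨(N.hom.appTop.hom : Γ(Spec (CommRingCat.of k), ⊤) →+* Γ(N.left, ⊤)).injective, fun y => ?_⟩
  obtain ⟨g, hg⟩ := (ConcreteCategory.bijective_of_isIso (fst G N).left.appTop).2
    ((snd G N).left.appTop y)
  refine ⟨η[G].left.appTop g, ?_⟩
  have e1 : (toUnit N ≫ η[G]).left = N.hom ≫ η[G].left := rfl
  have e2 := congrArg σ.left.appTop hg
  rw [← CommRingCat.comp_apply, ← CommRingCat.comp_apply, ← Scheme.Hom.comp_appTop,
    ← Scheme.Hom.comp_appTop, ← Over.comp_left, ← Over.comp_left, lift_fst, lift_snd, e1,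
    Over.id_left, Scheme.Hom.id_appTop, Scheme.Hom.comp_appTop, CommRingCat.comp_apply] at e2
  exact e2

set_option backward.isDefEq.respectTransparency false in
/-- The kernel of `G ⟶ Spec Γ(G)` is anti-affine, smooth and connected. -/
theorem antiAffine (G : Ov) [GrpObj G] [LocallyOfFiniteType G.hom] [CompactSpace G.left] :
    IsIso (pullback.snd G.left.toSpecΓ (η[G].left ≫ G.left.toSpecΓ) ≫ (𝟙_ Ov).hom).appTop ∧
    Smooth (pullback.snd G.left.toSpecΓ (η[G].left ≫ G.left.toSpecΓ) ≫ (𝟙_ Ov).hom) ∧
    ConnectedSpace ↥(pullback G.left.toSpecΓ (η[G].left ≫ G.left.toSpecΓ)) := by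
  haveI : IsLocallyNoetherian G.left := LocallyOfFiniteType.isLocallyNoetherian G.hom
  haveI : QuasiSeparatedSpace G.left := inferInstance
  haveI : LocallyOfFiniteType (G ⊗ G).hom :=
    inferInstanceAs (LocallyOfFiniteType (pullback.fst G.hom G.hom ≫ G.hom))
  haveI : IsLocallyNoetherian (G ⊗ G).left := LocallyOfFiniteType.isLocallyNoetherian (G ⊗ G).hom
  haveI : QuasiCompact G.hom :=
    (HasAffineProperty.iff_of_isAffine (P := @QuasiCompact)).mpr ‹_›
  haveI : CompactSpace (G ⊗ G).left := inferInstanceAs (CompactSpace ↥(pullback G.hom G.hom))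
  haveI : QuasiSeparatedSpace (G ⊗ G).left := inferInstance
  let A : Ov := Over.mk (Spec.map G.hom.appTop ≫ (Spec (CommRingCat.of k)).isoSpec.inv)
  let q : G ⟶ A := Over.homMk G.left.toSpecΓ (by
    show G.left.toSpecΓ ≫ Spec.map G.hom.appTop ≫ _ = G.hom
    rw [← Scheme.toSpecΓ_naturality_assoc]
    simp [Scheme.isoSpec])
  haveI : IsAffine A.left := inferInstanceAs (IsAffine (Spec _))
  haveI : IsIso q.left.appTop := by
    show IsIso G.left.toSpecΓ.appTop
    rw [Scheme.toSpecΓ_appTop]
    infer_instance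
  obtain ⟨_, hq⟩ := H8Affinize.exists_grpObj q
  haveI := hq
  haveI : Flat q.left := (H8GrpFlatGen.flat_and_surjective G A q
    (ConcreteCategory.bijective_of_isIso q.left.appTop).1).1
  let P := pullback G.left.toSpecΓ (η[G].left ≫ G.left.toSpecΓ)
  let N : Ov := Over.mk (pullback.snd G.left.toSpecΓ (η[G].left ≫ G.left.toSpecΓ) ≫ (𝟙_ Ov).hom)
  let i : N ⟶ G := Over.homMk (pullback.fst G.left.toSpecΓ (η[G].left ≫ G.left.toSpecΓ)) (by
    show _ ≫ G.hom = pullback.snd _ _ ≫ (𝟙_ Ov).hom
    rw [← Over.w η[G], ← Over.w q, ← Category.assoc, ← Category.assoc]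
    exact congrArg (· ≫ A.hom)
      (pullback.condition (f := G.left.toSpecΓ) (g := η[G].left ≫ G.left.toSpecΓ)))
  have hη : η[A].left = η[G].left ≫ G.left.toSpecΓ := by
    rw [← IsMonHom.one_hom (f := q)]
    rfl
  have sq : IsPullback i (toUnit N) q η[A] := by
    have e : (toUnit N).left = pullback.snd G.left.toSpecΓ (η[G].left ≫ G.left.toSpecΓ) :=
      Category.comp_id _
    refine IsPullback.of_map (Over.forget _) ?_ ?_
    · apply Over.OverMorphism.ext
      rw [Over.comp_left, Over.comp_left, hη, e]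
      exact pullback.condition
    · show IsPullback i.left (toUnit N).left q.left η[A].left
      rw [hη, e]
      exact IsPullback.of_hasPullback _ _
  obtain ⟨_, hi⟩ := exists_grpObj_kernel q i sq
  have hsec : IsClosedImmersion η[A].left :=
    isClosedImmersion_of_comp_eq_id (Y := Spec (CommRingCat.of k)) A.hom η[A].left (by simp)
  haveI : IsClosedImmersion i.left :=
    MorphismProperty.of_isPullback (sq.map (Over.forget _)).flip hsec
  haveI : LocallyOfFiniteType N.hom := by rw [← Over.w i]; infer_instance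
  haveI : CompactSpace N.left := i.left.isClosedEmbedding.compactSpace
  haveI : IsLocallyNoetherian N.left := LocallyOfFiniteType.isLocallyNoetherian N.hom
  haveI : QuasiSeparatedSpace N.left := inferInstance
  haveI hN : IsIso N.hom.appTop := isIso_appTop_kernel q i sq
  exact ⟨hN, H8AntiAffineSmooth.smooth N,
    H8AntiAffine.connectedSpace N.left H8AntiAffineSmooth.isField_appTop⟩

end Groth.Agent.H8AffKernel
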