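import Mathlib

/-!
# Schemes over Artinian local rings
-/

set_option autoImplicit false

universe u

open CategoryTheory Limits AlgebraicGeometry

namespace Groth.Agent.H8Artin

variable (A : Type u) [CommRing A] [IsArtinianRing A] [IsLocalRing A]

instance subsingleton_spec : Subsingleton ↥(Spec (CommRingCat.of A)) :=
  ⟨fun x y => PrimeSpectrum.ext ((IsLocalRing.eq_maximalIdeal inferInstance).trans
    (IsLocalRing.eq_maximalIdeal inferInstance).symm)⟩

instance universallyOpen_to_spec {X : Scheme.{u}} (K : Type u) [Field K]
    (f : X ⟶ Spec (CommRingCat.of K)) : UniversallyOpen f := inferInstance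

/-- The residue map. -/
noncomputable def toSpec : Spec (CommRingCat.of (IsLocalRing.ResidueField A)) ⟶ Spec (CommRingCat.of A) :=
  Spec.map (CommRingCat.ofHom (IsLocalRing.residue A))

instance isClosedImmersion_toSpec : IsClosedImmersion (toSpec A) :=
  IsClosedImmersion.spec_of_surjective _ IsLocalRing.residue_surjective

instance surjective_toSpec : Surjective (toSpec A) :=
  ⟨fun _ => ⟨IsLocalRing.closedPoint (IsLocalRing.ResidueField A), Subsingleton.elim _ _⟩⟩

instance universallyOpen_toSpec : UniversallyOpen (toSpec A) := by
  refine ⟨MorphismProperty.universally_mk' _ _ fun {T} g _ => ?_⟩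
  exact (pullback.fst g (toSpec A)).isClosedEmbedding.isEmbedding.toHomeomorphOfSurjective
    (pullback.fst g (toSpec A)).surjective |>.isOpenMap

set_option backward.isDefEq.respectTransparency false in
/-- Everything is universally open over the spectrum of an Artinian local ring. -/
theorem universallyOpen {Y : Scheme.{u}} (f : Y ⟶ Spec (CommRingCat.of A)) : UniversallyOpen f := by
  let g := pullback.fst f (toSpec A)
  haveI : UniversallyOpen (g ≫ f) := by
    rw [pullback.condition]
    infer_instance
  refine ⟨MorphismProperty.universally_mk' _ _ fun {T} h _ => ?_⟩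
  let m : pullback h (g ≫ f) ⟶ pullback h f :=
    pullback.map _ _ _ _ (𝟙 _) g (𝟙 _) (by simp) (by simp)
  haveI : Surjective m := by
    have hb : IsPullback m (pullback.snd h (g ≫ f)) (pullback.snd h f) g := by
      refine IsPullback.of_bot ?_ ?_ (IsPullback.of_hasPullback h f).flip |>.flip
      · simp [m]
        exact (IsPullback.of_hasPullback h (g ≫ f)).flip
      · simp [m]
    exact MorphismProperty.of_isPullback hb.flip inferInstance
  intro U hU
  have e : (pullback.fst h f) '' U = (pullback.fst h (g ≫ f)) '' (m ⁻¹' U) := by
    rw [show pullback.fst h (g ≫ f) = m ≫ pullback.fst h f by simp [m], Scheme.Hom.comp_base,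
      TopCat.coe_comp, Set.image_comp, Set.image_preimage_eq _ m.surjective]
  rw [e]
  exact (pullback.fst h (g ≫ f)).isOpenMap _ (hU.preimage m.continuous)

end Groth.Agent.H8Artin
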