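import Mathlib
import Groth.Prelude.Def_AlgGrp
import Groth.Agent.Lib.H8IdComp

/-!
# Irreducible components of homogeneous spaces over a field

For an action of a group scheme over a field with surjective shear map, every point has a unique
maximal generalisation, obtained by moving it with the generic point of the identity component.
-/

set_option autoImplicit false

universe u

open CategoryTheory Limits AlgebraicGeometry MonoidalCategory CartesianMonoidalCategory
open scoped MonObj

namespace Groth.Agent.H8Homogeneous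

open H8GenPoint H8Component H8IdComp

variable {k : Type u} [Field k]

local notation "Ov" => Over (Spec (CommRingCat.of k))
local notation "S0" => Spec (CommRingCat.of k)

variable {G X : Over (Spec (CommRingCat.of k))} [GrpObj G] (a : AlgGrp.Action G X)

lemma act_one {T : Ov} (x : T ⟶ X) : lift (1 : T ⟶ G) x ≫ a.act = x := by
  have h := congrArg (fun q => lift (toUnit T) x ≫ q) a.one_act
  simp only [← Category.assoc, lift_whiskerRight] at h
  rw [Hom.one_def, h]
  simp

lemma act_mul {T : Ov} (g h : T ⟶ G) (x : T ⟶ X) :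
    lift (g * h) x ≫ a.act = lift g (lift h x ≫ a.act) ≫ a.act := by
  have h' := congrArg (fun q => lift (lift g h) x ≫ q) a.mul_act
  simp only [← Category.assoc, lift_whiskerRight, lift_lift_associator_hom, lift_whiskerLeft] at h'
  rw [Hom.mul_def]
  exact h'

/-- The orbit map of a point with values in `T`. -/
noncomputable def orb {T : Ov} (x : T ⟶ X) : G ⊗ T ⟶ X ⊗ T :=
  lift (lift (fst G T) (snd G T ≫ x) ≫ a.act) (snd G T)

lemma lift_orb {W T : Ov} (g : W ⟶ G) (t : W ⟶ T) (x : T ⟶ X) :
    lift g t ≫ orb a x = lift (lift g (t ≫ x) ≫ a.act) t := by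
  simp [orb, comp_lift, comp_lift_assoc]

lemma orb_comm {T T' : Ov} (v : T' ⟶ T) (x : T ⟶ X) :
    orb a (v ≫ x) ≫ X ◁ v = G ◁ v ≫ orb a x := by
  apply CartesianMonoidalCategory.hom_ext <;> simp [orb, comp_lift_assoc]

lemma orb_isPullback {T T' : Ov} (v : T' ⟶ T) (x : T ⟶ X) :
    IsPullback (orb a (v ≫ x)).left (G ◁ v).left (X ◁ v).left (orb a x).left := by
  refine (IsPullback.of_bot ?_ ?_ (isPullback_whisker X v)).flip
  · rw [← Over.comp_left, ← Over.comp_left, show orb a (v ≫ x) ≫ snd X T' = snd G T' from lift_snd _ _,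
      show orb a x ≫ snd X T = snd G T from lift_snd _ _]
    exact isPullback_whisker G v
  · rw [← Over.comp_left, ← Over.comp_left, orb_comm]

lemma pnt_orb {K : Type u} [Field K] {s : Spec (CommRingCat.of K) ⟶ S0} (g : Over.mk s ⟶ G)
    (x : Over.mk s ⟶ X) : (orb a x).left (pnt g) = pnt (lift g x ≫ a.act) := by
  show (lift g (𝟙 _) ≫ orb a x).left (IsLocalRing.closedPoint K) = _
  rw [lift_orb, Category.id_comp]
  rfl

/-- The maximal point of the orbit of a point with values in a field. -/
noncomputable def om {K : Type u} [Field K] {s : Spec (CommRingCat.of K) ⟶ S0}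
    (x : Over.mk s ⟶ X) : ↥(X ⊗ Over.mk s).left :=
  (orb a x).left (gen₀T G s)

lemma om_specializes {K : Type u} [Field K] {s : Spec (CommRingCat.of K) ⟶ S0}
    (x : Over.mk s ⟶ X) : om a x ⤳ pnt x := by
  have h := (genT_specializes G s (pnt (1 : Over.mk s ⟶ G))).map (orb a x).left.continuous
  rw [pnt_orb, act_one] at h
  exact h

lemma map_om {K L : Type u} [Field K] [Field L] {s : Spec (CommRingCat.of K) ⟶ S0}
    {s' : Spec (CommRingCat.of L) ⟶ S0} (v : Over.mk s' ⟶ Over.mk s) (x : Over.mk s ⟶ X) :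
    (X ◁ v).left (om a (v ≫ x)) = om a x := by
  haveI := flat_whisker G v
  rw [om, ← Scheme.Hom.comp_apply, ← Over.comp_left, orb_comm, Over.comp_left,
    Scheme.Hom.comp_apply, map_gen₀T]
  rfl

set_option backward.isDefEq.respectTransparency false in
/-- Being sent to a maximal point does not change under translation. -/
lemma isMaxPt_om_act {K : Type u} [Field K] {s : Spec (CommRingCat.of K) ⟶ S0}
    (h : Over.mk s ⟶ G) (x : Over.mk s ⟶ X) :
    IsMaxPt (om a (lift h x ≫ a.act)) ↔ IsMaxPt (om a x) := by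
  let T := Over.mk s
  have e1 : orb a (lift h x ≫ a.act) = (transl G h).hom ≫ orb a x := by
    rw [transl, lift_orb, orb, act_mul]
    congr 2
    simp [comp_lift_assoc]
  let lam : G ⊗ T ≅ G ⊗ T :=
    { hom := lift ((snd G T ≫ h) * fst G T) (snd G T)
      inv := lift ((snd G T ≫ h⁻¹) * fst G T) (snd G T)
      hom_inv_id := by
        apply CartesianMonoidalCategory.hom_ext
        · rw [Category.assoc, lift_fst, MonObj.comp_mul, lift_fst, ← Category.assoc, lift_snd,
            ← _root_.mul_assoc, ← MonObj.comp_mul, inv_mul_cancel, MonObj.comp_one,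
            _root_.one_mul, Category.id_comp]
        · rw [Category.assoc, lift_snd, lift_snd, Category.id_comp]
      inv_hom_id := by
        apply CartesianMonoidalCategory.hom_ext
        · rw [Category.assoc, lift_fst, MonObj.comp_mul, lift_fst, ← Category.assoc, lift_snd,
            ← _root_.mul_assoc, ← MonObj.comp_mul, mul_inv_cancel, MonObj.comp_one,
            _root_.one_mul, Category.id_comp]
        · rw [Category.assoc, lift_snd, lift_snd, Category.id_comp] }
  let act' : X ⊗ T ≅ X ⊗ T :=
    { hom := lift (lift (snd X T ≫ h) (fst X T) ≫ a.act) (snd X T)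
      inv := lift (lift (snd X T ≫ h⁻¹) (fst X T) ≫ a.act) (snd X T)
      hom_inv_id := by
        apply CartesianMonoidalCategory.hom_ext
        · rw [Category.assoc, lift_fst, comp_lift_assoc, lift_fst, ← Category.assoc, lift_snd,
            ← act_mul, ← MonObj.comp_mul, inv_mul_cancel, MonObj.comp_one, act_one,
            Category.id_comp]
        · rw [Category.assoc, lift_snd, lift_snd, Category.id_comp]
      inv_hom_id := by
        apply CartesianMonoidalCategory.hom_ext
        · rw [Category.assoc, lift_fst, comp_lift_assoc, lift_fst, ← Category.assoc, lift_snd,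
            ← act_mul, ← MonObj.comp_mul, mul_inv_cancel, MonObj.comp_one, act_one,
            Category.id_comp]
        · rw [Category.assoc, lift_snd, lift_snd, Category.id_comp] }
  have e2 : lam.hom ≫ orb a x = orb a x ≫ act'.hom := by
    show lift ((snd G T ≫ h) * fst G T) (snd G T) ≫ orb a x
      = orb a x ≫ lift (lift (snd X T ≫ h) (fst X T) ≫ a.act) (snd X T)
    rw [lift_orb, act_mul, comp_lift, comp_lift_assoc, ← Category.assoc,
      show orb a x ≫ snd X T = snd G T from lift_snd _ _,
      show orb a x ≫ fst X T = lift (fst G T) (snd G T ≫ x) ≫ a.act from lift_fst _ _]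
  haveI : IsIso lam.hom := lam.isIso_hom
  have e3 : (transl G h).hom.left (gen₀T G s) = lam.hom.left (gen₀T G s) := by
    rw [gen₀T, map_genT, map_genT, transl_pnt_one]
    congr 1
    symm
    show (lift (1 : T ⟶ G) (𝟙 T) ≫ lam.hom).left (IsLocalRing.closedPoint K) = _
    rw [show lift (1 : T ⟶ G) (𝟙 T) ≫ lam.hom = lift h (𝟙 T) by
      show lift (1 : T ⟶ G) (𝟙 T) ≫ lift _ _ = _
      rw [comp_lift, MonObj.comp_mul, lift_fst, lift_snd, ← Category.assoc, lift_snd,
        Category.id_comp, _root_.mul_one]]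
    rfl
  haveI : IsIso act'.hom.left := ((Over.forget _).mapIso act').isIso_hom
  rw [om, e1, Over.comp_left, Scheme.Hom.comp_apply, e3, ← Scheme.Hom.comp_apply,
    ← Over.comp_left, e2, Over.comp_left, Scheme.Hom.comp_apply, IsMaxPt.of_iso]
  rfl

variable (hΦ : Surjective (lift a.act (snd G X)).left)

include hΦ in
set_option backward.isDefEq.respectTransparency false in
lemma surjective_orb {T : Ov} (x : T ⟶ X) : Surjective (orb a x).left := by
  let P := pullback (lift a.act (snd G X)).left (X ◁ x).left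
  let P0 : Ov := Over.mk (pullback.snd (lift a.act (snd G X)).left (X ◁ x).left ≫ (X ⊗ T).hom)
  let pa : P0 ⟶ G ⊗ X := Over.homMk (pullback.fst (lift a.act (snd G X)).left (X ◁ x).left) (by
    show _ = pullback.snd (lift a.act (snd G X)).left (X ◁ x).left ≫ (X ⊗ T).hom
    rw [← Over.w (X ◁ x), ← Category.assoc, ← pullback.condition, Category.assoc,
      Over.w (lift a.act (snd G X))])
  let pb : P0 ⟶ X ⊗ T := Over.homMk (pullback.snd (lift a.act (snd G X)).left (X ◁ x).left) rfl
  have hab : pa ≫ lift a.act (snd G X) = pb ≫ X ◁ x :=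
    Over.OverMorphism.ext pullback.condition
  have h1 := congrArg (fun q => q ≫ fst X X) hab
  have h2 := congrArg (fun q => q ≫ snd X X) hab
  simp only [Category.assoc, lift_fst, lift_snd, whiskerLeft_fst, whiskerLeft_snd] at h1 h2
  have hw : lift (pa ≫ fst G X) (pb ≫ snd X T) ≫ orb a x = pb := by
    rw [lift_orb]
    apply CartesianMonoidalCategory.hom_ext
    · rw [lift_fst, Category.assoc, ← h2, ← comp_lift_assoc, lift_fst_snd, Category.id_comp, h1]
    · rw [lift_snd]
  haveI : Surjective pb.left :=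
    inferInstanceAs (Surjective (pullback.snd (lift a.act (snd G X)).left (X ◁ x).left))
  refine ⟨fun z => ?_⟩
  obtain ⟨p, rfl⟩ := pb.left.surjective z
  refine ⟨(lift (pa ≫ fst G X) (pb ≫ snd X T)).left p, ?_⟩
  rw [← Scheme.Hom.comp_apply, ← Over.comp_left, hw]

include hΦ in
set_option backward.isDefEq.respectTransparency false in
/-- Orbits of the identity component are dense in irreducible components. -/
theorem isMaxPt_om {K : Type u} [Field K] {s : Spec (CommRingCat.of K) ⟶ S0}
    (x : Over.mk s ⟶ X) : IsMaxPt (om a x) := by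
  obtain ⟨ζ, hζ, -⟩ := exists_isMaxPt (pnt x)
  haveI := surjective_orb a hΦ x
  obtain ⟨g₀, hg₀⟩ := (orb a x).left.surjective ζ
  have hg : (orb a x).left (genT G s g₀) = ζ :=
    hζ.eq (hg₀ ▸ (genT_specializes G s g₀).map (orb a x).left.continuous)
  obtain ⟨L, _, _, s', q, hq⟩ := exists_geom_point (G ⊗ Over.mk s) (genT G s g₀)
  let v : Over.mk s' ⟶ Over.mk s := q ≫ snd G (Over.mk s)
  let h : Over.mk s' ⟶ G := q ≫ fst G (Over.mk s)
  haveI := flat_whisker G v
  haveI := flat_whisker X v
  have hv : (G ◁ v).left (pnt h) = genT G s g₀ := by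
    show (lift h (𝟙 _) ≫ G ◁ v).left (IsLocalRing.closedPoint L) = _
    rw [lift_whiskerLeft, Category.id_comp,
      show lift h v = q by apply CartesianMonoidalCategory.hom_ext <;> simp [h, v], hq]
  have hv' : (G ◁ v).left (genT G s' (pnt h)) = genT G s g₀ :=
    (isMaxPt_genT G s g₀).eq (hv ▸ (genT_specializes G s' _).map (G ◁ v).left.continuous)
  have hmax : IsMaxPt ((orb a (v ≫ x)).left (genT G s' (pnt h))) :=
    IsMaxPt.map_baseChange (orb_isPullback a v x) (a := genT G s g₀) (by rw [hg]; exact hζ)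
      (isMaxPt_genT G s' _) hv'
  have e : IsMaxPt (om a (lift h (v ≫ x) ≫ a.act)) := by
    have e1 : orb a (lift h (v ≫ x) ≫ a.act) = (transl G h).hom ≫ orb a (v ≫ x) := by
      rw [transl, lift_orb, orb, act_mul]
      congr 2
      simp [comp_lift_assoc]
    rw [om, e1, Over.comp_left, Scheme.Hom.comp_apply, gen₀T, map_genT, transl_pnt_one]
    exact hmax
  rw [← map_om a v x]
  exact ((isMaxPt_om_act a h _).mp e).map _

include hΦ in
set_option backward.isDefEq.respectTransparency false in
/-- A maximal point specialising to a rational point is the maximal point of its orbit. -/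
theorem eq_om {K : Type u} [Field K] {s : Spec (CommRingCat.of K) ⟶ S0}
    (x : Over.mk s ⟶ X) {w : ↥(X ⊗ Over.mk s).left} (hw : IsMaxPt w) (hws : w ⤳ pnt x) :
    w = om a x := by
  let T := Over.mk s
  let m0 : G ⊗ T ⟶ G ⊗ (X ⊗ T) := lift (fst G T) (lift (snd G T ≫ x) (snd G T))
  let act' : G ⊗ (X ⊗ T) ⟶ X ⊗ T :=
    lift (lift (fst G (X ⊗ T)) (snd G (X ⊗ T) ≫ fst X T) ≫ a.act) (snd G (X ⊗ T) ≫ snd X T)
  have hm : m0 ≫ act' = orb a x := by
    apply CartesianMonoidalCategory.hom_ext <;> simp [m0, act', orb, comp_lift_assoc, T]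
  have hj : (snd G (X ⊗ T)).left (m0.left (gen₀T G s)) = pnt x := by
    rw [← Scheme.Hom.comp_apply, ← Over.comp_left,
      show m0 ≫ snd G (X ⊗ T) = snd G T ≫ lift x (𝟙 T) by simp [m0, comp_lift]]
    rw [Over.comp_left, Scheme.Hom.comp_apply]
    haveI : Subsingleton ↥T.left := inferInstanceAs (Subsingleton ↥(Spec (CommRingCat.of K)))
    exact congrArg _ (Subsingleton.elim _ _)
  obtain ⟨θ, hθ, hθw⟩ := exists_lift (snd G (X ⊗ T)).left (hj ▸ hws)
  obtain ⟨L, _, _, s', q, hq⟩ := exists_geom_point (X ⊗ T) w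
  let v : Over.mk s' ⟶ T := q ≫ snd X T
  let x' : Over.mk s' ⟶ X := q ≫ fst X T
  obtain ⟨z, hz, -⟩ := Scheme.exists_preimage_of_isPullback (isPullback_whisker G q) θ
    (IsLocalRing.closedPoint L) (hθw.trans hq.symm)
  subst hz
  have hfst : (fst G (Over.mk s')).left z = gen₀ G := by
    have h := hθ.map (fst G (X ⊗ T)).left.continuous
    have e1 : (fst G (X ⊗ T)).left (m0.left (gen₀T G s)) = gen₀ G := by
      rw [← Scheme.Hom.comp_apply, ← Over.comp_left, show m0 ≫ fst G (X ⊗ T) = fst G T from
        lift_fst _ _, fst_gen₀T]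
    have e2 : (fst G (X ⊗ T)).left ((G ◁ q).left z) = (fst G (Over.mk s')).left z := by
      rw [← Scheme.Hom.comp_apply, ← Over.comp_left, whiskerLeft_fst]
    rw [e1, e2] at h
    exact (isMaxPt_gen G _).eq h
  have hz0 : gen₀T G s' ⤳ z := by
    rw [← genT_eq_of_gen_eq G s' z (by rw [hfst]; exact gen_eq_self G (isMaxPt_gen G _))]
    exact genT_specializes G s' z
  have hc : G ◁ q ≫ act' = orb a x' ≫ X ◁ v := by
    apply CartesianMonoidalCategory.hom_ext <;> simp [act', orb, comp_lift_assoc, x', v]
  haveI := flat_whisker X v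
  let R := (X ◁ v).left (om a x')
  have hR : IsMaxPt R := (isMaxPt_om a hΦ x').map _
  have hRw : R = w := by
    have h := (om_specializes a x').map (X ◁ v).left.continuous
    have e : (X ◁ v).left (pnt x') = w := by
      show (lift x' (𝟙 _) ≫ X ◁ v).left (IsLocalRing.closedPoint L) = _
      rw [lift_whiskerLeft, Category.id_comp,
        show lift x' v = q by apply CartesianMonoidalCategory.hom_ext <;> simp [x', v], hq]
    rw [e] at h
    exact hw.eq h
  have h1 : R ⤳ om a x := by
    have h2 := hz0.map (G ◁ q ≫ act').left.continuous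
    have e1 : (G ◁ q ≫ act').left (gen₀T G s') = R := by
      rw [hc]; rfl
    rw [e1] at h2
    refine h2.trans ?_
    have h3 := hθ.map act'.left.continuous
    simp only [← Scheme.Hom.comp_apply, ← Over.comp_left] at h3
    rw [hm] at h3
    exact h3
  rw [← hRw]
  exact (isMaxPt_om a hΦ x).eq h1

include hΦ in
set_option backward.isDefEq.respectTransparency false in
/-- Every point of a base change has exactly one maximal generalisation. -/
theorem existsUnique_genX' {K : Type u} [Field K] (s : Spec (CommRingCat.of K) ⟶ S0)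
    (z : ↥(X ⊗ Over.mk s).left) : ∃! y, IsMaxPt y ∧ y ⤳ z := by
  obtain ⟨y, hy, hyz⟩ := exists_isMaxPt z
  refine ⟨y, ⟨hy, hyz⟩, ?_⟩
  rintro y' ⟨hy', hyz'⟩
  obtain ⟨L, _, _, s', q, hq⟩ := exists_geom_point (X ⊗ Over.mk s) z
  let v : Over.mk s' ⟶ Over.mk s := q ≫ snd X (Over.mk s)
  let x' : Over.mk s' ⟶ X := q ≫ fst X (Over.mk s)
  haveI := flat_whisker X v
  have e : (X ◁ v).left (pnt x') = z := by
    show (lift x' (𝟙 _) ≫ X ◁ v).left (IsLocalRing.closedPoint L) = _
    rw [lift_whiskerLeft, Category.id_comp,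
      show lift x' v = q by apply CartesianMonoidalCategory.hom_ext <;> simp [x', v], hq]
  have key : ∀ y, IsMaxPt y → y ⤳ z → y = (X ◁ v).left (om a x') := by
    intro y hy hyz
    obtain ⟨w, hw, hw'⟩ := exists_lift (X ◁ v).left (e.symm ▸ hyz)
    obtain ⟨w', hw'max, hww⟩ := exists_isMaxPt w
    rw [← eq_om a hΦ x' hw'max (hww.trans hw)]
    exact (hy.eq (hw' ▸ hww.map (X ◁ v).left.continuous)).symm
  rw [key y' hy' hyz', key y hy hyz]

include hΦ in
/-- Every point has exactly one maximal generalisation. -/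
theorem existsUnique_genX (y : X.left) : ∃! w, IsMaxPt w ∧ w ⤳ y := by
  obtain ⟨w, hw, hwy⟩ := exists_isMaxPt y
  refine ⟨w, ⟨hw, hwy⟩, ?_⟩
  rintro w' ⟨hw', hwy'⟩
  obtain ⟨K, _, _, s, p, hp⟩ := exists_geom_point X y
  have e : (fst X (Over.mk s)).left (pnt p) = y := (fst_pnt p).trans hp
  have key : ∀ w, IsMaxPt w → w ⤳ y → w = (fst X (Over.mk s)).left (om a p) := by
    intro w hw hwy
    obtain ⟨z, hz, hz'⟩ := exists_lift (fst X (Over.mk s)).left (e.symm ▸ hwy)
    obtain ⟨z', hz'max, hzz⟩ := exists_isMaxPt z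
    rw [← eq_om a hΦ p hz'max (hzz.trans hz)]
    exact (hw.eq (hz' ▸ hzz.map (fst X (Over.mk s)).left.continuous)).symm
  rw [key w' hw' hwy', key w hw hwy]

/-- The maximal generalisation of a point. -/
noncomputable def genX (y : X.left) : X.left := (existsUnique_genX a hΦ y).choose

lemma isMaxPt_genX (y : X.left) : IsMaxPt (genX a hΦ y) :=
  (existsUnique_genX a hΦ y).choose_spec.1.1

lemma genX_specializes (y : X.left) : genX a hΦ y ⤳ y :=
  (existsUnique_genX a hΦ y).choose_spec.1.2

lemma eq_genX {y w : X.left} (h : IsMaxPt w) (hs : w ⤳ y) : w = genX a hΦ y :=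
  (existsUnique_genX a hΦ y).choose_spec.2 w ⟨h, hs⟩

lemma genX_eq_of_specializes {x y : X.left} (h : y ⤳ x) : genX a hΦ y = genX a hΦ x :=
  eq_genX a hΦ (isMaxPt_genX a hΦ y) ((genX_specializes a hΦ y).trans h)

lemma genX_eq_self {y : X.left} (h : IsMaxPt y) : genX a hΦ y = y :=
  (eq_genX a hΦ h specializes_rfl).symm

lemma fst_om {K : Type u} [Field K] {s : Spec (CommRingCat.of K) ⟶ S0} (x : Over.mk s ⟶ X) :
    (fst X (Over.mk s)).left (om a x) = genX a hΦ (x.left (IsLocalRing.closedPoint K)) := by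
  refine eq_genX a hΦ ((isMaxPt_om a hΦ x).map _) ?_
  rw [← fst_pnt x]
  exact (om_specializes a x).map (fst X (Over.mk s)).left.continuous

lemma fst_orb {T : Ov} (x : T ⟶ X) :
    orb a x ≫ fst X T = lift (fst G T) (snd G T ≫ x) ≫ a.act := lift_fst _ _

include hΦ in
set_option backward.isDefEq.respectTransparency false in
/-- The identity component preserves the maximal generalisation. -/
theorem genX_act (z : ↥(G ⊗ X).left) (hz : gen G ((fst G X).left z) = gen₀ G) :
    genX a hΦ (a.act.left z) = genX a hΦ ((snd G X).left z) := by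
  obtain ⟨K, _, _, s, p, hp⟩ := exists_geom_point X ((snd G X).left z)
  obtain ⟨z', hz', -⟩ := Scheme.exists_preimage_of_isPullback (isPullback_whisker G p)
    z (IsLocalRing.closedPoint K) hp.symm
  subst hz'
  have hfst : (fst G X).left ((G ◁ p).left z') = (fst G (Over.mk s)).left z' := by
    rw [← Scheme.Hom.comp_apply, ← Over.comp_left, whiskerLeft_fst]
  rw [hfst] at hz
  have h1 : gen₀T G s ⤳ z' := genT_eq_of_gen_eq G s z' hz ▸ genT_specializes G s z'
  have e : G ◁ p ≫ a.act = orb a p ≫ fst X (Over.mk s) := by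
    rw [fst_orb]
    congr 1
  have h2 := h1.map (G ◁ p ≫ a.act).left.continuous
  have e2 : (G ◁ p ≫ a.act).left (gen₀T G s) = genX a hΦ (p.left (IsLocalRing.closedPoint K)) := by
    rw [e, ← fst_om]
    rfl
  rw [e2] at h2
  rw [← hp]
  exact (eq_genX a hΦ (isMaxPt_genX a hΦ _) h2).symm

set_option backward.isDefEq.respectTransparency false in
/-- Every point is obtained from its maximal generalisation by the identity component. -/
theorem exists_act_eq (y : X.left) : ∃ z : ↥(G ⊗ X).left, (fst G X).left z = gen₀ G ∧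
    (snd G X).left z = genX a hΦ y ∧ a.act.left z = y := by
  obtain ⟨K, _, _, s, p, hp⟩ := exists_geom_point X y
  let T := Over.mk s
  let inv' : G ⊗ T ⟶ G ⊗ T := lift (fst G T)⁻¹ (snd G T)
  haveI : IsIso inv' := ⟨inv', by
    apply CartesianMonoidalCategory.hom_ext <;> simp [inv', GrpObj.comp_inv], by
    apply CartesianMonoidalCategory.hom_ext <;> simp [inv', GrpObj.comp_inv]⟩
  let m : G ⊗ T ⟶ G ⊗ X := lift (fst G T)⁻¹ (lift (fst G T) (snd G T ≫ p) ≫ a.act)
  refine ⟨m.left (gen₀T G s), ?_, ?_, ?_⟩
  · rw [← Scheme.Hom.comp_apply, ← Over.comp_left,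
      show m ≫ fst G X = inv' ≫ fst G T by simp [m, inv'], Over.comp_left, Scheme.Hom.comp_apply,
      gen₀T, map_genT]
    have : inv'.left (pnt (1 : T ⟶ G)) = pnt (1 : T ⟶ G) := by
      show (lift (1 : T ⟶ G) (𝟙 _) ≫ inv').left (IsLocalRing.closedPoint K) = _
      rw [show lift (1 : T ⟶ G) (𝟙 _) ≫ inv' = lift (1 : T ⟶ G) (𝟙 _) by
        simp [inv', comp_lift, GrpObj.comp_inv]]
      rfl
    rw [this, ← gen₀T, fst_gen₀T]
  · rw [← Scheme.Hom.comp_apply, ← Over.comp_left,
      show m ≫ snd G X = orb a p ≫ fst X T by simp [m, orb, T], Over.comp_left,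
      Scheme.Hom.comp_apply, ← hp, ← fst_om]
    rfl
  · rw [← Scheme.Hom.comp_apply, ← Over.comp_left,
      show m ≫ a.act = snd G T ≫ p by rw [← act_mul, inv_mul_cancel, act_one],
      Over.comp_left, Scheme.Hom.comp_apply, ← hp]
    haveI : Subsingleton ↥T.left := inferInstanceAs (Subsingleton ↥(Spec (CommRingCat.of K)))
    exact congrArg _ (Subsingleton.elim _ _)

include hΦ in
/-- The set of points with maximal generalisation in an open is the orbit of this open. -/
theorem genX_preimage_eq (U : X.left.Opens) :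
    {y | genX a hΦ y ∈ U} = a.act.left ''
      {z | gen G ((fst G X).left z) = gen₀ G ∧ (snd G X).left z ∈ U} := by
  ext y
  constructor
  · intro hy
    obtain ⟨z, h1, h2, h3⟩ := exists_act_eq a hΦ y
    exact ⟨z, ⟨by rw [h1]; exact gen_eq_self G (isMaxPt_gen G _), by rw [h2]; exact hy⟩, h3⟩
  · rintro ⟨z, ⟨hz, hzU⟩, rfl⟩
    show genX a hΦ _ ∈ U
    rw [genX_act a hΦ z hz]
    exact (genX_specializes a hΦ _).mem_open U.2 hzU

/-- The map from the identity component times the space. -/
noncomputable def compAct : comp G ⊗ X ⟶ X := incl G ▷ X ≫ a.act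

set_option backward.isDefEq.respectTransparency false in
lemma universallyOpen_compAct : UniversallyOpen (compAct a).left := by
  let C := comp G
  let i := incl G
  let sh : C ⊗ X ≅ C ⊗ X :=
    { hom := lift (fst C X) (lift (fst C X ≫ i) (snd C X) ≫ a.act)
      inv := lift (fst C X) (lift (fst C X ≫ i)⁻¹ (snd C X) ≫ a.act)
      hom_inv_id := by
        apply CartesianMonoidalCategory.hom_ext
        · rw [Category.assoc, lift_fst, lift_fst, Category.id_comp]
        · rw [Category.assoc, lift_snd, comp_lift_assoc, GrpObj.comp_inv, ← Category.assoc,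
            lift_fst, lift_snd, ← act_mul, inv_mul_cancel, act_one, Category.id_comp]
      inv_hom_id := by
        apply CartesianMonoidalCategory.hom_ext
        · rw [Category.assoc, lift_fst, lift_fst, Category.id_comp]
        · rw [Category.assoc, lift_snd, comp_lift_assoc, ← Category.assoc,
            lift_fst, lift_snd, ← act_mul, mul_inv_cancel, act_one, Category.id_comp] }
  have hμ : sh.hom ≫ snd C X = compAct a := by
    rw [show sh.hom ≫ snd C X = lift (fst C X ≫ i) (snd C X) ≫ a.act from lift_snd _ _, compAct]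
    congr 1
  haveI : UniversallyOpen (snd C X).left := by rw [Over.snd_left]; infer_instance
  haveI : IsIso sh.hom.left := ((Over.forget _).mapIso sh).isIso_hom
  rw [← hμ, Over.comp_left]
  infer_instance

include hΦ in
set_option backward.isDefEq.respectTransparency false in
lemma genX_preimage_eq_image (U : X.left.Opens) :
    {y | genX a hΦ y ∈ U} = (compAct a).left '' {w | (snd (comp G) X).left w ∈ U} := by
  rw [genX_preimage_eq a hΦ U]
  ext y
  constructor
  · rintro ⟨z, ⟨hz, hzU⟩, rfl⟩
    obtain ⟨c, hc⟩ : (fst G X).left z ∈ Set.range (incl G).left := by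
      rw [range_incl, mem_closure_gen₀_iff]; exact hz
    obtain ⟨w, rfl⟩ : z ∈ Set.range (incl G ▷ X).left := by
      rw [Over.whiskerRight_left]
      exact (Scheme.Pullback.range_map (comp G).hom X.hom G.hom X.hom (incl G).left (𝟙 X.left)
        (𝟙 S0) _ _).ge ⟨⟨c, hc⟩, ⟨_, rfl⟩⟩
    refine ⟨w, ?_, rfl⟩
    show (snd (comp G) X).left w ∈ U
    rw [← whiskerRight_snd (incl G) X, Over.comp_left, Scheme.Hom.comp_apply]
    exact hzU
  · rintro ⟨w, hw, rfl⟩
    refine ⟨(incl G ▷ X).left w, ⟨?_, ?_⟩, rfl⟩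
    · rw [← Scheme.Hom.comp_apply, ← Over.comp_left, whiskerRight_fst, Over.comp_left,
        Scheme.Hom.comp_apply]
      exact (mem_closure_gen₀_iff G).mp (incl_mem G _)
    · rw [← Scheme.Hom.comp_apply, ← Over.comp_left, whiskerRight_snd]
      exact hw

include hΦ in
/-- The set of points with maximal generalisation in an open is open. -/
theorem isOpen_genX_preimage (U : X.left.Opens) : IsOpen {y | genX a hΦ y ∈ U} := by
  rw [genX_preimage_eq_image a hΦ U]
  haveI := universallyOpen_compAct a
  exact (compAct a).left.isOpenMap _ (U.2.preimage (snd (comp G) X).left.continuous)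

include hΦ in
/-- For a retrocompact open the orbit is the closure. -/
theorem genX_preimage_eq_closure (U : X.left.Opens)
    (hU : ∀ V : X.left.Opens, IsAffineOpen V → IsCompact ((U : Set X.left) ∩ V)) :
    {y | genX a hΦ y ∈ U} = closure (U : Set X.left) := by
  refine Set.Subset.antisymm (fun y hy => ?_) (fun y hy => ?_)
  · exact (genX_specializes a hΦ y).mem_closed isClosed_closure (subset_closure hy)
  · obtain ⟨w, hw, hwy⟩ := exists_specializes_of_mem_closure U hU hy
    show genX a hΦ y ∈ U
    rw [← genX_eq_of_specializes a hΦ hwy]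
    exact (genX_specializes a hΦ w).mem_open U.2 hw

include hΦ in
/-- The connected components of a quasi-separated homogeneous space are irreducible. -/
theorem connectedComponent_eq [QuasiSeparatedSpace X.left] (x : X.left) :
    connectedComponent x = closure {genX a hΦ x} := by
  refine Set.Subset.antisymm (fun y hy => ?_) ?_
  · rw [← specializes_iff_mem_closure]
    by_contra hne
    have hne' : genX a hΦ x ≠ genX a hΦ y := fun h => hne (h ▸ genX_specializes a hΦ y)
    obtain ⟨O, hO, hxO, hyO⟩ : ∃ O, IsOpen O ∧ genX a hΦ x ∈ O ∧ genX a hΦ y ∉ O := by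
      have : ¬ genX a hΦ y ⤳ genX a hΦ x := fun h => hne' ((isMaxPt_genX a hΦ x) _ h).symm
      rwa [not_specializes_iff_exists_open] at this
    obtain ⟨_, ⟨U, hU, rfl⟩, hxU, hUO⟩ :=
      X.left.isBasis_affineOpens.exists_subset_of_mem_open hxO hO
    replace hU : IsAffineOpen U := hU
    have hclosure := genX_preimage_eq_closure a hΦ U (fun V hV =>
      QuasiSeparatedSpace.inter_isCompact _ _ U.2 hU.isCompact V.2 hV.isCompact)
    have hclopen : IsClopen {y | genX a hΦ y ∈ U} :=
      ⟨hclosure ▸ isClosed_closure, isOpen_genX_preimage a hΦ U⟩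
    exact hyO (hUO (hclopen.connectedComponent_subset hxU hy))
  · exact isIrreducible_singleton.closure.isPreirreducible.isPreconnected.subset_connectedComponent
      (specializes_iff_mem_closure.mp (genX_specializes a hΦ x))

include hΦ in
/-- An irreducible homogeneous space is quasi-compact. -/
theorem compactSpace [IrreducibleSpace X.left] : CompactSpace X.left := by
  obtain ⟨_, ⟨U, hU, rfl⟩, hξU, -⟩ :=
    X.left.isBasis_affineOpens.exists_subset_of_mem_open (Set.mem_univ (genericPoint X.left))
      isOpen_univ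
  replace hU : IsAffineOpen U := hU
  have hgen : ∀ y, genX a hΦ y = genericPoint X.left := fun y => by
    refine (eq_genX a hΦ ?_ ((genericPoint_spec X.left).specializes (Set.mem_univ y))).symm
    intro w hw
    exact (hw.antisymm ((genericPoint_spec X.left).specializes (Set.mem_univ w))).eq
  have huniv : {y | genX a hΦ y ∈ (U : X.left.Opens)} = Set.univ :=
    Set.eq_univ_of_forall fun y => by
      show genX a hΦ y ∈ (U : X.left.Opens)
      rw [hgen]; exact hξU
  rw [← isCompact_univ_iff, ← huniv, genX_preimage_eq_image a hΦ U]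
  haveI := compactSpace_comp G
  haveI : QuasiCompact (comp G).hom :=
    (HasAffineProperty.iff_of_isAffine (P := @QuasiCompact)).mpr inferInstance
  haveI : QuasiCompact (snd (comp G) X).left := by rw [Over.snd_left]; infer_instance
  exact ((snd (comp G) X).left.isCompact_preimage hU.isCompact).image (compAct a).left.continuous

include hΦ in
set_option backward.isDefEq.respectTransparency false in
/-- The component of a rational point is geometrically irreducible. -/
theorem eq_om_of_genX {K : Type u} [Field K] (s : Spec (CommRingCat.of K) ⟶ S0)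
    (x : 𝟙_ Ov ⟶ X) (ζ : ↥(X ⊗ Over.mk s).left) (hζ : IsMaxPt ζ)
    (h : (fst X (Over.mk s)).left ζ = genX a hΦ (x.left (IsLocalRing.closedPoint k))) :
    ζ = om a (toUnit (Over.mk s) ≫ x) := by
  let T₀ : Ov := Over.mk (𝟙 S0)
  let x₀ : T₀ ⟶ X := x
  let v : Over.mk s ⟶ T₀ := toUnit (Over.mk s)
  haveI := flat_whisker X v
  have hinj : Function.Injective (fst X T₀).left := by
    haveI : IsIso (fst X T₀).left := by
      rw [Over.fst_left]
      exact inferInstanceAs (IsIso (pullback.fst X.hom (𝟙 S0)))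
    exact (fst X T₀).left.isOpenEmbedding.injective
  have heq : (orb a x₀).left (gen₀T G (𝟙 S0)) = (X ◁ v).left ζ := by
    apply hinj
    rw [show (fst X T₀).left ((orb a x₀).left (gen₀T G (𝟙 S0)))
      = genX a hΦ (x₀.left (IsLocalRing.closedPoint k)) from fst_om a hΦ x₀]
    refine h.symm.trans ?_
    rw [← Scheme.Hom.comp_apply, ← Over.comp_left, whiskerLeft_fst]
  obtain ⟨g, hg1, hg2⟩ := Scheme.exists_preimage_of_isPullback (orb_isPullback a v x₀) ζ
    (gen₀T G (𝟙 S0)) heq.symm
  have hfst : (fst G (Over.mk s)).left g = gen₀ G := by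
    rw [← fst_gen₀T G (𝟙 S0), ← hg2, ← Scheme.Hom.comp_apply, ← Over.comp_left, whiskerLeft_fst]
  have hg0 : gen₀T G s ⤳ g := by
    rw [← genT_eq_of_gen_eq G s g (by rw [hfst]; exact gen_eq_self G (isMaxPt_gen G _))]
    exact genT_specializes G s g
  have := hg0.map (orb a (v ≫ x₀)).left.continuous
  rw [hg1] at this
  exact (hζ.eq this).symm

include hΦ in
set_option backward.isDefEq.respectTransparency false in
/-- Two points with the same maximal generalisation differ by the identity component. -/
theorem exists_act_rat (x : 𝟙_ Ov ⟶ X) (y : X.left)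
    (hy : genX a hΦ y = genX a hΦ (x.left (IsLocalRing.closedPoint k))) :
    ∃ c : G.left, gen G c = gen₀ G ∧ (a.orbitMap x).left c = y := by
  obtain ⟨K, _, _, s, p, hp⟩ := exists_geom_point X y
  let T := Over.mk s
  let xT : T ⟶ X := toUnit T ≫ x
  have hω : om a p = om a xT := by
    refine eq_om_of_genX a hΦ s x (om a p) (isMaxPt_om a hΦ p) ?_
    rw [fst_om a hΦ, hp, hy]
  obtain ⟨g, hg1, hg2⟩ := Scheme.Pullback.exists_preimage_pullback
    (f := (orb a p).left) (g := (orb a xT).left) (gen₀T G s) (gen₀T G s) hω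
  let P0 : Ov := Over.mk (pullback.fst (orb a p).left (orb a xT).left ≫ (G ⊗ T).hom)
  let p₁ : P0 ⟶ G ⊗ T := Over.homMk (pullback.fst (orb a p).left (orb a xT).left) rfl
  let p₂ : P0 ⟶ G ⊗ T := Over.homMk (pullback.snd (orb a p).left (orb a xT).left) (by
    show _ = pullback.fst (orb a p).left (orb a xT).left ≫ (G ⊗ T).hom
    conv_lhs => rw [← Over.w (orb a xT)]
    conv_rhs => rw [← Over.w (orb a p)]
    rw [← Category.assoc, ← Category.assoc, pullback.condition])
  have hp12 : p₁ ≫ orb a p = p₂ ≫ orb a xT := Over.OverMorphism.ext pullback.condition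
  obtain ⟨L, _, _, s', q, hq⟩ := exists_geom_point P0 g
  let v : Over.mk s' ⟶ T := q ≫ p₁ ≫ snd G T
  let h₁ : Over.mk s' ⟶ G := q ≫ p₁ ≫ fst G T
  let h₂ : Over.mk s' ⟶ G := q ≫ p₂ ≫ fst G T
  have hv : q ≫ p₂ ≫ snd G T = v := by
    have h := congrArg (fun r => q ≫ r ≫ snd X T) hp12
    simp only [Category.assoc, show ∀ z : T ⟶ X, orb a z ≫ snd X T = snd G T from fun z =>
      lift_snd _ _] at h
    exact h.symm
  have hl₁ : lift h₁ v = q ≫ p₁ := by
    apply CartesianMonoidalCategory.hom_ext <;> simp [h₁, v]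
  have hl₂ : lift h₂ v = q ≫ p₂ := by
    apply CartesianMonoidalCategory.hom_ext <;> simp [h₂, ← hv]
  have hact : lift h₁ (v ≫ p) ≫ a.act = lift h₂ (v ≫ xT) ≫ a.act := by
    have h := congrArg (fun r => q ≫ r ≫ fst X T) hp12
    simp only [← Category.assoc, ← hl₁, ← hl₂] at h
    simpa [lift_orb] using h
  have hgen : ∀ (pp : P0 ⟶ G ⊗ T), pp.left g = gen₀T G s →
      gen G ((q ≫ pp ≫ fst G T).left (IsLocalRing.closedPoint L)) = gen₀ G := fun pp hpp => by
    have e : (q ≫ pp ≫ fst G T).left (IsLocalRing.closedPoint L) = gen₀ G := by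
      rw [Over.comp_left, Scheme.Hom.comp_apply, hq, Over.comp_left, Scheme.Hom.comp_apply, hpp,
        fst_gen₀T]
    rw [e]
    exact gen_eq_self G (isMaxPt_gen G _)
  refine ⟨(h₁⁻¹ * h₂).left (IsLocalRing.closedPoint L), ?_, ?_⟩
  · show gen G ((lift h₁⁻¹ h₂ ≫ μ[G]).left _) = _
    rw [Over.comp_left, Scheme.Hom.comp_apply]
    have e1 : (fst G G).left ((lift h₁⁻¹ h₂).left (IsLocalRing.closedPoint L))
        = ι[G].left (h₁.left (IsLocalRing.closedPoint L)) := by
      rw [← Scheme.Hom.comp_apply, ← Over.comp_left, lift_fst, ← Scheme.Hom.comp_apply,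
        ← Over.comp_left]
      rfl
    have e2 : (snd G G).left ((lift h₁⁻¹ h₂).left (IsLocalRing.closedPoint L))
        = h₂.left (IsLocalRing.closedPoint L) := by
      rw [← Scheme.Hom.comp_apply, ← Over.comp_left, lift_snd]
    rw [gen_mul G _ (by rw [e1]; exact gen_inv G _ (hgen p₁ hg1)), e2]
    exact hgen p₂ hg2
  · have : (h₁⁻¹ * h₂) ≫ a.orbitMap x = v ≫ p := by
      have e : (h₁⁻¹ * h₂) ≫ a.orbitMap x = lift (h₁⁻¹ * h₂) (v ≫ xT) ≫ a.act := by
        show _ ≫ lift (𝟙 G) (toUnit G ≫ x) ≫ a.act = _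
        rw [comp_lift_assoc, Category.comp_id]
        simp [xT]
      rw [e, act_mul, ← hact, ← act_mul, inv_mul_cancel, act_one]
    rw [← Scheme.Hom.comp_apply, ← Over.comp_left, this, ← hp, Over.comp_left, Scheme.Hom.comp_apply]
    haveI : Subsingleton ↥T.left := inferInstanceAs (Subsingleton ↥(Spec (CommRingCat.of K)))
    exact congrArg _ (Subsingleton.elim _ _)

end Groth.Agent.H8Homogeneous
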