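import Mathlib
import Groth.Agent.Lib.H6.Misc
import Groth.Agent.Lib.H8IdComp
import Groth.Agent.Lib.H8Homogeneous

/-!
# Complements on the identity component over a field
-/

set_option autoImplicit false

universe u

open CategoryTheory Limits AlgebraicGeometry MonoidalCategory CartesianMonoidalCategory
open scoped MonObj

namespace Groth.Agent.H8Conj

open H8GenPoint H8Component H8IdComp H8Homogeneous

variable {k : Type u} [Field k]

local notation "Ov" => Over (Spec (CommRingCat.of k))
local notation "S0" => Spec (CommRingCat.of k)

variable (G : Over (Spec (CommRingCat.of k))) [GrpObj G]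

/-- Membership of a `T`-point in the identity component is stable under the group operations. -/
lemma gen_mul_inv {T : Ov} (g h : T ⟶ G) (t : T.left) (hg : gen G (g.left t) = gen₀ G)
    (hh : gen G (h.left t) = gen₀ G) : gen G ((g * h⁻¹).left t) = gen₀ G := by
  show gen G ((lift g (h ≫ ι[G]) ≫ μ[G]).left t) = gen₀ G
  rw [Over.comp_left, Scheme.Hom.comp_apply, gen_mul G _ (by
    rw [← Scheme.Hom.comp_apply, ← Over.comp_left, lift_fst]
    exact hg), ← Scheme.Hom.comp_apply, ← Over.comp_left, lift_snd, Over.comp_left,
    Scheme.Hom.comp_apply]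
  exact gen_inv G _ hh

set_option backward.isDefEq.respectTransparency false in
/-- The identity component is normal. -/
lemma gen_conj {K : Type u} [Field K] {s : Spec (CommRingCat.of K) ⟶ S0} (p n : Over.mk s ⟶ G)
    (hn : gen G (n.left (IsLocalRing.closedPoint K)) = gen₀ G) :
    gen G ((p * n * p⁻¹).left (IsLocalRing.closedPoint K)) = gen₀ G := by
  let T := Over.mk s
  let c : G ⊗ T ⟶ G ⊗ T := lift ((snd G T ≫ p) * fst G T * (snd G T ≫ p⁻¹)) (snd G T)
  haveI : IsIso c := ⟨lift ((snd G T ≫ p⁻¹) * fst G T * (snd G T ≫ p)) (snd G T), by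
    apply CartesianMonoidalCategory.hom_ext
    · simp [c, MonObj.comp_mul, GrpObj.comp_inv, _root_.mul_assoc]
    · simp [c], by
    apply CartesianMonoidalCategory.hom_ext
    · simp [c, MonObj.comp_mul, GrpObj.comp_inv, _root_.mul_assoc]
    · simp [c]⟩
  have hc : ∀ x : T ⟶ G, c.left (pnt x) = pnt (p * x * p⁻¹) := fun x => by
    show (lift x (𝟙 T) ≫ c).left (IsLocalRing.closedPoint K) = _
    rw [show lift x (𝟙 T) ≫ c = lift (p * x * p⁻¹) (𝟙 T) by
      rw [show c = lift _ _ from rfl, comp_lift, MonObj.comp_mul, MonObj.comp_mul, lift_fst,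
        lift_snd, lift_snd_assoc, lift_snd_assoc, Category.id_comp, Category.id_comp]]
    rfl
  have h1 : genT G s (pnt n) = gen₀T G s := genT_eq_of_gen_eq G s _ (by rw [fst_pnt]; exact hn)
  rw [← fst_pnt, ← hc, ← fst_genT, ← map_genT, h1, gen₀T, map_genT, hc, _root_.mul_one,
    mul_inv_cancel, fst_genT, fst_pnt_one]
  rfl

/-- The identity component of a locally noetherian group scheme is open. -/
theorem isOpen_connectedComponent [IsLocallyNoetherian G.left] (x : G.left) :
    IsOpen (connectedComponent x) := by
  refine H6.closed_gen _ isClosed_connectedComponent fun y z hzy hy => ?_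
  rw [H8IdComp.connectedComponent_eq] at hy ⊢
  rw [← specializes_iff_mem_closure] at hy ⊢
  have e : gen G y = gen G x :=
    (gen_eq_of_specializes G hy).symm.trans (gen_eq_self G (isMaxPt_gen G x))
  rw [← e, ← gen_eq_of_specializes G hzy]
  exact gen_specializes G z

/-- Left translation as an action. -/
noncomputable def selfAction : AlgGrp.Action G G where
  act := μ[G]
  one_act := MonObj.one_mul G
  mul_act := MonObj.mul_assoc G

set_option backward.isDefEq.respectTransparency false in
lemma surjective_shear : Surjective (lift (selfAction G).act (snd G G)).left := by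
  haveI : IsIso (lift (selfAction G).act (snd G G)) := ⟨lift (fst G G * (snd G G)⁻¹) (snd G G), by
    apply CartesianMonoidalCategory.hom_ext
    · simp [selfAction, MonObj.comp_mul, GrpObj.comp_inv, H8Shear.mu_eq]
    · simp, by
    apply CartesianMonoidalCategory.hom_ext
    · simp [selfAction, MonObj.comp_mul, GrpObj.comp_inv, H8Shear.mu_eq]
    · simp⟩
  haveI : IsIso (lift (selfAction G).act (snd G G)).left :=
    ((Over.forget _).mapIso (asIso (lift (selfAction G).act (snd G G)))).isIso_hom
  infer_instance

set_option backward.isDefEq.respectTransparency false in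
/-- Connected components of a group scheme over a field are quasi-compact. -/
theorem isCompact_connectedComponent (x : G.left) : IsCompact (connectedComponent x) := by
  let a := selfAction G
  have hΦ := surjective_shear G
  obtain ⟨_, ⟨U, hU, rfl⟩, hxU, -⟩ :=
    G.left.isBasis_affineOpens.exists_subset_of_mem_open (Set.mem_univ (genX a hΦ x)) isOpen_univ
  replace hU : IsAffineOpen U := hU
  have hc : IsCompact {y | genX a hΦ y ∈ (U : G.left.Opens)} := by
    rw [genX_preimage_eq_image a hΦ U]
    haveI := compactSpace_comp G
    haveI : QuasiCompact (comp G).hom :=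
      (HasAffineProperty.iff_of_isAffine (P := @QuasiCompact)).mpr inferInstance
    haveI : QuasiCompact (snd (comp G) G).left := by rw [Over.snd_left]; infer_instance
    exact ((snd (comp G) G).left.isCompact_preimage hU.isCompact).image (compAct a).left.continuous
  refine hc.of_isClosed_subset isClosed_connectedComponent fun y hy => ?_
  show genX a hΦ y ∈ (U : G.left.Opens)
  rw [H8IdComp.connectedComponent_eq, ← specializes_iff_mem_closure] at hy
  rw [← eq_genX a hΦ (isMaxPt_gen G x) hy, eq_genX a hΦ (isMaxPt_gen G x) (gen_specializes G x)]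
  exact hxU

end Groth.Agent.H8Conj
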