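import Mathlib

/-!
# Subgroups of group schemes over a field which are immersed are closed
-/

set_option autoImplicit false

universe u

open CategoryTheory Limits AlgebraicGeometry MonoidalCategory CartesianMonoidalCategory MonObj

namespace Groth.Agent.H8ImmClosed

variable {k : Type u} [Field k]

local notation "𝔖" => Spec (CommRingCat.of k)

set_option backward.isDefEq.respectTransparency false in
/-- A field-valued point whose image lies in an immersion factors through it. -/
lemma exists_lift_of_mem_range {A X : Scheme.{u}} (f : A ⟶ X) [IsImmersion f]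
    {K : CommRingCat.{u}} (hK : IsField K) (p : Spec K ⟶ X) (h : ∀ s, p s ∈ Set.range f) :
    ∃ q : Spec K ⟶ A, q ≫ f = p := by
  have : Surjective (pullback.snd f p) := ⟨fun s => by
    obtain ⟨a, ha⟩ := h s
    obtain ⟨z, -, hz⟩ := Scheme.Pullback.exists_preimage_pullback a s ha
    exact ⟨z, hz⟩⟩
  have : IsClosedImmersion (pullback.snd f p) := .of_isPreimmersion _ (by
    rw [Set.range_eq_univ.mpr (pullback.snd f p).surjective]; exact isClosed_univ)
  let : Field K := hK.toField
  have : IsIso (pullback.snd f p) := isIso_of_isClosedImmersion_of_surjective _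
  refine ⟨inv (pullback.snd f p) ≫ pullback.fst f p, ?_⟩
  rw [Category.assoc, pullback.condition, IsIso.inv_hom_id_assoc]

variable {G H : Over (Spec (CommRingCat.of k))} [GrpObj G] [GrpObj H]

lemma isPullback_whiskerRight (h : H ⟶ G) (P : Over (Spec (CommRingCat.of k))) :
    IsPullback (h ▷ P).left (fst H P).left (fst G P).left h.left := by
  refine IsPullback.of_right ?_ ?_ (IsPullback.of_hasPullback G.hom P.hom).flip
  · have h1 : (h ▷ P).left ≫ (snd G P).left = (snd H P).left := by
      rw [← Over.comp_left, whiskerRight_snd]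
    have h2 : h.left ≫ G.hom = H.hom := Over.w h
    show IsPullback ((h ▷ P).left ≫ (snd G P).left) (fst H P).left P.hom (h.left ≫ G.hom)
    rw [h1, h2]
    exact (IsPullback.of_hasPullback H.hom P.hom).flip
  · show (h ▷ P).left ≫ (fst G P).left = (fst H P).left ≫ h.left
    rw [← Over.comp_left, ← Over.comp_left, whiskerRight_fst]

lemma range_whiskerRight (h : H ⟶ G) (P : Over (Spec (CommRingCat.of k))) :
    Set.range (h ▷ P).left = (fst G P).left ⁻¹' Set.range h.left := by
  ext z
  constructor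
  · rintro ⟨w, rfl⟩
    exact ⟨(fst H P).left w, by
      rw [← Scheme.Hom.comp_apply, ← (isPullback_whiskerRight h P).w, Scheme.Hom.comp_apply]⟩
  · rintro ⟨a, ha⟩
    obtain ⟨w, hw, -⟩ :=
      Scheme.exists_preimage_of_isPullback (isPullback_whiskerRight h P) z a ha.symm
    exact ⟨w, hw⟩

lemma isOpenMap_fst (X P : Over (Spec (CommRingCat.of k))) : IsOpenMap (fst X P).left := by
  have : UniversallyOpen P.hom := inferInstance
  exact (UniversallyOpen.fst X.hom P.hom).universally_isOpenMap
    _ _ _ IsPullback.of_id_snd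

/-- A point of a group scheme as a point over its residue field. -/
noncomputable abbrev resPt {X : Over (Spec (CommRingCat.of k))} (x : X.left) :
    Over (Spec (CommRingCat.of k)) :=
  Over.mk (X.left.fromSpecResidueField x ≫ X.hom)

/-- The tautological point. -/
noncomputable def pt {X : Over (Spec (CommRingCat.of k))} (x : X.left) : resPt x ⟶ X :=
  Over.homMk (X.left.fromSpecResidueField x) rfl

lemma pt_apply {X : Over (Spec (CommRingCat.of k))} (x : X.left) (s : (resPt x).left) :
    (pt x).left s = x :=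
  Scheme.fromSpecResidueField_apply x s

variable (h : H ⟶ G) [IsMonHom h] [IsImmersion h.left]

/-- A point all whose values are in the range of an immersed subgroup factors through it. -/
lemma exists_factor {X : Over (Spec (CommRingCat.of k))} (z : X.left) (a : X ⟶ G)
    (ha : a.left z ∈ Set.range h.left) : ∃ a' : resPt z ⟶ H, a' ≫ h = pt z ≫ a := by
  obtain ⟨q, hq⟩ := exists_lift_of_mem_range h.left (Semifield.toIsField _) (pt z ≫ a).left
    (fun s => by
      rw [Over.comp_left, Scheme.Hom.comp_apply]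
      exact (pt_apply z s).symm ▸ ha)
  refine ⟨Over.homMk q ?_, Over.OverMorphism.ext hq⟩
  rw [← Over.w h, reassoc_of% hq, Over.w]

/-- If two of `a`, `b`, `a * b` land in the subgroup, so does the third. -/
lemma mem_of_mul_mem {X : Over (Spec (CommRingCat.of k))} (z : X.left) (a b : X ⟶ G)
    (hab : (a * b).left z ∈ Set.range h.left) (hb : b.left z ∈ Set.range h.left) :
    a.left z ∈ Set.range h.left := by
  obtain ⟨c, hc⟩ := exists_factor h z _ hab
  obtain ⟨b', hb'⟩ := exists_factor h z _ hb
  have e : pt z ≫ a = (c * b'⁻¹) ≫ h := by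
    rw [mul_comp, GrpObj.inv_comp, hc, hb', comp_mul, mul_inv_cancel_right]
  obtain ⟨s⟩ : Nonempty (resPt z).left := inferInstanceAs (Nonempty (Spec (X.left.residueField z)))
  refine ⟨(c * b'⁻¹).left s, ?_⟩
  rw [← Scheme.Hom.comp_apply, ← Over.comp_left, ← e, Over.comp_left, Scheme.Hom.comp_apply,
    pt_apply]

lemma mul_mem {X : Over (Spec (CommRingCat.of k))} (z : X.left) (a b : X ⟶ G)
    (ha : a.left z ∈ Set.range h.left) (hb : b.left z ∈ Set.range h.left) :
    (a * b).left z ∈ Set.range h.left := by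
  obtain ⟨a', ha'⟩ := exists_factor h z _ ha
  obtain ⟨b', hb'⟩ := exists_factor h z _ hb
  have e : pt z ≫ (a * b) = (a' * b') ≫ h := by rw [mul_comp, ha', hb', comp_mul]
  obtain ⟨s⟩ : Nonempty (resPt z).left := inferInstanceAs (Nonempty (Spec (X.left.residueField z)))
  refine ⟨(a' * b').left s, ?_⟩
  rw [← Scheme.Hom.comp_apply, ← Over.comp_left, ← e, Over.comp_left, Scheme.Hom.comp_apply,
    pt_apply]

lemma inv_mem {X : Over (Spec (CommRingCat.of k))} (z : X.left) (a : X ⟶ G)
    (ha : a.left z ∈ Set.range h.left) : (a⁻¹).left z ∈ Set.range h.left := by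
  obtain ⟨a', ha'⟩ := exists_factor h z _ ha
  have e : pt z ≫ a⁻¹ = a'⁻¹ ≫ h := by rw [GrpObj.inv_comp, ha', GrpObj.comp_inv]
  obtain ⟨s⟩ : Nonempty (resPt z).left := inferInstanceAs (Nonempty (Spec (X.left.residueField z)))
  refine ⟨(a'⁻¹).left s, ?_⟩
  rw [← Scheme.Hom.comp_apply, ← Over.comp_left, ← e, Over.comp_left, Scheme.Hom.comp_apply,
    pt_apply]

/-- An immersed subgroup scheme over a field is closed. -/
theorem isClosedImmersion : IsClosedImmersion h.left := by
  refine .of_isPreimmersion _ (isClosed_of_closure_subset fun x hx => ?_)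
  set R := Set.range h.left with hR
  set C := closure R with hC
  obtain ⟨U, Z, hU, hZ, hUZ⟩ := h.left.isLocallyClosed_range
  let P := resPt x
  let p : P ⟶ G := pt x
  have hp : ∀ s : P.left, p.left s = x := pt_apply x
  set π := (fst G P).left
  have hπ : IsOpenMap π := isOpenMap_fst G P
  have hπC : π ⁻¹' C = closure (π ⁻¹' R) := hπ.preimage_closure_eq_closure_preimage π.continuous _
  -- `closure R * R` stays in the closure
  have key : ∀ (z : (G ⊗ H).left), (fst G H).left z ∈ C →
      (fst G H * snd G H ≫ h).left z ∈ C := by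
    intro z hz
    have h1 : z ∈ closure ((fst G H).left ⁻¹' R) := by
      rw [← (isOpenMap_fst G H).preimage_closure_eq_closure_preimage (fst G H).left.continuous]
      exact hz
    refine map_mem_closure (fst G H * snd G H ≫ h).left.continuous h1 fun w hw => ?_
    exact mul_mem h w _ _ hw ⟨(snd G H).left w, rfl⟩
  have key' : ∀ (z : (H ⊗ P).left) (q : P ⟶ G), (∀ s, q.left s ∈ C) →
      ((snd H P ≫ q) * (fst H P ≫ h)).left z ∈ C := by
    intro z q hq
    let v : H ⊗ P ⟶ G ⊗ H := lift (snd H P ≫ q) (fst H P)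
    have e : (snd H P ≫ q) * (fst H P ≫ h) = v ≫ (fst G H * snd G H ≫ h) := by
      simp [v, comp_mul, lift_snd_assoc]
    rw [e, Over.comp_left, Scheme.Hom.comp_apply]
    refine key _ ?_
    rw [← Scheme.Hom.comp_apply, ← Over.comp_left, lift_fst, Over.comp_left, Scheme.Hom.comp_apply]
    exact hq _
  -- translation by the point `x`
  let σ : (P ⟶ G) → (G ⊗ P ⟶ G ⊗ P) := fun q => lift ((snd G P ≫ q) * fst G P) (snd G P)
  have hσ : ∀ q : P ⟶ G, (∀ s, q.left s ∈ C) → ∀ z, π z ∈ C → π ((σ q).left z) ∈ C := by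
    intro q hq z hz
    have hz' : z ∈ closure (π ⁻¹' R) := hπC ▸ hz
    show (σ q).left z ∈ π ⁻¹' C
    rw [hπC]
    rw [← closure_closure (s := π ⁻¹' R)]
    refine map_mem_closure (σ q).left.continuous hz' fun w hw => ?_
    rw [← hπC]
    rw [← range_whiskerRight h P] at hw
    obtain ⟨w, rfl⟩ := hw
    show π ((σ q).left ((h ▷ P).left w)) ∈ C
    rw [← Scheme.Hom.comp_apply, ← Scheme.Hom.comp_apply, ← Over.comp_left, ← Over.comp_left]
    have e : (h ▷ P) ≫ σ q ≫ fst G P = (snd H P ≫ q) * (fst H P ≫ h) := by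
      simp only [σ, lift_fst, comp_mul, whiskerRight_snd_assoc, whiskerRight_fst]
    rw [e]
    exact key' w q hq
  have hpinv : ∀ s : P.left, (p⁻¹).left s ∈ C := by
    intro s
    have e : p⁻¹ = p ≫ (𝟙 G)⁻¹ := by rw [GrpObj.comp_inv, Category.comp_id]
    rw [e, Over.comp_left, Scheme.Hom.comp_apply]
    refine map_mem_closure ((𝟙 G)⁻¹).left.continuous ((hp s).symm ▸ hx) fun w hw => ?_
    exact inv_mem h w _ hw
  have hid : ∀ q : P ⟶ G, σ q⁻¹ ≫ σ q = 𝟙 _ := fun q => by
    apply CartesianMonoidalCategory.hom_ext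
    · simp only [σ, Category.assoc, lift_fst, lift_snd_assoc, comp_mul, GrpObj.comp_inv,
        Category.id_comp, mul_inv_cancel_left]
    · simp [σ]
  -- some translate of a point of the subgroup is in the subgroup
  obtain ⟨s⟩ : Nonempty P.left := inferInstanceAs (Nonempty (Spec (G.left.residueField x)))
  let z₀ := ((lift (toUnit P ≫ η[G]) (𝟙 P)) : P ⟶ G ⊗ P).left s
  have hz₀ : π z₀ ∈ R := by
    refine ⟨((toUnit P ≫ η[H]) : P ⟶ H).left s, ?_⟩
    rw [← Scheme.Hom.comp_apply, ← Scheme.Hom.comp_apply, ← Over.comp_left, ← Over.comp_left,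
      lift_fst, Category.assoc, IsMonHom.one_hom h]
  set z₁ := (σ p).left z₀ with hz₁
  have hback : (σ p⁻¹).left z₁ = z₀ := by
    rw [hz₁, ← Scheme.Hom.comp_apply, ← Over.comp_left]
    have := hid p⁻¹
    rw [inv_inv] at this
    rw [this]
    rfl
  have hz₁C : z₁ ∈ closure (π ⁻¹' R) :=
    hπC ▸ hσ p (fun s => (hp s).symm ▸ hx) _ (subset_closure hz₀)
  have hopen : z₁ ∈ (σ p⁻¹).left ⁻¹' (π ⁻¹' U) := by
    show π ((σ p⁻¹).left z₁) ∈ U
    rw [hback]
    exact ((hUZ ▸ hz₀ : π z₀ ∈ U ∩ Z)).1
  obtain ⟨z, hz, hzR⟩ := mem_closure_iff.mp hz₁C _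
    ((hU.preimage π.continuous).preimage (σ p⁻¹).left.continuous) hopen
  -- `z` is in the subgroup, and so is its translate
  set w := (σ p⁻¹).left z with hw
  have hwC : π w ∈ C := hσ _ hpinv z (subset_closure hzR)
  have hwR : π w ∈ R := by
    rw [hR, hUZ]
    exact ⟨hz, (closure_minimal (by rw [hR, hUZ]; exact Set.inter_subset_right) hZ) hwC⟩
  have hbr : (fst G P).left z ∈ R := hzR
  have hab : ((snd G P ≫ p⁻¹) * fst G P).left z ∈ R := by
    have e : σ p⁻¹ ≫ fst G P = (snd G P ≫ p⁻¹) * fst G P := lift_fst _ _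
    rw [← e, Over.comp_left, Scheme.Hom.comp_apply]
    exact hwR
  have ha := inv_mem h z _ (mem_of_mul_mem h z _ _ hab hbr)
  rw [GrpObj.comp_inv, inv_inv, Over.comp_left, Scheme.Hom.comp_apply, hp] at ha
  exact ha

end Groth.Agent.H8ImmClosed
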