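import Mathlib
import Groth.Agent.Lib.H8Artin
import Groth.Agent.Lib.H8Conj
import Groth.Agent.Lib.H8ImmClosed

/-!
# Group schemes over Artinian local rings and their special fibres
-/

set_option autoImplicit false

universe u

open CategoryTheory Limits AlgebraicGeometry MonoidalCategory CartesianMonoidalCategory
open scoped MonObj CategoryTheory.Obj

namespace Groth.Agent.H8ArtinGrp

open H8Artin

variable {A : Type u} [CommRing A] [IsArtinianRing A] [IsLocalRing A]

local notation "Ov" => Over (Spec (CommRingCat.of A))
local notation "kk" => IsLocalRing.ResidueField A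

/-- Base change to the residue field. -/
noncomputable abbrev F : Over (Spec (CommRingCat.of A)) ⥤ Over (Spec (CommRingCat.of kk)) :=
  Over.pullback (toSpec A)

noncomputable instance grpObjSpecial (G : Over (Spec (CommRingCat.of A))) [GrpObj G] :
    GrpObj (F.obj G) :=
  Functor.grpObjObj

instance isMonHomSpecial {G H : Over (Spec (CommRingCat.of A))} [GrpObj G] [GrpObj H] (u : G ⟶ H)
    [IsMonHom u] : IsMonHom (F.map u) :=
  inferInstance

/-- The inclusion of the special fibre. -/
noncomputable abbrev proj (X : Over (Spec (CommRingCat.of A))) : (F.obj X).left ⟶ X.left :=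
  pullback.fst X.hom (toSpec A)

instance isClosedImmersion_proj (X : Over (Spec (CommRingCat.of A))) : IsClosedImmersion (proj X) :=
  inferInstance

instance surjective_proj (X : Over (Spec (CommRingCat.of A))) : Surjective (proj X) :=
  inferInstance

/-- The special fibre is homeomorphic to the scheme. -/
noncomputable def homeo (X : Over (Spec (CommRingCat.of A))) : ↥(F.obj X).left ≃ₜ ↥X.left :=
  (proj X).isClosedEmbedding.isEmbedding.toHomeomorphOfSurjective (proj X).surjective

lemma homeo_apply (X : Over (Spec (CommRingCat.of A))) (x : ↥(F.obj X).left) :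
    homeo X x = proj X x := rfl

lemma proj_naturality {X Y : Over (Spec (CommRingCat.of A))} (f : X ⟶ Y) :
    (F.map f).left ≫ proj Y = proj X ≫ f.left :=
  pullback.lift_fst _ _ _

lemma map_apply {X Y : Over (Spec (CommRingCat.of A))} (f : X ⟶ Y) (x : ↥(F.obj X).left) :
    homeo Y ((F.map f).left x) = f.left (homeo X x) := by
  show proj Y ((F.map f).left x) = f.left (proj X x)
  rw [← Scheme.Hom.comp_apply, proj_naturality, Scheme.Hom.comp_apply]

lemma range_eq {X Y : Over (Spec (CommRingCat.of A))} (f : X ⟶ Y) :
    Set.range f.left = homeo Y '' Set.range (F.map f).left := by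
  ext y
  constructor
  · rintro ⟨x, rfl⟩
    exact ⟨_, ⟨(homeo X).symm x, rfl⟩, by rw [map_apply, Homeomorph.apply_symm_apply]⟩
  · rintro ⟨_, ⟨x, rfl⟩, rfl⟩
    exact ⟨homeo X x, (map_apply f x).symm⟩

lemma connectedComponent_eq (X : Over (Spec (CommRingCat.of A))) (x : ↥(F.obj X).left) :
    connectedComponent (homeo X x) = homeo X '' connectedComponent x := by
  refine Set.Subset.antisymm ?_ ((homeo X).continuous.image_connectedComponent_subset x)
  intro y hy
  refine ⟨(homeo X).symm y, ?_, (homeo X).apply_symm_apply y⟩
  have := (homeo X).symm.continuous.image_connectedComponent_subset (homeo X x) ⟨y, hy, rfl⟩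
  rwa [Homeomorph.symm_apply_apply] at this

variable (G : Over (Spec (CommRingCat.of A))) [GrpObj G]

set_option backward.isDefEq.respectTransparency false in
lemma homeo_org (pt : ↥(𝟙_ Ov).left) :
    homeo G (H8Component.org (F.obj G)) = η[G].left pt := by
  haveI : Subsingleton ↥(𝟙_ Ov).left := inferInstanceAs (Subsingleton ↥(Spec (CommRingCat.of A)))
  show homeo G (η[F.obj G].left _) = _
  rw [Functor.obj.η_def, Over.comp_left, Scheme.Hom.comp_apply, map_apply]
  exact congrArg _ (Subsingleton.elim _ _)

lemma connectedComponent_unit (pt : ↥(𝟙_ Ov).left) :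
    connectedComponent (η[G].left pt) = homeo G '' closure {H8Component.gen₀ (F.obj G)} := by
  rw [← homeo_org G pt, connectedComponent_eq, H8IdComp.connectedComponent_eq]
  rfl

lemma mem_connectedComponent_unit_iff (pt : ↥(𝟙_ Ov).left) (x : ↥(F.obj G).left) :
    homeo G x ∈ connectedComponent (η[G].left pt) ↔
      H8Component.gen (F.obj G) x = H8Component.gen₀ (F.obj G) := by
  rw [connectedComponent_unit, Set.mem_image, ← H8IdComp.mem_closure_gen₀_iff]
  exact ⟨fun ⟨y, hy, e⟩ => (homeo G).injective e ▸ hy, fun h => ⟨x, h, rfl⟩⟩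

set_option backward.isDefEq.respectTransparency false in
/-- Points with values in fields lift to the special fibre. -/
lemma exists_special {T : Over (Spec (CommRingCat.of A))} (t : T.left) :
    ∃ (K : Type u) (_ : Field K) (W : Spec (CommRingCat.of K) ⟶ Spec (CommRingCat.of kk))
      (j : Over.mk W ⟶ F.obj T), homeo T (j.left (IsLocalRing.closedPoint K)) = t := by
  obtain ⟨x, rfl⟩ := (homeo T).surjective t
  exact ⟨(F.obj T).left.residueField x, inferInstance,
    (F.obj T).left.fromSpecResidueField x ≫ (F.obj T).hom,
    Over.homMk ((F.obj T).left.fromSpecResidueField x) rfl, congrArg (homeo T)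
      (Scheme.fromSpecResidueField_apply _ _)⟩

lemma pt_apply {T : Over (Spec (CommRingCat.of A))} {K : Type u} [Field K]
    {W : Spec (CommRingCat.of K) ⟶ Spec (CommRingCat.of kk)} (j : Over.mk W ⟶ F.obj T)
    (g : T ⟶ G) :
    homeo G ((j ≫ F.map g).left (IsLocalRing.closedPoint K)) =
      g.left (homeo T (j.left (IsLocalRing.closedPoint K))) := by
  rw [Over.comp_left, Scheme.Hom.comp_apply, map_apply]

theorem range_mul_inv_subset (pt : ↥(𝟙_ Ov).left) {T : Ov} (g h : T ⟶ G)
    (hg : Set.range g.left ⊆ connectedComponent (η[G].left pt))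
    (hh : Set.range h.left ⊆ connectedComponent (η[G].left pt)) :
    Set.range (g * h⁻¹).left ⊆ connectedComponent (η[G].left pt) := by
  rintro _ ⟨t, rfl⟩
  obtain ⟨K, _, W, j, rfl⟩ := exists_special t
  have hg' := hg ⟨homeo T (j.left (IsLocalRing.closedPoint K)), rfl⟩
  have hh' := hh ⟨homeo T (j.left (IsLocalRing.closedPoint K)), rfl⟩
  rw [← pt_apply G, mem_connectedComponent_unit_iff] at hg' hh' ⊢
  rw [Functor.map_mul, Functor.map_inv', MonObj.comp_mul, GrpObj.comp_inv]
  exact H8Conj.gen_mul_inv _ _ _ _ hg' hh'

theorem range_conj_subset (pt : ↥(𝟙_ Ov).left) {T : Ov} (g n : T ⟶ G)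
    (hn : Set.range n.left ⊆ connectedComponent (η[G].left pt)) :
    Set.range (g * n * g⁻¹).left ⊆ connectedComponent (η[G].left pt) := by
  rintro _ ⟨t, rfl⟩
  obtain ⟨K, _, W, j, rfl⟩ := exists_special t
  have hn' := hn ⟨homeo T (j.left (IsLocalRing.closedPoint K)), rfl⟩
  rw [← pt_apply G, mem_connectedComponent_unit_iff] at hn' ⊢
  rw [Functor.map_mul, Functor.map_mul, Functor.map_inv', MonObj.comp_mul, MonObj.comp_mul,
    GrpObj.comp_inv]
  exact H8Conj.gen_conj _ _ _ hn'

instance locallyOfFiniteType_special [LocallyOfFiniteType G.hom] :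
    LocallyOfFiniteType (F.obj G).hom :=
  MorphismProperty.pullback_snd _ _ ‹LocallyOfFiniteType G.hom›

theorem isOpen_connectedComponent [LocallyOfFiniteType G.hom] (x : G.left) :
    IsOpen (connectedComponent x) := by
  obtain ⟨y, rfl⟩ := (homeo G).surjective x
  haveI : IsLocallyNoetherian (F.obj G).left :=
    LocallyOfFiniteType.isLocallyNoetherian (F.obj G).hom
  rw [connectedComponent_eq]
  exact (homeo G).isOpenMap _ (H8Conj.isOpen_connectedComponent _ y)

theorem isCompact_connectedComponent (x : G.left) : IsCompact (connectedComponent x) := by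
  obtain ⟨y, rfl⟩ := (homeo G).surjective x
  rw [connectedComponent_eq]
  exact (H8Conj.isCompact_connectedComponent _ y).image (homeo G).continuous

/-- An immersed subgroup over an Artinian local ring is closed. -/
theorem isClosedImmersion_of_isImmersion {H : Ov} [GrpObj H] (u : H ⟶ G) [IsMonHom u]
    [IsImmersion u.left] : IsClosedImmersion u.left := by
  have hb : IsPullback (F.map u).left (proj H) (proj G) u.left := by
    refine IsPullback.of_right ?_ (proj_naturality u)
      (IsPullback.of_hasPullback G.hom (toSpec A)).flip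
    rw [show (F.map u).left ≫ pullback.snd G.hom (toSpec A) = pullback.snd H.hom (toSpec A) from
      Over.w (F.map u), Over.w u]
    exact (IsPullback.of_hasPullback H.hom (toSpec A)).flip
  haveI : IsImmersion (F.map u).left := MorphismProperty.of_isPullback hb.flip ‹IsImmersion u.left›
  haveI := H8ImmClosed.isClosedImmersion (F.map u)
  refine IsClosedImmersion.of_isPreimmersion _ ?_
  rw [range_eq u]
  exact (homeo G).isClosedMap _ (F.map u).left.isClosedEmbedding.isClosed_range

end Groth.Agent.H8ArtinGrp
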