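import Mathlib

/-!
# The centre of a group scheme over a field
-/

set_option autoImplicit false

universe u

open CategoryTheory Limits AlgebraicGeometry MonoidalCategory CartesianMonoidalCategory MonObj
open TensorProduct

namespace Groth.Agent.H8Center

/-- Two morphisms from an affine scheme to a separated scheme agree if they agree after a jointly
injective family of ring maps. -/
lemma eq_of_jointly_injective {Y S : Scheme.{u}} (s : Y ⟶ S) [IsSeparated s] {C : CommRingCat.{u}}
    {a b : Spec C ⟶ Y} (hab : a ≫ s = b ≫ s) {σ : Type u} (D : σ → CommRingCat.{u})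
    (χ : ∀ i, C ⟶ D i) (hinj : ∀ c : C, (∀ i, (χ i).hom c = 0) → c = 0)
    (h : ∀ i, Spec.map (χ i) ≫ a = Spec.map (χ i) ≫ b) : a = b := by
  let ab : Spec C ⟶ pullback s s := pullback.lift a b hab
  let e := pullback.fst ab (pullback.diagonal s)
  have : IsClosedImmersion e := inferInstance
  obtain ⟨I, φ, hφ⟩ := IsClosedImmersion.Spec_iff.mp this
  have hI : I = ⊥ := by
    refine eq_bot_iff.mpr fun c hc => hinj c fun i => ?_
    let v : Spec (D i) ⟶ pullback ab (pullback.diagonal s) :=
      pullback.lift (Spec.map (χ i)) (Spec.map (χ i) ≫ a) (by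
        apply pullback.hom_ext
        · simp only [ab, Category.assoc, pullback.lift_fst, pullback.diagonal_fst, Category.comp_id]
        · simp only [ab, Category.assoc, pullback.lift_snd, pullback.diagonal_snd, Category.comp_id, h i])
    have hv : Spec.map (χ i) = Spec.map (CommRingCat.ofHom (Ideal.Quotient.mk I) ≫
        Spec.preimage (v ≫ φ.hom)) := by
      rw [Spec.map_comp, Spec.map_preimage, Category.assoc, ← hφ]
      exact (pullback.lift_fst _ _ _).symm
    rw [Spec.map_injective hv]
    simp [Ideal.Quotient.eq_zero_iff_mem.mpr hc]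
  have : IsIso (CommRingCat.ofHom (Ideal.Quotient.mk I)) := by
    subst hI
    exact (ConcreteCategory.isIso_iff_bijective _).mpr
      (⟨(RingHom.injective_iff_ker_eq_bot _).mpr Ideal.mk_ker, Ideal.Quotient.mk_surjective⟩)
  have : IsIso e := by rw [hφ]; infer_instance
  have he : e ≫ a = e ≫ b := by
    have h1 := congrArg (fun q => q ≫ pullback.fst s s) (pullback.condition (f := ab)
      (g := pullback.diagonal s))
    have h2 := congrArg (fun q => q ≫ pullback.snd s s) (pullback.condition (f := ab)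
      (g := pullback.diagonal s))
    simp only [Category.assoc, ab, pullback.lift_fst, pullback.lift_snd,
      pullback.diagonal_fst, pullback.diagonal_snd] at h1 h2
    exact h1.trans h2.symm
  exact (cancel_epi e).mp he

/-- Tensoring with a free module preserves jointly injective families. -/
lemma tensor_jointly_injective {k : Type u} [Field k] {A B : Type u} [CommRing A] [Algebra k A]
    [CommRing B] [Algebra k B] {σ : Type u} (D : σ → Type u) [∀ i, CommRing (D i)]
    [∀ i, Algebra k (D i)] (φ : ∀ i, A →ₐ[k] D i) (hinj : ∀ a : A, (∀ i, φ i a = 0) → a = 0)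
    (x : A ⊗[k] B) (hx : ∀ i, Algebra.TensorProduct.map (φ i) (AlgHom.id k B) x = 0) : x = 0 := by
  let 𝒞 := Module.Free.chooseBasis k B
  have key : ∀ i (y : A ⊗[k] B) j, TensorProduct.equivFinsuppOfBasisRight 𝒞
      (Algebra.TensorProduct.map (φ i) (AlgHom.id k B) y) j =
      φ i (TensorProduct.equivFinsuppOfBasisRight 𝒞 y j) := by
    intro i y j
    induction y with
    | zero => simp
    | tmul a b => simp
    | add p q hp hq => simp [map_add, hp, hq]
  apply (TensorProduct.equivFinsuppOfBasisRight 𝒞).injective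
  rw [map_zero]
  ext j
  exact hinj _ fun i => by rw [← key, hx]; simp

variable {k : Type u} [Field k] (G : Over (Spec (CommRingCat.of k))) [GrpObj G]

/-- `g` commutes universally with every point of `G`. -/
def Central {T : Scheme.{u}} (g : T ⟶ G.left) : Prop :=
  (fst (Over.mk (g ≫ G.hom)) G ≫ Over.homMk g rfl) * snd (Over.mk (g ≫ G.hom)) G =
    snd (Over.mk (g ≫ G.hom)) G * (fst (Over.mk (g ≫ G.hom)) G ≫ Over.homMk g rfl)

variable {G}

lemma Central.comp {T W : Scheme.{u}} {g : T ⟶ G.left} (hg : Central G g) (h : W ⟶ T) :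
    Central G (h ≫ g) := by
  let h' : Over.mk ((h ≫ g) ≫ G.hom) ⟶ Over.mk (g ≫ G.hom) := Over.homMk h (by simp)
  have e : h' ≫ Over.homMk g rfl = (Over.homMk (h ≫ g) rfl : Over.mk ((h ≫ g) ≫ G.hom) ⟶ G) := rfl
  have := congrArg (fun q => (h' ▷ G) ≫ q) hg
  simp only [comp_mul, whiskerRight_fst_assoc, whiskerRight_snd, e] at this
  exact this

lemma central_iff {T : Over (Spec (CommRingCat.of k))} (q : T ⟶ G) :
    Central G q.left ↔ ∀ (T' : Over (Spec (CommRingCat.of k))) (h : T' ⟶ T) (g' : T' ⟶ G),
      (h ≫ q) * g' = g' * (h ≫ q) := by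
  let e : Over.mk (q.left ≫ G.hom) ⟶ T := Over.homMk (𝟙 _) (by simp)
  let e' : T ⟶ Over.mk (q.left ≫ G.hom) := Over.homMk (𝟙 _) (by simp)
  have he : e ≫ q = (Over.homMk q.left rfl : Over.mk (q.left ≫ G.hom) ⟶ G) :=
    Over.OverMorphism.ext (Category.id_comp _)
  have he' : e' ≫ (Over.homMk q.left rfl : Over.mk (q.left ≫ G.hom) ⟶ G) = q :=
    Over.OverMorphism.ext (Category.id_comp _)
  refine ⟨fun hc T' h g' => ?_, fun hc => ?_⟩
  · have := congrArg (fun r => lift (h ≫ e') g' ≫ r) hc
    simp only [comp_mul, lift_fst_assoc, lift_snd, Category.assoc, he'] at this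
    exact this
  · have := hc _ (fst (Over.mk (q.left ≫ G.hom)) G ≫ e) (snd _ G)
    rwa [Category.assoc, he] at this

section Dense

variable [IsSeparated G.hom]

omit [GrpObj G] [IsSeparated G.hom] in
/-- The tensor product of two affine schemes over `k`, in `IsPullback` form. -/
lemma isPullback_tensor (A B : CommRingCat.{u}) [Algebra k A] [Algebra k B] :
    IsPullback (Spec.map (CommRingCat.ofHom
        (Algebra.TensorProduct.includeLeftRingHom : A →+* A ⊗[k] B)))
      (Spec.map (CommRingCat.ofHom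
        (Algebra.TensorProduct.includeRight.toRingHom : B →+* A ⊗[k] B)))
      (Spec.map (CommRingCat.ofHom (algebraMap k A)))
      (Spec.map (CommRingCat.ofHom (algebraMap k B))) := by
  refine IsPullback.of_iso_pullback ⟨?_⟩ (pullbackSpecIso k A B).symm
    (pullbackSpecIso_inv_fst k A B) (pullbackSpecIso_inv_snd k A B)
  simp only [← Spec.map_comp]
  congr 1
  ext c
  exact (Algebra.TensorProduct.includeLeft (S := k) (A := A) (B := B)).commutes c |>.trans
    ((Algebra.TensorProduct.includeRight (R := k) (A := A) (B := B)).commutes c).symm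

set_option backward.defeqAttrib.useBackward true in
set_option backward.isDefEq.respectTransparency false in
lemma eq_on_piece {A B : CommRingCat.{u}} [Algebra k A] [Algebra k B]
    (g : Spec A ⟶ G.left) (jB : Spec B ⟶ G.left)
    (hA : g ≫ G.hom = Spec.map (CommRingCat.ofHom (algebraMap k A)))
    (hB : jB ≫ G.hom = Spec.map (CommRingCat.ofHom (algebraMap k B)))
    {σ : Type u} (D : σ → CommRingCat.{u}) [∀ i, Algebra k (D i)] (φ : ∀ i, A →ₐ[k] D i)
    (hinj : ∀ a : A, (∀ i, φ i a = 0) → a = 0)
    (h : ∀ i, Central G (Spec.map (CommRingCat.ofHom (φ i).toRingHom) ≫ g)) :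
    pullback.map (g ≫ G.hom) (jB ≫ G.hom) (g ≫ G.hom) G.hom (𝟙 _) jB (𝟙 _) (by simp) (by simp) ≫
        ((fst (Over.mk (g ≫ G.hom)) G ≫ Over.homMk g rfl) * snd (Over.mk (g ≫ G.hom)) G).left =
      pullback.map (g ≫ G.hom) (jB ≫ G.hom) (g ≫ G.hom) G.hom (𝟙 _) jB (𝟙 _) (by simp) (by simp) ≫
        (snd (Over.mk (g ≫ G.hom)) G * (fst (Over.mk (g ≫ G.hom)) G ≫ Over.homMk g rfl)).left := by
  set M := pullback.map (g ≫ G.hom) (jB ≫ G.hom) (g ≫ G.hom) G.hom (𝟙 _) jB (𝟙 _)
    (by simp) (by simp) with hM
  have hP := isPullback_tensor (k := k) A B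
  rw [← hA, ← hB] at hP
  rw [← cancel_epi hP.isoPullback.hom]
  refine eq_of_jointly_injective G.hom ?_ (fun i => CommRingCat.of (D i ⊗[k] B))
    (fun i => CommRingCat.ofHom (Algebra.TensorProduct.map (φ i) (AlgHom.id k B)).toRingHom)
    (fun c hc => tensor_jointly_injective _ φ hinj c hc) fun i => ?_
  · simp only [Category.assoc]
    congr 2
    exact (Over.w _).trans (Over.w _).symm
  · have hi : Spec.map (CommRingCat.ofHom (φ i).toRingHom) ≫ g ≫ G.hom =
        Spec.map (CommRingCat.ofHom (algebraMap k (D i))) := by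
      rw [hA, ← Spec.map_comp, ← CommRingCat.ofHom_comp]
      congr 2
      exact (φ i).comp_algebraMap
    let h' : Over.mk ((Spec.map (CommRingCat.ofHom (φ i).toRingHom) ≫ g) ≫ G.hom) ⟶
        Over.mk (g ≫ G.hom) := Over.homMk (Spec.map (CommRingCat.ofHom (φ i).toRingHom)) (by simp)
    have e : h' ≫ Over.homMk g rfl =
        (Over.homMk (Spec.map (CommRingCat.ofHom (φ i).toRingHom) ≫ g) rfl :
          Over.mk ((Spec.map (CommRingCat.ofHom (φ i).toRingHom) ≫ g) ≫ G.hom) ⟶ G) := rfl
    have hQ := isPullback_tensor (k := k) (D i) B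
    rw [← hi, ← hB] at hQ
    let ji := hQ.isoPullback.hom ≫ pullback.map _ _ ((Spec.map (CommRingCat.ofHom (φ i).toRingHom) ≫ g) ≫ G.hom)
      G.hom (𝟙 _) jB (𝟙 _) (by simp) (by simp)
    have hji : Spec.map (CommRingCat.ofHom (Algebra.TensorProduct.map (φ i)
        (AlgHom.id k B)).toRingHom) ≫ hP.isoPullback.hom ≫ M = ji ≫ (h' ▷ G).left := by
      apply pullback.hom_ext
      · have : (h' ▷ G).left ≫ (fst (Over.mk (g ≫ G.hom)) G).left =
            (fst _ G).left ≫ h'.left := by
          rw [← Over.comp_left, whiskerRight_fst, Over.comp_left]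
        refine Eq.trans ?_ ((Category.assoc _ _ _).trans (congrArg (fun q => ji ≫ q) this)).symm
        simp only [hM, ji, Category.assoc, pullback.lift_fst, IsPullback.isoPullback_hom_fst,
          Category.comp_id, h', Over.homMk_left]
        erw [pullback.lift_fst_assoc]
        simp only [Category.assoc, Category.id_comp, IsPullback.isoPullback_hom_fst_assoc,
          ← Spec.map_comp]
        congr 1
      · have : (h' ▷ G).left ≫ (snd (Over.mk (g ≫ G.hom)) G).left = (snd _ G).left := by
          rw [← Over.comp_left, whiskerRight_snd]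
        refine Eq.trans ?_ ((Category.assoc _ _ _).trans (congrArg (fun q => ji ≫ q) this)).symm
        simp only [hM, ji, Category.assoc, pullback.lift_snd, IsPullback.isoPullback_hom_snd_assoc]
        erw [pullback.lift_snd]
        simp only [IsPullback.isoPullback_hom_snd_assoc, ← Spec.map_comp_assoc]
        congr 2
        ext b
        simp
    have hh := congrArg (fun q => (q : Over.mk _ ⊗ G ⟶ G).left) (h i)
    have hl : ∀ r : Over.mk (g ≫ G.hom) ⊗ G ⟶ G,
        Spec.map (CommRingCat.ofHom (Algebra.TensorProduct.map (φ i) (AlgHom.id k B)).toRingHom)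
          ≫ hP.isoPullback.hom ≫ M ≫ r.left = ji ≫ ((h' ▷ G) ≫ r).left := fun r => by
      rw [reassoc_of% hji, Over.comp_left]
    rw [hl, hl]
    simp only [comp_mul, whiskerRight_fst_assoc, whiskerRight_snd, e]
    exact congrArg (fun q => ji ≫ q) hh

/-- Centrality descends along jointly injective families of ring maps. -/
lemma central_of_jointly_injective {A : CommRingCat.{u}} (g : Spec A ⟶ G.left) {σ : Type u}
    (D : σ → CommRingCat.{u}) (φ : ∀ i, A ⟶ D i)
    (hinj : ∀ a : A, (∀ i, (φ i).hom a = 0) → a = 0)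
    (h : ∀ i, Central G (Spec.map (φ i) ≫ g)) : Central G g := by
  obtain ⟨al, hal⟩ : ∃ al, Spec.map al = g ≫ G.hom := ⟨_, Spec.map_preimage _⟩
  let : Algebra k A := al.hom.toAlgebra
  let : ∀ i, Algebra k (D i) := fun i => ((φ i).hom.comp al.hom).toAlgebra
  let φ' : ∀ i, A →ₐ[k] D i := fun i => AlgHom.mk (φ i).hom fun _ => rfl
  apply Over.OverMorphism.ext
  refine (Scheme.Pullback.openCoverOfRight G.left.affineOpenCover.openCover
    (g ≫ G.hom) G.hom).hom_ext _ _ fun j => ?_
  obtain ⟨be, hbe⟩ : ∃ be, Spec.map be = G.left.affineOpenCover.f j ≫ G.hom :=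
    ⟨_, Spec.map_preimage _⟩
  let : Algebra k (G.left.affineOpenCover.X j) := be.hom.toAlgebra
  exact eq_on_piece g (G.left.affineOpenCover.f j) hal.symm hbe.symm D φ' hinj h

/-- The ideal of the centre on an affine open. -/
noncomputable def centerIdeal (G : Over (Spec (CommRingCat.of k))) [GrpObj G]
    (U : G.left.affineOpens) : Ideal Γ(G.left, U) :=
  sInf {a | Central G (Spec.map (CommRingCat.ofHom (Ideal.Quotient.mk a)) ≫ U.2.fromSpec)}

lemma centerIdeal_mem (U : G.left.affineOpens) :
    Central G (Spec.map (CommRingCat.ofHom (Ideal.Quotient.mk (centerIdeal G U))) ≫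
      U.2.fromSpec) := by
  let σ := {a : Ideal Γ(G.left, U) //
    Central G (Spec.map (CommRingCat.ofHom (Ideal.Quotient.mk a)) ≫ U.2.fromSpec)}
  have hle : ∀ a : σ, centerIdeal G U ≤ a.1 := fun a => sInf_le a.2
  refine central_of_jointly_injective _ (fun a : σ => CommRingCat.of (Γ(G.left, U) ⧸ a.1))
    (fun a => CommRingCat.ofHom (Ideal.Quotient.factor (hle a))) (fun x hx => ?_) fun a => ?_
  · obtain ⟨x, rfl⟩ := Ideal.Quotient.mk_surjective x
    refine Ideal.Quotient.eq_zero_iff_mem.mpr (Submodule.mem_sInf.mpr fun a ha => ?_)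
    exact Ideal.Quotient.eq_zero_iff_mem.mp (hx ⟨a, ha⟩)
  · rw [← Category.assoc, ← Spec.map_comp, ← CommRingCat.ofHom_comp,
      Ideal.Quotient.factor_comp_mk]
    exact a.2

lemma centerIdeal_le_ker (U : G.left.affineOpens) {C : CommRingCat.{u}} (χ : Γ(G.left, U) ⟶ C)
    (h : Central G (Spec.map χ ≫ U.2.fromSpec)) : centerIdeal G U ≤ RingHom.ker χ.hom := by
  refine sInf_le ?_
  refine central_of_jointly_injective _ (fun _ : PUnit.{u+1} => C)
    (fun _ => CommRingCat.ofHom (RingHom.kerLift χ.hom)) (fun x hx => ?_) fun _ => ?_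
  · exact RingHom.kerLift_injective χ.hom (by rw [map_zero]; exact hx ⟨⟩)
  · rw [← Category.assoc, ← Spec.map_comp]
    exact h

set_option backward.isDefEq.respectTransparency false in
lemma map_centerIdeal (U : G.left.affineOpens) (f : Γ(G.left, U)) :
    (centerIdeal G U).map (G.left.presheaf.map (homOfLE <| G.left.basicOpen_le f).op).hom =
      centerIdeal G (G.left.affineBasicOpen f) := by
  let r := G.left.presheaf.map (homOfLE <| G.left.basicOpen_le f).op
  have hr : Spec.map r ≫ U.2.fromSpec = (G.left.affineBasicOpen f).2.fromSpec :=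
    U.2.map_fromSpec (G.left.affineBasicOpen f).2 _
  apply le_antisymm
  · rw [Ideal.map_le_iff_le_comap]
    refine le_trans (centerIdeal_le_ker U
      (r ≫ CommRingCat.ofHom (Ideal.Quotient.mk (centerIdeal G (G.left.affineBasicOpen f)))) ?_) ?_
    · rw [Spec.map_comp, Category.assoc, hr]
      exact centerIdeal_mem _
    · intro x hx
      exact Ideal.mem_comap.mpr (Ideal.Quotient.eq_zero_iff_mem.mp hx)
  · refine sInf_le ?_
    let q : CommRingCat.of (Γ(G.left, U) ⧸ centerIdeal G U) ⟶
        CommRingCat.of (Γ(G.left, G.left.affineBasicOpen f) ⧸ (centerIdeal G U).map r.hom) :=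
      CommRingCat.ofHom (Ideal.quotientMap _ r.hom Ideal.le_comap_map)
    have hq : CommRingCat.ofHom (Ideal.Quotient.mk (centerIdeal G U)) ≫ q =
        r ≫ CommRingCat.ofHom (Ideal.Quotient.mk ((centerIdeal G U).map r.hom)) := by
      ext x
      rfl
    show Central G (Spec.map (CommRingCat.ofHom (Ideal.Quotient.mk ((centerIdeal G U).map r.hom)))
      ≫ (G.left.affineBasicOpen f).2.fromSpec)
    rw [← hr, ← Category.assoc, ← Spec.map_comp, ← hq, Spec.map_comp, Category.assoc]
    exact (centerIdeal_mem U).comp _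

/-- The ideal sheaf of the centre. -/
noncomputable def centerIdealSheaf (G : Over (Spec (CommRingCat.of k))) [GrpObj G]
    [IsSeparated G.hom] : G.left.IdealSheafData where
  ideal := centerIdeal G
  map_ideal_basicOpen := map_centerIdeal

set_option backward.defeqAttrib.useBackward true in
set_option backward.isDefEq.respectTransparency false in
lemma central_subschemeι (G : Over (Spec (CommRingCat.of k))) [GrpObj G] [IsSeparated G.hom] :
    Central G (centerIdealSheaf G).subschemeι := by
  set Z := centerIdealSheaf G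
  have key : ∀ U, Central G (Z.subschemeCover.f U ≫ Z.subschemeι) := fun U => by
    rw [Z.subschemeCover_map_subschemeι U]
    simp only [Scheme.IdealSheafData.glueDataObjι, Category.assoc,
      IsAffineOpen.isoSpec_inv_ι]
    exact centerIdeal_mem U
  apply Over.OverMorphism.ext
  refine (Scheme.Pullback.openCoverOfLeft Z.subschemeCover.openCover
    (Z.subschemeι ≫ G.hom) G.hom).hom_ext _ _ fun U => ?_
  let h' : Over.mk ((Z.subschemeCover.f U ≫ Z.subschemeι) ≫ G.hom) ⟶
      Over.mk (Z.subschemeι ≫ G.hom) := Over.homMk (Z.subschemeCover.f U) (Category.assoc _ _ _).symm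
  have e : h' ≫ Over.homMk Z.subschemeι rfl =
      (Over.homMk (Z.subschemeCover.f U ≫ Z.subschemeι) rfl :
        Over.mk ((Z.subschemeCover.f U ≫ Z.subschemeι) ≫ G.hom) ⟶ G) := rfl
  have hc : (Scheme.Pullback.openCoverOfLeft Z.subschemeCover.openCover
      (Z.subschemeι ≫ G.hom) G.hom).f U =
      (pullback.congrHom (Category.assoc _ _ _).symm rfl).hom ≫ (h' ▷ G).left := by
    apply pullback.hom_ext
    · have : (h' ▷ G).left ≫ (fst (Over.mk (Z.subschemeι ≫ G.hom)) G).left =
          (fst _ G).left ≫ h'.left := by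
        rw [← Over.comp_left, whiskerRight_fst, Over.comp_left]
      refine Eq.trans ?_ (congrArg (fun q => _ ≫ q) this).symm
      simp [h']
    · have : (h' ▷ G).left ≫ (snd (Over.mk (Z.subschemeι ≫ G.hom)) G).left = (snd _ G).left := by
        rw [← Over.comp_left, whiskerRight_snd]
      refine Eq.trans ?_ (congrArg (fun q => _ ≫ q) this).symm
      simp
  have hh := congrArg (fun q => (q : Over.mk _ ⊗ G ⟶ G).left) (key U)
  refine ((congrArg (· ≫ _) hc).trans ?_).trans (congrArg (· ≫ _) hc).symm
  refine (Category.assoc _ _ _).trans (Eq.trans ?_ (Category.assoc _ _ _).symm)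
  rw [← Over.comp_left, ← Over.comp_left]
  simp only [comp_mul, whiskerRight_fst_assoc, whiskerRight_snd, e]
  exact congrArg (fun q => _ ≫ q) hh

lemma ideal_le_ker {T : Scheme.{u}} (g : T ⟶ G.left) (hg : Central G g) :
    centerIdealSheaf G ≤ g.ker := by
  rw [Scheme.Hom.ker, Scheme.IdealSheafData.le_ofIdeals_iff]
  intro V a ha
  rw [RingHom.mem_ker]
  refine T.IsSheaf.section_ext fun x hx => ?_
  obtain ⟨_, ⟨W, hW, rfl⟩, hxW, hWV⟩ :=
    T.isBasis_affineOpens.exists_subset_of_mem_open hx (g ⁻¹ᵁ V.1).isOpen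
  refine ⟨W, hWV, hxW, ?_⟩
  have h1 : Spec.map (g.appLE V W hWV) ≫ V.2.fromSpec = hW.fromSpec ≫ g :=
    IsAffineOpen.SpecMap_appLE_fromSpec g V.2 hW hWV
  have h2 := centerIdeal_le_ker V (g.appLE V W hWV) (h1 ▸ hg.comp _) ha
  rw [RingHom.mem_ker] at h2
  rw [map_zero, ← h2]
  rfl

end Dense

end Groth.Agent.H8Center
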