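import Mathlib

/-!
# Rigidity of actions of diagonalisable monoids along nilpotent ideals, functor-of-points form
-/

set_option autoImplicit false
set_option linter.all false

universe u

open MonoidAlgebra

namespace Groth.Agent.H8DiagRigidCore

variable {R : Type u} [CommRing R] {J : Ideal R} {M : Type} [CommMonoid M] {B : Type u} [CommRing B] [Algebra R B]

omit [Algebra R B] in
lemma coeff_key [DecidableEq M] (n q m : M) (d : B) :
    ((single (1 : M × M) d * single ((1 : M), q) 1) * single (n, (1 : M)) 1).coeff (m, m) =
      if n = m then (single q d).coeff m else 0 := by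
  rw [single_mul_single, single_mul_single, mul_one, mul_one, one_mul, Prod.mk_mul_mk, one_mul, mul_one,
    coeff_single, coeff_single, Finsupp.single_apply, Finsupp.single_apply]
  by_cases hn : n = m
  · simp [hn]
  · simp [hn]

set_option maxHeartbeats 1000000 in
theorem trivial_of_mod_nilpotent (hJ : IsNilpotent J)
    (α : ∀ (C : Type u) [CommRing C] [Algebra R C], (M →* C) → (B →ₐ[R] C) → (B →ₐ[R] C))
    (nat : ∀ (C D : Type u) [CommRing C] [Algebra R C] [CommRing D] [Algebra R D] (f : C →ₐ[R] D) (χ : M →* C)
      (y : B →ₐ[R] C), f.comp (α C χ y) = α D ((f : C →* D).comp χ) (f.comp y))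
    (one : ∀ (C : Type u) [CommRing C] [Algebra R C] (y : B →ₐ[R] C), α C 1 y = y)
    (mul : ∀ (C : Type u) [CommRing C] [Algebra R C] (χ χ' : M →* C) (y : B →ₐ[R] C),
      α C (χ * χ') y = α C χ (α C χ' y))
    (red : ∀ (C : Type u) [CommRing C] [Algebra R C] (χ : M →* C) (y : B →ₐ[R] C),
      J.map (algebraMap R C) = ⊥ → α C χ y = y)
    (C : Type u) [CommRing C] [Algebra R C] (χ : M →* C) (y : B →ₐ[R] C) : α C χ y = y := by
  classical
  let x₀ : B →ₐ[R] MonoidAlgebra B M := singleOneAlgHom
  let ρ : B →ₐ[R] MonoidAlgebra B M := α _ (of B M) x₀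
  let ev : ∀ (C : Type u) [CommRing C] [Algebra R C], (M →* C) → (B →ₐ[R] C) → (MonoidAlgebra B M →ₐ[R] C) :=
    fun C _ _ χ y => liftNCAlgHom y χ fun _ _ => Commute.all _ _
  have hev : ∀ (C : Type u) [CommRing C] [Algebra R C] (χ : M →* C) (y : B →ₐ[R] C),
      α C χ y = (ev C χ y).comp ρ := by
    intro C _ _ χ y
    rw [nat]
    congr 1
    · ext m
      simp [ev, liftNCAlgHom, liftNCRingHom]
    · refine AlgHom.ext fun b => ?_
      simp [ev, x₀, liftNCAlgHom, liftNCRingHom, singleOneAlgHom]
  have evs : ∀ (C : Type u) [CommRing C] [Algebra R C] (χ : M →* C) (y : B →ₐ[R] C) (m : M) (b : B),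
      ev C χ y (single m b) = y b * χ m := by
    intro C _ _ χ y m b
    simp [ev, liftNCAlgHom, liftNCRingHom]
  let p : M → B → B := fun m b => (ρ b).coeff m
  have pp : ∀ m b, p m (p m b) = p m b := by
    intro m b
    let χ1 : M →* MonoidAlgebra B (M × M) := (of B (M × M)).comp (MonoidHom.inl M M)
    let χ2 : M →* MonoidAlgebra B (M × M) := (of B (M × M)).comp (MonoidHom.inr M M)
    let z : B →ₐ[R] MonoidAlgebra B (M × M) := singleOneAlgHom
    have h := DFunLike.congr_fun (mul _ χ1 χ2 z) b
    have h12 : χ1 * χ2 = (of B (M × M)).comp ((MonoidHom.id M).prod (MonoidHom.id M)) := by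
      ext n; simp [χ1, χ2, single_mul_single]
    rw [h12, hev, hev _ χ1, hev _ χ2, AlgHom.comp_apply, AlgHom.comp_apply] at h
    have h' := congrArg (fun w : MonoidAlgebra B (M × M) => w.coeff (m, m)) h
    have L : ∀ w : MonoidAlgebra B M,
        (ev _ ((of B (M × M)).comp ((MonoidHom.id M).prod (MonoidHom.id M))) z w).coeff (m, m) = w.coeff m := fun w => by
      induction w using MonoidAlgebra.induction_linear with
      | zero => simp
      | add f g hf hg => simp [map_add, hf, hg]
      | single n c =>
        rw [evs]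
        simp [z, singleOneAlgHom, single_mul_single, Finsupp.single_apply]
    have Rr : ∀ w : MonoidAlgebra B M,
        (ev _ χ1 ((ev _ χ2 z).comp ρ) w).coeff (m, m) = p m (w.coeff m) := fun w => by
      induction w using MonoidAlgebra.induction_linear with
      | zero => simp [p]
      | add f g hf hg => simp [map_add, hf, hg, p]
      | single n c =>
        rw [evs, AlgHom.comp_apply]
        have key : ∀ v : MonoidAlgebra B M, (ev _ χ2 z v * χ1 n).coeff (m, m) = if n = m then v.coeff m else 0 := fun v => by
          induction v using MonoidAlgebra.induction_linear with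
          | zero => simp
          | add f g hf hg => simp only [map_add, add_mul, coeff_add, Finsupp.add_apply, hf, hg]; split <;> simp
          | single q d =>
            rw [evs]
            show ((single (1 : M × M) d * single ((1 : M), q) 1) * single (n, (1 : M)) 1).coeff (m, m) = _
            exact coeff_key n q m d
        rw [key]
        by_cases hn : n = m
        · subst hn; simp [p, Finsupp.single_apply]
        · simp [p, Finsupp.single_apply, hn]
    simp only [L, Rr] at h'
    exact h'.symm
  have padd : ∀ m a b, p m (a + b) = p m a + p m b := fun m a b => by simp [p, map_add]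
  have pJ : ∀ m ≠ (1 : M), ∀ b, p m b ∈ (J.map (algebraMap R B)) := by
    intro m hm b
    let I := J.map (algebraMap R B)
    let q := Ideal.Quotient.mkₐ R I
    let π : MonoidAlgebra B M →ₐ[R] MonoidAlgebra (B ⧸ I) M := mapRangeAlgHom M q
    have hred : J.map (algebraMap R (MonoidAlgebra (B ⧸ I) M)) = ⊥ := by
      rw [Ideal.map_eq_bot_iff_le_ker]
      intro r hr
      have h0 : algebraMap R (B ⧸ I) r = 0 := by
        rw [IsScalarTower.algebraMap_apply R B (B ⧸ I), Ideal.Quotient.algebraMap_eq, Ideal.Quotient.eq_zero_iff_mem]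
        exact Ideal.mem_map_of_mem _ hr
      rw [RingHom.mem_ker, Algebra.algebraMap_eq_smul_one]
      refine MonoidAlgebra.coeff_injective (Finsupp.ext fun n => ?_)
      simp [Algebra.smul_def, h0, MonoidAlgebra.one_def]
    have h := DFunLike.congr_fun (nat _ _ π (of B M) x₀) b
    rw [red _ _ _ hred] at h
    have h' := congrArg (fun w : MonoidAlgebra (B ⧸ I) M => w.coeff m) h
    rw [← Ideal.Quotient.eq_zero_iff_mem]
    have hπ : ∀ w : MonoidAlgebra B M, (π w).coeff m = Ideal.Quotient.mk I (w.coeff m) := fun w => by
      induction w using MonoidAlgebra.induction_linear with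
      | zero => simp
      | add f g hf hg => simp [map_add, hf, hg]
      | single n c =>
        simp [π, q, mapRangeAlgHom, mapRangeRingHom, Finsupp.single_apply]
        split <;> simp_all
    simp only [AlgHom.comp_apply, hπ] at h'
    rw [h']
    simp [x₀, singleOneAlgHom, Ne.symm hm]
  have psmul : ∀ m r b, p m (algebraMap R B r * b) = algebraMap R B r * p m b := fun m r b => by
    show (ρ (algebraMap R B r * b)).coeff m = _
    rw [← Algebra.smul_def, map_smul, ← Algebra.smul_def]
    rfl
  have p0 : ∀ m ≠ (1 : M), ∀ b, p m b = 0 := by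
    intro m hm b
    obtain ⟨N, hN⟩ := hJ
    have step : ∀ i, ∀ c ∈ (J ^ i).map (algebraMap R B), p m c ∈ (J ^ (i + 1)).map (algebraMap R B) := by
      intro i c hc
      refine Submodule.span_induction (p := fun c _ => ∀ e, p m (e * c) ∈ (J ^ (i + 1)).map (algebraMap R B))
        ?_ (fun e => by simp [p]) (fun a a' _ _ ha ha' e => by rw [mul_add, padd]; exact add_mem (ha e) (ha' e))
        (fun d a _ ha e => by rw [smul_eq_mul, ← mul_assoc]; exact ha _) hc 1 |> fun h => by simpa using h
      rintro _ ⟨r, hr, rfl⟩ e
      rw [mul_comm, psmul, pow_succ, Ideal.map_mul]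
      exact Ideal.mul_mem_mul (Ideal.mem_map_of_mem _ hr) (pJ m hm e)
    have hall : ∀ i, p m b ∈ (J ^ i).map (algebraMap R B) := by
      intro i
      induction i with
      | zero => rw [pow_zero, Ideal.one_eq_top, Ideal.map_top]; trivial
      | succ i ih => rw [← pp]; exact step i _ ih
    simpa [hN] using hall N
  have hρ : ∀ b, ρ b = single 1 b := by
    intro b
    have h := DFunLike.congr_fun (one (MonoidAlgebra B M) x₀) b
    rw [hev, AlgHom.comp_apply] at h
    have hs : ρ b = single 1 (p 1 b) := MonoidAlgebra.coeff_injective (Finsupp.ext fun n => by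
      by_cases hn : n = 1
      · subst hn; simp [p]
      · simpa [Finsupp.single_apply, Ne.symm hn] using p0 n hn b)
    rw [hs, evs] at h
    simp only [x₀, singleOneAlgHom, MonoidHom.one_apply, mul_one] at h
    rw [hs]
    exact h
  rw [hev]
  refine AlgHom.ext fun b => ?_
  rw [AlgHom.comp_apply, hρ, evs, map_one, mul_one]

end Groth.Agent.H8DiagRigidCore
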