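import Mathlib
import Groth.Prelude.Def_Red
import Groth.Prelude.Def_AlgGrp
import Groth.Prelude.Def_TwC
import Groth.Agent.Lib.H8DiagRigidCore

/-!
# Rigidity of actions of diagonalisable group schemes along nilpotent thickenings
-/

set_option autoImplicit false
set_option linter.all false

universe u

open CategoryTheory Limits AlgebraicGeometry MonoidalCategory CartesianMonoidalCategory MonObj GrpObj WithConv TensorProduct

namespace Groth.Agent.H8DiagRigid

section Action

variable {S : Scheme.{u}} {G X T : Over S} [GrpObj G] (a : AlgGrp.Action G X)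

lemma act_mul (g h : T ⟶ G) (x : T ⟶ X) :
    lift (g * h) x ≫ a.act = lift g (lift h x ≫ a.act) ≫ a.act := by
  have h1 : lift (g * h) x = lift (lift g h) x ≫ (μ[G] ▷ X) := by
    rw [Hom.mul_def]; simp
  have h2 : lift (lift g h) x ≫ (α_ G G X).hom ≫ (G ◁ a.act) = lift g (lift h x ≫ a.act) := by simp
  rw [h1, Category.assoc, a.mul_act, ← h2]
  simp only [Category.assoc]

end Action

section Points

variable {S U : Scheme.{u}} (q : U ⟶ S) (G : Over S) [GrpObj G] (M : Type) [AddCommGroup M]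
  (φ : Grp.mk (Red.bc q G) ≅ Grp.mk (Red.DS U M))

attribute [local instance] ULift.algebra'

/-- Base change adjunction, multiplicatively. -/
noncomputable def adjEquiv (T : Over U) : ((Over.map q).obj T ⟶ G) ≃* (T ⟶ Red.bc q G) where
  toEquiv := (Over.mapPullbackAdj q).homEquiv T G
  map_mul' a b := by
    simp only [Equiv.toFun_as_coe, Adjunction.homEquiv_unit, Functor.map_mul, MonObj.comp_mul]

/-- Characters are points of the diagonalisable group over `ℤ`. -/
noncomputable def charPts (C : Type u) [CommRing C] :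
    (Multiplicative M →* C) ≃* ((Spec (CommRingCat.of C)).asOver (Spec (CommRingCat.of (ULift.{u} ℤ))) ⟶ Red.diag (ULift.{u} ℤ) M) :=
  MulEquiv.trans
    { toEquiv := ((MonoidAlgebra.lift (ULift.{u} ℤ) C (Multiplicative M)).trans (WithConv.equiv _).symm)
      map_mul' := fun χ χ' => by
        refine WithConv.ofConv_injective (MonoidAlgebra.algHom_ext (fun m => ?_) (by ext))
        simp [AlgHom.convMul_apply] }
    (Spec.mapMulEquiv (R := (ULift.{u} ℤ)) (S := MonoidAlgebra (ULift.{u} ℤ) (Multiplicative M)) (T := C))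

lemma charPts_left {C : Type u} [CommRing C] (χ : Multiplicative M →* C) :
    (charPts M C χ).left = Spec.map (CommRingCat.ofHom (MonoidAlgebra.lift (ULift.{u} ℤ) C (Multiplicative M) χ).toRingHom) := rfl

/-- The structural iso to the base. -/
noncomputable def toBase {C : Type u} [CommRing C] (c : Spec (CommRingCat.of C) ⟶ U) :
    (Over.map (specULiftZIsTerminal.from U)).obj (Over.mk c) ≅ (Spec (CommRingCat.of C)).asOver (Spec (CommRingCat.of (ULift.{u} ℤ))) :=
  Over.isoMk (Iso.refl _) (specULiftZIsTerminal.hom_ext _ _)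

/-- The underlying iso of the splitting. -/
noncomputable def splitIso : Red.DS U M ≅ Red.bc q G where
  hom := φ.inv.hom.hom
  inv := φ.hom.hom.hom
  hom_inv_id := congrArg (fun m => m.hom.hom) φ.inv_hom_id
  inv_hom_id := congrArg (fun m => m.hom.hom) φ.hom_inv_id

lemma ulift_int_hom_ext {D : Type u} [CommRing D] (g g' : ULift.{u} ℤ →+* D) : g = g' := by
  refine RingHom.ext fun z => ?_
  exact DFunLike.congr_fun (RingHom.ext_int (g.comp ULift.ringEquiv.symm.toRingHom) (g'.comp ULift.ringEquiv.symm.toRingHom)) z.down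

/-- Characters give points of a split group. -/
noncomputable def pts {C : Type u} [CommRing C] (c : Spec (CommRingCat.of C) ⟶ U) :
    (Multiplicative M →* C) ≃* ((Over.map q).obj (Over.mk c) ⟶ G) :=
  (charPts M C).trans <| MulEquiv.trans
    { toEquiv := (toBase c).homFromEquiv.symm
      map_mul' := fun a b => MonObj.comp_mul _ a b } <| (adjEquiv (specULiftZIsTerminal.from U) (Red.diag (ULift.{u} ℤ) M) (Over.mk c)).trans <|
    MulEquiv.trans
      { toEquiv := (splitIso q G M φ).homToEquiv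
        map_mul' := fun a b => MonObj.mul_comp a b φ.inv.hom.hom } (adjEquiv q G (Over.mk c)).symm

lemma pts_left {C : Type u} [CommRing C] (c : Spec (CommRingCat.of C) ⟶ U) (χ : Multiplicative M →* C) :
    (pts q G M φ c χ).left = (((Over.mapPullbackAdj (specULiftZIsTerminal.from U)).homEquiv (Over.mk c) (Red.diag (ULift.{u} ℤ) M))
      ((toBase c).hom ≫ charPts M C χ)).left ≫ φ.inv.hom.hom.left ≫ pullback.fst G.hom q := by
  show (((Over.mapPullbackAdj q).homEquiv (Over.mk c) G).symm _).left = _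
  simp [Over.mapPullbackAdj, Iso.homFromEquiv, Iso.homToEquiv, splitIso, adjEquiv]

set_option backward.isDefEq.respectTransparency false in
lemma pts_nat {C D : Type u} [CommRing C] [CommRing D] (f : C →+* D) (c : Spec (CommRingCat.of C) ⟶ U)
    (c' : Spec (CommRingCat.of D) ⟶ U) (hc : Spec.map (CommRingCat.ofHom f) ≫ c = c') (χ : Multiplicative M →* C) :
    Spec.map (CommRingCat.ofHom f) ≫ (pts q G M φ c χ).left = (pts q G M φ c' (f.toMonoidHom.comp χ)).left := by
  have hl : (MonoidAlgebra.lift (ULift.{u} ℤ) D (Multiplicative M) (f.toMonoidHom.comp χ)).toRingHom =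
      f.comp (MonoidAlgebra.lift (ULift.{u} ℤ) C (Multiplicative M) χ).toRingHom :=
    MonoidAlgebra.ringHom_ext' (ulift_int_hom_ext _ _) (by ext; simp)
  rw [pts_left, pts_left]
  simp only [← Category.assoc]
  congr 2
  apply pullback.hom_ext
  · simp [Over.mapPullbackAdj, toBase, charPts_left, ← Spec.map_comp]
    exact congrArg Spec.map (congrArg CommRingCat.ofHom hl.symm)
  · simp [Over.mapPullbackAdj, toBase, hc]

end Points

section LocalGen

variable {S U : Scheme.{u}} (q : U ⟶ S) (G X : Over S) [GrpObj G] (M : Type) [AddCommGroup M]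
  (φ : Grp.mk (Red.bc q G) ≅ Grp.mk (Red.DS U M)) (a : AlgGrp.Action G X)
  {W : S.Opens} (hW : IsAffineOpen W)
  {R' : Type u} [CommRing R'] [Algebra Γ(S, W) R'] (w : Spec (CommRingCat.of R') ⟶ U)
  (hw : w ≫ q = Spec.map (CommRingCat.ofHom (algebraMap Γ(S, W) R')) ≫ hW.fromSpec)
  {V : X.left.Opens} (hV : IsAffineOpen V) (hVW : V ≤ X.hom ⁻¹ᵁ W)

set_option maxHeartbeats 1000000 in
set_option backward.isDefEq.respectTransparency false in
include φ hw hV hVW in
theorem local_trivial_gen {J' : Ideal R'} (hJ' : IsNilpotent J')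
    (hred : ∀ (C : Type u) [CommRing C] [Algebra R' C], J'.map (algebraMap R' C) = ⊥ →
      ∀ (g : (Over.map q).obj (Over.mk (Spec.map (CommRingCat.ofHom (algebraMap R' C)) ≫ w)) ⟶ G)
        (x : (Over.map q).obj (Over.mk (Spec.map (CommRingCat.ofHom (algebraMap R' C)) ≫ w)) ⟶ X), lift g x ≫ a.act = x)
    {C : Type u} [CommRing C] [Algebra R' C]
    (g : (Over.map q).obj (Over.mk (Spec.map (CommRingCat.ofHom (algebraMap R' C)) ≫ w)) ⟶ G)
    (x : (Over.map q).obj (Over.mk (Spec.map (CommRingCat.ofHom (algebraMap R' C)) ≫ w)) ⟶ X)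
    (hx : Set.range x.left ⊆ V) : lift g x ≫ a.act = x := by
  let R := Γ(S, W)
  let B0 := Γ(X.left, V)
  letI : Algebra R B0 := (X.hom.appLE W V hVW).hom.toAlgebra
  let B := R' ⊗[R] B0
  let j : Spec (CommRingCat.of B) ⟶ X.left :=
    Spec.map (CommRingCat.ofHom (Algebra.TensorProduct.includeRight : B0 →ₐ[R] B).toRingHom) ≫ hV.fromSpec
  let tC : ∀ (C : Type u) [CommRing C] [Algebra R' C], Spec (CommRingCat.of C) ⟶ U := fun C _ _ =>
    Spec.map (CommRingCat.ofHom (algebraMap R' C)) ≫ w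
  let T : ∀ (C : Type u) [CommRing C] [Algebra R' C], Over S := fun C _ _ => (Over.map q).obj (Over.mk (tC C))
  have hjS : j ≫ X.hom = Spec.map (CommRingCat.ofHom (algebraMap R' B)) ≫ w ≫ q := by
    rw [hw, Category.assoc, ← IsAffineOpen.SpecMap_appLE_fromSpec X.hom hW hV hVW, ← Spec.map_comp_assoc, ← Spec.map_comp_assoc]
    congr 2
    refine CommRingCat.hom_ext (RingHom.ext fun r => ?_)
    exact ((Algebra.TensorProduct.includeRight : B0 →ₐ[R] B).commutes r).trans (IsScalarTower.algebraMap_apply R R' B r)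
  let xp : ∀ (C : Type u) [CommRing C] [Algebra R' C], (B →ₐ[R'] C) → (T C ⟶ X) := fun C _ _ y =>
    Over.homMk (Spec.map (CommRingCat.ofHom y.toRingHom) ≫ j) (by
      refine (Category.assoc _ _ _).trans ((congrArg (Spec.map (CommRingCat.ofHom y.toRingHom) ≫ ·) hjS).trans ?_)
      refine (Category.assoc _ _ _).symm.trans ?_
      rw [← Spec.map_comp]
      show Spec.map (CommRingCat.ofHom (y.toRingHom.comp (algebraMap R' B))) ≫ w ≫ q = (tC C) ≫ q
      rw [y.toRingHom_eq_coe, y.comp_algebraMap, Category.assoc])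
  have xp_inj : ∀ (C : Type u) [CommRing C] [Algebra R' C] (y y' : B →ₐ[R'] C), xp C y = xp C y' → y = y' := by
    intro C _ _ y y' h
    letI : Algebra R C := ((algebraMap R' C).comp (algebraMap R R')).toAlgebra
    haveI : IsScalarTower R R' C := IsScalarTower.of_algebraMap_eq fun _ => rfl
    have h1 : (Spec.map (CommRingCat.ofHom y.toRingHom) ≫ Spec.map (CommRingCat.ofHom (Algebra.TensorProduct.includeRight : B0 →ₐ[R] B).toRingHom)) ≫ hV.fromSpec =
        (Spec.map (CommRingCat.ofHom y'.toRingHom) ≫ Spec.map (CommRingCat.ofHom (Algebra.TensorProduct.includeRight : B0 →ₐ[R] B).toRingHom)) ≫ hV.fromSpec :=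
      ((Category.assoc _ _ _).trans (congrArg Over.Hom.left h)).trans (Category.assoc _ _ _).symm
    rw [cancel_mono, ← Spec.map_comp, ← Spec.map_comp] at h1
    have h2 := congrArg CommRingCat.Hom.hom (Spec.map_injective h1)
    exact Algebra.TensorProduct.ext' fun r b => by
      have hrb : (r ⊗ₜ[R] b : B) = algebraMap R' B r * (1 ⊗ₜ[R] b) := by
        rw [Algebra.TensorProduct.algebraMap_apply, Algebra.TensorProduct.tmul_mul_tmul, _root_.one_mul, _root_.mul_one]
        rfl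
      rw [hrb, map_mul, map_mul, y.commutes, y'.commutes]
      exact congrArg _ (DFunLike.congr_fun h2 b)
  have xp_surj : ∀ (C : Type u) [CommRing C] [Algebra R' C] (x : T C ⟶ X), Set.range x.left ⊆ V → ∃ y, xp C y = x := by
    intro C _ _ x hx
    let l := IsOpenImmersion.lift hV.fromSpec x.left (by rw [hV.range_fromSpec]; exact hx)
    obtain ⟨z, hz⟩ : ∃ z : CommRingCat.of B0 ⟶ CommRingCat.of C, Spec.map z = l := ⟨_, Spec.map_preimage _⟩
    letI : Algebra R C := ((algebraMap R' C).comp (algebraMap R R')).toAlgebra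
    haveI : IsScalarTower R R' C := IsScalarTower.of_algebraMap_eq fun _ => rfl
    have hlS : l ≫ Spec.map (X.hom.appLE W V hVW) = Spec.map (CommRingCat.ofHom (algebraMap R C)) := by
      rw [← cancel_mono hW.fromSpec, Category.assoc, IsAffineOpen.SpecMap_appLE_fromSpec X.hom hW hV hVW,
        IsOpenImmersion.lift_fac_assoc]
      refine (Over.w x).trans ?_
      show (Spec.map _ ≫ w) ≫ q = _
      rw [Category.assoc, hw, ← Spec.map_comp_assoc]
      rfl
    rw [← hz, ← Spec.map_comp] at hlS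
    have hzc : ∀ r, z.hom (algebraMap R B0 r) = algebraMap R C r := fun r =>
      DFunLike.congr_fun (congrArg CommRingCat.Hom.hom (Spec.map_injective hlS)) r
    let za : B0 →ₐ[R] C := { toRingHom := z.hom, commutes' := hzc }
    refine ⟨Algebra.TensorProduct.lift (Algebra.ofId R' C) za fun _ _ => Commute.all _ _, Over.OverMorphism.ext ?_⟩
    show Spec.map _ ≫ Spec.map _ ≫ hV.fromSpec = x.left
    rw [← Spec.map_comp_assoc]
    refine (congrArg (· ≫ hV.fromSpec) (congrArg Spec.map (?_ : _ = z))).trans (by rw [hz]; exact IsOpenImmersion.lift_fac _ _ _)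
    refine CommRingCat.hom_ext (RingHom.ext fun b => ?_)
    show Algebra.TensorProduct.lift (Algebra.ofId R' C) za (fun _ _ => Commute.all _ _) ((1 : R') ⊗ₜ[R] b) = z.hom b
    rw [Algebra.TensorProduct.lift_tmul, map_one, _root_.one_mul]
    rfl
  let sh : ∀ (C D : Type u) [CommRing C] [Algebra R' C] [CommRing D] [Algebra R' D], (C →ₐ[R'] D) → (T D ⟶ T C) :=
    fun C D _ _ _ _ f => Over.homMk (Spec.map (CommRingCat.ofHom f.toRingHom)) (by
      show Spec.map _ ≫ (Spec.map _ ≫ w) ≫ q = (Spec.map _ ≫ w) ≫ q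
      rw [← Category.assoc, ← Category.assoc, ← Spec.map_comp]
      simp only [← CommRingCat.ofHom_comp, f.toRingHom_eq_coe, f.comp_algebraMap])
  have range_act : ∀ (C : Type u) [CommRing C] [Algebra R' C] (g : T C ⟶ G) (x : T C ⟶ X), Set.range x.left ⊆ V →
      Set.range (lift g x ≫ a.act).left ⊆ V := by
    intro C _ _ g x hx
    let I := J'.map (algebraMap R' C)
    let s := sh C (C ⧸ I) (Ideal.Quotient.mkₐ R' I)
    have h1 : s ≫ lift g x ≫ a.act = s ≫ x := by
      rw [comp_lift_assoc]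
      exact hred (C ⧸ I) (by
        rw [IsScalarTower.algebraMap_eq R' C (C ⧸ I), ← Ideal.map_map, Ideal.Quotient.algebraMap_eq, Ideal.map_quotient_self]) _ _
    have hsurj : Function.Surjective s.left := by
      intro z
      have hz : z ∈ PrimeSpectrum.zeroLocus (RingHom.ker (Ideal.Quotient.mk I)) := by
        rw [Ideal.mk_ker, PrimeSpectrum.mem_zeroLocus]
        intro c hc
        refine nilradical_le_prime z.asIdeal (?_ : c ∈ nilradical C)
        obtain ⟨n, hn⟩ := hJ'
        exact ⟨n, by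
          have := Ideal.pow_mem_pow hc n
          rwa [← Ideal.map_pow, hn, Ideal.zero_eq_bot, Ideal.map_bot, Ideal.mem_bot] at this⟩
      rwa [← range_comap_of_surjective _ _ Ideal.Quotient.mk_surjective] at hz
    rintro _ ⟨z, rfl⟩
    obtain ⟨z', rfl⟩ := hsurj z
    rw [← Scheme.Hom.comp_apply, ← Over.comp_left, h1]
    exact hx ⟨_, rfl⟩
  have xp_range : ∀ (C : Type u) [CommRing C] [Algebra R' C] (y : B →ₐ[R'] C), Set.range (xp C y).left ⊆ V := by
    intro C _ _ y
    rintro _ ⟨z, rfl⟩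
    rw [← hV.range_fromSpec]
    refine ⟨(Spec.map (CommRingCat.ofHom y.toRingHom) ≫ Spec.map (CommRingCat.ofHom (Algebra.TensorProduct.includeRight : B0 →ₐ[R] B).toRingHom)) z, ?_⟩
    refine (Scheme.Hom.comp_apply _ hV.fromSpec z).symm.trans ?_
    rw [Category.assoc]
    rfl
  have hα : ∀ (C : Type u) [CommRing C] [Algebra R' C] (χ : Multiplicative M →* C) (y : B →ₐ[R'] C),
      ∃ y', xp C y' = lift (pts q G M φ (tC C) χ) (xp C y) ≫ a.act := fun C _ _ χ y =>
    xp_surj C _ (range_act C _ _ (xp_range C y))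
  choose α hα using hα
  have key := H8DiagRigidCore.trivial_of_mod_nilpotent hJ' (fun C _ _ χ y => α C χ y) ?nat ?one ?mul ?red
  · obtain ⟨y, rfl⟩ := xp_surj C x hx
    obtain ⟨χ, rfl⟩ := (pts q G M φ (tC C)).surjective g
    exact (hα C χ y).symm.trans (congrArg (xp C) (key C χ y))
  case one =>
    intro C _ _ y
    refine xp_inj C _ _ ((hα C 1 y).trans ?_)
    rw [map_one]
    have h := congrArg (fun m => lift (toUnit (T C)) (xp C y) ≫ m) a.one_act
    simpa [Hom.one_def] using h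
  case mul =>
    intro C _ _ χ χ' y
    refine xp_inj C _ _ ((hα C _ y).trans ?_)
    rw [map_mul, hα C χ, hα C χ', act_mul]
  case red =>
    intro C _ _ χ y hC
    exact xp_inj C _ _ ((hα C χ y).trans (hred C hC _ _))
  case nat =>
    intro C D _ _ _ _ f χ y
    refine xp_inj D _ _ ?_
    rw [hα D]
    have e1 : ∀ z : B →ₐ[R'] C, sh C D f ≫ xp C z = xp D (f.comp z) := fun z => Over.OverMorphism.ext (by
      show Spec.map _ ≫ Spec.map _ ≫ j = Spec.map _ ≫ j
      rw [← Spec.map_comp_assoc]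
      rfl)
    have e2 : sh C D f ≫ pts q G M φ (tC C) χ = pts q G M φ (tC D) ((f : C →* D).comp χ) :=
      Over.OverMorphism.ext (pts_nat q G M φ f.toRingHom (tC C) (tC D) (by
        rw [← Category.assoc, ← Spec.map_comp]
        simp only [← CommRingCat.ofHom_comp, f.toRingHom_eq_coe, f.comp_algebraMap]
        rfl) χ)
    rw [← e1, hα C, ← e1, ← e2, comp_lift_assoc]

end LocalGen

section Local

variable {S S₀ U : Scheme.{u}} (i₀ : S₀ ⟶ S) (q : U ⟶ S) (G X : Over S) [GrpObj G] (M : Type) [AddCommGroup M]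
  (φ : Grp.mk (Red.bc q G) ≅ Grp.mk (Red.DS U M)) (a : AlgGrp.Action G X)
  (h0 : ∀ (Y : Over S) (p : Y ⟶ Over.mk i₀) (g : Y ⟶ G) (x : Y ⟶ X), lift g x ≫ a.act = x)
  {W : S.Opens} (hW : IsAffineOpen W) {J : Ideal Γ(S, W)} (hJ : IsNilpotent J)
  (hkill : ∀ (C : CommRingCat.{u}) (g : Γ(S, W) ⟶ C), J.map g.hom = ⊥ →
    ∃ l : Spec C ⟶ S₀, l ≫ i₀ = Spec.map g ≫ hW.fromSpec)
  {R' : Type u} [CommRing R'] [Algebra Γ(S, W) R'] (w : Spec (CommRingCat.of R') ⟶ U)
  (hw : w ≫ q = Spec.map (CommRingCat.ofHom (algebraMap Γ(S, W) R')) ≫ hW.fromSpec)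
  {V : X.left.Opens} (hV : IsAffineOpen V) (hVW : V ≤ X.hom ⁻¹ᵁ W)

set_option maxHeartbeats 1000000 in
set_option backward.isDefEq.respectTransparency false in
include φ h0 hJ hkill hw hV hVW in
theorem local_trivial {C : Type u} [CommRing C] [Algebra R' C]
    (g : (Over.map q).obj (Over.mk (Spec.map (CommRingCat.ofHom (algebraMap R' C)) ≫ w)) ⟶ G)
    (x : (Over.map q).obj (Over.mk (Spec.map (CommRingCat.ofHom (algebraMap R' C)) ≫ w)) ⟶ X)
    (hx : Set.range x.left ⊆ V) : lift g x ≫ a.act = x := by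
  refine local_trivial_gen q G X M φ a hW w hw hV hVW (J' := J.map (algebraMap Γ(S, W) R')) ?_ (fun C _ _ hC g x => ?_) g x hx
  · obtain ⟨n, hn⟩ := hJ
    exact ⟨n, by rw [← Ideal.map_pow, hn, Ideal.zero_eq_bot, Ideal.map_bot]; rfl⟩
  · obtain ⟨l, hl⟩ := hkill (CommRingCat.of C) (CommRingCat.ofHom ((algebraMap R' C).comp (algebraMap Γ(S, W) R'))) (by
      rw [CommRingCat.hom_ofHom, ← Ideal.map_map]; exact hC)
    refine h0 _ (Over.homMk l ?_) g x
    show l ≫ i₀ = (Spec.map _ ≫ w) ≫ q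
    rw [hl, Category.assoc, hw, ← Spec.map_comp_assoc]
    rfl

end Local

set_option backward.isDefEq.respectTransparency false in
theorem result {S S₀ : Scheme.{u}} (i₀ : S₀ ⟶ S) [IsClosedImmersion i₀]
    (hnil : ∀ x : S, ∃ U : S.affineOpens, x ∈ (U : S.Opens) ∧ IsNilpotent (i₀.ker.ideal U))
    (G X : Over S) [GrpObj G] (hG : TwC.Locally S TwC.Topology.fpqc (fun S' f => ∃ (M : Type) (_ : AddCommGroup M), Nonempty (Grp.mk (Red.bc f G) ≅ Grp.mk (Red.DS S' M))))
    (a : AlgGrp.Action G X)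
    (h0 : ∀ (Y : Over S) (p : Y ⟶ Over.mk i₀) (g : Y ⟶ G) (x : Y ⟶ X), lift g x ≫ a.act = x)
    (Y : Over S) (g : Y ⟶ G) (x : Y ⟶ X) : lift g x ≫ a.act = x := by
  obtain ⟨S', f, hf, hfs, -, htriv⟩ := hG
  haveI := hf; haveI := hfs
  let pr := pullback.fst Y.hom f
  haveI : Epi pr := Flat.epi_of_flat_of_surjective pr
  refine Over.OverMorphism.ext ((cancel_epi pr).mp ?_)
  refine Scheme.hom_ext_of_forall _ _ fun z => ?_
  let s' := pullback.snd Y.hom f z
  obtain ⟨U, hsU, M, _, ⟨φ⟩⟩ := htriv s'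
  obtain ⟨⟨W, hW⟩, hsW, hJ⟩ := hnil (f s')
  obtain ⟨_, ⟨W', hW', rfl⟩, hsW', hle⟩ :=
    S'.isBasis_affineOpens.exists_subset_of_mem_open (show s' ∈ U ⊓ f ⁻¹ᵁ W from ⟨hsU, hsW⟩) (U ⊓ f ⁻¹ᵁ W).2
  replace hW' : IsAffineOpen W' := hW'
  have hW'U : W' ≤ U := fun t ht => (hle ht).1
  have hW'W : W' ≤ f ⁻¹ᵁ W := fun t ht => (hle ht).2
  have hxW : x.left (pr z) ∈ X.hom ⁻¹ᵁ W := by
    show (pr ≫ x.left ≫ X.hom) z ∈ W
    rw [Over.w x, pullback.condition, Scheme.Hom.comp_apply]
    exact hsW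
  obtain ⟨_, ⟨V, hV, rfl⟩, hxV, hVW⟩ := X.left.isBasis_affineOpens.exists_subset_of_mem_open hxW (X.hom ⁻¹ᵁ W).2
  replace hV : IsAffineOpen V := hV
  obtain ⟨_, ⟨O, hO, rfl⟩, hzO, hleO⟩ := (pullback Y.hom f).isBasis_affineOpens.exists_subset_of_mem_open
    (show z ∈ (pullback.snd Y.hom f ⁻¹ᵁ W') ⊓ (pr ≫ x.left) ⁻¹ᵁ V from ⟨hsW', hxV⟩)
    ((pullback.snd Y.hom f ⁻¹ᵁ W') ⊓ (pr ≫ x.left) ⁻¹ᵁ V).2
  replace hO : IsAffineOpen O := hO
  refine ⟨O, hzO, ?_⟩
  rw [← cancel_epi hO.isoSpec.inv]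
  rw [← Category.assoc, ← Category.assoc, IsAffineOpen.isoSpec_inv_ι]
  simp only [← Category.assoc]
  simp only [Category.assoc]
  let R' := Γ(S', W')
  letI : Algebra Γ(S, W) R' := (f.appLE W W' hW'W).hom.toAlgebra
  let C := Γ(pullback Y.hom f, O)
  have hOW : O ≤ pullback.snd Y.hom f ⁻¹ᵁ W' := fun t ht => (hleO ht).1
  letI : Algebra R' C := ((pullback.snd Y.hom f).appLE W' O hOW).hom.toAlgebra
  let w : Spec (CommRingCat.of R') ⟶ (U : Scheme.{u}) := IsOpenImmersion.lift U.ι hW'.fromSpec (by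
    exact hW'.range_fromSpec.le.trans ((show (W' : Set S') ⊆ U from hW'U).trans (Scheme.Opens.range_ι U).ge))
  have hw : w ≫ U.ι ≫ f = Spec.map (CommRingCat.ofHom (algebraMap Γ(S, W) R')) ≫ hW.fromSpec := by
    rw [IsOpenImmersion.lift_fac_assoc]
    exact (IsAffineOpen.SpecMap_appLE_fromSpec f hW hW' hW'W).symm
  have hkill : ∀ (C : CommRingCat.{u}) (g : Γ(S, W) ⟶ C), (i₀.ker.ideal ⟨W, hW⟩).map g.hom = ⊥ →
      ∃ l : Spec C ⟶ S₀, l ≫ i₀ = Spec.map g ≫ hW.fromSpec := by
    intro C g hg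
    let g' : CommRingCat.of (Γ(S, W) ⧸ i₀.ker.ideal ⟨W, hW⟩) ⟶ C := CommRingCat.ofHom
      (Ideal.Quotient.lift _ g.hom fun r hr => by
        have := Ideal.mem_map_of_mem g.hom hr
        rwa [hg, Ideal.mem_bot] at this)
    refine ⟨Spec.map g' ≫ i₀.ker.subschemeCover.f ⟨W, hW⟩ ≫ inv i₀.toImage, ?_⟩
    have e : inv i₀.toImage ≫ i₀ = i₀.ker.subschemeι := by rw [IsIso.inv_comp_eq]; exact i₀.toImage_imageι.symm
    simp only [Category.assoc, e, Scheme.IdealSheafData.subschemeCover_map_subschemeι]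
    refine (congrArg (Spec.map g' ≫ ·) (i₀.ker.glueDataObjι_ι ⟨W, hW⟩)).trans ?_
    exact (Spec.map_comp_assoc _ _ _).symm.trans rfl
  let T : Over S := (Over.map (U.ι ≫ f)).obj (Over.mk (Spec.map (CommRingCat.ofHom (algebraMap R' C)) ≫ w))
  let m : T ⟶ Y := Over.homMk (hO.fromSpec ≫ pr) (by
    show (hO.fromSpec ≫ pr) ≫ Y.hom = (Spec.map _ ≫ w) ≫ U.ι ≫ f
    rw [Category.assoc, pullback.condition, Category.assoc, IsOpenImmersion.lift_fac_assoc,
      ← Category.assoc, ← Category.assoc]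
    congr 1
    exact (IsAffineOpen.SpecMap_appLE_fromSpec _ hW' hO hOW).symm)
  have := local_trivial i₀ (U.ι ≫ f) G X M φ a h0 hW hJ hkill w hw hV (fun t ht => hVW ht) (m ≫ g) (m ≫ x) (by
    rintro _ ⟨t, rfl⟩
    have : hO.fromSpec t ∈ (O : Set _) := hO.range_fromSpec ▸ ⟨t, rfl⟩
    exact (hleO this).2)
  rw [← comp_lift_assoc] at this
  simpa [m] using congrArg Over.Hom.left this

end Groth.Agent.H8DiagRigid
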