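import Mathlib
import Groth.Prelude.Def_SGA3x

/-!
# Groups of multiplicative type of finite type are locally of finite presentation
-/

set_option autoImplicit false

universe u

open CategoryTheory Limits AlgebraicGeometry MonoidalCategory CartesianMonoidalCategory MonObj

namespace Groth.Agent.H8MultLFT

set_option backward.isDefEq.respectTransparency false in
lemma lfp_DS (U : Scheme.{u}) (M : Type) [AddCommGroup M] [AddGroup.FG M] :
    LocallyOfFinitePresentation (Red.DS U M).hom := by
  haveI : Algebra.FinitePresentation (ULift.{u} ℤ) (MonoidAlgebra (ULift.{u} ℤ) (Multiplicative M)) := by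
    haveI : IsNoetherianRing (ULift.{u} ℤ) := isNoetherianRing_of_ringEquiv ℤ ULift.ringEquiv.symm
    haveI : Monoid.FG (Multiplicative M) := Group.fg_iff_monoid_fg.mp inferInstance
    exact Algebra.FinitePresentation.of_finiteType.mp inferInstance
  have h : LocallyOfFinitePresentation (Spec.map (CommRingCat.ofHom
      (algebraMap (ULift.{u} ℤ) (MonoidAlgebra (ULift.{u} ℤ) (Multiplicative M))))) :=
    (HasRingHomProperty.Spec_iff (P := @LocallyOfFinitePresentation)).mpr
      (RingHom.finitePresentation_algebraMap.mpr inferInstance)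
  exact MorphismProperty.pullback_snd (P := @LocallyOfFinitePresentation) _ _ h

set_option backward.isDefEq.respectTransparency false in
theorem lfp {S : Scheme.{u}} {H : Over S} [GrpObj H] (hH : SGA3x.IsMultTypeFT H) :
    LocallyOfFinitePresentation H.hom := by
  obtain ⟨S', f, hf, hfs, hqc, htriv⟩ := hH
  choose T hT M hM hMfg hiso using htriv
  have hg : LocallyOfFinitePresentation (pullback.snd H.hom f) := by
    refine IsZariskiLocalAtTarget.of_iSup_eq_top T
      (TopologicalSpace.Opens.ext (Set.eq_univ_of_forall fun x =>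
        TopologicalSpace.Opens.mem_iSup.mpr ⟨x, hT x⟩)) fun s => ?_
    let := hM s
    have : AddGroup.FG (M s) := hMfg s
    obtain ⟨e⟩ := hiso s
    have hbc : LocallyOfFinitePresentation (pullback.snd H.hom ((T s).ι ≫ f)) := by
      have := lfp_DS (T s : Scheme.{u}) (M s)
      let i := (Over.forget _).mapIso ((Grp.forget _).mapIso e)
      have hw : i.hom ≫ (Red.DS (T s : Scheme.{u}) (M s)).hom = pullback.snd H.hom ((T s).ι ≫ f) :=
        Over.w ((Grp.forget _).mapIso e).hom
      rw [← hw]
      exact MorphismProperty.comp_mem _ _ _ inferInstance this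
    have e2 : IsPullback (pullback.map H.hom ((T s).ι ≫ f) H.hom f (𝟙 _) (T s).ι (𝟙 _) (by simp) (by simp))
        (pullback.snd H.hom ((T s).ι ≫ f)) (pullback.snd H.hom f) (T s).ι := by
      refine IsPullback.of_right ?_ (by simp) (IsPullback.of_hasPullback H.hom f)
      simpa using IsPullback.of_hasPullback H.hom ((T s).ι ≫ f)
    have e3 : IsPullback ((pullback.snd H.hom f ⁻¹ᵁ T s).ι) (pullback.snd H.hom f ∣_ T s)
        (pullback.snd H.hom f) (T s).ι := (isPullback_morphismRestrict _ _).flip
    rw [← e2.isoIsPullback_inv_snd _ _ e3] at *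
    exact MorphismProperty.comp_mem _ _ _ inferInstance hbc
  refine IsZariskiLocalAtTarget.of_iSup_eq_top (fun U : S.affineOpens => U.1)
    (iSup_affineOpens_eq_top S) fun U => ?_
  obtain ⟨W, hW, hWU⟩ := hqc U.1 U.2
  have hWle : W ≤ f ⁻¹ᵁ U.1 := fun w hw => by
    show f w ∈ (U.1 : Set S)
    rw [← hWU]
    exact ⟨w, hw, rfl⟩
  let q : (W : Scheme.{u}) ⟶ (U.1 : Scheme.{u}) := f.resLE U.1 W hWle
  haveI : IsAffine (U.1 : Scheme.{u}) := U.2
  haveI : CompactSpace ↥(W : Scheme.{u}) := isCompact_iff_compactSpace.mp hW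
  haveI : QuasiCompact q := (quasiCompact_iff_compactSpace q).mpr inferInstance
  haveI : Flat q := inferInstanceAs (Flat (f.resLE U.1 W hWle))
  haveI : Surjective q := ⟨fun y => by
    have hy : U.1.ι y ∈ (U.1 : Set S) := y.2
    rw [← hWU] at hy
    obtain ⟨w, hw, hwy⟩ := hy
    refine ⟨⟨w, hw⟩, U.1.ι.isOpenEmbedding.injective ?_⟩
    rw [← Scheme.Hom.comp_apply, Scheme.Hom.resLE_comp_ι]
    exact hwy⟩
  refine MorphismProperty.of_pullback_snd_of_descendsAlong (P := @LocallyOfFinitePresentation)
    (Q := @Surjective ⊓ @Flat ⊓ @QuasiCompact) (g := q) ⟨⟨inferInstance, inferInstance⟩, inferInstance⟩ ?_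
  have h1 : IsPullback (pullback.fst (H.hom ∣_ U.1) q ≫ (H.hom ⁻¹ᵁ U.1).ι)
      (pullback.snd (H.hom ∣_ U.1) q) H.hom (q ≫ U.1.ι) :=
    (IsPullback.of_hasPullback (H.hom ∣_ U.1) q).paste_horiz (isPullback_morphismRestrict H.hom U.1).flip
  rw [show q ≫ U.1.ι = W.ι ≫ f from Scheme.Hom.resLE_comp_ι f hWle] at h1
  let l : pullback (H.hom ∣_ U.1) q ⟶ pullback H.hom f :=
    pullback.lift (pullback.fst _ _ ≫ (H.hom ⁻¹ᵁ U.1).ι) (pullback.snd _ _ ≫ W.ι)
      (h1.w.trans (Category.assoc _ _ _).symm)
  have h2 : IsPullback l (pullback.snd (H.hom ∣_ U.1) q) (pullback.snd H.hom f) W.ι :=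
    IsPullback.of_right (by simpa [l] using h1) (by simp [l]) (IsPullback.of_hasPullback H.hom f)
  exact MorphismProperty.of_isPullback h2 hg

end Groth.Agent.H8MultLFT
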