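import Mathlib
import Groth.Prelude.Def_SGA3x
import Groth.Agent.Lib.H8DiagRigid
import Groth.Agent.Lib.H8MultLFT
import Groth.Agent.Lib.H6.Misc2

/-!
# The locus where a homomorphism from a group of multiplicative type is trivial is clopen
-/

set_option autoImplicit false
set_option linter.all false

universe u

open CategoryTheory Limits AlgebraicGeometry MonoidalCategory CartesianMonoidalCategory MonObj GrpObj

namespace Groth.Agent.H8MultTrivLocus

open H8DiagRigid

variable {S : Scheme.{u}} {H G : Over S} [GrpObj H] [GrpObj G] (v : H ⟶ G) [IsMonHom v]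

/-- The homomorphism is trivial on all points over `t`. -/
def Triv {T : Scheme.{u}} (t : T ⟶ S) : Prop := ∀ (Y : Over S) (p : Y ⟶ Over.mk t) (h : Y ⟶ H), h ≫ v = 1

omit [IsMonHom v] in
lemma triv_comp {T T' : Scheme.{u}} (i : T' ⟶ T) {t : T ⟶ S} (ht : Triv v t) : Triv v (i ≫ t) :=
  fun Y p h => ht Y (p ≫ Over.homMk i) h

omit [GrpObj H] [IsMonHom v] in
lemma eq_one_iff {Y : Over S} (h : Y ⟶ H) : h ≫ v = 1 ↔ h.left ≫ v.left = Y.hom ≫ η[G].left := by
  rw [← Over.comp_left]
  exact ⟨fun e => by rw [e]; rfl, fun e => Over.OverMorphism.ext e⟩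

omit [IsMonHom v] in
lemma triv_descend {T T' : Scheme.{u}} (i : T' ⟶ T) [Flat i] [Surjective i] {t : T ⟶ S}
    (ht : Triv v (i ≫ t)) : Triv v t := by
  intro Y p h
  let pr := pullback.fst p.left i
  haveI : Epi pr := Flat.epi_of_flat_of_surjective pr
  let Y' : Over S := Over.mk (pr ≫ Y.hom)
  let m : Y' ⟶ Y := Over.homMk pr
  have hp : Y.hom = p.left ≫ t := (Over.w p).symm
  let p' : Y' ⟶ Over.mk (i ≫ t) := Over.homMk (pullback.snd p.left i) (by
    show pullback.snd p.left i ≫ i ≫ t = pr ≫ Y.hom
    rw [hp, ← Category.assoc, ← pullback.condition, Category.assoc])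
  have := (eq_one_iff v _).mp (ht Y' p' (m ≫ h))
  refine (eq_one_iff v h).mpr ((cancel_epi pr).mp ?_)
  exact (Category.assoc _ _ _).symm.trans (this.trans (Category.assoc _ _ _))

omit [IsMonHom v] in
lemma triv_local {T : Scheme.{u}} {t : T ⟶ S}
    (ht : ∀ x : T, ∃ (T' : Scheme.{u}) (i : T' ⟶ T), IsOpenImmersion i ∧ x ∈ Set.range i ∧ Triv v (i ≫ t)) :
    Triv v t := by
  intro Y p h
  refine (eq_one_iff v h).mpr (Scheme.hom_ext_of_forall _ _ fun z => ?_)
  obtain ⟨T', i, hi, hx, hT⟩ := ht (p.left z)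
  haveI := hi
  refine ⟨p.left ⁻¹ᵁ i.opensRange, hx, ?_⟩
  let O := p.left ⁻¹ᵁ i.opensRange
  let Y' : Over S := Over.mk (O.ι ≫ Y.hom)
  let l : (O : Scheme.{u}) ⟶ T' := IsOpenImmersion.lift i (O.ι ≫ p.left) (by
    rintro _ ⟨y, rfl⟩
    exact y.2)
  let m : Y' ⟶ Y := Over.homMk O.ι
  let p' : Y' ⟶ Over.mk (i ≫ t) := Over.homMk l (by
    show l ≫ i ≫ t = O.ι ≫ Y.hom
    rw [← Category.assoc, show l ≫ i = O.ι ≫ p.left from IsOpenImmersion.lift_fac _ _ _, Category.assoc]
    exact congrArg (O.ι ≫ ·) (Over.w p))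
  have := (eq_one_iff v _).mp (hT Y' p' (m ≫ h))
  exact (Category.assoc _ _ _).symm.trans (this.trans (Category.assoc _ _ _))

set_option synthInstance.maxHeartbeats 400000 in
set_option backward.isDefEq.respectTransparency false in
lemma triv_iff_map_eq_one {T : Scheme.{u}} (t : T ⟶ S) : Triv v t ↔ (Over.pullback t).map v = 1 := by
  rw [← (Functor.map_one (F := Over.pullback t) : (Over.pullback t).map (1 : H ⟶ G) = 1)]
  have hf : ∀ g : H ⟶ G, ((Over.pullback t).map g).left ≫ pullback.fst G.hom t = pullback.fst H.hom t ≫ g.left :=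
    fun g => pullback.lift_fst _ _ _
  have h1 : ∀ {Y : Over S} (k : Y ⟶ H), k.left ≫ (1 : H ⟶ G).left = Y.hom ≫ η[G].left := fun {Y} k => by
    rw [← Over.comp_left, MonObj.comp_one]; rfl
  constructor
  · intro ht
    refine Over.OverMorphism.ext (pullback.hom_ext ?_ ?_)
    · rw [hf, hf]
      let Y : Over S := Over.mk (pullback.snd H.hom t ≫ t)
      let k : Y ⟶ H := Over.homMk (pullback.fst H.hom t) pullback.condition
      exact ((eq_one_iff v k).mp (ht Y (Over.homMk (pullback.snd H.hom t)) k)).trans (h1 k).symm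
    · exact (Over.w ((Over.pullback t).map v)).trans (Over.w ((Over.pullback t).map (1 : H ⟶ G))).symm
  · intro ht Y p h
    refine (eq_one_iff v h).mpr ((?_ : h.left ≫ v.left = h.left ≫ (1 : H ⟶ G).left).trans (h1 h))
    let l : Y.left ⟶ pullback H.hom t := pullback.lift h.left p.left ((Over.w h).trans (Over.w p).symm)
    have hl : h.left = l ≫ pullback.fst H.hom t := (pullback.lift_fst _ _ _).symm
    rw [hl, Category.assoc, Category.assoc, ← hf, ← hf, ht]

section Piece

variable {U : Scheme.{u}} (q : U ⟶ S) (M : Type) [AddCommGroup M]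
  (φ : Grp.mk (Red.bc q H) ≅ Grp.mk (Red.DS U M))

set_option maxHeartbeats 1000000 in
set_option synthInstance.maxHeartbeats 400000 in
set_option backward.isDefEq.respectTransparency false in
include φ in
theorem exists_idem [IsSeparated G.hom] (hK : LocallyOfFinitePresentation (pullback.fst v.left η[G].left))
    {R : Type u} [CommRing R] (w : Spec (CommRingCat.of R) ⟶ U) :
    ∃ e : R, IsIdempotentElem e ∧ ∀ (C : Type u) [CommRing C] [Algebra R C],
      Triv v (Spec.map (CommRingCat.ofHom (algebraMap R C)) ≫ w ≫ q) ↔ algebraMap R C e = 0 := by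
  classical
  let tC : ∀ (C : Type u) [CommRing C] [Algebra R C], Spec (CommRingCat.of C) ⟶ U := fun C _ _ =>
    Spec.map (CommRingCat.ofHom (algebraMap R C)) ≫ w
  let T : ∀ (C : Type u) [CommRing C] [Algebra R C], Over S := fun C _ _ => (Over.map q).obj (Over.mk (tC C))
  let A := MonoidAlgebra R (Multiplicative M)
  let hh : Spec (CommRingCat.of A) ⟶ H.left := (pts q H M φ (tC A) (MonoidAlgebra.of R _)).left
  haveI : IsClosedImmersion η[G].left := by
    haveI : IsClosedImmersion (η[G].left ≫ G.hom) := by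
      rw [Over.w]; exact inferInstanceAs (IsClosedImmersion (𝟙 S))
    exact IsClosedImmersion.of_comp η[G].left G.hom
  let k := pullback.fst v.left η[G].left
  haveI hkc : IsClosedImmersion k := MorphismProperty.pullback_fst (P := @IsClosedImmersion) _ _ ‹IsClosedImmersion η[G].left›
  let Zs := pullback k hh
  haveI : IsClosedImmersion (pullback.snd k hh) := MorphismProperty.pullback_snd (P := @IsClosedImmersion) _ _ hkc
  haveI : IsAffine Zs := isAffine_of_isAffineHom (pullback.snd k hh)
  obtain ⟨π, hπ⟩ : ∃ π : CommRingCat.of A ⟶ Γ(Zs, ⊤), Spec.map π = Zs.isoSpec.inv ≫ pullback.snd k hh := ⟨_, Spec.map_preimage _⟩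
  have hπs : Function.Surjective π.hom := by
    haveI : IsClosedImmersion (Spec.map π) := by rw [hπ]; infer_instance
    obtain ⟨I, e, he⟩ := IsClosedImmersion.Spec_iff.mp this
    rw [← Spec.map_preimage e.hom, ← Spec.map_comp] at he
    rw [Spec.map_injective he]
    haveI : IsIso (Spec.map (Spec.preimage e.hom)) := by rw [Spec.map_preimage]; infer_instance
    haveI h' : IsIso (Scheme.Spec.map (Spec.preimage e.hom).op) := this
    haveI : IsIso (Spec.preimage e.hom).op := isIso_of_reflects_iso _ Scheme.Spec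
    haveI : IsIso (Spec.preimage e.hom) := isIso_of_op _
    intro x
    obtain ⟨y, rfl⟩ := (ConcreteCategory.bijective_of_isIso (Spec.preimage e.hom)).surjective x
    obtain ⟨z, rfl⟩ := Ideal.Quotient.mk_surjective y
    exact ⟨z, rfl⟩
  have hπfp : π.hom.FinitePresentation := by
    refine (HasRingHomProperty.Spec_iff (P := @LocallyOfFinitePresentation)).mp ?_
    rw [hπ]
    exact MorphismProperty.comp_mem _ _ _ inferInstance (MorphismProperty.pullback_snd (P := @LocallyOfFinitePresentation) _ _ hK)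
  let I := RingHom.ker π.hom
  have hIfg : I.FG := by
    letI := π.hom.toAlgebra
    haveI : Algebra.FinitePresentation A Γ(Zs, ⊤) := hπfp
    exact Algebra.FinitePresentation.ker_fG_of_surjective (Algebra.ofId A Γ(Zs, ⊤)) hπs
  have hkill : ∀ (C : Type u) [CommRing C] [Algebra R C] (χ : Multiplicative M →* C),
      pts q H M φ (tC C) χ ≫ v = 1 ↔ ∀ f ∈ I, MonoidAlgebra.lift R C _ χ f = 0 := by
    intro C _ _ χ
    let ψ := MonoidAlgebra.lift R C _ χ
    have hψ : Spec.map (CommRingCat.ofHom ψ.toRingHom) ≫ hh = (pts q H M φ (tC C) χ).left := by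
      have hc : Spec.map (CommRingCat.ofHom ψ.toRingHom) ≫ tC A = tC C := by
        rw [← Category.assoc, ← Spec.map_comp]
        show Spec.map (CommRingCat.ofHom (ψ.toRingHom.comp (algebraMap R A))) ≫ w = _
        rw [show ψ.toRingHom.comp (algebraMap R A) = algebraMap R C from ψ.comp_algebraMap]
      rw [pts_nat q H M φ ψ.toRingHom (tC A) (tC C) hc]
      congr 3
      ext m
      simp [ψ]
    rw [eq_one_iff]
    constructor
    · intro h f hf
      let l := pullback.lift (f := v.left) (g := η[G].left) _ (T C).hom h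
      let l2 : Spec (CommRingCat.of C) ⟶ Zs := pullback.lift l (Spec.map (CommRingCat.ofHom ψ.toRingHom)) (by
        rw [hψ]; exact pullback.lift_fst _ _ _)
      obtain ⟨g, hg⟩ : ∃ g : Γ(Zs, ⊤) ⟶ CommRingCat.of C, Spec.map g = l2 ≫ Zs.isoSpec.hom := ⟨_, Spec.map_preimage _⟩
      have : Spec.map (π ≫ g) = Spec.map (CommRingCat.ofHom ψ.toRingHom) := by
        rw [Spec.map_comp, hg, hπ, Category.assoc, Iso.hom_inv_id_assoc]
        exact pullback.lift_snd _ _ _
      refine (DFunLike.congr_fun (congrArg CommRingCat.Hom.hom (Spec.map_injective this)) f).symm.trans ?_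
      show g.hom (π.hom f) = 0
      rw [RingHom.mem_ker.mp hf, map_zero]
    · intro h
      let g : Γ(Zs, ⊤) →+* C := RingHom.liftOfRightInverse π.hom _ (Function.rightInverse_surjInv hπs)
        ⟨ψ.toRingHom, fun f hf => h f hf⟩
      have hg : g.comp π.hom = ψ.toRingHom := RingHom.liftOfRightInverse_comp _ _ _ _
      let l2 : Spec (CommRingCat.of C) ⟶ Zs := Spec.map (CommRingCat.ofHom g) ≫ Zs.isoSpec.inv
      have e : l2 ≫ pullback.snd k hh = Spec.map (CommRingCat.ofHom ψ.toRingHom) := by
        rw [Category.assoc, ← hπ, ← Spec.map_comp, ← hg]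
        rfl
      let l : Spec (CommRingCat.of C) ⟶ pullback v.left η[G].left := l2 ≫ pullback.fst k hh
      have hlk : l ≫ k = (pts q H M φ (tC C) χ).left := by
        rw [← hψ, ← e, Category.assoc, Category.assoc]
        exact congrArg (l2 ≫ ·) pullback.condition
      have h2 : l ≫ pullback.snd v.left η[G].left = (T C).hom := by
        have := congrArg (fun z => l ≫ z ≫ G.hom) (pullback.condition (f := v.left) (g := η[G].left))
        simp only [Category.assoc, Over.w] at this
        rw [← Over.w (pts q H M φ (tC C) χ), ← hlk, Category.assoc]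
        exact ((Category.comp_id _).symm.trans (Category.assoc _ _ _)).trans this.symm
      rw [← hlk, Category.assoc, pullback.condition, ← h2]
      simp only [l, Category.assoc]
  let J : Ideal R := Ideal.span {r | ∃ f ∈ I, ∃ m, MonoidAlgebra.coeff f m = r}
  have hJfg : J.FG := by
    obtain ⟨F, hF⟩ := hIfg
    refine ⟨F.biUnion fun f => (MonoidAlgebra.coeff f).support.image fun m => MonoidAlgebra.coeff f m, le_antisymm ?_ ?_⟩
    · refine Ideal.span_le.mpr fun r hr => ?_
      simp only [Finset.coe_biUnion, Set.mem_iUnion, Finset.coe_image, Set.mem_image] at hr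
      obtain ⟨f, hf, m, -, rfl⟩ := hr
      exact Ideal.subset_span ⟨f, hF ▸ Ideal.subset_span hf, m, rfl⟩
    · refine Ideal.span_le.mpr ?_
      rintro r ⟨f, hf, m, rfl⟩
      rw [← hF] at hf
      refine (?_ : ∀ f ∈ Ideal.span (F : Set A), ∀ m, MonoidAlgebra.coeff f m ∈ Ideal.span
        (↑(F.biUnion fun f => (MonoidAlgebra.coeff f).support.image fun m => MonoidAlgebra.coeff f m) : Set R)) f hf m
      intro f hf
      induction hf using Submodule.span_induction with
      | mem f hf =>
        intro m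
        by_cases hm : MonoidAlgebra.coeff f m = 0
        · rw [hm]; exact zero_mem _
        · exact Ideal.subset_span (Finset.mem_biUnion.mpr ⟨f, hf, Finset.mem_image.mpr ⟨m, Finsupp.mem_support_iff.mpr hm, rfl⟩⟩)
      | zero => intro m; simp
      | add a b _ _ ha hb => intro m; rw [MonoidAlgebra.coeff_add, Finsupp.add_apply]; exact add_mem (ha m) (hb m)
      | smul c a _ ha =>
        intro m
        rw [smul_eq_mul]
        induction c using MonoidAlgebra.induction_linear with
        | zero => simp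
        | add c₁ c₂ h₁ h₂ => rw [add_mul, MonoidAlgebra.coeff_add, Finsupp.add_apply]; exact add_mem h₁ h₂
        | single n r =>
          rw [MonoidAlgebra.coeff_single_mul_eq_mul_coeff (n⁻¹ * m) fun q _ => by rw [eq_inv_mul_iff_mul_eq]]
          exact Ideal.mul_mem_left _ _ (ha _)
  have hTC : ∀ (C : Type u) [CommRing C] [Algebra R C],
      (∀ χ : Multiplicative M →* MonoidAlgebra C (Multiplicative M), pts q H M φ (tC _) χ ≫ v = 1) →
        J.map (algebraMap R C) = ⊥ := by
    intro C _ _ hu
    rw [Ideal.map_eq_bot_iff_le_ker, Ideal.span_le]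
    rintro r ⟨f, hf, m, rfl⟩
    have h := (hkill _ (MonoidAlgebra.of C (Multiplicative M))).mp (hu _) f hf
    have key : ∀ g : A, MonoidAlgebra.coeff (MonoidAlgebra.lift R (MonoidAlgebra C (Multiplicative M)) _
        (MonoidAlgebra.of C (Multiplicative M)) g) m = algebraMap R C (MonoidAlgebra.coeff g m) := fun g => by
      induction g using MonoidAlgebra.induction_linear with
      | zero => simp
      | add a b ha hb => simp [map_add, ha, hb]
      | single n r =>
        rw [MonoidAlgebra.lift_single, Algebra.smul_def, MonoidAlgebra.of_apply]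
        simp [Finsupp.single_apply]
        split <;> simp
    show algebraMap R C _ = 0
    rw [← key, h]
    simp
  have hJ0 : ∀ (C : Type u) [CommRing C] [Algebra R C],
      Triv v (Spec.map (CommRingCat.ofHom (algebraMap R C)) ≫ w ≫ q) ↔ J.map (algebraMap R C) = ⊥ := by
    intro C _ _
    constructor
    · intro ht
      refine hTC C fun χ => ht _ (Over.homMk (Spec.map (CommRingCat.ofHom (algebraMap C (MonoidAlgebra C (Multiplicative M))))) ?_) _
      show Spec.map _ ≫ Spec.map _ ≫ w ≫ q = (Spec.map _ ≫ w) ≫ q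
      rw [← Spec.map_comp_assoc, Category.assoc]
      congr 2
    · intro hJ Y p h
      refine (eq_one_iff v h).mpr (Scheme.hom_ext_of_forall _ _ fun z => ?_)
      obtain ⟨_, ⟨O, hO, rfl⟩, hzO, -⟩ :=
        Y.left.isBasis_affineOpens.exists_subset_of_mem_open (Set.mem_univ z) isOpen_univ
      replace hO : IsAffineOpen O := hO
      refine ⟨O, hzO, ?_⟩
      rw [← cancel_epi hO.isoSpec.inv, ← Category.assoc, ← Category.assoc, IsAffineOpen.isoSpec_inv_ι]
      let C' := Γ(Y.left, O)
      obtain ⟨ρ, hρ⟩ : ∃ ρ : CommRingCat.of C ⟶ C', Spec.map ρ = hO.fromSpec ≫ p.left := ⟨_, Spec.map_preimage _⟩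
      letI : Algebra R C' := (ρ.hom.comp (algebraMap R C)).toAlgebra
      let m : T C' ⟶ Y := Over.homMk hO.fromSpec (by
        show hO.fromSpec ≫ Y.hom = (Spec.map _ ≫ w) ≫ q
        rw [← Over.w p, reassoc_of% hρ.symm, Category.assoc]
        show Spec.map ρ ≫ Spec.map _ ≫ w ≫ q = _
        rw [← Spec.map_comp_assoc]
        rfl)
      obtain ⟨χ, hχ⟩ := (pts q H M φ (tC C')).surjective (m ≫ h)
      have h0 : (m ≫ h) ≫ v = 1 := by
        rw [← hχ, hkill]
        intro f hf
        have hc : ∀ n, ρ.hom (algebraMap R C (MonoidAlgebra.coeff f n)) = 0 := fun n => by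
          have : algebraMap R C (MonoidAlgebra.coeff f n) ∈ (⊥ : Ideal C) :=
            hJ ▸ Ideal.mem_map_of_mem _ (Ideal.subset_span ⟨f, hf, n, rfl⟩)
          rw [Ideal.mem_bot.mp this, map_zero]
        rw [MonoidAlgebra.lift_apply]
        refine Finset.sum_eq_zero fun n _ => ?_
        beta_reduce
        rw [Algebra.smul_def]
        show ρ.hom (algebraMap R C _) * _ = 0
        rw [hc, zero_mul]
      have := (eq_one_iff v _).mp h0
      exact (Category.assoc _ _ _).symm.trans (this.trans ((congrArg (· ≫ η[G].left) (Over.w m).symm).trans (Category.assoc _ _ _)))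
  have hJ2 : IsIdempotentElem J := by
    refine le_antisymm Ideal.mul_le_left ?_
    let R2 := R ⧸ (J * J)
    suffices h : Triv v (Spec.map (CommRingCat.ofHom (algebraMap R R2)) ≫ w ≫ q) by
      have := (hJ0 R2).mp h
      rwa [Ideal.map_eq_bot_iff_le_ker, Ideal.Quotient.algebraMap_eq, Ideal.mk_ker] at this
    let a : AlgGrp.Action H G :=
      { act := (fst H G ≫ v) * snd H G
        one_act := by
          have e : fst (𝟙_ (Over S)) G ≫ η[G] = 1 := by
            rw [Hom.one_def, toUnit_unique (fst (𝟙_ (Over S)) G) (toUnit _)]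
          simp only [MonObj.comp_mul, ← Category.assoc, whiskerRight_fst, whiskerRight_snd]
          simp only [Category.assoc, IsMonHom.one_hom, e]
          simp [CartesianMonoidalCategory.leftUnitor_hom]
        mul_act := by
          have e : μ[H] ≫ v = (fst H H ≫ v) * (snd H H ≫ v) := by
            rw [← MonObj.mul_comp, Hom.mul_def, lift_fst_snd, Category.id_comp]
          simp only [MonObj.comp_mul, ← Category.assoc, whiskerRight_fst, whiskerRight_snd]
          simp only [Category.assoc, e, MonObj.comp_mul]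
          simp only [← Category.assoc, whiskerLeft_fst, whiskerLeft_snd]
          simp only [Category.assoc, MonObj.comp_mul]
          simp [_root_.mul_assoc] }
    have hact : ∀ (Y : Over S) (g : Y ⟶ H) (x : Y ⟶ G), lift g x ≫ a.act = (g ≫ v) * x := fun Y g x => by
      simp [a, MonObj.comp_mul]
    let t2 : Spec (CommRingCat.of R2) ⟶ S := Spec.map (CommRingCat.ofHom (algebraMap R R2)) ≫ w ≫ q
    refine triv_local v fun x => ?_
    let y : G.left := η[G].left (t2 x)
    obtain ⟨_, ⟨W, hW, rfl⟩, hyW, -⟩ :=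
      S.isBasis_affineOpens.exists_subset_of_mem_open (Set.mem_univ (t2 x)) isOpen_univ
    replace hW : IsAffineOpen W := hW
    have hyW' : y ∈ G.hom ⁻¹ᵁ W := by
      show G.hom (η[G].left (t2 x)) ∈ W
      rw [← Scheme.Hom.comp_apply, Over.w]
      exact hyW
    obtain ⟨_, ⟨V, hV, rfl⟩, hyV, hVW⟩ :=
      G.left.isBasis_affineOpens.exists_subset_of_mem_open hyW' (G.hom ⁻¹ᵁ W).2
    replace hV : IsAffineOpen V := hV
    obtain ⟨_, ⟨f, rfl⟩, hxf, hfle⟩ := PrimeSpectrum.isTopologicalBasis_basic_opens.exists_subset_of_mem_open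
      (show x ∈ (t2 ≫ η[G].left) ⁻¹ᵁ V from hyV) ((t2 ≫ η[G].left) ⁻¹ᵁ V).2
    let L := Localization.Away f
    let i : Spec (CommRingCat.of L) ⟶ Spec (CommRingCat.of R2) := Spec.map (CommRingCat.ofHom (algebraMap R2 L))
    haveI : IsOpenImmersion i := IsOpenImmersion.of_isLocalization f
    have hir : Set.range i = (PrimeSpectrum.basicOpen f : Set (PrimeSpectrum R2)) := PrimeSpectrum.localization_away_comap_range L f
    refine ⟨_, i, inferInstance, hir ▸ hxf, ?_⟩
    letI : Algebra R L := ((algebraMap R2 L).comp (algebraMap R R2)).toAlgebra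
    have ei : i ≫ Spec.map (CommRingCat.ofHom (algebraMap R R2)) = Spec.map (CommRingCat.ofHom (algebraMap R L)) := by
      rw [← Spec.map_comp]; rfl
    rw [reassoc_of% ei, hJ0]
    refine hTC L fun χ => ?_
    have hiV : ∀ z, (t2 ≫ η[G].left) (i z) ∈ V := fun z => hfle (hir.le ⟨z, rfl⟩)
    obtain ⟨ρ, hρ⟩ : ∃ ρ : Γ(S, W) ⟶ CommRingCat.of L, Spec.map ρ =
        IsOpenImmersion.lift hW.fromSpec (i ≫ t2) (by
          rw [hW.range_fromSpec]
          rintro _ ⟨z, rfl⟩
          have := hVW (hiV z)
          show (i ≫ t2) z ∈ W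
          have e : (t2 ≫ η[G].left) ≫ G.hom = t2 := by rw [Category.assoc, Over.w]; exact Category.comp_id _
          rw [Scheme.Hom.comp_apply, ← e]
          exact this) := ⟨_, Spec.map_preimage _⟩
    letI : Algebra Γ(S, W) L := ρ.hom.toAlgebra
    let wL : Spec (CommRingCat.of L) ⟶ U := Spec.map (CommRingCat.ofHom (algebraMap R L)) ≫ w
    have hwL : wL ≫ q = Spec.map (CommRingCat.ofHom (algebraMap Γ(S, W) L)) ≫ hW.fromSpec := by
      show _ = Spec.map ρ ≫ _
      rw [hρ, IsOpenImmersion.lift_fac, Category.assoc, ← ei, Category.assoc]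
    let J' : Ideal L := J.map (algebraMap R L)
    have hJ' : IsNilpotent J' := ⟨2, by
      rw [pow_two, ← Ideal.map_mul, Ideal.zero_eq_bot, Ideal.map_eq_bot_iff_le_ker]
      intro r hr
      show algebraMap R2 L (algebraMap R R2 r) = 0
      rw [Ideal.Quotient.algebraMap_eq, (Ideal.Quotient.eq_zero_iff_mem).mpr hr, map_zero]⟩
    let LM := MonoidAlgebra L (Multiplicative M)
    have hT : ((Over.map q).obj (Over.mk (Spec.map (CommRingCat.ofHom (algebraMap L LM)) ≫ wL))) = T LM := by
      have : Spec.map (CommRingCat.ofHom (algebraMap L LM)) ≫ wL = tC LM := by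
        rw [← Spec.map_comp_assoc]; rfl
      rw [this]
    have main : ∀ (g : (Over.map q).obj (Over.mk (Spec.map (CommRingCat.ofHom (algebraMap L LM)) ≫ wL)) ⟶ H), g ≫ v = 1 := by
      intro g
      have := local_trivial_gen q H G M φ a hW wL hwL hV (fun z hz => hVW hz) hJ' (fun C _ _ hC g x => ?_) g 1 ?_
      · rw [hact, _root_.mul_one] at this
        exact this
      · rw [hact]
        letI : Algebra R C := ((algebraMap L C).comp (algebraMap R L)).toAlgebra
        have := (hJ0 C).mpr (by
          rw [show algebraMap R C = (algebraMap L C).comp (algebraMap R L) from rfl, ← Ideal.map_map]; exact hC)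
        rw [this ((Over.map q).obj (Over.mk (Spec.map (CommRingCat.ofHom (algebraMap L C)) ≫ wL))) (Over.homMk (𝟙 _) (by
          show 𝟙 _ ≫ Spec.map _ ≫ w ≫ q = (Spec.map _ ≫ wL) ≫ q
          rw [Category.id_comp, Category.assoc, Category.assoc, ← Spec.map_comp_assoc]
          rfl)) g, _root_.one_mul]
      · rintro _ ⟨z, rfl⟩
        show ((Spec.map _ ≫ wL) ≫ q ≫ η[G].left) z ∈ V
        have e : (Spec.map (CommRingCat.ofHom (algebraMap L LM)) ≫ wL) ≫ q ≫ η[G].left =
            (Spec.map (CommRingCat.ofHom (algebraMap L LM)) ≫ i) ≫ t2 ≫ η[G].left := by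
          simp only [wL, t2, Category.assoc]
          rw [← reassoc_of% ei]
        rw [e, Scheme.Hom.comp_apply, Scheme.Hom.comp_apply]
        exact hiV _
    revert χ
    intro χ
    revert main
    rw [hT]
    exact fun main => main _
  obtain ⟨e, he, hJe⟩ := (Ideal.isIdempotentElem_iff_of_fg J hJfg).mp hJ2
  refine ⟨e, he, fun C _ _ => (hJ0 C).trans ?_⟩
  rw [hJe, Ideal.submodule_span_eq, Ideal.map_span, Set.image_singleton, Ideal.span_singleton_eq_bot]

end Piece

set_option maxHeartbeats 1000000 in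
set_option synthInstance.maxHeartbeats 400000 in
set_option backward.isDefEq.respectTransparency false in
theorem result (hH : SGA3x.IsMultTypeFT H) [IsSeparated G.hom]
    (hG : IsLocallyNoetherian S ∨ (LocallyOfFinitePresentation G.hom ∧ QuasiCompact G.hom ∧ QuasiSeparated G.hom)) :
    ∃ U : S.Opens, IsClosed (U : Set S) ∧
      (∀ s : S, s ∈ U ↔ (Over.pullback (S.fromSpecResidueField s)).map v = 1) ∧
      (Over.pullback U.ι).map v = 1 := by
  haveI := H8MultLFT.lfp hH
  have hK : LocallyOfFinitePresentation (pullback.fst v.left η[G].left) := by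
    rcases hG with hS | ⟨hG, -, -⟩
    · haveI := hS
      haveI : IsLocallyNoetherian H.left := LocallyOfFiniteType.isLocallyNoetherian H.hom
      haveI : IsClosedImmersion η[G].left := by
        haveI : IsClosedImmersion (η[G].left ≫ G.hom) := by
          rw [Over.w]; exact inferInstanceAs (IsClosedImmersion (𝟙 S))
        exact IsClosedImmersion.of_comp η[G].left G.hom
      haveI : IsClosedImmersion (pullback.fst v.left η[G].left) :=
        MorphismProperty.pullback_fst (P := @IsClosedImmersion) _ _ ‹_›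
      infer_instance
    · haveI := hG
      haveI : LocallyOfFinitePresentation (η[G].left ≫ G.hom) := by
        rw [Over.w]; exact inferInstanceAs (LocallyOfFinitePresentation (𝟙 S))
      exact MorphismProperty.pullback_fst (P := @LocallyOfFinitePresentation) _ _ (H6.lfp_cancel η[G].left G.hom)
  obtain ⟨S', f, hf, hfs, hqc, htriv⟩ := hH
  haveI := hf; haveI := hfs
  have hpiece : ∀ s' : S', ∃ (R : CommRingCat.{u}) (j : Spec R ⟶ S'), IsOpenImmersion j ∧ s' ∈ Set.range j ∧
      ∃ e : R, IsIdempotentElem e ∧ ∀ (C : Type u) [CommRing C] [Algebra R C],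
        Triv v (Spec.map (CommRingCat.ofHom (algebraMap R C)) ≫ j ≫ f) ↔ algebraMap R C e = 0 := by
    intro s'
    obtain ⟨U, hU, M, _, -, ⟨φ⟩⟩ := htriv s'
    obtain ⟨_, ⟨V, hV, rfl⟩, hsV, hVU⟩ := S'.isBasis_affineOpens.exists_subset_of_mem_open hU U.2
    replace hV : IsAffineOpen V := hV
    let w : Spec Γ(S', V) ⟶ (U : Scheme.{u}) := IsOpenImmersion.lift U.ι hV.fromSpec
      (hV.range_fromSpec.le.trans ((show (V : Set S') ⊆ U from hVU).trans (Scheme.Opens.range_ι U).ge))
    obtain ⟨e, he, h⟩ := exists_idem v (U.ι ≫ f) M φ hK (R := Γ(S', V)) w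
    refine ⟨_, hV.fromSpec, inferInstance, hV.range_fromSpec.ge hsV, e, he, fun C _ _ => ?_⟩
    rw [← h C, IsOpenImmersion.lift_fac_assoc]
  choose R j hj hjs e he hiff using hpiece
  let Z : Set S := {s | Triv v (S.fromSpecResidueField s)}
  have hres : ∀ (i : S') (p : Spec (R i)), (j i ≫ f) p ∈ Z ↔ e i ∈ p.asIdeal := by
    intro i p
    let K := (Spec (R i)).residueField p
    obtain ⟨ρ, hρ⟩ : ∃ ρ : R i ⟶ K, Spec.map ρ = (Spec (R i)).fromSpecResidueField p := ⟨_, Spec.map_preimage _⟩
    letI : Algebra (R i) K := ρ.hom.toAlgebra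
    have hker : RingHom.ker ρ.hom = p.asIdeal := by
      have h1 : (Spec (R i)).fromSpecResidueField p (IsLocalRing.closedPoint K) = p := Scheme.fromSpecResidueField_apply _ _
      rw [← hρ] at h1
      have h2 := congrArg PrimeSpectrum.asIdeal h1
      rw [← h2]
      ext r
      show ρ.hom r = 0 ↔ ρ.hom r ∈ IsLocalRing.maximalIdeal K
      rw [IsLocalRing.maximalIdeal_eq_bot]
      rfl
    rw [← hker, RingHom.mem_ker]
    refine Iff.trans ?_ (hiff i K)
    have e2 : Spec.map (CommRingCat.ofHom (algebraMap (R i) K)) ≫ j i ≫ f =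
        Spec.map ((j i ≫ f).residueFieldMap p) ≫ S.fromSpecResidueField ((j i ≫ f) p) := by
      rw [Scheme.Hom.SpecMap_residueFieldMap_fromSpecResidueField, ← hρ]
      rfl
    rw [e2]
    exact ⟨triv_comp v _, triv_descend v (Spec.map ((j i ≫ f).residueFieldMap p))⟩
  have hopen : IsOpen (f ⁻¹' Z) ∧ IsOpen (f ⁻¹' Z)ᶜ := by
    have key : ∀ (P : Bool), IsOpen {z : S' | (f z ∈ Z) ↔ P = true} := by
      intro P
      refine isOpen_iff_forall_mem_open.mpr fun z hz => ?_
      haveI := hj z
      obtain ⟨p, hp⟩ := hjs z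
      refine ⟨j z '' {p | (e z ∈ p.asIdeal) ↔ P = true}, ?_, ?_, ⟨p, ?_, hp⟩⟩
      · rintro _ ⟨p', hp', rfl⟩
        show f _ ∈ Z ↔ _
        rw [← Scheme.Hom.comp_apply, hres]
        exact hp'
      · refine (j _).isOpenEmbedding.isOpenMap _ ?_
        cases P
        · simp only [Bool.false_eq_true, iff_false]
          exact (PrimeSpectrum.basicOpen (e z)).isOpen
        · have : {p : Spec (R z) | e z ∈ p.asIdeal} = (↑(PrimeSpectrum.basicOpen (1 - e z)) : Set (PrimeSpectrum (R z))) := by
            ext p'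
            show e _ ∈ p'.asIdeal ↔ 1 - e _ ∉ p'.asIdeal
            have hm : e _ * (1 - e _) ∈ p'.asIdeal := by
              rw [mul_sub, _root_.mul_one, (he _).eq, sub_self]; exact zero_mem _
            constructor
            · intro h1 h2
              exact p'.isPrime.ne_top ((Ideal.eq_top_iff_one _).mpr (by simpa using add_mem h1 h2))
            · intro h2
              exact (p'.isPrime.mem_or_mem hm).resolve_right h2
          simp only [iff_true, this]
          exact (PrimeSpectrum.basicOpen _).2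
      · show e z ∈ p.asIdeal ↔ _
        rw [← hres, Scheme.Hom.comp_apply, hp]
        exact hz
    constructor
    · convert key true using 1; ext; simp
    · convert key false using 1; ext; simp
  have hZ : ∀ (A : Set S), IsOpen (f ⁻¹' A) → IsOpen A := by
    intro A hA
    refine isOpen_iff_forall_mem_open.mpr fun s hs => ?_
    obtain ⟨_, ⟨(U0 : S.Opens), hU0, rfl⟩, hsU0, -⟩ :=
      S.isBasis_affineOpens.exists_subset_of_mem_open (Set.mem_univ s) isOpen_univ
    obtain ⟨W, hW, hWU⟩ := hqc U0 hU0
    have hWle : W ≤ f ⁻¹ᵁ U0 := fun w hw => by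
      show f w ∈ (U0 : Set S)
      rw [← hWU]
      exact ⟨w, hw, rfl⟩
    let p : (W : Scheme.{u}) ⟶ (U0 : Scheme.{u}) := f.resLE U0 W hWle
    haveI : IsAffine (U0 : Scheme.{u}) := hU0
    haveI : CompactSpace ↥(W : Scheme.{u}) := isCompact_iff_compactSpace.mp hW
    haveI : QuasiCompact p := (quasiCompact_iff_compactSpace p).mpr inferInstance
    haveI : Flat p := inferInstanceAs (Flat (f.resLE U0 W hWle))
    haveI : Surjective p := ⟨fun y => by
      have hy : U0.ι y ∈ (U0 : Set S) := y.2
      rw [← hWU] at hy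
      obtain ⟨w, hw, hwy⟩ := hy
      refine ⟨⟨w, hw⟩, U0.ι.isOpenEmbedding.injective ?_⟩
      rw [← Scheme.Hom.comp_apply, Scheme.Hom.resLE_comp_ι]
      exact hwy⟩
    have h1 : IsOpen (p ⁻¹' (U0.ι ⁻¹' A)) := by
      have : p ⁻¹' (U0.ι ⁻¹' A) = W.ι ⁻¹' (f ⁻¹' A) := by
        rw [← Set.preimage_comp, ← Set.preimage_comp]
        congr 1
        ext z
        exact congrArg (fun m => m z) (Scheme.Hom.resLE_comp_ι f hWle)
      rw [this]
      exact hA.preimage W.ι.continuous
    refine ⟨U0.ι '' (U0.ι ⁻¹' A), Set.image_preimage_subset _ _,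
      U0.ι.isOpenEmbedding.isOpenMap _ ((Flat.isQuotientMap_of_surjective p).isOpen_preimage.mp h1), ⟨⟨s, hsU0⟩, hs, rfl⟩⟩
  let U : S.Opens := ⟨Z, hZ Z hopen.1⟩
  refine ⟨U, isOpen_compl_iff.mp (hZ _ hopen.2), fun s => triv_iff_map_eq_one v _, (triv_iff_map_eq_one v _).mp ?_⟩
  refine triv_descend v (pullback.fst U.ι f) ?_
  refine triv_local v fun z => ?_
  let s' := pullback.snd U.ι f z
  haveI := hj s'
  obtain ⟨p, hp⟩ := hjs s'
  have hpe : e s' ∈ p.asIdeal := by
    rw [← hres, Scheme.Hom.comp_apply, hp, ← Scheme.Hom.comp_apply, ← pullback.condition, Scheme.Hom.comp_apply]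
    exact (pullback.fst U.ι f z).2
  let L := Localization.Away (1 - e s')
  let i : Spec (CommRingCat.of L) ⟶ Spec (R s') := Spec.map (CommRingCat.ofHom (algebraMap (R s') L))
  haveI : IsOpenImmersion i := IsOpenImmersion.of_isLocalization (1 - e s')
  have hir : Set.range i = (PrimeSpectrum.basicOpen (1 - e s') : Set (PrimeSpectrum (R s'))) := PrimeSpectrum.localization_away_comap_range L _
  have hLe : algebraMap (R s') L (e s') = 0 := by
    have h0 : algebraMap (R s') L (e s') * algebraMap (R s') L (1 - e s') = 0 := by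
      rw [← map_mul, mul_sub, _root_.mul_one, (he s').eq, sub_self, map_zero]
    exact ((IsLocalization.Away.algebraMap_isUnit (1 - e s')).mul_left_eq_zero).mp h0
  have htr := (hiff s' L).mpr hLe
  let P := pullback (pullback.snd U.ι f) (i ≫ j s')
  haveI : IsOpenImmersion (i ≫ j s') := inferInstance
  refine ⟨P, pullback.fst _ _, inferInstance, ?_, ?_⟩
  · rw [Scheme.Pullback.range_fst]
    obtain ⟨pl, hpl⟩ : p ∈ Set.range i := hir.ge (by
      show 1 - e s' ∉ p.asIdeal
      intro h2
      exact p.isPrime.ne_top ((Ideal.eq_top_iff_one _).mpr (by simpa using add_mem hpe h2)))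
    exact ⟨pl, by rw [Scheme.Hom.comp_apply, hpl, hp]⟩
  · rw [pullback.condition, ← Category.assoc, pullback.condition, Category.assoc, Category.assoc]
    exact triv_comp v _ htr

end Groth.Agent.H8MultTrivLocus
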