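import Mathlib
import Groth.Prelude.Def_SGA3x
import Groth.Agent.Lib.H8MultTrivLocus
import Groth.Agent.Lib.H8DomainTensor

/-!
# Descent of central homomorphisms from a group of multiplicative type
-/

set_option autoImplicit false

universe u

open CategoryTheory Limits AlgebraicGeometry MonoidalCategory CartesianMonoidalCategory MonObj
open TensorProduct
open scoped Obj

noncomputable section

namespace Groth.Agent.H8CentralDescent

set_option backward.isDefEq.respectTransparency false in
/-- Explicit compatibility of pullbacks with composition. -/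
def pullComp {A B C : Scheme.{u}} (f : A ⟶ B) (g : B ⟶ C) :
    Over.pullback (f ≫ g) ≅ Over.pullback g ⋙ Over.pullback f :=
  NatIso.ofComponents (fun X => Over.isoMk
    { hom := pullback.lift (pullback.lift (pullback.fst _ _) (pullback.snd X.hom (f ≫ g) ≫ f)
          (by rw [pullback.condition, Category.assoc])) (pullback.snd X.hom (f ≫ g)) (pullback.lift_snd _ _ _)
      inv := pullback.lift (pullback.fst (pullback.snd X.hom g) f ≫ pullback.fst X.hom g)
          (pullback.snd (pullback.snd X.hom g) f)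
          (by rw [Category.assoc, pullback.condition, pullback.condition_assoc])
      hom_inv_id := by apply pullback.hom_ext <;> simp
      inv_hom_id := by
        apply pullback.hom_ext
        · apply pullback.hom_ext <;> simp [pullback.condition]
        · simp }
    (by simp))
    (fun {X Y} k => by
      apply Over.OverMorphism.ext
      dsimp
      apply pullback.hom_ext
      · apply pullback.hom_ext <;> simp
      · simp)

/-- Compatibility of base change of groups with composition. -/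
def bcIso {A B C : Scheme.{u}} (f : A ⟶ B) (g : B ⟶ C) (X : Over C) [GrpObj X] :
    Grp.mk (Red.bc (f ≫ g) X) ≅ Grp.mk (Red.bc f (Red.bc g X)) :=
  (Functor.mapGrpNatIso (pullComp f g)).app (Grp.mk X) ≪≫ Functor.mapGrpCompIso.app (Grp.mk X)

set_option backward.isDefEq.respectTransparency false in
lemma bcIso_hom_fst {A B C : Scheme.{u}} (f : A ⟶ B) (g : B ⟶ C) (X : Over C) [GrpObj X] :
    (bcIso f g X).hom.hom.hom.left ≫ pullback.fst (Red.bc g X).hom f =
      pullback.lift (pullback.fst X.hom (f ≫ g)) (pullback.snd X.hom (f ≫ g) ≫ f)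
        (by rw [pullback.condition, Category.assoc]) := by
  simp [bcIso, pullComp]
  exact (congrArg (_ ≫ ·) (Category.id_comp _)).trans (pullback.lift_fst _ _ _)

set_option backward.isDefEq.respectTransparency false in
lemma bcIso_inv_fst {A B C : Scheme.{u}} (f : A ⟶ B) (g : B ⟶ C) (X : Over C) [GrpObj X] :
    (bcIso f g X).inv.hom.hom.left ≫ pullback.fst X.hom (f ≫ g) =
      pullback.fst (Red.bc g X).hom f ≫ pullback.fst X.hom g := by
  simp [bcIso, pullComp]

/-- Base change of an isomorphism of groups. -/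
def mapBc {A B : Scheme.{u}} (f : A ⟶ B) {X Y : Over B} [GrpObj X] [GrpObj Y]
    (e : Grp.mk X ≅ Grp.mk Y) : Grp.mk (Red.bc f X) ≅ Grp.mk (Red.bc f Y) :=
  (Over.pullback f).mapGrp.mapIso e

/-- Base change along equal maps. -/
def bcCongr {A B : Scheme.{u}} {f g : A ⟶ B} (h : f = g) (X : Over B) [GrpObj X] :
    Grp.mk (Red.bc f X) ≅ Grp.mk (Red.bc g X) :=
  eqToIso (by subst h; rfl)

lemma qcCover {S S' : Scheme.{u}} (f : S' ⟶ S)
    (h : ∀ V : S.Opens, IsAffineOpen V → ∃ W : S'.Opens, IsCompact (W : Set S') ∧ f.base '' (W : Set S') = (V : Set S)) :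
    QuasiCompactCover (PreZeroHypercover.singleton.{u} f) := by
  refine ⟨fun {U} hU => ?_⟩
  obtain ⟨W, hW, hWU⟩ := h U hU
  exact IsCompactOpenCovered.iff_of_unique.mpr ⟨W, hW, hWU⟩

lemma exists_image {S S' T : Scheme.{u}} (f : S' ⟶ S) (t : T ⟶ S)
    (h : ∀ V : S.Opens, IsAffineOpen V → ∃ W : S'.Opens, IsCompact (W : Set S') ∧ f.base '' (W : Set S') = (V : Set S)) :
    ∀ V : T.Opens, IsAffineOpen V → ∃ W : (pullback t f).Opens, IsCompact (W : Set ↥(pullback t f)) ∧
      (pullback.fst t f).base '' (W : Set ↥(pullback t f)) = (V : Set T) := by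
  haveI := qcCover f h
  intro V hV
  have := hV.isCompactOpenCovered ((PreZeroHypercover.singleton.{u} f).pullback₁ t)
  letI hI : Unique ((PreZeroHypercover.singleton.{u} f).pullback₁ t).I₀ := inferInstanceAs (Unique PUnit)
  exact IsCompactOpenCovered.iff_of_unique.mp this

lemma effEpi {X Y : Scheme.{u}} (f : X ⟶ Y) [Flat f] [Surjective f]
    (h : ∀ V : Y.Opens, IsAffineOpen V → ∃ W : X.Opens, IsCompact (W : Set X) ∧ f.base '' (W : Set X) = (V : Set Y)) :
    EffectiveEpi f := by
  haveI := qcCover f h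
  have hmem : Presieve.singleton f ∈ Scheme.fpqcPrecoverage Y := by
    refine ⟨?_, ?_⟩
    · have h1 := (Scheme.presieve₀_mem_qcPrecoverage_iff (E := PreZeroHypercover.singleton.{u} f)).mpr inferInstance
      simpa using h1
    · rw [Scheme.singleton_mem_precoverage_iff]
      exact ⟨Scheme.Hom.surjective f, ‹Flat f›⟩
  rw [← Sieve.effectiveEpimorphic_singleton,
    Presieve.EffectiveEpimorphic.iff_forall_isSheafFor_yoneda]
  intro Z
  exact (GrothendieckTopology.Subcanonical.isSheaf_of_isRepresentable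
    (J := Scheme.fpqcTopology) _).isSheafFor _ (Precoverage.generate_mem_toGrothendieck hmem)

set_option backward.isDefEq.respectTransparency false in
lemma isMultTypeFT_bc {S T : Scheme.{u}} (t : T ⟶ S) {H : Over S} [GrpObj H]
    (hH : SGA3x.IsMultTypeFT H) : SGA3x.IsMultTypeFT (Red.bc t H) := by
  obtain ⟨S', f, hf, hfs, hqc, htriv⟩ := hH
  haveI := hf; haveI := hfs
  let g := pullback.snd t f
  refine ⟨pullback t f, pullback.fst t f, inferInstance, inferInstance, exists_image f t hqc, fun z => ?_⟩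
  obtain ⟨U, hU, M, iM, hM, ⟨φ⟩⟩ := htriv (g z)
  let U' : (pullback t f).Opens := g ⁻¹ᵁ U
  let r : (U' : Scheme.{u}) ⟶ (U : Scheme.{u}) := g ∣_ U
  have hr : r ≫ U.ι ≫ f = (U'.ι ≫ pullback.fst t f) ≫ t := by
    rw [Category.assoc, pullback.condition, ← Category.assoc, ← Category.assoc]
    exact congrArg (· ≫ f) (morphismRestrict_ι g U)
  refine ⟨U', hU, M, iM, hM, ⟨(bcIso (U'.ι ≫ pullback.fst t f) t H).symm ≪≫ bcCongr hr.symm H ≪≫
    bcIso r (U.ι ≫ f) H ≪≫ mapBc r φ ≪≫ ?_⟩⟩
  exact (bcIso r (specULiftZIsTerminal.from (U : Scheme.{u})) (Red.diag (ULift.{u} ℤ) M)).symm ≪≫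
    bcCongr (specULiftZIsTerminal.hom_ext _ _) _

section
variable {S S' T : Scheme.{u}} {H G : Over S} [GrpObj H] [GrpObj G] (π : S' ⟶ S)
  (u' : Red.bc π H ⟶ Red.bc π G) [IsMonHom u']

set_option backward.isDefEq.respectTransparency false in
omit [GrpObj H] [IsMonHom u'] in
lemma exists_pair {A B : Scheme.{u}} (f : A ⟶ B) {X Y : Over B} {Z : Over A} (g : Z ⟶ (Over.pullback f).obj X)
    (h : Z ⟶ (Over.pullback f).obj Y) : ∃ w : Z ⟶ (Over.pullback f).obj (X ⊗ Y),
      w ≫ (Over.pullback f).map (fst X Y) = g ∧ w ≫ (Over.pullback f).map (snd X Y) = h :=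
  ⟨lift g h ≫ Functor.LaxMonoidal.μ (Over.pullback f) X Y, by simp, by simp⟩

set_option backward.isDefEq.respectTransparency false in
lemma exists_hom (p : T ⟶ S') (q : T ⟶ S) (hp : p ≫ π = q)
    (hc : ∀ (X : Over S') (g : X ⟶ Red.bc π G) (h : X ⟶ Red.bc π H), g * (h ≫ u') = (h ≫ u') * g) :
    ∃ a : Red.bc q H ⟶ Red.bc q G, IsMonHom a ∧
      (∀ (X : Over T) (g : X ⟶ Red.bc q G) (h : X ⟶ Red.bc q H), g * (h ≫ a) = (h ≫ a) * g) ∧
      a.left ≫ pullback.fst G.hom q =
        pullback.lift (pullback.fst H.hom q) (pullback.snd H.hom q ≫ p)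
          (by rw [pullback.condition, Category.assoc, hp]) ≫ u'.left ≫ pullback.fst G.hom π := by
  subst hp
  let eH := bcIso p π H
  let eG := bcIso p π G
  let F := Over.pullback p
  refine ⟨eH.hom.hom.hom ≫ F.map u' ≫ eG.inv.hom.hom, inferInstance, fun X g h => ?_, ?_⟩
  · have hg : g = (g ≫ eG.hom.hom.hom) ≫ eG.inv.hom.hom := by
      rw [Category.assoc]
      have : eG.hom.hom.hom ≫ eG.inv.hom.hom = 𝟙 _ := congrArg (fun k => k.hom.hom) eG.hom_inv_id
      exact ((congrArg (g ≫ ·) this).trans (Category.comp_id g)).symm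
    obtain ⟨w, hw1, hw2⟩ := exists_pair p (g ≫ eG.hom.hom.hom) (h ≫ eH.hom.hom.hom)
    have key : F.map (fst _ _ * (snd _ _ ≫ u')) = F.map ((snd _ _ ≫ u') * fst _ _) :=
      congrArg F.map (hc _ (fst _ _) (snd _ _))
    have key' := congrArg (w ≫ ·) key
    simp only [Functor.map_mul, Functor.map_comp, MonObj.comp_mul, ← Category.assoc] at key'
    rw [hw1, hw2] at key'
    have key'' := congrArg (· ≫ eG.inv.hom.hom) key'
    simp only [MonObj.mul_comp, Category.assoc] at key''
    rw [← Category.assoc g eG.hom.hom.hom eG.inv.hom.hom] at key''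
    rw [← hg] at key''
    exact key''
  · have hF : (F.map u').left ≫ pullback.fst (Red.bc π G).hom p = pullback.fst (Red.bc π H).hom p ≫ u'.left :=
      pullback.lift_fst _ _ _
    show (eH.hom.hom.hom.left ≫ (F.map u').left ≫ eG.inv.hom.hom.left) ≫ pullback.fst G.hom (p ≫ π) = _
    simp only [Category.assoc, eG, bcIso_inv_fst]
    rw [reassoc_of% hF]
    exact (Category.assoc _ _ _).symm.trans (congrArg (· ≫ u'.left ≫ pullback.fst G.hom π) (bcIso_hom_fst p π H))

end

lemma quot_hom {C : Type*} [Category C] [CartesianMonoidalCategory C] {M N : C} [GrpObj M] [GrpObj N]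
    (a b : M ⟶ N) [IsMonHom a] [IsMonHom b]
    (ha : ∀ (X : C) (g : X ⟶ N) (h : X ⟶ M), g * (h ≫ a) = (h ≫ a) * g)
    (hb : ∀ (X : C) (g : X ⟶ N) (h : X ⟶ M), g * (h ≫ b) = (h ≫ b) * g) : IsMonHom (a * b⁻¹) where
  one_hom := by
    rw [MonObj.comp_mul, GrpObj.comp_inv, IsMonHom.one_hom (f := a), IsMonHom.one_hom (f := b), mul_inv_cancel]
    exact MonObj.one_eq_one (M := N) |>.symm
  mul_hom := by
    have e : ((a * b⁻¹) ⊗ₘ (a * b⁻¹)) ≫ μ[N] = (fst M M ≫ (a * b⁻¹)) * (snd M M ≫ (a * b⁻¹)) := by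
      rw [MonObj.mul_eq_mul, MonObj.comp_mul, tensorHom_fst, tensorHom_snd]
    rw [e, MonObj.mul_eq_mul (M := M)]
    simp only [MonObj.comp_mul, GrpObj.comp_inv, MonObj.mul_comp]
    have cb : ∀ g : M ⊗ M ⟶ N, g * (fst M M ≫ b)⁻¹ = (fst M M ≫ b)⁻¹ * g := fun g =>
      Commute.inv_right (hb _ g _)
    rw [mul_inv_rev, cb (snd M M ≫ b)⁻¹]
    simp only [_root_.mul_assoc]
    congr 1
    rw [← _root_.mul_assoc, cb (snd M M ≫ a), _root_.mul_assoc]

set_option backward.isDefEq.respectTransparency false in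
lemma geomConnected_of_isAlgClosed (Ω : Type u) [Field Ω] [IsAlgClosed Ω] {P : Scheme.{u}}
    (f : P ⟶ Spec (CommRingCat.of Ω)) [ConnectedSpace P] : GeometricallyConnected f := by
  haveI : IsIntegral (Spec (CommRingCat.of Ω)) := inferInstance
  haveI hK : ∀ (K : Type u) [Field K] (x : Spec (CommRingCat.of K) ⟶ Spec (CommRingCat.of Ω)),
      GeometricallyConnected x := by
    intro K _ x
    refine ⟨geometrically_iff_of_isClosedUnderIsomorphisms.mpr fun L _ y => ?_⟩
    obtain ⟨φ, rfl⟩ := Spec.map_surjective x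
    obtain ⟨ψ, rfl⟩ := Spec.map_surjective y
    letI : Algebra Ω K := φ.hom.toAlgebra
    letI : Algebra Ω L := ψ.hom.toAlgebra
    haveI : IsDomain (K ⊗[Ω] L) := H8DomainTensor.isDomain
    have hcs : ConnectedSpace ↥(pullback (Spec.map (CommRingCat.ofHom (algebraMap Ω K)))
        (Spec.map (CommRingCat.ofHom (algebraMap Ω L)))) :=
      (pullbackSpecIso Ω K L).hom.homeomorph.connectedSpace_iff.mpr
        (inferInstanceAs (ConnectedSpace (PrimeSpectrum (K ⊗[Ω] L))))
    exact hcs
  refine ⟨geometrically_iff_of_isClosedUnderIsomorphisms.mpr fun K _ x => ?_⟩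
  haveI := hK K x
  infer_instance

set_option backward.isDefEq.respectTransparency false in
lemma mem_of_fibre {S S' : Scheme.{u}} (π : S' ⟶ S) (U : (pullback π π).Opens)
    (hUc : IsClosed (U : Set ↥(pullback π π)))
    (hdiag : ∀ x : S', pullback.lift (𝟙 S') (𝟙 S') rfl x ∈ U) (z : ↥(pullback π π))
    (Ω : Type u) [Field Ω] [IsAlgClosed Ω] (g : Spec (CommRingCat.of Ω) ⟶ S) [ConnectedSpace ↥(pullback π g)]
    (hgs : g (IsLocalRing.closedPoint Ω) = (pullback.fst π π ≫ π) z) : z ∈ U := by
  let πΩ := pullback.snd π g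
  haveI : GeometricallyConnected πΩ := geomConnected_of_isAlgClosed Ω πΩ
  haveI : IsIntegral (Spec (CommRingCat.of Ω)) := inferInstance
  haveI : UniversallyOpen πΩ := inferInstance
  haveI : ConnectedSpace ↥(pullback πΩ πΩ) := inferInstance
  let f1 := pullback.fst πΩ πΩ ≫ pullback.fst π g
  let f2 := pullback.snd πΩ πΩ ≫ pullback.fst π g
  have hf : f1 ≫ π = f2 ≫ π := by
    simp only [f1, f2, Category.assoc]
    rw [pullback.condition, ← Category.assoc, ← Category.assoc]
    exact congrArg (· ≫ g) pullback.condition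
  let Ψ : pullback πΩ πΩ ⟶ pullback π π := pullback.lift f1 f2 hf
  let q := pullback.fst π π ≫ π
  let ψ : pullback q g ⟶ pullback πΩ πΩ := pullback.lift
    (pullback.lift (pullback.fst q g ≫ pullback.fst π π) (pullback.snd q g)
      (by rw [Category.assoc]; exact pullback.condition))
    (pullback.lift (pullback.fst q g ≫ pullback.snd π π) (pullback.snd q g)
      (by rw [Category.assoc, show pullback.snd π π ≫ π = q from pullback.condition.symm]; exact pullback.condition))
    (by simp [πΩ])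
  have hψ : ψ ≫ Ψ = pullback.fst q g := by
    apply pullback.hom_ext <;> simp [ψ, Ψ, f1, f2]
  obtain ⟨w, hw1, -⟩ := Scheme.Pullback.exists_preimage_pullback (f := q) (g := g) z _ hgs.symm
  have hΨz : Ψ (ψ w) = z := by rw [← Scheme.Hom.comp_apply, hψ, hw1]
  have hclop : IsClopen (Ψ ⁻¹' (U : Set ↥(pullback π π))) :=
    ⟨hUc.preimage Ψ.continuous, U.2.preimage Ψ.continuous⟩
  rcases isClopen_iff.mp hclop with h0 | h1
  · exfalso
    obtain ⟨y⟩ : Nonempty ↥(pullback π g) := ConnectedSpace.toNonempty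
    let d : pullback π g ⟶ pullback πΩ πΩ := pullback.lift (𝟙 _) (𝟙 _) rfl
    have hd : d ≫ Ψ = pullback.fst π g ≫ pullback.lift (𝟙 S') (𝟙 S') rfl := by
      apply pullback.hom_ext <;> simp [d, Ψ, f1, f2]
      all_goals exact Category.id_comp _
    have : d y ∈ Ψ ⁻¹' (U : Set ↥(pullback π π)) := by
      show Ψ (d y) ∈ U
      rw [← Scheme.Hom.comp_apply, hd, Scheme.Hom.comp_apply]
      exact hdiag _
    rw [h0] at this
    exact this
  · have : ψ w ∈ Ψ ⁻¹' (U : Set ↥(pullback π π)) := by rw [h1]; trivial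
    rw [← hΨz]
    exact this

set_option maxHeartbeats 1000000 in
set_option backward.isDefEq.respectTransparency false in
theorem result {S S' : Scheme.{u}} (H G : Over S) [GrpObj H] [GrpObj G]
    (hH : SGA3x.IsMultTypeFT H) [IsSeparated G.hom] [LocallyOfFinitePresentation G.hom] [QuasiCompact G.hom] [QuasiSeparated G.hom]
    (π : S' ⟶ S) [Flat π] [Surjective π]
    (hcov : ∀ V : S.Opens, IsAffineOpen V → ∃ W : S'.Opens, IsCompact (W : Set S') ∧ π.base '' (W : Set S') = (V : Set S))
    (hconn : ∀ s : S, ConnectedSpace ↥(Limits.pullback π (Red.geomPt s)))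
    (u' : Red.bc π H ⟶ Red.bc π G) [IsMonHom u']
    (hc : ∀ (X : Over S') (g : X ⟶ Red.bc π G) (h : X ⟶ Red.bc π H), g * (h ≫ u') = (h ≫ u') * g) :
    ∃! u : H ⟶ G, IsMonHom u ∧ (Over.pullback π).map u = u' := by
  haveI : ∀ (Z : Scheme.{u}) (g : Z ⟶ S), Epi (pullback.fst g π) := fun Z g =>
    Flat.epi_of_flat_of_surjective _
  haveI : (Over.pullback π).Faithful := Over.faithful_pullback π
  let p1 := pullback.fst π π
  let p2 := pullback.snd π π
  let q := p1 ≫ π
  obtain ⟨a1, ha1, hca1, hl1⟩ := exists_hom π u' p1 q rfl hc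
  obtain ⟨a2, ha2, hca2, hl2⟩ := exists_hom π u' p2 q pullback.condition.symm hc
  let v := a1 * a2⁻¹
  haveI hv : IsMonHom v := quot_hom a1 a2 hca1 hca2
  haveI : IsSeparated (Red.bc q G).hom := MorphismProperty.pullback_snd (P := @IsSeparated) _ _ inferInstance
  obtain ⟨U, hUc, hUmem, hUv⟩ := H8MultTrivLocus.result v (isMultTypeFT_bc q hH)
    (.inr ⟨MorphismProperty.pullback_snd (P := @LocallyOfFinitePresentation) _ _ inferInstance,
      MorphismProperty.pullback_snd (P := @QuasiCompact) _ _ inferInstance,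
      MorphismProperty.pullback_snd (P := @QuasiSeparated) _ _ inferInstance⟩)
  let Δ : S' ⟶ pullback π π := pullback.lift (𝟙 _) (𝟙 _) rfl
  have hΔ : H8MultTrivLocus.Triv v Δ := by
    intro Y p h
    have e : h ≫ a1 = h ≫ a2 := by
      apply Over.OverMorphism.ext
      apply pullback.hom_ext
      · rw [Over.comp_left, Over.comp_left, Category.assoc, Category.assoc, hl1, hl2, ← Category.assoc h.left,
          ← Category.assoc h.left]
        congr 1
        apply pullback.hom_ext
        · simp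
        · have hw : h.left ≫ pullback.snd H.hom q = p.left ≫ Δ := (Over.w h).trans (Over.w p).symm
          simp only [Category.assoc, pullback.lift_snd]
          rw [reassoc_of% hw, reassoc_of% hw]
          simp [Δ, p1, p2]
      · exact (Over.w (h ≫ a1)).trans (Over.w (h ≫ a2)).symm
    simp only [v, MonObj.comp_mul, GrpObj.comp_inv, e, mul_inv_cancel]
  have hdiag : ∀ x : S', Δ x ∈ U := by
    intro x
    rw [hUmem, ← H8MultTrivLocus.triv_iff_map_eq_one]
    have e2 : S'.fromSpecResidueField x ≫ Δ =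
        Spec.map (Δ.residueFieldMap x) ≫ (pullback π π).fromSpecResidueField (Δ x) := by
      rw [Scheme.Hom.SpecMap_residueFieldMap_fromSpecResidueField]
    refine H8MultTrivLocus.triv_descend v (Spec.map (Δ.residueFieldMap x)) ?_
    rw [← e2]
    exact H8MultTrivLocus.triv_comp v _ hΔ
  have htop : ∀ z, z ∈ U := by
    intro z
    haveI := hconn (q z)
    refine mem_of_fibre π U hUc hdiag z (AlgebraicClosure (S.residueField (q z))) (Red.geomPt (q z)) ?_
    rw [Scheme.Hom.comp_apply]
    exact Scheme.fromSpecResidueField_apply _ _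
  have hU : U = ⊤ := top_le_iff.mp fun z _ => htop z
  subst hU
  have hv1 : v = 1 := by
    have h1 := (H8MultTrivLocus.triv_iff_map_eq_one v _).mpr hUv
    have h2 := H8MultTrivLocus.triv_comp v (pullback π π).topIso.inv h1
    rw [show (pullback π π).topIso.inv ≫ (⊤ : (pullback π π).Opens).ι = 𝟙 _ from by simp] at h2
    exact (Category.id_comp v).symm.trans (h2 _ (Over.homMk (Red.bc q H).hom (Category.comp_id _)) (𝟙 _))
  have ha : a1 = a2 := mul_inv_eq_one.mp hv1
  let pr := pullback.fst H.hom π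
  let Zm := u'.left ≫ pullback.fst G.hom π
  haveI : EffectiveEpi pr := effEpi pr (exists_image π H.hom hcov)
  have hdesc : ∀ {W : Scheme.{u}} (g1 g2 : W ⟶ pullback H.hom π), g1 ≫ pr = g2 ≫ pr → g1 ≫ Zm = g2 ≫ Zm := by
    intro W g1 g2 he
    have hcond : (g1 ≫ pullback.snd _ _) ≫ π = (g2 ≫ pullback.snd _ _) ≫ π := by
      rw [Category.assoc, Category.assoc, ← pullback.condition, ← Category.assoc, ← Category.assoc, he]
    let m : W ⟶ pullback H.hom q := pullback.lift (g1 ≫ pr)
      (pullback.lift (g1 ≫ pullback.snd _ _) (g2 ≫ pullback.snd _ _) hcond) (by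
        rw [Category.assoc, show pr ≫ H.hom = pullback.snd H.hom π ≫ π from pullback.condition, ← Category.assoc]
        simp [q, p1])
    have := congrArg (fun a : Red.bc q H ⟶ Red.bc q G => m ≫ a.left ≫ pullback.fst G.hom q) ha
    simp only [hl1, hl2, ← Category.assoc] at this
    rw [show g1 ≫ Zm = (g1 ≫ u'.left) ≫ pullback.fst G.hom π from (Category.assoc _ _ _).symm,
      show g2 ≫ Zm = (g2 ≫ u'.left) ≫ pullback.fst G.hom π from (Category.assoc _ _ _).symm]
    convert this using 3
    · apply pullback.hom_ext <;> simp [m, pr, p1]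
    · apply pullback.hom_ext
      · simp [m, pr]; exact he.symm
      · simp [m, p2]
  let d : H.left ⟶ G.left := EffectiveEpi.desc pr Zm hdesc
  have hd : pr ≫ d = Zm := EffectiveEpi.fac _ _ _
  let u : H ⟶ G := Over.homMk d (by
    rw [← cancel_epi pr, ← Category.assoc, hd]
    simp only [Zm, Category.assoc, pullback.condition]
    rw [← Category.assoc, show u'.left ≫ pullback.snd G.hom π = pullback.snd H.hom π from Over.w u']
    exact pullback.condition.symm)
  have hu : (Over.pullback π).map u = u' := by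
    apply Over.OverMorphism.ext
    apply pullback.hom_ext
    · simp [u]
      exact hd
    · exact (Over.w ((Over.pullback π).map u)).trans (Over.w u').symm
  refine ⟨u, ⟨⟨?_, ?_⟩, hu⟩, fun u₂ h₂ => (Over.pullback π).map_injective (h₂.2.trans hu.symm)⟩
  · apply (Over.pullback π).map_injective
    rw [MonObj.one_eq_one, MonObj.one_eq_one, Functor.map_comp, hu, Functor.map_one, Functor.map_one, MonObj.one_comp]
  · apply (Over.pullback π).map_injective
    rw [MonObj.mul_eq_mul, MonObj.mul_eq_mul, MonObj.comp_mul, tensorHom_fst, tensorHom_snd, Functor.map_comp,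
      Functor.map_mul, Functor.map_mul, Functor.map_comp, Functor.map_comp, hu, MonObj.mul_comp]

end Groth.Agent.H8CentralDescent

end
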