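import Mathlib
import Groth.Prelude.Def_Hoch

/-! Comodules over a field as modules over the dual algebra. -/

universe u v w w'

open TensorProduct

namespace Groth.Agent.H8Comod

variable (k : Type u) [Field k] (C : Type v) [AddCommGroup C] [Module k C] [Coalgebra k C]

/-- The dual algebra of a coalgebra, with the convolution product. -/
abbrev DualAlg : Type max u v := WithConv (C →ₗ[k] k)

variable {k C} {V : Type w} [AddCommGroup V] [Module k V] [HopfRep.Comod k C V]
  {W : Type w'} [AddCommGroup W] [Module k W] [HopfRep.Comod k C W]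

/-- Contraction of the right factor with a functional. -/
noncomputable def contr (V : Type w) [AddCommGroup V] [Module k V] (f : C →ₗ[k] k) : V ⊗[k] C →ₗ[k] V :=
  (TensorProduct.rid k V).toLinearMap ∘ₗ f.lTensor V

omit [Coalgebra k C] [HopfRep.Comod k C V] in
@[simp] theorem contr_tmul (f : C →ₗ[k] k) (v : V) (c : C) : contr V f (v ⊗ₜ c) = f c • v := by simp [contr]

omit [Coalgebra k C] [HopfRep.Comod k C V] in
theorem eq_of_forall_contr {x y : V ⊗[k] C} (h : ∀ f, contr V f x = contr V f y) : x = y := by
  classical
  let e := Module.Free.chooseBasis k C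
  apply (TensorProduct.equivFinsuppOfBasisRight (M := V) e).injective
  ext b
  have key : ∀ z : V ⊗[k] C, TensorProduct.equivFinsuppOfBasisRight (M := V) e z b = contr V (e.coord b) z := by
    intro z
    induction z using TensorProduct.induction_on with
    | zero => simp
    | tmul a q => simp
    | add p q hp hq => simp only [map_add, Finsupp.add_apply, hp, hq]
  rw [key, key, h]

omit [Coalgebra k C] [HopfRep.Comod k C V] [HopfRep.Comod k C W] in
theorem contr_rTensor (f : C →ₗ[k] k) (φ : V →ₗ[k] W) (z : V ⊗[k] C) :
    contr W f (φ.rTensor C z) = φ (contr V f z) := by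
  induction z using TensorProduct.induction_on with
  | zero => simp
  | tmul a q => simp
  | add p q hp hq => simp only [map_add, hp, hq]

/-- The action of a functional on a comodule. -/
noncomputable def act (V : Type w) [AddCommGroup V] [Module k V] [HopfRep.Comod k C V] (f : DualAlg k C) :
    Module.End k V :=
  contr V f.ofConv ∘ₗ HopfRep.Comod.coact

theorem act_apply (f : DualAlg k C) (v : V) :
    act V f v = contr V f.ofConv (HopfRep.Comod.coact (k := k) (A := C) v) := rfl

theorem act_one : act V (1 : DualAlg k C) = 1 := by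
  ext v
  have h := LinearMap.congr_fun (HopfRep.Comod.counit_comp (k := k) (A := C) (V := V)) v
  simp only [LinearMap.comp_apply, LinearMap.flip_apply, TensorProduct.mk_apply] at h
  have h1 : ((1 : DualAlg k C)).ofConv = CoalgebraStruct.counit (R := k) (A := C) := by
    ext c; exact LinearMap.convOne_apply c
  simp [act_apply, contr, h1, h]

theorem act_mul (f g : DualAlg k C) : act V (f * g) = act V f * act V g := by
  ext v
  have h := LinearMap.congr_fun (HopfRep.Comod.coassoc (k := k) (A := C) (V := V)) v
  simp only [LinearMap.comp_apply, LinearEquiv.coe_coe] at h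
  have key : ∀ z : V ⊗[k] C, contr V f.ofConv (HopfRep.Comod.coact (k := k) (A := C) (contr V g.ofConv z)) =
      contr V (LinearMap.mul' k k ∘ₗ TensorProduct.map f.ofConv g.ofConv)
        (TensorProduct.assoc k V C C ((HopfRep.Comod.coact (k := k) (A := C) (V := V)).rTensor C z)) := by
    intro z
    induction z using TensorProduct.induction_on with
    | zero => simp
    | tmul a q =>
      simp only [contr_tmul, map_smul, LinearMap.rTensor_tmul]
      generalize HopfRep.Comod.coact (k := k) (A := C) a = w
      induction w using TensorProduct.induction_on with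
      | zero => simp
      | tmul p r => simp [smul_smul, mul_comm]
      | add p r hp hr => simp only [map_add, smul_add, add_tmul, hp, hr]
    | add p q hp hq => simp only [map_add, hp, hq]
  rw [Module.End.mul_apply, act_apply, act_apply f, act_apply g, key, h]
  simp [contr, ← LinearMap.lTensor_comp_apply, LinearMap.convMul_def, LinearMap.comp_assoc]

/-- A comodule as a representation of the dual algebra. -/
noncomputable def rep (V : Type w) [AddCommGroup V] [Module k V] [HopfRep.Comod k C V] :
    DualAlg k C →+* Module.End k V where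
  toFun := act V
  map_one' := act_one
  map_mul' := act_mul
  map_zero' := by ext v; simp [act_apply, contr]
  map_add' f g := by ext v; simp [act_apply, contr, LinearMap.lTensor_add]

/-- A comodule as a module over the dual algebra. -/
@[reducible] noncomputable def dualModule (V : Type w) [AddCommGroup V] [Module k V] [HopfRep.Comod k C V] :
    Module (DualAlg k C) V :=
  Module.compHom V (rep V)

theorem mem_range_rTensor_iff (U : Submodule k V) (z : V ⊗[k] C) :
    z ∈ LinearMap.range (U.subtype.rTensor C) ↔ ∀ f, contr V f z ∈ U := by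
  constructor
  · rintro ⟨y, rfl⟩ f
    rw [contr_rTensor]; exact (contr U f y).2
  · intro h
    have hz : U.mkQ.rTensor C z = 0 := eq_of_forall_contr fun f => by
      rw [contr_rTensor, map_zero]; exact (Submodule.Quotient.mk_eq_zero U).mpr (h f)
    exact ((rTensor_exact C (LinearMap.exact_subtype_mkQ U) U.mkQ_surjective) z).mp hz

theorem isSubcomod_iff {U : Submodule k V} :
    HopfRep.IsSubcomod (k := k) (A := C) U ↔ ∀ (f : DualAlg k C), ∀ u ∈ U, act V f u ∈ U := by
  constructor
  · intro h f u hu
    exact (mem_range_rTensor_iff U _).mp (h u hu) f.ofConv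
  · intro h u hu
    exact (mem_range_rTensor_iff U _).mpr fun f => h (WithConv.toConv f) u hu

theorem isComodHom_iff {φ : V →ₗ[k] W} :
    Hoch.IsComodHom C φ ↔ ∀ (f : DualAlg k C) (v : V), φ (act V f v) = act W f (φ v) := by
  constructor
  · intro h f v
    rw [act_apply, act_apply, ← contr_rTensor]
    exact congrArg _ (LinearMap.congr_fun h v).symm
  · intro h
    refine LinearMap.ext fun v => eq_of_forall_contr fun f => ?_
    rw [LinearMap.comp_apply, LinearMap.comp_apply, contr_rTensor]
    exact (h (WithConv.toConv f) v).symm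

theorem act_algebraMap (a : k) (v : V) : act V (algebraMap k (DualAlg k C) a) v = a • v := by
  have : (algebraMap k (DualAlg k C) a).ofConv = a • CoalgebraStruct.counit (R := k) (A := C) := by
    ext c; simp [LinearMap.convAlgebraMap_apply]
  have h := congrFun (congrArg DFunLike.coe (act_one (k := k) (C := C) (V := V))) v
  rw [act_apply] at h ⊢
  have h1 : ((1 : DualAlg k C)).ofConv = CoalgebraStruct.counit (R := k) (A := C) := by
    ext c; exact LinearMap.convOne_apply c
  rw [h1] at h
  rw [this, contr, LinearMap.lTensor_smul, LinearMap.comp_smul, LinearMap.smul_apply, ← contr, h, Module.End.one_apply]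

section Transfer

/-- Submodules stable under a dual action are the submodules of the module over the dual algebra. -/
noncomputable def subEquiv :
    letI := dualModule (k := k) (C := C) V
    Submodule (DualAlg k C) V ≃o {U : Submodule k V // HopfRep.IsSubcomod (k := k) (A := C) U} :=
  letI := dualModule (k := k) (C := C) V
  { toFun := fun N => ⟨{ carrier := N, add_mem' := N.add_mem', zero_mem' := N.zero_mem',
                          smul_mem' := fun a x hx => by
                            have := N.smul_mem (algebraMap k (DualAlg k C) a) hx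
                            rwa [show (algebraMap k (DualAlg k C) a) • x = a • x from act_algebraMap a x] at this },
                        isSubcomod_iff.mpr fun f u hu => N.smul_mem f hu⟩
    invFun := fun U => { carrier := U.1, add_mem' := U.1.add_mem', zero_mem' := U.1.zero_mem',
                         smul_mem' := fun f x hx => isSubcomod_iff.mp U.2 f x hx }
    left_inv := fun N => rfl
    right_inv := fun U => rfl
    map_rel_iff' := Iff.rfl }

theorem isSubcomod_bot : HopfRep.IsSubcomod (k := k) (A := C) (⊥ : Submodule k V) :=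
  isSubcomod_iff.mpr fun f u hu => by rw [Submodule.mem_bot] at hu ⊢; simp [hu]

theorem isSubcomod_top : HopfRep.IsSubcomod (k := k) (A := C) (⊤ : Submodule k V) :=
  isSubcomod_iff.mpr fun _ _ _ => trivial

theorem isSubcomod_inf {U U' : Submodule k V} (h : HopfRep.IsSubcomod (k := k) (A := C) U)
    (h' : HopfRep.IsSubcomod (k := k) (A := C) U') : HopfRep.IsSubcomod (k := k) (A := C) (U ⊓ U') :=
  isSubcomod_iff.mpr fun f u hu => ⟨isSubcomod_iff.mp h f u hu.1, isSubcomod_iff.mp h' f u hu.2⟩

theorem isSubcomod_iSup {ι : Sort*} {U : ι → Submodule k V}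
    (h : ∀ i, HopfRep.IsSubcomod (k := k) (A := C) (U i)) : HopfRep.IsSubcomod (k := k) (A := C) (⨆ i, U i) :=
  isSubcomod_iff.mpr fun f u hu => by
    refine Submodule.iSup_induction U (motive := fun x => act V f x ∈ ⨆ i, U i) hu (fun i x hx => ?_) (by simp) fun a b ha hb => by simpa using add_mem ha hb
    exact Submodule.mem_iSup_of_mem i (isSubcomod_iff.mp (h i) f x hx)

theorem isSubcomod_sup {U U' : Submodule k V} (h : HopfRep.IsSubcomod (k := k) (A := C) U)
    (h' : HopfRep.IsSubcomod (k := k) (A := C) U') : HopfRep.IsSubcomod (k := k) (A := C) (U ⊔ U') :=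
  isSubcomod_iff.mpr fun f u hu => by
    obtain ⟨a, ha, b, hb, rfl⟩ := Submodule.mem_sup.mp hu
    rw [map_add]
    exact Submodule.add_mem_sup (isSubcomod_iff.mp h f a ha) (isSubcomod_iff.mp h' f b hb)

theorem isSubcomod_comap {φ : V →ₗ[k] W} (hφ : Hoch.IsComodHom C φ) {U : Submodule k W}
    (h : HopfRep.IsSubcomod (k := k) (A := C) U) : HopfRep.IsSubcomod (k := k) (A := C) (U.comap φ) :=
  isSubcomod_iff.mpr fun f u hu => by
    show φ (act V f u) ∈ U
    rw [isComodHom_iff.mp hφ]; exact isSubcomod_iff.mp h f _ hu

theorem isSubcomod_map {φ : V →ₗ[k] W} (hφ : Hoch.IsComodHom C φ) {U : Submodule k V}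
    (h : HopfRep.IsSubcomod (k := k) (A := C) U) : HopfRep.IsSubcomod (k := k) (A := C) (U.map φ) :=
  isSubcomod_iff.mpr fun f u hu => by
    obtain ⟨x, hx, rfl⟩ := hu
    exact ⟨act V f x, isSubcomod_iff.mp h f x hx, isComodHom_iff.mp hφ f x⟩

theorem isSubcomod_ker {φ : V →ₗ[k] W} (hφ : Hoch.IsComodHom C φ) :
    HopfRep.IsSubcomod (k := k) (A := C) (LinearMap.ker φ) := by
  simpa using isSubcomod_comap hφ isSubcomod_bot

theorem isSubcomod_range {φ : V →ₗ[k] W} (hφ : Hoch.IsComodHom C φ) :
    HopfRep.IsSubcomod (k := k) (A := C) (LinearMap.range φ) := by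
  simpa using isSubcomod_map hφ isSubcomod_top

theorem isSemisimple_iff :
    (letI := dualModule (k := k) (C := C) V; IsSemisimpleModule (DualAlg k C) V) ↔
      HopfRep.IsSemisimpleComod k C V := by
  letI := dualModule (k := k) (C := C) V
  let e := subEquiv (k := k) (C := C) (V := V)
  rw [isSemisimpleModule_iff]
  constructor
  · intro h U hU
    obtain ⟨N, hN⟩ := exists_isCompl (α := Submodule (DualAlg k C) V) (e.symm ⟨U, hU⟩)
    refine ⟨(e N).1, (e N).2, ?_⟩
    constructor
    · rw [Submodule.disjoint_def]
      exact fun x hx hx' => Submodule.disjoint_def.mp hN.1 x hx hx'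
    · rw [codisjoint_iff, Submodule.eq_top_iff']
      intro x
      obtain ⟨a, ha, b, hb, rfl⟩ := Submodule.mem_sup.mp (hN.2.eq_top ▸ Submodule.mem_top : x ∈ _ ⊔ _)
      exact Submodule.add_mem_sup ha hb
  · intro h
    refine ⟨fun N => ?_⟩
    obtain ⟨U, hU, hc⟩ := h (e N).1 (e N).2
    refine ⟨e.symm ⟨U, hU⟩, ?_, ?_⟩
    · rw [Submodule.disjoint_def]
      exact fun x hx hx' => Submodule.disjoint_def.mp hc.1 x hx hx'
    · rw [codisjoint_iff, Submodule.eq_top_iff']
      intro x
      obtain ⟨a, ha, b, hb, rfl⟩ := Submodule.mem_sup.mp (hc.2.eq_top ▸ Submodule.mem_top : x ∈ _ ⊔ _)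
      exact Submodule.add_mem_sup ha hb

theorem isSimple_iff :
    (letI := dualModule (k := k) (C := C) V; IsSimpleModule (DualAlg k C) V) ↔
      HopfRep.IsSimpleComod k C V := by
  letI := dualModule (k := k) (C := C) V
  let e := subEquiv (k := k) (C := C) (V := V)
  constructor
  · intro h
    refine ⟨IsSimpleModule.nontrivial (DualAlg k C) V, fun U hU => ?_⟩
    rcases IsSimpleOrder.eq_bot_or_eq_top (e.symm ⟨U, hU⟩) with h' | h'
    · left; exact (Submodule.eq_bot_iff _).mpr fun x hx => (Submodule.mem_bot _).mp (h' ▸ hx : x ∈ (⊥ : Submodule (DualAlg k C) V))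
    · right; exact Submodule.eq_top_iff'.mpr fun x => (h'.symm ▸ Submodule.mem_top : x ∈ e.symm ⟨U, hU⟩)
  · rintro ⟨hnt, h⟩
    rw [isSimpleModule_iff]
    exact ⟨fun N => (h (e N).1 (e N).2).imp
      (fun h' => (Submodule.eq_bot_iff _).mpr fun x hx => by
        have hx' : x ∈ (e N).1 := hx
        rw [h'] at hx'; exact (Submodule.mem_bot k).mp hx')
      (fun h' => Submodule.eq_top_iff'.mpr fun x => by
        have hx' : x ∈ (⊤ : Submodule k V) := trivial
        rw [← h'] at hx'; exact hx')⟩

theorem eq_zero_or_bijective (hV : HopfRep.IsSimpleComod k C V) (hW : HopfRep.IsSimpleComod k C W)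
    (φ : V →ₗ[k] W) (hφ : Hoch.IsComodHom C φ) : φ = 0 ∨ Function.Bijective φ := by
  by_cases h : φ = 0
  · exact Or.inl h
  refine Or.inr ⟨?_, ?_⟩
  · rcases hV.2 _ (isSubcomod_ker hφ) with h' | h'
    · exact LinearMap.ker_eq_bot.mp h'
    · exact absurd (LinearMap.ker_eq_top.mp h') h
  · rcases hW.2 _ (isSubcomod_range hφ) with h' | h'
    · exact absurd (LinearMap.range_eq_bot.mp h') h
    · exact LinearMap.range_eq_top.mp h'

theorem isComodHom_symm (e : V ≃ₗ[k] W) (he : Hoch.IsComodHom C (e : V →ₗ[k] W)) :
    Hoch.IsComodHom C (e.symm : W →ₗ[k] V) :=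
  isComodHom_iff.mpr fun f w => by
    apply e.injective
    have h2 := isComodHom_iff.mp he f (e.symm w)
    simp only [LinearEquiv.coe_coe, LinearEquiv.apply_symm_apply] at h2 ⊢
    exact h2.symm

end Transfer

end Groth.Agent.H8Comod
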