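import Mathlib
import Groth.Agent.Lib.H8Comod
import Groth.Agent.Lib.H8Coalg

/-! Simple and semisimple comodules, coefficient coalgebras. -/

universe u v v' w w'

open TensorProduct

namespace Groth.Agent.H8Comod

variable {k : Type u} [Field k] {C : Type v} [AddCommGroup C] [Module k C] [Coalgebra k C]
  {V : Type w} [AddCommGroup V] [Module k V] [HopfRep.Comod k C V]
  {W : Type w'} [AddCommGroup W] [Module k W] [HopfRep.Comod k C W]

theorem exists_finite_mem (v : V) :
    ∃ U : Submodule k V, Module.Finite k U ∧ v ∈ U ∧ HopfRep.IsSubcomod (k := k) (A := C) U :=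
  H8Coalg.exists_finite_subcomod_single (HopfRep.Comod.coact (k := k) (A := C) (V := V)) HopfRep.Comod.coassoc HopfRep.Comod.counit_comp v

theorem finite_of_simple (hV : HopfRep.IsSimpleComod k C V) : Module.Finite k V := by
  haveI := hV.1
  obtain ⟨v, hv⟩ := exists_ne (0 : V)
  obtain ⟨U, hUf, hvU, hU⟩ := exists_finite_mem (k := k) (C := C) v
  rcases hV.2 U hU with rfl | rfl
  · exact absurd hvU hv
  · exact Module.Finite.equiv (Submodule.topEquiv (R := k) (M := V))

theorem exists_smul_of_simple [IsAlgClosed k] (hV : HopfRep.IsSimpleComod k C V) (α : V →ₗ[k] V)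
    (hα : Hoch.IsComodHom C α) : ∃ a : k, α = a • LinearMap.id := by
  haveI := hV.1
  haveI := finite_of_simple hV
  obtain ⟨a, ha⟩ := Module.End.exists_eigenvalue α
  refine ⟨a, ?_⟩
  have h : Hoch.IsComodHom C (α - a • LinearMap.id) :=
    isComodHom_iff.mpr fun f v => by simp [isComodHom_iff.mp hα]
  rcases eq_zero_or_bijective hV hV _ h with h0 | h0
  · exact sub_eq_zero.mp h0
  · obtain ⟨x, hx, hx0⟩ := ha.exists_hasEigenvector
    refine absurd (h0.1 (a₁ := x) (a₂ := 0) ?_) hx0
    rw [Module.End.mem_eigenspace_iff] at hx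
    simp [hx]

section AsModule

variable (k C V)

/-- The `k`-subspace underlying a submodule for the dual algebra. -/
noncomputable def toK (N : letI := dualModule (k := k) (C := C) V; Submodule (DualAlg k C) V) : Submodule k V :=
  letI := dualModule (k := k) (C := C) V
  ((subEquiv (k := k) (C := C) (V := V)) N).1

variable {k C V}

theorem mem_toK {N : letI := dualModule (k := k) (C := C) V; Submodule (DualAlg k C) V} {x : V} :
    x ∈ toK k C V N ↔ x ∈ N := Iff.rfl

theorem exists_ofK {U : Submodule k V} (hU : HopfRep.IsSubcomod (k := k) (A := C) U) :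
    letI := dualModule (k := k) (C := C) V
    ∃ N, toK k C V N = U := by
  let e := subEquiv (k := k) (C := C) (V := V)
  exact ⟨e.symm ⟨U, hU⟩, congrArg Subtype.val (e.apply_symm_apply ⟨U, hU⟩)⟩

theorem isSimple_sub_iff (N : letI := dualModule (k := k) (C := C) V; Submodule (DualAlg k C) V) :
    (letI := dualModule (k := k) (C := C) V; IsSimpleModule (DualAlg k C) N) ↔
      toK k C V N ≠ ⊥ ∧ ∀ U : Submodule k V, HopfRep.IsSubcomod (k := k) (A := C) U → U ≤ toK k C V N →
        U = ⊥ ∨ U = toK k C V N := by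
  letI := dualModule (k := k) (C := C) V
  rw [isSimpleModule_iff_isAtom]
  constructor
  · intro h
    refine ⟨fun h0 => h.1 ((Submodule.eq_bot_iff _).mpr fun x hx => (Submodule.eq_bot_iff _).mp h0 x hx), fun U hU hle => ?_⟩
    obtain ⟨N', rfl⟩ := exists_ofK hU
    rcases h.le_iff.mp (show N' ≤ N from fun x hx => hle hx) with h' | h'
    · left; exact (Submodule.eq_bot_iff _).mpr fun x hx => (Submodule.eq_bot_iff _).mp h' x hx
    · right; rw [h']
  · rintro ⟨h0, h⟩
    refine ⟨fun hN => h0 ((Submodule.eq_bot_iff _).mpr fun x hx => (Submodule.eq_bot_iff _).mp hN x hx), fun N' hlt => ?_⟩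
    rcases h (toK k C V N') ((subEquiv (k := k) (C := C) (V := V)) N').2 (fun x hx => hlt.le hx) with h' | h'
    · exact (Submodule.eq_bot_iff _).mpr fun x hx => (Submodule.eq_bot_iff _).mp h' x hx
    · exfalso
      exact hlt.not_ge fun x hx => (h'.symm ▸ (hx : x ∈ toK k C V N) : x ∈ toK k C V N')

theorem toK_iSup {ι : Sort*} (N : ι → (letI := dualModule (k := k) (C := C) V; Submodule (DualAlg k C) V)) :
    (letI := dualModule (k := k) (C := C) V; toK k C V (⨆ i, N i)) = ⨆ i, toK k C V (N i) := by
  letI := dualModule (k := k) (C := C) V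
  refine le_antisymm ?_ (iSup_le fun i x hx => Submodule.mem_iSup_of_mem i (mem_toK.mp hx))
  intro x hx
  refine Submodule.iSup_induction N (motive := fun y => y ∈ ⨆ i, toK k C V (N i)) hx
    (fun i y hy => Submodule.mem_iSup_of_mem i hy) (zero_mem _) fun a b ha hb => add_mem ha hb

theorem iSupIndep_toK {ι : Type*} (N : ι → (letI := dualModule (k := k) (C := C) V; Submodule (DualAlg k C) V))
    (h : letI := dualModule (k := k) (C := C) V; iSupIndep N) : iSupIndep fun i => toK k C V (N i) := by
  letI := dualModule (k := k) (C := C) V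
  intro i
  have h' := h i
  rw [Submodule.disjoint_def] at h' ⊢
  intro x hx hx'
  refine h' x hx ?_
  have : x ∈ toK k C V (⨆ j, ⨆ (_ : j ≠ i), N j) := by
    rw [toK_iSup]; simp only [toK_iSup]; exact hx'
  exact this

theorem sSup_simple_eq_top (hV : HopfRep.IsSemisimpleComod k C V) :
    (⨆ U : {U : Submodule k V // HopfRep.IsSubcomod (k := k) (A := C) U ∧ U ≠ ⊥ ∧
        ∀ U' : Submodule k V, HopfRep.IsSubcomod (k := k) (A := C) U' → U' ≤ U → U' = ⊥ ∨ U' = U},
      (U.1 : Submodule k V)) = ⊤ := by
  letI := dualModule (k := k) (C := C) V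
  haveI := isSemisimple_iff.mpr hV
  rw [Submodule.eq_top_iff']
  intro x
  have hx : x ∈ sSup {N : Submodule (DualAlg k C) V | IsSimpleModule (DualAlg k C) N} := by
    rw [IsSemisimpleModule.sSup_simples_eq_top]; trivial
  rw [sSup_eq_iSup'] at hx
  have hx' := mem_toK.mpr hx
  rw [toK_iSup] at hx'
  refine SetLike.le_def.mp (iSup_le fun N => ?_) hx'
  exact le_iSup_of_le (⟨toK k C V N.1, ((subEquiv (k := k) (C := C) (V := V)) N.1).2, (isSimple_sub_iff N.1).mp N.2⟩ :
    {U : Submodule k V // HopfRep.IsSubcomod (k := k) (A := C) U ∧ U ≠ ⊥ ∧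
        ∀ U' : Submodule k V, HopfRep.IsSubcomod (k := k) (A := C) U' → U' ≤ U → U' = ⊥ ∨ U' = U}) le_rfl

theorem semisimple_iff_exists_decomposition :
    (∃ (ι : Type w) (U : ι → Submodule k V), iSupIndep U ∧ iSup U = ⊤ ∧ ∀ i,
        HopfRep.IsSubcomod (k := k) (A := C) (U i) ∧ U i ≠ ⊥ ∧
          ∀ U' : Submodule k V, HopfRep.IsSubcomod (k := k) (A := C) U' → U' ≤ U i → U' = ⊥ ∨ U' = U i) ↔
      HopfRep.IsSemisimpleComod k C V := by
  letI := dualModule (k := k) (C := C) V
  constructor
  · rintro ⟨ι, U, -, htop, hU⟩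
    rw [← isSemisimple_iff]
    choose N hN using fun i => exists_ofK (hU i).1
    refine isSemisimpleModule_of_isSemisimpleModule_submodule' (p := N) (fun i => ?_) ?_
    · haveI : IsSimpleModule (DualAlg k C) (N i) := (isSimple_sub_iff _).mpr (by rw [hN]; exact (hU i).2)
      infer_instance
    · rw [Submodule.eq_top_iff']
      intro x
      have hx : x ∈ toK k C V (⨆ i, N i) := by
        rw [toK_iSup]; simp only [hN]; rw [htop]; trivial
      exact hx
  · intro hV
    haveI := isSemisimple_iff.mpr hV
    obtain ⟨s, hind, htop, hs⟩ := IsSemisimpleModule.exists_sSupIndep_sSup_simples_eq_top (DualAlg k C) V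
    refine ⟨s, fun N => toK k C V N.1, iSupIndep_toK _ (sSupIndep_iff _ |>.mp hind), ?_, fun N => ⟨((subEquiv (k := k) (C := C) (V := V)) N.1).2, (isSimple_sub_iff N.1).mp (hs N.1 N.2)⟩⟩
    rw [Submodule.eq_top_iff']
    intro x
    rw [← toK_iSup (N := fun N : s => N.1), mem_toK, ← sSup_eq_iSup', htop]
    trivial

end AsModule

section Along

variable {D : Type v'} [AddCommGroup D] [Module k D] [Coalgebra k D]

/-- Pushing a comodule structure forward along a morphism of coalgebras. -/
@[reducible] noncomputable def pushComod (i : C →ₗc[k] D) : HopfRep.Comod k D V where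
  coact := (i : C →ₗ[k] D).lTensor V ∘ₗ HopfRep.Comod.coact (k := k) (A := C)
  coassoc := by
    ext v
    have h := LinearMap.congr_fun (HopfRep.Comod.coassoc (k := k) (A := C) (V := V)) v
    have hi := CoalgHomClass.map_comp_comul i
    simp only [LinearMap.comp_apply, LinearEquiv.coe_coe] at h ⊢
    rw [← LinearMap.lTensor_comp_apply V (CoalgebraStruct.comul (R := k) (A := D)), ← hi,
      LinearMap.lTensor_comp_apply, ← h]
    generalize HopfRep.Comod.coact (k := k) (A := C) v = z
    induction z using TensorProduct.induction_on with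
    | zero => simp
    | tmul a c =>
      simp only [LinearMap.lTensor_tmul, LinearMap.rTensor_tmul, LinearMap.comp_apply]
      generalize HopfRep.Comod.coact (k := k) (A := C) a = y
      induction y using TensorProduct.induction_on with
      | zero => simp
      | tmul p q => simp
      | add p q hp hq => simp only [map_add, add_tmul, hp, hq]
    | add a b ha hb => simp only [map_add, ha, hb]
  counit_comp := by
    ext v
    have h := LinearMap.congr_fun (HopfRep.Comod.counit_comp (k := k) (A := C) (V := V)) v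
    have hi := CoalgHomClass.counit_comp i
    simp only [LinearMap.comp_apply] at h ⊢
    rw [← LinearMap.lTensor_comp_apply, hi]
    exact h

omit [HopfRep.Comod k C V] in
theorem exists_extend_functional (i : C →ₗc[k] D) (hi : Function.Injective i) (f : C →ₗ[k] k) :
    ∃ g : D →ₗ[k] k, g ∘ₗ (i : C →ₗ[k] D) = f := by
  obtain ⟨p, hp⟩ := (i : C →ₗ[k] D).exists_leftInverse_of_injective (LinearMap.ker_eq_bot.mpr hi)
  exact ⟨f ∘ₗ p, by rw [LinearMap.comp_assoc, hp, LinearMap.comp_id]⟩

theorem act_along [HopfRep.Comod k D V] (i : C →ₗc[k] D)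
    (hcd : (i : C →ₗ[k] D).lTensor V ∘ₗ HopfRep.Comod.coact (k := k) (A := C) =
      HopfRep.Comod.coact (k := k) (A := D) (V := V)) (g : D →ₗ[k] k) (v : V) :
    act V (WithConv.toConv g) v = act V (WithConv.toConv (g ∘ₗ (i : C →ₗ[k] D))) v := by
  simp [act_apply, ← hcd, contr, ← LinearMap.lTensor_comp_apply]

theorem isSubcomod_along [HopfRep.Comod k D V] (i : C →ₗc[k] D) (hi : Function.Injective i)
    (hcd : (i : C →ₗ[k] D).lTensor V ∘ₗ HopfRep.Comod.coact (k := k) (A := C) =
      HopfRep.Comod.coact (k := k) (A := D) (V := V)) (U : Submodule k V) :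
    HopfRep.IsSubcomod (k := k) (A := D) U ↔ HopfRep.IsSubcomod (k := k) (A := C) U := by
  rw [isSubcomod_iff, isSubcomod_iff]
  constructor
  · intro h f u hu
    obtain ⟨g, hg⟩ := exists_extend_functional i hi f.ofConv
    have h2 := h (WithConv.toConv g) u hu
    rw [act_along i hcd, hg] at h2
    exact h2
  · intro h g u hu
    have h2 := h (WithConv.toConv (g.ofConv ∘ₗ (i : C →ₗ[k] D))) u hu
    rw [← act_along i hcd] at h2
    exact h2

theorem semisimple_along (i : C →ₗc[k] D) (hi : Function.Injective i)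
    (hD : ∀ (U : Type w) [AddCommGroup U] [Module k U] [HopfRep.Comod k D U], HopfRep.IsSemisimpleComod k D U) :
    HopfRep.IsSemisimpleComod k C V := by
  letI := pushComod (V := V) i
  intro U hU
  obtain ⟨U', hU', hc⟩ := hD V U ((isSubcomod_along i hi rfl U).mpr hU)
  exact ⟨U', (isSubcomod_along i hi rfl U').mp hU', hc⟩

omit [HopfRep.Comod k C V] in
theorem exists_corestrict [HopfRep.Comod k D V] (i : C →ₗc[k] D) (hi : Function.Injective i)
    (h : ∀ v : V, HopfRep.Comod.coact (k := k) (A := D) v ∈ LinearMap.range ((i : C →ₗ[k] D).lTensor V)) :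
    ∃ c : V →ₗ[k] V ⊗[k] C, (i : C →ₗ[k] D).lTensor V ∘ₗ c = HopfRep.Comod.coact (k := k) (A := D) ∧
      (TensorProduct.assoc k V C C).toLinearMap ∘ₗ c.rTensor C ∘ₗ c =
        (CoalgebraStruct.comul (R := k) (A := C)).lTensor V ∘ₗ c ∧
      (CoalgebraStruct.counit (R := k) (A := C)).lTensor V ∘ₗ c = (TensorProduct.mk k V k).flip 1 := by
  have hinj : Function.Injective ((i : C →ₗ[k] D).lTensor V) :=
    Module.Flat.lTensor_preserves_injective_linearMap _ hi
  let c : V →ₗ[k] V ⊗[k] C := (LinearEquiv.ofInjective _ hinj).symm.toLinearMap ∘ₗ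
    LinearMap.codRestrict (LinearMap.range ((i : C →ₗ[k] D).lTensor V)) (HopfRep.Comod.coact (k := k) (A := D)) h
  have hc : (i : C →ₗ[k] D).lTensor V ∘ₗ c = HopfRep.Comod.coact (k := k) (A := D) := by
    ext v
    exact congrArg Subtype.val ((LinearEquiv.ofInjective _ hinj).apply_symm_apply ⟨_, h v⟩)
  refine ⟨c, hc, ?_, ?_⟩
  · have hinj2 : Function.Injective (TensorProduct.map (i : C →ₗ[k] D) (i : C →ₗ[k] D)) := by
      rw [← LinearMap.rTensor_comp_lTensor]
      exact (Module.Flat.rTensor_preserves_injective_linearMap _ hi).comp (Module.Flat.lTensor_preserves_injective_linearMap _ hi)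
    have hinj3 := Module.Flat.lTensor_preserves_injective_linearMap (M := V) _ hinj2
    refine LinearMap.ext fun v => hinj3 ?_
    have hD := LinearMap.congr_fun (HopfRep.Comod.coassoc (k := k) (A := D) (V := V)) v
    have hi' := CoalgHomClass.map_comp_comul i
    simp only [LinearMap.comp_apply, LinearEquiv.coe_coe] at hD ⊢
    rw [← LinearMap.lTensor_comp_apply, hi', LinearMap.lTensor_comp_apply,
      show (i : C →ₗ[k] D).lTensor V (c v) = _ from LinearMap.congr_fun hc v, ← hD, ← LinearMap.congr_fun hc v]
    simp only [LinearMap.comp_apply]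
    generalize c v = z
    induction z using TensorProduct.induction_on with
    | zero => simp
    | tmul a q =>
      simp only [LinearMap.lTensor_tmul, LinearMap.rTensor_tmul, ← hc, LinearMap.comp_apply]
      generalize c a = y
      induction y using TensorProduct.induction_on with
      | zero => simp
      | tmul p r => simp
      | add p r hp hr => simp only [map_add, add_tmul, hp, hr]
    | add a b ha hb => simp only [map_add, ha, hb]
  · ext v
    have hD := LinearMap.congr_fun (HopfRep.Comod.counit_comp (k := k) (A := D) (V := V)) v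
    have hi' := CoalgHomClass.counit_comp i
    simp only [LinearMap.comp_apply] at hD ⊢
    rw [← hi', LinearMap.lTensor_comp_apply, show (i : C →ₗ[k] D).lTensor V (c v) = _ from LinearMap.congr_fun hc v]
    exact hD

end Along

end Groth.Agent.H8Comod
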