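import Mathlib
import Groth.Agent.Lib.H8Line
import Groth.Agent.Lib.H8AffDim

/-!
# Characters of a closed subgroup are integral over restricted characters
-/

set_option autoImplicit false

universe u v

open TensorProduct

noncomputable section

namespace Groth.Agent.H8CharInt

section Eigen

variable {k : Type u} [Field k] [IsAlgClosed k] {V : Type v} [AddCommGroup V] [Module k V] [FiniteDimensional k V]

open Module

/-- An adapted basis of generalized eigenvectors with trace formulas. -/
theorem exists_eigen_basis (T : End k V) :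
    ∃ (b : Basis (Fin (finrank k V)) k V) (l : Fin (finrank k V) → k),
      (∀ i, b i ∈ T.maxGenEigenspace (l i)) ∧ (∀ i, T.HasEigenvalue (l i)) ∧
      ∀ e : ℕ, LinearMap.trace k V (T ^ e) = ∑ i, l i ^ e := by
  classical
  let E : k → Submodule k V := T.maxGenEigenspace
  have hind : iSupIndep E := T.independent_maxGenEigenspace
  have hint : DirectSum.IsInternal E :=
    DirectSum.isInternal_submodule_of_iSupIndep_of_iSup_eq_top hind T.iSup_maxGenEigenspace_eq_top
  let I := {μ : k // E μ ≠ ⊥}
  have hfinI : {μ : k | E μ ≠ ⊥}.Finite := WellFoundedGT.finite_ne_bot_of_iSupIndep hind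
  haveI : Fintype I := hfinI.fintype
  have hint' : DirectSum.IsInternal fun μ : I => E μ.1 := DirectSum.isInternal_ne_bot_iff.mpr hint
  let bb := hint'.collectedBasis fun μ : I => finBasis k (E μ.1)
  let e := Fintype.equivFinOfCardEq (finrank_eq_card_basis bb).symm
  refine ⟨bb.reindex e, fun i => (e.symm i).1.1, fun i => ?_, fun i => ?_, fun n => ?_⟩
  · rw [Basis.reindex_apply]
    exact hint'.collectedBasis_mem (fun μ : I => finBasis k (E μ.1)) (e.symm i)
  · have h := (e.symm i).1.2
    exact End.HasUnifEigenvalue.lt (k := ⊤) zero_lt_one h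
  · have hmaps : ∀ μ : I, Set.MapsTo (T ^ n) (E μ.1) (E μ.1) := fun μ =>
      End.mapsTo_maxGenEigenspace_of_comm ((Commute.refl T).pow_right n) μ.1
    rw [LinearMap.trace_eq_sum_trace_restrict hint' hmaps, ← e.sum_comp, Fintype.sum_sigma]
    simp only [Equiv.symm_apply_apply]
    refine Finset.sum_congr rfl fun μ _ => ?_
    rw [Finset.sum_const, Finset.card_univ, Fintype.card_fin, nsmul_eq_mul]
    have hT : Set.MapsTo T (E μ.1) (E μ.1) := End.mapsTo_maxGenEigenspace_of_comm (Commute.refl T) μ.1
    set R : End k (E μ.1) := T.restrict hT with hR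
    have hnil : IsNilpotent (R - algebraMap k _ μ.1) := by
      convert End.isNilpotent_restrict_maxGenEigenspace_sub_algebraMap T μ.1 using 1
      ext x
      simp [R, Algebra.algebraMap_eq_smul_one]
    have hpow : (T ^ n).restrict (hmaps μ) = R ^ n := by
      rw [hR, Module.End.pow_restrict]
    have hcomm : Commute R (algebraMap k (End k (E μ.1)) μ.1) := (Algebra.commutes _ R).symm
    have hnil' : IsNilpotent (R ^ n - algebraMap k (End k (E μ.1)) μ.1 ^ n) := by
      rw [← hcomm.geom_sum₂_mul n]
      refine Commute.isNilpotent_mul_left ?_ hnil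
      refine Commute.sum_left _ _ _ fun j _ => ?_
      exact Commute.mul_left ((Commute.refl R).sub_right hcomm |>.pow_left j)
        ((hcomm.symm.sub_right (Commute.refl _)).pow_left _)
    have h0 : LinearMap.trace k (E μ.1) (R ^ n - algebraMap k (End k (E μ.1)) μ.1 ^ n) = 0 :=
      (LinearMap.isNilpotent_trace_of_isNilpotent hnil').eq_zero
    rw [map_sub, sub_eq_zero] at h0
    rw [hpow, h0, ← map_pow, Algebra.algebraMap_eq_smul_one, map_smul, LinearMap.trace_one, smul_eq_mul,
      mul_comm]

end Eigen

section Chars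

open H8Line

variable {k : Type u} [Field k] {A : Type v} [CommRing A] [Bialgebra k A]

variable (k A) in
/-- The set of characters of representations on coordinate spaces. -/
def chars : Set A :=
  Set.range (fun p : (Σ d : ℕ, HopfRep.Comod k A (Fin d → k)) =>
    ∑ i : Fin p.1, TensorProduct.lid k A (LinearMap.rTensor A (LinearMap.proj i)
      (@HopfRep.Comod.coact k A _ _ _ _ (Fin p.1 → k) _ _ p.2 (Pi.single i 1))))

theorem trace_mem_chars {ι : Type*} [Fintype ι] [DecidableEq ι] {m : ι → ι → A} (hm : IsMatCoalg (k := k) m) :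
    ∑ i, m i i ∈ chars k A := by
  let e := (Fintype.equivFin ι).symm
  let q : Fin (Fintype.card ι) → Fin (Fintype.card ι) → A := fun i j => m (e i) (e j)
  have hq : IsMatCoalg (k := k) q := ⟨fun i j => by
    rw [hm.comul]; exact (e.sum_comp fun l => m (e i) l ⊗ₜ[k] m l (e j)).symm,
    fun i j => by rw [hm.counit]; simp only [e.apply_eq_iff_eq]⟩
  refine ⟨⟨Fintype.card ι, matComod q hq⟩, ?_⟩
  show ∑ i, TensorProduct.lid k A (LinearMap.rTensor A (LinearMap.proj i) (matCoact q (Pi.single i (1 : k)))) = _
  simp only [matCoact_single, map_sum, LinearMap.rTensor_tmul, LinearMap.proj_apply, Pi.single_apply,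
    TensorProduct.lid_tmul, ite_smul, one_smul, zero_smul, Finset.sum_ite_eq, Finset.mem_univ, if_true]
  exact e.sum_comp fun i => m i i

/-- The trace of a comultiplicative matrix twisted by a diagonalisable symmetry is a combination of characters. -/
theorem trace_mul_mem_span {ι : Type*} [Fintype ι] [DecidableEq ι] {m : ι → ι → A} (hm : IsMatCoalg (k := k) m)
    (C Q P : Matrix ι ι k) (hQP : Q * P = 1) (hPQ : P * Q = 1) (l : ι → k) (hC : C * Q = Q * Matrix.diagonal l)
    (hcomm : C.map (algebraMap k A) * Matrix.of m = Matrix.of m * C.map (algebraMap k A)) :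
    (C.map (algebraMap k A) * Matrix.of m).trace ∈ Submodule.span k (chars k A) := by
  classical
  let f := (algebraMap k A).mapMatrix (m := ι)
  set M' : Matrix ι ι A := f P * Matrix.of m * f Q with hM'
  let inl : A →ₐ[k] A ⊗[k] A := Algebra.TensorProduct.includeLeft
  let inr : A →ₐ[k] A ⊗[k] A := Algebra.TensorProduct.includeRight
  have hscal : ∀ (φ : A →ₐ[k] A ⊗[k] A) (N : Matrix ι ι k),
      φ.mapMatrix (f N) = (algebraMap k (A ⊗[k] A)).mapMatrix N := by
    intro φ N
    ext i j
    exact φ.commutes (N i j)
  have hΔ : (Bialgebra.comulAlgHom k A).mapMatrix (Matrix.of m) =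
      inl.mapMatrix (Matrix.of m) * inr.mapMatrix (Matrix.of m) := by
    ext i j
    simp [Matrix.mul_apply, hm.comul, inl, inr]
  have hΔ' : (Bialgebra.comulAlgHom k A).mapMatrix M' = inl.mapMatrix M' * inr.mapMatrix M' := by
    simp only [hM', map_mul, hscal, hΔ, mul_assoc]
    rw [← mul_assoc ((algebraMap k (A ⊗[k] A)).mapMatrix Q) ((algebraMap k (A ⊗[k] A)).mapMatrix P),
      ← map_mul, hQP, map_one, one_mul]
  have hε : (Bialgebra.counitAlgHom k A).mapMatrix M' = 1 := by
    have h1 : (Bialgebra.counitAlgHom k A).mapMatrix (Matrix.of m) = 1 := by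
      ext i j
      simp [hm.counit, Matrix.one_apply]
    have h2 : ∀ N : Matrix ι ι k, (Bialgebra.counitAlgHom k A).mapMatrix (f N) = N := by
      intro N
      ext i j
      exact (Bialgebra.counitAlgHom k A).commutes (N i j)
    simp only [hM', map_mul, h1, h2, mul_one, hPQ]
  have hd : f (Matrix.diagonal l) = f P * f C * f Q := by
    rw [← map_mul, ← map_mul, mul_assoc, hC, ← mul_assoc, hPQ, one_mul]
  have hcomm' : f (Matrix.diagonal l) * M' = M' * f (Matrix.diagonal l) := by
    rw [hd, hM']
    calc f P * f C * f Q * (f P * Matrix.of m * f Q) = f P * f C * (f Q * f P) * Matrix.of m * f Q := by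
          simp only [mul_assoc]
      _ = f P * (f C * Matrix.of m) * f Q := by rw [← map_mul f Q P, hQP, map_one, mul_one]; simp only [mul_assoc]
      _ = f P * (Matrix.of m * f C) * f Q := by rw [show f C * Matrix.of m = Matrix.of m * f C from hcomm]
      _ = f P * Matrix.of m * (f Q * f P) * f C * f Q := by
          rw [← map_mul f Q P, hQP, map_one, mul_one]; simp only [mul_assoc]
      _ = f P * Matrix.of m * f Q * (f P * f C * f Q) := by simp only [mul_assoc]
  have hzero : ∀ i j, l i ≠ l j → M' i j = 0 := by
    intro i j hne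
    have h := congrFun (congrFun hcomm' i) j
    rw [show f (Matrix.diagonal l) = Matrix.diagonal (fun i => algebraMap k A (l i)) from
      (Matrix.diagonal_map (map_zero _)), Matrix.diagonal_mul, Matrix.mul_diagonal, mul_comm (M' i j),
      ← Algebra.smul_def, ← Algebra.smul_def, ← sub_eq_zero, ← sub_smul] at h
    exact (smul_eq_zero.mp h).resolve_left (sub_ne_zero.mpr hne)
  have hblock : ∀ μ : k, IsMatCoalg (k := k) (fun i j : {i // l i = μ} => M' i.1 j.1) := by
    intro μ
    constructor
    · intro i j
      have h := congrFun (congrFun hΔ' i.1) j.1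
      simp only [Matrix.mul_apply, AlgHom.mapMatrix_apply, Matrix.map_apply, Bialgebra.comulAlgHom_apply] at h
      rw [h, ← Finset.sum_subtype (Finset.univ.filter fun x => l x = μ) (by simp)
        (fun x => M' i.1 x ⊗ₜ[k] M' x j.1)]
      rw [Finset.sum_filter]
      refine Finset.sum_congr rfl fun x _ => ?_
      split_ifs with hx
      · simp [inl, inr]
      · rw [hzero i.1 x (by rw [i.2]; exact Ne.symm hx)]
        simp
    · intro i j
      have h := congrFun (congrFun hε i.1) j.1
      simp only [AlgHom.mapMatrix_apply, Matrix.map_apply, Bialgebra.counitAlgHom_apply, Matrix.one_apply] at h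
      rw [h]
      simp only [Subtype.ext_iff]
  have htr : (C.map (algebraMap k A) * Matrix.of m).trace = ∑ i, l i • M' i i := by
    have h1 : f C * Matrix.of m = f Q * f (Matrix.diagonal l) * (f P * Matrix.of m) := by
      rw [← map_mul f Q, ← hC, map_mul, mul_assoc (f C), ← mul_assoc (f Q), ← map_mul f Q P, hQP, map_one, one_mul]
    show (f C * Matrix.of m).trace = _
    rw [h1, mul_assoc, Matrix.trace_mul_comm, mul_assoc, ← hM',
      show f (Matrix.diagonal l) = Matrix.diagonal (fun i => algebraMap k A (l i)) from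
        (Matrix.diagonal_map (map_zero _))]
    simp [Matrix.trace, Matrix.diagonal_mul, Algebra.smul_def]
  rw [htr, ← Finset.sum_fiberwise_of_maps_to (fun i _ => Finset.mem_image_of_mem l (Finset.mem_univ i))]
  refine Submodule.sum_mem _ fun μ _ => ?_
  have h1 : ∑ i ∈ Finset.univ.filter (fun i => l i = μ), l i • M' i i =
      μ • ∑ i : {i // l i = μ}, M' i.1 i.1 := by
    rw [← Finset.sum_subtype (Finset.univ.filter fun x => l x = μ) (by simp) (fun x => M' x x), Finset.smul_sum]
    exact Finset.sum_congr rfl fun x hx => by rw [(Finset.mem_filter.mp hx).2]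
  rw [h1]
  exact Submodule.smul_mem _ _ (Submodule.subset_span (trace_mem_chars (hblock μ)))

theorem pow_apply_eq_sum {R : Type*} [CommRing R] {ι : Type*} [Fintype ι] [DecidableEq ι] (M : Matrix ι ι R) :
    ∀ (n : ℕ) (i j : ι), (M ^ (n + 1)) i j =
      ∑ f : Fin n → ι, ∏ r : Fin (n + 1), M ((Fin.cons i f : Fin (n + 1) → ι) r) ((Fin.snoc f j : Fin (n + 1) → ι) r) := by
  intro n
  induction n with
  | zero => intro i j; simp [Fin.snoc]
  | succ n ih =>
    intro i j
    rw [pow_succ', Matrix.mul_apply, ← (Fin.consEquiv fun _ : Fin (n + 1) => ι).sum_comp, Fintype.sum_prod_type]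
    refine Finset.sum_congr rfl fun l _ => ?_
    rw [ih, Finset.mul_sum]
    refine Finset.sum_congr rfl fun f _ => ?_
    simp only [Fin.consEquiv, Equiv.coe_fn_mk]
    conv_rhs => rw [Fin.prod_univ_succ]
    simp only [← Fin.cons_snoc_eq_snoc_cons, Fin.cons_zero, Fin.cons_succ]

theorem trace_pow_eq_sum {R : Type*} [CommRing R] {ι : Type*} [Fintype ι] [DecidableEq ι] (M : Matrix ι ι R)
    (n : ℕ) : (M ^ (n + 1)).trace = ∑ f : Fin (n + 1) → ι, ∏ r, M (f r) (f (r + 1)) := by
  rw [Matrix.trace, ← (Fin.consEquiv fun _ : Fin (n + 1) => ι).sum_comp, Fintype.sum_prod_type]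
  refine Finset.sum_congr rfl fun i _ => ?_
  rw [Matrix.diag, pow_apply_eq_sum]
  refine Finset.sum_congr rfl fun f _ => Finset.prod_congr rfl fun r _ => ?_
  simp only [Fin.consEquiv_apply]
  congr 1
  induction r using Fin.lastCases with
  | last => simp
  | cast r => simp

/-- Traces of powers of a comultiplicative matrix are combinations of characters. -/
theorem trace_pow_mem_span [IsAlgClosed k] [CharZero k] {ι : Type} [Fintype ι] [DecidableEq ι]
    {m : ι → ι → A} (hm : IsMatCoalg (k := k) m) (n : ℕ) :
    ((Matrix.of m) ^ (n + 1)).trace ∈ Submodule.span k (chars k A) := by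
  let J := Fin (n + 1) → ι
  let σ : Equiv.Perm J := Equiv.arrowCongr (Equiv.addRight (1 : Fin (n + 1))) (Equiv.refl ι)
  have hσ : ∀ f r, σ f r = f (r + -1) := fun f r => rfl
  let C : Matrix J J k := Matrix.of fun f h => if h = σ f then 1 else 0
  let T : Module.End k (J → k) := LinearMap.funLeft k k σ
  have hTC : Matrix.toLin' C = T := by
    refine LinearMap.ext fun x => funext fun f => ?_
    simp [C, T, Matrix.toLin'_apply, Matrix.mulVec, dotProduct]
  have hT : ∀ N : ℕ, (T ^ N : Module.End k (J → k)) = LinearMap.funLeft k k ⇑(σ ^ N) := by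
    intro N
    induction N with
    | zero => rfl
    | succ N ih =>
      rw [pow_succ, ih, pow_succ', Equiv.Perm.coe_mul, LinearMap.funLeft_comp]
      rfl
  have hss : T.IsSemisimple := by
    have hN : orderOf σ ≠ 0 := (orderOf_pos σ).ne'
    refine Module.End.isSemisimple_of_squarefree_aeval_eq_zero
      (p := Polynomial.X ^ orderOf σ - Polynomial.C 1)
      (Polynomial.separable_X_pow_sub_C (1 : k) (by exact_mod_cast hN) one_ne_zero).squarefree ?_
    rw [map_sub, map_pow, Polynomial.aeval_X, hT, pow_orderOf_eq_one, map_one, map_one, sub_eq_zero]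
    rfl
  obtain ⟨b, l, hb, -, -⟩ := exists_eigen_basis T
  have hbT : ∀ i, T (b i) = l i • b i := fun i => by
    have := hb i
    rw [(Module.End.IsSemisimple.isFinitelySemisimple hss).maxGenEigenspace_eq_eigenspace,
      Module.End.mem_eigenspace_iff] at this
    exact this
  let e : Fin (Module.finrank k (J → k)) ≃ J :=
    Fintype.equivOfCardEq (by simp)
  let b' := b.reindex e
  let Q : Matrix J J k := (Pi.basisFun k J).toMatrix b'
  let P : Matrix J J k := b'.toMatrix (Pi.basisFun k J)
  have hC : C * Q = Q * Matrix.diagonal (fun f => l (e.symm f)) := by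
    ext f h
    rw [Matrix.mul_diagonal]
    have := congrFun (hbT (e.symm h)) f
    simp only [T, LinearMap.funLeft_apply, Pi.smul_apply, smul_eq_mul] at this
    simp only [Q, C, Matrix.mul_apply, Matrix.of_apply, ite_mul, one_mul, zero_mul, Finset.sum_ite_eq',
      Finset.mem_univ, if_true, Module.Basis.toMatrix_apply, Pi.basisFun_repr, b', Module.Basis.reindex_apply]
    rw [this, mul_comm]
  have hpow := hm.pow (n + 1)
  have key := trace_mul_mem_span hpow C Q P
    (Module.Basis.toMatrix_mul_toMatrix_flip _ _) (Module.Basis.toMatrix_mul_toMatrix_flip _ _) _ hC ?_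
  · convert key using 1
    rw [trace_pow_eq_sum, Matrix.trace]
    refine Finset.sum_congr rfl fun f _ => ?_
    rw [Matrix.diag, Matrix.mul_apply, Fintype.sum_eq_single (σ f) fun x hx => by simp [C, hx]]
    simp only [Matrix.map_apply, C, Matrix.of_apply, if_true, map_one, one_mul, hσ]
    refine Fintype.prod_equiv (Equiv.addRight (1 : Fin (n + 1))) _ _ fun r => ?_
    simp
  · ext f h
    rw [Matrix.mul_apply, Matrix.mul_apply, Fintype.sum_eq_single (σ f) fun x hx => by simp [C, hx],
      Fintype.sum_eq_single (σ.symm h) fun x hx => by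
        have : ¬ h = σ x := fun hc => hx (by rw [hc, σ.symm_apply_apply])
        simp [C, this]]
    simp only [Matrix.map_apply, C, Matrix.of_apply, if_true, map_one, one_mul, mul_one, σ.apply_symm_apply, hσ]
    refine (Fintype.prod_equiv (Equiv.addRight (1 : Fin (n + 1))) _ _ fun r => ?_).symm
    have hh : h (r + 1) = σ.symm h r := by
      conv_lhs => rw [← σ.apply_symm_apply h]
      rw [hσ, add_neg_cancel_right]
    simp [hh]

end Chars

end Groth.Agent.H8CharInt
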