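import Mathlib

/-!
# Finiteness of integral closures inside reduced finitely generated algebras (characteristic zero)
-/

set_option autoImplicit false

universe u

noncomputable section

namespace Groth.Agent.H8IntClosure

variable {k : Type u} [Field k] [CharZero k]

theorem finite_of_injective {P B : Type u} [CommRing P] [IsDomain P] [Algebra k P] [IsIntegrallyClosed P]
    [IsNoetherianRing P] [CommRing B] [IsDomain B] [Algebra k B] [Algebra.FiniteType k B] [Algebra P B]
    [IsScalarTower k P B] (hinj : Function.Injective (algebraMap P B)) :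
    Module.Finite P (integralClosure P B) := by
  classical
  haveI : CharZero P := charZero_of_injective_algebraMap (algebraMap k P).injective
  haveI : FaithfulSMul P B := (faithfulSMul_iff_algebraMap_injective P B).mpr hinj
  let K := FractionRing P
  let L := FractionRing B
  letI : Algebra K L := FractionRing.liftAlgebra P L
  haveI : IsScalarTower P K L := FractionRing.isScalarTower_liftAlgebra P L
  haveI : CharZero K := charZero_of_injective_algebraMap (IsFractionRing.injective P K)
  obtain ⟨s, hs⟩ := (inferInstance : Algebra.FiniteType k B).out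
  let Bk : Subalgebra K L := Algebra.adjoin K ((algebraMap B L) '' (s : Set B))
  haveI : Algebra.FiniteType K Bk :=
    (Subalgebra.fg_iff_finiteType _).mp (Subalgebra.fg_def.mpr ⟨_, s.finite_toSet.image _, rfl⟩)
  have hmem : ∀ b : B, algebraMap B L b ∈ Bk := by
    intro b
    have hb : b ∈ Algebra.adjoin k (s : Set B) := hs ▸ trivial
    induction hb using Algebra.adjoin_induction with
    | mem x hx => exact Algebra.subset_adjoin ⟨x, hx, rfl⟩
    | algebraMap c =>
      rw [IsScalarTower.algebraMap_apply k P B, ← IsScalarTower.algebraMap_apply P B L,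
        IsScalarTower.algebraMap_apply P K L]
      exact Subalgebra.algebraMap_mem Bk _
    | add x y _ _ hx hy => rw [map_add]; exact add_mem hx hy
    | mul x y _ _ hx hy => rw [map_mul]; exact mul_mem hx hy
  obtain ⟨𝔪, h𝔪⟩ := Ideal.exists_maximal Bk
  let F := Bk ⧸ 𝔪
  letI : Field F := Ideal.Quotient.field 𝔪
  haveI : Algebra.FiniteType K F :=
    Algebra.FiniteType.of_surjective (Ideal.Quotient.mkₐ K 𝔪) (Ideal.Quotient.mkₐ_surjective K 𝔪)
  haveI : Module.Finite K F := finite_of_finite_type_of_isJacobsonRing K F
  haveI : IsScalarTower P K F := inferInstance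
  let φ : B →+* Bk := (algebraMap B L).codRestrict Bk hmem
  let ψ : B →ₐ[P] F :=
    { toRingHom := (Ideal.Quotient.mk 𝔪).comp φ
      commutes' := fun p => by
        rw [IsScalarTower.algebraMap_apply P K F]
        show Ideal.Quotient.mk 𝔪 (φ (algebraMap P B p)) = Ideal.Quotient.mk 𝔪 (algebraMap K Bk (algebraMap P K p))
        congr 1
        refine Subtype.ext ?_
        show algebraMap B L (algebraMap P B p) = algebraMap K L (algebraMap P K p)
        rw [← IsScalarTower.algebraMap_apply P B L, ← IsScalarTower.algebraMap_apply P K L] }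
  haveI : Module.Finite P (integralClosure P F) := IsIntegralClosure.finite P K F (integralClosure P F)
  haveI : IsNoetherian P (integralClosure P F) := isNoetherian_of_isNoetherianRing_of_finite P _
  let Ψ : integralClosure P B →ₗ[P] integralClosure P F :=
    (ψ.toLinearMap.domRestrict (Subalgebra.toSubmodule (integralClosure P B))).codRestrict
      (Subalgebra.toSubmodule (integralClosure P F)) fun a => a.2.map ψ
  refine Module.Finite.of_injective Ψ ?_
  rw [injective_iff_map_eq_zero]
  intro a ha
  by_contra hne
  have ha' : ψ (a : B) = 0 := congrArg Subtype.val ha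
  have hab : (a : B) ≠ 0 := fun h => hne (Subtype.ext h)
  obtain ⟨r, hr, b, hb⟩ := (IsIntegral.isAlgebraic a.2).exists_nonzero_dvd
    (mem_nonZeroDivisors_of_ne_zero hab)
  have h0 : algebraMap P F r = 0 := by
    rw [← ψ.commutes r, hb, map_mul, ha', zero_mul]
  exact hr ((IsFractionRing.injective P K) (by
    rw [map_zero]
    rw [IsScalarTower.algebraMap_apply P K F] at h0
    exact (algebraMap K F).injective (h0.trans (map_zero _).symm)))

theorem finite_domain {P0 B : Type u} [CommRing P0] [Algebra k P0] [Algebra.FiniteType k P0]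
    [CommRing B] [IsDomain B] [Algebra k B] [Algebra.FiniteType k B] [Algebra P0 B] [IsScalarTower k P0 B] :
    Module.Finite P0 (integralClosure P0 B) := by
  classical
  let R' : Subalgebra k B := (IsScalarTower.toAlgHom k P0 B).range
  haveI : Algebra.FiniteType k R' := Algebra.FiniteType.of_surjective
    (IsScalarTower.toAlgHom k P0 B).rangeRestrict (AlgHom.rangeRestrict_surjective _)
  obtain ⟨n, g, hg, hfin⟩ := exists_finite_inj_algHom_of_fg k R'
  letI : Algebra (MvPolynomial (Fin n) k) B := (R'.val.comp g).toRingHom.toAlgebra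
  haveI : IsScalarTower k (MvPolynomial (Fin n) k) B :=
    IsScalarTower.of_algebraMap_eq fun c => ((R'.val.comp g).commutes c).symm
  haveI := finite_of_injective (k := k) (P := MvPolynomial (Fin n) k) (B := B)
    (Subtype.val_injective.comp hg)
  letI : Algebra (MvPolynomial (Fin n) k) R' := g.toRingHom.toAlgebra
  haveI : IsScalarTower (MvPolynomial (Fin n) k) R' B := IsScalarTower.of_algebraMap_eq fun _ => rfl
  haveI : Module.Finite (MvPolynomial (Fin n) k) R' := hfin
  have himg : ∀ p : MvPolynomial (Fin n) k, ∃ q : P0, algebraMap P0 B q = algebraMap _ B p := fun p => (g p).2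
  have hint : ∀ b : B, IsIntegral P0 b ↔ IsIntegral (MvPolynomial (Fin n) k) b := by
    intro b
    letI : Algebra P0 R' := (IsScalarTower.toAlgHom k P0 B).rangeRestrict.toRingHom.toAlgebra
    haveI : IsScalarTower P0 R' B := IsScalarTower.of_algebraMap_eq fun _ => rfl
    haveI : Algebra.IsIntegral P0 R' := Algebra.IsIntegral.of_surjective (Algebra.ofId P0 R')
      (AlgHom.rangeRestrict_surjective (IsScalarTower.toAlgHom k P0 B))
    haveI : Algebra.IsIntegral (MvPolynomial (Fin n) k) R' := Algebra.IsIntegral.of_finite _ _
    exact ⟨fun h => isIntegral_trans (A := R') b h.tower_top,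
      fun h => isIntegral_trans (A := R') b h.tower_top⟩
  obtain ⟨s, hs⟩ := (inferInstance : Module.Finite (MvPolynomial (Fin n) k)
    (integralClosure (MvPolynomial (Fin n) k) B)).fg_top
  let S : Set (integralClosure P0 B) :=
    Set.range fun a : s => (⟨(a.1 : B), (hint _).mpr a.1.2⟩ : integralClosure P0 B)
  refine ⟨Submodule.fg_def.mpr ⟨S, Set.finite_range _, eq_top_iff.mpr ?_⟩⟩
  suffices h : ∀ b : integralClosure (MvPolynomial (Fin n) k) B,
      (⟨(b : B), (hint _).mpr b.2⟩ : integralClosure P0 B) ∈ Submodule.span P0 S from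
    fun b _ => h ⟨b, (hint _).mp b.2⟩
  intro b
  have hb : b ∈ Submodule.span (MvPolynomial (Fin n) k) (s : Set (integralClosure (MvPolynomial (Fin n) k) B)) :=
    hs ▸ Submodule.mem_top
  induction hb using Submodule.span_induction with
  | mem x hx => exact Submodule.subset_span ⟨⟨x, hx⟩, rfl⟩
  | zero =>
    convert Submodule.zero_mem (Submodule.span P0 S) using 1
    exact Subtype.ext rfl
  | add x y _ _ hx hy =>
    convert Submodule.add_mem _ hx hy using 1
    exact Subtype.ext rfl
  | smul p x _ hx =>
    obtain ⟨q, hq⟩ := himg p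
    convert Submodule.smul_mem _ q hx using 1
    refine Subtype.ext ?_
    show p • (x : B) = q • (x : B)
    rw [Algebra.smul_def, Algebra.smul_def, hq]

/-- The integral closure of a finitely generated algebra in a reduced one is finite. -/
theorem finite_reduced {P0 B : Type u} [CommRing P0] [Algebra k P0] [Algebra.FiniteType k P0]
    [CommRing B] [IsReduced B] [Algebra k B] [Algebra.FiniteType k B] [Algebra P0 B] [IsScalarTower k P0 B] :
    Module.Finite P0 (integralClosure P0 B) := by
  classical
  haveI : IsNoetherianRing B := Algebra.FiniteType.isNoetherianRing k B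
  haveI : IsNoetherianRing P0 := Algebra.FiniteType.isNoetherianRing k P0
  let T := {q : Ideal B // q ∈ minimalPrimes B}
  haveI : Finite T := (minimalPrimes.finite_of_isNoetherianRing B).to_subtype
  haveI : ∀ q : T, q.1.IsPrime := fun q => q.2.1.1
  haveI : ∀ q : T, Algebra.FiniteType k (B ⧸ q.1) := fun q =>
    Algebra.FiniteType.of_surjective (Ideal.Quotient.mkₐ k q.1) (Ideal.Quotient.mkₐ_surjective k q.1)
  haveI : ∀ q : T, Module.Finite P0 (integralClosure P0 (B ⧸ q.1)) := fun q => finite_domain (k := k)
  haveI : IsNoetherian P0 ((q : T) → integralClosure P0 (B ⧸ q.1)) :=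
    isNoetherian_of_isNoetherianRing_of_finite P0 _
  let Φ : integralClosure P0 B →ₗ[P0] ((q : T) → integralClosure P0 (B ⧸ q.1)) :=
    LinearMap.pi fun q =>
      ((Ideal.Quotient.mkₐ P0 q.1).toLinearMap.domRestrict (Subalgebra.toSubmodule (integralClosure P0 B))).codRestrict
        (Subalgebra.toSubmodule (integralClosure P0 (B ⧸ q.1))) fun a => a.2.map (Ideal.Quotient.mkₐ P0 q.1)
  refine Module.Finite.of_injective Φ ?_
  rw [injective_iff_map_eq_zero]
  intro a ha
  refine Subtype.ext ?_
  have : (a : B) ∈ nilradical B := by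
    rw [nilradical_eq_sInf]
    refine Submodule.mem_sInf.mpr fun J hJ => ?_
    haveI : Ideal.IsPrime (J : Ideal B) := hJ
    obtain ⟨q, hq, hqJ⟩ := Ideal.exists_minimalPrimes_le (bot_le : (⊥ : Ideal B) ≤ J)
    exact hqJ (Ideal.Quotient.eq_zero_iff_mem.mp (congrArg Subtype.val (congrFun ha ⟨q, hq⟩)))
  rw [nilradical_eq_zero B] at this
  exact this

end Groth.Agent.H8IntClosure
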