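import Mathlib
import Groth.Agent.Lib.H8CharInt
import Groth.Agent.Lib.H8IntClosure
import Groth.Agent.Lib.H8Cartier

/-!
# Finiteness of the representation ring of a closed subgroup over that of the group
-/

set_option autoImplicit false

universe u

open TensorProduct

noncomputable section

namespace Groth.Agent.H8CharInt

open H8Line Module

section Eig

variable {k : Type u} [Field k] {B : Type u} [CommRing B] [Algebra k B]

/-- Generalized eigenspaces of an algebra endomorphism multiply. -/
theorem mul_mem_maxGen (T : B →ₐ[k] B) {a b : k} {x y : B}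
    (hx : x ∈ Module.End.maxGenEigenspace T.toLinearMap a) (hy : y ∈ Module.End.maxGenEigenspace T.toLinearMap b) :
    x * y ∈ Module.End.maxGenEigenspace T.toLinearMap (a * b) := by
  rw [Module.End.mem_maxGenEigenspace] at hx hy
  obtain ⟨s, hs⟩ := hx
  obtain ⟨t, ht⟩ := hy
  set Da := T.toLinearMap - a • (1 : Module.End k B) with hDa
  set Db := T.toLinearMap - b • (1 : Module.End k B) with hDb
  set D := T.toLinearMap - (a * b) • (1 : Module.End k B) with hD
  suffices ∀ N s t x y, s + t = N → (Da ^ s) x = 0 → (Db ^ t) y = 0 → ∃ e, (D ^ e) (x * y) = 0 from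
    (Module.End.mem_maxGenEigenspace _ _ _).mpr (this _ s t x y rfl hs ht)
  intro N
  induction N with
  | zero =>
    intro s t x y hst hx _
    obtain ⟨rfl, rfl⟩ : s = 0 ∧ t = 0 := by omega
    rw [pow_zero, Module.End.one_apply] at hx
    exact ⟨0, by simp [hx]⟩
  | succ N ih =>
    intro s t x y hst hx hy
    rcases s with _ | s
    · rw [pow_zero, Module.End.one_apply] at hx
      exact ⟨0, by simp [hx]⟩
    rcases t with _ | t
    · rw [pow_zero, Module.End.one_apply] at hy
      exact ⟨0, by simp [hy]⟩
    have hTy : (Db ^ (t + 1)) (T y) = 0 := by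
      have hc : Commute T.toLinearMap (Db ^ (t + 1)) :=
        ((Commute.refl _).sub_right ((Commute.one_right _).smul_right b)).pow_right _
      rw [show T y = T.toLinearMap y from rfl, ← Module.End.mul_apply, ← hc.eq, Module.End.mul_apply, hy, map_zero]
    obtain ⟨e1, h1⟩ := ih s (t + 1) (Da x) (T y) (by omega)
      (by rw [← Module.End.mul_apply, ← pow_succ]; exact hx) hTy
    obtain ⟨e2, h2⟩ := ih (s + 1) t x (Db y) (by omega) hx
      (by rw [← Module.End.mul_apply, ← pow_succ]; exact hy)
    refine ⟨max e1 e2 + 1, ?_⟩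
    have hid : D (x * y) = Da x * T y + a • (x * Db y) := by
      simp only [hD, hDa, hDb, LinearMap.sub_apply, LinearMap.smul_apply, Module.End.one_apply,
        AlgHom.toLinearMap_apply]
      simp only [map_mul, Algebra.smul_def]
      ring
    rw [pow_succ, Module.End.mul_apply, hid, map_add, map_smul,
      Module.End.pow_map_zero_of_le (le_max_left e1 e2) h1, Module.End.pow_map_zero_of_le (le_max_right e1 e2) h2,
      smul_zero, add_zero]

theorem one_mem_maxGen (T : B →ₐ[k] B) : (1 : B) ∈ Module.End.maxGenEigenspace T.toLinearMap (1 : k) :=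
  (Module.End.mem_maxGenEigenspace _ _ _).mpr ⟨1, by simp⟩

theorem pow_le_iSup (T : B →ₐ[k] B) {κ : Type*} (val : κ → k) (G : Submodule k B)
    (hG : G ≤ ⨆ o, Module.End.maxGenEigenspace T.toLinearMap (val o)) :
    ∀ N : ℕ, G ^ N ≤ ⨆ f : Fin N → κ, Module.End.maxGenEigenspace T.toLinearMap (∏ t, val (f t)) := by
  intro N
  induction N with
  | zero =>
    rw [pow_zero, Submodule.one_le]
    refine Submodule.mem_iSup_of_mem (fun i : Fin 0 => i.elim0) ?_
    simpa using one_mem_maxGen T
  | succ N ih =>
    rw [pow_succ']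
    refine (mul_le_mul' hG ih).trans ?_
    simp only [Submodule.iSup_mul, Submodule.mul_iSup]
    refine iSup_le fun f => iSup_le fun o => le_trans ?_ (le_iSup _ (Fin.cons o f : Fin (N + 1) → κ))
    rw [Fin.prod_univ_succ]
    simp only [Fin.cons_zero, Fin.cons_succ]
    exact Submodule.mul_le.mpr fun x hx y hy => mul_mem_maxGen T hx hy

theorem exists_pow_mem {ι : Type*} [Fintype ι] (a : ι → B) (hgen : Algebra.adjoin k (Set.range a) = ⊤) (b : B) :
    ∃ N, b ∈ (Submodule.span k (insert 1 (Set.range a))) ^ N := by
  set G := Submodule.span k (insert 1 (Set.range a)) with hG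
  have h1 : (1 : Submodule k B) ≤ G := Submodule.one_le.mpr (Submodule.subset_span (Set.mem_insert _ _))
  have hmono : ∀ {M N : ℕ}, M ≤ N → G ^ M ≤ G ^ N := fun h => pow_le_pow_right' h1 h
  have hb : b ∈ Algebra.adjoin k (Set.range a) := hgen ▸ trivial
  induction hb using Algebra.adjoin_induction with
  | mem x hx => exact ⟨1, by rw [pow_one]; exact Submodule.subset_span (Set.mem_insert_of_mem _ hx)⟩
  | algebraMap c => exact ⟨0, by rw [pow_zero]; exact Submodule.algebraMap_mem c⟩
  | add x y _ _ hx hy =>
    obtain ⟨M, hM⟩ := hx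
    obtain ⟨N, hN⟩ := hy
    exact ⟨max M N, add_mem (hmono (le_max_left M N) hM) (hmono (le_max_right M N) hN)⟩
  | mul x y _ _ hx hy =>
    obtain ⟨M, hM⟩ := hx
    obtain ⟨N, hN⟩ := hy
    exact ⟨M + N, by rw [pow_add]; exact Submodule.mul_mem_mul hM hN⟩

end Eig

section Symm

open MvPolynomial

theorem esymm_mem_adjoin_psum {R : Type u} [CommRing R] [Algebra ℚ R] (n : ℕ) :
    ∀ j, j ≤ n → MvPolynomial.esymm (Fin n) R j ∈
      Algebra.adjoin R (Set.range fun i : Fin n => MvPolynomial.psum (Fin n) R ((i : ℕ) + 1)) := by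
  intro j
  induction j using Nat.strong_induction_on with
  | _ j ih =>
    intro hj
    rcases Nat.eq_zero_or_pos j with rfl | hpos
    · rw [MvPolynomial.esymm_zero]; exact one_mem _
    have h := MvPolynomial.mul_esymm_eq_sum (Fin n) R j
    have hu : IsUnit (j : R) := by
      rw [← map_natCast (algebraMap ℚ R) j]
      exact (Ne.isUnit (by exact_mod_cast hpos.ne')).map _
    obtain ⟨c, hc⟩ := hu.exists_left_inv
    have hmem : (j : MvPolynomial (Fin n) R) * esymm (Fin n) R j ∈
        Algebra.adjoin R (Set.range fun i : Fin n => MvPolynomial.psum (Fin n) R ((i : ℕ) + 1)) := by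
      rw [h]
      refine mul_mem (pow_mem (neg_mem (one_mem _)) _) (Subalgebra.sum_mem _ fun a ha => ?_)
      obtain ⟨ha1, ha2⟩ := Finset.mem_filter.mp ha
      have ha3 : a.1 + a.2 = j := Finset.HasAntidiagonal.mem_antidiagonal.mp ha1
      refine mul_mem (mul_mem (pow_mem (neg_mem (one_mem _)) _) (ih a.1 ha2 (by omega))) ?_
      exact Algebra.subset_adjoin ⟨⟨a.2 - 1, by omega⟩, by simp only; congr 1; omega⟩
    have : esymm (Fin n) R j = C c * ((j : MvPolynomial (Fin n) R) * esymm (Fin n) R j) := by
      rw [← mul_assoc, ← map_natCast (C (σ := Fin n) (R := R)) j, ← map_mul, hc, map_one, one_mul]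
    rw [this]
    exact mul_mem (Subalgebra.algebraMap_mem _ c) hmem

theorem symmetric_mem_range {R : Type u} [CommRing R] [Algebra ℚ R] {n : ℕ} {c : MvPolynomial (Fin n) R}
    (hc : c.IsSymmetric) :
    c ∈ (MvPolynomial.aeval (R := R) fun i : Fin n => MvPolynomial.psum (Fin n) R ((i : ℕ) + 1)).range := by
  rw [← Algebra.adjoin_range_eq_range_aeval R]
  obtain ⟨q, hq⟩ := MvPolynomial.esymmAlgHom_surjective (σ := Fin n) (R := R) (n := n) (by simp) ⟨c, hc⟩
  have h := congrArg Subtype.val hq
  rw [MvPolynomial.esymmAlgHom_apply] at h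
  simp only at h
  rw [← h]
  have hle : (MvPolynomial.aeval fun i : Fin n => MvPolynomial.esymm (Fin n) R ((i : ℕ) + 1)).range ≤
      Algebra.adjoin R (Set.range fun i : Fin n => MvPolynomial.psum (Fin n) R ((i : ℕ) + 1)) := by
    rw [← Algebra.adjoin_range_eq_range_aeval R, Algebra.adjoin_le_iff]
    rintro _ ⟨i, rfl⟩
    exact esymm_mem_adjoin_psum n _ (by omega)
  exact hle ⟨q, rfl⟩

end Symm

section Translation

variable {k : Type u} [Field k] {B : Type u} [CommRing B] [Bialgebra k B]

/-- Translation by a point. -/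
def trans (g : B →ₐ[k] k) : B →ₐ[k] B :=
  (Algebra.TensorProduct.rid k k B).toAlgHom.comp
    ((Algebra.TensorProduct.map (AlgHom.id k B) g).comp (Bialgebra.comulAlgHom k B))

theorem trans_apply {ι : Type*} [Fintype ι] [DecidableEq ι] {m : ι → ι → B} (hm : IsMatCoalg (k := k) m)
    (g : B →ₐ[k] k) (i j : ι) : trans g (m i j) = ∑ l, g (m l j) • m i l := by
  simp [trans, hm.comul, map_sum]

theorem counit_trans (g : B →ₐ[k] k) (b : B) : Bialgebra.counitAlgHom k B (trans g b) = g b := by
  have h : ∀ z : B ⊗[k] B, Bialgebra.counitAlgHom k B ((Algebra.TensorProduct.rid k k B)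
      (Algebra.TensorProduct.map (AlgHom.id k B) g z)) =
      g (TensorProduct.lid k B ((CoalgebraStruct.counit (R := k) (A := B)).rTensor B z)) := by
    intro z
    induction z using TensorProduct.induction_on with
    | zero => simp
    | tmul a c => simp [mul_comm]
    | add p q hp hq => simp only [map_add, hp, hq]
  show Bialgebra.counitAlgHom k B ((Algebra.TensorProduct.rid k k B)
    (Algebra.TensorProduct.map (AlgHom.id k B) g (Coalgebra.comul (R := k) b))) = g b
  rw [h, Coalgebra.rTensor_counit_comul]
  simp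

variable [IsAlgClosed k]

/-- Eigenvalues of representations are monomials in the eigenvalues of a generating representation. -/
theorem trace_eq_sum_monomials {n : ℕ} {m : Fin n → Fin n → B} (hm : IsMatCoalg (k := k) m)
    (g : B →ₐ[k] k) :
    ∃ l : Fin n → k, (∀ e : ℕ, ((Matrix.of fun i j => g (m i j)) ^ e).trace = ∑ i, l i ^ e) ∧
      ∀ {d : ℕ} (q : Fin d → Fin d → B), IsMatCoalg (k := k) q → ∀ N : ℕ,
        (∀ i j, q i j ∈ (Submodule.span k (insert (1 : B) (Set.range fun p : Fin n × Fin n => m p.1 p.2))) ^ N) →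
        ∃ F : Fin d → Fin N → Option (Fin n), g (∑ i, q i i) = ∑ r, ∏ t, (F r t).elim 1 l := by
  classical
  let T := trans g
  let M : Module.End k (Fin n → k) := Matrix.toLin' (Matrix.of fun i j => g (m i j))
  obtain ⟨b, l0, hb, -, htr⟩ := exists_eigen_basis M
  have hfr : Module.finrank k (Fin n → k) = n := Module.finrank_fin_fun k
  let l : Fin n → k := fun i => l0 (i.cast hfr.symm)
  refine ⟨l, fun e => ?_, fun {d} q hq N hN => ?_⟩
  · rw [← Matrix.trace_toLin'_eq, Matrix.toLin'_pow]
    exact (htr e).trans ((finCongr hfr.symm).sum_comp fun i => l0 i ^ e).symm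
  have hG : Submodule.span k (insert (1 : B) (Set.range fun p : Fin n × Fin n => m p.1 p.2)) ≤
      ⨆ o : Option (Fin n), Module.End.maxGenEigenspace T.toLinearMap (o.elim 1 l) := by
    rw [Submodule.span_le]
    rintro x (rfl | ⟨⟨i, j⟩, rfl⟩)
    · exact Submodule.mem_iSup_of_mem none (one_mem_maxGen T)
    let φ : (Fin n → k) →ₗ[k] B := ∑ j, (LinearMap.proj j).smulRight (m i j)
    have hφ : ∀ c, φ c = ∑ j, c j • m i j := fun c => by simp [φ, LinearMap.sum_apply]
    have hint : T.toLinearMap ∘ₗ φ = φ ∘ₗ M := by
      refine LinearMap.ext fun c => ?_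
      simp only [LinearMap.comp_apply, hφ, AlgHom.toLinearMap_apply, map_sum, map_smul, T, trans_apply hm,
        M, Matrix.toLin'_apply, Matrix.mulVec, dotProduct, Matrix.of_apply, Finset.smul_sum, smul_smul,
        Finset.sum_smul]
      rw [Finset.sum_comm]
      exact Finset.sum_congr rfl fun l _ => Finset.sum_congr rfl fun j _ => by rw [mul_comm]
    have hmap : ∀ μ c, c ∈ M.maxGenEigenspace μ → φ c ∈ Module.End.maxGenEigenspace T.toLinearMap μ := by
      intro μ c hc
      obtain ⟨e, he⟩ := (Module.End.mem_maxGenEigenspace _ _ _).mp hc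
      refine (Module.End.mem_maxGenEigenspace _ _ _).mpr ⟨e, ?_⟩
      have hpow : ∀ (e : ℕ) c, ((T.toLinearMap - μ • 1) ^ e) (φ c) = φ (((M - μ • 1) ^ e) c) := by
        intro e
        induction e with
        | zero => intro c; rfl
        | succ e ih =>
          intro c
          rw [pow_succ, Module.End.mul_apply, pow_succ (M - μ • 1), Module.End.mul_apply, ← ih]
          congr 1
          have := LinearMap.congr_fun hint c
          simp only [LinearMap.comp_apply] at this
          simp [this]
      rw [hpow, he, map_zero]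
    have hx : m i j = φ (Pi.single j 1) := by
      rw [hφ]; simp [Pi.single_apply]
    show m i j ∈ _
    rw [hx, ← b.sum_repr (Pi.single j (1 : k)), map_sum]
    refine Submodule.sum_mem _ fun r _ => ?_
    rw [map_smul]
    refine Submodule.smul_mem _ _ (Submodule.mem_iSup_of_mem (some (r.cast hfr)) ?_)
    simpa [l] using hmap _ _ (hb r)
  let W : Module.End k (Fin d → k) := Matrix.toLin' (Matrix.of fun i j => g (q i j))
  obtain ⟨bw, μ, -, hμ, htrW⟩ := exists_eigen_basis W
  have hmono : ∀ r, ∃ f : Fin N → Option (Fin n), μ r = ∏ t, (f t).elim 1 l := by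
    intro r
    by_contra hno
    push Not at hno
    obtain ⟨w, hw⟩ := (hμ r).exists_hasEigenvector
    let y : Fin d → B := fun i => ∑ j, w j • q i j
    have hTy : ∀ i, T (y i) = μ r • y i := by
      intro i
      have h1 : ∀ j, (∑ s, g (q j s) * w s) = μ r * w j := fun j => by
        have := congrFun hw.apply_eq_smul j
        simpa [W, Matrix.toLin'_apply, Matrix.mulVec, dotProduct] using this
      simp only [y, map_sum, map_smul, T, trans_apply hq, Finset.smul_sum, smul_smul]
      rw [Finset.sum_comm]
      refine Finset.sum_congr rfl fun s _ => ?_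
      rw [← h1 s, Finset.sum_smul]
      exact Finset.sum_congr rfl fun j _ => by rw [mul_comm]
    have hyN : ∀ i, y i ∈ (Submodule.span k (insert (1 : B) (Set.range fun p : Fin n × Fin n => m p.1 p.2))) ^ N :=
      fun i => Submodule.sum_mem _ fun j _ => Submodule.smul_mem _ _ (hN i j)
    have hy0 : ∀ i, y i = 0 := by
      intro i
      have hdis := (Module.End.independent_maxGenEigenspace T.toLinearMap).disjoint_biSup
        (x := μ r) (y := Set.range fun f : Fin N → Option (Fin n) => ∏ t, (f t).elim 1 l)
        (fun ⟨f, hf⟩ => hno f hf.symm)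
      rw [iSup_range] at hdis
      refine Submodule.disjoint_def.mp hdis (y i) ?_ (pow_le_iSup T _ _ hG N (hyN i))
      exact (Module.End.mem_maxGenEigenspace _ _ _).mpr ⟨1, by simp [hTy i]⟩
    refine hw.2 (funext fun i => ?_)
    have h := congrArg (Bialgebra.counitAlgHom k B) (hy0 i)
    simpa [y, map_sum, hq.counit] using h
  choose F hF using hmono
  have hfrd : Module.finrank k (Fin d → k) = d := Module.finrank_fin_fun k
  refine ⟨fun r => F (r.cast hfrd.symm), ?_⟩
  have h := htrW 1
  simp only [pow_one, W, Matrix.trace_toLin'_eq, Matrix.trace, Matrix.diag, Matrix.of_apply] at h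
  rw [map_sum, h, ← (finCongr hfrd.symm).sum_comp]
  exact Finset.sum_congr rfl fun r _ => hF _

end Translation

section Universal

open MvPolynomial

variable (k : Type u) [Field k] (n : ℕ)

/-- The value of an index. -/
def valX (o : Option (Fin n)) : MvPolynomial (Fin n) k := o.elim 1 X

/-- The universal polynomial annihilating a sum of `d` monomials of degree at most `N`. -/
def univPoly (d N : ℕ) : Polynomial (MvPolynomial (Fin n) k) :=
  ∏ F : Fin d → Fin N → Option (Fin n), (Polynomial.X - Polynomial.C (∑ r, ∏ t, valX k n (F r t)))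

theorem univPoly_monic (d N : ℕ) : (univPoly k n d N).Monic :=
  Polynomial.monic_prod_of_monic _ _ fun _ _ => Polynomial.monic_X_sub_C _

theorem univPoly_symm (d N e : ℕ) : ((univPoly k n d N).coeff e).IsSymmetric := by
  intro σ
  have h : (univPoly k n d N).map (rename σ : MvPolynomial (Fin n) k →ₐ[k] _).toRingHom = univPoly k n d N := by
    rw [univPoly, Polynomial.map_prod]
    refine Fintype.prod_equiv
      ((Equiv.arrowCongr (Equiv.refl (Fin d)) (Equiv.arrowCongr (Equiv.refl (Fin N)) (Equiv.optionCongr σ)))) _ _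
      fun F => ?_
    rw [Polynomial.map_sub, Polynomial.map_X, Polynomial.map_C]
    congr 2
    simp only [AlgHom.toRingHom_eq_coe, RingHom.coe_coe, map_sum, map_prod]
    refine Finset.sum_congr rfl fun r _ => Finset.prod_congr rfl fun t _ => ?_
    rcases hF : F r t with _ | i <;> simp [valX, hF]
  have := congrArg (Polynomial.coeff · e) h
  simpa [Polynomial.coeff_map] using this

end Universal

section Main

variable {k : Type u} [Field k] [IsAlgClosed k] [CharZero k] {B : Type u} [CommRing B] [Bialgebra k B]
  [Algebra.FiniteType k B] [IsReduced B]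

/-- The invariants of a generating representation. -/
def powTraces {n : ℕ} (m : Fin n → Fin n → B) : MvPolynomial (Fin n) k →ₐ[k] B :=
  MvPolynomial.aeval fun i : Fin n => ((Matrix.of m) ^ ((i : ℕ) + 1)).trace

theorem isIntegral_char {n : ℕ} {m : Fin n → Fin n → B} (hm : IsMatCoalg (k := k) m)
    (hgen : Algebra.adjoin k (Set.range fun p : Fin n × Fin n => m p.1 p.2) = ⊤)
    {d : ℕ} {q : Fin d → Fin d → B} (hq : IsMatCoalg (k := k) q) :
    (powTraces (k := k) m).toRingHom.IsIntegralElem (∑ i, q i i) := by
  classical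
  choose N hN using fun p : Fin d × Fin d => exists_pow_mem _ hgen (q p.1 p.2)
  set G := Submodule.span k (insert (1 : B) (Set.range fun p : Fin n × Fin n => m p.1 p.2)) with hG
  have h1 : (1 : Submodule k B) ≤ G := Submodule.one_le.mpr (Submodule.subset_span (Set.mem_insert _ _))
  let N0 := Finset.univ.sup N
  have hN0 : ∀ i j, q i j ∈ G ^ N0 := fun i j =>
    pow_le_pow_right' h1 (Finset.le_sup (f := N) (Finset.mem_univ (i, j))) (hN (i, j))
  let P := univPoly k n d N0
  have hlifts : P ∈ Polynomial.lifts
      (MvPolynomial.aeval (R := k) fun i : Fin n => MvPolynomial.psum (Fin n) k ((i : ℕ) + 1)).toRingHom := by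
    refine (Polynomial.lifts_iff_coeff_lifts P).mpr fun e => ?_
    haveI : Algebra ℚ k := inferInstance
    obtain ⟨q', hq'⟩ := symmetric_mem_range (univPoly_symm k n d N0 e)
    exact ⟨q', hq'⟩
  obtain ⟨Q, hQ, -, hQm⟩ := Polynomial.lifts_and_degree_eq_and_monic hlifts (univPoly_monic k n d N0)
  refine ⟨Q, hQm, ?_⟩
  obtain ⟨e, he⟩ : IsNilpotent (Q.eval₂ (powTraces (k := k) m).toRingHom (∑ i, q i i)) := by
    refine H8AffDim.isNilpotent_of_points (k := k) fun g => ?_
    obtain ⟨l, hl, hmono⟩ := trace_eq_sum_monomials hm g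
    obtain ⟨F, hF⟩ := hmono q hq N0 hN0
    have hcomp : g.toRingHom.comp (powTraces (k := k) m).toRingHom =
        ((MvPolynomial.aeval l).comp
          (MvPolynomial.aeval (R := k) fun i : Fin n => MvPolynomial.psum (Fin n) k ((i : ℕ) + 1))).toRingHom := by
      refine congrArg AlgHom.toRingHom (?_ : g.comp (powTraces (k := k) m) = _)
      refine MvPolynomial.algHom_ext fun i => ?_
      simp only [powTraces, AlgHom.comp_apply, MvPolynomial.aeval_X]
      rw [AddMonoidHom.map_trace g]
      have hpow : ((Matrix.of m) ^ ((i : ℕ) + 1)).map g = (Matrix.of fun a b => g (m a b)) ^ ((i : ℕ) + 1) := by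
        rw [← AlgHom.mapMatrix_apply, map_pow]
        rfl
      rw [hpow, hl]
      simp [MvPolynomial.psum]
    show g.toRingHom _ = 0
    rw [Polynomial.hom_eval₂, hcomp]
    have h2 : Q.eval₂ ((MvPolynomial.aeval l).comp
        (MvPolynomial.aeval (R := k) fun i : Fin n => MvPolynomial.psum (Fin n) k ((i : ℕ) + 1))).toRingHom
        (g (∑ i, q i i)) = P.eval₂ (MvPolynomial.aeval l).toRingHom (g (∑ i, q i i)) := by
      conv_rhs => rw [← hQ, Polynomial.eval₂_map]
      rfl
    refine h2.trans ?_
    rw [show P = univPoly k n d N0 from rfl, univPoly, Polynomial.eval₂_finsetProd]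
    refine Finset.prod_eq_zero (Finset.mem_univ F) ?_
    rw [Polynomial.eval₂_sub, Polynomial.eval₂_X, Polynomial.eval₂_C, hF, sub_eq_zero]
    simp only [AlgHom.toRingHom_eq_coe, RingHom.coe_coe, map_sum, map_prod]
    refine Finset.sum_congr rfl fun r _ => Finset.prod_congr rfl fun t _ => ?_
    rcases F r t with _ | i <;> simp [valX]
  exact eq_zero_of_pow_eq_zero he

end Main

section Reduced

open AlgebraicGeometry CategoryTheory

/-- Cartier's theorem for Hopf algebras. -/
theorem isReduced_hopf (k : Type u) [Field k] [IsAlgClosed k] [CharZero k] (B : Type u) [CommRing B]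
    [HopfAlgebra k B] [Algebra.FiniteType k B] : _root_.IsReduced B := by
  let R : CommRingCat := CommRingCat.of k
  let S : CommRingCat := CommRingCat.of B
  letI : GrpObj (Over.mk (Spec S ↘ Spec R)) := instGrpObjSpecAsOverSpec
  haveI : LocallyOfFiniteType (Spec S ↘ Spec R) := locallyOfFiniteType_specOverSpec
  haveI : AlgebraicGeometry.IsReduced (Spec S) := H8Cartier.isReduced_of_isAlgClosed (Spec S ↘ Spec R)
  exact isReduced_of_injective (Scheme.ΓSpecIso S).inv.hom
    ((Scheme.ΓSpecIso S).commRingCatIsoToRingEquiv.symm.injective)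

end Reduced

section Final

variable {k : Type u} [Field k] [IsAlgClosed k] [CharZero k]

/-- The characters of a closed subgroup form a finite module over the restricted characters. -/
theorem exists_finset_chars {A B : Type u} [CommRing A] [HopfAlgebra k A] [Algebra.FiniteType k A]
    [CommRing B] [HopfAlgebra k B] [Algebra.FiniteType k B] (π : A →ₐc[k] B) (hπ : Function.Surjective π) :
    ∃ F : Finset B, (F : Set B) ⊆ chars k B ∧
      (Submodule.span k (chars k B) : Set B) ⊆ Submodule.span (Algebra.adjoin k (π '' chars k A)) (F : Set B) := by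
  classical
  haveI := isReduced_hopf k B
  -- a generating representation
  obtain ⟨s, hs⟩ := (inferInstance : Algebra.FiniteType k A).out
  choose U hUfin hUmem hUsub using fun a : A => H8Comod.exists_finite_mem (k := k) (C := A) a
  haveI := hUfin
  let W : Submodule k A := ⨆ a : s, U a
  haveI : Module.Finite k W := Submodule.finite_iSup _
  have hW : HopfRep.IsSubcomod (k := k) (A := A) W := H8Comod.isSubcomod_iSup fun a => hUsub a
  let b := Module.finBasis k W
  obtain ⟨L, hL⟩ := LinearMap.exists_leftInverse_of_injective (K := k) W.subtype W.ker_subtype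
  let w : Fin (Module.finrank k W) → A := fun i => ((b i : W) : A)
  have hspan : Submodule.span k (Set.range w) = W := by
    rw [show Set.range w = W.subtype '' Set.range b from (Set.range_comp' W.subtype b), ← Submodule.map_span,
      b.span_eq, Submodule.map_top, Submodule.range_subtype]
  obtain ⟨m, hm, hdec⟩ := exists_matCoalg (A := A) w (fun i => b.coord i ∘ₗ L)
    (fun i j => by
      rw [LinearMap.comp_apply, show L (w j) = b j from LinearMap.congr_fun hL (b j), Module.Basis.coord_apply,
        Module.Basis.repr_self, Finsupp.single_apply]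
      simp only [eq_comm])
    (fun j => by rw [hspan]; exact hW _ (b j).2)
  let n := Module.finrank k W
  let πa : A →ₐ[k] B := (π : A →ₐ[k] B)
  let mB : Fin n → Fin n → B := fun i j => πa (m i j)
  have hmB : IsMatCoalg (k := k) mB := by
    refine ⟨fun i j => ?_, fun i j => ?_⟩
    · show Coalgebra.comul (R := k) (π (m i j)) = _
      rw [← CoalgHomClass.map_comp_comul_apply π, hm.comul, map_sum]
      rfl
    · exact (CoalgHomClass.counit_comp_apply π (m i j)).trans (hm.counit i j)
  have hgenA : Algebra.adjoin k (Set.range fun p : Fin n × Fin n => m p.1 p.2) = ⊤ := by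
    rw [eq_top_iff, ← hs, Algebra.adjoin_le_iff]
    intro t ht
    have htW : t ∈ W := le_iSup (fun a : s => U a) ⟨t, ht⟩ (hUmem t)
    rw [← hspan] at htW
    have hle : Submodule.span k (Set.range w) ≤
        Subalgebra.toSubmodule (Algebra.adjoin k (Set.range fun p : Fin n × Fin n => m p.1 p.2)) := by
      rw [Submodule.span_le]
      rintro _ ⟨j, rfl⟩
      have h := congrArg (fun z => TensorProduct.lid k A ((Coalgebra.counit (R := k)).rTensor A z)) (hdec j)
      simp only [map_sum, LinearMap.rTensor_tmul, TensorProduct.lid_tmul] at h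
      rw [show HopfRep.Comod.coact (k := k) (A := A) (w j) = Coalgebra.comul (R := k) (w j) from rfl,
        Coalgebra.rTensor_counit_comul, TensorProduct.lid_tmul, one_smul] at h
      show w j ∈ _
      rw [h]
      exact sum_mem fun i _ => Submodule.smul_mem _ _ (Algebra.subset_adjoin ⟨(i, j), rfl⟩)
    exact hle htW
  have hgen : Algebra.adjoin k (Set.range fun p : Fin n × Fin n => mB p.1 p.2) = ⊤ := by
    rw [show (Set.range fun p : Fin n × Fin n => mB p.1 p.2) = πa '' Set.range (fun p : Fin n × Fin n => m p.1 p.2) from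
      Set.range_comp' πa _, Algebra.adjoin_image, hgenA, Algebra.map_top]
    exact (AlgHom.range_eq_top πa).mpr hπ
  -- finiteness
  letI : Algebra (MvPolynomial (Fin n) k) B := (powTraces (k := k) mB).toRingHom.toAlgebra
  haveI : IsScalarTower k (MvPolynomial (Fin n) k) B :=
    IsScalarTower.of_algebraMap_eq fun c => ((powTraces (k := k) mB).commutes c).symm
  haveI := H8IntClosure.finite_reduced (k := k) (P0 := MvPolynomial (Fin n) k) (B := B)
  have hint : ∀ x ∈ chars k B, x ∈ integralClosure (MvPolynomial (Fin n) k) B := by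
    rintro _ ⟨⟨d, c⟩, rfl⟩
    obtain ⟨q, hq, hqdec⟩ := @exists_matCoalg k _ B _ _ (Fin d) _ _ (Fin d → k) _ _ c
      (fun i => Pi.single i (1 : k)) (fun i => LinearMap.proj i) (fun i j => by simp [Pi.single_apply])
      (fun j => by
        rw [show (Set.range fun i => (Pi.single i (1 : k) : Fin d → k)) = Set.range (Pi.basisFun k (Fin d)) by
          ext; simp, (Pi.basisFun k (Fin d)).span_eq]
        obtain ⟨z, hz⟩ := LinearMap.rTensor_surjective B (g := (⊤ : Submodule k (Fin d → k)).subtype)
          (fun x => ⟨⟨x, trivial⟩, rfl⟩) (@HopfRep.Comod.coact k B _ _ _ _ (Fin d → k) _ _ c (Pi.single j 1))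
        exact ⟨z, hz⟩)
    show IsIntegral (MvPolynomial (Fin n) k) _
    have h : (∑ i : Fin d, TensorProduct.lid k B (LinearMap.rTensor B (LinearMap.proj i)
        (@HopfRep.Comod.coact k B _ _ _ _ (Fin d → k) _ _ c (Pi.single i 1)))) = ∑ i, q i i := by
      simp [hqdec, Pi.single_apply]
    rw [show (fun p : (Σ d : ℕ, HopfRep.Comod k B (Fin d → k)) =>
      ∑ i : Fin p.1, TensorProduct.lid k B (LinearMap.rTensor B (LinearMap.proj i)
        (@HopfRep.Comod.coact k B _ _ _ _ (Fin p.1 → k) _ _ p.2 (Pi.single i 1)))) ⟨d, c⟩ = ∑ i, q i i from h]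
    exact isIntegral_char hmB hgen hq
  haveI : IsNoetherian (MvPolynomial (Fin n) k) (integralClosure (MvPolynomial (Fin n) k) B) :=
    isNoetherian_of_isNoetherianRing_of_finite _ _
  have hfg : (Submodule.span (MvPolynomial (Fin n) k) (chars k B)).FG := by
    have hle : Submodule.span (MvPolynomial (Fin n) k) (chars k B) ≤
        Subalgebra.toSubmodule (integralClosure (MvPolynomial (Fin n) k) B) := Submodule.span_le.mpr hint
    haveI := isNoetherian_of_le (R := MvPolynomial (Fin n) k) hle
    exact (isNoetherian_submodule.mp inferInstance) _ le_rfl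
  obtain ⟨F, hF, hFspan⟩ := (Submodule.fg_span_iff_fg_span_finset_subset _).mp hfg
  refine ⟨F, hF, ?_⟩
  set R0 := Algebra.adjoin k (π '' chars k A) with hR0
  have hR : ∀ p : MvPolynomial (Fin n) k, powTraces (k := k) mB p ∈ R0 := by
    intro p
    have hle : (powTraces (k := k) mB).range ≤ R0 := by
      rw [powTraces, ← Algebra.adjoin_range_eq_range_aeval k, Algebra.adjoin_le_iff]
      rintro _ ⟨i, rfl⟩
      have h1 : ((Matrix.of mB) ^ ((i : ℕ) + 1)).trace = πa ((Matrix.of m) ^ ((i : ℕ) + 1)).trace := by
        rw [AddMonoidHom.map_trace πa, ← AlgHom.mapMatrix_apply, map_pow]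
        rfl
      show ((Matrix.of mB) ^ ((i : ℕ) + 1)).trace ∈ R0
      rw [h1]
      have h2 := trace_pow_mem_span hm (i : ℕ)
      have h3 : Submodule.span k (chars k A) ≤ (Subalgebra.toSubmodule R0).comap πa.toLinearMap :=
        Submodule.span_le.mpr fun x hx => Algebra.subset_adjoin ⟨x, hx, rfl⟩
      exact h3 h2
    exact hle ⟨p, rfl⟩
  have key : ∀ x ∈ Submodule.span (MvPolynomial (Fin n) k) (F : Set B), x ∈ Submodule.span R0 (F : Set B) := by
    intro x hx
    induction hx using Submodule.span_induction with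
    | mem x hx => exact Submodule.subset_span hx
    | zero => exact Submodule.zero_mem _
    | add x y _ _ hx hy => exact Submodule.add_mem _ hx hy
    | smul p x _ hx =>
      have : p • x = (⟨powTraces (k := k) mB p, hR p⟩ : R0) • x := rfl
      rw [this]
      exact Submodule.smul_mem _ _ hx
  intro x hx
  refine key x (hFspan ▸ ?_)
  exact Submodule.span_le_restrictScalars k (MvPolynomial (Fin n) k) (chars k B) hx

end Final

end Groth.Agent.H8CharInt
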