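import Mathlib
import Groth.Agent.Lib.H8Hopf

/-!
# Averaging approximate homomorphisms of Hopf algebras

If `A` carries an invariant functional modulo an ideal `I` (which is the case for groups of
multiplicative type), a map `C → A` which is a homomorphism of bialgebras modulo `K` can be
corrected into one modulo `K * I + K * K`.
-/

set_option autoImplicit false

universe u v

open TensorProduct WithConv

namespace Groth.Agent.H8MultCore

variable {R : Type u} [CommRing R]

lemma map_smul_top_mem {M N : Type*} [AddCommGroup M] [Module R M] [AddCommGroup N] [Module R N]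
    (K : Ideal R) (f : M →ₗ[R] N) {x : M} (hx : x ∈ K • (⊤ : Submodule R M)) :
    f x ∈ K • (⊤ : Submodule R N) := by
  have h : (K • (⊤ : Submodule R M)).map f ≤ K • (⊤ : Submodule R N) := by
    rw [Submodule.map_smul'']
    exact Submodule.smul_mono le_rfl le_top
  exact h ⟨x, hx, rfl⟩

/-- A linear map which is zero modulo `I` improves divisibility by `I`. -/
lemma map_smul_top_mem_mul {M N : Type*} [AddCommGroup M] [Module R M] [AddCommGroup N] [Module R N]
    (K I : Ideal R) (f : M →ₗ[R] N) (hf : ∀ x, f x ∈ I • (⊤ : Submodule R N)) {x : M}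
    (hx : x ∈ K • (⊤ : Submodule R M)) : f x ∈ (K * I) • (⊤ : Submodule R N) := by
  refine Submodule.smul_induction_on hx (fun r hr m _ => ?_) fun y z hy hz => ?_
  · rw [map_smul, Submodule.mul_smul]
    exact Submodule.smul_mem_smul hr (hf m)
  · rw [map_add]; exact add_mem hy hz

lemma mul_mem_smul_top {S : Type*} [CommRing S] [Algebra R S] {K L : Ideal R} {x y : S}
    (hx : x ∈ K • (⊤ : Submodule R S)) (hy : y ∈ L • (⊤ : Submodule R S)) :
    x * y ∈ (K * L) • (⊤ : Submodule R S) := by
  refine Submodule.smul_induction_on hx (fun r hr m _ => ?_) fun p q hp hq => ?_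
  · refine Submodule.smul_induction_on hy (fun s hs n _ => ?_) fun p q hp hq => ?_
    · rw [smul_mul_smul_comm]
      exact Submodule.smul_mem_smul (Ideal.mul_mem_mul hr hs) trivial
    · rw [mul_add]; exact add_mem hp hq
  · rw [add_mul]; exact add_mem hp hq

lemma smul_top_mono {M : Type*} [AddCommGroup M] [Module R M] {K L : Ideal R} (h : K ≤ L) {x : M}
    (hx : x ∈ K • (⊤ : Submodule R M)) : x ∈ L • (⊤ : Submodule R M) :=
  Submodule.smul_mono_left h hx

lemma mem_map_iff {S : Type*} [CommRing S] [Algebra R S] (K : Ideal R) (x : S) :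
    x ∈ K.map (algebraMap R S) ↔ x ∈ K • (⊤ : Submodule R S) := by
  rw [Ideal.smul_top_eq_map, Submodule.restrictScalars_mem]

/-- Composition with an algebra map is multiplicative for convolution. -/
lemma comp_convMul {C S T : Type*} [CommRing C] [Bialgebra R C] [CommRing S] [Algebra R S] [CommRing T]
    [Algebra R T] (q : S →ₐ[R] T) (f g : WithConv (C →ₐ[R] S)) :
    toConv (q.comp (f * g).ofConv) = toConv (q.comp f.ofConv) * toConv (q.comp g.ofConv) := by
  refine WithConv.ofConv_injective (AlgHom.ext fun c => ?_)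
  show q (Algebra.TensorProduct.lmul' R (Algebra.TensorProduct.map f.ofConv g.ofConv
      (CoalgebraStruct.comul (R := R) c))) =
    Algebra.TensorProduct.lmul' R (Algebra.TensorProduct.map (q.comp f.ofConv) (q.comp g.ofConv)
      (CoalgebraStruct.comul (R := R) c))
  generalize CoalgebraStruct.comul (R := R) c = z
  induction z using TensorProduct.induction_on with
  | zero => simp
  | tmul a b => simp
  | add a b ha hb => simp only [map_add, ha, hb]

/-- The convolution inverse, for maps into an arbitrary commutative algebra. -/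
noncomputable def cinv {C S : Type*} [CommRing C] [HopfAlgebra R C] [CommRing S] [Algebra R S]
    (f : WithConv (C →ₐ[R] S)) : WithConv (C →ₐ[R] S) :=
  toConv (f.ofConv.comp (HopfAlgebra.antipodeAlgHom R C))

lemma cinv_mul {C S : Type*} [CommRing C] [HopfAlgebra R C] [CommRing S] [Algebra R S]
    (f : WithConv (C →ₐ[R] S)) : cinv f * f = 1 := by
  refine WithConv.ofConv_injective (AlgHom.ext fun c => ?_)
  show Algebra.TensorProduct.lmul' R (Algebra.TensorProduct.map (f.ofConv.comp (HopfAlgebra.antipodeAlgHom R C))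
    f.ofConv (CoalgebraStruct.comul (R := R) c)) = algebraMap R S (CoalgebraStruct.counit (R := R) c)
  rw [← f.ofConv.commutes, ← HopfAlgebra.mul_antipode_rTensor_comul_apply (R := R) (A := C)]
  generalize CoalgebraStruct.comul (R := R) c = z
  induction z using TensorProduct.induction_on with
  | zero => simp
  | tmul a b => simp
  | add a b ha hb => simp only [map_add, ha, hb]

lemma mul_cinv {C S : Type*} [CommRing C] [HopfAlgebra R C] [CommRing S] [Algebra R S]
    (f : WithConv (C →ₐ[R] S)) : f * cinv f = 1 := by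
  refine WithConv.ofConv_injective (AlgHom.ext fun c => ?_)
  show Algebra.TensorProduct.lmul' R (Algebra.TensorProduct.map f.ofConv
    (f.ofConv.comp (HopfAlgebra.antipodeAlgHom R C))
    (CoalgebraStruct.comul (R := R) c)) = algebraMap R S (CoalgebraStruct.counit (R := R) c)
  rw [← f.ofConv.commutes, ← HopfAlgebra.mul_antipode_lTensor_comul_apply (R := R) (A := C)]
  generalize CoalgebraStruct.comul (R := R) c = z
  induction z using TensorProduct.induction_on with
  | zero => simp
  | tmul a b => simp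
  | add a b ha hb => simp only [map_add, ha, hb]

lemma comp_convInv {C S T : Type*} [CommRing C] [HopfAlgebra R C] [CommRing S] [Algebra R S] [CommRing T]
    [Algebra R T] (q : S →ₐ[R] T) (f : WithConv (C →ₐ[R] S)) :
    toConv (q.comp (cinv f).ofConv) = cinv (toConv (q.comp f.ofConv)) := rfl

lemma cancel₁ {M : Type*} [Monoid M] (a b b' : M) (h : b * b' = 1) : a * b * b' = a := by
  rw [mul_assoc, h, mul_one]

lemma cancel₂ {M : Type*} [Monoid M] (a b b' c : M) (h : b' * b = 1) : a * c = a * b' * (b * c) := by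
  rw [mul_assoc, ← mul_assoc b', h, one_mul]

variable {A : Type v} [CommRing A] [HopfAlgebra R A] {C : Type*} [CommRing C] [HopfAlgebra R C]

/-- Averaging over the second variable. -/
noncomputable def P (J : A →ₗ[R] R) : A ⊗[R] A →ₗ[R] A :=
  (TensorProduct.rid R A).toLinearMap ∘ₗ J.lTensor A

@[simp] lemma P_tmul (J : A →ₗ[R] R) (a b : A) : P J (a ⊗ₜ b) = J b • a := by simp [P]

lemma P_tmul_one_mul (J : A →ₗ[R] R) (a : A) (z : A ⊗[R] A) : P J ((a ⊗ₜ 1) * z) = a * P J z := by
  induction z using TensorProduct.induction_on with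
  | zero => simp
  | tmul x y => simp
  | add x y hx hy => simp only [mul_add, map_add, hx, hy]

/-- Averaging over the third variable. -/
noncomputable def P3 (J : A →ₗ[R] R) : A ⊗[R] (A ⊗[R] A) →ₗ[R] A ⊗[R] A := (P J).lTensor A

lemma comul_P (J : A →ₗ[R] R) (z : A ⊗[R] A) :
    CoalgebraStruct.comul (R := R) (P J z) =
      P3 J (TensorProduct.assoc R A A A ((CoalgebraStruct.comul (R := R) (A := A)).rTensor A z)) := by
  induction z using TensorProduct.induction_on with
  | zero => simp
  | tmul a b =>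
    simp only [P_tmul, map_smul, LinearMap.rTensor_tmul]
    generalize CoalgebraStruct.comul (R := R) a = w
    induction w using TensorProduct.induction_on with
    | zero => simp
    | tmul x y => simp [P3, tmul_smul]
    | add x y hx hy => simp only [add_tmul, map_add, smul_add, hx, hy]
  | add x y hx hy => simp only [map_add, hx, hy]

lemma P3_mul_one_tmul (J : A →ₗ[R] R) (w : A ⊗[R] (A ⊗[R] A)) (a : A) :
    P3 J (w * ((1 : A) ⊗ₜ[R] (a ⊗ₜ[R] (1 : A)))) = P3 J w * ((1 : A) ⊗ₜ[R] a) := by
  induction w using TensorProduct.induction_on with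
  | zero => simp
  | tmul x y =>
    simp only [P3, Algebra.TensorProduct.tmul_mul_tmul, LinearMap.lTensor_tmul, mul_one]
    rw [mul_comm y, P_tmul_one_mul, mul_comm a]
  | add x y hx hy => simp only [add_mul, map_add, hx, hy]

/-- The correction of an approximate homomorphism. -/
noncomputable def G (ψ : C →ₐ[R] A) : WithConv (C →ₐ[R] A ⊗[R] A) :=
  toConv ((Bialgebra.comulAlgHom R A).comp ψ) * cinv (toConv (Algebra.TensorProduct.includeRight.comp ψ))

/-- The averaged map. -/
noncomputable def avg (J : A →ₗ[R] R) (ψ : C →ₐ[R] A) : C →ₗ[R] A := P J ∘ₗ (G ψ).ofConv.toLinearMap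

variable (J : A →ₗ[R] R) (hJ1 : J 1 = 1) (I K : Ideal R) (ψ : C →ₐ[R] A)
  (hJ : ∀ a : A, P J (CoalgebraStruct.comul (R := R) a) - J a • (1 : A) ∈ I • (⊤ : Submodule R A))
  (hΔ : ∀ c, CoalgebraStruct.comul (R := R) (ψ c) -
    TensorProduct.map ψ.toLinearMap ψ.toLinearMap (CoalgebraStruct.comul (R := R) c) ∈
      K • (⊤ : Submodule R (A ⊗[R] A)))

include hΔ in
lemma G_congr (c : C) : (G ψ).ofConv c - ψ c ⊗ₜ[R] 1 ∈ K • (⊤ : Submodule R (A ⊗[R] A)) := by
  let q := Ideal.Quotient.mkₐ R (K.map (algebraMap R (A ⊗[R] A)))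
  have hmul : toConv (q.comp ((Bialgebra.comulAlgHom R A).comp ψ)) =
      toConv (q.comp (Algebra.TensorProduct.includeLeft.comp ψ)) *
        toConv (q.comp (Algebra.TensorProduct.includeRight.comp ψ)) := by
    rw [← comp_convMul]
    refine WithConv.ofConv_injective (AlgHom.ext fun x => ?_)
    show Ideal.Quotient.mk _ _ = Ideal.Quotient.mk _ _
    rw [Ideal.Quotient.eq, mem_map_iff]
    convert hΔ x using 2
    · rfl
    show Algebra.TensorProduct.lmul' R (Algebra.TensorProduct.map (Algebra.TensorProduct.includeLeft.comp ψ)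
      (Algebra.TensorProduct.includeRight.comp ψ) (CoalgebraStruct.comul (R := R) x)) = _
    generalize CoalgebraStruct.comul (R := R) x = z
    induction z using TensorProduct.induction_on with
    | zero => simp
    | tmul a b => simp
    | add a b ha hb => simp only [map_add, ha, hb]
  have h : toConv (q.comp (G ψ).ofConv) = toConv (q.comp (Algebra.TensorProduct.includeLeft.comp ψ)) := by
    rw [G, comp_convMul, comp_convInv, ofConv_toConv, ofConv_toConv, hmul]
    exact cancel₁ (M := WithConv (C →ₐ[R] _)) _ _ _ (mul_cinv _)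
  have hc : q ((G ψ).ofConv c) = q (ψ c ⊗ₜ[R] 1) := congrArg (fun f => f.ofConv c) h
  exact (mem_map_iff K _).mp (Ideal.Quotient.eq.mp hc)

include hJ1 hΔ in
lemma avg_congr (c : C) : avg J ψ c - ψ c ∈ K • (⊤ : Submodule R A) := by
  have h := map_smul_top_mem K (P J) (G_congr K ψ hΔ c)
  rwa [map_sub, P_tmul, hJ1, one_smul] at h

include hJ1 in
lemma avg_one : avg J ψ 1 = 1 := by
  simp [avg, Algebra.TensorProduct.one_def, hJ1]

include hJ1 hΔ in
lemma avg_mul (c d : C) :
    avg J ψ (c * d) - avg J ψ c * avg J ψ d ∈ (K * K) • (⊤ : Submodule R A) := by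
  set i := (G ψ).ofConv c - ψ c ⊗ₜ[R] 1 with hi
  set j := (G ψ).ofConv d - ψ d ⊗ₜ[R] 1 with hj
  have hci : (G ψ).ofConv c = ψ c ⊗ₜ[R] 1 + i := by rw [hi]; abel
  have hdj : (G ψ).ofConv d = ψ d ⊗ₜ[R] 1 + j := by rw [hj]; abel
  have hic : i ∈ K • (⊤ : Submodule R (A ⊗[R] A)) := G_congr K ψ hΔ c
  have hjd : j ∈ K • (⊤ : Submodule R (A ⊗[R] A)) := G_congr K ψ hΔ d
  have e : avg J ψ (c * d) - avg J ψ c * avg J ψ d = P J (i * j) - P J i * P J j := by
    show P J ((G ψ).ofConv (c * d)) - P J ((G ψ).ofConv c) * P J ((G ψ).ofConv d) = _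
    rw [map_mul, hci, hdj]
    simp only [add_mul, mul_add, map_add, P_tmul_one_mul, P_tmul, hJ1, one_smul]
    rw [mul_comm i (ψ d ⊗ₜ[R] (1 : A)), P_tmul_one_mul]
    ring
  rw [e]
  exact sub_mem (map_smul_top_mem _ (P J) (mul_mem_smul_top hic hjd))
    (mul_mem_smul_top (map_smul_top_mem _ (P J) hic) (map_smul_top_mem _ (P J) hjd))

include hJ1 in
lemma counit_avg (c : C) :
    CoalgebraStruct.counit (R := R) (avg J ψ c) = CoalgebraStruct.counit (R := R) c := by
  let e : A ⊗[R] A →ₐ[R] A := (Algebra.TensorProduct.lid R A).toAlgHom.comp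
    (Algebra.TensorProduct.map (Bialgebra.counitAlgHom R A) (AlgHom.id R A))
  have hP : ∀ z : A ⊗[R] A, CoalgebraStruct.counit (R := R) (P J z) = J (e z) := by
    intro z
    induction z using TensorProduct.induction_on with
    | zero => simp
    | tmul a b => simp [e, mul_comm]
    | add a b ha hb => simp only [map_add, ha, hb]
  have h1 : e.comp ((Bialgebra.comulAlgHom R A).comp ψ) = ψ := AlgHom.ext fun x => by
    show TensorProduct.lid R A ((CoalgebraStruct.counit (R := R) (A := A)).rTensor A
      (CoalgebraStruct.comul (R := R) (ψ x))) = ψ x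
    rw [Coalgebra.rTensor_counit_comul]; simp
  have h2 : e.comp (Algebra.TensorProduct.includeRight.comp ψ) = ψ := AlgHom.ext fun x => by simp [e]
  have h : toConv (e.comp (G ψ).ofConv) = 1 := by
    rw [G, comp_convMul, comp_convInv, ofConv_toConv, ofConv_toConv, h1, h2, mul_cinv]
  show CoalgebraStruct.counit (R := R) (P J ((G ψ).ofConv c)) = _
  rw [hP, show e ((G ψ).ofConv c) = algebraMap R A (CoalgebraStruct.counit (R := R) c) from
    congrArg (fun f => f.ofConv c) h, Algebra.algebraMap_eq_smul_one, map_smul, hJ1, smul_eq_mul, mul_one]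

include hJ1 hJ hΔ in
lemma comul_avg (c : C) :
    CoalgebraStruct.comul (R := R) (avg J ψ c) -
      TensorProduct.map (avg J ψ) (avg J ψ) (CoalgebraStruct.comul (R := R) c) ∈
      (K * K ⊔ K * I) • (⊤ : Submodule R (A ⊗[R] A)) := by
  let α : A ⊗[R] A →ₐ[R] A ⊗[R] (A ⊗[R] A) := (Algebra.TensorProduct.assoc R R R A A A).toAlgHom.comp
    (Algebra.TensorProduct.map (Bialgebra.comulAlgHom R A) (AlgHom.id R A))
  let β : A ⊗[R] A →ₐ[R] A ⊗[R] (A ⊗[R] A) :=
    Algebra.TensorProduct.map (AlgHom.id R A) (Bialgebra.comulAlgHom R A)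
  let ι : A ⊗[R] A →ₐ[R] A ⊗[R] (A ⊗[R] A) := Algebra.TensorProduct.includeRight
  have hα : ∀ z, α z = TensorProduct.assoc R A A A ((CoalgebraStruct.comul (R := R) (A := A)).rTensor A z) :=
    fun z => rfl
  have e1 : α.comp ((Bialgebra.comulAlgHom R A).comp ψ) = β.comp ((Bialgebra.comulAlgHom R A).comp ψ) :=
    AlgHom.ext fun x => by
      show α _ = β _
      rw [hα]
      exact Coalgebra.coassoc_apply (ψ x)
  have e2 : α.comp (Algebra.TensorProduct.includeRight.comp ψ) =
      ι.comp (Algebra.TensorProduct.includeRight.comp ψ) := AlgHom.ext fun x => by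
    simp [α, ι, Algebra.TensorProduct.one_def]
  have e3 : β.comp (Algebra.TensorProduct.includeRight.comp ψ) =
      ι.comp ((Bialgebra.comulAlgHom R A).comp ψ) := AlgHom.ext fun x => by simp [β, ι]
  have hconv : toConv (α.comp (G ψ).ofConv) = toConv (β.comp (G ψ).ofConv) * toConv (ι.comp (G ψ).ofConv) := by
    simp only [G, comp_convMul, comp_convInv, ofConv_toConv, e1, e2, e3]
    exact cancel₂ (M := WithConv (C →ₐ[R] _)) _ _ _ _ (cinv_mul _)
  have hc : α ((G ψ).ofConv c) = Algebra.TensorProduct.lmul' R (Algebra.TensorProduct.map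
      (β.comp (G ψ).ofConv) (ι.comp (G ψ).ofConv) (CoalgebraStruct.comul (R := R) c)) :=
    congrArg (fun f => f.ofConv c) hconv
  show CoalgebraStruct.comul (R := R) (P J ((G ψ).ofConv c)) - _ ∈ _
  rw [comul_P, ← hα, hc]
  generalize CoalgebraStruct.comul (R := R) c = z
  induction z using TensorProduct.induction_on with
  | zero => simp
  | add x y hx hy => simp only [map_add]; rw [add_sub_add_comm]; exact add_mem hx hy
  | tmul a b =>
    simp only [Algebra.TensorProduct.map_tmul, Algebra.TensorProduct.lmul'_apply_tmul,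
      TensorProduct.map_tmul, AlgHom.comp_apply]
    set i := (G ψ).ofConv a - ψ a ⊗ₜ[R] 1 with hi
    set j := (G ψ).ofConv b - ψ b ⊗ₜ[R] 1 with hj
    have hai : (G ψ).ofConv a = ψ a ⊗ₜ[R] 1 + i := by rw [hi]; abel
    have hbj : (G ψ).ofConv b = ψ b ⊗ₜ[R] 1 + j := by rw [hj]; abel
    have hiK : i ∈ K • (⊤ : Submodule R (A ⊗[R] A)) := G_congr K ψ hΔ a
    have hjK : j ∈ K • (⊤ : Submodule R (A ⊗[R] A)) := G_congr K ψ hΔ b
    have hD : P3 J (β i) - P J i ⊗ₜ[R] 1 ∈ (K * I) • (⊤ : Submodule R (A ⊗[R] A)) := by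
      let D : A ⊗[R] A →ₗ[R] A ⊗[R] A :=
        P3 J ∘ₗ β.toLinearMap - (TensorProduct.mk R A A).flip 1 ∘ₗ P J
      refine map_smul_top_mem_mul K I D (fun z => ?_) hiK
      induction z using TensorProduct.induction_on with
      | zero => rw [map_zero]; exact zero_mem _
      | tmul x y =>
        have e : D (x ⊗ₜ y) = x ⊗ₜ (P J (CoalgebraStruct.comul (R := R) y) - J y • (1 : A)) := by
          simp [D, β, P3, tmul_sub, smul_tmul]
        rw [e]
        exact map_smul_top_mem I (TensorProduct.mk R A A x) (hJ y)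
      | add p q hp hq => rw [map_add]; exact add_mem hp hq
    have hij : P3 J (β i * ι j) ∈ (K * K) • (⊤ : Submodule R (A ⊗[R] A)) :=
      map_smul_top_mem _ _ (mul_mem_smul_top (map_smul_top_mem _ β.toLinearMap hiK)
        (map_smul_top_mem _ ι.toLinearMap hjK))
    have hpp : P J i ⊗ₜ[R] P J j ∈ (K * K) • (⊤ : Submodule R (A ⊗[R] A)) := by
      have h := mul_mem_smul_top (S := A ⊗[R] A)
        (map_smul_top_mem K ((TensorProduct.mk R A A).flip 1) (map_smul_top_mem K (P J) hiK))
        (map_smul_top_mem K (TensorProduct.mk R A A 1) (map_smul_top_mem K (P J) hjK))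
      simpa using h
    have e : P3 J (β ((G ψ).ofConv a) * ι ((G ψ).ofConv b)) - avg J ψ a ⊗ₜ[R] avg J ψ b =
        (P3 J (β i) - P J i ⊗ₜ[R] 1) * (1 ⊗ₜ[R] ψ b) + P3 J (β i * ι j) - P J i ⊗ₜ[R] P J j := by
      have h1 : ∀ w : A ⊗[R] A, P3 J ((ψ a ⊗ₜ[R] ((1 : A) ⊗ₜ[R] (1 : A))) * ι w) = ψ a ⊗ₜ[R] P J w := by
        intro w; simp [P3, ι, ← Algebra.TensorProduct.one_def]
      have h2 : P3 J (β i * ι (ψ b ⊗ₜ[R] 1)) = P3 J (β i) * (1 ⊗ₜ[R] ψ b) := P3_mul_one_tmul J _ _
      have hβ : β (ψ a ⊗ₜ[R] 1) = ψ a ⊗ₜ[R] ((1 : A) ⊗ₜ[R] (1 : A)) := by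
        simp [β, Algebra.TensorProduct.one_def]
      show P3 J (β ((G ψ).ofConv a) * ι ((G ψ).ofConv b)) -
        P J ((G ψ).ofConv a) ⊗ₜ[R] P J ((G ψ).ofConv b) = _
      rw [hai, hbj, map_add β, map_add ι, hβ]
      simp only [add_mul, mul_add, map_add, h1, h2, P_tmul, hJ1, one_smul, tmul_add, add_tmul, sub_mul,
        Algebra.TensorProduct.tmul_mul_tmul, one_mul, mul_one]
      abel
    rw [e]
    refine sub_mem (add_mem ?_ (smul_top_mono le_sup_left hij)) (smul_top_mono le_sup_left hpp)
    have := mul_mem_smul_top (L := (⊤ : Ideal R)) hD (y := (1 : A) ⊗ₜ[R] ψ b) (by rw [Submodule.top_smul]; exact trivial)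
    exact smul_top_mono ((Ideal.mul_le_left).trans le_sup_right) this

lemma sup_le_pow (I : Ideal R) (n : ℕ) :
    I ^ (n + 1) * I ^ (n + 1) ⊔ I ^ (n + 1) * I ≤ I ^ (n + 2) := by
  refine sup_le ?_ (pow_succ I (n + 1)).symm.le
  rw [← pow_add]
  exact Ideal.pow_le_pow_right (by omega)

lemma isNilpotent_of_mem {I : Ideal R} (hI : IsNilpotent I) {x : A} (hx : x ∈ I • (⊤ : Submodule R A)) :
    IsNilpotent x := by
  obtain ⟨N, hN⟩ := hI
  refine ⟨N, ?_⟩
  have : x ^ N ∈ (I.map (algebraMap R A)) ^ N := Ideal.pow_mem_pow ((mem_map_iff I x).mpr hx) N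
  rwa [← Ideal.map_pow, hN, Ideal.zero_eq_bot, Ideal.map_bot, Ideal.mem_bot] at this

lemma eq_zero_of_mem_bot {x : A} (hx : x ∈ (⊥ : Ideal R) • (⊤ : Submodule R A)) : x = 0 := by
  simpa using hx

/-- Approximate homomorphisms into `A` from a formally smooth Hopf algebra can be made exact. -/
theorem exists_bialgHom_lift [Algebra.FormallySmooth R C] (J : A →ₗ[R] R) (hJ1 : J 1 = 1) (I : Ideal R)
    (hI : IsNilpotent I)
    (hJ : ∀ a : A, P J (CoalgebraStruct.comul (R := R) a) - J a • (1 : A) ∈ I • (⊤ : Submodule R A))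
    (ψ₀ : C →ₐ[R] A)
    (hΔ : ∀ c, CoalgebraStruct.comul (R := R) (ψ₀ c) -
      TensorProduct.map ψ₀.toLinearMap ψ₀.toLinearMap (CoalgebraStruct.comul (R := R) c) ∈
        I • (⊤ : Submodule R (A ⊗[R] A))) :
    ∃ φ : C →ₐc[R] A, ∀ c, φ c - ψ₀ c ∈ I • (⊤ : Submodule R A) := by
  have step : ∀ n : ℕ, ∃ ψ : C →ₐ[R] A, (∀ c, ψ c - ψ₀ c ∈ I • (⊤ : Submodule R A)) ∧
      ∀ c, CoalgebraStruct.comul (R := R) (ψ c) -
        TensorProduct.map ψ.toLinearMap ψ.toLinearMap (CoalgebraStruct.comul (R := R) c) ∈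
          (I ^ (n + 1)) • (⊤ : Submodule R (A ⊗[R] A)) := by
    intro n
    induction n with
    | zero => exact ⟨ψ₀, fun c => by rw [sub_self]; exact zero_mem _, fun c => by rw [zero_add, pow_one]; exact hΔ c⟩
    | succ n ih =>
      obtain ⟨ψ, hψ, hψΔ⟩ := ih
      set f := avg J ψ with hf
      let Iq := (I ^ (n + 2)).map (algebraMap R A)
      let q := Ideal.Quotient.mkₐ R Iq
      let g : C →ₐ[R] A ⧸ Iq := AlgHom.ofLinearMap (q.toLinearMap ∘ₗ f)
        (by simp [hf, avg_one J hJ1 ψ])
        (fun c d => by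
          show q (f (c * d)) = q (f c) * q (f d)
          rw [← map_mul]
          refine Ideal.Quotient.eq.mpr ((mem_map_iff _ _).mpr ?_)
          exact smul_top_mono (le_sup_left.trans (sup_le_pow I n)) (avg_mul J hJ1 (I ^ (n + 1)) ψ hψΔ c d))
      have hsurj : Function.Surjective q := Ideal.Quotient.mkₐ_surjective R Iq
      have hnil : IsNilpotent (RingHom.ker (q : A →+* A ⧸ Iq)) := by
        obtain ⟨N, hN⟩ := hI
        refine ⟨N, ?_⟩
        rw [show RingHom.ker (q : A →+* A ⧸ Iq) = Iq from Ideal.Quotient.mkₐ_ker R Iq, ← Ideal.map_pow,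
          ← pow_mul, mul_comm, pow_mul, hN, Ideal.zero_eq_bot, Ideal.bot_pow (by omega), Ideal.map_bot,
          Ideal.zero_eq_bot]
      let ψ' := Algebra.FormallySmooth.liftOfSurjective g q hsurj hnil
      have hψ' : ∀ c, ψ' c - f c ∈ (I ^ (n + 2)) • (⊤ : Submodule R A) := fun c => by
        refine (mem_map_iff _ _).mp (Ideal.Quotient.eq.mp ?_)
        exact (Algebra.FormallySmooth.liftOfSurjective_apply g q hsurj hnil c)
      refine ⟨ψ', fun c => ?_, fun c => ?_⟩
      · have h1 := smul_top_mono (Ideal.pow_le_self (Nat.succ_ne_zero _)) (hψ' c)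
        have h2 := smul_top_mono (Ideal.pow_le_self (Nat.succ_ne_zero n)) (avg_congr J hJ1 (I ^ (n + 1)) ψ hψΔ c)
        have := add_mem (add_mem h1 h2) (hψ c)
        simpa [hf] using this
      · have h1 := map_smul_top_mem (I ^ (n + 2)) (CoalgebraStruct.comul (R := R) (A := A)) (hψ' c)
        rw [map_sub] at h1
        have h2 := smul_top_mono (sup_le_pow I n) (comul_avg J hJ1 I (I ^ (n + 1)) ψ hJ hψΔ c)
        have h3 : ∀ z : C ⊗[R] C, TensorProduct.map ψ'.toLinearMap ψ'.toLinearMap z - TensorProduct.map f f z ∈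
            (I ^ (n + 2)) • (⊤ : Submodule R (A ⊗[R] A)) := by
          intro z
          induction z using TensorProduct.induction_on with
          | zero => simp
          | add x y hx hy => simp only [map_add]; rw [add_sub_add_comm]; exact add_mem hx hy
          | tmul a b =>
            have e : ψ' a ⊗ₜ[R] ψ' b - f a ⊗ₜ[R] f b = (ψ' a - f a) ⊗ₜ[R] ψ' b + f a ⊗ₜ[R] (ψ' b - f b) := by
              simp [sub_tmul, tmul_sub]
            show ψ' a ⊗ₜ[R] ψ' b - f a ⊗ₜ[R] f b ∈ _
            rw [e]
            exact add_mem (map_smul_top_mem _ ((TensorProduct.mk R A A).flip (ψ' b)) (hψ' a))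
              (map_smul_top_mem _ (TensorProduct.mk R A A (f a)) (hψ' b))
        have := sub_mem (add_mem h1 h2) (h3 (CoalgebraStruct.comul (R := R) c))
        convert this using 1
        simp only [hf]
        abel
  obtain ⟨N, hN⟩ := hI
  obtain ⟨ψ, hψ, hψΔ⟩ := step N
  have hbot : I ^ (N + 1) = ⊥ := by rw [pow_succ, hN, zero_mul, Ideal.zero_eq_bot]
  rw [hbot] at hψΔ
  have heq : ∀ c, avg J ψ c = ψ c := fun c =>
    sub_eq_zero.mp (eq_zero_of_mem_bot (avg_congr J hJ1 ⊥ ψ hψΔ c))
  refine ⟨BialgHom.ofAlgHom ψ (AlgHom.ext fun c => ?_) (AlgHom.ext fun c => ?_), hψ⟩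
  · show CoalgebraStruct.counit (R := R) (ψ c) = _
    rw [← heq, counit_avg J hJ1 ψ]; rfl
  · show TensorProduct.map ψ.toLinearMap ψ.toLinearMap (CoalgebraStruct.comul (R := R) c) =
      CoalgebraStruct.comul (R := R) (ψ c)
    exact (sub_eq_zero.mp (by simpa using hψΔ c)).symm

/-- A homomorphism congruent to the trivial one is trivial. -/
theorem eq_trivial (J : A →ₗ[R] R) (hJ1 : J 1 = 1) (I : Ideal R) (hI : IsNilpotent I)
    (hJ : ∀ a : A, P J (CoalgebraStruct.comul (R := R) a) - J a • (1 : A) ∈ I • (⊤ : Submodule R A))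
    (φ : C →ₐc[R] A)
    (h0 : ∀ c, φ c - algebraMap R A (CoalgebraStruct.counit (R := R) c) ∈ I • (⊤ : Submodule R A)) (c : C) :
    φ c = algebraMap R A (CoalgebraStruct.counit (R := R) c) := by
  let i : C →ₗ[R] A := φ.toLinearMap - Algebra.linearMap R A ∘ₗ CoalgebraStruct.counit
  have hic : ∀ c, i c = φ c - algebraMap R A (CoalgebraStruct.counit (R := R) c) := fun c => rfl
  have step : ∀ n : ℕ, ∀ c, i c ∈ (I ^ (n + 1)) • (⊤ : Submodule R A) := by
    intro n
    induction n with
    | zero => intro c; rw [zero_add, pow_one, hic]; exact h0 c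
    | succ n ih =>
      intro c
      set K := I ^ (n + 1)
      let D : A →ₗ[R] A := P J ∘ₗ CoalgebraStruct.comul - J.smulRight (1 : A)
      have hD : D (i c) ∈ (K * I) • (⊤ : Submodule R A) :=
        map_smul_top_mem_mul K I D (fun a => hJ a) (ih c)
      have key : CoalgebraStruct.comul (R := R) (i c) =
          i c ⊗ₜ[R] 1 + (1 : A) ⊗ₜ[R] i c + TensorProduct.map i i (CoalgebraStruct.comul (R := R) c) := by
        have e : ∀ z : C ⊗[R] C, TensorProduct.map φ.toLinearMap φ.toLinearMap z =
            TensorProduct.map i i z +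
            i (TensorProduct.rid R C ((CoalgebraStruct.counit (R := R) (A := C)).lTensor C z)) ⊗ₜ[R] 1 +
            (1 : A) ⊗ₜ[R] i (TensorProduct.lid R C ((CoalgebraStruct.counit (R := R) (A := C)).rTensor C z)) +
            (TensorProduct.lid R R (TensorProduct.map (CoalgebraStruct.counit (R := R) (A := C))
              (CoalgebraStruct.counit (R := R) (A := C)) z)) • ((1 : A) ⊗ₜ[R] (1 : A)) := by
          intro z
          induction z using TensorProduct.induction_on with
          | zero => simp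
          | tmul a b =>
            have ha : ∀ a : C, φ.toLinearMap a = i a + CoalgebraStruct.counit (R := R) a • (1 : A) := fun a => by
              rw [hic, Algebra.algebraMap_eq_smul_one, sub_add_cancel]; rfl
            simp only [TensorProduct.map_tmul, LinearMap.lTensor_tmul, LinearMap.rTensor_tmul, rid_tmul, lid_tmul,
              map_smul, ha, add_tmul, tmul_add, smul_tmul, tmul_smul, smul_smul, smul_eq_mul]
            simp only [smul_add, smul_smul, mul_comm (CoalgebraStruct.counit (R := R) b)]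
            abel
          | add x y hx hy => simp only [map_add, add_tmul, tmul_add, add_smul, hx, hy]; abel
        have h := (CoalgHomClass.map_comp_comul_apply φ c).symm.trans (e _)
        rw [Coalgebra.lTensor_counit_comul, Coalgebra.rTensor_counit_comul,
          show TensorProduct.map (CoalgebraStruct.counit (R := R) (A := C)) (CoalgebraStruct.counit (R := R)
          (A := C)) (CoalgebraStruct.comul (R := R) c) = 1 ⊗ₜ CoalgebraStruct.counit (R := R) c by
          rw [← LinearMap.lTensor_comp_rTensor, LinearMap.comp_apply, Coalgebra.rTensor_counit_comul,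
            LinearMap.lTensor_tmul]] at h
        rw [hic, map_sub, h]
        simp [hic, Algebra.algebraMap_eq_smul_one, Algebra.TensorProduct.one_def, sub_tmul, tmul_sub]
        abel
      have hii : P J (TensorProduct.map i i (CoalgebraStruct.comul (R := R) c)) ∈
          (K * K) • (⊤ : Submodule R A) := by
        generalize CoalgebraStruct.comul (R := R) c = z
        induction z using TensorProduct.induction_on with
        | zero => simp
        | tmul a b =>
          rw [TensorProduct.map_tmul, P_tmul, show J (i b) • i a = algebraMap R A (J (i b)) * i a from Algebra.smul_def _ _]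
          have h1 : J (i b) ∈ K • (⊤ : Submodule R R) := map_smul_top_mem (M := A) (N := R) K J (ih b)
          have h2 : algebraMap R A (J (i b)) ∈ K • (⊤ : Submodule R A) :=
            map_smul_top_mem (M := R) (N := A) K (Algebra.linearMap R A) h1
          exact mul_mem_smul_top (S := A) (K := K) (L := K) h2 (ih a)
        | add x y hx hy => simp only [map_add]; exact add_mem hx hy
      have e : i c = D (i c) - P J (TensorProduct.map i i (CoalgebraStruct.comul (R := R) c)) := by
        simp only [D, LinearMap.sub_apply, LinearMap.comp_apply, LinearMap.smulRight_apply, key, map_add,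
          P_tmul, hJ1, one_smul]
        abel
      rw [e]
      exact sub_mem (smul_top_mono (le_sup_right.trans (sup_le_pow I n)) hD)
        (smul_top_mono (le_sup_left.trans (sup_le_pow I n)) hii)
  obtain ⟨N, hN⟩ := hI
  have := step N c
  rw [pow_succ, hN, zero_mul, Ideal.zero_eq_bot] at this
  exact sub_eq_zero.mp ((hic c).symm.trans (eq_zero_of_mem_bot this))

/-- Homomorphisms from a commutative group congruent modulo a nilpotent ideal agree. -/
theorem eq_of_congr [Coalgebra.IsCocomm R C] (J : A →ₗ[R] R) (hJ1 : J 1 = 1) (I : Ideal R) (hI : IsNilpotent I)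
    (hJ : ∀ a : A, P J (CoalgebraStruct.comul (R := R) a) - J a • (1 : A) ∈ I • (⊤ : Submodule R A))
    (φ ψ : C →ₐc[R] A) (h0 : ∀ c, φ c - ψ c ∈ I • (⊤ : Submodule R A)) : φ = ψ := by
  let S : C →ₐc[R] C := BialgHom.ofAlgHom (HopfAlgebra.antipodeAlgHom R C)
    (AlgHom.ext fun c => HopfAlgebra.counit_antipode (R := R) c)
    (AlgHom.ext fun c => by
      show TensorProduct.map (HopfAlgebra.antipode R) (HopfAlgebra.antipode R) (CoalgebraStruct.comul (R := R) c) =
        CoalgebraStruct.comul (R := R) (HopfAlgebra.antipode R c)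
      rw [H8Hopf.comul_antipode, Coalgebra.comm_comul])
  let χ : WithConv (C →ₐc[R] A) := toConv φ * toConv (ψ.comp S)
  let q := Ideal.Quotient.mkₐ R (I.map (algebraMap R A))
  have hq : toConv (q.comp (φ : C →ₐ[R] A)) = toConv (q.comp (ψ : C →ₐ[R] A)) := by
    refine WithConv.ofConv_injective (AlgHom.ext fun c => ?_)
    exact Ideal.Quotient.eq.mpr ((mem_map_iff I _).mpr (h0 c))
  have hχ : toConv (q.comp (χ.ofConv : C →ₐ[R] A)) = 1 := by
    show toConv (q.comp (toConv (φ : C →ₐ[R] A) * cinv (toConv (ψ : C →ₐ[R] A))).ofConv) = 1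
    rw [comp_convMul, comp_convInv, ofConv_toConv, ofConv_toConv, hq, mul_cinv]
  have h1 : χ = 1 := by
    refine WithConv.ofConv_injective (BialgHom.ext fun c => ?_)
    refine eq_trivial J hJ1 I hI hJ χ.ofConv (fun c => ?_) c
    exact (mem_map_iff I _).mp (Ideal.Quotient.eq.mp
      ((congrArg (fun f => f.ofConv c) hχ).trans (q.commutes _).symm))
  have h2 : toConv (φ : C →ₐ[R] A) * cinv (toConv (ψ : C →ₐ[R] A)) = 1 :=
    congrArg (fun f : WithConv (C →ₐc[R] A) => toConv (f.ofConv : C →ₐ[R] A)) h1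
  have h3 : toConv (φ : C →ₐ[R] A) = toConv (ψ : C →ₐ[R] A) := by
    have := congrArg (fun x => x * toConv (ψ : C →ₐ[R] A)) h2
    exact (mul_one _).symm.trans ((congrArg _ (cinv_mul _).symm).trans ((mul_assoc _ _ _).symm.trans
      (this.trans (one_mul _))))
  exact BialgHom.ext fun c => AlgHom.congr_fun (WithConv.toConv_injective h3) c

end Groth.Agent.H8MultCore
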