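import Mathlib
import Groth.Prelude.Def_SGA3b
import Groth.Agent.Lib.H8MultCore

/-!
# Affine groups of multiplicative type: splitting covers, descent, invariant functionals
-/

set_option autoImplicit false

universe u

open TensorProduct

namespace Groth.Agent.H8Mult

open H8MultCore

section Descent

variable {R : Type u} [CommRing R] {T : Type u} [CommRing T] [Algebra R T]
  {M : Type u} [AddCommGroup M] [Module R M]

/-- Faithfully flat descent of elements of a module. -/
theorem descend [Module.FaithfullyFlat R T] (z : T ⊗[R] M)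
    (hz : (1 : T) ⊗ₜ[R] z = (TensorProduct.mk R T M 1).lTensor T z) : ∃ m : M, (1 : T) ⊗ₜ[R] m = z := by
  let ι : M →ₗ[R] T ⊗[R] M := TensorProduct.mk R T M 1
  let d : T ⊗[R] M →ₗ[R] T ⊗[R] (T ⊗[R] M) := TensorProduct.mk R T (T ⊗[R] M) 1 - ι.lTensor T
  let μ : T ⊗[R] (T ⊗[R] M) →ₗ[R] T ⊗[R] M :=
    (LinearMap.mul' R T).rTensor M ∘ₗ (TensorProduct.assoc R T T M).symm.toLinearMap
  let σ : T ⊗[R] (T ⊗[R] (T ⊗[R] M)) →ₗ[R] T ⊗[R] (T ⊗[R] M) :=
    (LinearMap.mul' R T).rTensor (T ⊗[R] M) ∘ₗ (TensorProduct.assoc R T T (T ⊗[R] M)).symm.toLinearMap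
  have hT : Function.Exact (ι.lTensor T) (d.lTensor T) := by
    intro x
    constructor
    · intro hx
      have key : ∀ x : T ⊗[R] (T ⊗[R] M), σ (d.lTensor T x) = x - ι.lTensor T (μ x) := by
        intro x
        induction x using TensorProduct.induction_on with
        | zero => simp
        | tmul a y =>
          induction y using TensorProduct.induction_on with
          | zero => simp
          | tmul b m => simp [σ, d, μ, ι, tmul_sub]
          | add p q hp hq => simp only [tmul_add, map_add, hp, hq]; abel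
        | add p q hp hq => simp only [map_add, hp, hq]; abel
      have h := key x
      rw [hx, map_zero] at h
      exact ⟨μ x, (sub_eq_zero.mp h.symm).symm⟩
    · rintro ⟨y, rfl⟩
      rw [← LinearMap.lTensor_comp_apply]
      have : d ∘ₗ ι = 0 := LinearMap.ext fun m => by simp [d, ι]
      rw [this]; simp
  have hex : Function.Exact ι d := (Module.FaithfullyFlat.lTensor_exact_iff_exact R T ι d).mp hT
  exact (hex z).mp (by simp [d, ι, hz])

theorem descend_ring [Module.FaithfullyFlat R T] (t : T) (ht : (1 : T) ⊗ₜ[R] t = t ⊗ₜ[R] (1 : T)) :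
    ∃ r : R, algebraMap R T r = t := by
  obtain ⟨r, hr⟩ := descend (M := R) (t ⊗ₜ[R] (1 : R)) (by
    apply ((TensorProduct.rid R T).lTensor T).injective
    simp [ht])
  refine ⟨r, ?_⟩
  have := congrArg (TensorProduct.rid R T) hr
  simpa [Algebra.algebraMap_eq_smul_one] using this

lemma mem_smul_top_of_one_tmul_eq_zero {I : Ideal R} {m : M} (h : (1 : R ⧸ I) ⊗ₜ[R] m = 0) :
    m ∈ I • (⊤ : Submodule R M) := by
  have := congrArg (TensorProduct.quotTensorEquivQuotSMul M I) h
  rw [map_zero, TensorProduct.quotTensorEquivQuotSMul_mk_one_tmul] at this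
  exact (Submodule.Quotient.mk_eq_zero _).mp this

lemma one_tmul_eq_zero_of_mem {I : Ideal R} {m : M} (h : m ∈ I • (⊤ : Submodule R M)) :
    (1 : R ⧸ I) ⊗ₜ[R] m = 0 := by
  apply (TensorProduct.quotTensorEquivQuotSMul M I).injective
  rw [map_zero, TensorProduct.quotTensorEquivQuotSMul_mk_one_tmul]
  exact (Submodule.Quotient.mk_eq_zero _).mpr h

end Descent

section Square

variable {R : Type u} [CommRing R] (T : Type u) [CommRing T] [Algebra R T] (A : Type u) [CommRing A]

/-- `A ⊗ A` mapped into the square of the base change. -/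
noncomputable def sq [Algebra R A] : A ⊗[R] A →ₗ[R] (T ⊗[R] A) ⊗[T] (T ⊗[R] A) :=
  TensorProduct.lift (LinearMap.mk₂ R (fun a b => ((1 : T) ⊗ₜ[R] a) ⊗ₜ[T] ((1 : T) ⊗ₜ[R] b))
    (fun a a' b => by simp [tmul_add, add_tmul])
    (fun c a b => by rw [tmul_smul, ← smul_tmul'])
    (fun a b b' => by simp [tmul_add])
    (fun c a b => by rw [tmul_smul, TensorProduct.tmul_smul]))

@[simp] lemma sq_tmul [Algebra R A] (a b : A) :
    sq (R := R) T A (a ⊗ₜ[R] b) = ((1 : T) ⊗ₜ[R] a) ⊗ₜ[T] ((1 : T) ⊗ₜ[R] b) := rfl

variable {T A}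

lemma comul_one_tmul [HopfAlgebra R A] (a : A) :
    CoalgebraStruct.comul (R := T) ((1 : T) ⊗ₜ[R] a) = sq (R := R) T A (CoalgebraStruct.comul (R := R) a) := by
  rw [TensorProduct.comul_tmul]
  generalize CoalgebraStruct.comul (R := R) a = z
  induction z using TensorProduct.induction_on with
  | zero => simp
  | tmul p q => simp
  | add p q hp hq => simp only [map_add, tmul_add, hp, hq]

lemma mem_smul_top_of_sq_eq_zero [Algebra R A] {I : Ideal R} {z : A ⊗[R] A}
    (h : sq (R := R) (R ⧸ I) A z = 0) : z ∈ I • (⊤ : Submodule R (A ⊗[R] A)) := by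
  refine mem_smul_top_of_one_tmul_eq_zero ?_
  apply (TensorProduct.AlgebraTensorModule.distribBaseChange R (R ⧸ I) A A).injective
  rw [map_zero, ← h]
  clear h
  induction z using TensorProduct.induction_on with
  | zero => simp
  | tmul a b => simp [TensorProduct.AlgebraTensorModule.distribBaseChange_tmul]
  | add p q hp hq => simp only [tmul_add, map_add, hp, hq]

end Square

section Inv

variable {R : Type u} [CommRing R] {A : Type u} [CommRing A] [HopfAlgebra R A]
  {T : Type u} [CommRing T] [Algebra R T]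

/-- A `T`-valued two-sided invariant functional on `A`, normalised at `1`. -/
def IsInv (j : A →ₗ[R] T) : Prop :=
  j 1 = 1 ∧
    (∀ a, TensorProduct.comm R A T (j.lTensor A (CoalgebraStruct.comul (R := R) a)) = j a ⊗ₜ[R] 1) ∧
    ∀ a, j.rTensor A (CoalgebraStruct.comul (R := R) a) = j a ⊗ₜ[R] 1

lemma IsInv.comp {j : A →ₗ[R] T} (hj : IsInv j) {U : Type u} [CommRing U] [Algebra R U] (φ : T →ₐ[R] U) :
    IsInv (φ.toLinearMap ∘ₗ j) := by
  refine ⟨by simp [hj.1], fun a => ?_, fun a => ?_⟩
  · have := congrArg (φ.toLinearMap.rTensor A) (hj.2.1 a)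
    rw [LinearMap.rTensor_tmul] at this
    refine (Eq.trans ?_ this)
    generalize CoalgebraStruct.comul (R := R) a = z
    induction z using TensorProduct.induction_on with
    | zero => simp
    | tmul x y => simp
    | add p q hp hq => simp only [map_add, hp, hq]
  · rw [LinearMap.rTensor_comp_apply, hj.2.2 a]; simp

lemma IsInv.unique {j j' : A →ₗ[R] T} (hj : IsInv j) (hj' : IsInv j') : j = j' := by
  refine LinearMap.ext fun a => ?_
  let μ : T ⊗[R] A →ₗ[R] T := LinearMap.mul' R T ∘ₗ j'.lTensor T
  let μ' : T ⊗[R] A →ₗ[R] T := LinearMap.mul' R T ∘ₗ j.lTensor T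
  have h1 := congrArg μ (hj.2.1 a)
  have h2 := congrArg μ' (hj'.2.2 a)
  simp only [μ, μ', LinearMap.comp_apply, LinearMap.lTensor_tmul, LinearMap.mul'_apply, hj.1, hj'.1, mul_one] at h1 h2
  rw [← h1, ← h2]
  generalize CoalgebraStruct.comul (R := R) a = z
  induction z using TensorProduct.induction_on with
  | zero => simp
  | tmul x y => simp [mul_comm]
  | add p q hp hq => simp only [map_add, hp, hq]

/-- The invariant functional of a split group. -/
lemma exists_isInv_of_split {B : Type u} [CommRing B] [HopfAlgebra T B] (M : Type u) [CommGroup M]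
    (e : B ≃ₐc[T] MonoidAlgebra T M) (κ : T ⊗[R] A ≃ₗ[T] B)
    (hκ1 : κ ((1 : T) ⊗ₜ[R] 1) = 1)
    (hκ : ∀ a, CoalgebraStruct.comul (R := T) (κ ((1 : T) ⊗ₜ[R] a)) =
      TensorProduct.map κ.toLinearMap κ.toLinearMap (sq (R := R) T A (CoalgebraStruct.comul (R := R) a))) :
    ∃ j : A →ₗ[R] T, IsInv j := by
  classical
  let c : MonoidAlgebra T M →ₗ[T] T :=
    { toFun := fun f => f.coeff 1, map_add' := fun _ _ => by simp, map_smul' := fun _ _ => by simp }
  let E : T ⊗[R] A →ₗ[T] MonoidAlgebra T M := (e : B →ₐc[T] MonoidAlgebra T M).toLinearMap ∘ₗ κ.toLinearMap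
  have hE : Function.Injective E := (EquivLike.injective e).comp κ.injective
  let j : A →ₗ[R] T := c.restrictScalars R ∘ₗ E.restrictScalars R ∘ₗ TensorProduct.mk R T A 1
  have hE1 : E ((1 : T) ⊗ₜ[R] 1) = 1 := by
    show e (κ _) = 1
    rw [hκ1, map_one]
  have hΔ : ∀ a, TensorProduct.map E E (sq (R := R) T A (CoalgebraStruct.comul (R := R) a)) =
      CoalgebraStruct.comul (R := T) (E ((1 : T) ⊗ₜ[R] a)) := by
    intro a
    show _ = CoalgebraStruct.comul (R := T) (e (κ _))
    rw [← CoalgHomClass.map_comp_comul_apply e, hκ]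
    exact LinearMap.congr_fun (TensorProduct.map_comp _ _ _ _) _
  have hdiag : ∀ f : MonoidAlgebra T M,
      TensorProduct.rid T _ (c.lTensor _ (CoalgebraStruct.comul (R := T) f)) = c f • 1 ∧
      TensorProduct.lid T _ (c.rTensor _ (CoalgebraStruct.comul (R := T) f)) = c f • 1 := by
    intro f
    induction f using MonoidAlgebra.induction_linear with
    | zero => simp
    | add f g hf hg => simp only [map_add, add_smul, hf.1, hf.2, hg.1, hg.2, and_self]
    | single m r =>
      have hcs : ∀ (a : M) (s : T), c (MonoidAlgebra.single a s) = if a = 1 then s else 0 := by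
        intro a s
        show (MonoidAlgebra.single a s).coeff 1 = _
        simp [Finsupp.single_apply]
      by_cases hm : m = 1 <;>
        simp [MonoidAlgebra.comul_single, hcs, hm, MonoidAlgebra.one_def, MonoidAlgebra.smul_single']
  refine ⟨j, ?_, fun a => ?_, fun a => ?_⟩
  · show c (E ((1 : T) ⊗ₜ[R] (1 : A))) = 1
    rw [hE1]
    show (1 : MonoidAlgebra T M).coeff 1 = 1
    simp [MonoidAlgebra.one_def]
  · apply hE
    rw [show j a ⊗ₜ[R] (1 : A) = j a • ((1 : T) ⊗ₜ[R] (1 : A)) by simp [smul_tmul'], map_smul, hE1]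
    refine Eq.trans ?_ (hdiag (E ((1 : T) ⊗ₜ[R] a))).1
    rw [← hΔ]
    generalize CoalgebraStruct.comul (R := R) a = z
    induction z using TensorProduct.induction_on with
    | zero => simp
    | tmul x y =>
      simp only [LinearMap.lTensor_tmul, comm_tmul, sq_tmul, TensorProduct.map_tmul, rid_tmul]
      rw [show j y ⊗ₜ[R] x = j y • ((1 : T) ⊗ₜ[R] x) by simp [smul_tmul'], map_smul]
      rfl
    | add p q hp hq => simp only [map_add, hp, hq]
  · apply hE
    rw [show j a ⊗ₜ[R] (1 : A) = j a • ((1 : T) ⊗ₜ[R] (1 : A)) by simp [smul_tmul'], map_smul, hE1]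
    refine Eq.trans ?_ (hdiag (E ((1 : T) ⊗ₜ[R] a))).2
    rw [← hΔ]
    generalize CoalgebraStruct.comul (R := R) a = z
    induction z using TensorProduct.induction_on with
    | zero => simp
    | tmul x y =>
      simp only [LinearMap.rTensor_tmul, sq_tmul, TensorProduct.map_tmul, lid_tmul]
      rw [show j x ⊗ₜ[R] y = j x • ((1 : T) ⊗ₜ[R] y) by simp [smul_tmul'], map_smul]
      rfl
    | add p q hp hq => simp only [map_add, hp, hq]

end Inv

section Pieces

variable {R : Type u} [CommRing R] {A : Type u} [CommRing A] [HopfAlgebra R A]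

/-- A finite jointly faithfully flat family of algebras over which the group splits, with invariant functionals. -/
theorem exists_pieces (h : SGA3b.IsMultType R A) :
    ∃ (ι : Type u) (_ : Fintype ι) (T : ι → Type u) (_ : ∀ i, CommRing (T i)) (_ : ∀ i, Algebra R (T i)),
      Module.FaithfullyFlat R (∀ i, T i) ∧ ∀ i, ∃ j : A →ₗ[R] T i, IsInv j := by
  classical
  obtain ⟨s, hs, hf⟩ := h
  obtain ⟨s₀, hs₀, hs₀'⟩ := Submodule.mem_span_finite_of_mem_span
    (hs.ge (Submodule.mem_top (x := (1 : R))))
  choose R' hR'c hR'a hff M hM he using fun f : ↥s₀ => hf f.1 (hs₀ f.2)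
  letI : ∀ f : ↥s₀, Algebra R (R' f) := fun f =>
    ((algebraMap (Localization.Away (f : R)) (R' f)).comp (algebraMap R (Localization.Away (f : R)))).toAlgebra
  haveI : ∀ f : ↥s₀, IsScalarTower R (Localization.Away (f : R)) (R' f) := fun f => IsScalarTower.of_algebraMap_eq' rfl
  refine ⟨↥s₀, inferInstance, R', inferInstance, inferInstance, ?_, fun f => ?_⟩
  · haveI : ∀ f : ↥s₀, Module.Flat R (R' f) := fun f => by
      haveI := (hff f).toFlat
      haveI : Module.Flat R (Localization.Away (f : R)) := IsLocalization.flat _ (Submonoid.powers (f : R))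
      exact Module.Flat.trans R (Localization.Away (f : R)) (R' f)
    haveI : Module.Flat R (∀ f, R' f) :=
      Module.Flat.of_linearEquiv (DirectSum.linearEquivFunOnFintype R ↥s₀ R').symm
    refine Module.FaithfullyFlat.of_comap_surjective fun p => ?_
    obtain ⟨f, hfp⟩ : ∃ f : ↥s₀, (f : R) ∉ p.asIdeal := by
      by_contra hcon
      push Not at hcon
      exact p.isPrime.ne_top ((Ideal.eq_top_iff_one _).mpr
        (Submodule.span_le.mpr (fun x hx => hcon ⟨x, hx⟩) hs₀'))
    haveI := hff f
    obtain ⟨q, hq⟩ : p ∈ Set.range (PrimeSpectrum.comap (algebraMap R (Localization.Away (f : R)))) := by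
      rw [PrimeSpectrum.localization_away_comap_range (Localization.Away (f : R)) (f : R)]
      exact hfp
    obtain ⟨q', hq'⟩ := PrimeSpectrum.comap_surjective_of_faithfullyFlat (B := R' f) q
    refine ⟨PrimeSpectrum.comap (Pi.evalRingHom R' f) q', ?_⟩
    rw [← hq, ← hq']
    rfl
  · haveI := hff f
    obtain ⟨e⟩ := he f
    let κ := (TensorProduct.AlgebraTensorModule.cancelBaseChange R (Localization.Away (f : R)) (R' f) (R' f) A).symm
    have hκ : ∀ a : A, κ ((1 : R' f) ⊗ₜ[R] a) = (1 : R' f) ⊗ₜ (((1 : Localization.Away (f : R)) ⊗ₜ[R] a)) := by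
      intro a
      apply κ.symm.injective
      simp [κ]
    refine exists_isInv_of_split (M f) e κ (by rw [hκ]; rfl) fun a => ?_
    rw [hκ, comul_one_tmul, comul_one_tmul]
    generalize CoalgebraStruct.comul (R := R) a = z
    induction z using TensorProduct.induction_on with
    | zero => simp
    | tmul x y => simp [hκ]
    | add p q hp hq => simp only [map_add, hp, hq]

lemma piSq_injective {ι : Type u} [Fintype ι] (T : ι → Type u) [∀ i, CommRing (T i)] [∀ i, Algebra R (T i)]
    {x y : (∀ i, T i) ⊗[R] (∀ i, T i)}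
    (h : ∀ i i', Algebra.TensorProduct.map (Pi.evalAlgHom R T i) (Pi.evalAlgHom R T i') x =
      Algebra.TensorProduct.map (Pi.evalAlgHom R T i) (Pi.evalAlgHom R T i') y) : x = y := by
  classical
  have key : ∀ z : (∀ i, T i) ⊗[R] (∀ i, T i),
      z = ∑ i, ∑ i', TensorProduct.map (LinearMap.single R T i) (LinearMap.single R T i')
        (Algebra.TensorProduct.map (Pi.evalAlgHom R T i) (Pi.evalAlgHom R T i') z) := by
    intro z
    induction z using TensorProduct.induction_on with
    | zero => simp
    | tmul a b =>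
      simp only [Algebra.TensorProduct.map_tmul, TensorProduct.map_tmul, LinearMap.single_apply,
        Pi.evalAlgHom_apply, ← TensorProduct.tmul_sum, ← TensorProduct.sum_tmul, Finset.univ_sum_single]
    | add p q hp hq =>
      simp only [map_add, Finset.sum_add_distrib]
      rw [← hp, ← hq]
  rw [key x, key y]
  simp only [h]

lemma piTensor_injective {ι : Type u} [Fintype ι] (T : ι → Type u) [∀ i, CommRing (T i)] [∀ i, Algebra R (T i)]
    {N : Type u} [AddCommGroup N] [Module R N] {x y : (∀ i, T i) ⊗[R] N}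
    (h : ∀ i, (LinearMap.proj (R := R) (φ := T) i).rTensor N x =
      (LinearMap.proj (R := R) (φ := T) i).rTensor N y) : x = y := by
  classical
  have key : ∀ z : (∀ i, T i) ⊗[R] N,
      z = ∑ i, (LinearMap.single R T i).rTensor N ((LinearMap.proj (R := R) (φ := T) i).rTensor N z) := by
    intro z
    induction z using TensorProduct.induction_on with
    | zero => simp
    | tmul a b =>
      simp only [LinearMap.rTensor_tmul, LinearMap.proj_apply, LinearMap.single_apply,
        ← TensorProduct.sum_tmul, Finset.univ_sum_single]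
    | add p q hp hq =>
      simp only [map_add, Finset.sum_add_distrib]
      rw [← hp, ← hq]
  rw [key x, key y]
  simp only [h]

/-- Invariant functionals descend. -/
theorem exists_haar_of_inv {ι : Type u} [Fintype ι] (T : ι → Type u) [∀ i, CommRing (T i)]
    [∀ i, Algebra R (T i)] [Module.FaithfullyFlat R (∀ i, T i)] (hj : ∀ i, ∃ j : A →ₗ[R] T i, IsInv j) :
    ∃ J : A →ₗ[R] R, J 1 = 1 ∧ ∀ a, P J (CoalgebraStruct.comul (R := R) a) = J a • 1 := by
  classical
  choose j hj using hj
  have hdesc : ∀ a : A, ∃ r : R, ∀ i, algebraMap R (T i) r = j i a := by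
    intro a
    obtain ⟨r, hr⟩ := descend_ring (R := R) (T := ∀ i, T i) (fun i => j i a) (by
      refine piSq_injective T fun i i' => ?_
      simp only [Algebra.TensorProduct.map_tmul, Pi.evalAlgHom_apply, map_one]
      have hU := IsInv.unique ((hj i').comp (Algebra.TensorProduct.includeRight : T i' →ₐ[R] T i ⊗[R] T i'))
        ((hj i).comp (Algebra.TensorProduct.includeLeft : T i →ₐ[R] T i ⊗[R] T i'))
      exact LinearMap.congr_fun hU a)
    exact ⟨r, fun i => congrFun hr i⟩
  choose J hJ using hdesc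
  have hinj : ∀ {r s : R}, (∀ i, algebraMap R (T i) r = algebraMap R (T i) s) → r = s := by
    intro r s hrs
    exact FaithfulSMul.algebraMap_injective R (∀ i, T i) (funext hrs)
  let J' : A →ₗ[R] R :=
    { toFun := J
      map_add' := fun a b => hinj fun i => by rw [map_add, hJ, hJ, hJ, map_add]
      map_smul' := fun c a => hinj fun i => by
        rw [RingHom.id_apply, smul_eq_mul, map_mul, hJ, hJ, map_smul, Algebra.smul_def] }
  refine ⟨J', hinj fun i => ((hJ 1 i).trans (hj i).1).trans (map_one _).symm, fun a => ?_⟩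
  refine Module.FaithfullyFlat.tensorProduct_mk_injective (A := R) (B := ∀ i, T i) A (piTensor_injective T fun i => ?_)
  show (1 : T i) ⊗ₜ[R] P J' (CoalgebraStruct.comul (R := R) a) = (1 : T i) ⊗ₜ[R] (J' a • (1 : A))
  rw [tmul_smul, smul_tmul', ← Algebra.algebraMap_eq_smul_one, show algebraMap R (T i) (J' a) = j i a from hJ a i,
    ← (hj i).2.1 a]
  generalize CoalgebraStruct.comul (R := R) a = z
  induction z using TensorProduct.induction_on with
  | zero => simp
  | tmul x y =>
    simp [show algebraMap R (T i) (J' y) = j i y from hJ y i, tmul_smul, smul_tmul',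
      ← Algebra.algebraMap_eq_smul_one]
  | add p q hp hq => simp only [map_add, tmul_add, hp, hq]

/-- The invariant functional, from a faithfully flat splitting. -/
theorem exists_haar_of_diag (T : Type u) [CommRing T] [Algebra R T] [Module.FaithfullyFlat R T]
    (hd : SGA3b.IsDiag T (T ⊗[R] A)) : ∃ J : A →ₗ[R] R, J 1 = 1 ∧
    ∀ a, P J (CoalgebraStruct.comul (R := R) a) = J a • 1 := by
  obtain ⟨M, _, ⟨e⟩⟩ := hd
  obtain ⟨j, hj⟩ := exists_isInv_of_split (A := A) M e (LinearEquiv.refl T (T ⊗[R] A)) rfl (fun a => by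
    rw [LinearEquiv.refl_apply, comul_one_tmul, LinearEquiv.refl_toLinearMap, TensorProduct.map_id,
      LinearMap.id_apply])
  have hdesc : ∀ a : A, ∃ r : R, algebraMap R T r = j a := fun a => descend_ring _ (by
    exact LinearMap.congr_fun (IsInv.unique (hj.comp (Algebra.TensorProduct.includeRight : T →ₐ[R] T ⊗[R] T))
      (hj.comp (Algebra.TensorProduct.includeLeft : T →ₐ[R] T ⊗[R] T))) a)
  choose J hJ using hdesc
  have hinj := FaithfulSMul.algebraMap_injective R T
  let J' : A →ₗ[R] R :=
    { toFun := J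
      map_add' := fun a b => hinj (by rw [map_add, hJ, hJ, hJ, map_add])
      map_smul' := fun c a => hinj (by
        rw [RingHom.id_apply, smul_eq_mul, map_mul, hJ, hJ, map_smul, Algebra.smul_def]) }
  refine ⟨J', hinj (((hJ 1).trans hj.1).trans (map_one _).symm), fun a => ?_⟩
  refine Module.FaithfullyFlat.tensorProduct_mk_injective (A := R) (B := T) A ?_
  show (1 : T) ⊗ₜ[R] P J' (CoalgebraStruct.comul (R := R) a) = (1 : T) ⊗ₜ[R] (J' a • (1 : A))
  rw [tmul_smul, smul_tmul', ← Algebra.algebraMap_eq_smul_one, show algebraMap R T (J' a) = j a from hJ a,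
    ← hj.2.1 a]
  generalize CoalgebraStruct.comul (R := R) a = z
  induction z using TensorProduct.induction_on with
  | zero => simp
  | tmul x y =>
    simp [show algebraMap R T (J' y) = j y from hJ y, tmul_smul, smul_tmul',
      ← Algebra.algebraMap_eq_smul_one]
  | add p q hp hq => simp only [map_add, tmul_add, hp, hq]

/-- A group of multiplicative type carries an invariant functional. -/
theorem exists_haar (h : SGA3b.IsMultType R A) : ∃ J : A →ₗ[R] R, J 1 = 1 ∧
    ∀ a, P J (CoalgebraStruct.comul (R := R) a) = J a • 1 := by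
  obtain ⟨ι, _, T, _, _, hff, hj⟩ := exists_pieces h
  haveI := hff
  exact exists_haar_of_inv T hj

lemma exists_isInv_of_diag (T : Type u) [CommRing T] [Algebra R T] (hd : SGA3b.IsDiag T (T ⊗[R] A)) :
    ∃ j : A →ₗ[R] T, IsInv j := by
  obtain ⟨M, _, ⟨e⟩⟩ := hd
  exact exists_isInv_of_split (A := A) M e (LinearEquiv.refl T (T ⊗[R] A)) rfl (fun a => by
    rw [LinearEquiv.refl_apply, comul_one_tmul, LinearEquiv.refl_toLinearMap, TensorProduct.map_id,
      LinearMap.id_apply])

theorem exists_haar_mod (h : SGA3b.IsMultType R A) (I : Ideal R) : ∃ J : A →ₗ[R] R, J 1 = 1 ∧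
    ∀ a, P J (CoalgebraStruct.comul (R := R) a) - J a • (1 : A) ∈ I • (⊤ : Submodule R A) := by
  obtain ⟨J, h1, h2⟩ := exists_haar h
  exact ⟨J, h1, fun a => by rw [h2, sub_self]; exact zero_mem _⟩

end Pieces

end Groth.Agent.H8Mult
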