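import Mathlib
import Groth.Prelude.Def_SGA3b
import Groth.Agent.Lib.H8MultCore
import Groth.Agent.Lib.H8Mult
import Groth.Agent.S2978

/-!
# Algebraisation of formal homomorphisms into isotrivial groups of multiplicative type
-/

set_option autoImplicit false

universe u

open TensorProduct

namespace Groth.Agent.H8MultAdic

open H8MultCore H8Mult

section Adic

variable {A : Type u} [CommRing A] [IsNoetherianRing A] (I : Ideal A) [IsAdicComplete I A]

include I in
lemma finite_separated (R' : Type u) [AddCommGroup R'] [Module A R'] [Module.Finite A R'] (x : R')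
    (hx : ∀ n : ℕ, x ∈ (I ^ n) • (⊤ : Submodule A R')) : x = 0 := by
  haveI : IsHausdorff I R' := IsHausdorff.of_le_jacobson I R' (IsAdicComplete.le_jacobson_bot I)
  exact IsHausdorff.haus' (I := I) x fun n => by
    rw [SModEq.zero]; exact hx n

include I in
lemma finite_complete (R' : Type u) [AddCommGroup R'] [Module A R'] [Module.Finite A R'] (x : ℕ → R')
    (hx : ∀ n, x (n + 1) - x n ∈ (I ^ (n + 1)) • (⊤ : Submodule A R')) :
    ∃ L : R', ∀ n, x n - L ∈ (I ^ (n + 1)) • (⊤ : Submodule A R') := by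
  classical
  obtain ⟨d, g, hg⟩ := Module.Finite.exists_fin (R := A) (M := R')
  have hex : ∀ n, ∃ r : Fin d → A, (∀ i, r i ∈ I ^ (n + 1)) ∧ ∑ i, r i • g i = x (n + 1) - x n := by
    intro n
    have h := hx n
    rw [← hg, Submodule.mem_ideal_smul_span_iff_exists_sum] at h
    obtain ⟨a, ha, hsum⟩ := h
    exact ⟨a, ha, by rw [← hsum, Finsupp.sum_fintype _ _ (by simp)]⟩
  choose r hr hrs using hex
  let S : ℕ → Fin d → A := fun n i => ∑ j ∈ Finset.range n, r j i
  have hS : ∀ i, ∃ L : A, ∀ n, S n i - L ∈ I ^ (n + 1) := by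
    intro i
    have hcauchy : ∀ {m n : ℕ}, m ≤ n → S m i ≡ S n i [SMOD (I ^ m • ⊤ : Submodule A A)] := by
      intro m n hmn
      rw [SModEq.sub_mem, smul_eq_mul, Ideal.mul_top, ← neg_mem_iff, neg_sub]
      show (∑ j ∈ Finset.range n, r j i) - ∑ j ∈ Finset.range m, r j i ∈ I ^ m
      rw [Finset.sum_range_sub_sum_range hmn]
      refine Submodule.sum_mem _ fun j hj => ?_
      simp only [Finset.mem_filter, Finset.mem_range] at hj
      exact Ideal.pow_le_pow_right (by omega) (hr j i)
    obtain ⟨L, hL⟩ := IsPrecomplete.prec (I := I) (M := A) inferInstance hcauchy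
    refine ⟨L, fun n => ?_⟩
    have h1 := hL (n + 1)
    rw [SModEq.sub_mem, smul_eq_mul, Ideal.mul_top] at h1
    have h2 : S (n + 1) i - S n i ∈ I ^ (n + 1) := by
      show (∑ j ∈ Finset.range (n + 1), r j i) - ∑ j ∈ Finset.range n, r j i ∈ _
      rw [Finset.sum_range_succ, add_sub_cancel_left]
      exact hr n i
    have := sub_mem h1 h2
    simpa using this
  choose L hL using hS
  refine ⟨x 0 + ∑ i, L i • g i, fun n => ?_⟩
  have hxn : x n = x 0 + ∑ i, S n i • g i := by
    induction n with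
    | zero => simp [S]
    | succ n ih =>
      rw [show x (n + 1) = x n + (x (n + 1) - x n) by abel, ← hrs, ih, add_assoc, ← Finset.sum_add_distrib]
      congr 1
      refine Finset.sum_congr rfl fun i _ => ?_
      rw [← add_smul]
      simp [S, Finset.sum_range_succ]
  rw [hxn, add_sub_add_left_eq_sub, ← Finset.sum_sub_distrib]
  refine Submodule.sum_mem _ fun i _ => ?_
  rw [← sub_smul]
  exact Submodule.smul_mem_smul (hL i n) trivial

end Adic

section Coord

variable {T : Type u} [CommRing T] {M : Type u}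

/-- The coefficient at a point, as a linear map. -/
noncomputable def co (m : M) : MonoidAlgebra T M →ₗ[T] T where
  toFun f := f.coeff m
  map_add' _ _ := by simp
  map_smul' _ _ := by simp

lemma co_single [DecidableEq M] (m m' : M) (r : T) :
    co (T := T) m (MonoidAlgebra.single m' r) = if m' = m then r else 0 := by
  show (MonoidAlgebra.single m' r).coeff m = _
  simp [Finsupp.single_apply]

/-- Coordinates on the tensor square. -/
noncomputable def nu (m m' : M) : MonoidAlgebra T M ⊗[T] MonoidAlgebra T M →ₗ[T] T :=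
  LinearMap.mul' T T ∘ₗ TensorProduct.map (co m) (co m')

lemma nu_ext {z w : MonoidAlgebra T M ⊗[T] MonoidAlgebra T M} (h : ∀ m m', nu m m' z = nu m m' w) : z = w := by
  classical
  let cf : MonoidAlgebra T M →ₗ[T] (M →₀ T) :=
    { toFun := fun f => f.coeff, map_add' := fun _ _ => by simp, map_smul' := fun _ _ => by simp }
  have hcf : Function.Injective cf := MonoidAlgebra.coeff_injective
  let F : MonoidAlgebra T M ⊗[T] MonoidAlgebra T M →ₗ[T] (M × M →₀ T) :=
    (finsuppTensorFinsupp' T M M).toLinearMap ∘ₗ TensorProduct.map cf cf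
  haveI : Module.Flat T (MonoidAlgebra T M) :=
    Module.Flat.of_linearEquiv (LinearEquiv.ofBijective cf ⟨hcf, fun f => ⟨MonoidAlgebra.ofCoeff f, rfl⟩⟩)
  have hF : Function.Injective F :=
    (finsuppTensorFinsupp' T M M).injective.comp (TensorProduct.map_injective_of_flat_flat cf cf hcf hcf)
  refine hF (Finsupp.ext fun p => ?_)
  have key : ∀ y, F y p = nu p.1 p.2 y := by
    intro y
    induction y using TensorProduct.induction_on with
    | zero => simp
    | tmul a b =>
      show finsuppTensorFinsupp' T M M (a.coeff ⊗ₜ[T] b.coeff) (p.1, p.2) = _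
      rw [finsuppTensorFinsupp'_apply_apply]
      rfl
    | add a b ha hb => simp only [map_add, Finsupp.add_apply, ha, hb]
  rw [key, key, h]

lemma nu_comul [DecidableEq M] [CommGroup M] (m m' : M) (f : MonoidAlgebra T M) :
    nu m m' (CoalgebraStruct.comul (R := T) f) = if m = m' then co m f else 0 := by
  induction f using MonoidAlgebra.induction_linear with
  | zero => simp
  | add f g hf hg => simp only [map_add, hf, hg]; split <;> simp
  | single a r =>
    by_cases h1 : a = m <;> by_cases h2 : a = m' <;> by_cases h3 : m = m' <;>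
      simp_all [nu, MonoidAlgebra.comul_single, co_single]

end Coord

section Split

variable {A : Type u} [CommRing A] {B : Type u} [CommRing B] [HopfAlgebra A B]
  {R' : Type u} [CommRing R'] [Algebra A R'] {M : Type u} [CommGroup M]
  (e : R' ⊗[A] B ≃ₐc[R'] MonoidAlgebra R' M)

/-- The embedding of `B` into a splitting. -/
noncomputable def emb : B →ₗ[A] MonoidAlgebra R' M :=
  ((e : R' ⊗[A] B →ₐc[R'] MonoidAlgebra R' M).toLinearMap.restrictScalars A) ∘ₗ TensorProduct.mk A R' B 1

/-- The embedding of the tensor square of `B` into a splitting. -/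
noncomputable def emb2 : B ⊗[A] B →ₗ[A] MonoidAlgebra R' M ⊗[R'] MonoidAlgebra R' M :=
  ((TensorProduct.map (e : R' ⊗[A] B →ₐc[R'] MonoidAlgebra R' M).toLinearMap
    (e : R' ⊗[A] B →ₐc[R'] MonoidAlgebra R' M).toLinearMap).restrictScalars A) ∘ₗ sq (R := A) R' B

lemma emb2_tmul (a b : B) : emb2 e (a ⊗ₜ[A] b) = emb e a ⊗ₜ[R'] emb e b := rfl

lemma comul_emb (b : B) :
    CoalgebraStruct.comul (R := R') (emb e b) = emb2 e (CoalgebraStruct.comul (R := A) b) := by
  show CoalgebraStruct.comul (R := R') (e ((1 : R') ⊗ₜ[A] b)) = _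
  rw [← CoalgHomClass.map_comp_comul_apply e, comul_one_tmul]
  rfl

variable [IsNoetherianRing A] (I : Ideal A) [IsAdicComplete I A] [Module.Finite A R'] [Module.FaithfullyFlat A R']

include e I in
lemma separated {x : B} (hx : ∀ n : ℕ, x ∈ (I ^ n) • (⊤ : Submodule A B)) : x = 0 := by
  have h0 : emb e x = 0 := by
    refine MonoidAlgebra.coeff_injective (Finsupp.ext fun m => ?_)
    simp only [MonoidAlgebra.coeff_zero, Finsupp.coe_zero, Pi.zero_apply]
    exact finite_separated I R' _ fun n => map_smul_top_mem _ ((co m).restrictScalars A ∘ₗ emb e) (hx n)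
  apply Module.FaithfullyFlat.tensorProduct_mk_injective (A := A) (B := R') B
  apply EquivLike.injective e
  exact h0.trans (by simp)

include e I in
lemma separated_sq {x : B ⊗[A] B} (hx : ∀ n : ℕ, x ∈ (I ^ n) • (⊤ : Submodule A (B ⊗[A] B))) : x = 0 := by
  have h0 : emb2 e x = 0 := by
    refine nu_ext fun m m' => ?_
    rw [map_zero]
    exact finite_separated I R' _ fun n => map_smul_top_mem _ ((nu m m').restrictScalars A ∘ₗ emb2 e) (hx n)
  apply Module.FaithfullyFlat.tensorProduct_mk_injective (A := A) (B := R') (B ⊗[A] B)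
  apply (TensorProduct.AlgebraTensorModule.distribBaseChange A R' B B).injective
  have hinj : Function.Injective (TensorProduct.map (e : R' ⊗[A] B →ₐc[R'] MonoidAlgebra R' M).toLinearMap
      (e : R' ⊗[A] B →ₐc[R'] MonoidAlgebra R' M).toLinearMap) := by
    let l : R' ⊗[A] B ≃ₗ[R'] MonoidAlgebra R' M :=
      LinearEquiv.ofBijective (e : R' ⊗[A] B →ₐc[R'] MonoidAlgebra R' M).toLinearMap
        (EquivLike.bijective e)
    exact (TensorProduct.congr l l).injective
  apply hinj
  have key : ∀ y : B ⊗[A] B, TensorProduct.AlgebraTensorModule.distribBaseChange A R' B B ((1 : R') ⊗ₜ[A] y) =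
      sq (R := A) R' B y := by
    intro y
    induction y using TensorProduct.induction_on with
    | zero => simp
    | tmul a b => rfl
    | add p q hp hq => simp only [tmul_add, map_add, hp, hq]
  simp only [TensorProduct.mk_apply, key, map_zero]
  exact h0

include e I in
/-- A compatible family of approximate homomorphisms has a limit. -/
theorem algebraize {C : Type u} [CommRing C] [HopfAlgebra A C] (b : ℕ → C → B)
    (hb : ∀ n c, b (n + 1) c - b n c ∈ (I ^ (n + 1)) • (⊤ : Submodule A B))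
    (hadd : ∀ n c d, b n (c + d) - (b n c + b n d) ∈ (I ^ (n + 1)) • (⊤ : Submodule A B))
    (hmul : ∀ n c d, b n (c * d) - b n c * b n d ∈ (I ^ (n + 1)) • (⊤ : Submodule A B))
    (halg : ∀ n a, b n (algebraMap A C a) - algebraMap A B a ∈ (I ^ (n + 1)) • (⊤ : Submodule A B))
    (hΔ : ∀ n c (s : Finset (C × C)), CoalgebraStruct.comul (R := A) c = ∑ p ∈ s, p.1 ⊗ₜ[A] p.2 →
      CoalgebraStruct.comul (R := A) (b n c) - ∑ p ∈ s, b n p.1 ⊗ₜ[A] b n p.2 ∈
        (I ^ (n + 1)) • (⊤ : Submodule A (B ⊗[A] B))) :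
    ∃ Φ : C →ₐc[A] B, ∀ n c, Φ c - b n c ∈ (I ^ (n + 1)) • (⊤ : Submodule A B) := by
  classical
  haveI : IsNoetherianRing R' := by
    haveI := isNoetherian_of_isNoetherianRing_of_finite A R'
    exact isNoetherianRing_iff.mpr (isNoetherian_of_tower A inferInstance)
  have hlim : ∀ (c : C) (m : M), ∃ L : R', ∀ n,
      co m (emb e (b n c)) - L ∈ (I ^ (n + 1)) • (⊤ : Submodule A R') := by
    intro c m
    refine finite_complete I R' _ fun n => ?_
    rw [← map_sub, ← map_sub]
    exact map_smul_top_mem _ ((co m).restrictScalars A ∘ₗ emb e) (hb n c)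
  choose L hL using hlim
  have hrel : ∀ (c : C) (s : Finset (C × C)), CoalgebraStruct.comul (R := A) c = ∑ p ∈ s, p.1 ⊗ₜ[A] p.2 →
      ∀ m m', (if m = m' then L c m else 0) = ∑ p ∈ s, L p.1 m * L p.2 m' := by
    intro c s hs m m'
    refine sub_eq_zero.mp (finite_separated I R' _ fun n => ?_)
    refine smul_top_mono (Ideal.pow_le_pow_right n.le_succ) ?_
    have h := map_smul_top_mem _ ((nu m m').restrictScalars A ∘ₗ emb2 e) (hΔ n c s hs)
    simp only [LinearMap.comp_apply, LinearMap.restrictScalars_apply, map_sub, map_sum, ← comul_emb, nu_comul,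
      emb2_tmul] at h
    have hprod : ∀ p : C × C, nu m m' (emb e (b n p.1) ⊗ₜ[R'] emb e (b n p.2)) - L p.1 m * L p.2 m' ∈
        (I ^ (n + 1)) • (⊤ : Submodule A R') := by
      intro p
      have e1 : nu m m' (emb e (b n p.1) ⊗ₜ[R'] emb e (b n p.2)) - L p.1 m * L p.2 m' =
          (co m (emb e (b n p.1)) - L p.1 m) * co m' (emb e (b n p.2)) +
            L p.1 m * (co m' (emb e (b n p.2)) - L p.2 m') := by
        simp [nu]; ring
      rw [e1]
      exact add_mem (map_smul_top_mem (M := R') (N := R') _ (LinearMap.mulRight A _) (hL p.1 m n))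
        (map_smul_top_mem (M := R') (N := R') _ (LinearMap.mulLeft A _) (hL p.2 m' n))
    have h2 : (if m = m' then co m (emb e (b n c)) else 0) - (if m = m' then L c m else 0) ∈
        (I ^ (n + 1)) • (⊤ : Submodule A R') := by
      split
      · exact hL c m n
      · rw [sub_self]; exact zero_mem _
    have := add_mem (sub_mem h h2) (Submodule.sum_mem _ fun p (_ : p ∈ s) => hprod p)
    convert this using 1
    rw [Finset.sum_sub_distrib]
    abel
  have hfin : ∀ c : C, {m : M | L c m ≠ 0}.Finite := by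
    intro c
    obtain ⟨s, hs⟩ := TensorProduct.exists_finset (CoalgebraStruct.comul (R := A) c)
    have h := S2978.result R' M (fun p => if p.1 = p.2 then L c p.1 else 0) (fun m m' h => if_neg h) ↥s
      (fun p m => L p.1.1 m) (fun p m => L p.1.2 m)
      (fun m m' => (hrel c s hs m m').trans (Finset.sum_coe_sort s fun p : C × C => L p.1 m * L p.2 m').symm)
    refine (h.image Prod.fst).subset fun m hm => ⟨(m, m), ?_, rfl⟩
    simpa using hm
  let z : C → MonoidAlgebra R' M := fun c =>
    MonoidAlgebra.ofCoeff (Finsupp.onFinset (hfin c).toFinset (L c) fun m hm => (hfin c).mem_toFinset.mpr hm)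
  have hzc : ∀ c m, co m (z c) = L c m := fun c m => rfl
  have hz : ∀ n c, z c - emb e (b n c) ∈ (I ^ (n + 1)) • (⊤ : Submodule A (MonoidAlgebra R' M)) := by
    intro n c
    rw [← MonoidAlgebra.sum_coeff_single (z c - emb e (b n c))]
    refine Submodule.sum_mem _ fun m _ => ?_
    refine map_smul_top_mem (M := R') _
      ({ toFun := MonoidAlgebra.single m, map_add' := fun x y => by simp,
         map_smul' := fun r x => by simp [MonoidAlgebra.smul_single] } : R' →ₗ[A] MonoidAlgebra R' M) ?_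
    show co m (z c - emb e (b n c)) ∈ _
    rw [map_sub, hzc, ← neg_sub]
    exact neg_mem (hL c m n)
  let el : R' ⊗[A] B ≃ₗ[A] MonoidAlgebra R' M := (LinearEquiv.ofBijective
    (e : R' ⊗[A] B →ₐc[R'] MonoidAlgebra R' M).toLinearMap (EquivLike.bijective e)).restrictScalars A
  have hw : ∀ c, ∃ x : B, (1 : R') ⊗ₜ[A] x = el.symm (z c) := by
    intro c
    refine descend _ ?_
    set w := el.symm (z c) with hwdef
    refine sub_eq_zero.mp ?_
    let D : R' ⊗[A] B →ₗ[A] R' ⊗[A] (R' ⊗[A] B) :=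
      TensorProduct.mk A R' (R' ⊗[A] B) 1 - (TensorProduct.mk A R' B 1).lTensor R'
    show D w = 0
    let cf : MonoidAlgebra R' M →ₗ[A] (M →₀ R') :=
      { toFun := fun f => f.coeff, map_add' := fun _ _ => by simp, map_smul' := fun _ _ => by simp }
    have hcf : Function.Injective cf := MonoidAlgebra.coeff_injective
    let F : R' ⊗[A] (R' ⊗[A] B) →ₗ[A] (M →₀ R' ⊗[A] R') :=
      (TensorProduct.finsuppRight A A R' R' M).toLinearMap ∘ₗ (cf ∘ₗ el.toLinearMap).lTensor R'
    have hF : Function.Injective F :=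
      (TensorProduct.finsuppRight A A R' R' M).injective.comp
        (Module.Flat.lTensor_preserves_injective_linearMap _ (hcf.comp el.injective))
    apply hF
    rw [map_zero]
    refine Finsupp.ext fun m => ?_
    refine finite_separated I (R' ⊗[A] R') _ fun n => ?_
    have hwn : w - el.symm (emb e (b n c)) ∈ (I ^ (n + 1)) • (⊤ : Submodule A (R' ⊗[A] B)) := by
      rw [hwdef, ← map_sub]
      exact map_smul_top_mem _ el.symm.toLinearMap (hz n c)
    have hDb : D (el.symm (emb e (b n c))) = 0 := by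
      have : el.symm (emb e (b n c)) = (1 : R') ⊗ₜ[A] b n c := el.symm_apply_apply _
      rw [this]; simp [D]
    have := map_smul_top_mem _ (Finsupp.lapply m ∘ₗ F ∘ₗ D) hwn
    simp only [LinearMap.comp_apply, map_sub, hDb, map_zero, sub_zero, Finsupp.lapply_apply] at this
    exact smul_top_mono (Ideal.pow_le_pow_right n.le_succ) this
  choose Φ hΦ using hw
  have hΦn : ∀ n c, Φ c - b n c ∈ (I ^ (n + 1)) • (⊤ : Submodule A B) := by
    intro n c
    have h1 : (1 : R') ⊗ₜ[A] (Φ c - b n c) ∈ (I ^ (n + 1)) • (⊤ : Submodule A (R' ⊗[A] B)) := by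
      rw [tmul_sub, hΦ, show (1 : R') ⊗ₜ[A] b n c = el.symm (emb e (b n c)) from (el.symm_apply_apply _).symm,
        ← map_sub]
      exact map_smul_top_mem _ el.symm.toLinearMap (hz n c)
    let N : Submodule A B := (I ^ (n + 1)) • ⊤
    rw [← Submodule.Quotient.mk_eq_zero N]
    refine Module.FaithfullyFlat.tensorProduct_mk_injective (A := A) (B := R') (B ⧸ N) ?_
    show (1 : R') ⊗ₜ[A] N.mkQ (Φ c - b n c) = TensorProduct.mk A R' (B ⧸ N) 1 0
    rw [map_zero, ← LinearMap.lTensor_tmul]
    have hvan : ∀ y ∈ (I ^ (n + 1)) • (⊤ : Submodule A (R' ⊗[A] B)), N.mkQ.lTensor R' y = 0 := by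
      intro y hy
      refine Submodule.smul_induction_on hy (fun r hr v _ => ?_) fun p q hp hq => ?_
      · induction v using TensorProduct.induction_on with
        | zero => simp
        | tmul t x =>
          rw [map_smul, LinearMap.lTensor_tmul, ← tmul_smul, ← map_smul]
          have : r • x ∈ N := Submodule.smul_mem_smul hr trivial
          rw [Submodule.mkQ_apply, (Submodule.Quotient.mk_eq_zero N).mpr this, tmul_zero]
        | add p q hp hq => rw [smul_add, map_add, hp trivial, hq trivial, add_zero]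
      · rw [map_add, hp, hq, add_zero]
    exact hvan _ h1
  have hsep : ∀ x : B, (∀ n, x ∈ (I ^ (n + 1)) • (⊤ : Submodule A B)) → x = 0 := fun x hx =>
    separated e I fun n => smul_top_mono (Ideal.pow_le_pow_right n.le_succ) (hx n)
  have hΦmul : ∀ c d, Φ (c * d) = Φ c * Φ d := fun c d => sub_eq_zero.mp (hsep _ fun n => by
    have := add_mem (sub_mem (hΦn n (c * d)) (map_smul_top_mem _ (LinearMap.mulRight A (Φ d)) (hΦn n c)))
      (sub_mem (hmul n c d) (map_smul_top_mem _ (LinearMap.mulLeft A (b n c)) (hΦn n d)))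
    convert this using 1
    simp only [LinearMap.mulRight_apply, LinearMap.mulLeft_apply]
    ring)
  have hΦalg : ∀ a, Φ (algebraMap A C a) = algebraMap A B a := fun a => sub_eq_zero.mp (hsep _ fun n => by
    have := add_mem (hΦn n (algebraMap A C a)) (halg n a)
    convert this using 1
    abel)
  have hΦadd : ∀ c d, Φ (c + d) = Φ c + Φ d := fun c d => sub_eq_zero.mp (hsep _ fun n => by
    have := add_mem (sub_mem (sub_mem (hΦn n (c + d)) (hΦn n c)) (hΦn n d)) (hadd n c d)
    convert this using 1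
    abel)
  let φ : C →ₐ[A] B :=
    { toFun := Φ
      map_one' := by rw [← map_one (algebraMap A C), hΦalg, map_one]
      map_mul' := hΦmul
      map_zero' := by rw [← map_zero (algebraMap A C), hΦalg, map_zero]
      map_add' := hΦadd
      commutes' := hΦalg }
  have hφΔ : ∀ c, TensorProduct.map φ.toLinearMap φ.toLinearMap (CoalgebraStruct.comul (R := A) c) =
      CoalgebraStruct.comul (R := A) (φ c) := by
    intro c
    obtain ⟨s, hs⟩ := TensorProduct.exists_finset (CoalgebraStruct.comul (R := A) c)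
    rw [hs, map_sum]
    refine sub_eq_zero.mp (separated_sq e I fun n => smul_top_mono (Ideal.pow_le_pow_right n.le_succ) ?_)
    have h1 : ∀ p : C × C, Φ p.1 ⊗ₜ[A] Φ p.2 - b n p.1 ⊗ₜ[A] b n p.2 ∈
        (I ^ (n + 1)) • (⊤ : Submodule A (B ⊗[A] B)) := by
      intro p
      have e1 : Φ p.1 ⊗ₜ[A] Φ p.2 - b n p.1 ⊗ₜ[A] b n p.2 =
          (Φ p.1 - b n p.1) ⊗ₜ[A] Φ p.2 + b n p.1 ⊗ₜ[A] (Φ p.2 - b n p.2) := by
        simp [sub_tmul, tmul_sub]
      rw [e1]
      exact add_mem (map_smul_top_mem _ ((TensorProduct.mk A B B).flip (Φ p.2)) (hΦn n p.1))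
        (map_smul_top_mem _ (TensorProduct.mk A B B (b n p.1)) (hΦn n p.2))
    have h2 := map_smul_top_mem _ (CoalgebraStruct.comul (R := A) (A := B)) (hΦn n c)
    rw [map_sub] at h2
    have := sub_mem (sub_mem (Submodule.sum_mem _ fun p (_ : p ∈ s) => h1 p) h2) (hΔ n c s hs)
    convert this using 1
    rw [Finset.sum_sub_distrib]
    show (∑ p ∈ s, Φ p.1 ⊗ₜ[A] Φ p.2) - CoalgebraStruct.comul (R := A) (Φ c) = _
    abel
  have hφε : ∀ c, CoalgebraStruct.counit (R := A) (φ c) = CoalgebraStruct.counit (R := A) c := by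
    intro c
    -- the counit is forced by idempotence
    let a : WithConv (C →ₐ[A] A) := WithConv.toConv ((Bialgebra.counitAlgHom A B).comp φ)
    let g : WithConv (C →ₐ[A] B) := WithConv.toConv φ
    have h : WithConv.toConv ((Algebra.ofId A B).comp ((Bialgebra.counitAlgHom A B).comp φ)) * g = g := by
      refine WithConv.ofConv_injective (AlgHom.ext fun c => ?_)
      show Algebra.TensorProduct.lmul' A (Algebra.TensorProduct.map
        ((Algebra.ofId A B).comp ((Bialgebra.counitAlgHom A B).comp φ)) φ (CoalgebraStruct.comul (R := A) c)) = φ c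
      have e1 : ∀ z : C ⊗[A] C, Algebra.TensorProduct.lmul' A (Algebra.TensorProduct.map
          ((Algebra.ofId A B).comp ((Bialgebra.counitAlgHom A B).comp φ)) φ z) =
          TensorProduct.lid A B ((CoalgebraStruct.counit (R := A) (A := B)).rTensor B
            (TensorProduct.map φ.toLinearMap φ.toLinearMap z)) := by
        intro z
        induction z using TensorProduct.induction_on with
        | zero => simp
        | tmul x y => simp [Algebra.smul_def, Algebra.ofId_apply]
        | add p q hp hq => simp only [map_add, hp, hq]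
      rw [e1, hφΔ, Coalgebra.rTensor_counit_comul]
      simp
    have h' : WithConv.toConv ((Algebra.ofId A B).comp ((Bialgebra.counitAlgHom A B).comp φ)) = 1 := by
      have := congrArg (fun x => x * cinv g) h
      exact (mul_one _).symm.trans ((congrArg _ (mul_cinv g).symm).trans ((mul_assoc _ _ _).symm.trans
        (this.trans (mul_cinv g))))
    have h'' : algebraMap A B (CoalgebraStruct.counit (R := A) (φ c)) = algebraMap A B (CoalgebraStruct.counit (R := A) c) :=
      congrArg (fun f => f.ofConv c) h'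
    simpa using congrArg (Bialgebra.counitAlgHom A B) h''
  exact ⟨BialgHom.ofAlgHom φ (AlgHom.ext hφε) (AlgHom.ext hφΔ), hΦn⟩

end Split

section Step

variable {A : Type u} [CommRing A] {B : Type u} [CommRing B] [HopfAlgebra A B]
  {C : Type u} [CommRing C] [HopfAlgebra A C]

/-- An algebra map `C → B/KB` is comultiplicative. -/
def IsHom (K : Ideal A) (f : C →ₐ[A] (A ⧸ K) ⊗[A] B) : Prop :=
  ∀ c, CoalgebraStruct.comul (R := A ⧸ K) (f c) =
    TensorProduct.lift ((TensorProduct.mk (A ⧸ K) ((A ⧸ K) ⊗[A] B) ((A ⧸ K) ⊗[A] B)).restrictScalars₁₂ A A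
      |>.compl₁₂ f.toLinearMap f.toLinearMap) (CoalgebraStruct.comul (R := A) c)

lemma includeRight_surjective (K : Ideal A) (N : Type u) [AddCommGroup N] [Module A N] :
    Function.Surjective (fun x : N => (1 : A ⧸ K) ⊗ₜ[A] x) := by
  intro z
  induction z using TensorProduct.induction_on with
  | zero => exact ⟨0, tmul_zero _ _⟩
  | tmul r a =>
    obtain ⟨r, rfl⟩ := Ideal.Quotient.mk_surjective r
    refine ⟨r • a, ?_⟩
    show (1 : A ⧸ K) ⊗ₜ[A] (r • a) = _
    rw [← TensorProduct.smul_tmul, ← Ideal.Quotient.algebraMap_eq, ← Algebra.algebraMap_eq_smul_one]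
  | add x y hx hy =>
    obtain ⟨a, rfl⟩ := hx
    obtain ⟨b, rfl⟩ := hy
    exact ⟨a + b, tmul_add _ _ _⟩

lemma isHom_repr {K : Ideal A} {f : C →ₐ[A] (A ⧸ K) ⊗[A] B} (hf : IsHom K f) {b : C → B}
    (hb : ∀ c, f c = (1 : A ⧸ K) ⊗ₜ[A] b c) (c : C) (s : Finset (C × C))
    (hs : CoalgebraStruct.comul (R := A) c = ∑ p ∈ s, p.1 ⊗ₜ[A] p.2) :
    CoalgebraStruct.comul (R := A) (b c) - ∑ p ∈ s, b p.1 ⊗ₜ[A] b p.2 ∈ K • (⊤ : Submodule A (B ⊗[A] B)) := by
  refine mem_smul_top_of_sq_eq_zero ?_
  rw [map_sub, map_sum, ← comul_one_tmul, ← hb, hf c, hs, map_sum, sub_eq_zero]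
  exact Finset.sum_congr rfl fun p _ => by simp [hb]

/-- One step of successive approximation. -/
theorem exists_step [Algebra.FormallySmooth A C] {J : B →ₗ[A] A} (hJ1 : J 1 = 1)
    (hJ : ∀ a, P J (CoalgebraStruct.comul (R := A) a) = J a • 1) (K K' : Ideal A) (hle : K' ≤ K)
    (hKK : K * K ≤ K') (f : C →ₐ[A] (A ⧸ K) ⊗[A] B) (hf : IsHom K f) :
    ∃ f' : C →ₐ[A] (A ⧸ K') ⊗[A] B, IsHom K' f' ∧
      ∀ c (x y : B), f c = (1 : A ⧸ K) ⊗ₜ[A] x → f' c = (1 : A ⧸ K') ⊗ₜ[A] y →
        y - x ∈ K • (⊤ : Submodule A B) := by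
  classical
  let Q' := A ⧸ K'
  let B' := Q' ⊗[A] B
  let red : B' →ₐ[A] (A ⧸ K) ⊗[A] B :=
    Algebra.TensorProduct.map (Ideal.Quotient.factorₐ A hle) (AlgHom.id A B)
  have hred : ∀ x : B, red ((1 : Q') ⊗ₜ[A] x) = (1 : A ⧸ K) ⊗ₜ[A] x := fun x => by show (Ideal.Quotient.factor hle (1 : Q')) ⊗ₜ[A] x = _; rw [map_one]
  have hsurj : Function.Surjective red := fun z => by
    obtain ⟨x, rfl⟩ := includeRight_surjective K B z
    exact ⟨_, hred x⟩
  have hker : RingHom.ker (red : B' →+* (A ⧸ K) ⊗[A] B) ≤ K.map (algebraMap A B') := by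
    intro w hw
    obtain ⟨x, rfl⟩ := includeRight_surjective K' B w
    have hx : x ∈ K • (⊤ : Submodule A B) := mem_smul_top_of_one_tmul_eq_zero ((hred x).symm.trans hw)
    exact (mem_map_iff K _).mpr (map_smul_top_mem K (TensorProduct.mk A Q' B 1) hx)
  have hK'0 : K'.map (algebraMap A B') = ⊥ := by
    rw [Ideal.map_eq_bot_iff_le_ker]
    intro a ha
    show algebraMap A B' a = 0
    rw [IsScalarTower.algebraMap_apply A Q' B', Ideal.Quotient.algebraMap_eq,
      Ideal.Quotient.eq_zero_iff_mem.mpr ha, map_zero]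
  have hnil : IsNilpotent (RingHom.ker (red : B' →+* (A ⧸ K) ⊗[A] B)) := by
    refine ⟨2, le_bot_iff.mp ?_⟩
    refine (Ideal.pow_right_mono hker 2).trans ?_
    rw [← Ideal.map_pow, pow_two, ← hK'0]
    exact Ideal.map_mono hKK
  let g := Algebra.FormallySmooth.liftOfSurjective f red hsurj hnil
  have hg : ∀ c, red (g c) = f c := fun c => Algebra.FormallySmooth.liftOfSurjective_apply f red hsurj hnil c
  choose b hb using fun c => includeRight_surjective K' B (g c)
  simp only at hb
  have hfb : ∀ c, f c = (1 : A ⧸ K) ⊗ₜ[A] b c := fun c => by rw [← hg, ← hb, hred]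
  let ψ₀ : Q' ⊗[A] C →ₐ[Q'] B' :=
    Algebra.TensorProduct.lift (Algebra.ofId Q' B') g (fun _ _ => Commute.all _ _)
  have hψ : ∀ c, ψ₀ ((1 : Q') ⊗ₜ[A] c) = g c := fun c => by simp [ψ₀]
  let Kq : Ideal Q' := K.map (Ideal.Quotient.mk K')
  have hKq : IsNilpotent Kq := by
    refine ⟨2, ?_⟩
    rw [Ideal.zero_eq_bot, ← Ideal.map_pow, Ideal.map_eq_bot_iff_le_ker, Ideal.mk_ker, pow_two]
    exact hKK
  let J' : B' →ₗ[Q'] Q' := (TensorProduct.AlgebraTensorModule.rid A Q' Q').toLinearMap ∘ₗ J.baseChange Q'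
  have hJ'x : ∀ x : B, J' ((1 : Q') ⊗ₜ[A] x) = J x • (1 : Q') := fun x => by
    show TensorProduct.AlgebraTensorModule.rid A Q' Q' ((1 : Q') ⊗ₜ[A] J x) = _
    rw [TensorProduct.AlgebraTensorModule.rid_tmul]
  have hJ'1 : J' 1 = 1 := by simp [J', B', Algebra.TensorProduct.one_def, hJ1]
  have hJ' : ∀ w : B', P J' (CoalgebraStruct.comul (R := Q') w) - J' w • (1 : B') ∈ Kq • (⊤ : Submodule Q' B') := by
    intro w
    obtain ⟨x, rfl⟩ := includeRight_surjective K' B w
    have e1 : P J' (sq (R := A) Q' B (CoalgebraStruct.comul (R := A) x)) =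
        (1 : Q') ⊗ₜ[A] P J (CoalgebraStruct.comul (R := A) x) := by
      generalize CoalgebraStruct.comul (R := A) x = z
      induction z using TensorProduct.induction_on with
      | zero => simp
      | tmul u v => simp [hJ'x, tmul_smul, smul_tmul']; exact TensorProduct.smul_tmul' _ _ _
      | add u v hu hv => simp only [map_add, tmul_add, hu, hv]
    rw [comul_one_tmul, e1, hJ]
    have e2 : (1 : Q') ⊗ₜ[A] (J x • (1 : B)) = J' ((1 : Q') ⊗ₜ[A] x) • (1 : B') := by
      simp [hJ'x, B', tmul_smul, smul_tmul', Algebra.TensorProduct.one_def]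
    rw [e2, sub_self]
    exact zero_mem _
  have hmap : ∀ {N : Type u} [AddCommGroup N] [Module A N] [Module Q' N] [IsScalarTower A Q' N] (w : N),
      w ∈ K • (⊤ : Submodule A N) → w ∈ Kq • (⊤ : Submodule Q' N) := by
    intro N _ _ _ _ w hw
    refine Submodule.smul_induction_on hw (fun r hr v _ => ?_) fun p q hp hq => add_mem hp hq
    rw [← algebraMap_smul Q' r v]
    exact Submodule.smul_mem_smul (Ideal.mem_map_of_mem _ hr) trivial
  obtain ⟨φ, hφ⟩ := exists_bialgHom_lift J' hJ'1 Kq hKq hJ' ψ₀ (by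
    intro w
    induction w using TensorProduct.induction_on with
    | zero => simp
    | add p q hp hq => simp only [map_add]; rw [add_sub_add_comm]; exact add_mem hp hq
    | tmul r c =>
      rw [show r ⊗ₜ[A] c = r • ((1 : Q') ⊗ₜ[A] c) by simp [smul_tmul']]
      simp only [map_smul, ← smul_sub]
      refine Submodule.smul_mem _ r ?_
      obtain ⟨s, hs⟩ := TensorProduct.exists_finset (CoalgebraStruct.comul (R := A) c)
      have e : CoalgebraStruct.comul (R := Q') (ψ₀ ((1 : Q') ⊗ₜ[A] c)) -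
          TensorProduct.map ψ₀.toLinearMap ψ₀.toLinearMap (CoalgebraStruct.comul (R := Q') ((1 : Q') ⊗ₜ[A] c)) =
          sq (R := A) Q' B (CoalgebraStruct.comul (R := A) (b c) - ∑ p ∈ s, b p.1 ⊗ₜ[A] b p.2) := by
        rw [hψ, ← hb, comul_one_tmul, comul_one_tmul, hs, map_sum, map_sum, map_sub, map_sum]
        congr 1
        refine Finset.sum_congr rfl fun p _ => ?_
        simp [hψ, ← hb]
      rw [e]
      exact hmap _ (map_smul_top_mem K (sq (R := A) Q' B) (isHom_repr hf hfb c s hs)))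
  let f' : C →ₐ[A] B' :=
    ((φ : Q' ⊗[A] C →ₐ[Q'] B').restrictScalars A).comp Algebra.TensorProduct.includeRight
  refine ⟨f', fun c => ?_, fun c x y hx hy => ?_⟩
  · show CoalgebraStruct.comul (R := Q') (φ ((1 : Q') ⊗ₜ[A] c)) = _
    rw [← CoalgHomClass.map_comp_comul_apply φ, comul_one_tmul]
    generalize CoalgebraStruct.comul (R := A) c = z
    induction z using TensorProduct.induction_on with
    | zero => simp
    | tmul u v => rfl
    | add u v hu hv => simp only [map_add, hu, hv]
  · refine mem_smul_top_of_one_tmul_eq_zero ?_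
    rw [tmul_sub, ← hx, ← hred, ← hy, sub_eq_zero, ← hg]
    have h := hφ ((1 : Q') ⊗ₜ[A] c)
    rw [hψ] at h
    refine sub_eq_zero.mp ?_
    rw [← map_sub]
    show red _ = 0
    refine Submodule.smul_induction_on h (fun r hr v _ => ?_) fun p q hp hq => by rw [map_add, hp, hq, add_zero]
    obtain ⟨a, ha, rfl⟩ := (Ideal.mem_map_iff_of_surjective _ Ideal.Quotient.mk_surjective).mp hr
    rw [← Ideal.Quotient.algebraMap_eq, algebraMap_smul, map_smul]
    obtain ⟨x', hx'⟩ := includeRight_surjective K B (red v)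
    rw [← hx']
    show a • ((1 : A ⧸ K) ⊗ₜ[A] x') = 0
    rw [smul_tmul', ← Algebra.algebraMap_eq_smul_one, Ideal.Quotient.algebraMap_eq,
      Ideal.Quotient.eq_zero_iff_mem.mpr ha, zero_tmul]

/-- The powers `I ^ (n + 1)`, by recursion. -/
def pw (I : Ideal A) : ℕ → Ideal A
  | 0 => I
  | n + 1 => I * pw I n

/-- A homomorphism modulo `I` gives a compatible system of approximations. -/
theorem exists_approx [Algebra.FormallySmooth A C] {J : B →ₗ[A] A} (hJ1 : J 1 = 1)
    (hJ : ∀ a, P J (CoalgebraStruct.comul (R := A) a) = J a • 1) (I : Ideal A)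
    (f₀ : C →ₐ[A] (A ⧸ I) ⊗[A] B) (hf₀ : IsHom I f₀) :
    ∃ b : ℕ → C → B, (∀ c, f₀ c = (1 : A ⧸ I) ⊗ₜ[A] b 0 c) ∧
      (∀ n c, b (n + 1) c - b n c ∈ (I ^ (n + 1)) • (⊤ : Submodule A B)) ∧
      (∀ n c d, b n (c + d) - (b n c + b n d) ∈ (I ^ (n + 1)) • (⊤ : Submodule A B)) ∧
      (∀ n c d, b n (c * d) - b n c * b n d ∈ (I ^ (n + 1)) • (⊤ : Submodule A B)) ∧
      (∀ n a, b n (algebraMap A C a) - algebraMap A B a ∈ (I ^ (n + 1)) • (⊤ : Submodule A B)) ∧
      ∀ n c (s : Finset (C × C)), CoalgebraStruct.comul (R := A) c = ∑ p ∈ s, p.1 ⊗ₜ[A] p.2 →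
        CoalgebraStruct.comul (R := A) (b n c) - ∑ p ∈ s, b n p.1 ⊗ₜ[A] b n p.2 ∈
          (I ^ (n + 1)) • (⊤ : Submodule A (B ⊗[A] B)) := by
  let K : ℕ → Ideal A := pw I
  have hK : ∀ n, K n = I ^ (n + 1) := by
    intro n
    induction n with
    | zero => simp [K, pw]
    | succ n ih =>
      show I * K n = _
      rw [ih, ← pow_succ' I (n + 1)]
  have hstep := fun (n : ℕ) (f : C →ₐ[A] (A ⧸ K n) ⊗[A] B) (hf : IsHom (K n) f) =>
    exists_step hJ1 hJ (K n) (K (n + 1)) (Ideal.mul_le_right : I * K n ≤ K n)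
      (Ideal.mul_mono_left ((hK n).le.trans (Ideal.pow_le_self (Nat.succ_ne_zero n)))) f hf
  choose nxt hnxt hnxt' using hstep
  let F : (n : ℕ) → {f : C →ₐ[A] (A ⧸ K n) ⊗[A] B // IsHom (K n) f} :=
    fun n => Nat.rec ⟨f₀, hf₀⟩ (fun n f => ⟨nxt n f.1 f.2, hnxt n f.1 f.2⟩) n
  choose b hb using fun n c => includeRight_surjective (K n) B ((F n).1 c)
  simp only at hb
  refine ⟨b, fun c => (hb 0 c).symm, fun n c => ?_, fun n c d => ?_, fun n c d => ?_, fun n a => ?_,
    fun n c s hs => ?_⟩
  · rw [← hK]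
    exact hnxt' n (F n).1 (F n).2 c _ _ (hb n c).symm (hb (n + 1) c).symm
  · rw [← hK]
    exact mem_smul_top_of_one_tmul_eq_zero (by rw [tmul_sub, tmul_add, hb, hb, hb, map_add, sub_self])
  · rw [← hK]
    refine mem_smul_top_of_one_tmul_eq_zero ?_
    rw [tmul_sub, hb, show (1 : A ⧸ K n) ⊗ₜ[A] (b n c * b n d) =
      ((1 : A ⧸ K n) ⊗ₜ[A] b n c) * ((1 : A ⧸ K n) ⊗ₜ[A] b n d) by simp, hb, hb, map_mul, sub_self]
  · rw [← hK]
    refine mem_smul_top_of_one_tmul_eq_zero ?_
    rw [tmul_sub, hb, AlgHom.commutes, Algebra.TensorProduct.algebraMap_apply']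
    simp
  · rw [← hK]
    exact isHom_repr (F n).2 (fun c => (hb n c).symm) c s hs

end Step

end Groth.Agent.H8MultAdic
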