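import Mathlib

/-! Étale algebras lift along nil ideals. -/

set_option autoImplicit false

universe u

open TensorProduct

namespace Groth.Agent.H8EtaleLift

variable (R : Type u) [CommRing R] (I : Ideal R)

lemma exists_mk_tmul {S : Type u} [CommRing S] [Algebra R S] (z : (R ⧸ I) ⊗[R] S) :
    ∃ x : S, (1 : R ⧸ I) ⊗ₜ[R] x = z := by
  induction z using TensorProduct.induction_on with
  | zero => exact ⟨0, tmul_zero _ _⟩
  | tmul r a =>
    obtain ⟨r, rfl⟩ := Ideal.Quotient.mk_surjective r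
    refine ⟨r • a, ?_⟩
    rw [← TensorProduct.smul_tmul, ← Ideal.Quotient.algebraMap_eq, ← Algebra.algebraMap_eq_smul_one]
  | add x y hx hy =>
    obtain ⟨a, rfl⟩ := hx
    obtain ⟨b, rfl⟩ := hy
    exact ⟨a + b, tmul_add _ _ _⟩

lemma isNilpotent_of_one_tmul_eq_zero (hI : ∀ x ∈ I, IsNilpotent x) {S : Type u} [CommRing S] [Algebra R S]
    {x : S} (h : (1 : R ⧸ I) ⊗ₜ[R] x = 0) : IsNilpotent x := by
  have h1 : x ∈ I • (⊤ : Submodule R S) := by
    have := congrArg (TensorProduct.quotTensorEquivQuotSMul S I) h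
    rw [map_zero, TensorProduct.quotTensorEquivQuotSMul_mk_one_tmul] at this
    exact (Submodule.Quotient.mk_eq_zero _).mp this
  refine Submodule.smul_induction_on h1 (fun r hr s _ => ?_) fun p q hp hq => (Commute.all p q).isNilpotent_add hp hq
  rw [Algebra.smul_def]
  exact (Commute.all _ _).isNilpotent_mul_right ((hI r hr).map (algebraMap R S))

theorem exists_lift (hI : ∀ x ∈ I, IsNilpotent x) (S₀ : Type u) [CommRing S₀] [Algebra (R ⧸ I) S₀]
    [Algebra.Etale (R ⧸ I) S₀] :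
    ∃ (S : Type u) (_ : CommRing S) (_ : Algebra R S), Algebra.Etale R S ∧
      Nonempty ((R ⧸ I) ⊗[R] S ≃ₐ[R ⧸ I] S₀) := by
  classical
  obtain ⟨ι, σ, _, _, P, hP⟩ := (Algebra.Etale.iff_isStandardSmoothOfRelativeDimension_zero.mp
    (inferInstance : Algebra.Etale (R ⧸ I) S₀)).out
  letI : Algebra R S₀ := ((algebraMap (R ⧸ I) S₀).comp (algebraMap R (R ⧸ I))).toAlgebra
  haveI : IsScalarTower R (R ⧸ I) S₀ := IsScalarTower.of_algebraMap_eq' rfl
  haveI : P.toPresentation.HasCoeffs R := ⟨fun x _ => Ideal.Quotient.mk_surjective x⟩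
  let S := P.toPresentation.ModelOfHasCoeffs R
  let e : (R ⧸ I) ⊗[R] S ≃ₐ[R ⧸ I] S₀ := P.toPresentation.tensorModelOfHasCoeffsEquiv R
  letI := Fintype.ofFinite σ
  let Q := P.toPreSubmersivePresentation.ofHasCoeffs R
  have hmap : Q.jacobiMatrix.map (MvPolynomial.map (algebraMap R (R ⧸ I))) = P.jacobiMatrix := by
    refine Matrix.ext fun i j => ?_
    simp [Q, Algebra.PreSubmersivePresentation.jacobiMatrix_apply, ← MvPolynomial.pderiv_map,
      Algebra.Presentation.map_relationOfHasCoeffs]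
    rw [← Ideal.Quotient.algebraMap_eq, Algebra.Presentation.map_relationOfHasCoeffs]
  have hu : IsUnit Q.jacobian := by
    obtain ⟨u, hu⟩ := P.jacobian_isUnit
    obtain ⟨y, hy⟩ := exists_mk_tmul R I (S := S) (e.symm ↑u⁻¹)
    have hJ : e ((1 : R ⧸ I) ⊗ₜ[R] Q.jacobian) = P.jacobian := by
      rw [Q.jacobian_eq_jacobiMatrix_det, P.jacobian_eq_jacobiMatrix_det, Algebra.Generators.algebraMap_apply,
        Algebra.Generators.algebraMap_apply]
      have : MvPolynomial.aeval Q.val Q.jacobiMatrix.det =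
          Ideal.Quotient.mk _ Q.jacobiMatrix.det := by
        refine Eq.trans ?_ (DFunLike.congr_fun (MvPolynomial.aeval_unique (Ideal.Quotient.mkₐ R _)).symm _)
        rfl
      rw [this]
      show P.toPresentation.tensorModelOfHasCoeffsEquiv R ((1 : R ⧸ I) ⊗ₜ[R] Ideal.Quotient.mk _ _) = _
      rw [Algebra.Presentation.tensorModelOfHasCoeffsEquiv_tmul, map_one, one_mul,
        ← MvPolynomial.aeval_map_algebraMap (R ⧸ I)]
      congr 1
      rw [← hmap, RingHom.map_det]
      rfl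
    have h1 : IsNilpotent (Q.jacobian * y - 1) := isNilpotent_of_one_tmul_eq_zero R I hI (by
      apply e.injective
      rw [tmul_sub, map_sub, map_zero,
        show (1 : R ⧸ I) ⊗ₜ[R] (Q.jacobian * y) = ((1 : R ⧸ I) ⊗ₜ[R] Q.jacobian) * ((1 : R ⧸ I) ⊗ₜ[R] y) by simp,
        map_mul, hy, hJ, AlgEquiv.apply_symm_apply, ← hu, Units.mul_inv,
        ← Algebra.TensorProduct.one_def, map_one, sub_self])
    have h2 : IsUnit (Q.jacobian * y) := by
      have := h1.isUnit_add_one
      rwa [sub_add_cancel] at this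
    exact isUnit_of_mul_isUnit_left h2
  let P' : Algebra.SubmersivePresentation R S ι σ := { Q with jacobian_isUnit := hu }
  refine ⟨S, inferInstance, inferInstance, ?_, ⟨e⟩⟩
  rw [Algebra.Etale.iff_isStandardSmoothOfRelativeDimension_zero]
  exact ⟨ι, σ, inferInstance, inferInstance, P', hP⟩

/-- A lift of a faithfully flat algebra is faithfully flat. -/
theorem faithfullyFlat_of_lift (hI : ∀ x ∈ I, IsNilpotent x) (S : Type u) [CommRing S] [Algebra R S]
    [Module.Flat R S] [Module.FaithfullyFlat (R ⧸ I) ((R ⧸ I) ⊗[R] S)] : Module.FaithfullyFlat R S := by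
  refine Module.FaithfullyFlat.of_comap_surjective fun p => ?_
  have hle : I ≤ p.asIdeal := fun x hx => by
    obtain ⟨n, hn⟩ := hI x hx
    exact p.isPrime.mem_of_pow_mem n (hn ▸ zero_mem _)
  haveI : (p.asIdeal.map (Ideal.Quotient.mk I)).IsPrime :=
    Ideal.map_isPrime_of_surjective Ideal.Quotient.mk_surjective (by rw [Ideal.mk_ker]; exact hle)
  obtain ⟨q, hq⟩ := PrimeSpectrum.comap_surjective_of_faithfullyFlat (A := R ⧸ I) (B := (R ⧸ I) ⊗[R] S)
    ⟨p.asIdeal.map (Ideal.Quotient.mk I), inferInstance⟩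
  refine ⟨PrimeSpectrum.comap (Algebra.TensorProduct.includeRight : S →ₐ[R] (R ⧸ I) ⊗[R] S).toRingHom q, ?_⟩
  apply PrimeSpectrum.ext
  have h1 : Ideal.comap (algebraMap R (R ⧸ I)) (p.asIdeal.map (Ideal.Quotient.mk I)) = p.asIdeal := by
    rw [Ideal.Quotient.algebraMap_eq, Ideal.comap_map_of_surjective _ Ideal.Quotient.mk_surjective,
      ← RingHom.ker_eq_comap_bot, Ideal.mk_ker, sup_eq_left]
    exact hle
  rw [← h1, ← show (PrimeSpectrum.comap (algebraMap (R ⧸ I) ((R ⧸ I) ⊗[R] S)) q).asIdeal =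
    p.asIdeal.map (Ideal.Quotient.mk I) from congrArg PrimeSpectrum.asIdeal hq]
  show Ideal.comap (algebraMap R S) (Ideal.comap _ q.asIdeal) = Ideal.comap _ (Ideal.comap _ q.asIdeal)
  rw [Ideal.comap_comap, Ideal.comap_comap]
  congr 1
  exact RingHom.ext fun r => (Algebra.TensorProduct.includeRight.commutes r).trans
    (IsScalarTower.algebraMap_apply R (R ⧸ I) ((R ⧸ I) ⊗[R] S) r)

end Groth.Agent.H8EtaleLift
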