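import Mathlib
import Groth.Prelude.Def_SGA3b
import Groth.Agent.Lib.H8MultCore
import Groth.Agent.Lib.H8Mult
import Groth.Agent.Lib.H8MultAdic
import Groth.Agent.Lib.H8EtaleLift

/-!
# Group-like elements and deformation invariance of diagonalisability
-/

set_option autoImplicit false

universe u

open TensorProduct WithConv

namespace Groth.Agent.H8MultGL

open H8MultCore H8Mult H8MultAdic

section Basic

variable {R : Type u} [CommRing R]

/-- The group algebra of `ℤ` is formally smooth. -/
instance formallySmooth_laurent : Algebra.FormallySmooth R (MonoidAlgebra R (Multiplicative ℤ)) := by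
  refine Algebra.FormallySmooth.iff_comp_surjective.mpr fun B _ _ I hI f => ?_
  let x : B ⧸ I := f (MonoidAlgebra.of R _ (Multiplicative.ofAdd 1))
  have hx : IsUnit x := by
    refine IsUnit.of_mul_eq_one (f (MonoidAlgebra.of R _ (Multiplicative.ofAdd (-1)))) ?_
    rw [← map_mul, ← map_mul, show Multiplicative.ofAdd (1 : ℤ) * Multiplicative.ofAdd (-1) = 1 by
      rw [← ofAdd_add]; simp, map_one, map_one]
  obtain ⟨a, ha⟩ := Ideal.Quotient.mk_surjective x
  have hu : IsUnit a := (IsNilpotent.isUnit_quotient_mk_iff ⟨2, hI⟩).mp (ha ▸ hx)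
  let F : Multiplicative ℤ →* B := (Units.coeHom B).comp (zpowersHom Bˣ hu.unit)
  refine ⟨MonoidAlgebra.lift R B (Multiplicative ℤ) F, ?_⟩
  apply MonoidAlgebra.algHom_ext'
  · apply MonoidHom.ext_mint
    show Ideal.Quotient.mk I (MonoidAlgebra.lift R B (Multiplicative ℤ) F (MonoidAlgebra.single _ 1)) = _
    simp [F, ha, x]
  · exact Subsingleton.elim _ _

variable {A : Type u} [CommRing A] [HopfAlgebra R A]

/-- A homomorphism of a group into group-like elements gives a map of bialgebras. -/
noncomputable def theta {M : Type u} [CommMonoid M] (G : M →* GroupLike R A) : MonoidAlgebra R M →ₐc[R] A :=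
  BialgHom.ofAlgHom (MonoidAlgebra.lift R A M
      { toFun := fun m => (G m).val, map_one' := by simp, map_mul' := fun a b => by simp })
    (by
      apply MonoidAlgebra.algHom_ext
      · intro m; simp [(G m).2.counit_eq_one]
      · exact Subsingleton.elim _ _)
    (by
      apply MonoidAlgebra.algHom_ext
      · intro m; simp [(G m).2.comul_eq_tmul_self]
      · exact Subsingleton.elim _ _)

lemma theta_single {M : Type u} [CommMonoid M] (G : M →* GroupLike R A) (m : M) (r : R) :
    theta G (MonoidAlgebra.single m r) = r • (G m).val := by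
  show MonoidAlgebra.lift R A M _ (MonoidAlgebra.single m r) = _
  rw [MonoidAlgebra.lift_single]
  rfl

lemma exists_fg_of_mem {I : Ideal R} {M : Type u} [AddCommGroup M] [Module R M] {x : M}
    (hx : x ∈ I • (⊤ : Submodule R M)) : ∃ I₀ : Ideal R, I₀ ≤ I ∧ I₀.FG ∧ x ∈ I₀ • (⊤ : Submodule R M) := by
  refine Submodule.smul_induction_on hx (fun r hr m _ => ?_) fun p q hp hq => ?_
  · exact ⟨Ideal.span {r}, (Ideal.span_singleton_le_iff_mem I).mpr hr, ⟨{r}, by simp⟩,
      Submodule.smul_mem_smul (Ideal.mem_span_singleton_self r) trivial⟩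
  · obtain ⟨I₁, h₁, f₁, m₁⟩ := hp
    obtain ⟨I₂, h₂, f₂, m₂⟩ := hq
    exact ⟨I₁ ⊔ I₂, sup_le h₁ h₂, Submodule.FG.sup f₁ f₂,
      add_mem (smul_top_mono le_sup_left m₁) (smul_top_mono le_sup_right m₂)⟩

lemma isNilpotent_of_fg {I I₀ : Ideal R} (hI : ∀ x ∈ I, IsNilpotent x) (hle : I₀ ≤ I) (hfg : I₀.FG) :
    IsNilpotent I₀ :=
  (Ideal.FG.isNilpotent_iff_le_nilradical hfg).mpr fun x hx => mem_nilradical.mpr (hI x (hle hx))

variable {J : A →ₗ[R] R}

/-- Group-like elements congruent modulo a nilpotent ideal are equal. -/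
theorem groupLike_unique (hJ1 : J 1 = 1) (I : Ideal R) (hI : IsNilpotent I)
    (hJ : ∀ a : A, P J (CoalgebraStruct.comul (R := R) a) - J a • (1 : A) ∈ I • (⊤ : Submodule R A))
    {g h : GroupLike R A} (hgh : g.val - h.val ∈ I • (⊤ : Submodule R A)) : g = h := by
  let G : GroupLike R A → (ULift.{u} (Multiplicative ℤ) →* GroupLike R A) := fun g =>
    (zpowersHom (GroupLike R A) g).comp (MulEquiv.ulift (α := Multiplicative ℤ)).toMonoidHom
  let q := Ideal.Quotient.mkₐ R (I.map (algebraMap R A))
  have hq : q.comp (theta (G g) : MonoidAlgebra R (ULift.{u} (Multiplicative ℤ)) →ₐ[R] A) =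
      q.comp (theta (G h) : MonoidAlgebra R (ULift.{u} (Multiplicative ℤ)) →ₐ[R] A) := by
    apply MonoidAlgebra.algHom_ext'
    · let Q : GroupLike R A → Multiplicative ℤ →* (A ⧸ I.map (algebraMap R A)) := fun g =>
        (q : A →* (A ⧸ I.map (algebraMap R A))).comp
          ({ toFun := GroupLike.val, map_one' := rfl, map_mul' := fun _ _ => rfl : GroupLike R A →* A }.comp
            (zpowersHom (GroupLike R A) g))
      have hQ : Q g = Q h := MonoidHom.ext_mint (by
        show q (g ^ (1 : ℤ)).val = q (h ^ (1 : ℤ)).val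
        rw [zpow_one, zpow_one]
        exact Ideal.Quotient.eq.mpr ((mem_map_iff I _).mpr hgh))
      refine MonoidHom.ext fun n => ?_
      show q (theta (G g) (MonoidAlgebra.single n 1)) = q (theta (G h) (MonoidAlgebra.single n 1))
      rw [theta_single, theta_single, one_smul, one_smul]
      exact DFunLike.congr_fun hQ n.down
    · exact Subsingleton.elim _ _
  have := eq_of_congr J hJ1 I hI hJ (theta (G g)) (theta (G h)) fun c =>
    (mem_map_iff I _).mp (Ideal.Quotient.eq.mp (AlgHom.congr_fun hq c))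
  have h1 := congrArg (fun f => f (MonoidAlgebra.single (ULift.up (Multiplicative.ofAdd (1 : ℤ))) (1 : R))) this
  simp only [theta_single, one_smul] at h1
  refine GroupLike.val_injective ?_
  simpa [G, show ∀ x : Multiplicative ℤ, MulEquiv.ulift (ULift.up.{u} x) = x from fun _ => rfl] using h1

/-- Approximate group-like elements lift. -/
theorem groupLike_lift (hJ1 : J 1 = 1) (I : Ideal R) (hI : IsNilpotent I)
    (hJ : ∀ a : A, P J (CoalgebraStruct.comul (R := R) a) - J a • (1 : A) ∈ I • (⊤ : Submodule R A))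
    (a : A) (hε : CoalgebraStruct.counit (R := R) a - 1 ∈ I)
    (hΔ : CoalgebraStruct.comul (R := R) a - a ⊗ₜ[R] a ∈ I • (⊤ : Submodule R (A ⊗[R] A))) :
    ∃ g : GroupLike R A, g.val - a ∈ I • (⊤ : Submodule R A) := by
  have hu : IsUnit a := by
    have h1 := map_smul_top_mem I (LinearMap.mul' R A ∘ₗ (HopfAlgebraStruct.antipode R).lTensor A) hΔ
    simp only [LinearMap.comp_apply, map_sub, LinearMap.lTensor_tmul, LinearMap.mul'_apply] at h1
    rw [HopfAlgebra.mul_antipode_lTensor_comul_apply] at h1
    have h2 : algebraMap R A (CoalgebraStruct.counit (R := R) a - 1) ∈ I • (⊤ : Submodule R A) :=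
      (mem_map_iff I _).mp (Ideal.mem_map_of_mem _ hε)
    have h3 : a * HopfAlgebraStruct.antipode R a - 1 ∈ I • (⊤ : Submodule R A) := by
      have := sub_mem h2 h1
      rw [map_sub, map_one] at this
      convert this using 1
      ring
    have h4 := (isNilpotent_of_mem hI h3).isUnit_add_one
    rw [sub_add_cancel] at h4
    exact isUnit_of_mul_isUnit_left h4
  let ψ₀ : MonoidAlgebra R (Multiplicative ℤ) →ₐ[R] A :=
    MonoidAlgebra.lift R A (Multiplicative ℤ) ((Units.coeHom A).comp (zpowersHom Aˣ hu.unit))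
  have hψ : ψ₀ (MonoidAlgebra.single (Multiplicative.ofAdd (1 : ℤ)) 1) = a := by simp [ψ₀]
  have hq : ((Ideal.Quotient.mkₐ R (I.map (algebraMap R (A ⊗[R] A)))).comp
      ((Bialgebra.comulAlgHom R A).comp ψ₀)) =
      (Ideal.Quotient.mkₐ R (I.map (algebraMap R (A ⊗[R] A)))).comp
        ((Algebra.TensorProduct.map ψ₀ ψ₀).comp (Bialgebra.comulAlgHom R _)) := by
    apply MonoidAlgebra.algHom_ext'
    · refine MonoidHom.ext_mint ?_
      show Ideal.Quotient.mk _ (CoalgebraStruct.comul (R := R) (ψ₀ (MonoidAlgebra.single _ 1))) =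
        Ideal.Quotient.mk _ (Algebra.TensorProduct.map ψ₀ ψ₀
          (CoalgebraStruct.comul (R := R) (MonoidAlgebra.single (Multiplicative.ofAdd (1 : ℤ)) (1 : R))))
      rw [MonoidAlgebra.comul_single, CommSemiring.comul_apply, TensorProduct.map_tmul, hψ]
      simp only [MonoidAlgebra.lsingle_apply, Algebra.TensorProduct.map_tmul, hψ]
      exact Ideal.Quotient.eq.mpr ((mem_map_iff I _).mpr hΔ)
    · exact Subsingleton.elim _ _
  obtain ⟨φ, hφ⟩ := exists_bialgHom_lift J hJ1 I hI hJ ψ₀ fun c =>
    (mem_map_iff I _).mp (Ideal.Quotient.eq.mp (AlgHom.congr_fun hq c))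
  have hgl : IsGroupLikeElem R (MonoidAlgebra.single (Multiplicative.ofAdd (1 : ℤ)) (1 : R)) :=
    ⟨by simp, by simp [MonoidAlgebra.comul_single]⟩
  exact ⟨⟨φ _, hgl.map φ⟩, hψ ▸ hφ _⟩

theorem groupLike_unique_nil (hJ1 : J 1 = 1) (hJ : ∀ a : A, P J (CoalgebraStruct.comul (R := R) a) = J a • 1)
    (I : Ideal R) (hI : ∀ x ∈ I, IsNilpotent x) {g h : GroupLike R A}
    (hgh : g.val - h.val ∈ I • (⊤ : Submodule R A)) : g = h := by
  obtain ⟨I₀, hle, hfg, hm⟩ := exists_fg_of_mem hgh
  exact groupLike_unique hJ1 I₀ (isNilpotent_of_fg hI hle hfg) (fun a => by rw [hJ, sub_self]; exact zero_mem _) hm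

theorem groupLike_lift_nil (hJ1 : J 1 = 1) (hJ : ∀ a : A, P J (CoalgebraStruct.comul (R := R) a) = J a • 1)
    (I : Ideal R) (hI : ∀ x ∈ I, IsNilpotent x) (a : A) (hε : CoalgebraStruct.counit (R := R) a - 1 ∈ I)
    (hΔ : CoalgebraStruct.comul (R := R) a - a ⊗ₜ[R] a ∈ I • (⊤ : Submodule R (A ⊗[R] A))) :
    ∃ g : GroupLike R A, g.val - a ∈ I • (⊤ : Submodule R A) := by
  obtain ⟨I₁, h₁, f₁, m₁⟩ := exists_fg_of_mem hΔ
  let I₀ := I₁ ⊔ Ideal.span {CoalgebraStruct.counit (R := R) a - 1}
  have hle : I₀ ≤ I := sup_le h₁ ((Ideal.span_singleton_le_iff_mem I).mpr hε)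
  obtain ⟨g, hg⟩ := groupLike_lift hJ1 I₀ (isNilpotent_of_fg hI hle (Submodule.FG.sup f₁ ⟨{CoalgebraStruct.counit (R := R) a - 1}, by simp⟩))
    (fun a => by rw [hJ, sub_self]; exact zero_mem _) a
    (le_sup_right (a := I₁) (Ideal.mem_span_singleton_self _)) (smul_top_mono le_sup_left m₁)
  exact ⟨g, smul_top_mono hle hg⟩

/-- A basis of group-like elements indexed by a group makes `A` diagonalisable. -/
theorem isDiag_of_bijective {M : Type u} [CommGroup M] (G : M →* GroupLike R A)
    (h : Function.Bijective (theta G)) : SGA3b.IsDiag R A :=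
  ⟨M, inferInstance, ⟨(BialgEquiv.ofBijective (theta G) h).symm⟩⟩

/-- The group-like elements given by a diagonalisation. -/
noncomputable def diagHom {M : Type u} [CommGroup M] (e : A ≃ₐc[R] MonoidAlgebra R M) :
    M →* GroupLike R A where
  toFun m := ⟨e.symm (MonoidAlgebra.single m 1),
    (⟨by simp, by simp [MonoidAlgebra.comul_single]⟩ : IsGroupLikeElem R (MonoidAlgebra.single m (1 : R))).map e.symm⟩
  map_one' := GroupLike.val_injective (by simp [← MonoidAlgebra.one_def])
  map_mul' a b := GroupLike.val_injective (by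
    show e.symm _ = e.symm _ * e.symm _
    rw [← map_mul, MonoidAlgebra.single_mul_single, one_mul])

lemma theta_diagHom_bijective {M : Type u} [CommGroup M] (e : A ≃ₐc[R] MonoidAlgebra R M) :
    Function.Bijective (theta (diagHom e)) := by
  have h : ∀ x, theta (diagHom e) x = e.symm x := by
    intro x
    induction x using MonoidAlgebra.induction_linear with
    | zero => simp
    | add x y hx hy => simp only [map_add, hx, hy]
    | single m r =>
      rw [theta_single]
      show r • e.symm (MonoidAlgebra.single m 1) = _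
      rw [← map_smul, MonoidAlgebra.smul_single', mul_one]
  exact ⟨fun x y hxy => EquivLike.injective e.symm (by rw [← h, ← h, hxy]),
    fun y => ⟨e y, by rw [h]; exact EquivLike.left_inv e y⟩⟩

variable (T : Type u) [CommRing T] [Algebra R T]

variable (A) in
/-- Base change of group-like elements. -/
noncomputable def glBC : GroupLike R A →* GroupLike T (T ⊗[R] A) where
  toFun g := ⟨(1 : T) ⊗ₜ[R] g.val, ⟨by simp [g.2.counit_eq_one], by
    rw [comul_one_tmul, g.2.comul_eq_tmul_self, H8Mult.sq_tmul]⟩⟩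
  map_one' := GroupLike.val_injective (by simp [Algebra.TensorProduct.one_def])
  map_mul' a b := GroupLike.val_injective (by simp)

lemma theta_baseChange_tmul {M : Type u} [CommGroup M] (G : M →* GroupLike R A) (m : M) (t : T) :
    theta ((glBC A T).comp G) (MonoidAlgebra.single m t) = t ⊗ₜ[R] theta G (MonoidAlgebra.single m 1) := by
  rw [theta_single, theta_single, one_smul]
  show t • ((1 : T) ⊗ₜ[R] (G m).val) = _
  simp [smul_tmul']

lemma exists_theta_baseChange {M : Type u} [CommGroup M] (G : M →* GroupLike R A) :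
    ∃ E : T ⊗[R] MonoidAlgebra R M ≃ₗ[R] MonoidAlgebra T M, ∀ x,
      (theta G : MonoidAlgebra R M →ₐ[R] A).toLinearMap.lTensor T x = theta ((glBC A T).comp G) (E x) := by
  classical
  let s : MonoidAlgebra R M ≃ₗ[R] (M →₀ R) := MonoidAlgebra.coeffLinearEquiv R
  let E : T ⊗[R] MonoidAlgebra R M ≃ₗ[R] MonoidAlgebra T M :=
    (s.lTensor T).trans ((TensorProduct.finsuppScalarRight R R T M).trans
      ((MonoidAlgebra.coeffLinearEquiv (R := T) (S := T) (M := M)).symm.restrictScalars R))
  have hE : ∀ (m : M) (t : T) (r : R), E (t ⊗ₜ[R] MonoidAlgebra.single m r) = MonoidAlgebra.single m (r • t) := by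
    intro m t r
    apply MonoidAlgebra.coeff_injective
    simp [E, s, TensorProduct.finsuppScalarRight_apply_tmul]
  refine ⟨E, ?_⟩
  · intro x
    induction x using TensorProduct.induction_on with
    | zero => simp
    | add p q hp hq => simp only [map_add, hp, hq]
    | tmul t z =>
      induction z using MonoidAlgebra.induction_linear with
      | zero => simp
      | add p q hp hq => simp only [tmul_add, map_add, hp, hq]
      | single m r =>
        rw [hE, theta_baseChange_tmul, LinearMap.lTensor_tmul]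
        show t ⊗ₜ[R] theta G _ = _
        rw [theta_single, theta_single, one_smul, ← smul_tmul]

/-- Base change of the map attached to group-like elements. -/
lemma theta_baseChange_bijective_iff {M : Type u} [CommGroup M] (G : M →* GroupLike R A) :
    Function.Bijective (theta ((glBC A T).comp G)) ↔
      Function.Bijective ((theta G : MonoidAlgebra R M →ₐ[R] A).toLinearMap.lTensor T) := by
  obtain ⟨E, key⟩ := exists_theta_baseChange T G
  rw [show ⇑((theta G : MonoidAlgebra R M →ₐ[R] A).toLinearMap.lTensor T) =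
    theta ((glBC A T).comp G) ∘ E from funext key, EquivLike.bijective_comp]

/-- Diagonalisability is stable under base change. -/
theorem isDiag_baseChange (h : SGA3b.IsDiag R A) : SGA3b.IsDiag T (T ⊗[R] A) := by
  obtain ⟨M, _, ⟨e⟩⟩ := h
  refine isDiag_of_bijective ((glBC A T).comp (diagHom e)) ((theta_baseChange_bijective_iff T _).mpr ?_)
  exact (LinearEquiv.ofBijective _ (theta_diagHom_bijective e)).lTensor T |>.bijective

/-- Diagonalisability is transitive along towers. -/
theorem isDiag_cancel (S : Type u) [CommRing S] [Algebra R S] [Algebra S T] [IsScalarTower R S T]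
    (h : SGA3b.IsDiag T (T ⊗[S] (S ⊗[R] A))) : SGA3b.IsDiag T (T ⊗[R] A) := by
  obtain ⟨M, _, ⟨e⟩⟩ := h
  let κ := Algebra.TensorProduct.cancelBaseChange R S T T A
  have hκ : ∀ a : A, κ ((1 : T) ⊗ₜ[S] ((1 : S) ⊗ₜ[R] a)) = (1 : T) ⊗ₜ[R] a := fun a => by simp [κ]
  let ε : (T ⊗[R] A) ≃ₐc[T] (T ⊗[S] (S ⊗[R] A)) := BialgEquiv.ofAlgEquiv κ.symm
    (Algebra.TensorProduct.ext (Subsingleton.elim _ _) (AlgHom.ext fun a => by simp [κ, Algebra.algebraMap_eq_smul_one]))
    (Algebra.TensorProduct.ext (Subsingleton.elim _ _) (AlgHom.ext fun a => by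
      show Algebra.TensorProduct.map (κ.symm : _ →ₐ[T] _) (κ.symm : _ →ₐ[T] _)
        (CoalgebraStruct.comul (R := T) ((1 : T) ⊗ₜ[R] a)) = CoalgebraStruct.comul (R := T) (κ.symm ((1 : T) ⊗ₜ[R] a))
      rw [show κ.symm ((1 : T) ⊗ₜ[R] a) = (1 : T) ⊗ₜ[S] ((1 : S) ⊗ₜ[R] a) by simp [κ],
        comul_one_tmul, comul_one_tmul, comul_one_tmul]
      generalize CoalgebraStruct.comul (R := R) a = z
      induction z using TensorProduct.induction_on with
      | zero => simp
      | tmul x y => simp [κ]
      | add p q hp hq => simp only [map_add, hp, hq]))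
  exact ⟨M, inferInstance, ⟨ε.trans e⟩⟩

/-- Diagonalisability is transitive along towers, converse direction. -/
theorem isDiag_uncancel (S : Type u) [CommRing S] [Algebra R S] [Algebra S T] [IsScalarTower R S T]
    (h : SGA3b.IsDiag T (T ⊗[R] A)) : SGA3b.IsDiag T (T ⊗[S] (S ⊗[R] A)) := by
  obtain ⟨M, _, ⟨e⟩⟩ := h
  let κ := Algebra.TensorProduct.cancelBaseChange R S T T A
  let ε : (T ⊗[R] A) ≃ₐc[T] (T ⊗[S] (S ⊗[R] A)) := BialgEquiv.ofAlgEquiv κ.symm
    (Algebra.TensorProduct.ext (Subsingleton.elim _ _) (AlgHom.ext fun a => by simp [κ, Algebra.algebraMap_eq_smul_one]))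
    (Algebra.TensorProduct.ext (Subsingleton.elim _ _) (AlgHom.ext fun a => by
      show Algebra.TensorProduct.map (κ.symm : _ →ₐ[T] _) (κ.symm : _ →ₐ[T] _)
        (CoalgebraStruct.comul (R := T) ((1 : T) ⊗ₜ[R] a)) = CoalgebraStruct.comul (R := T) (κ.symm ((1 : T) ⊗ₜ[R] a))
      rw [show κ.symm ((1 : T) ⊗ₜ[R] a) = (1 : T) ⊗ₜ[S] ((1 : S) ⊗ₜ[R] a) by simp [κ],
        comul_one_tmul, comul_one_tmul, comul_one_tmul]
      generalize CoalgebraStruct.comul (R := R) a = z
      induction z using TensorProduct.induction_on with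
      | zero => simp
      | tmul x y => simp [κ]
      | add p q hp hq => simp only [map_add, hp, hq]))
  exact ⟨M, inferInstance, ⟨ε.symm.trans e⟩⟩

end Basic

section Diag

variable {T : Type u} [CommRing T] {M N : Type u} [CommGroup M] [CommGroup N]

/-- A map of diagonalisable groups which is bijective modulo a nil ideal is bijective. -/
theorem diag_bijective (θ : MonoidAlgebra T M →ₐc[T] MonoidAlgebra T N) (K : Ideal T)
    (hK : ∀ x ∈ K, IsNilpotent x)
    (hinj : ∀ x, θ x ∈ K • (⊤ : Submodule T (MonoidAlgebra T N)) → x ∈ K • (⊤ : Submodule T (MonoidAlgebra T M)))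
    (hsurj : ∀ y, ∃ x, θ x - y ∈ K • (⊤ : Submodule T (MonoidAlgebra T N))) :
    Function.Bijective θ := by
  classical
  let Pm : N → M → T := fun n m => co n (θ (MonoidAlgebra.single m 1))
  have horth : ∀ m n n', Pm n m * Pm n' m = if n = n' then Pm n m else 0 := by
    intro m n n'
    rw [← nu_comul, ← CoalgHomClass.map_comp_comul_apply θ, MonoidAlgebra.comul_single]
    simp [nu, Pm]
  have hsum : ∀ m, ∑ n ∈ (θ (MonoidAlgebra.single m 1)).coeff.support, Pm n m = 1 := by
    intro m
    have h : CoalgebraStruct.counit (R := T) (θ (MonoidAlgebra.single m (1 : T))) = 1 := by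
      rw [CoalgHomClass.counit_comp_apply θ]; simp
    refine Eq.trans ?_ h
    conv_rhs => rw [← MonoidAlgebra.sum_coeff_single (θ (MonoidAlgebra.single m 1))]
    rw [map_finsuppSum, Finsupp.sum]
    refine Finset.sum_congr rfl fun n _ => ?_
    simp [Pm, co, LinearMap.coe_mk, AddHom.coe_mk]
    try rfl
  have hmulP : ∀ m m', θ (MonoidAlgebra.single (m * m') 1) =
      θ (MonoidAlgebra.single m 1) * θ (MonoidAlgebra.single m' 1) := fun m m' => by
    rw [← map_mul, MonoidAlgebra.single_mul_single, one_mul]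
  have hscale : ∀ n m, Pm n m • θ (MonoidAlgebra.single m 1) = MonoidAlgebra.single n (Pm n m) := by
    intro n m
    refine MonoidAlgebra.coeff_injective (Finsupp.ext fun n' => ?_)
    show co n' (Pm n m • θ (MonoidAlgebra.single m 1)) = co n' (MonoidAlgebra.single n (Pm n m))
    rw [map_smul, co_single, smul_eq_mul]
    exact horth m n n'
  have hker : ∀ m, m ≠ 1 → Pm 1 m = 0 := by
    intro m hm
    have h1 : θ (MonoidAlgebra.single m (Pm 1 m) - MonoidAlgebra.single 1 (Pm 1 m)) = 0 := by
      rw [map_sub, show MonoidAlgebra.single m (Pm 1 m) = Pm 1 m • MonoidAlgebra.single m (1 : T) by simp,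
        show MonoidAlgebra.single (1 : M) (Pm 1 m) = Pm 1 m • (1 : MonoidAlgebra T M) by simp [MonoidAlgebra.one_def],
        map_smul, map_smul, map_one, hscale, sub_eq_zero]
      simp [MonoidAlgebra.one_def]
    have h2 := map_smul_top_mem K (co m) (hinj _ (by rw [h1]; exact zero_mem _))
    rw [map_sub, co_single, co_single, if_pos rfl, if_neg (Ne.symm hm), sub_zero, smul_eq_mul, Ideal.mul_top] at h2
    obtain ⟨k, hk⟩ := hK _ h2
    have hid : IsIdempotentElem (Pm 1 m) := by simpa [IsIdempotentElem] using horth m 1 1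
    rcases k with _ | k
    · rw [pow_zero] at hk
      exact (subsingleton_of_zero_eq_one hk.symm).elim _ _
    · rwa [hid.pow_succ_eq] at hk
  have hrow : ∀ n m m', m ≠ m' → Pm n m * Pm n m' = 0 := by
    intro n m m' hne
    have h0 := hker (m * m'⁻¹) (by rwa [Ne, mul_inv_eq_one])
    have e : MonoidAlgebra.single n (Pm n m * Pm n m') =
        (Pm n m * Pm n m') • θ (MonoidAlgebra.single m 1) := by
      rw [mul_comm (Pm n m), mul_smul, hscale]; simp [mul_comm]
    have e' : MonoidAlgebra.single n (Pm n m * Pm n m') =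
        (Pm n m * Pm n m') • θ (MonoidAlgebra.single m' 1) := by
      rw [mul_smul, hscale]; simp
    have e2 : (Pm n m * Pm n m') • θ (MonoidAlgebra.single (m * m'⁻¹) 1) =
        (Pm n m * Pm n m') • (1 : MonoidAlgebra T N) := by
      rw [hmulP, ← smul_mul_assoc, ← e, e', smul_mul_assoc, ← hmulP, mul_inv_cancel, ← MonoidAlgebra.one_def,
        map_one]
    have h3 := congrArg (co (T := T) (1 : N)) e2
    rw [map_smul, map_smul, show co (1 : N) (θ (MonoidAlgebra.single (m * m'⁻¹) (1 : T))) = 0 from h0,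
      show co (T := T) (1 : N) (1 : MonoidAlgebra T N) = 1 by rw [MonoidAlgebra.one_def, co_single, if_pos rfl],
      smul_eq_mul, smul_eq_mul, mul_zero, mul_one] at h3
    exact h3.symm
  have hsupp : ∀ x : MonoidAlgebra T M, θ x = ∑ m ∈ x.coeff.support, x.coeff m • θ (MonoidAlgebra.single m 1) := by
    intro x
    conv_lhs => rw [← MonoidAlgebra.sum_coeff_single x]
    rw [map_finsuppSum, Finsupp.sum]
    exact Finset.sum_congr rfl fun m _ => by rw [← map_smul]; simp
  constructor
  · rw [injective_iff_map_eq_zero]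
    intro x hx
    refine MonoidAlgebra.coeff_injective (Finsupp.ext fun m₀ => ?_)
    by_cases hm : m₀ ∈ x.coeff.support
    · have hz : ∀ n, x.coeff m₀ * Pm n m₀ = 0 := by
        intro n
        have h := congrArg (co (T := T) n) ((hsupp x).symm.trans hx)
        rw [map_sum, map_zero] at h
        have h' := congrArg (fun t => Pm n m₀ * t) h
        simp only [Finset.mul_sum, mul_zero, map_smul, smul_eq_mul] at h'
        rw [Finset.sum_eq_single m₀] at h'
        · rw [← h', show co n (θ (MonoidAlgebra.single m₀ (1 : T))) = Pm n m₀ from rfl]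
          rw [mul_left_comm, horth m₀ n n, if_pos rfl]
        · intro m _ hne
          rw [show co n (θ (MonoidAlgebra.single m (1 : T))) = Pm n m from rfl, mul_left_comm,
            hrow n m₀ m (Ne.symm hne), mul_zero]
        · exact fun h => absurd hm h
      have := congrArg (fun t => x.coeff m₀ * t) (hsum m₀)
      simp only [Finset.mul_sum, hz, Finset.sum_const_zero, mul_one] at this
      simpa using this.symm
    · simpa using Finsupp.notMem_support_iff.mp hm
  · intro y
    induction y using MonoidAlgebra.induction_linear with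
    | zero => exact ⟨0, map_zero θ⟩
    | add y z hy hz =>
      obtain ⟨a, ha⟩ := hy
      obtain ⟨b, hb⟩ := hz
      exact ⟨a + b, by rw [map_add, ha, hb]⟩
    | single n r =>
      obtain ⟨w, hw⟩ := hsurj (MonoidAlgebra.single n 1)
      let S := w.coeff.support
      let ε := ∑ m ∈ S, Pm n m
      have hid : IsIdempotentElem ε := by
        show ε * ε = ε
        simp only [ε, Finset.sum_mul_sum]
        refine Finset.sum_congr rfl fun m hm => ?_
        rw [Finset.sum_eq_single m (fun m' _ hne => hrow n m m' (Ne.symm hne)) (fun h => absurd hm h)]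
        simpa using horth m n n
      have hεw : ε * co n (θ w) = co n (θ w) := by
        rw [hsupp w, map_sum, Finset.mul_sum]
        refine Finset.sum_congr rfl fun m hm => ?_
        rw [map_smul, smul_eq_mul, mul_left_comm]
        congr 1
        show (∑ m' ∈ S, Pm n m') * Pm n m = Pm n m
        rw [Finset.sum_mul, Finset.sum_eq_single m (fun m' _ hne => hrow n m' m hne) (fun h => absurd hm h)]
        simpa using horth m n n
      have h1 := map_smul_top_mem K (co n) hw
      rw [map_sub, co_single, if_pos rfl, smul_eq_mul, Ideal.mul_top] at h1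
      have h2 : 1 - ε ∈ K := by
        have : (1 - ε) * (1 - (co n (θ w) - (co n (θ w) - 1))) = 0 := by ring
        have h3 : 1 - ε = (1 - ε) * co n (θ w) - (1 - ε) * (co n (θ w) - 1) := by ring
        rw [h3, show (1 - ε) * co n (θ w) = 0 by rw [sub_mul, one_mul, hεw, sub_self], zero_sub]
        exact neg_mem (K.mul_mem_left _ h1)
      have hε1 : ε = 1 := by
        obtain ⟨k, hk⟩ := hK _ h2
        rcases k with _ | k
        · simp at hk
          haveI := subsingleton_of_zero_eq_one hk.symm
          exact Subsingleton.elim _ _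
        · rw [hid.one_sub.pow_succ_eq] at hk
          exact (sub_eq_zero.mp hk).symm
      refine ⟨r • ∑ m ∈ S, Pm n m • MonoidAlgebra.single m 1, ?_⟩
      rw [map_smul, map_sum]
      simp only [map_smul, hscale]
      rw [show MonoidAlgebra.single n r = r • MonoidAlgebra.single n (1 : T) by simp]
      congr 1
      rw [show MonoidAlgebra.single n (1 : T) = MonoidAlgebra.single n ε by rw [hε1]]
      exact (map_sum ({ toFun := MonoidAlgebra.single n, map_zero' := by simp, map_add' := by simp } :
        T →+ MonoidAlgebra T N) _ _).symm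

end Diag

section ModBij

variable {R : Type u} [CommRing R] {P Q : Type u} [AddCommGroup P] [Module R P] [AddCommGroup Q] [Module R Q]

/-- A linear map which is bijective modulo `I`. -/
def ModBij (I : Ideal R) (f : P →ₗ[R] Q) : Prop :=
  (∀ x, f x ∈ I • (⊤ : Submodule R Q) → x ∈ I • (⊤ : Submodule R P)) ∧
    ∀ y, ∃ x, f x - y ∈ I • (⊤ : Submodule R Q)

lemma ModBij.of_bijective {I : Ideal R} (f : P →ₗ[R] Q) (h : Function.Bijective (f.lTensor (R ⧸ I))) :
    ModBij I f := by
  refine ⟨fun x hx => mem_smul_top_of_one_tmul_eq_zero (h.1 ?_), fun y => ?_⟩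
  · rw [LinearMap.lTensor_tmul, one_tmul_eq_zero_of_mem hx, map_zero]
  · obtain ⟨z, hz⟩ := h.2 ((1 : R ⧸ I) ⊗ₜ[R] y)
    obtain ⟨x, rfl⟩ := includeRight_surjective I P z
    refine ⟨x, mem_smul_top_of_one_tmul_eq_zero ?_⟩
    rw [tmul_sub, ← hz, LinearMap.lTensor_tmul, sub_self]

lemma ModBij.lTensor {I : Ideal R} {f : P →ₗ[R] Q} (h : ModBij I f) (T : Type u) [AddCommGroup T] [Module R T] :
    ModBij I (f.lTensor T) := by
  refine ⟨fun x hx => ?_, fun y => ?_⟩
  · let N : Submodule R P := I • ⊤
    let N' : Submodule R Q := I • ⊤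
    let φ : (P ⧸ N) →ₗ[R] (Q ⧸ N') := N.mapQ N' f fun p hp => map_smul_top_mem I f hp
    have hφ : Function.Bijective φ := by
      constructor
      · rw [injective_iff_map_eq_zero]
        intro p hp
        obtain ⟨p, rfl⟩ := N.mkQ_surjective p
        exact (Submodule.Quotient.mk_eq_zero N).mpr (h.1 p ((Submodule.Quotient.mk_eq_zero N').mp hp))
      · intro q
        obtain ⟨q, rfl⟩ := N'.mkQ_surjective q
        obtain ⟨p, hp⟩ := h.2 q
        exact ⟨N.mkQ p, (Submodule.Quotient.eq N').mpr hp⟩
    have hvan : N'.mkQ.lTensor T (f.lTensor T x) = 0 := by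
      refine Submodule.smul_induction_on hx (fun r hr v _ => ?_) fun p q hp hq => by rw [map_add, hp, hq, add_zero]
      induction v using TensorProduct.induction_on with
      | zero => simp
      | tmul t q =>
        rw [map_smul, LinearMap.lTensor_tmul, ← tmul_smul, ← map_smul, Submodule.mkQ_apply,
          (Submodule.Quotient.mk_eq_zero N').mpr (Submodule.smul_mem_smul hr trivial), tmul_zero]
      | add p q hp hq => rw [smul_add, map_add, hp trivial, hq trivial, add_zero]
    have hcomm : N'.mkQ ∘ₗ f = φ ∘ₗ N.mkQ := LinearMap.ext fun p => rfl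
    rw [← LinearMap.lTensor_comp_apply, hcomm, LinearMap.lTensor_comp_apply] at hvan
    have hzero : N.mkQ.lTensor T x = 0 :=
      ((LinearEquiv.ofBijective φ hφ).lTensor T).injective (hvan.trans (map_zero _).symm)
    obtain ⟨y, rfl⟩ := ((lTensor_exact T (LinearMap.exact_subtype_mkQ N) N.mkQ_surjective) x).mp hzero
    clear hx hvan hzero
    induction y using TensorProduct.induction_on with
    | zero => simp
    | tmul t n => exact map_smul_top_mem I (TensorProduct.mk R T P t) n.2
    | add p q hp hq => rw [map_add]; exact add_mem hp hq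
  · induction y using TensorProduct.induction_on with
    | zero => exact ⟨0, by simp⟩
    | tmul t q =>
      obtain ⟨p, hp⟩ := h.2 q
      refine ⟨t ⊗ₜ p, ?_⟩
      rw [LinearMap.lTensor_tmul, ← tmul_sub]
      exact map_smul_top_mem I (TensorProduct.mk R T Q t) hp
    | add u v hu hv =>
      obtain ⟨a, ha⟩ := hu
      obtain ⟨b, hb⟩ := hv
      exact ⟨a + b, by rw [map_add, add_sub_add_comm]; exact add_mem ha hb⟩

/-- Nakayama for a map into a flat module which is bijective modulo a nilpotent ideal. -/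
lemma ModBij.bijective {I : Ideal R} (hI : IsNilpotent I) [Module.Flat R Q] {f : P →ₗ[R] Q} (h : ModBij I f) :
    Function.Bijective f := by
  obtain ⟨n, hn⟩ := hI
  have hsurj : Function.Surjective f := by
    have key : ∀ k : ℕ, ∀ y : Q, ∃ x, f x - y ∈ (I ^ k) • (⊤ : Submodule R Q) := by
      intro k
      induction k with
      | zero => intro y; exact ⟨0, by rw [pow_zero, Ideal.one_eq_top, Submodule.top_smul]; trivial⟩
      | succ k ih =>
        intro y
        obtain ⟨x, hx⟩ := ih y
        have : ∀ w ∈ (I ^ k) • (⊤ : Submodule R Q), ∃ x, f x - w ∈ (I ^ (k + 1)) • (⊤ : Submodule R Q) := by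
          intro w hw
          refine Submodule.smul_induction_on hw (fun r hr v _ => ?_) fun p q hp hq => ?_
          · obtain ⟨x, hx⟩ := h.2 v
            refine ⟨r • x, ?_⟩
            rw [map_smul, ← smul_sub, pow_succ, Submodule.mul_smul]
            exact Submodule.smul_mem_smul hr hx
          · obtain ⟨a, ha⟩ := hp
            obtain ⟨b, hb⟩ := hq
            exact ⟨a + b, by rw [map_add, add_sub_add_comm]; exact add_mem ha hb⟩
        obtain ⟨x', hx'⟩ := this _ hx
        refine ⟨x - x', ?_⟩
        rw [map_sub, show f x - f x' - y = -(f x' - (f x - y)) by abel]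
        exact neg_mem hx'
    intro y
    obtain ⟨x, hx⟩ := key n y
    rw [hn, Ideal.zero_eq_bot, Submodule.bot_smul, Submodule.mem_bot] at hx
    exact ⟨x, sub_eq_zero.mp hx⟩
  refine ⟨?_, hsurj⟩
  rw [← LinearMap.ker_eq_bot]
  have hle : LinearMap.ker f ≤ I • LinearMap.ker f := by
    rw [← LinearMap.ker_inf_smul_top_eq_smul_of_flat I f hsurj]
    exact fun x hx => ⟨hx, h.1 x (by rw [LinearMap.mem_ker.mp hx]; exact zero_mem _)⟩
  have hk : ∀ k : ℕ, LinearMap.ker f ≤ (I ^ k) • LinearMap.ker f := by
    intro k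
    induction k with
    | zero => rw [pow_zero, Ideal.one_eq_top, Submodule.top_smul]
    | succ k ih =>
      refine ih.trans ?_
      rw [pow_succ, Submodule.mul_smul]
      exact Submodule.smul_mono le_rfl hle
  have := hk n
  rwa [hn, Ideal.zero_eq_bot, Submodule.bot_smul, le_bot_iff] at this

lemma mem_map_smul_top {T : Type u} [CommRing T] [Algebra R T] (I : Ideal R) {N : Type u} [AddCommGroup N]
    [Module R N] [Module T N] [IsScalarTower R T N] (x : N) :
    x ∈ (I.map (algebraMap R T)) • (⊤ : Submodule T N) ↔ x ∈ I • (⊤ : Submodule R N) := by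
  constructor
  · intro hx
    refine Submodule.smul_induction_on hx (fun t ht v _ => ?_) fun p q hp hq => add_mem hp hq
    induction ht using Submodule.span_induction generalizing v with
    | mem y hy => obtain ⟨r, hr, rfl⟩ := hy; rw [algebraMap_smul]; exact Submodule.smul_mem_smul hr trivial
    | zero => rw [zero_smul]; exact zero_mem _
    | add a b _ _ ha hb => rw [add_smul]; exact add_mem (ha v trivial) (hb v trivial)
    | smul a b _ hb => rw [smul_eq_mul, mul_comm, mul_smul]; exact hb _ trivial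
  · intro hx
    refine Submodule.smul_induction_on hx (fun r hr v _ => ?_) fun p q hp hq => add_mem hp hq
    rw [← algebraMap_smul T r v]
    exact Submodule.smul_mem_smul (Ideal.mem_map_of_mem _ hr) trivial

/-- Bijectivity descends along a jointly faithfully flat family. -/
lemma bijective_of_pieces {ι : Type u} [Fintype ι] (T : ι → Type u) [∀ i, CommRing (T i)]
    [∀ i, Algebra R (T i)] [Module.FaithfullyFlat R (∀ i, T i)] (f : P →ₗ[R] Q)
    (h : ∀ i, Function.Bijective (f.lTensor (T i))) : Function.Bijective f := by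
  classical
  refine (Module.FaithfullyFlat.lTensor_bijective_iff_bijective R (∀ i, T i) f).mp ⟨fun x y hxy => ?_, fun y => ?_⟩
  · refine piTensor_injective T fun i => (h i).1 ?_
    rw [← LinearMap.comp_apply, ← LinearMap.comp_apply (f := f.lTensor (T i)),
      LinearMap.lTensor_comp_rTensor, ← LinearMap.rTensor_comp_lTensor, LinearMap.comp_apply,
      LinearMap.comp_apply, hxy]
  · choose x hx using fun i => (h i).2 ((LinearMap.proj (R := R) (φ := T) i).rTensor Q y)
    refine ⟨∑ i, (LinearMap.single R T i).rTensor P (x i), ?_⟩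
    rw [map_sum]
    have key : ∀ z : (∀ i, T i) ⊗[R] Q,
        z = ∑ i, (LinearMap.single R T i).rTensor Q ((LinearMap.proj (R := R) (φ := T) i).rTensor Q z) := by
      intro z
      induction z using TensorProduct.induction_on with
      | zero => simp
      | tmul a b =>
        simp only [LinearMap.rTensor_tmul, LinearMap.proj_apply, LinearMap.single_apply,
          ← TensorProduct.sum_tmul, Finset.univ_sum_single]
      | add p q hp hq =>
        simp only [map_add, Finset.sum_add_distrib]
        rw [← hp, ← hq]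
    rw [key y]
    refine Finset.sum_congr rfl fun i _ => ?_
    rw [← hx i, ← LinearMap.comp_apply, LinearMap.lTensor_comp_rTensor, ← LinearMap.rTensor_comp_lTensor,
      LinearMap.comp_apply]

end ModBij

section Deform

variable {R : Type u} [CommRing R] {A : Type u} [CommRing A] [HopfAlgebra R A]

/-- Lifting the group-like elements of a diagonal reduction. -/
theorem exists_glHom (I : Ideal R) {M : Type u} [CommGroup M]
    (e₀ : ((R ⧸ I) ⊗[R] A) ≃ₐc[R ⧸ I] MonoidAlgebra (R ⧸ I) M)
    (huniq : ∀ g h : GroupLike R A, g.val - h.val ∈ I • (⊤ : Submodule R A) → g = h)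
    (hlift : ∀ a : A, CoalgebraStruct.counit (R := R) a - 1 ∈ I →
      CoalgebraStruct.comul (R := R) a - a ⊗ₜ[R] a ∈ I • (⊤ : Submodule R (A ⊗[R] A)) →
      ∃ g : GroupLike R A, g.val - a ∈ I • (⊤ : Submodule R A)) :
    ∃ G : M →* GroupLike R A, (glBC A (R ⧸ I)).comp G = diagHom e₀ := by
  have hex : ∀ m : M, ∃ g : GroupLike R A, glBC A (R ⧸ I) g = diagHom e₀ m := by
    intro m
    obtain ⟨a, ha⟩ := includeRight_surjective I A (diagHom e₀ m).val
    simp only at ha
    obtain ⟨g, hg⟩ := hlift a
      (by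
        have h := (diagHom e₀ m).2.counit_eq_one
        rw [← ha, TensorProduct.counit_tmul, CommSemiring.counit_apply, ← Algebra.algebraMap_eq_smul_one,
          Ideal.Quotient.algebraMap_eq, ← map_one (Ideal.Quotient.mk I), Ideal.Quotient.eq] at h
        exact h)
      (mem_smul_top_of_sq_eq_zero (by
        rw [map_sub, ← comul_one_tmul, H8Mult.sq_tmul, ha, (diagHom e₀ m).2.comul_eq_tmul_self, sub_self]))
    refine ⟨g, GroupLike.val_injective ?_⟩
    show (1 : R ⧸ I) ⊗ₜ[R] g.val = _
    rw [← ha, ← sub_eq_zero, ← tmul_sub]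
    exact one_tmul_eq_zero_of_mem hg
  choose G hG using hex
  have hinj : ∀ g h, glBC A (R ⧸ I) g = glBC A (R ⧸ I) h → g = h := fun g h hgh =>
    huniq g h (mem_smul_top_of_one_tmul_eq_zero (by
      rw [tmul_sub, sub_eq_zero]
      exact congrArg GroupLike.val hgh))
  refine ⟨{ toFun := G, map_one' := hinj _ _ (by rw [hG, map_one, map_one]),
            map_mul' := fun a b => hinj _ _ (by rw [hG, map_mul, map_mul, hG, hG]) }, MonoidHom.ext hG⟩

lemma modBij_of_glHom {I : Ideal R} {M : Type u} [CommGroup M] {G : M →* GroupLike R A}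
    {e₀ : ((R ⧸ I) ⊗[R] A) ≃ₐc[R ⧸ I] MonoidAlgebra (R ⧸ I) M}
    (hG : (glBC A (R ⧸ I)).comp G = diagHom e₀) :
    ModBij I (theta G : MonoidAlgebra R M →ₐ[R] A).toLinearMap :=
  ModBij.of_bijective _ ((theta_baseChange_bijective_iff (R ⧸ I) G).mp (hG ▸ theta_diagHom_bijective e₀))

/-- A flat Hopf algebra, diagonalisable modulo a nilpotent ideal, is diagonalisable. -/
theorem isDiag_of_flat_mod_nilpotent [Module.Flat R A] (I : Ideal R) (hI : IsNilpotent I)
    (h0 : SGA3b.IsDiag (R ⧸ I) ((R ⧸ I) ⊗[R] A)) : SGA3b.IsDiag R A := by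
  classical
  obtain ⟨M, _, ⟨e₀⟩⟩ := h0
  choose a ha using fun m : M => includeRight_surjective I A (diagHom e₀ m).val
  simp only at ha
  let a' : M → A := Function.update a 1 1
  have ha' : ∀ m, (1 : R ⧸ I) ⊗ₜ[R] a' m = (diagHom e₀ m).val := by
    intro m
    by_cases hm : m = 1
    · subst hm
      rw [show a' 1 = 1 from Function.update_self .., map_one, GroupLike.val_one, Algebra.TensorProduct.one_def]
    · rw [show a' m = a m from Function.update_of_ne hm ..]; exact ha m
  let f : MonoidAlgebra R M →ₗ[R] A :=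
    Finsupp.linearCombination R a' ∘ₗ (MonoidAlgebra.coeffLinearEquiv R).toLinearMap
  have hf : ∀ m r, f (MonoidAlgebra.single m r) = r • a' m := fun m r => by simp [f]
  let f₀ : MonoidAlgebra R M →ₗ[R] MonoidAlgebra (R ⧸ I) M :=
    (MonoidAlgebra.coeffLinearEquiv (R := R ⧸ I) (S := R ⧸ I) (M := M)).symm.toLinearMap.restrictScalars R ∘ₗ
      Finsupp.mapRange.linearMap (Algebra.linearMap R (R ⧸ I)) ∘ₗ (MonoidAlgebra.coeffLinearEquiv R).toLinearMap
  have hf₀ : ∀ x, e₀ ((1 : R ⧸ I) ⊗ₜ[R] f x) = f₀ x := by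
    intro x
    induction x using MonoidAlgebra.induction_linear with
    | zero => simp
    | add x y hx hy => simp only [map_add, tmul_add, hx, hy]
    | single m r =>
      rw [hf, tmul_smul, ha', show (r • (diagHom e₀ m).val) = algebraMap R (R ⧸ I) r • (diagHom e₀ m).val from
        (algebraMap_smul _ _ _).symm, map_smul]
      show _ • e₀ (e₀.symm (MonoidAlgebra.single m 1)) = _
      rw [show e₀ (e₀.symm (MonoidAlgebra.single m 1)) = MonoidAlgebra.single m 1 from e₀.apply_symm_apply _]
      apply MonoidAlgebra.coeff_injective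
      simp [f₀]
  have hfmb : ModBij I f := by
    refine ⟨fun x hx => ?_, fun y => ?_⟩
    · have h := hf₀ x
      rw [one_tmul_eq_zero_of_mem hx, map_zero] at h
      rw [← MonoidAlgebra.sum_coeff_single x]
      refine Submodule.sum_mem _ fun m _ => ?_
      rw [show MonoidAlgebra.single m (x.coeff m) = x.coeff m • MonoidAlgebra.single m (1 : R) by simp]
      refine Submodule.smul_mem_smul ?_ trivial
      have h' := congrArg (fun z : MonoidAlgebra (R ⧸ I) M => z.coeff m) h
      simp [f₀] at h'
      exact Ideal.Quotient.eq_zero_iff_mem.mp h'.symm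
    · have key : ∀ z : MonoidAlgebra (R ⧸ I) M, ∃ x, f₀ x = z := by
        intro z
        induction z using MonoidAlgebra.induction_linear with
        | zero => exact ⟨0, map_zero _⟩
        | add x y hx hy =>
          obtain ⟨p, rfl⟩ := hx
          obtain ⟨q, rfl⟩ := hy
          exact ⟨p + q, map_add _ _ _⟩
        | single m r =>
          obtain ⟨r, rfl⟩ := Ideal.Quotient.mk_surjective r
          exact ⟨MonoidAlgebra.single m r, by apply MonoidAlgebra.coeff_injective; simp [f₀]⟩
      obtain ⟨x, hx⟩ := key (e₀ ((1 : R ⧸ I) ⊗ₜ[R] y))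
      refine ⟨x, mem_smul_top_of_one_tmul_eq_zero ?_⟩
      apply EquivLike.injective e₀
      rw [tmul_sub, map_sub, hf₀, hx, sub_self, map_zero]
  let F := LinearEquiv.ofBijective f (hfmb.bijective hI)
  let J : A →ₗ[R] R := co 1 ∘ₗ F.symm.toLinearMap
  have hJa : ∀ m, J (a' m) = if m = 1 then 1 else 0 := by
    intro m
    show co 1 (F.symm (a' m)) = _
    rw [show a' m = F (MonoidAlgebra.single m 1) by show a' m = f _; rw [hf, one_smul],
      LinearEquiv.symm_apply_apply, co_single]
  have hJ1 : J 1 = 1 := by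
    have := hJa 1
    rwa [show a' 1 = 1 from Function.update_self .., if_pos rfl] at this
  have hJ : ∀ y : A, P J (CoalgebraStruct.comul (R := R) y) - J y • (1 : A) ∈ I • (⊤ : Submodule R A) := by
    intro y
    obtain ⟨x, rfl⟩ := F.surjective y
    show P J (CoalgebraStruct.comul (R := R) (f x)) - J (f x) • (1 : A) ∈ _
    induction x using MonoidAlgebra.induction_linear with
    | zero => simp
    | add p q hp hq => simp only [map_add, add_smul]; rw [add_sub_add_comm]; exact add_mem hp hq
    | single m r =>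
      rw [hf]
      simp only [map_smul, smul_assoc, ← smul_sub]
      refine Submodule.smul_mem _ r ?_
      have h1 : CoalgebraStruct.comul (R := R) (a' m) - a' m ⊗ₜ[R] a' m ∈ I • (⊤ : Submodule R (A ⊗[R] A)) :=
        mem_smul_top_of_sq_eq_zero (by
          rw [map_sub, ← comul_one_tmul, H8Mult.sq_tmul, ha', (diagHom e₀ m).2.comul_eq_tmul_self, sub_self])
      have h2 := map_smul_top_mem I (P J) h1
      rw [map_sub, P_tmul] at h2
      have e : J (a' m) • a' m = J (a' m) • (1 : A) := by
        rw [hJa]; by_cases hm : m = 1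
        · subst hm; rw [if_pos rfl, one_smul, one_smul]; exact Function.update_self ..
        · rw [if_neg hm, zero_smul, zero_smul]
      rwa [e] at h2
  obtain ⟨G, hG⟩ := exists_glHom I e₀ (fun g h hgh => groupLike_unique hJ1 I hI hJ hgh)
    (fun a h1 h2 => groupLike_lift hJ1 I hI hJ a h1 h2)
  exact isDiag_of_bijective G ((modBij_of_glHom hG).bijective hI)

/-- Finite jointly faithfully flat families splitting `A`. -/
def HasSplitting (R : Type u) [CommRing R] (A : Type u) [CommRing A] [HopfAlgebra R A] : Prop :=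
  ∃ (ι : Type u) (_ : Fintype ι) (T : ι → Type u) (_ : ∀ i, CommRing (T i)) (_ : ∀ i, Algebra R (T i)),
    Module.FaithfullyFlat R (∀ i, T i) ∧ ∀ i, SGA3b.IsDiag (T i) (T i ⊗[R] A)

theorem hasSplitting_of_isMultType (h : SGA3b.IsMultType R A) : HasSplitting R A := by
  classical
  obtain ⟨s, hs, hf⟩ := h
  obtain ⟨s₀, hs₀, hs₀'⟩ := Submodule.mem_span_finite_of_mem_span
    (hs.ge (Submodule.mem_top (x := (1 : R))))
  choose R' hR'c hR'a hff hd using fun f : ↥s₀ => hf f.1 (hs₀ f.2)
  letI : ∀ f : ↥s₀, Algebra R (R' f) := fun f =>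
    ((algebraMap (Localization.Away (f : R)) (R' f)).comp (algebraMap R (Localization.Away (f : R)))).toAlgebra
  haveI : ∀ f : ↥s₀, IsScalarTower R (Localization.Away (f : R)) (R' f) := fun f =>
    IsScalarTower.of_algebraMap_eq' rfl
  refine ⟨↥s₀, inferInstance, R', inferInstance, inferInstance, ?_, fun f =>
    isDiag_cancel (R' f) (Localization.Away (f : R)) (hd f)⟩
  haveI : ∀ f : ↥s₀, Module.Flat R (R' f) := fun f => by
    haveI := (hff f).toFlat
    haveI : Module.Flat R (Localization.Away (f : R)) := IsLocalization.flat _ (Submonoid.powers (f : R))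
    exact Module.Flat.trans R (Localization.Away (f : R)) (R' f)
  haveI : Module.Flat R (∀ f, R' f) :=
    Module.Flat.of_linearEquiv (DirectSum.linearEquivFunOnFintype R ↥s₀ R').symm
  refine Module.FaithfullyFlat.of_comap_surjective fun p => ?_
  obtain ⟨f, hfp⟩ : ∃ f : ↥s₀, (f : R) ∉ p.asIdeal := by
    by_contra hcon
    push Not at hcon
    exact p.isPrime.ne_top ((Ideal.eq_top_iff_one _).mpr
      (Submodule.span_le.mpr (fun x hx => hcon ⟨x, hx⟩) hs₀'))
  haveI := hff f
  obtain ⟨q, hq⟩ : p ∈ Set.range (PrimeSpectrum.comap (algebraMap R (Localization.Away (f : R)))) := by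
    rw [PrimeSpectrum.localization_away_comap_range (Localization.Away (f : R)) (f : R)]
    exact hfp
  obtain ⟨q', hq'⟩ := PrimeSpectrum.comap_surjective_of_faithfullyFlat (B := R' f) q
  refine ⟨PrimeSpectrum.comap (Pi.evalRingHom R' f) q', ?_⟩
  rw [← hq, ← hq']
  rfl

theorem HasSplitting.exists_haar (h : HasSplitting R A) : ∃ J : A →ₗ[R] R, J 1 = 1 ∧
    ∀ a, P J (CoalgebraStruct.comul (R := R) a) = J a • 1 := by
  obtain ⟨ι, _, T, _, _, hff, hd⟩ := h
  haveI := hff
  exact exists_haar_of_inv T fun i => exists_isInv_of_diag (T i) (hd i)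

/-- A split-locally group, diagonalisable modulo a nil ideal, is diagonalisable. -/
theorem isDiag_of_mod_nil (h : HasSplitting R A) (I : Ideal R) (hI : ∀ x ∈ I, IsNilpotent x)
    (h0 : SGA3b.IsDiag (R ⧸ I) ((R ⧸ I) ⊗[R] A)) : SGA3b.IsDiag R A := by
  obtain ⟨J, hJ1, hJ⟩ := h.exists_haar
  obtain ⟨ι, _, T, _, _, hff, hd⟩ := h
  haveI := hff
  obtain ⟨M, _, ⟨e₀⟩⟩ := h0
  obtain ⟨G, hG⟩ := exists_glHom I e₀ (fun g h hgh => groupLike_unique_nil hJ1 hJ I hI hgh)
    (fun a h1 h2 => groupLike_lift_nil hJ1 hJ I hI a h1 h2)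
  refine isDiag_of_bijective G (bijective_of_pieces T (theta G : MonoidAlgebra R M →ₐ[R] A).toLinearMap fun i => ?_)
  obtain ⟨N, _, ⟨e⟩⟩ := hd i
  have hb := (modBij_of_glHom hG).lTensor (T i)
  obtain ⟨E, hE⟩ := exists_theta_baseChange (T i) G
  let θ : MonoidAlgebra (T i) M →ₐc[T i] MonoidAlgebra (T i) N :=
    (e : _ →ₐc[T i] _).comp (theta ((glBC A (T i)).comp G))
  have hθ : ∀ x, θ (E x) = e ((theta G : MonoidAlgebra R M →ₐ[R] A).toLinearMap.lTensor (T i) x) := fun x => by
    rw [hE]; rfl
  let eR : T i ⊗[R] A ≃ₗ[R] MonoidAlgebra (T i) N := (LinearEquiv.ofBijective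
    (e : T i ⊗[R] A →ₐc[T i] MonoidAlgebra (T i) N).toLinearMap (EquivLike.bijective e)).restrictScalars R
  have hKle : I.map (algebraMap R (T i)) ≤ nilradical (T i) :=
    Ideal.map_le_iff_le_comap.mpr fun r hr =>
      Ideal.mem_comap.mpr (mem_nilradical.mpr ((hI r hr).map (algebraMap R (T i))))
  have hK : ∀ x ∈ I.map (algebraMap R (T i)), IsNilpotent x := fun x hx => mem_nilradical.mp (hKle hx)
  have hθb := diag_bijective θ (I.map (algebraMap R (T i))) hK
    (fun x hx => by
      rw [mem_map_smul_top] at hx ⊢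
      obtain ⟨x, rfl⟩ := E.surjective x
      rw [hθ] at hx
      have h1 := map_smul_top_mem I eR.symm.toLinearMap hx
      rw [show eR.symm.toLinearMap (e ((theta G : MonoidAlgebra R M →ₐ[R] A).toLinearMap.lTensor (T i) x)) =
        (theta G : MonoidAlgebra R M →ₐ[R] A).toLinearMap.lTensor (T i) x from eR.symm_apply_apply _] at h1
      exact map_smul_top_mem I E.toLinearMap (hb.1 x h1))
    (fun y => by
      obtain ⟨y, rfl⟩ := eR.surjective y
      obtain ⟨x, hx⟩ := hb.2 y
      refine ⟨E x, (mem_map_smul_top I _).mpr ?_⟩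
      rw [hθ]
      have := map_smul_top_mem I eR.toLinearMap hx
      rw [map_sub] at this
      exact this)
  refine (theta_baseChange_bijective_iff (T i) G).mp ?_
  exact (Function.Bijective.of_comp_iff' (EquivLike.bijective e) _).mp hθb

/-- The base change of a splitting family. -/
theorem HasSplitting.baseChange (h : HasSplitting R A) (S : Type u) [CommRing S] [Algebra R S] :
    HasSplitting S (S ⊗[R] A) := by
  classical
  obtain ⟨ι, _, T, _, _, hff, hd⟩ := h
  haveI := hff
  refine ⟨ι, inferInstance, fun i => S ⊗[R] T i, inferInstance, inferInstance, ?_, fun i => ?_⟩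
  · haveI : Module.FaithfullyFlat S (S ⊗[R] (∀ i, T i)) := inferInstance
    exact Module.FaithfullyFlat.of_linearEquiv S (S ⊗[R] (∀ i, T i)) (TensorProduct.piRight R S S T).symm
  · letI : Algebra (T i) (S ⊗[R] T i) := Algebra.TensorProduct.rightAlgebra
    have h1 : SGA3b.IsDiag (S ⊗[R] T i) ((S ⊗[R] T i) ⊗[T i] (T i ⊗[R] A)) := isDiag_baseChange _ (hd i)
    have h2 : SGA3b.IsDiag (S ⊗[R] T i) ((S ⊗[R] T i) ⊗[R] A) := isDiag_cancel (S ⊗[R] T i) (T i) h1
    exact isDiag_uncancel (S ⊗[R] T i) S h2

end Deform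

end Groth.Agent.H8MultGL
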