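import Mathlib
import Groth.Prelude.Def_SGA3b
import Groth.Agent.Lib.H8MultCore
import Groth.Agent.Lib.H8Mult
import Groth.Agent.Lib.H8MultAdic
import Groth.Agent.Lib.H8MultGL

/-!
# Frames of group-like elements of groups of multiplicative type
-/

set_option autoImplicit false

universe u

open TensorProduct

namespace Groth.Agent.H8CharFrame

open H8MultCore H8Mult H8MultAdic H8MultGL

section BC

variable {R : Type u} [CommRing R] {A : Type u} [CommRing A] [HopfAlgebra R A]
variable {T : Type u} [CommRing T] [Algebra R T] {L : Type u} [CommRing L] [Algebra R L]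

/-- The map of base changes induced by an algebra map. -/
noncomputable def bc (φ : T →ₐ[R] L) : T ⊗[R] A →ₐ[R] L ⊗[R] A :=
  Algebra.TensorProduct.map φ (AlgHom.id R A)

lemma bc_tmul (φ : T →ₐ[R] L) (t : T) (a : A) : bc (A := A) φ (t ⊗ₜ a) = φ t ⊗ₜ a := rfl

lemma bc_smul (φ : T →ₐ[R] L) (t : T) (z : T ⊗[R] A) : bc φ (t • z) = φ t • bc φ z := by
  induction z using TensorProduct.induction_on with
  | zero => simp
  | tmul s a => simp [bc_tmul, smul_tmul']
  | add p q hp hq => simp only [smul_add, map_add, hp, hq]

lemma bc_injective [Module.Flat R A] (φ : T →ₐ[R] L) (hφ : Function.Injective φ) :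
    Function.Injective (bc (A := A) φ) :=
  Module.Flat.rTensor_preserves_injective_linearMap φ.toLinearMap hφ

lemma bc_bc {L' : Type u} [CommRing L'] [Algebra R L'] (φ : T →ₐ[R] L) (ψ : L →ₐ[R] L') (z : T ⊗[R] A) :
    bc ψ (bc φ z) = bc (ψ.comp φ) z := by
  induction z using TensorProduct.induction_on with
  | zero => simp
  | tmul s a => simp [bc_tmul]
  | add p q hp hq => simp only [map_add, hp, hq]

lemma counit_bc (φ : T →ₐ[R] L) (z : T ⊗[R] A) :
    CoalgebraStruct.counit (R := L) (bc φ z) = φ (CoalgebraStruct.counit (R := T) z) := by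
  induction z using TensorProduct.induction_on with
  | zero => simp
  | tmul t a => simp [bc_tmul]
  | add p q hp hq => simp only [map_add, hp, hq]

/-- The square of `bc`. -/
noncomputable def bc2 (φ : T →ₐ[R] L) :
    (T ⊗[R] A) ⊗[T] (T ⊗[R] A) →+ (L ⊗[R] A) ⊗[L] (L ⊗[R] A) :=
  TensorProduct.liftAddHom
    { toFun := fun x =>
        { toFun := fun y => bc φ x ⊗ₜ[L] bc φ y
          map_zero' := by simp
          map_add' := fun a b => by simp [tmul_add] }
      map_zero' := by ext; simp
      map_add' := fun a b => by ext y; simp [add_tmul] }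
    (fun t x y => by
      show bc φ (t • x) ⊗ₜ[L] bc φ y = bc φ x ⊗ₜ[L] bc φ (t • y)
      rw [bc_smul, bc_smul, smul_tmul])

lemma bc2_tmul (φ : T →ₐ[R] L) (x y : T ⊗[R] A) :
    bc2 φ (x ⊗ₜ[T] y) = bc φ x ⊗ₜ[L] bc φ y := rfl

lemma comul_bc (φ : T →ₐ[R] L) (z : T ⊗[R] A) :
    CoalgebraStruct.comul (R := L) (bc φ z) = bc2 φ (CoalgebraStruct.comul (R := T) z) := by
  induction z using TensorProduct.induction_on with
  | zero => simp
  | tmul t a =>
    rw [bc_tmul, show (t ⊗ₜ[R] a : T ⊗[R] A) = t • ((1 : T) ⊗ₜ[R] a) by simp [smul_tmul'],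
      show (φ t ⊗ₜ[R] a : L ⊗[R] A) = φ t • ((1 : L) ⊗ₜ[R] a) by simp [smul_tmul'],
      map_smul, map_smul, comul_one_tmul, comul_one_tmul]
    generalize CoalgebraStruct.comul (R := R) a = w
    induction w using TensorProduct.induction_on with
    | zero => simp
    | tmul x y =>
      rw [H8Mult.sq_tmul, H8Mult.sq_tmul, TensorProduct.smul_tmul', TensorProduct.smul_tmul' t, bc2_tmul]
      simp [smul_tmul', bc_tmul]
    | add p q hp hq => simp only [map_add, smul_add, hp, hq]
  | add p q hp hq => simp only [map_add, hp, hq]

/-- `bc` on group-like elements. -/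
noncomputable def glMap (φ : T →ₐ[R] L) : GroupLike T (T ⊗[R] A) →* GroupLike L (L ⊗[R] A) where
  toFun g := ⟨bc φ g.val, ⟨by rw [counit_bc, g.2.counit_eq_one, map_one], by
    rw [comul_bc, g.2.comul_eq_tmul_self, bc2_tmul]⟩⟩
  map_one' := GroupLike.val_injective (by simp)
  map_mul' a b := GroupLike.val_injective (by simp)

lemma glMap_glMap {L' : Type u} [CommRing L'] [Algebra R L'] (φ : T →ₐ[R] L) (ψ : L →ₐ[R] L')
    (g : GroupLike T (T ⊗[R] A)) : glMap ψ (glMap φ g) = glMap (ψ.comp φ) g :=
  GroupLike.val_injective (bc_bc φ ψ g.val)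

variable [Algebra T L] [IsScalarTower R T L]

lemma theta_glMap_bijective_iff {M : Type u} [CommGroup M] (G : M →* GroupLike T (T ⊗[R] A))
    (φ : T →ₐ[R] L) (hφ : ∀ t, φ t = algebraMap T L t) :
    Function.Bijective (theta ((glMap φ).comp G)) ↔
      Function.Bijective ((theta G : MonoidAlgebra T M →ₐ[T] T ⊗[R] A).toLinearMap.lTensor L) := by
  rw [← theta_baseChange_bijective_iff L G]
  let κ := Algebra.TensorProduct.cancelBaseChange R T L L A
  have h : ∀ x, theta ((glMap φ).comp G) x = κ (theta ((glBC (T ⊗[R] A) L).comp G) x) := by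
    intro x
    induction x using MonoidAlgebra.induction_linear with
    | zero => simp
    | add p q hp hq => simp only [map_add, hp, hq]
    | single m r =>
      rw [theta_single, theta_single, map_smul]
      congr 1
      show bc φ (G m).val = κ ((1 : L) ⊗ₜ[T] (G m).val)
      generalize (G m).val = z
      induction z using TensorProduct.induction_on with
      | zero => simp
      | tmul t a => simp [κ, bc_tmul, hφ, Algebra.smul_def]
      | add p q hp hq => simp only [tmul_add, map_add, hp, hq]
  rw [show ⇑(theta ((glMap φ).comp G)) = κ ∘ theta ((glBC (T ⊗[R] A) L).comp G) from funext h]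
  exact EquivLike.comp_bijective _ κ

end BC

section Frame

variable {R : Type u} [CommRing R] {A : Type u} [CommRing A] [HopfAlgebra R A]
variable {T : Type u} [CommRing T] [Algebra R T] {L : Type u} [CommRing L] [Algebra R L]

/-- Frames are stable under base change. -/
lemma frame_map {M : Type u} [CommGroup M] (G : M →* GroupLike T (T ⊗[R] A))
    (hG : Function.Bijective (theta G)) (φ : T →ₐ[R] L) : Function.Bijective (theta ((glMap φ).comp G)) := by
  letI := φ.toRingHom.toAlgebra
  haveI : IsScalarTower R T L := IsScalarTower.of_algebraMap_eq fun r => (φ.commutes r).symm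
  refine (theta_glMap_bijective_iff G φ fun t => rfl).mpr ?_
  exact ((LinearEquiv.ofBijective _ hG).lTensor L).bijective

/-- Frames descend along field extensions. -/
lemma frame_field_iff {k k' : Type u} [Field k] [Field k'] [Algebra R k] [Algebra R k'] {M : Type u} [CommGroup M]
    (G : M →* GroupLike k (k ⊗[R] A)) (φ : k →ₐ[R] k') :
    Function.Bijective (theta ((glMap φ).comp G)) ↔ Function.Bijective (theta G) := by
  refine ⟨fun h => ?_, fun h => frame_map G h φ⟩
  letI := φ.toRingHom.toAlgebra
  haveI : IsScalarTower R k k' := IsScalarTower.of_algebraMap_eq fun r => (φ.commutes r).symm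
  exact (Module.FaithfullyFlat.lTensor_bijective_iff_bijective k k' _).mp
    ((theta_glMap_bijective_iff G φ fun t => rfl).mp h)

/-- Group-like elements of a group algebra over a local ring. -/
lemma groupLike_single [IsLocalRing T] {N : Type u} [CommGroup N] (g : GroupLike T (MonoidAlgebra T N)) :
    ∃ n : N, g.val = MonoidAlgebra.single n 1 := by
  classical
  have horth : ∀ n n', co (T := T) n g.val * co n' g.val = if n = n' then co n g.val else 0 := by
    intro n n'
    rw [← nu_comul, g.2.comul_eq_tmul_self]
    simp [nu]
  have hsum : ∑ n ∈ g.val.coeff.support, co (T := T) n g.val = 1 := by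
    refine Eq.trans ?_ g.2.counit_eq_one
    conv_rhs => rw [← MonoidAlgebra.sum_coeff_single g.val]
    rw [map_finsuppSum, Finsupp.sum]
    refine Finset.sum_congr rfl fun n _ => ?_
    simp
    rfl
  obtain ⟨n, hn⟩ : ∃ n, IsUnit (co (T := T) n g.val) := by
    by_contra hcon
    push Not at hcon
    have : (1 : T) ∈ IsLocalRing.maximalIdeal T := hsum ▸ Ideal.sum_mem _ fun n _ => hcon n
    exact (IsLocalRing.maximalIdeal.isMaximal T).ne_top ((Ideal.eq_top_iff_one _).mpr this)
  have h1 : co (T := T) n g.val = 1 := by
    have := horth n n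
    rw [if_pos rfl] at this
    exact hn.mul_left_cancel (this.trans (mul_one _).symm)
  refine ⟨n, MonoidAlgebra.coeff_injective (Finsupp.ext fun n' => ?_)⟩
  show co n' g.val = co n' (MonoidAlgebra.single n (1 : T))
  rw [co_single]
  by_cases h : n = n'
  · rw [if_pos h, ← h, h1]
  · rw [if_neg h]
    have := horth n n'
    rwa [if_neg h, h1, one_mul] at this

lemma frame_single {N : Type u} [CommGroup N] (D : N →* GroupLike T (T ⊗[R] A)) (n : N) :
    theta D (MonoidAlgebra.single n 1) = (D n).val := by rw [theta_single, one_smul]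

/-- Group-like elements over a local ring are members of the frame. -/
lemma frame_surjective [IsLocalRing T] {N : Type u} [CommGroup N] (D : N →* GroupLike T (T ⊗[R] A))
    (hD : Function.Bijective (theta D)) (g : GroupLike T (T ⊗[R] A)) : ∃ n, D n = g := by
  let e := BialgEquiv.ofBijective (theta D) hD
  obtain ⟨n, hn⟩ := groupLike_single ⟨e.symm g.val, g.2.map e.symm⟩
  refine ⟨n, GroupLike.val_injective ?_⟩
  rw [← frame_single D n, ← hn]
  exact e.toLinearEquiv.apply_symm_apply g.val

lemma frame_injective [Nontrivial T] {N : Type u} [CommGroup N] (D : N →* GroupLike T (T ⊗[R] A))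
    (hD : Function.Bijective (theta D)) : Function.Injective D := by
  intro a b h
  have : theta D (MonoidAlgebra.single a (1 : T)) = theta D (MonoidAlgebra.single b 1) := by
    rw [frame_single, frame_single, h]
  have h2 := congrArg MonoidAlgebra.coeff (hD.1 this)
  simpa using (Finsupp.single_left_injective (one_ne_zero (α := T))) (by simpa using h2)

/-- Comparison of a family of group-like elements with a frame. -/
lemma frame_comp_iff [Nontrivial T] {M N : Type u} [CommGroup M] [CommGroup N]
    (D : N →* GroupLike T (T ⊗[R] A)) (hD : Function.Bijective (theta D)) (f : M →* N) :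
    Function.Bijective (theta (D.comp f)) ↔ Function.Bijective f := by
  have h : ∀ x, theta (D.comp f) x = theta D (MonoidAlgebra.mapDomain f x) := by
    intro x
    induction x using MonoidAlgebra.induction_linear with
    | zero => simp
    | add p q hp hq => rw [map_add, MonoidAlgebra.mapDomain_add, map_add, hp, hq]
    | single m r =>
      rw [MonoidAlgebra.mapDomain_single, theta_single, theta_single]
      rfl
  rw [show ⇑(theta (D.comp f)) = theta D ∘ MonoidAlgebra.mapDomain f from funext h,
    Function.Bijective.of_comp_iff' hD]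
  constructor
  · intro hb
    refine ⟨fun a b hab => ?_, fun n => ?_⟩
    · have := congrArg MonoidAlgebra.coeff (hb.1 (a₁ := MonoidAlgebra.single a (1 : T))
        (a₂ := MonoidAlgebra.single b 1) (by simp [hab]))
      simpa using (Finsupp.single_left_injective (one_ne_zero (α := T))) (by simpa using this)
    · obtain ⟨x, hx⟩ := hb.2 (MonoidAlgebra.single n 1)
      by_contra hn
      push Not at hn
      have h1 := congrArg (fun z : MonoidAlgebra T N => z.coeff n) hx
      simp [MonoidAlgebra.mapDomain, Finsupp.mapDomain_of_notMem_range, show n ∉ Set.range f from fun ⟨m, hm⟩ => hn m hm] at h1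
  · intro hf
    let e := MonoidAlgebra.mapDomainAddEquiv (R := T) (Equiv.ofBijective f hf)
    exact e.bijective

end Frame

section Flat

variable {R : Type u} [CommRing R] {A : Type u} [CommRing A] [HopfAlgebra R A]

/-- A split group is flat. -/
theorem flat_of_splitting (h : HasSplitting R A) : Module.Flat R A := by
  classical
  obtain ⟨ι, _, T, _, _, hff, hd⟩ := h
  haveI := hff
  have hfl : ∀ i, Module.Flat (T i) (T i ⊗[R] A) := fun i => by
    obtain ⟨M, _, ⟨e⟩⟩ := hd i
    haveI : Module.Flat (T i) (MonoidAlgebra (T i) M) :=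
      Module.Flat.of_linearEquiv (MonoidAlgebra.coeffLinearEquiv (T i))
    exact Module.Flat.of_linearEquiv (LinearEquiv.ofBijective
      (e : _ →ₐc[T i] MonoidAlgebra (T i) M).toLinearMap (EquivLike.bijective e))
  refine Module.Flat.iff_lTensor_preserves_injective_linearMap.mpr fun P Q _ _ _ _ f hf => ?_
  refine (Module.FaithfullyFlat.lTensor_injective_iff_injective R (∀ i, T i) (f.lTensor A)).mp ?_
  intro x y hxy
  refine piTensor_injective T fun i => ?_
  have hi : Function.Injective ((f.lTensor A).lTensor (T i)) := by
    haveI := hfl i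
    let c := fun (X : Type u) [AddCommGroup X] [Module R X] =>
      (TensorProduct.AlgebraTensorModule.assoc R R (T i) (T i) A X).symm
    haveI : Module.Flat R (T i ⊗[R] A) := by
      haveI : Module.Flat R (T i) := by
        haveI : Module.Flat R (∀ i, T i) := inferInstance
        exact Module.Flat.of_retract (LinearMap.single R T i) (LinearMap.proj i) (by ext; simp)
      exact Module.Flat.trans R (T i) (T i ⊗[R] A)
    have key : ∀ z, (TensorProduct.assoc R (T i) A Q).symm ((f.lTensor A).lTensor (T i) z) =
        f.lTensor (T i ⊗[R] A) ((TensorProduct.assoc R (T i) A P).symm z) := by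
      intro z
      induction z using TensorProduct.induction_on with
      | zero => simp
      | tmul t w =>
        induction w using TensorProduct.induction_on with
        | zero => simp
        | tmul a p => simp
        | add p q hp hq => simp only [tmul_add, map_add, hp, hq]
      | add p q hp hq => simp only [map_add, hp, hq]
    intro u v huv
    have h1 := congrArg (TensorProduct.assoc R (T i) A Q).symm huv
    rw [key, key] at h1
    exact (TensorProduct.assoc R (T i) A P).symm.injective
      (Module.Flat.lTensor_preserves_injective_linearMap f hf h1)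
  apply hi
  rw [← LinearMap.comp_apply, ← LinearMap.comp_apply (f := (f.lTensor A).lTensor (T i)),
    LinearMap.lTensor_comp_rTensor, ← LinearMap.rTensor_comp_lTensor, LinearMap.comp_apply,
    LinearMap.comp_apply, hxy]

end Flat

end Groth.Agent.H8CharFrame
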