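import Mathlib
import Groth.Prelude.Def_SGA3b
import Groth.Agent.Lib.H8MultCore
import Groth.Agent.Lib.H8Mult
import Groth.Agent.Lib.H8MultAdic
import Groth.Agent.Lib.H8MultGL
import Groth.Agent.Lib.H8CharFrame

/-!
# Étale neighbourhoods carrying prescribed characters

A group-like element over a field point extends to an étale neighbourhood: the functor of group-like elements
fixed by a finite-rank operator is formally unramified, of finite presentation, and smooth at the point.
-/

set_option autoImplicit false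

universe u

open TensorProduct

namespace Groth.Agent.H8CharLocus

open H8MultCore H8Mult H8MultAdic H8MultGL H8CharFrame

variable {R : Type u} [CommRing R] {A : Type u} [CommRing A] [HopfAlgebra R A]

section Proj

lemma co_frame {T : Type u} [CommRing T] {Q : Type u} [CommRing Q] [HopfAlgebra T Q] {N : Type u} [CommGroup N]
    [DecidableEq N] (D : N →* GroupLike T Q) (hD : Function.Bijective (theta D)) (J : Q →ₗ[T] T) (hJ1 : J 1 = 1)
    (hJ : ∀ a, P J (CoalgebraStruct.comul (R := T) a) = J a • 1) (n : N) :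
    J (D n).val = if n = 1 then 1 else 0 := by
  by_cases h : n = 1
  · subst h; rw [if_pos rfl, map_one, GroupLike.val_one, hJ1]
  · rw [if_neg h]
    have h1 := hJ (D n).val
    rw [(D n).2.comul_eq_tmul_self, P_tmul] at h1
    have h2 : theta D (MonoidAlgebra.single n (J (D n).val)) = theta D (MonoidAlgebra.single 1 (J (D n).val)) := by
      rw [theta_single, theta_single, map_one, GroupLike.val_one, h1]
    have h3 := congrArg (fun z : MonoidAlgebra T N => z.coeff n) (hD.1 h2)
    simpa [Ne.symm h] using h3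

/-- The extension of a functional to a base change. -/
noncomputable def ev (T : Type u) [CommRing T] [Algebra R T] (f : A →ₗ[R] R) : T ⊗[R] A →ₗ[T] T :=
  (TensorProduct.AlgebraTensorModule.rid R T T).toLinearMap ∘ₗ f.baseChange T

lemma ev_tmul (T : Type u) [CommRing T] [Algebra R T] (f : A →ₗ[R] R) (t : T) (x : A) :
    ev T f (t ⊗ₜ[R] x) = t * algebraMap R T (f x) := by
  simp [ev, Algebra.smul_def, mul_comm]

lemma ev_bc {T L : Type u} [CommRing T] [Algebra R T] [CommRing L] [Algebra R L] (φ : T →ₐ[R] L)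
    (f : A →ₗ[R] R) (z : T ⊗[R] A) : ev L f (bc φ z) = φ (ev T f z) := by
  induction z using TensorProduct.induction_on with
  | zero => simp
  | tmul t x => simp [bc_tmul, ev_tmul]
  | add p q hp hq => simp only [map_add, hp, hq]

lemma P_ev (T : Type u) [CommRing T] [Algebra R T] (J : A →ₗ[R] R)
    (hJ : ∀ a, P J (CoalgebraStruct.comul (R := R) a) = J a • 1) (z : T ⊗[R] A) :
    P (ev T J) (CoalgebraStruct.comul (R := T) z) = ev T J z • 1 := by
  have key : ∀ w : A ⊗[R] A, P (ev T J) (H8Mult.sq (R := R) T A w) = (1 : T) ⊗ₜ[R] P J w := by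
    intro w
    induction w using TensorProduct.induction_on with
    | zero => simp
    | tmul x y =>
      rw [H8Mult.sq_tmul, P_tmul, P_tmul, ev_tmul, one_mul, algebraMap_smul, tmul_smul]
    | add p q hp hq => simp only [map_add, tmul_add, hp, hq]
  induction z using TensorProduct.induction_on with
  | zero => simp
  | tmul t x =>
    rw [show (t ⊗ₜ[R] x : T ⊗[R] A) = t • ((1 : T) ⊗ₜ[R] x) by simp [smul_tmul'], map_smul, map_smul, map_smul,
      comul_one_tmul, key, hJ, ev_tmul, one_mul, tmul_smul, ← algebraMap_smul T (J x) ((1 : T) ⊗ₜ[R] (1 : A)),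
      ← Algebra.TensorProduct.one_def, smul_eq_mul, mul_smul]
  | add p q hp hq => simp only [map_add, add_smul, hp, hq]

/-- Finite-rank operators fix any given element. -/
theorem exists_proj_single (h : HasSplitting R A) (v : A) :
    ∃ w : Module.Dual R A ⊗[R] A, dualTensorHom R A A w v = v := by
  classical
  obtain ⟨J, hJ1, hJ⟩ := h.exists_haar
  obtain ⟨ι, _, T, _, _, hff, hd⟩ := h
  haveI := hff
  let c : Ideal R := LinearMap.range (J ∘ₗ LinearMap.mulLeft R v)
  let N₀ : Submodule R A := c • ⊤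
  suffices hv : v ∈ N₀ by
    have : v ∈ LinearMap.range ((dualTensorHom R A A).flip v) := by
      refine (Submodule.smul_le.mpr ?_) hv
      rintro r ⟨b, rfl⟩ x -
      refine ⟨(J ∘ₗ LinearMap.mulRight R b) ⊗ₜ x, ?_⟩
      simp
    exact this
  have h0 : ((1 : ∀ i, T i) ⊗ₜ[R] N₀.mkQ v : (∀ i, T i) ⊗[R] (A ⧸ N₀)) = 0 := by
    refine piTensor_injective T fun i => ?_
    rw [map_zero, LinearMap.rTensor_tmul]
    show (1 : T i) ⊗ₜ[R] N₀.mkQ v = 0
    obtain ⟨M, _, ⟨e⟩⟩ := hd i
    let D := diagHom e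
    have hD := theta_diagHom_bijective e
    have hevD : ∀ m, ev (T i) J (D m).val = if m = 1 then 1 else 0 :=
      co_frame D hD (ev (T i) J) (by rw [Algebra.TensorProduct.one_def, ev_tmul, hJ1]; simp) (P_ev (T i) J hJ)
    obtain ⟨x, hx⟩ := hD.2 ((1 : T i) ⊗ₜ[R] v)
    let q : T i ⊗[R] A →ₗ[T i] T i ⊗[R] (A ⧸ N₀) := N₀.mkQ.baseChange (T i)
    have hcoef : ∀ m, x.coeff m = ev (T i) J (((1 : T i) ⊗ₜ[R] v) * (D m⁻¹).val) := by
      intro m
      rw [← hx]
      clear hx
      induction x using MonoidAlgebra.induction_linear with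
      | zero => simp
      | add y z hy hz =>
        simp only [MonoidAlgebra.coeff_add, Finsupp.add_apply, map_add, add_mul, hy, hz]
      | single n r =>
        rw [theta_single, smul_mul_assoc, ← GroupLike.val_mul, ← map_mul, map_smul, hevD, smul_eq_mul]
        by_cases hnm : n = m
        · subst hnm; simp
        · simp [hnm, mul_inv_eq_one]
    have hq : ∀ (w z : T i ⊗[R] A), (ev (T i) J (((1 : T i) ⊗ₜ[R] v) * w)) • q z = 0 := by
      intro w z
      induction w using TensorProduct.induction_on with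
      | zero => simp
      | add p p' hp hp' => rw [mul_add, map_add, add_smul, hp, hp', add_zero]
      | tmul t b =>
        induction z using TensorProduct.induction_on with
        | zero => simp
        | add p p' hp hp' => rw [map_add, smul_add, hp, hp', add_zero]
        | tmul s y =>
          have : J (v * b) • N₀.mkQ y = 0 := by
            rw [← map_smul, Submodule.mkQ_apply, Submodule.Quotient.mk_eq_zero]
            exact Submodule.smul_mem_smul (show J (v * b) ∈ c from ⟨b, rfl⟩) trivial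
          rw [Algebra.TensorProduct.tmul_mul_tmul, one_mul, ev_tmul, mul_smul, algebraMap_smul,
            show q (s ⊗ₜ y) = s ⊗ₜ N₀.mkQ y from rfl, ← TensorProduct.tmul_smul, this, tmul_zero, smul_zero]
    show q ((1 : T i) ⊗ₜ[R] v) = 0
    conv_lhs => rw [← hx, ← MonoidAlgebra.sum_coeff_single x]
    rw [map_finsuppSum, map_finsuppSum]
    refine Finset.sum_eq_zero fun m _ => ?_
    dsimp only
    rw [theta_single, map_smul, hcoef, hq]
  exact (Submodule.Quotient.mk_eq_zero N₀).mp
    (Module.FaithfullyFlat.tensorProduct_mk_injective (A := R) (B := ∀ i, T i) (A ⧸ N₀)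
      (h0.trans (tmul_zero _ _).symm))

/-- Finite-rank operators fix any finite set. -/
theorem exists_proj (h : HasSplitting R A) (s : Finset A) :
    ∃ (n : ℕ) (a : Fin n → A) (φ : Fin n → A →ₗ[R] R), ∀ v ∈ s, ∑ i, φ i v • a i = v := by
  classical
  have key : ∃ w : Module.Dual R A ⊗[R] A, ∀ v ∈ s, dualTensorHom R A A w v = v := by
    induction s using Finset.induction_on with
    | empty => exact ⟨0, by simp⟩
    | @insert v s hv ih =>
      obtain ⟨w, hw⟩ := ih
      obtain ⟨w₂, hw₂⟩ := exists_proj_single h (v - dualTensorHom R A A w v)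
      refine ⟨w + w₂ - (dualTensorHom R A A w).dualMap.rTensor A w₂, fun u hu => ?_⟩
      have hcomp : dualTensorHom R A A ((dualTensorHom R A A w).dualMap.rTensor A w₂) u =
          dualTensorHom R A A w₂ (dualTensorHom R A A w u) := by
        generalize dualTensorHom R A A w = f
        clear hw₂
        induction w₂ using TensorProduct.induction_on with
        | zero => simp
        | tmul g x => simp
        | add p q hp hq => simp only [map_add, LinearMap.add_apply, hp, hq]
      rw [map_sub, map_add, LinearMap.sub_apply, LinearMap.add_apply, hcomp]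
      rcases Finset.mem_insert.mp hu with rfl | hu
      · rw [add_sub_assoc, ← map_sub, hw₂]; abel
      · rw [hw u hu]; abel
  obtain ⟨w, hw⟩ := key
  obtain ⟨S, rfl⟩ := TensorProduct.exists_finset w
  refine ⟨S.card, fun i => (S.equivFin.symm i).1.2, fun i => (S.equivFin.symm i).1.1, fun v hv => ?_⟩
  refine Eq.trans ?_ (hw v hv)
  rw [map_sum, LinearMap.sum_apply, ← Finset.sum_coe_sort S]
  exact Fintype.sum_equiv S.equivFin.symm _ _ fun i => (dualTensorHom_apply _ _ _).symm

end Proj

section Locus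

variable {n m : ℕ} (a : Fin n → A) (φ : Fin n → A →ₗ[R] R) (b : Fin m → A) (χ : Fin m → A →ₗ[R] R)

/-- The product of two functionals on `A ⊗ A`. -/
noncomputable def bil (f g : A →ₗ[R] R) : A ⊗[R] A →ₗ[R] R := LinearMap.mul' R R ∘ₗ TensorProduct.map f g

variable (T : Type u) [CommRing T] [Algebra R T]

/-- The element with coordinates `c`. -/
noncomputable def elt (c : Fin n → T) : T ⊗[R] A := ∑ i, c i ⊗ₜ[R] a i

/-- The equations cutting out group-like elements. -/
noncomputable def eqn (c : Fin n → T) : Fin n ⊕ (PUnit.{1} ⊕ (Fin m × Fin m)) → T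
  | .inl i => ∑ j, c j * algebraMap R T (φ i (a j)) - c i
  | .inr (.inl _) => ∑ i, c i * algebraMap R T (CoalgebraStruct.counit (R := R) (a i)) - 1
  | .inr (.inr (k, l)) => ∑ i, c i * algebraMap R T (bil (χ k) (χ l) (CoalgebraStruct.comul (R := R) (a i))) -
      (∑ i, c i * algebraMap R T (χ k (a i))) * ∑ j, c j * algebraMap R T (χ l (a j))

variable {T}

lemma eqn_map {L : Type u} [CommRing L] [Algebra R L] (f : T →ₐ[R] L) (c : Fin n → T) (j) :
    f (eqn a φ χ T c j) = eqn a φ χ L (fun i => f (c i)) j := by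
  rcases j with i | ⟨⟩ | ⟨k, l⟩ <;> simp [eqn]

lemma bc_elt {L : Type u} [CommRing L] [Algebra R L] (f : T →ₐ[R] L) (c : Fin n → T) :
    bc f (elt a T c) = elt a L (fun i => f (c i)) := by
  simp [elt, bc_tmul]

lemma ev_elt (f : A →ₗ[R] R) (c : Fin n → T) : ev T f (elt a T c) = ∑ j, c j * algebraMap R T (f (a j)) := by
  simp [elt, ev_tmul]

lemma counit_elt (c : Fin n → T) :
    CoalgebraStruct.counit (R := T) (elt (R := R) a T c) = ∑ i, c i * algebraMap R T (CoalgebraStruct.counit (R := R) (a i)) := by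
  simp [elt, Algebra.smul_def, mul_comm]

lemma sub_elt_mem {I : Ideal T} (c c' : Fin n → T) (h : ∀ i, c i - c' i ∈ I) :
    elt a T c - elt a T c' ∈ I • (⊤ : Submodule T (T ⊗[R] A)) := by
  rw [elt, elt, ← Finset.sum_sub_distrib]
  refine Submodule.sum_mem _ fun i _ => ?_
  rw [← sub_tmul, show ((c i - c' i) ⊗ₜ[R] a i : T ⊗[R] A) = (c i - c' i) • ((1 : T) ⊗ₜ[R] a i) by
    simp [smul_tmul']]
  exact Submodule.smul_mem_smul (h i) trivial

variable (hΔ : ∀ i, ∑ k, ∑ l, bil (χ k) (χ l) (CoalgebraStruct.comul (R := R) (a i)) • (b k ⊗ₜ[R] b l) =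
    CoalgebraStruct.comul (R := R) (a i))
  (hAA : ∀ i j, ∑ k, ∑ l, (χ k (a i) * χ l (a j)) • (b k ⊗ₜ[R] b l) = a i ⊗ₜ[R] a j)

include hΔ hAA in
lemma comul_elt (c : Fin n → T) :
    CoalgebraStruct.comul (R := T) (elt a T c) - elt a T c ⊗ₜ[T] elt a T c =
      ∑ k, ∑ l, eqn a φ χ T c (.inr (.inr (k, l))) • H8Mult.sq (R := R) T A (b k ⊗ₜ[R] b l) := by
  have hsq : ∀ (r : R) (w : A ⊗[R] A), H8Mult.sq (R := R) T A (r • w) = algebraMap R T r • H8Mult.sq (R := R) T A w :=
    fun r w => by rw [map_smul, algebraMap_smul]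
  have h1 : CoalgebraStruct.comul (R := T) (elt a T c) =
      ∑ k, ∑ l, (∑ i, c i * algebraMap R T (bil (χ k) (χ l) (CoalgebraStruct.comul (R := R) (a i)))) •
        H8Mult.sq (R := R) T A (b k ⊗ₜ[R] b l) := by
    rw [elt, map_sum]
    simp only [Finset.sum_smul]
    conv_rhs => enter [2, k]; rw [Finset.sum_comm]
    rw [Finset.sum_comm]
    refine Finset.sum_congr rfl fun i _ => ?_
    rw [show (c i ⊗ₜ[R] a i : T ⊗[R] A) = c i • ((1 : T) ⊗ₜ[R] a i) by simp [smul_tmul'], map_smul, comul_one_tmul]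
    conv_lhs => rw [← hΔ i, map_sum, Finset.smul_sum]
    refine Finset.sum_congr rfl fun k _ => ?_
    rw [map_sum, Finset.smul_sum]
    exact Finset.sum_congr rfl fun l _ => by rw [hsq, smul_smul]
  have h2 : elt a T c ⊗ₜ[T] elt a T c =
      ∑ k, ∑ l, ((∑ i, c i * algebraMap R T (χ k (a i))) * ∑ j, c j * algebraMap R T (χ l (a j))) •
        H8Mult.sq (R := R) T A (b k ⊗ₜ[R] b l) := by
    simp only [Finset.sum_mul_sum, Finset.sum_smul]
    conv_rhs => enter [2, k]; rw [Finset.sum_comm]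
    rw [Finset.sum_comm]
    rw [elt, TensorProduct.sum_tmul]
    refine Finset.sum_congr rfl fun i _ => ?_
    rw [TensorProduct.tmul_sum]
    conv_rhs => enter [2, k]; rw [Finset.sum_comm]
    rw [Finset.sum_comm]
    refine Finset.sum_congr rfl fun j _ => ?_
    rw [show (c i ⊗ₜ[R] a i : T ⊗[R] A) = c i • ((1 : T) ⊗ₜ[R] a i) by simp [smul_tmul'],
      show (c j ⊗ₜ[R] a j : T ⊗[R] A) = c j • ((1 : T) ⊗ₜ[R] a j) by simp [smul_tmul'],
      TensorProduct.tmul_smul, ← TensorProduct.smul_tmul', smul_smul, ← H8Mult.sq_tmul, ← hAA i j, map_sum,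
      Finset.smul_sum]
    refine Finset.sum_congr rfl fun k _ => ?_
    rw [map_sum, Finset.smul_sum]
    exact Finset.sum_congr rfl fun l _ => by rw [hsq, smul_smul, map_mul]; congr 1; ring
  rw [h1, h2]
  rw [← Finset.sum_sub_distrib]
  refine Finset.sum_congr rfl fun k _ => ?_
  rw [← Finset.sum_sub_distrib]
  exact Finset.sum_congr rfl fun l _ => by rw [sub_eq_iff_eq_add, ← add_smul]; congr 1; simp [eqn]

include hΔ hAA in
lemma isGroupLike_elt (c : Fin n → T) (h : ∀ j, eqn a φ χ T c j = 0) : IsGroupLikeElem T (elt (R := R) a T c) :=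
  ⟨by rw [counit_elt]; exact sub_eq_zero.mp (h (.inr (.inl PUnit.unit))),
    sub_eq_zero.mp (by
      rw [comul_elt a φ b χ hΔ hAA]
      exact Finset.sum_eq_zero fun k _ => Finset.sum_eq_zero fun l _ => by rw [h, zero_smul])⟩

lemma ev_elt_eq (c : Fin n → T) (h : ∀ j, eqn a φ χ T c j = 0) (i : Fin n) : ev T (φ i) (elt a T c) = c i := by
  rw [ev_elt]
  exact sub_eq_zero.mp (h (.inl i))

lemma eqn_of_fixed (g : GroupLike T (T ⊗[R] A)) (hg : elt a T (fun i => ev T (φ i) g.val) = g.val) :
    ∀ j, eqn a φ χ T (fun i => ev T (φ i) g.val) j = 0 := by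
  intro j
  rcases j with i | ⟨⟩ | ⟨k, l⟩
  · exact sub_eq_zero.mpr (by rw [← ev_elt, hg])
  · exact sub_eq_zero.mpr (by rw [← counit_elt, hg, g.2.counit_eq_one])
  · let β : (T ⊗[R] A) ⊗[T] (T ⊗[R] A) →ₗ[T] T :=
      LinearMap.mul' T T ∘ₗ TensorProduct.map (ev T (χ k)) (ev T (χ l))
    have hβ : ∀ w : A ⊗[R] A, β (H8Mult.sq (R := R) T A w) = algebraMap R T (bil (χ k) (χ l) w) := by
      intro w
      induction w using TensorProduct.induction_on with
      | zero => simp
      | tmul x y => simp [β, bil, ev_tmul]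
      | add p q hp hq => simp only [map_add, hp, hq]
    have h := congrArg β g.2.comul_eq_tmul_self
    rw [show β (g.val ⊗ₜ[T] g.val) = ev T (χ k) g.val * ev T (χ l) g.val from rfl] at h
    refine sub_eq_zero.mpr ?_
    rw [← ev_elt a (χ k), ← ev_elt a (χ l), hg, ← h]
    conv_rhs => rw [← hg, elt, map_sum, map_sum]
    refine Finset.sum_congr rfl fun i _ => ?_
    rw [show ((ev T (φ i) g.val) ⊗ₜ[R] a i : T ⊗[R] A) = ev T (φ i) g.val • ((1 : T) ⊗ₜ[R] a i) by simp [smul_tmul'],
      map_smul, map_smul, comul_one_tmul, hβ, smul_eq_mul]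

/-- The ideal of the equations. -/
noncomputable def eqIdeal : Ideal (MvPolynomial (Fin n) R) :=
  Ideal.span (Set.range (eqn a φ χ (MvPolynomial (Fin n) R) MvPolynomial.X))

include hΔ hAA in
/-- The universal algebra is formally unramified. -/
theorem formallyUnramified (hA : HasSplitting R A) :
    Algebra.FormallyUnramified R (MvPolynomial (Fin n) R ⧸ eqIdeal a φ χ) := by
  refine Algebra.FormallyUnramified.iff_comp_injective.mpr fun B _ _ I hI f g hfg => ?_
  let C := MvPolynomial (Fin n) R ⧸ eqIdeal a φ χ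
  let x : Fin n → C := fun i => Ideal.Quotient.mkₐ R (eqIdeal a φ χ) (MvPolynomial.X i)
  have hx : ∀ j, eqn a φ χ C x j = 0 := fun j => by
    rw [← eqn_map a φ χ (Ideal.Quotient.mkₐ R (eqIdeal a φ χ)) MvPolynomial.X j]
    exact Ideal.Quotient.eq_zero_iff_mem.mpr (Ideal.subset_span ⟨j, rfl⟩)
  have hF : ∀ (F : C →ₐ[R] B) j, eqn a φ χ B (fun i => F (x i)) j = 0 := fun F j => by
    rw [← eqn_map, hx, map_zero]
  obtain ⟨J, hJ1, hJ⟩ := (hA.baseChange B).exists_haar
  have heq : (⟨_, isGroupLike_elt a φ b χ hΔ hAA _ (hF f)⟩ : GroupLike B (B ⊗[R] A)) =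
      ⟨_, isGroupLike_elt a φ b χ hΔ hAA _ (hF g)⟩ :=
    groupLike_unique hJ1 I ⟨2, hI⟩ (fun z => by rw [hJ, sub_self]; exact zero_mem _)
      (sub_elt_mem a _ _ fun i => Ideal.Quotient.eq.mp (AlgHom.congr_fun hfg (x i)))
  refine Ideal.Quotient.algHom_ext R (MvPolynomial.algHom_ext fun i => ?_)
  show f (x i) = g (x i)
  rw [← ev_elt_eq a φ χ _ (hF f) i, show elt a B (fun i => f (x i)) = elt a B (fun i => g (x i)) from
    congrArg GroupLike.val heq, ev_elt_eq a φ χ _ (hF g) i]

end Locus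

section Smooth

variable {n m : ℕ} (a : Fin n → A) (φ : Fin n → A →ₗ[R] R) (b : Fin m → A) (χ : Fin m → A →ₗ[R] R)
  (hΔ : ∀ i, ∑ k, ∑ l, bil (χ k) (χ l) (CoalgebraStruct.comul (R := R) (a i)) • (b k ⊗ₜ[R] b l) =
    CoalgebraStruct.comul (R := R) (a i))
  (hAA : ∀ i j, ∑ k, ∑ l, (χ k (a i) * χ l (a j)) • (b k ⊗ₜ[R] b l) = a i ⊗ₜ[R] a j)

/-- Deformations of a fixed group-like element over a local ring are fixed. -/
theorem fixed_of_closed_point [Module.Flat R A] {B : Type u} [CommRing B] [IsLocalRing B] [Algebra R B]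
    {T' : Type u} [CommRing T'] [Algebra R T'] [Module.Flat R T'] {N : Type u} [CommGroup N]
    (D : N →* GroupLike T' (T' ⊗[R] A)) (hD : Function.Bijective (theta D))
    {F : Type u} [Field F] [Algebra R F] (χB : B →ₐ[R] F) (hχB : ∀ x ∈ IsLocalRing.maximalIdeal B, χB x = 0)
    (ψF : T' →ₐ[R] F) (m₀ : N) (hfix : elt a T' (fun i => ev T' (φ i) (D m₀).val) = (D m₀).val)
    (g : GroupLike B (B ⊗[R] A)) (hg : glMap χB g = glMap ψF (D m₀)) :
    elt a B (fun i => ev B (φ i) g.val) = g.val := by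
  let U := B ⊗[R] T'
  let χU : U →ₐ[R] F := Algebra.TensorProduct.lift χB ψF fun _ _ => Commute.all _ _
  haveI : (RingHom.ker χU.toRingHom).IsPrime := RingHom.ker_isPrime _
  let L := Localization.AtPrime (RingHom.ker χU.toRingHom)
  let χL : L →ₐ[R] F := IsLocalization.liftAlgHom (M := (RingHom.ker χU.toRingHom).primeCompl) (f := χU)
    fun y => IsUnit.mk0 _ y.2
  let i₁ : B →ₐ[R] L := (IsScalarTower.toAlgHom R U L).comp Algebra.TensorProduct.includeLeft
  let i₂ : T' →ₐ[R] L := (IsScalarTower.toAlgHom R U L).comp Algebra.TensorProduct.includeRight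
  have h₁ : χL.comp i₁ = χB := AlgHom.ext fun x =>
    (IsLocalization.lift_eq _ _).trans ((Algebra.TensorProduct.lift_tmul _ _ _ x 1).trans (by simp))
  have h₂ : χL.comp i₂ = ψF := AlgHom.ext fun x =>
    (IsLocalization.lift_eq _ _).trans ((Algebra.TensorProduct.lift_tmul _ _ _ 1 x).trans (by simp))
  have hloc : IsLocalHom (algebraMap B L) := ⟨fun x hx => by
    by_contra hnx
    have h0 : χL (i₁ x) = 0 := by
      rw [← AlgHom.comp_apply, h₁]
      exact hχB x hnx
    have : IsUnit (χL (i₁ x)) := by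
      have : algebraMap B L x = i₁ x := IsScalarTower.algebraMap_apply B U L x
      exact (this ▸ hx).map χL
    rw [h0] at this
    exact not_isUnit_zero this⟩
  haveI : Module.Flat B L := Module.Flat.trans B U L
  haveI := hloc
  haveI : Module.FaithfullyFlat B L := Module.FaithfullyFlat.of_flat_of_isLocalHom
  have hinj : Function.Injective i₁ := by
    intro x y hxy
    refine FaithfulSMul.algebraMap_injective B L ?_
    rw [IsScalarTower.algebraMap_apply B U L, IsScalarTower.algebraMap_apply B U L]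
    exact hxy
  obtain ⟨m₁, hm₁⟩ := frame_surjective _ (frame_map D hD i₂) (glMap i₁ g)
  have hm : m₁ = m₀ := by
    refine frame_injective _ (frame_map D hD ψF) ?_
    show glMap ψF (D m₁) = glMap ψF (D m₀)
    rw [← hg, ← h₁, ← glMap_glMap, ← hm₁]
    show _ = glMap χL (glMap i₂ (D m₁))
    rw [glMap_glMap, h₂]
  subst hm
  refine bc_injective i₁ hinj ?_
  have hv : bc i₁ g.val = bc i₂ (D m₁).val := (congrArg GroupLike.val hm₁).symm
  rw [bc_elt]
  simp only [← ev_bc, hv]
  conv_rhs => rw [← hfix, bc_elt]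
  simp only [← ev_bc]

/-- Formal smoothness of a local ring from sections of its square-zero local thickenings. -/
theorem formallySmooth_atPrime {P C : Type u} [CommRing P] [CommRing C] [Algebra R P] [Algebra R C]
    [Algebra.FormallySmooth R P] (p : P →ₐ[R] C) (hp : Function.Surjective p) (x : Ideal C) [x.IsPrime]
    (Cx : Type u) [CommRing Cx] [Algebra R Cx] [Algebra C Cx] [IsScalarTower R C Cx] [IsLocalization.AtPrime Cx x]
    (h : ∀ (B : Type u) [CommRing B] [Algebra R B] [IsLocalRing B] (q : B →ₐ[R] Cx) (p₀ : P →ₐ[R] B),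
      (∀ z w, q z = 0 → q w = 0 → z * w = 0) → (∀ y, q (p₀ y) = algebraMap C Cx (p y)) →
      Function.Surjective q → ∃ g : Cx →ₐ[R] B, q.comp g = AlgHom.id R Cx) :
    Algebra.FormallySmooth R Cx := by
  haveI : Nontrivial Cx := IsLocalization.AtPrime.nontrivial Cx x
  let xP : Ideal P := x.comap p
  let Px := Localization.AtPrime xP
  haveI : Algebra.FormallySmooth P Px := Algebra.FormallySmooth.of_isLocalization xP.primeCompl
  haveI : Algebra.FormallySmooth R Px := Algebra.FormallySmooth.comp R P Px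
  let π : Px →ₐ[R] Cx := IsLocalization.liftAlgHom (M := xP.primeCompl)
    (f := (IsScalarTower.toAlgHom R C Cx).comp p) fun y => IsLocalization.map_units Cx (⟨p y, y.2⟩ : x.primeCompl)
  have hπ : ∀ y, π (algebraMap P Px y) = algebraMap C Cx (p y) := fun y => IsLocalization.lift_eq _ y
  have hπs : Function.Surjective π := by
    intro y
    obtain ⟨c, s, rfl⟩ := IsLocalization.exists_mk'_eq x.primeCompl y
    obtain ⟨c', rfl⟩ := hp c
    obtain ⟨s', hs'⟩ := hp (s : C)
    have hs'' : s' ∈ xP.primeCompl := fun h => s.2 (by rw [← hs']; exact h)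
    refine ⟨IsLocalization.mk' Px c' (⟨s', hs''⟩ : xP.primeCompl), ?_⟩
    rw [IsLocalization.eq_mk'_iff_mul_eq, ← hs', ← hπ, ← map_mul, IsLocalization.mk'_spec, hπ]
  refine (Algebra.FormallySmooth.iff_split_surjection π hπs).mpr ?_
  let K := RingHom.ker π.toRingHom
  have hK2 : K ^ 2 ≤ K := Ideal.pow_le_self two_ne_zero
  haveI : Nontrivial (Px ⧸ K ^ 2) := Ideal.Quotient.nontrivial_iff.mpr fun h =>
    (RingHom.ker_ne_top π.toRingHom) (top_le_iff.mp (h ▸ hK2))
  haveI : IsLocalRing (Px ⧸ K ^ 2) := IsLocalRing.of_surjective' _ Ideal.Quotient.mk_surjective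
  refine h (Px ⧸ K ^ 2) π.kerSquareLift ((Ideal.Quotient.mkₐ R (K ^ 2)).comp (IsScalarTower.toAlgHom R P Px))
    ?_ (fun y => hπ y) ?_
  · intro z w hz hw
    obtain ⟨z, rfl⟩ := Ideal.Quotient.mk_surjective z
    obtain ⟨w, rfl⟩ := Ideal.Quotient.mk_surjective w
    rw [← map_mul, Ideal.Quotient.eq_zero_iff_mem, pow_two]
    exact Ideal.mul_mem_mul hz hw
  · intro y
    obtain ⟨z, rfl⟩ := hπs y
    exact ⟨Ideal.Quotient.mk _ z, rfl⟩

include hΔ hAA in
/-- A square-zero thickening of the local ring of the universal algebra at a fixed point has a section. -/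
theorem exists_section [Module.Flat R A] (hA : HasSplitting R A)
    {T' : Type u} [CommRing T'] [Algebra R T'] [Module.Flat R T'] {N : Type u} [CommGroup N]
    (D : N →* GroupLike T' (T' ⊗[R] A)) (hD : Function.Bijective (theta D))
    {F : Type u} [Field F] [Algebra R F] (ψ : MvPolynomial (Fin n) R ⧸ eqIdeal a φ χ →ₐ[R] F)
    (ψF : T' →ₐ[R] F) (m₀ : N) (hfix : elt a T' (fun i => ev T' (φ i) (D m₀).val) = (D m₀).val)
    (hψ : elt a F (fun i => ψ (Ideal.Quotient.mk _ (MvPolynomial.X i))) = bc ψF (D m₀).val)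
    (x : Ideal (MvPolynomial (Fin n) R ⧸ eqIdeal a φ χ)) [x.IsPrime] (hxk : ∀ c, c ∈ x ↔ ψ c = 0)
    (Cx : Type u) [CommRing Cx] [Algebra R Cx] [Algebra (MvPolynomial (Fin n) R ⧸ eqIdeal a φ χ) Cx]
    [IsScalarTower R (MvPolynomial (Fin n) R ⧸ eqIdeal a φ χ) Cx] [IsLocalization.AtPrime Cx x]
    (B : Type u) [CommRing B] [Algebra R B] [IsLocalRing B] (q : B →ₐ[R] Cx) (c₀ : Fin n → B)
    (hsq : ∀ z w, q z = 0 → q w = 0 → z * w = 0)
    (hc₀ : ∀ i, q (c₀ i) = algebraMap (MvPolynomial (Fin n) R ⧸ eqIdeal a φ χ) Cx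
      (Ideal.Quotient.mk _ (MvPolynomial.X i)))
    (hqs : Function.Surjective q) : ∃ g : Cx →ₐ[R] B, q.comp g = AlgHom.id R Cx := by
  let C := MvPolynomial (Fin n) R ⧸ eqIdeal a φ χ
  let I := RingHom.ker q.toRingHom
  have hI : IsNilpotent I := by
    refine ⟨2, ?_⟩
    rw [pow_two, Ideal.zero_eq_bot, eq_bot_iff, Ideal.mul_le]
    intro z hz w hw
    exact (Submodule.mem_bot B).mpr (hsq z w hz hw)
  have hq0 : ∀ j, eqn a φ χ B c₀ j ∈ I := fun j => by
    show q (eqn a φ χ B c₀ j) = 0
    rw [eqn_map a φ χ q]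
    simp only [hc₀]
    refine Eq.trans (eqn_map a φ χ ((IsScalarTower.toAlgHom R C Cx).comp (Ideal.Quotient.mkₐ R _)) MvPolynomial.X j).symm ?_
    rw [
      AlgHom.comp_apply, show Ideal.Quotient.mkₐ R (eqIdeal a φ χ) (eqn a φ χ _ MvPolynomial.X j) = 0 from
        Ideal.Quotient.eq_zero_iff_mem.mpr (Ideal.subset_span ⟨j, rfl⟩), map_zero]
  obtain ⟨J, hJ1, hJ⟩ := (hA.baseChange B).exists_haar
  obtain ⟨g, hg⟩ := groupLike_lift hJ1 I hI (fun z => by rw [hJ, sub_self]; exact zero_mem _) (elt a B c₀)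
    (by rw [counit_elt]; exact hq0 (.inr (.inl PUnit.unit)))
    (by
      rw [comul_elt a φ b χ hΔ hAA]
      exact Submodule.sum_mem _ fun k _ => Submodule.sum_mem _ fun l _ =>
        Submodule.smul_mem_smul (hq0 _) trivial)
  let ψx : Cx →ₐ[R] F := IsLocalization.liftAlgHom (M := x.primeCompl) (f := ψ) fun y => IsUnit.mk0 _ fun h => y.2 ((hxk _).mpr h)
  have hψx : ∀ c, ψx (algebraMap C Cx c) = ψ c := fun c => IsLocalization.lift_eq _ c
  have hbc : bc q g.val = bc q (elt a B c₀) := by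
    rw [← sub_eq_zero, ← map_sub]
    refine Submodule.smul_induction_on hg (fun r hr z _ => ?_) fun u v hu hv => by rw [map_add, hu, hv, add_zero]
    rw [bc_smul, show q r = 0 from hr, zero_smul]
  have hfixg : elt a B (fun i => ev B (φ i) g.val) = g.val := by
    refine fixed_of_closed_point a φ D hD (ψx.comp q) ?_ ψF m₀ hfix g (GroupLike.val_injective ?_)
    · intro z hz
      show ψx (q z) = 0
      by_contra hne
      have : IsUnit (q z) := by
        by_contra hnu
        obtain ⟨c, s, hcs⟩ := IsLocalization.exists_mk'_eq x.primeCompl (q z)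
        refine hne ?_
        have hc : c ∈ x := by
          by_contra hcx
          exact hnu (hcs ▸ IsUnit.of_mul_eq_one _ (IsLocalization.mk'_mul_mk'_eq_one (S := Cx) (⟨c, hcx⟩ : x.primeCompl) s))
        have h := congrArg ψx (IsLocalization.mk'_spec Cx c s)
        rw [map_mul, hcs, hψx, hψx, (hxk c).mp hc] at h
        exact (mul_eq_zero.mp h).resolve_right fun h => s.2 ((hxk _).mpr h)
      obtain ⟨u, hu⟩ := this
      obtain ⟨y, hy⟩ := hqs ↑u⁻¹
      have h1 : IsNilpotent (z * y - 1) := ⟨2, by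
        rw [pow_two]; exact hsq _ _ (by rw [map_sub, map_mul, map_one, hy, ← hu, Units.mul_inv, sub_self])
          (by rw [map_sub, map_mul, map_one, hy, ← hu, Units.mul_inv, sub_self])⟩
      exact hz (isUnit_of_mul_isUnit_left (by simpa using h1.isUnit_add_one : IsUnit (z * y)))
    · show bc (ψx.comp q) g.val = bc ψF (D m₀).val
      rw [← bc_bc, hbc, bc_elt, bc_elt, ← hψ]
      simp only [hc₀]
      congr 1
      funext i
      exact hψx _
  have hE := eqn_of_fixed a φ χ g hfixg
  let G₀ : C →ₐ[R] B := Ideal.Quotient.liftₐ (eqIdeal a φ χ) (MvPolynomial.aeval fun i => ev B (φ i) g.val)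
    (by
      intro p hp
      induction hp using Submodule.span_induction with
      | mem p hp =>
        obtain ⟨j, rfl⟩ := hp
        rw [eqn_map]
        simp only [MvPolynomial.aeval_X]
        exact hE j
      | zero => simp
      | add u v _ _ hu hv => simp [hu, hv]
      | smul u v _ hv => simp [hv])
  have hG₀ : q.comp G₀ = IsScalarTower.toAlgHom R C Cx := by
    refine Ideal.Quotient.algHom_ext R (MvPolynomial.algHom_ext fun i => ?_)
    show q (MvPolynomial.aeval (fun i => ev B (φ i) g.val) (MvPolynomial.X i)) = _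
    rw [MvPolynomial.aeval_X, ← ev_bc, hbc, ev_bc, ev_elt]
    have := hq0 (.inl i)
    change q (_ - c₀ i) = 0 at this
    rw [map_sub, sub_eq_zero] at this
    rw [this, hc₀]
    rfl
  refine ⟨IsLocalization.liftAlgHom (M := x.primeCompl) (f := G₀) fun y => ?_, ?_⟩
  · have hu : IsUnit (q (G₀ y)) := by
      rw [← AlgHom.comp_apply, hG₀]
      exact IsLocalization.map_units Cx y
    obtain ⟨u, hu⟩ := hu
    obtain ⟨w, hw⟩ := hqs ↑u⁻¹
    have h1 : q (G₀ y * w - 1) = 0 := by rw [map_sub, map_mul, map_one, hw, ← hu, Units.mul_inv, sub_self]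
    have h2 : IsNilpotent (G₀ y * w - 1) := ⟨2, by rw [pow_two]; exact hsq _ _ h1 h1⟩
    exact isUnit_of_mul_isUnit_left (by simpa using h2.isUnit_add_one : IsUnit (G₀ y * w))
  · refine IsLocalization.algHom_ext x.primeCompl ?_
    refine AlgHom.ext fun c => ?_
    exact (congrArg q (IsLocalization.lift_eq _ c)).trans (AlgHom.congr_fun hG₀ c)

include hΔ hAA in
/-- The universal algebra is étale at a point where the universal element belongs to a fixed frame. -/
theorem isEtaleAt [Module.Flat R A] (hA : HasSplitting R A)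
    {T' : Type u} [CommRing T'] [Algebra R T'] [Module.Flat R T'] {N : Type u} [CommGroup N]
    (D : N →* GroupLike T' (T' ⊗[R] A)) (hD : Function.Bijective (theta D))
    {F : Type u} [Field F] [Algebra R F] (ψ : MvPolynomial (Fin n) R ⧸ eqIdeal a φ χ →ₐ[R] F)
    (ψF : T' →ₐ[R] F) (m₀ : N) (hfix : elt a T' (fun i => ev T' (φ i) (D m₀).val) = (D m₀).val)
    (hψ : elt a F (fun i => ψ (Ideal.Quotient.mk _ (MvPolynomial.X i))) = bc ψF (D m₀).val)
    [hx : (RingHom.ker ψ.toRingHom).IsPrime] :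
    Algebra.IsEtaleAt R (RingHom.ker ψ.toRingHom) := by
  let C := MvPolynomial (Fin n) R ⧸ eqIdeal a φ χ
  let x := RingHom.ker ψ.toRingHom
  let Cx := Localization.AtPrime x
  haveI := formallyUnramified a φ b χ hΔ hAA hA
  haveI : Algebra.FormallyUnramified C Cx := Algebra.FormallyUnramified.of_isLocalization x.primeCompl
  haveI : Algebra.FormallyUnramified R Cx := Algebra.FormallyUnramified.comp R C Cx
  haveI : Algebra.FormallySmooth R Cx :=
    formallySmooth_atPrime (Ideal.Quotient.mkₐ R (eqIdeal a φ χ)) Ideal.Quotient.mk_surjective x Cx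
      fun B _ _ _ q p₀ hsq hc hqs => exists_section a φ b χ hΔ hAA hA D hD ψ ψF m₀ hfix hψ x (fun c => Iff.rfl) Cx B q
        (fun i => p₀ (MvPolynomial.X i)) hsq (fun i => hc _) hqs
  exact Algebra.FormallyEtale.of_formallyUnramified_and_formallySmooth

end Smooth

/-- A group-like element at a field point extends to an étale neighbourhood. -/
theorem exists_char_nbhd (hA : HasSplitting R A) {K : Type u} [Field K] [Algebra R K]
    (g : GroupLike K (K ⊗[R] A)) :
    ∃ (S : Type u) (_ : CommRing S) (_ : Algebra R S) (ψ : S →ₐ[R] K) (G : GroupLike S (S ⊗[R] A)),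
      Algebra.Etale R S ∧ glMap ψ G = g := by
  classical
  haveI := flat_of_splitting hA
  obtain ⟨ι, _, T, _, _, hff, hd⟩ := id hA
  haveI := hff
  obtain ⟨i, hi⟩ : ∃ i, Nontrivial (K ⊗[R] T i) := by
    by_contra hcon
    haveI : ∀ i, Subsingleton (K ⊗[R] T i) := fun i => not_nontrivial_iff_subsingleton.mp (not_exists.mp hcon i)
    haveI : Subsingleton (K ⊗[R] (∀ i, T i)) := (TensorProduct.piRight R R K T).toEquiv.subsingleton
    obtain ⟨q, -⟩ := PrimeSpectrum.comap_surjective_of_faithfullyFlat (B := K ⊗[R] (∀ i, T i))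
      (⟨⊥, inferInstance⟩ : PrimeSpectrum K)
    exact q.isPrime.ne_top (Subsingleton.elim _ _)
  haveI := hi
  obtain ⟨mx, hmx⟩ := Ideal.exists_maximal (K ⊗[R] T i)
  letI := Ideal.Quotient.field mx
  let F := (K ⊗[R] T i) ⧸ mx
  let ψK : K →ₐ[R] F := (Ideal.Quotient.mkₐ R mx).comp Algebra.TensorProduct.includeLeft
  let ψF : T i →ₐ[R] F := (Ideal.Quotient.mkₐ R mx).comp Algebra.TensorProduct.includeRight
  obtain ⟨N, _, ⟨e⟩⟩ := hd i
  let D := diagHom e
  have hD := theta_diagHom_bijective e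
  obtain ⟨m₀, hm₀⟩ := frame_surjective _ (frame_map D hD ψF) (glMap ψK g)
  haveI : Module.Flat R (T i) := by
    haveI : Module.Flat R (∀ i, T i) := inferInstance
    exact Module.Flat.of_retract (LinearMap.single R T i) (LinearMap.proj i) (by ext; simp)
  obtain ⟨s₀, hs₀⟩ := TensorProduct.exists_finset (D m₀).val
  obtain ⟨n, a, φ, hfix₀⟩ := exists_proj hA (s₀.image Prod.snd)
  choose legs hlegs using fun j : Fin n => TensorProduct.exists_finset (CoalgebraStruct.comul (R := R) (a j))
  obtain ⟨m, b, χ, hb⟩ := exists_proj hA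
    (Finset.univ.biUnion fun j => insert (a j) ((legs j).image Prod.fst ∪ (legs j).image Prod.snd))
  have hbm : ∀ x y, (∑ k, χ k x • b k = x) → (∑ l, χ l y • b l = y) →
      ∑ k, ∑ l, bil (χ k) (χ l) (x ⊗ₜ[R] y) • (b k ⊗ₜ[R] b l) = x ⊗ₜ[R] y := by
    intro x y hx hy
    conv_rhs => rw [← hx, ← hy, TensorProduct.sum_tmul]
    refine Finset.sum_congr rfl fun k _ => ?_
    rw [TensorProduct.tmul_sum]
    refine Finset.sum_congr rfl fun l _ => ?_
    rw [TensorProduct.tmul_smul, ← TensorProduct.smul_tmul', smul_smul]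
    congr 1
    simp [bil, mul_comm]
  have hmem : ∀ (j : Fin n) (v : A), v ∈ insert (a j) ((legs j).image Prod.fst ∪ (legs j).image Prod.snd) →
      ∑ k, χ k v • b k = v :=
    fun j v hv => hb v (Finset.mem_biUnion.mpr ⟨j, Finset.mem_univ j, hv⟩)
  have hΔ : ∀ j, ∑ k, ∑ l, bil (χ k) (χ l) (CoalgebraStruct.comul (R := R) (a j)) • (b k ⊗ₜ[R] b l) =
      CoalgebraStruct.comul (R := R) (a j) := by
    intro j
    rw [hlegs j]
    simp only [map_sum, Finset.sum_smul]
    conv_lhs => enter [2, k]; rw [Finset.sum_comm]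
    rw [Finset.sum_comm]
    refine Finset.sum_congr rfl fun p hp => hbm _ _ (hmem j _ ?_) (hmem j _ ?_)
    · exact Finset.mem_insert_of_mem (Finset.mem_union_left _ (Finset.mem_image_of_mem _ hp))
    · exact Finset.mem_insert_of_mem (Finset.mem_union_right _ (Finset.mem_image_of_mem _ hp))
  have hAA : ∀ i j, ∑ k, ∑ l, (χ k (a i) * χ l (a j)) • (b k ⊗ₜ[R] b l) = a i ⊗ₜ[R] a j := fun i j => by
    refine Eq.trans ?_ (hbm _ _ (hmem i _ (Finset.mem_insert_self _ _)) (hmem j _ (Finset.mem_insert_self _ _)))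
    simp [bil]
  have hfix : elt a (T i) (fun j => ev (T i) (φ j) (D m₀).val) = (D m₀).val := by
    rw [hs₀, elt]
    simp only [map_sum, TensorProduct.sum_tmul]
    rw [Finset.sum_comm]
    refine Finset.sum_congr rfl fun p hp => ?_
    conv_rhs => rw [← hfix₀ p.2 (Finset.mem_image_of_mem _ hp), TensorProduct.tmul_sum]
    refine Finset.sum_congr rfl fun j _ => ?_
    rw [ev_tmul, TensorProduct.tmul_smul, TensorProduct.smul_tmul', Algebra.smul_def, mul_comm]
  have hgfix : elt a K (fun j => ev K (φ j) g.val) = g.val := by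
    refine bc_injective ψK ψK.toRingHom.injective ?_
    have hv : bc ψK g.val = bc ψF (D m₀).val := (congrArg GroupLike.val hm₀).symm
    rw [bc_elt]
    simp only [← ev_bc, hv]
    conv_rhs => rw [← hfix, bc_elt]
    simp only [← ev_bc]
  let ψ : MvPolynomial (Fin n) R ⧸ eqIdeal a φ χ →ₐ[R] K :=
    Ideal.Quotient.liftₐ (eqIdeal a φ χ) (MvPolynomial.aeval fun j => ev K (φ j) g.val)
      (by
        intro p hp
        induction hp using Submodule.span_induction with
        | mem p hp =>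
          obtain ⟨j, rfl⟩ := hp
          rw [eqn_map]
          simp only [MvPolynomial.aeval_X]
          exact eqn_of_fixed a φ χ g hgfix j
        | zero => simp
        | add u v _ _ hu hv => simp [hu, hv]
        | smul u v _ hv => simp [hv])
  have hψX : ∀ j, ψ (Ideal.Quotient.mk _ (MvPolynomial.X j)) = ev K (φ j) g.val := fun j => MvPolynomial.aeval_X (fun j => ev K (φ j) g.val) j
  haveI : (RingHom.ker (ψK.comp ψ).toRingHom).IsPrime := RingHom.ker_isPrime _
  haveI := isEtaleAt a φ b χ hΔ hAA hA D hD (ψK.comp ψ) ψF m₀ hfix (by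
    show elt a F (fun j => ψK (ψ _)) = _
    simp only [hψX]
    rw [← bc_elt, hgfix]
    exact (congrArg GroupLike.val hm₀).symm)
  haveI : Algebra.FinitePresentation R (MvPolynomial (Fin n) R ⧸ eqIdeal a φ χ) :=
    Algebra.FinitePresentation.quotient ((Submodule.fg_def).mpr ⟨_, Set.finite_range _, rfl⟩)
  obtain ⟨h, hh, het⟩ := Algebra.exists_etale_of_isEtaleAt (R := R) (RingHom.ker (ψK.comp ψ).toRingHom)
  let C := MvPolynomial (Fin n) R ⧸ eqIdeal a φ χ
  let S := Localization.Away h
  have hne : ψ h ≠ 0 := fun h0 => hh (show ψK (ψ h) = 0 by rw [h0, map_zero])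
  let ψS : S →ₐ[R] K := IsLocalization.liftAlgHom (M := Submonoid.powers h) (f := ψ) (by
    rintro ⟨_, k, rfl⟩
    show IsUnit (ψ (h ^ k))
    rw [map_pow]
    exact (IsUnit.mk0 _ hne).pow k)
  let c : Fin n → S := fun j => IsScalarTower.toAlgHom R C S (Ideal.Quotient.mk _ (MvPolynomial.X j))
  have hc : ∀ j, eqn a φ χ S c j = 0 := fun j => by
    refine Eq.trans (eqn_map a φ χ ((IsScalarTower.toAlgHom R C S).comp (Ideal.Quotient.mkₐ R _)) MvPolynomial.X j).symm ?_
    rw [
      AlgHom.comp_apply, show Ideal.Quotient.mkₐ R (eqIdeal a φ χ) (eqn a φ χ _ MvPolynomial.X j) = 0 from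
        Ideal.Quotient.eq_zero_iff_mem.mpr (Ideal.subset_span ⟨j, rfl⟩), map_zero]
  refine ⟨S, inferInstance, inferInstance, ψS, ⟨_, isGroupLike_elt a φ b χ hΔ hAA c hc⟩, het, GroupLike.val_injective ?_⟩
  show bc ψS (elt a S c) = g.val
  conv_rhs => rw [← hgfix]
  rw [bc_elt]
  congr 1
  funext j
  exact (IsLocalization.lift_eq _ _).trans (hψX j)

end Groth.Agent.H8CharLocus
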