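import Mathlib
import Groth.Prelude.Def_SGA3b
import Groth.Agent.Lib.H8Mult
import Groth.Agent.Lib.H8EtaleLift
import Groth.Agent.Lib.H8MultGL

/-!
# Lifting étale splittings along nil ideals
-/

set_option autoImplicit false

universe u

open TensorProduct

namespace Groth.Agent.H8MultLift

open H8MultGL

variable {R : Type u} [CommRing R] {A : Type u} [CommRing A] [HopfAlgebra R A]

/-- Quasi-isotriviality on a basic open from an étale algebra over `R`. -/
lemma quasiConst_of_etale (f : R) (S : Type u) [CommRing S] [Algebra R S] [Algebra.Etale R S]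
    (hu : IsUnit (algebraMap R S f))
    (hsurj : ∀ p : PrimeSpectrum R, f ∉ p.asIdeal → p ∈ Set.range (PrimeSpectrum.comap (algebraMap R S)))
    (hd : SGA3b.IsDiag S (S ⊗[R] A)) :
    SGA3b.IsQuasiIsotrivialConst (Localization.Away f) (Localization.Away f ⊗[R] A) := by
  letI : Algebra (Localization.Away f) S := (IsLocalization.Away.lift f hu).toAlgebra
  haveI : IsScalarTower R (Localization.Away f) S :=
    IsScalarTower.of_algebraMap_eq fun r => (IsLocalization.Away.lift_eq f hu r).symm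
  haveI : Algebra.Etale R (Localization.Away f) := Algebra.Etale.of_isLocalizationAway f
  haveI : Algebra.Etale (Localization.Away f) S := Algebra.Etale.of_restrictScalars R (Localization.Away f) S
  refine ⟨S, inferInstance, inferInstance, inferInstance, ?_, isDiag_uncancel S (Localization.Away f) hd⟩
  refine Module.FaithfullyFlat.of_comap_surjective fun p => ?_
  have hp : f ∉ (PrimeSpectrum.comap (algebraMap R (Localization.Away f)) p).asIdeal := by
    have : PrimeSpectrum.comap (algebraMap R (Localization.Away f)) p ∈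
        (PrimeSpectrum.basicOpen f : Set (PrimeSpectrum R)) := by
      rw [← PrimeSpectrum.localization_away_comap_range (Localization.Away f) f]
      exact Set.mem_range_self p
    exact this
  obtain ⟨q, hq⟩ := hsurj _ hp
  refine ⟨q, PrimeSpectrum.localization_comap_injective (Localization.Away f) (Submonoid.powers f) ?_⟩
  rw [← hq, IsScalarTower.algebraMap_eq R (Localization.Away f) S]
  rfl

/-- An étale splitting modulo a nil ideal lifts. -/
theorem exists_lift_split (I : Ideal R) (hI : ∀ x ∈ I, IsNilpotent x)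
    (key : ∀ (S : Type u) [CommRing S] [Algebra R S] [Module.Flat R S],
      SGA3b.IsDiag (S ⧸ I.map (algebraMap R S)) ((S ⧸ I.map (algebraMap R S)) ⊗[S] (S ⊗[R] A)) →
      SGA3b.IsDiag S (S ⊗[R] A))
    (S₀ : Type u) [CommRing S₀] [Algebra R S₀] [Algebra (R ⧸ I) S₀] [IsScalarTower R (R ⧸ I) S₀]
    [Algebra.Etale (R ⧸ I) S₀] (h₀ : SGA3b.IsDiag S₀ (S₀ ⊗[R] A)) :
    ∃ (S : Type u) (_ : CommRing S) (_ : Algebra R S) (ψ : S →ₐ[R] S₀),
      Algebra.Etale R S ∧ Function.Surjective ψ ∧ (∀ x, ψ x = 0 → IsNilpotent x) ∧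
      SGA3b.IsDiag S (S ⊗[R] A) := by
  obtain ⟨S, _, _, het, ⟨e⟩⟩ := H8EtaleLift.exists_lift R I hI S₀
  haveI := het
  let ψ : S →ₐ[R] S₀ := (e.toAlgHom.restrictScalars R).comp Algebra.TensorProduct.includeRight
  have hψ : ∀ x : S, ψ x = e ((1 : R ⧸ I) ⊗ₜ[R] x) := fun x => rfl
  refine ⟨S, inferInstance, inferInstance, ψ, het, fun y => ?_, fun x hx => ?_, key S ?_⟩
  · obtain ⟨x, hx⟩ := H8EtaleLift.exists_mk_tmul R I (S := S) (e.symm y)
    exact ⟨x, by rw [hψ, hx, e.apply_symm_apply]⟩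
  · exact H8EtaleLift.isNilpotent_of_one_tmul_eq_zero R I hI (e.injective ((hψ x).symm.trans (hx.trans (map_zero e).symm)))
  · let φ : S₀ →ₐ[R] (S ⧸ I.map (algebraMap R S)) :=
      (Algebra.TensorProduct.lift
        (Ideal.Quotient.liftₐ I (Algebra.ofId R (S ⧸ I.map (algebraMap R S))) fun r hr => by
          rw [Algebra.ofId_apply, IsScalarTower.algebraMap_apply R S, Ideal.Quotient.algebraMap_eq]
          exact Ideal.Quotient.eq_zero_iff_mem.mpr (Ideal.mem_map_of_mem _ hr))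
        (Ideal.Quotient.mkₐ R (I.map (algebraMap R S))) fun _ _ => Commute.all _ _).comp
        (e.symm.toAlgHom.restrictScalars R)
    letI : Algebra S₀ (S ⧸ I.map (algebraMap R S)) := φ.toRingHom.toAlgebra
    haveI : IsScalarTower R S₀ (S ⧸ I.map (algebraMap R S)) :=
      IsScalarTower.of_algebraMap_eq fun r => (φ.commutes r).symm
    exact isDiag_uncancel _ S (isDiag_cancel (S ⧸ I.map (algebraMap R S)) S₀ (isDiag_baseChange _ h₀))

/-- Quasi-isotriviality lifts along nil ideals. -/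
theorem quasiIsotrivial_of_mod (I : Ideal R) (hI : ∀ x ∈ I, IsNilpotent x)
    (key : ∀ (S : Type u) [CommRing S] [Algebra R S] [Module.Flat R S],
      SGA3b.IsDiag (S ⧸ I.map (algebraMap R S)) ((S ⧸ I.map (algebraMap R S)) ⊗[S] (S ⊗[R] A)) →
      SGA3b.IsDiag S (S ⊗[R] A))
    (h0 : SGA3b.IsQuasiIsotrivial (R ⧸ I) ((R ⧸ I) ⊗[R] A)) : SGA3b.IsQuasiIsotrivial R A := by
  obtain ⟨s₀, hs₀, hf⟩ := h0
  refine ⟨(Ideal.Quotient.mk I) ⁻¹' s₀, ?_, fun f hfm => ?_⟩
  · have h1 : (1 : R ⧸ I) ∈ (Ideal.span ((Ideal.Quotient.mk I) ⁻¹' s₀)).map (Ideal.Quotient.mk I) := by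
      rw [Ideal.map_span, Set.image_preimage_eq _ Ideal.Quotient.mk_surjective, hs₀]
      trivial
    obtain ⟨x, hx, hx1⟩ := (Ideal.mem_map_iff_of_surjective _ Ideal.Quotient.mk_surjective).mp h1
    have h2 : IsNilpotent (x - 1) := hI _ (Ideal.Quotient.eq_zero_iff_mem.mp (by rw [map_sub, hx1, map_one, sub_self]))
    exact Ideal.eq_top_of_isUnit_mem _ hx (by simpa using h2.isUnit_add_one)
  · obtain ⟨S₀, _, _, het, hff, hd⟩ := hf _ hfm
    haveI := het
    haveI := hff
    let L := Localization.Away (Ideal.Quotient.mk I f)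
    letI : Algebra (R ⧸ I) S₀ := ((algebraMap L S₀).comp (algebraMap (R ⧸ I) L)).toAlgebra
    haveI : IsScalarTower (R ⧸ I) L S₀ := IsScalarTower.of_algebraMap_eq' rfl
    haveI : Algebra.Etale (R ⧸ I) L := Algebra.Etale.of_isLocalizationAway (Ideal.Quotient.mk I f)
    haveI : Algebra.Etale (R ⧸ I) S₀ := Algebra.Etale.comp (R ⧸ I) L S₀
    letI : Algebra R S₀ := ((algebraMap (R ⧸ I) S₀).comp (algebraMap R (R ⧸ I))).toAlgebra
    haveI : IsScalarTower R (R ⧸ I) S₀ := IsScalarTower.of_algebraMap_eq' rfl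
    obtain ⟨S, _, _, ψ, hSet, hψs, hψn, hdS⟩ :=
      exists_lift_split I hI key S₀ (isDiag_cancel S₀ (R ⧸ I) (isDiag_cancel S₀ L hd))
    haveI := hSet
    refine quasiConst_of_etale f S ?_ (fun p hp => ?_) hdS
    · obtain ⟨u, hu⟩ : IsUnit (ψ (algebraMap R S f)) := by
        rw [ψ.commutes, IsScalarTower.algebraMap_apply R (R ⧸ I) S₀, IsScalarTower.algebraMap_apply (R ⧸ I) L S₀]
        exact (IsLocalization.Away.algebraMap_isUnit (Ideal.Quotient.mk I f)).map _
      obtain ⟨y, hy⟩ := hψs ↑u⁻¹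
      have h1 : IsNilpotent (algebraMap R S f * y - 1) :=
        hψn _ (by rw [map_sub, map_mul, map_one, hy, ← hu, Units.mul_inv, sub_self])
      exact isUnit_of_mul_isUnit_left (by simpa using h1.isUnit_add_one : IsUnit (algebraMap R S f * y))
    · obtain ⟨p₁, rfl⟩ : p ∈ Set.range (PrimeSpectrum.comap (Ideal.Quotient.mk I)) := by
        rw [range_comap_of_surjective _ _ Ideal.Quotient.mk_surjective, PrimeSpectrum.mem_zeroLocus,
          Ideal.mk_ker]
        intro x hx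
        obtain ⟨n, hn⟩ := hI x hx
        exact p.isPrime.mem_of_pow_mem n (hn ▸ zero_mem _)
      obtain ⟨p₂, rfl⟩ : p₁ ∈ Set.range (PrimeSpectrum.comap (algebraMap (R ⧸ I) L)) := by
        rw [PrimeSpectrum.localization_away_comap_range L (Ideal.Quotient.mk I f)]
        exact hp
      obtain ⟨q, rfl⟩ := PrimeSpectrum.comap_surjective_of_faithfullyFlat (B := S₀) p₂
      refine ⟨PrimeSpectrum.comap ψ.toRingHom q, ?_⟩
      apply PrimeSpectrum.ext
      ext x
      show ψ (algebraMap R S x) ∈ q.asIdeal ↔ algebraMap L S₀ (algebraMap (R ⧸ I) L (Ideal.Quotient.mk I x)) ∈ q.asIdeal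
      rw [ψ.commutes]
      rfl

/-- An isotrivial group is quasi-isotrivial and of multiplicative type. -/
theorem quasi_of_isotrivial (h : SGA3b.IsIsotrivial R A) : SGA3b.IsQuasiIsotrivial R A := by
  obtain ⟨S, _, _, het, _, hff, hd⟩ := h
  haveI := het
  haveI := hff
  refine ⟨{1}, by simp, fun f hf => ?_⟩
  rw [Set.mem_singleton_iff] at hf
  subst hf
  exact quasiConst_of_etale 1 S (by simp) (fun p _ => PrimeSpectrum.comap_surjective_of_faithfullyFlat p) hd

theorem multType_of_quasi (h : SGA3b.IsQuasiIsotrivial R A) : SGA3b.IsMultType R A := by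
  obtain ⟨s, hs, hf⟩ := h
  exact ⟨s, hs, fun f hfm => by
    obtain ⟨S, _, _, _, hff, hd⟩ := hf f hfm
    exact ⟨S, inferInstance, inferInstance, hff, hd⟩⟩

/-- Isotriviality lifts along nil ideals. -/
theorem isotrivial_of_mod (I : Ideal R) (hI : ∀ x ∈ I, IsNilpotent x)
    (key : ∀ (S : Type u) [CommRing S] [Algebra R S] [Module.Flat R S],
      SGA3b.IsDiag (S ⧸ I.map (algebraMap R S)) ((S ⧸ I.map (algebraMap R S)) ⊗[S] (S ⊗[R] A)) →
      SGA3b.IsDiag S (S ⊗[R] A))
    (h0 : SGA3b.IsIsotrivial (R ⧸ I) ((R ⧸ I) ⊗[R] A)) : SGA3b.IsIsotrivial R A := by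
  obtain ⟨S₀, _, _, het, hfin, hff, hd⟩ := h0
  haveI := het
  haveI := hfin
  haveI := hff
  letI : Algebra R S₀ := ((algebraMap (R ⧸ I) S₀).comp (algebraMap R (R ⧸ I))).toAlgebra
  haveI : IsScalarTower R (R ⧸ I) S₀ := IsScalarTower.of_algebraMap_eq' rfl
  obtain ⟨S, _, _, ψ, hSet, _, hψn, hdS⟩ := exists_lift_split I hI key S₀ (isDiag_cancel S₀ (R ⧸ I) hd)
  haveI := hSet
  have hint : Algebra.IsIntegral R S := ⟨fun x => by
    cases subsingleton_or_nontrivial (R ⧸ I) with
    | inl hs =>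
      haveI := hs
      obtain ⟨n, hn⟩ : IsNilpotent x := hψn x (by
        haveI : Subsingleton S₀ := (algebraMap (R ⧸ I) S₀).codomain_trivial
        exact Subsingleton.elim _ _)
      exact ⟨Polynomial.X ^ n, Polynomial.monic_X_pow n, by rw [← Polynomial.aeval_def]; simp [hn]⟩
    | inr hnt =>
    haveI := hnt
    obtain ⟨p, hp, hpx⟩ := Algebra.IsIntegral.isIntegral (R := R ⧸ I) (ψ x)
    obtain ⟨q, hq, -, hqm⟩ := Polynomial.lifts_and_degree_eq_and_monic
      ((Polynomial.lifts_iff_coeff_lifts (f := Ideal.Quotient.mk I) p).mpr fun n => Ideal.Quotient.mk_surjective _) hp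
    obtain ⟨n, hn⟩ : IsNilpotent (Polynomial.aeval x q) := hψn _ (by
      rw [← Polynomial.aeval_algHom_apply]
      rw [← hq, Polynomial.eval₂_map] at hpx
      exact hpx)
    exact ⟨q ^ n, hqm.pow n, by rw [← Polynomial.aeval_def, map_pow, hn]⟩⟩
  refine ⟨S, inferInstance, inferInstance, hSet, Algebra.IsIntegral.finite, ?_, hdS⟩
  refine Module.FaithfullyFlat.of_comap_surjective fun p => ?_
  obtain ⟨p₁, rfl⟩ : p ∈ Set.range (PrimeSpectrum.comap (Ideal.Quotient.mk I)) := by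
    rw [range_comap_of_surjective _ _ Ideal.Quotient.mk_surjective, PrimeSpectrum.mem_zeroLocus,
      Ideal.mk_ker]
    intro x hx
    obtain ⟨n, hn⟩ := hI x hx
    exact p.isPrime.mem_of_pow_mem n (hn ▸ zero_mem _)
  obtain ⟨q, rfl⟩ := PrimeSpectrum.comap_surjective_of_faithfullyFlat (B := S₀) p₁
  refine ⟨PrimeSpectrum.comap ψ.toRingHom q, ?_⟩
  apply PrimeSpectrum.ext
  ext x
  show ψ (algebraMap R S x) ∈ q.asIdeal ↔ algebraMap (R ⧸ I) S₀ (Ideal.Quotient.mk I x) ∈ q.asIdeal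
  rw [ψ.commutes]
  rfl

lemma key_of_flat [Module.Flat R A] (I : Ideal R) (hI : IsNilpotent I)
    (S : Type u) [CommRing S] [Algebra R S] [Module.Flat R S]
    (h : SGA3b.IsDiag (S ⧸ I.map (algebraMap R S)) ((S ⧸ I.map (algebraMap R S)) ⊗[S] (S ⊗[R] A))) :
    SGA3b.IsDiag S (S ⊗[R] A) := by
  refine isDiag_of_flat_mod_nilpotent _ ?_ h
  obtain ⟨n, hn⟩ := hI
  exact ⟨n, by rw [← Ideal.map_pow, hn, Ideal.zero_eq_bot, Ideal.map_bot]; rfl⟩

lemma key_of_splitting (I : Ideal R) (hI : ∀ x ∈ I, IsNilpotent x) (hA : HasSplitting R A)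
    (S : Type u) [CommRing S] [Algebra R S] [Module.Flat R S]
    (h : SGA3b.IsDiag (S ⧸ I.map (algebraMap R S)) ((S ⧸ I.map (algebraMap R S)) ⊗[S] (S ⊗[R] A))) :
    SGA3b.IsDiag S (S ⊗[R] A) := by
  have hle : I.map (algebraMap R S) ≤ nilradical S := Ideal.map_le_iff_le_comap.mpr fun r hr =>
    Ideal.mem_comap.mpr (mem_nilradical.mpr ((hI r hr).map (algebraMap R S)))
  exact isDiag_of_mod_nil (hA.baseChange S) _ (fun x hx => mem_nilradical.mp (hle hx)) h

end Groth.Agent.H8MultLift
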