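import Mathlib
import Groth.Prelude.Def_SGA3b
import Groth.Agent.Lib.H8MultCore
import Groth.Agent.Lib.H8Mult
import Groth.Agent.Lib.H8MultAdic
import Groth.Agent.Lib.H8MultGL
import Groth.Agent.Lib.H8CharFrame
import Groth.Agent.Lib.H8CharLocus
import Groth.Agent.Lib.H8MultLift

/-!
# Groups of multiplicative type of finite type are quasi-isotrivial
-/

set_option autoImplicit false

universe u

open TensorProduct

namespace Groth.Agent.H8CharQuasi

open H8MultCore H8Mult H8MultAdic H8MultGL H8CharFrame H8CharLocus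

variable {R : Type u} [CommRing R] {A : Type u} [CommRing A] [HopfAlgebra R A]

/-- A local ring is covered by a local ring carrying a frame. -/
theorem exists_local_frame (hA : HasSplitting R A) (B : Type u) [CommRing B] [IsLocalRing B] [Algebra R B] :
    ∃ (L : Type u) (_ : CommRing L) (_ : IsLocalRing L) (_ : Algebra R L) (N : Type u) (_ : CommGroup N)
      (D : N →* GroupLike L (L ⊗[R] A)) (i : B →ₐ[R] L),
      Function.Bijective (theta D) ∧ i.toRingHom.Flat ∧ IsLocalHom i.toRingHom := by
  classical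
  obtain ⟨ι, _, T, _, _, hff, hd⟩ := hA
  haveI := hff
  let κ := IsLocalRing.ResidueField B
  obtain ⟨i, hi⟩ : ∃ i, Nontrivial (κ ⊗[R] T i) := by
    by_contra hcon
    haveI : ∀ i, Subsingleton (κ ⊗[R] T i) := fun i => not_nontrivial_iff_subsingleton.mp (not_exists.mp hcon i)
    haveI : Subsingleton (κ ⊗[R] (∀ i, T i)) := (TensorProduct.piRight R R κ T).toEquiv.subsingleton
    obtain ⟨q, -⟩ := PrimeSpectrum.comap_surjective_of_faithfullyFlat (B := κ ⊗[R] (∀ i, T i))
      (⟨⊥, inferInstance⟩ : PrimeSpectrum κ)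
    exact q.isPrime.ne_top (Subsingleton.elim _ _)
  haveI := hi
  obtain ⟨mx, hmx⟩ := Ideal.exists_maximal (κ ⊗[R] T i)
  haveI : Module.Flat R (T i) := by
    haveI : Module.Flat R (∀ i, T i) := inferInstance
    exact Module.Flat.of_retract (LinearMap.single R T i) (LinearMap.proj i) (by ext; simp)
  let U := B ⊗[R] T i
  let f : U →ₐ[R] κ ⊗[R] T i := Algebra.TensorProduct.map (IsScalarTower.toAlgHom R B κ) (AlgHom.id R (T i))
  let y : Ideal U := mx.comap f
  let L := Localization.AtPrime y
  obtain ⟨N, _, ⟨e⟩⟩ := hd i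
  refine ⟨L, inferInstance, inferInstance, inferInstance, N, inferInstance,
    (glMap ((IsScalarTower.toAlgHom R U L).comp Algebra.TensorProduct.includeRight)).comp (diagHom e),
    (IsScalarTower.toAlgHom R U L).comp Algebra.TensorProduct.includeLeft,
    frame_map _ (theta_diagHom_bijective e) _, ?_, ?_⟩
  · have h : Module.Flat B L := Module.Flat.trans B U L
    have e2 : ((IsScalarTower.toAlgHom R U L).comp Algebra.TensorProduct.includeLeft : B →ₐ[R] L).toRingHom =
        algebraMap B L := RingHom.ext fun x => (IsScalarTower.algebraMap_apply B U L x).symm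
    rw [e2]
    exact RingHom.flat_algebraMap_iff.mpr h
  · refine ⟨fun x hx => ?_⟩
    by_contra hnx
    have h0 : IsLocalRing.residue B x = 0 := Ideal.Quotient.eq_zero_iff_mem.mpr hnx
    have h1 : (algebraMap B U x) ∈ y := by
      show f (x ⊗ₜ[R] (1 : T i)) ∈ mx
      rw [Algebra.TensorProduct.map_tmul]
      show (IsLocalRing.residue B x) ⊗ₜ[R] _ ∈ mx
      rw [h0, zero_tmul]
      exact zero_mem _
    exact ((IsLocalization.AtPrime.isUnit_to_map_iff L y (algebraMap B U x)).mp hx) h1

lemma injective_of_flat_local {B L : Type u} [CommRing B] [IsLocalRing B] [CommRing L] [IsLocalRing L]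
    (i : B →+* L) (hf : i.Flat) (hl : IsLocalHom i) : Function.Injective i := by
  algebraize [i]
  haveI : IsLocalHom (algebraMap B L) := hl
  haveI : Module.FaithfullyFlat B L := Module.FaithfullyFlat.of_flat_of_isLocalHom
  exact FaithfulSMul.algebraMap_injective B L

/-- Group-like elements over a local ring agreeing at a field point over the closed point are equal. -/
theorem eq_of_residue (hA : HasSplitting R A) {B : Type u} [CommRing B] [IsLocalRing B] [Algebra R B]
    {F : Type u} [Field F] [Algebra R F] (χ : B →ₐ[R] F) (hχ : ∀ x ∈ IsLocalRing.maximalIdeal B, χ x = 0)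
    (g g' : GroupLike B (B ⊗[R] A)) (h : glMap χ g = glMap χ g') : g = g' := by
  haveI := flat_of_splitting hA
  obtain ⟨L, _, _, _, N, _, D, i, hD, hf, hl⟩ := exists_local_frame hA B
  obtain ⟨n, hn⟩ := frame_surjective D hD (glMap i g)
  obtain ⟨n', hn'⟩ := frame_surjective D hD (glMap i g')
  have hi : Function.Injective i := injective_of_flat_local i.toRingHom hf hl
  refine GroupLike.val_injective (bc_injective i hi ?_)
  show (glMap i g).val = (glMap i g').val
  rw [← hn, ← hn']
  congr 2
  let πB : B →ₐ[R] IsLocalRing.ResidueField B := IsScalarTower.toAlgHom R B _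
  let χ' : IsLocalRing.ResidueField B →ₐ[R] F := Ideal.Quotient.liftₐ _ χ hχ
  have e : χ'.comp πB = χ := AlgHom.ext fun x => rfl
  rw [← e, ← glMap_glMap, ← glMap_glMap] at h
  have h' : glMap πB g = glMap πB g' :=
    GroupLike.val_injective (bc_injective χ' χ'.toRingHom.injective (congrArg GroupLike.val h))
  let πL : L →ₐ[R] IsLocalRing.ResidueField L := IsScalarTower.toAlgHom R L _
  let j : IsLocalRing.ResidueField B →ₐ[R] IsLocalRing.ResidueField L :=
    Ideal.Quotient.liftₐ _ (πL.comp i) fun x hx => by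
      show IsLocalRing.residue L (i x) = 0
      refine Ideal.Quotient.eq_zero_iff_mem.mpr fun hu => hx ?_
      exact hl.map_nonunit x hu
  have e2 : j.comp πB = πL.comp i := AlgHom.ext fun x => rfl
  refine frame_injective _ (frame_map D hD πL) ?_
  show glMap πL (D n) = glMap πL (D n')
  rw [hn, hn', glMap_glMap, glMap_glMap, ← e2, ← glMap_glMap, ← glMap_glMap, h']

/-- A homomorphism into group-like elements over a local ring which is bijective at the closed point is bijective. -/
theorem bijective_of_residue (hA : HasSplitting R A) {B : Type u} [CommRing B] [IsLocalRing B] [Algebra R B]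
    {F : Type u} [Field F] [Algebra R F] (χ : B →ₐ[R] F) (hχ : ∀ x ∈ IsLocalRing.maximalIdeal B, χ x = 0)
    {M : Type u} [CommGroup M] (G : M →* GroupLike B (B ⊗[R] A))
    (h : Function.Bijective (theta ((glMap χ).comp G))) : Function.Bijective (theta G) := by
  obtain ⟨L, _, _, _, N, _, D, i, hD, hf, hl⟩ := exists_local_frame hA B
  choose f hfD using fun m => frame_surjective D hD (glMap i (G m))
  let fh : M →* N :=
    { toFun := f
      map_one' := frame_injective D hD (by rw [hfD, map_one, map_one, map_one])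
      map_mul' := fun a b => frame_injective D hD (by rw [map_mul, hfD, hfD, hfD, map_mul, map_mul]) }
  have hG : (glMap i).comp G = D.comp fh := MonoidHom.ext fun m => (hfD m).symm
  let πB : B →ₐ[R] IsLocalRing.ResidueField B := IsScalarTower.toAlgHom R B _
  let χ' : IsLocalRing.ResidueField B →ₐ[R] F := Ideal.Quotient.liftₐ _ χ hχ
  have e : χ'.comp πB = χ := AlgHom.ext fun x => rfl
  have h1 : Function.Bijective (theta ((glMap πB).comp G)) := by
    rw [← frame_field_iff _ χ']
    rwa [← MonoidHom.comp_assoc, show (glMap χ').comp (glMap (A := A) πB) = glMap χ from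
      MonoidHom.ext fun g => by rw [MonoidHom.comp_apply, glMap_glMap, e]]
  let πL : L →ₐ[R] IsLocalRing.ResidueField L := IsScalarTower.toAlgHom R L _
  let j : IsLocalRing.ResidueField B →ₐ[R] IsLocalRing.ResidueField L :=
    Ideal.Quotient.liftₐ _ (πL.comp i) fun x hx => by
      show IsLocalRing.residue L (i x) = 0
      refine Ideal.Quotient.eq_zero_iff_mem.mpr fun hu => hx ?_
      exact hl.map_nonunit x hu
  have e2 : j.comp πB = πL.comp i := AlgHom.ext fun x => rfl
  have h2 : Function.Bijective (theta ((glMap πL).comp (D.comp fh))) := by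
    rw [← hG, ← MonoidHom.comp_assoc, show (glMap πL).comp (glMap (A := A) i) = (glMap j).comp (glMap πB) from
      MonoidHom.ext fun g => by rw [MonoidHom.comp_apply, MonoidHom.comp_apply, glMap_glMap, glMap_glMap, e2],
      MonoidHom.comp_assoc]
    exact frame_map _ h1 j
  rw [← MonoidHom.comp_assoc, frame_comp_iff _ (frame_map D hD πL)] at h2
  have h3 : Function.Bijective (theta ((glMap i).comp G)) := by rw [hG, frame_comp_iff D hD]; exact h2
  letI := i.toRingHom.toAlgebra
  haveI : IsScalarTower R B L := IsScalarTower.of_algebraMap_eq fun r => (i.commutes r).symm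
  haveI : Module.Flat B L := hf
  haveI : IsLocalHom (algebraMap B L) := hl
  haveI : Module.FaithfullyFlat B L := Module.FaithfullyFlat.of_flat_of_isLocalHom
  exact (Module.FaithfullyFlat.lTensor_bijective_iff_bijective B L _).mp
    ((theta_glMap_bijective_iff G i fun t => rfl).mp h3)

/-- An element vanishing in a localisation is killed by a denominator. -/
lemma exists_smul_eq_zero {S : Type u} [CommRing S] [Algebra R S] (W : Submonoid S) {Sx : Type u} [CommRing Sx]
    [Algebra R Sx] [Algebra S Sx] [IsScalarTower R S Sx] [IsLocalization W Sx] (d : S ⊗[R] A)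
    (hd : bc (IsScalarTower.toAlgHom R S Sx) d = 0) : ∃ s ∈ W, s • d = 0 := by
  have h1 : (1 : Sx) ⊗ₜ[S] d = 0 := by
    apply (Algebra.TensorProduct.cancelBaseChange R S Sx Sx A).injective
    rw [map_zero]
    refine Eq.trans ?_ hd
    clear hd
    induction d using TensorProduct.induction_on with
    | zero => simp
    | tmul t a => simp [bc_tmul, Algebra.smul_def]
    | add p q hp hq => simp only [tmul_add, map_add, hp, hq]
  obtain ⟨s, hs⟩ := (IsLocalizedModule.eq_zero_iff W (TensorProduct.mk S Sx (S ⊗[R] A) 1)).mp h1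
  exact ⟨s, s.2, hs⟩

/-- Shrinking an étale neighbourhood. -/
lemma exists_shrink {S : Type u} [CommRing S] [Algebra R S] [Algebra.Etale R S] {K : Type u} [Field K] [Algebra R K]
    (ψ : S →ₐ[R] K) (h : S) (hh : ψ h ≠ 0) :
    ∃ (S' : Type u) (_ : CommRing S') (_ : Algebra R S') (ψ' : S' →ₐ[R] K) (i : S →ₐ[R] S'),
      Algebra.Etale R S' ∧ ψ'.comp i = ψ ∧ IsUnit (i h) ∧ ∀ d : S ⊗[R] A, h • d = 0 → bc i d = 0 := by
  let S' := Localization.Away h
  let ψ' : S' →ₐ[R] K := IsLocalization.liftAlgHom (M := Submonoid.powers h) (f := ψ) (by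
    rintro ⟨_, k, rfl⟩
    show IsUnit (ψ (h ^ k))
    rw [map_pow]
    exact (IsUnit.mk0 _ hh).pow k)
  haveI : Algebra.Etale S S' := Algebra.Etale.of_isLocalizationAway h
  refine ⟨S', inferInstance, inferInstance, ψ', IsScalarTower.toAlgHom R S S', Algebra.Etale.comp R S S',
    AlgHom.ext fun x => IsLocalization.lift_eq _ x, IsLocalization.Away.algebraMap_isUnit h, fun d hd => ?_⟩
  have h1 := congrArg (bc (IsScalarTower.toAlgHom R S S')) hd
  rw [bc_smul, map_zero] at h1
  exact ((IsLocalization.Away.algebraMap_isUnit h).smul_eq_zero).mp h1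

/-- Finitely many characters at a field point extend to an étale neighbourhood. -/
theorem exists_chars_nbhd (hA : HasSplitting R A) {K : Type u} [Field K] [Algebra R K] {r : ℕ}
    (g : Fin r → GroupLike K (K ⊗[R] A)) :
    ∃ (S : Type u) (_ : CommRing S) (_ : Algebra R S) (ψ : S →ₐ[R] K) (G : Fin r → GroupLike S (S ⊗[R] A)),
      Algebra.Etale R S ∧ ∀ i, glMap ψ (G i) = g i := by
  induction r with
  | zero => exact ⟨R, inferInstance, inferInstance, Algebra.ofId R K, finZeroElim, inferInstance, fun i => i.elim0⟩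
  | succ r ih =>
    obtain ⟨S₁, _, _, ψ₁, G₁, het₁, hG₁⟩ := exists_char_nbhd hA (g 0)
    obtain ⟨S₂, _, _, ψ₂, G₂, het₂, hG₂⟩ := ih (fun i => g i.succ)
    haveI := het₁
    haveI := het₂
    haveI : Algebra.Etale R (S₁ ⊗[R] S₂) := Algebra.Etale.comp R S₁ (S₁ ⊗[R] S₂)
    refine ⟨S₁ ⊗[R] S₂, inferInstance, inferInstance,
      Algebra.TensorProduct.lift ψ₁ ψ₂ fun _ _ => Commute.all _ _,
      Fin.cons (glMap Algebra.TensorProduct.includeLeft G₁) (fun i => glMap Algebra.TensorProduct.includeRight (G₂ i)),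
      inferInstance, fun i => ?_⟩
    refine Fin.cases ?_ (fun i => ?_) i
    · rw [Fin.cons_zero, glMap_glMap, Algebra.TensorProduct.lift_comp_includeLeft, hG₁]
    · rw [Fin.cons_succ, glMap_glMap, Algebra.TensorProduct.lift_comp_includeRight']
      exact hG₂ i

/-- A point of a product of rings with a coordinate not in it comes from that factor. -/
lemma exists_of_single_notMem {ι : Type u} [DecidableEq ι] (W : ι → Type u) [∀ i, CommRing (W i)] (i : ι) (h : W i)
    (q : PrimeSpectrum (∀ i, W i)) (hq : Pi.single i h ∉ q.asIdeal) :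
    ∃ y : PrimeSpectrum (W i), PrimeSpectrum.comap (Pi.evalRingHom W i) y = q ∧ h ∉ y.asIdeal := by
  have hs : Function.Surjective (Pi.evalRingHom W i) := fun w => ⟨Pi.single i w, by simp⟩
  obtain ⟨y, hy⟩ : q ∈ Set.range (PrimeSpectrum.comap (Pi.evalRingHom W i)) := by
    rw [range_comap_of_surjective _ _ hs, PrimeSpectrum.mem_zeroLocus]
    intro z hz
    have hzi : z i = 0 := hz
    have : z * Pi.single i h = 0 := funext fun j => by
      by_cases hj : j = i
      · subst hj; simp [hzi]
      · simp [hj]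
    exact (q.isPrime.mem_or_mem (this ▸ zero_mem _)).resolve_right hq
  refine ⟨y, hy, fun hy' => hq ?_⟩
  rw [← hy]
  simpa using hy'

lemma ev_sq (S : Type u) [CommRing S] [Algebra R S] (J : A →ₗ[R] R) (hJ1 : J 1 = 1)
    (hJ : ∀ a, P J (CoalgebraStruct.comul (R := R) a) = J a • 1) (g : GroupLike S (S ⊗[R] A)) :
    ev S J g.val * ev S J g.val = ev S J g.val := by
  have h1 := P_ev S J hJ g.val
  rw [g.2.comul_eq_tmul_self, P_tmul] at h1
  have h2 := congrArg (ev S J) h1
  rw [map_smul, map_smul, smul_eq_mul, smul_eq_mul, Algebra.TensorProduct.one_def, ev_tmul, hJ1, map_one,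
    mul_one, mul_one] at h2
  exact h2

lemma ev_frame (S : Type u) [CommRing S] [Algebra R S] (J : A →ₗ[R] R) (hJ1 : J 1 = 1)
    (hJ : ∀ a, P J (CoalgebraStruct.comul (R := R) a) = J a • 1) {N : Type u} [CommGroup N] [DecidableEq N]
    (D : N →* GroupLike S (S ⊗[R] A)) (hD : Function.Bijective (theta D)) (n : N) :
    ev S J (D n).val = if n = 1 then 1 else 0 :=
  co_frame D hD (ev S J) (by rw [Algebra.TensorProduct.one_def, ev_tmul, hJ1, map_one, mul_one]) (P_ev S J hJ) n

lemma ev_coeff (S : Type u) [CommRing S] [Algebra R S] (J : A →ₗ[R] R) {M : Type u} [CommGroup M]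
    (G : M →* GroupLike S (S ⊗[R] A)) (hJG1 : ev S J (G 1).val = 1) (horth : ∀ m, m ≠ 1 → ev S J (G m).val = 0)
    (x : MonoidAlgebra S M) (m : M) : ev S J (theta G x * (G m⁻¹).val) = x.coeff m := by
  induction x using MonoidAlgebra.induction_linear with
  | zero => simp
  | add y z hy hz => simp only [MonoidAlgebra.coeff_add, Finsupp.add_apply, map_add, add_mul, hy, hz]
  | single n r =>
    rw [theta_single, smul_mul_assoc, ← GroupLike.val_mul, ← map_mul, map_smul, smul_eq_mul]
    by_cases hnm : n = m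
    · subst hnm; rw [mul_inv_cancel, hJG1]; simp
    · rw [horth _ fun h => hnm (mul_inv_eq_one.mp h)]; simp [hnm]

/-- A finitely generated group of characters at a field point extends to an étale neighbourhood. -/
theorem exists_hom_nbhd (hA : HasSplitting R A) {K : Type u} [Field K] [Algebra R K]
    {M : Type u} [CommGroup M] [Group.FG M] (GK : M →* GroupLike K (K ⊗[R] A)) :
    ∃ (S : Type u) (_ : CommRing S) (_ : Algebra R S) (ψ : S →ₐ[R] K) (G : M →* GroupLike S (S ⊗[R] A)),
      Algebra.Etale R S ∧ (glMap ψ).comp G = GK := by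
  classical
  haveI : Module.Finite ℤ (Additive M) := Module.Finite.iff_addGroup_fg.mpr inferInstance
  obtain ⟨r, π, hπ⟩ := Module.Finite.exists_fin' ℤ (Additive M)
  let gen : Fin r → M := fun j => Additive.toMul (π (Pi.single j 1))
  obtain ⟨S₀, _, _, ψ₀, g₀, het₀, hg₀⟩ := exists_chars_nbhd hA (fun j => GK (gen j))
  haveI := het₀
  let Φ₀ : (Fin r → ℤ) →ₗ[ℤ] Additive (GroupLike S₀ (S₀ ⊗[R] A)) :=
    Fintype.linearCombination ℤ fun j => Additive.ofMul (g₀ j)
  have hΦK : ∀ v, glMap ψ₀ (Additive.toMul (Φ₀ v)) = GK (Additive.toMul (π v)) := by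
    have : (glMap ψ₀).toAdditive.toIntLinearMap ∘ₗ Φ₀ = GK.toAdditive.toIntLinearMap ∘ₗ π := by
      refine (Pi.basisFun ℤ (Fin r)).ext fun j => ?_
      simp only [Pi.basisFun_apply, LinearMap.comp_apply, Φ₀, Fintype.linearCombination_apply_single, one_smul]
      exact congrArg Additive.ofMul (hg₀ j)
    exact fun v => congrArg Additive.toMul (LinearMap.congr_fun this v)
  obtain ⟨rel, hrel⟩ := (IsNoetherian.noetherian (LinearMap.ker π) : (LinearMap.ker π).FG)
  let x : Ideal S₀ := RingHom.ker ψ₀.toRingHom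
  haveI : x.IsPrime := RingHom.ker_isPrime _
  let Sx := Localization.AtPrime x
  let χ : Sx →ₐ[R] K := IsLocalization.liftAlgHom (M := x.primeCompl) (f := ψ₀) fun y => IsUnit.mk0 _ y.2
  have hχ : χ.comp (IsScalarTower.toAlgHom R S₀ Sx) = ψ₀ := AlgHom.ext fun z => IsLocalization.lift_eq _ z
  have hχm : ∀ z ∈ IsLocalRing.maximalIdeal Sx, χ z = 0 := by
    intro z hz
    obtain ⟨c, s, rfl⟩ := IsLocalization.exists_mk'_eq x.primeCompl z
    have hc : c ∈ x := (IsLocalization.AtPrime.mk'_mem_maximal_iff Sx x c s).mp hz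
    have h := congrArg χ (IsLocalization.mk'_spec Sx c s)
    rw [map_mul, show χ (algebraMap S₀ Sx s) = ψ₀ s from IsLocalization.lift_eq _ _,
      show χ (algebraMap S₀ Sx c) = ψ₀ c from IsLocalization.lift_eq _ _, show ψ₀ c = 0 from hc] at h
    exact (mul_eq_zero.mp h).resolve_right s.2
  have hkill : ∀ v ∈ rel, ∃ s : S₀, ψ₀ s ≠ 0 ∧ s • ((Additive.toMul (Φ₀ v)).val - 1) = 0 := by
    intro v hv
    have hv0 : π v = 0 := LinearMap.mem_ker.mp (hrel ▸ Submodule.subset_span hv)
    have h1 : glMap (IsScalarTower.toAlgHom R S₀ Sx) (Additive.toMul (Φ₀ v)) = 1 := by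
      refine eq_of_residue hA χ hχm _ 1 ?_
      rw [glMap_glMap, hχ, map_one, hΦK, hv0, toMul_zero, map_one]
    obtain ⟨s, hs, hs0⟩ := exists_smul_eq_zero x.primeCompl (Sx := Sx) ((Additive.toMul (Φ₀ v)).val - 1) (by
      rw [map_sub, map_one, sub_eq_zero]
      exact congrArg GroupLike.val h1)
    exact ⟨s, hs, hs0⟩
  choose! sv hsv hsv0 using hkill
  obtain ⟨S₁, _, _, ψ₁, i₁, het₁, hi₁, -, hbc⟩ := exists_shrink (A := A) ψ₀ (∏ v ∈ rel, sv v)
    (by rw [map_prod]; exact Finset.prod_ne_zero_iff.mpr hsv)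
  have hker : ∀ v, π v = 0 → glMap i₁ (Additive.toMul (Φ₀ v)) = 1 := by
    intro v hv
    have hv' : v ∈ Submodule.span ℤ (rel : Set (Fin r → ℤ)) := hrel ▸ LinearMap.mem_ker.mpr hv
    have : (glMap i₁).toAdditive.toIntLinearMap (Φ₀ v) = 0 := by
      refine LinearMap.mem_ker.mp ((Submodule.span_le (p := LinearMap.ker
        ((glMap i₁).toAdditive.toIntLinearMap ∘ₗ Φ₀))).mpr (fun w hw => LinearMap.mem_ker.mpr ?_) hv')
      refine congrArg Additive.ofMul (GroupLike.val_injective ?_)
      show bc i₁ (Additive.toMul (Φ₀ w)).val = 1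
      rw [← sub_eq_zero, ← map_one (bc (A := A) i₁), ← map_sub]
      refine hbc _ ?_
      rw [← Finset.prod_erase_mul rel sv hw, mul_smul, hsv0 w hw, smul_zero]
    exact congrArg Additive.toMul this
  choose sec hsec using fun m : M => hπ (Additive.ofMul m)
  have hwd : ∀ v w, π v = π w → glMap i₁ (Additive.toMul (Φ₀ v)) = glMap i₁ (Additive.toMul (Φ₀ w)) := by
    intro v w h
    have h0 := hker (v - w) (by rw [map_sub, h, sub_self])
    rwa [map_sub, toMul_sub, map_div, div_eq_one] at h0
  let G : M →* GroupLike S₁ (S₁ ⊗[R] A) :=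
    { toFun := fun m => glMap i₁ (Additive.toMul (Φ₀ (sec m)))
      map_one' := by
        rw [hker _ (by rw [hsec]; rfl)]
      map_mul' := fun a b => by
        rw [hwd (sec (a * b)) (sec a + sec b) (by rw [map_add, hsec, hsec, hsec]; rfl), map_add, toMul_add, map_mul] }
  refine ⟨S₁, inferInstance, inferInstance, ψ₁, G, het₁, MonoidHom.ext fun m => ?_⟩
  show glMap ψ₁ (glMap i₁ (Additive.toMul (Φ₀ (sec m)))) = GK m
  rw [glMap_glMap, hi₁, hΦK, hsec]
  rfl

/-- Diagonalisability at a field point spreads to an étale neighbourhood. -/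
theorem exists_etale_frame (hA : HasSplitting R A) (hft : Algebra.FiniteType R A) {K : Type u} [Field K] [Algebra R K]
    {M : Type u} [CommGroup M] [Group.FG M] (GK : M →* GroupLike K (K ⊗[R] A))
    (hGK : Function.Bijective (theta GK)) :
    ∃ (S : Type u) (_ : CommRing S) (_ : Algebra R S) (_ : S →ₐ[R] K),
      Algebra.Etale R S ∧ SGA3b.IsDiag S (S ⊗[R] A) := by
  classical
  haveI := flat_of_splitting hA
  obtain ⟨J, hJ1, hJ⟩ := hA.exists_haar
  obtain ⟨S, _, _, ψ, G, het, hG⟩ := exists_hom_nbhd hA GK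
  haveI := het
  have hGone : ev S J (G 1).val = 1 := by
    rw [map_one, GroupLike.val_one, Algebra.TensorProduct.one_def, ev_tmul, hJ1, map_one, mul_one]
  let e : M → S := fun m => ev S J (G m).val
  have hKe : ∀ m, m ≠ 1 → ψ (e m) = 0 := by
    intro m hm
    show ψ (ev S J (G m).val) = 0
    rw [← ev_bc, show bc ψ (G m).val = (GK m).val from congrArg GroupLike.val (DFunLike.congr_fun hG m),
      ev_frame K J hJ1 hJ GK hGK, if_neg hm]
  obtain ⟨ι, _, T, _, _, hff, hd⟩ := id hA
  haveI := hff
  haveI : ∀ i, Module.Flat R (T i) := fun i => by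
    haveI : Module.Flat R (∀ i, T i) := inferInstance
    exact Module.Flat.of_retract (LinearMap.single R T i) (LinearMap.proj i) (by ext; simp)
  let U : Set (PrimeSpectrum S) := {q | ∀ m, m ≠ 1 → e m ∈ q.asIdeal}
  have hU : IsOpen U := by
    haveI hWff : Module.FaithfullyFlat S (∀ i, S ⊗[R] T i) :=
      Module.FaithfullyFlat.of_linearEquiv S (S ⊗[R] (∀ i, T i)) (TensorProduct.piRight R S S T).symm
    have hq : Topology.IsQuotientMap (PrimeSpectrum.comap (algebraMap S (∀ i, S ⊗[R] T i))) :=
      PrimeSpectrum.isQuotientMap_of_generalizingMap PrimeSpectrum.comap_surjective_of_faithfullyFlat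
        (RingHom.flat_algebraMap_iff.mpr inferInstance).generalizingMap_comap
    rw [← hq.isOpen_preimage, isOpen_iff_forall_mem_open]
    intro q hqU
    obtain ⟨i, hi⟩ : ∃ i, Pi.single i (1 : S ⊗[R] T i) ∉ q.asIdeal := by
      by_contra hcon
      push Not at hcon
      refine q.isPrime.ne_top ((Ideal.eq_top_iff_one _).mpr ?_)
      rw [← Finset.univ_sum_single (1 : ∀ i, S ⊗[R] T i)]
      exact Ideal.sum_mem _ fun i _ => hcon i
    obtain ⟨y, rfl, -⟩ := exists_of_single_notMem _ i 1 q hi
    let W := S ⊗[R] T i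
    let i₀ : S →ₐ[R] W := Algebra.TensorProduct.includeLeft
    obtain ⟨N, _, ⟨eT⟩⟩ := hd i
    let DW : N →* GroupLike W (W ⊗[R] A) := (glMap Algebra.TensorProduct.includeRight).comp (diagHom eT)
    have hDW : Function.Bijective (theta DW) := frame_map _ (theta_diagHom_bijective eT) _
    let L := Localization.AtPrime y.asIdeal
    let iL : W →ₐ[R] L := IsScalarTower.toAlgHom R W L
    have hDL := frame_map DW hDW iL
    choose f hf using fun m => frame_surjective _ hDL (glMap iL (glMap i₀ (G m)))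
    have hf' : ∀ m, glMap iL (DW (f m)) = glMap iL (glMap i₀ (G m)) := hf
    let fh : M →* N :=
      { toFun := f
        map_one' := frame_injective _ hDL (by rw [hf, map_one, map_one, map_one, map_one])
        map_mul' := fun a b => frame_injective _ hDL (by
          rw [map_mul, hf, hf, hf, map_mul, map_mul, map_mul]) }
    have hfinj : ∀ m, f m = 1 → m = 1 := by
      intro m hm
      by_contra hne
      have h1 := congrArg (fun z => ev L J z.val) (hf' m)
      simp only [hm, map_one] at h1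
      have h2 : i₀ (e m) ∈ y.asIdeal := hqU m hne
      have h3 : ev L J (glMap iL (glMap i₀ (G m))).val = iL (i₀ (e m)) := by
        show ev L J (bc iL (bc i₀ (G m).val)) = _
        rw [ev_bc, ev_bc]
      rw [h3, GroupLike.val_one, Algebra.TensorProduct.one_def, ev_tmul, hJ1, map_one, mul_one] at h1
      exact (IsLocalization.AtPrime.isUnit_to_map_iff L y.asIdeal (i₀ (e m))).mp
        (show IsUnit (iL (i₀ (e m))) by rw [← h1]; exact isUnit_one) h2
    obtain ⟨Gen, hGen⟩ := Group.FG.out (G := M)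
    have hk : ∀ m, ∃ t : W, t ∉ y.asIdeal ∧ t • ((DW (f m)).val - (glMap i₀ (G m)).val) = 0 := by
      intro m
      obtain ⟨t, ht, ht0⟩ := exists_smul_eq_zero y.asIdeal.primeCompl (Sx := L)
        ((DW (f m)).val - (glMap i₀ (G m)).val) (by
          rw [map_sub, sub_eq_zero]
          exact congrArg GroupLike.val (hf' m))
      exact ⟨t, ht, ht0⟩
    choose t ht ht0 using hk
    let h : W := ∏ m ∈ Gen, t m
    have hhy : h ∉ y.asIdeal := fun hh => by
      obtain ⟨m, -, hm⟩ := (Ideal.IsPrime.prod_mem_iff).mp hh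
      exact ht m hm
    let V : TopologicalSpace.Opens (PrimeSpectrum (∀ i, S ⊗[R] T i)) := PrimeSpectrum.basicOpen (Pi.single i h)
    refine ⟨V.carrier, fun q' hq' => ?_, V.isOpen, ?_⟩
    · have hq'' : Pi.single i h ∉ q'.asIdeal := hq'
      obtain ⟨y', rfl, hy'⟩ := exists_of_single_notMem (fun i => S ⊗[R] T i) i h q' hq''
      intro m hm
      show algebraMap S W (e m) ∈ y'.asIdeal
      by_contra hne
      let L' := Localization.AtPrime y'.asIdeal
      let iL' : W →ₐ[R] L' := IsScalarTower.toAlgHom R W L'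
      have heq : ((glMap iL').comp DW).comp fh = ((glMap iL').comp (glMap i₀)).comp G := by
        refine MonoidHom.eq_of_eqOn_dense hGen fun g hg => GroupLike.val_injective ?_
        show bc iL' (DW (f g)).val = bc iL' (glMap i₀ (G g)).val
        have h1 := congrArg (bc iL') (ht0 g)
        rw [bc_smul, map_zero, map_sub] at h1
        have hu : IsUnit (iL' (t g)) := by
          refine (IsLocalization.AtPrime.isUnit_to_map_iff L' y'.asIdeal (t g)).mpr fun htg => hy' ?_
          exact Ideal.IsPrime.prod_mem_iff.mpr ⟨g, hg, htg⟩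
        exact sub_eq_zero.mp ((hu.smul_eq_zero).mp h1)
      have h1 := congrArg (fun z => ev L' J z.val) (DFunLike.congr_fun heq m)
      have h2 : ev L' J (bc iL' (bc i₀ (G m).val)) = iL' (i₀ (e m)) := by rw [ev_bc, ev_bc]
      change ev L' J (((glMap iL').comp DW) (fh m)).val = ev L' J (bc iL' (bc i₀ (G m).val)) at h1
      rw [h2, ev_frame L' J hJ1 hJ _ (frame_map DW hDW iL'), if_neg (fun hh : fh m = 1 => hm (hfinj m hh))] at h1
      have hu : IsUnit (iL' (i₀ (e m))) :=
        (IsLocalization.AtPrime.isUnit_to_map_iff L' y'.asIdeal _).mpr hne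
      rw [← h1] at hu
      exact not_isUnit_zero hu
    · show Pi.single i h ∉ y.asIdeal.comap (Pi.evalRingHom (fun i => S ⊗[R] T i) i)
      rw [Ideal.mem_comap, Pi.evalRingHom_apply, Pi.single_eq_same]
      exact hhy
  let x : Ideal S := RingHom.ker ψ.toRingHom
  haveI : x.IsPrime := RingHom.ker_isPrime _
  obtain ⟨_, ⟨_, ⟨h, rfl⟩, rfl⟩, hxh, hhU⟩ := PrimeSpectrum.isBasis_basic_opens.exists_subset_of_mem_open
    (show (⟨x, inferInstance⟩ : PrimeSpectrum S) ∈ U from fun m hm => hKe m hm) hU
  let Sx := Localization.AtPrime x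
  let χ : Sx →ₐ[R] K := IsLocalization.liftAlgHom (M := x.primeCompl) (f := ψ) fun y => IsUnit.mk0 _ y.2
  have hχ : χ.comp (IsScalarTower.toAlgHom R S Sx) = ψ := AlgHom.ext fun z => IsLocalization.lift_eq _ z
  have hχm : ∀ z ∈ IsLocalRing.maximalIdeal Sx, χ z = 0 := by
    intro z hz
    obtain ⟨c, s, rfl⟩ := IsLocalization.exists_mk'_eq x.primeCompl z
    have hc : c ∈ x := (IsLocalization.AtPrime.mk'_mem_maximal_iff Sx x c s).mp hz
    have h := congrArg χ (IsLocalization.mk'_spec Sx c s)
    rw [map_mul, show χ (algebraMap S Sx s) = ψ s from IsLocalization.lift_eq _ _,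
      show χ (algebraMap S Sx c) = ψ c from IsLocalization.lift_eq _ _, show ψ c = 0 from hc] at h
    exact (mul_eq_zero.mp h).resolve_right s.2
  let ix : S →ₐ[R] Sx := IsScalarTower.toAlgHom R S Sx
  have hbx : Function.Bijective (theta ((glMap ix).comp G)) := bijective_of_residue hA χ hχm _ (by
    rw [← MonoidHom.comp_assoc, show (glMap χ).comp (glMap (A := A) ix) = glMap ψ from
      MonoidHom.ext fun g => by rw [MonoidHom.comp_apply, glMap_glMap, hχ], hG]
    exact hGK)
  obtain ⟨Fa, hFa⟩ := hft.out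
  have hgen : ∀ a : A, ∃ s, ψ s ≠ 0 ∧ ∃ z : MonoidAlgebra S M, s • ((1 : S) ⊗ₜ[R] a - theta G z) = 0 := by
    intro a
    obtain ⟨w, hw⟩ := hbx.2 ((1 : Sx) ⊗ₜ[R] a)
    let c : M → S := fun m => ev S J (((1 : S) ⊗ₜ[R] a) * (G m⁻¹).val)
    have hcw : ∀ m, ix (c m) = w.coeff m := by
      intro m
      show ix (ev S J _) = _
      rw [← ev_bc, map_mul, bc_tmul, map_one, ← hw, ← ev_coeff Sx J ((glMap ix).comp G) ?_ ?_ w m]
      · rfl
      · rw [map_one, GroupLike.val_one, Algebra.TensorProduct.one_def, ev_tmul, hJ1, map_one, mul_one]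
      · intro m hm
        rw [ev_frame Sx J hJ1 hJ _ hbx, if_neg hm]
    let z : MonoidAlgebra S M := ∑ m ∈ w.coeff.support, MonoidAlgebra.single m (c m)
    have hz : bc ix ((1 : S) ⊗ₜ[R] a - theta G z) = 0 := by
      rw [map_sub, bc_tmul, map_one, ← hw, sub_eq_zero]
      conv_lhs => rw [← MonoidAlgebra.sum_coeff_single w, Finsupp.sum, map_sum]
      rw [map_sum, map_sum]
      refine Finset.sum_congr rfl fun m _ => ?_
      rw [theta_single, theta_single, bc_smul, hcw]
      rfl
    obtain ⟨s, hs, hs0⟩ := exists_smul_eq_zero x.primeCompl (Sx := Sx) _ hz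
    exact ⟨s, hs, z, hs0⟩
  choose s hs z hz using hgen
  have hh0 : ψ h ≠ 0 := hxh
  obtain ⟨S', _, _, ψ', i, het', hi, hunit, hbc⟩ := exists_shrink (A := A) ψ (h * ∏ a ∈ Fa, s a)
    (by rw [map_mul, map_prod]; exact mul_ne_zero hh0 (Finset.prod_ne_zero_iff.mpr fun a _ => hs a))
  refine ⟨S', inferInstance, inferInstance, ψ', het', ?_⟩
  have horth : ∀ m, m ≠ 1 → ev S' J ((glMap i) (G m)).val = 0 := by
    intro m hm
    show ev S' J (bc i (G m).val) = 0
    rw [ev_bc]
    have hid : IsIdempotentElem (i (e m)) := by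
      show i (e m) * i (e m) = i (e m)
      rw [← map_mul, ev_sq S J hJ1 hJ (G m)]
    have hnil : IsNilpotent (i (e m)) := by
      rw [nilpotent_iff_mem_prime]
      intro q hqp
      have hq : (PrimeSpectrum.comap i.toRingHom ⟨q, hqp⟩) ∈ (PrimeSpectrum.basicOpen h : Set (PrimeSpectrum S)) := by
        show h ∉ q.comap i.toRingHom
        intro hh
        refine hqp.ne_top (Ideal.eq_top_of_isUnit_mem _ (show i h ∈ q from hh) ?_)
        exact isUnit_of_mul_isUnit_left (by rwa [← map_mul] : IsUnit (i h * i (∏ a ∈ Fa, s a)))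
      exact hhU hq m hm
    obtain ⟨k, hk⟩ := hnil
    rcases k with _ | k
    · rw [pow_zero] at hk
      haveI := subsingleton_of_zero_eq_one hk.symm
      exact Subsingleton.elim _ _
    · exact (hid.pow_succ_eq k).symm.trans hk
  refine isDiag_of_bijective ((glMap i).comp G) ⟨fun p q hpq => ?_, fun w => ?_⟩
  · refine MonoidAlgebra.coeff_injective (Finsupp.ext fun m => ?_)
    have hone : ev S' J (((glMap i).comp G) 1).val = 1 := by
      rw [map_one, GroupLike.val_one, Algebra.TensorProduct.one_def, ev_tmul, hJ1, map_one, mul_one]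
    rw [← ev_coeff S' J _ hone horth p m, hpq, ev_coeff S' J _ hone horth q m]
  · have hrange : ∀ a : A, (1 : S') ⊗ₜ[R] a ∈
        (theta ((glMap i).comp G) : MonoidAlgebra S' M →ₐ[S'] S' ⊗[R] A).range := by
      intro a
      have ha : a ∈ Algebra.adjoin R (Fa : Set A) := hFa ▸ Algebra.mem_top
      refine Algebra.adjoin_le (S := ((theta ((glMap i).comp G) : MonoidAlgebra S' M →ₐ[S'] S' ⊗[R] A).range.restrictScalars R).comap
        (Algebra.TensorProduct.includeRight : A →ₐ[R] S' ⊗[R] A)) (fun b hb => ?_) ha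
      refine ⟨MonoidAlgebra.mapAlgHom (M := M) i (z b), ?_⟩
      have h0 : bc i ((1 : S) ⊗ₜ[R] b - theta G (z b)) = 0 := hbc _ (by
        rw [mul_smul, ← Finset.prod_erase_mul Fa s hb, mul_smul, hz, smul_zero, smul_zero])
      rw [map_sub, bc_tmul, map_one, sub_eq_zero] at h0
      refine Eq.trans ?_ h0.symm
      show theta ((glMap i).comp G) _ = bc i (theta G (z b))
      generalize z b = p
      induction p using MonoidAlgebra.induction_linear with
      | zero => simp
      | add p q hp hq => simp only [map_add, hp, hq]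
      | single m r => rw [MonoidAlgebra.mapAlgHom_single, theta_single, theta_single, bc_smul]; rfl
    induction w using TensorProduct.induction_on with
    | zero => exact ⟨0, map_zero _⟩
    | add p q hp hq => obtain ⟨a, ha⟩ := hp; obtain ⟨b, hb⟩ := hq; exact ⟨a + b, by rw [map_add, ha, hb]⟩
    | tmul t a =>
      obtain ⟨p, hp⟩ := hrange a
      refine ⟨t • p, ?_⟩
      have hp' : theta ((glMap i).comp G) p = (1 : S') ⊗ₜ[R] a := hp
      rw [map_smul, hp', smul_tmul', smul_eq_mul, mul_one]

/-- Groups of multiplicative type of finite type are quasi-isotrivial. -/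
theorem quasiIsotrivial_of_splitting (hA : HasSplitting R A) (hft : Algebra.FiniteType R A) :
    SGA3b.IsQuasiIsotrivial R A := by
  classical
  haveI := hft
  refine ⟨{f : R | SGA3b.IsQuasiIsotrivialConst (Localization.Away f) (Localization.Away f ⊗[R] A)}, ?_, fun f hf => hf⟩
  by_contra hne
  obtain ⟨p, hp, hle⟩ := Ideal.exists_le_maximal _ hne
  obtain ⟨ι, _, T, _, _, hff, hd⟩ := id hA
  haveI := hff
  let κ := p.ResidueField
  obtain ⟨i, hi⟩ : ∃ i, Nontrivial (κ ⊗[R] T i) := by
    by_contra hcon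
    haveI : ∀ i, Subsingleton (κ ⊗[R] T i) := fun i => not_nontrivial_iff_subsingleton.mp (not_exists.mp hcon i)
    haveI : Subsingleton (κ ⊗[R] (∀ i, T i)) := (TensorProduct.piRight R R κ T).toEquiv.subsingleton
    obtain ⟨q, -⟩ := PrimeSpectrum.comap_surjective_of_faithfullyFlat (B := κ ⊗[R] (∀ i, T i))
      (⟨⊥, inferInstance⟩ : PrimeSpectrum κ)
    exact q.isPrime.ne_top (Subsingleton.elim _ _)
  haveI := hi
  obtain ⟨mx, hmx⟩ := Ideal.exists_maximal (κ ⊗[R] T i)
  letI := Ideal.Quotient.field mx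
  let K := (κ ⊗[R] T i) ⧸ mx
  let ψT : T i →ₐ[R] K := (Ideal.Quotient.mkₐ R mx).comp Algebra.TensorProduct.includeRight
  obtain ⟨M, _, ⟨e⟩⟩ := hd i
  have hD := frame_map _ (theta_diagHom_bijective e) ψT
  let eK : K ⊗[R] A ≃ₐc[K] MonoidAlgebra K M := (BialgEquiv.ofBijective _ hD).symm
  haveI : Algebra.FiniteType K (MonoidAlgebra K M) :=
    Algebra.FiniteType.equiv (inferInstance : Algebra.FiniteType K (K ⊗[R] A)) (BialgEquiv.toAlgEquiv eK)
  haveI : Group.FG M := Group.fg_iff_monoid_fg.mpr ((MonoidAlgebra.finiteType_iff_fg (R := K)).mp inferInstance)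
  obtain ⟨S, _, _, ψ, het, hdS⟩ := exists_etale_frame hA hft ((glMap ψT).comp (diagHom e)) hD
  haveI := het
  let pp : PrimeSpectrum R := ⟨p, hp.isPrime⟩
  have hmem : pp ∈ Set.range (PrimeSpectrum.comap (algebraMap R S)) := by
    haveI : (RingHom.ker ψ.toRingHom).IsPrime := RingHom.ker_isPrime _
    refine ⟨⟨RingHom.ker ψ.toRingHom, inferInstance⟩, PrimeSpectrum.ext (Ideal.ext fun r => ?_)⟩
    show ψ (algebraMap R S r) = 0 ↔ r ∈ p
    rw [ψ.commutes, IsScalarTower.algebraMap_apply R κ K, map_eq_zero]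
    exact (Ideal.algebraMap_residueField_eq_zero (I := p))
  obtain ⟨_, ⟨_, ⟨f, rfl⟩, rfl⟩, hpf, hfsub⟩ := PrimeSpectrum.isBasis_basic_opens.exists_subset_of_mem_open hmem
    PrimeSpectrum.isOpenMap_comap_of_hasGoingDown_of_finitePresentation.isOpen_range
  refine hpf (hle (Ideal.subset_span ?_))
  let S' := Localization.Away (algebraMap R S f)
  haveI : Algebra.Etale S S' := Algebra.Etale.of_isLocalizationAway (algebraMap R S f)
  haveI : Algebra.Etale R S' := Algebra.Etale.comp R S S'
  refine H8MultLift.quasiConst_of_etale f S' ?_ (fun q hq => ?_) (isDiag_cancel S' S (isDiag_baseChange S' hdS))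
  · rw [IsScalarTower.algebraMap_apply R S S']
    exact IsLocalization.Away.algebraMap_isUnit _
  · obtain ⟨q₁, rfl⟩ := hfsub hq
    obtain ⟨q₂, rfl⟩ : q₁ ∈ Set.range (PrimeSpectrum.comap (algebraMap S S')) := by
      rw [PrimeSpectrum.localization_away_comap_range S' (algebraMap R S f)]
      exact hq
    exact ⟨q₂, PrimeSpectrum.ext (by rw [IsScalarTower.algebraMap_eq R S S']; rfl)⟩

end Groth.Agent.H8CharQuasi
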