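import Mathlib
import Groth.Agent.Lib.H8Comod2

/-! Coefficient coalgebras of comodules, simple subcoalgebras, cosemisimplicity. -/

universe u v w w'

open TensorProduct

namespace Groth.Agent.H8Comod

variable {k : Type u} [Field k] {C : Type v} [AddCommGroup C] [Module k C] [Coalgebra k C]
  {V : Type w} [AddCommGroup V] [Module k V] [HopfRep.Comod k C V]
  {W : Type w'} [AddCommGroup W] [Module k W] [HopfRep.Comod k C W]

omit [Coalgebra k C] [HopfRep.Comod k C V] in
theorem mem_range_lTensor_iff (D : Submodule k C) (z : V ⊗[k] C) :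
    z ∈ LinearMap.range (D.subtype.lTensor V) ↔ ∀ f : C →ₗ[k] k, (∀ d ∈ D, f d = 0) → contr V f z = 0 := by
  constructor
  · rintro ⟨y, rfl⟩ f hf
    rw [contr, LinearMap.comp_apply, ← LinearMap.lTensor_comp_apply,
      show f ∘ₗ D.subtype = 0 from LinearMap.ext fun d => hf d.1 d.2]
    simp
  · intro h
    have hz : D.mkQ.lTensor V z = 0 := eq_of_forall_contr fun f => by
      rw [map_zero, contr, LinearMap.comp_apply, ← LinearMap.lTensor_comp_apply]
      exact h (f ∘ₗ D.mkQ) fun d hd => by simp [(Submodule.Quotient.mk_eq_zero D).mpr hd]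
    exact ((lTensor_exact V (LinearMap.exact_subtype_mkQ D) D.mkQ_surjective) z).mp hz

omit [Coalgebra k C] [HopfRep.Comod k C V] in
theorem mem_range_map_iff (U : Submodule k V) (D : Submodule k C) (z : V ⊗[k] C) :
    z ∈ LinearMap.range (TensorProduct.map U.subtype D.subtype) ↔
      z ∈ LinearMap.range (U.subtype.rTensor C) ∧ z ∈ LinearMap.range (D.subtype.lTensor V) := by
  constructor
  · rintro ⟨y, rfl⟩
    exact ⟨⟨D.subtype.lTensor U y, by rw [← LinearMap.comp_apply, LinearMap.rTensor_comp_lTensor]⟩,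
      ⟨U.subtype.rTensor D y, by rw [← LinearMap.comp_apply, LinearMap.lTensor_comp_rTensor]⟩⟩
  · rintro ⟨⟨y, rfl⟩, h2⟩
    obtain ⟨x, rfl⟩ := (mem_range_lTensor_iff (V := U) D y).mpr fun f hf => Subtype.ext <| by
      have := (mem_range_lTensor_iff D _).mp h2 f hf
      rw [contr_rTensor] at this
      simpa using this
    exact ⟨x, by rw [← LinearMap.comp_apply, LinearMap.rTensor_comp_lTensor]⟩

/-- The comodule morphism to the coalgebra attached to a functional. -/
noncomputable def mc (φ : V →ₗ[k] k) : V →ₗ[k] C :=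
  (TensorProduct.lid k C).toLinearMap ∘ₗ φ.rTensor C ∘ₗ HopfRep.Comod.coact

theorem apply_mc (φ : V →ₗ[k] k) (f : C →ₗ[k] k) (v : V) :
    f (mc φ v) = φ (act V (WithConv.toConv f) v) := by
  simp only [mc, LinearMap.comp_apply, LinearEquiv.coe_coe, act_apply]
  generalize HopfRep.Comod.coact (k := k) (A := C) v = z
  induction z using TensorProduct.induction_on with
  | zero => simp
  | tmul a q => simp [mul_comm]
  | add p q hp hq => simp only [map_add, hp, hq]

omit [Coalgebra k C] in
theorem eq_of_forall_dual {M : Type*} [AddCommGroup M] [Module k M] {x y : M}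
    (h : ∀ f : M →ₗ[k] k, f x = f y) : x = y :=
  sub_eq_zero.mp ((Module.forall_dual_apply_eq_zero_iff k (x - y)).mp fun f => by rw [map_sub, h, sub_self])

theorem mc_isComodHom (φ : V →ₗ[k] k) : Hoch.IsComodHom C (mc (C := C) φ) :=
  isComodHom_iff.mpr fun f v => eq_of_forall_dual fun g => by
    have h1 : ∀ (w : C), g (act C f w) = (WithConv.toConv g * f).ofConv w := by
      intro w
      simp only [act_apply, LinearMap.convMul_def, LinearMap.comp_apply]
      change g (contr C f.ofConv (CoalgebraStruct.comul w)) = _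
      generalize CoalgebraStruct.comul (R := k) (A := C) w = z
      induction z using TensorProduct.induction_on with
      | zero => simp
      | tmul a q => simp [mul_comm]
      | add p q hp hq => simp only [map_add, hp, hq]
    rw [h1, apply_mc, apply_mc, WithConv.toConv_ofConv, act_mul, Module.End.mul_apply]

/-- The coefficient space of a comodule. -/
noncomputable def coef (k : Type u) [Field k] (C : Type v) [AddCommGroup C] [Module k C] [Coalgebra k C]
    (V : Type w) [AddCommGroup V] [Module k V] [HopfRep.Comod k C V] : Submodule k C :=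
  ⨆ φ : V →ₗ[k] k, LinearMap.range (mc (C := C) φ)

theorem mc_mem_coef (φ : V →ₗ[k] k) (v : V) : mc φ v ∈ coef k C V :=
  Submodule.mem_iSup_of_mem φ ⟨v, rfl⟩

theorem act_eq_zero_of_kill {f : C →ₗ[k] k} (hf : ∀ d ∈ coef k C V, f d = 0) (v : V) :
    act V (WithConv.toConv f) v = 0 :=
  eq_of_forall_dual fun φ => by rw [← apply_mc, hf _ (mc_mem_coef φ v), map_zero]

theorem coef_le_iff {D : Submodule k C} :
    coef k C V ≤ D ↔ ∀ f : C →ₗ[k] k, (∀ d ∈ D, f d = 0) → ∀ v, act V (WithConv.toConv f) v = 0 := by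
  constructor
  · exact fun h f hf v => act_eq_zero_of_kill (fun d hd => hf d (h hd)) v
  · intro h
    refine iSup_le fun φ => ?_
    rintro _ ⟨v, rfl⟩
    rw [← Submodule.Quotient.mk_eq_zero]
    refine eq_of_forall_dual (k := k) fun g => ?_
    have h2 := h (g ∘ₗ D.mkQ) (fun d hd => by simp [(Submodule.Quotient.mk_eq_zero D).mpr hd]) v
    have h3 := apply_mc φ (g ∘ₗ D.mkQ) v
    rw [h2, map_zero] at h3
    simpa using h3

theorem coef_le_iff_coact {D : Submodule k C} :
    coef k C V ≤ D ↔ ∀ v : V, HopfRep.Comod.coact (k := k) (A := C) v ∈ LinearMap.range (D.subtype.lTensor V) := by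
  simp only [coef_le_iff, mem_range_lTensor_iff]
  exact ⟨fun h v f hf => h f hf v, fun h f hf v => h v f hf⟩

theorem isLeast_coef : IsLeast {D' : Submodule k C | ∀ v : V,
    HopfRep.Comod.coact (k := k) (A := C) v ∈ LinearMap.range (LinearMap.lTensor V D'.subtype)} (coef k C V) :=
  ⟨coef_le_iff_coact.mp le_rfl, fun _ hD => coef_le_iff_coact.mpr hD⟩

theorem range_le_coef (j : V →ₗ[k] C) (hj : Hoch.IsComodHom C j) : LinearMap.range j ≤ coef k C V := by
  rintro _ ⟨v, rfl⟩
  have : j v = mc ((CoalgebraStruct.counit (R := k) (A := C)) ∘ₗ j) v := eq_of_forall_dual fun f => by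
    rw [apply_mc, LinearMap.comp_apply, isComodHom_iff.mp hj, act_apply]
    change _ = CoalgebraStruct.counit (contr C f (CoalgebraStruct.comul (j v)))
    have h := Coalgebra.rTensor_counit_comul (R := k) (j v)
    have key : ∀ z : C ⊗[k] C, CoalgebraStruct.counit (R := k) (contr C f z) =
        f (TensorProduct.lid k C ((CoalgebraStruct.counit (R := k) (A := C)).rTensor C z)) := by
      intro z
      induction z using TensorProduct.induction_on with
      | zero => simp
      | tmul a q => simp [mul_comm]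
      | add p q hp hq => simp only [map_add, hp, hq]
    rw [key, h, TensorProduct.lid_tmul, one_smul]
  rw [this]; exact mc_mem_coef _ v

/-- Subcoalgebras. -/
def IsSubcoalg (B : Submodule k C) : Prop :=
  ∀ b ∈ B, CoalgebraStruct.comul (R := k) b ∈ LinearMap.range (TensorProduct.map B.subtype B.subtype)

/-- Simple subcoalgebras. -/
def IsSimpleSubcoalg (D : Submodule k C) : Prop :=
  D ≠ ⊥ ∧ IsSubcoalg D ∧ ∀ B : Submodule k C, B ≤ D → IsSubcoalg B → B = ⊥ ∨ B = D

theorem isSubcoalg_iff {B : Submodule k C} : IsSubcoalg B ↔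
    HopfRep.IsSubcomod (k := k) (A := C) B ∧
      ∀ f : C →ₗ[k] k, (∀ d ∈ B, f d = 0) → ∀ b ∈ B, act C (WithConv.toConv f) b = 0 := by
  simp only [IsSubcoalg, mem_range_map_iff, mem_range_lTensor_iff]
  exact ⟨fun h => ⟨fun b hb => (h b hb).1, fun f hf b hb => (h b hb).2 f hf⟩,
    fun h b hb => ⟨h.1 b hb, fun f hf => h.2 f hf b hb⟩⟩

theorem isSubcoalg_inf {B B' : Submodule k C} (h : IsSubcoalg B) (h' : IsSubcoalg B') : IsSubcoalg (B ⊓ B') := by
  intro b hb
  rw [mem_range_map_iff]
  refine ⟨isSubcomod_inf (isSubcoalg_iff.mp h).1 (isSubcoalg_iff.mp h').1 b hb, ?_⟩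
  have hm : CoalgebraStruct.comul (R := k) b ∈ LinearMap.range (B.subtype.lTensor C) ⊓ LinearMap.range (B'.subtype.lTensor C) :=
    ⟨((mem_range_map_iff _ _ _).mp (h b hb.1)).2, ((mem_range_map_iff _ _ _).mp (h' b hb.2)).2⟩
  have hz : ((B.mkQ).prod B'.mkQ).lTensor C (CoalgebraStruct.comul (R := k) b) = 0 := by
    apply (TensorProduct.prodRight k k C (C ⧸ B) (C ⧸ B')).injective
    rw [map_zero]
    have key : ∀ z : C ⊗[k] C, TensorProduct.prodRight k k C (C ⧸ B) (C ⧸ B') (((B.mkQ).prod B'.mkQ).lTensor C z) =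
        (B.mkQ.lTensor C z, B'.mkQ.lTensor C z) := by
      intro z
      induction z using TensorProduct.induction_on with
      | zero => simp only [map_zero]; rfl
      | tmul a q => simp
      | add p q hp hq => simp only [map_add, hp, hq, Prod.mk_add_mk]
    rw [key]
    obtain ⟨⟨y, hy⟩, ⟨y', hy'⟩⟩ := hm
    refine Prod.ext ?_ ?_
    · show B.mkQ.lTensor C _ = 0
      rw [← hy, ← LinearMap.lTensor_comp_apply, (LinearMap.exact_subtype_mkQ B).linearMap_comp_eq_zero]; simp
    · show B'.mkQ.lTensor C _ = 0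
      rw [← hy', ← LinearMap.lTensor_comp_apply, (LinearMap.exact_subtype_mkQ B').linearMap_comp_eq_zero]; simp
  have hex : Function.Exact (B ⊓ B').subtype ((B.mkQ).prod B'.mkQ) := by
    rw [LinearMap.exact_iff, Submodule.range_subtype, LinearMap.ker_prod, Submodule.ker_mkQ, Submodule.ker_mkQ]
  exact (Module.Flat.lTensor_exact C hex _).mp hz

theorem isSubcomod_coef : HopfRep.IsSubcomod (k := k) (A := C) (coef k C V) :=
  isSubcomod_iSup fun φ => isSubcomod_range (mc_isComodHom φ)

theorem isSubcoalg_coef : IsSubcoalg (coef k C V) := by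
  refine isSubcoalg_iff.mpr ⟨isSubcomod_coef, fun f hf b hb => ?_⟩
  refine Submodule.iSup_induction (fun φ => LinearMap.range (mc (C := C) φ))
    (motive := fun x => act C (WithConv.toConv f) x = 0) hb ?_ (map_zero _) fun a b ha hb => by rw [map_add, ha, hb, add_zero]
  rintro φ _ ⟨v, rfl⟩
  rw [← isComodHom_iff.mp (mc_isComodHom φ), act_eq_zero_of_kill hf, map_zero]

theorem coef_ne_bot [Nontrivial V] : coef k C V ≠ ⊥ := by
  intro h
  obtain ⟨v, hv⟩ := exists_ne (0 : V)
  have hle := coef_le_iff.mp h.le (CoalgebraStruct.counit (R := k) (A := C)) (fun d hd => by simp [(Submodule.mem_bot k).mp hd]) v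
  have h1 : WithConv.toConv (CoalgebraStruct.counit (R := k) (A := C)) = (1 : DualAlg k C) := by
    ext c; exact (LinearMap.convOne_apply (R := k) (A := k) c).symm
  rw [h1, act_one] at hle
  exact hv hle

theorem mc_linear (φ : V →ₗ[k] k) :
    letI := dualModule (k := k) (C := C) V
    letI := dualModule (k := k) (C := C) C
    ∃ L : V →ₗ[DualAlg k C] C, ∀ v, L v = mc φ v :=
  letI := dualModule (k := k) (C := C) V
  letI := dualModule (k := k) (C := C) C
  ⟨{ toFun := mc φ, map_add' := map_add _, map_smul' := fun f v => isComodHom_iff.mp (mc_isComodHom φ) f v }, fun _ => rfl⟩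

/-- Simple subcomodules exist inside nonzero subcomodules. -/
theorem exists_simple_le {U : Submodule k V} (hU : HopfRep.IsSubcomod (k := k) (A := C) U) (h0 : U ≠ ⊥) :
    letI := dualModule (k := k) (C := C) V
    ∃ N : Submodule (DualAlg k C) V, IsSimpleModule (DualAlg k C) N ∧ toK k C V N ≤ U := by
  letI := dualModule (k := k) (C := C) V
  obtain ⟨v, hv, hv0⟩ := Submodule.exists_mem_ne_zero_of_ne_bot h0
  obtain ⟨F, hF, hvF, hFs⟩ := exists_finite_mem (k := k) (C := C) v
  have hne : ∃ n, ∃ G : Submodule k V, HopfRep.IsSubcomod (k := k) (A := C) G ∧ G ≤ U ⊓ F ∧ G ≠ ⊥ ∧ Module.finrank k G = n :=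
    ⟨_, U ⊓ F, isSubcomod_inf hU hFs, le_rfl, (Submodule.ne_bot_iff _).mpr ⟨v, ⟨hv, hvF⟩, hv0⟩, rfl⟩
  classical
  obtain ⟨G, hG, hGle, hG0, hGn⟩ := Nat.find_spec hne
  obtain ⟨N, rfl⟩ := exists_ofK hG
  refine ⟨N, (isSimple_sub_iff N).mpr ⟨hG0, fun U' hU' hle => ?_⟩, hGle.trans inf_le_left⟩
  by_cases h : U' = ⊥
  · exact Or.inl h
  right
  haveI : Module.Finite k (toK k C V N) := Submodule.finiteDimensional_of_le (hGle.trans inf_le_right)
  refine Submodule.eq_of_le_of_finrank_le hle ?_
  rw [hGn]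
  exact Nat.find_min' hne ⟨U', hU', hle.trans hGle, h, rfl⟩

/-- A simple subcomodule of a sum of morphism images of simple comodules is isomorphic to one of them. -/
theorem exists_iso_of_le_iSup {ι : Type*} (S : ι → Type w') [∀ i, AddCommGroup (S i)] [∀ i, Module k (S i)]
    [∀ i, HopfRep.Comod k C (S i)] (hS : ∀ i, HopfRep.IsSimpleComod k C (S i)) (g : ∀ i, S i →ₗ[k] V)
    (hg : ∀ i, Hoch.IsComodHom C (g i)) (N : letI := dualModule (k := k) (C := C) V; Submodule (DualAlg k C) V)
    (hN : letI := dualModule (k := k) (C := C) V; IsSimpleModule (DualAlg k C) N)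
    (hle : toK k C V N ≤ ⨆ i, LinearMap.range (g i)) :
    ∃ i, ∃ j : S i →ₗ[k] V, Hoch.IsComodHom C j ∧ Function.Injective j ∧ LinearMap.range j = toK k C V N := by
  letI := dualModule (k := k) (C := C) V
  letI := fun i => dualModule (k := k) (C := C) (S i)
  let L : ∀ i, S i →ₗ[DualAlg k C] V := fun i =>
    { toFun := g i, map_add' := map_add _, map_smul' := fun f v => isComodHom_iff.mp (hg i) f v }
  let s : Set (Submodule (DualAlg k C) V) := {m | ∃ i, g i ≠ 0 ∧ m = LinearMap.range (L i)}
  have hinj : ∀ i, g i ≠ 0 → Function.Injective (g i) := fun i hi => by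
    rcases (hS i).2 _ (isSubcomod_ker (hg i)) with h | h
    · exact LinearMap.ker_eq_bot.mp h
    · exact absurd (LinearMap.ker_eq_top.mp h) hi
  haveI hsimp : ∀ m : s, IsSimpleModule (DualAlg k C) m.1 := by
    rintro ⟨m, i, hi, rfl⟩
    haveI := isSimple_iff.mpr (hS i)
    exact IsSimpleModule.congr (LinearEquiv.ofInjective (L i) (hinj i hi)).symm
  have hle' : N ≤ sSup s := by
    intro x hx
    have hx' : x ∈ ⨆ i, LinearMap.range (g i) := hle hx
    refine Submodule.iSup_induction (fun i => LinearMap.range (g i)) (motive := fun y => y ∈ sSup s) hx' ?_ (zero_mem _)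
      fun a b ha hb => add_mem ha hb
    rintro i _ ⟨y, rfl⟩
    by_cases hi : g i = 0
    · simp [hi]
    · have hm : LinearMap.range (L i) ∈ s := ⟨i, hi, rfl⟩
      exact SetLike.le_def.mp (le_sSup hm) ⟨y, rfl⟩
  haveI := hN
  obtain ⟨m, ⟨i, hi, rfl⟩, ⟨e⟩⟩ := Submodule.linearEquiv_of_le_sSup (s := s) N hle'
  let J : S i →ₗ[DualAlg k C] V := N.subtype ∘ₗ e.symm.toLinearMap ∘ₗ (LinearEquiv.ofInjective (L i) (hinj i hi)).toLinearMap
  have hJr : ∀ x : V, x ∈ LinearMap.range J ↔ x ∈ N := by
    intro x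
    constructor
    · rintro ⟨y, rfl⟩; exact Subtype.property _
    · intro hx
      exact ⟨(LinearEquiv.ofInjective (L i) (hinj i hi)).symm (e ⟨x, hx⟩), by simp [J]⟩
  let j : S i →ₗ[k] V :=
    { toFun := J, map_add' := map_add J,
      map_smul' := fun a x => by
        have h1 := J.map_smul (algebraMap k (DualAlg k C) a) x
        change J (act (S i) _ x) = act V _ (J x) at h1
        rw [act_algebraMap, act_algebraMap] at h1
        exact h1 }
  refine ⟨i, j, isComodHom_iff.mpr fun f v => J.map_smul f v, ?_, ?_⟩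
  · exact N.subtype_injective.comp (e.symm.injective.comp (LinearEquiv.ofInjective (L i) (hinj i hi)).injective)
  · ext x; exact hJr x

/-- The coefficient space of a simple comodule is a simple subcoalgebra. -/
theorem coef_simple (hV : HopfRep.IsSimpleComod k C V) : IsSimpleSubcoalg (coef k C V) := by
  haveI := hV.1
  refine ⟨coef_ne_bot, isSubcoalg_coef, fun B hB hBs => ?_⟩
  by_cases h : B = ⊥
  · exact Or.inl h
  refine Or.inr (le_antisymm hB ?_)
  obtain ⟨N, hN, hNB⟩ := exists_simple_le (isSubcoalg_iff.mp hBs).1 h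
  obtain ⟨-, j, hj, hinj, hr⟩ := exists_iso_of_le_iSup (fun _ : V →ₗ[k] k => V) (fun _ => hV)
    (fun φ => mc (C := C) φ) mc_isComodHom N hN (hNB.trans hB)
  refine coef_le_iff.mpr fun f hf v => hinj ?_
  rw [map_zero, isComodHom_iff.mp hj]
  exact (isSubcoalg_iff.mp hBs).2 f hf _ (hNB (hr ▸ LinearMap.mem_range_self j v))

/-- A simple subcomodule inside the coefficient space of `V` is isomorphic to `V`. -/
theorem exists_hom_of_le_coef (hV : HopfRep.IsSimpleComod k C V) (hW : HopfRep.IsSimpleComod k C W)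
    (j : W →ₗ[k] C) (hj : Hoch.IsComodHom C j) (hj0 : j ≠ 0) (hle : LinearMap.range j ≤ coef k C V) :
    ∃ e : W ≃ₗ[k] V, Hoch.IsComodHom C e.toLinearMap := by
  obtain ⟨N, hN, hNj⟩ := exists_simple_le (isSubcomod_range hj) (fun h => hj0 (LinearMap.range_eq_bot.mp h))
  obtain ⟨-, g, hg, hginj, hgr⟩ := exists_iso_of_le_iSup (fun _ : V →ₗ[k] k => V) (fun _ => hV)
    (fun φ => mc (C := C) φ) mc_isComodHom N hN (hNj.trans hle)
  have hjinj : Function.Injective j := by
    rcases hW.2 _ (isSubcomod_ker hj) with h | h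
    · exact LinearMap.ker_eq_bot.mp h
    · exact absurd (LinearMap.ker_eq_top.mp h) hj0
  haveI := hV.1
  have hall : LinearMap.range j = LinearMap.range g := by
    refine le_antisymm ?_ (hgr.le.trans hNj)
    rintro _ ⟨w, rfl⟩
    rcases hW.2 _ (isSubcomod_comap hj (isSubcomod_range hg)) with h | h
    · exfalso
      obtain ⟨v, hv⟩ := exists_ne (0 : V)
      obtain ⟨w', hw'⟩ : g v ∈ LinearMap.range j := hNj (hgr ▸ LinearMap.mem_range_self g v)
      have : w' ∈ (LinearMap.range g).comap j := ⟨v, hw'.symm⟩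
      rw [h, Submodule.mem_bot] at this
      rw [this, map_zero] at hw'
      exact hv (hginj (hw'.symm.trans (map_zero g).symm))
    · exact (h.symm ▸ Submodule.mem_top : w ∈ (LinearMap.range g).comap j)
  let e : W ≃ₗ[k] V := (LinearEquiv.ofInjective j hjinj).trans
    ((LinearEquiv.ofEq _ _ hall).trans (LinearEquiv.ofInjective g hginj).symm)
  have he : ∀ w, g (e w) = j w := fun w => by
    have := congrArg Subtype.val ((LinearEquiv.ofInjective g hginj).apply_symm_apply
      ((LinearEquiv.ofEq _ _ hall) ((LinearEquiv.ofInjective j hjinj) w)))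
    exact this
  refine ⟨e, isComodHom_iff.mpr fun f w => hginj ?_⟩
  simp only [LinearEquiv.coe_coe]
  rw [he, isComodHom_iff.mp hj, isComodHom_iff.mp hg, he]

end Groth.Agent.H8Comod
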