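import Mathlib

/-!
# Closed subschemes representing conditions on points

A condition on morphisms into a scheme `X` which is local, stable under composition and which on
small affine opens has a smallest ideal, is represented by a closed subscheme.
-/

set_option autoImplicit false

universe u

open CategoryTheory Limits AlgebraicGeometry
open TensorProduct

namespace Groth.Agent.H8Locus

section Representable

variable {X : Scheme.{u}} (P : ∀ ⦃T : Scheme.{u}⦄, (T ⟶ X) → Prop)

/-- `P` is stable under precomposition and local on the source. -/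
structure Good : Prop where
  comp : ∀ ⦃T W : Scheme.{u}⦄ (h : W ⟶ T) {g : T ⟶ X}, P g → P (h ≫ g)
  glue : ∀ ⦃T : Scheme.{u}⦄ (g : T ⟶ X) (𝒰 : Scheme.OpenCover.{u} T), (∀ i, P (𝒰.f i ≫ g)) → P g

/-- On the affine open `U` the condition is cut out by an ideal. -/
def HasMin (U : X.affineOpens) : Prop :=
  ∃ a : Ideal Γ(X, U), ∀ ⦃C : CommRingCat.{u}⦄ (χ : Γ(X, U) ⟶ C),
    P (Spec.map χ ≫ U.2.fromSpec) ↔ a ≤ RingHom.ker χ.hom

variable {P}

lemma HasMin.unique {U : X.affineOpens} {a b : Ideal Γ(X, U)}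
    (ha : ∀ ⦃C : CommRingCat.{u}⦄ (χ : Γ(X, U) ⟶ C),
      P (Spec.map χ ≫ U.2.fromSpec) ↔ a ≤ RingHom.ker χ.hom)
    (hb : ∀ ⦃C : CommRingCat.{u}⦄ (χ : Γ(X, U) ⟶ C),
      P (Spec.map χ ≫ U.2.fromSpec) ↔ b ≤ RingHom.ker χ.hom) : a = b := by
  apply le_antisymm
  · have := (ha (CommRingCat.ofHom (Ideal.Quotient.mk b))).mp ((hb _).mpr (by simp))
    simpa using this
  · have := (hb (CommRingCat.ofHom (Ideal.Quotient.mk a))).mp ((ha _).mpr (by simp))
    simpa using this

lemma HasMin.of_le {U V : X.affineOpens} (h : V.1 ≤ U.1) {a : Ideal Γ(X, U)}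
    (ha : ∀ ⦃C : CommRingCat.{u}⦄ (χ : Γ(X, U) ⟶ C),
      P (Spec.map χ ≫ U.2.fromSpec) ↔ a ≤ RingHom.ker χ.hom) :
    ∀ ⦃C : CommRingCat.{u}⦄ (χ : Γ(X, V) ⟶ C), P (Spec.map χ ≫ V.2.fromSpec) ↔
      a.map (X.presheaf.map (homOfLE h).op).hom ≤ RingHom.ker χ.hom := by
  intro C χ
  rw [Ideal.map_le_iff_le_comap, RingHom.comap_ker, ← U.2.map_fromSpec V.2 (homOfLE h).op,
    ← Category.assoc, ← Spec.map_comp, ha]
  rfl

open Classical in
/-- The ideal cutting out `P` on an affine open, if there is one. -/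
noncomputable def minIdeal (P : ∀ ⦃T : Scheme.{u}⦄, (T ⟶ X) → Prop) (U : X.affineOpens) :
    Ideal Γ(X, U) :=
  if h : HasMin P U then h.choose else ⊥

lemma minIdeal_spec {U : X.affineOpens} (h : HasMin P U) ⦃C : CommRingCat.{u}⦄
    (χ : Γ(X, U) ⟶ C) :
    P (Spec.map χ ≫ U.2.fromSpec) ↔ minIdeal P U ≤ RingHom.ker χ.hom := by
  rw [minIdeal, dif_pos h]
  exact h.choose_spec χ

lemma minIdeal_map {U V : X.affineOpens} (hU : HasMin P U) (h : V.1 ≤ U.1) :
    HasMin P V ∧ minIdeal P V = (minIdeal P U).map (X.presheaf.map (homOfLE h).op).hom := by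
  have h1 : HasMin P V := ⟨_, HasMin.of_le h (minIdeal_spec hU)⟩
  exact ⟨h1, HasMin.unique (minIdeal_spec h1) (HasMin.of_le h (minIdeal_spec hU))⟩

/-- Restriction to a basic open. -/
abbrev res (U : X.affineOpens) (g : Γ(X, U)) : Γ(X, U) ⟶ Γ(X, X.affineBasicOpen g) :=
  X.presheaf.map (homOfLE (X.basicOpen_le g)).op

set_option backward.isDefEq.respectTransparency false in
lemma exists_pow_mem {U : X.affineOpens} (f g : Γ(X, U)) (hf : HasMin P (X.affineBasicOpen f))
    (hg : HasMin P (X.affineBasicOpen g)) (c : Γ(X, U))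
    (hc : (res U (f)).hom c ∈
      minIdeal P (X.affineBasicOpen f)) :
    ∃ N : ℕ, (res U (g)).hom (f ^ N * c) ∈
      minIdeal P (X.affineBasicOpen g) := by
  let f' : Γ(X, X.affineBasicOpen g) := (res U (g)).hom f
  let V : X.affineOpens := X.affineBasicOpen f'
  have hVx : V.1 ≤ (X.affineBasicOpen f).1 :=
    (Scheme.basicOpen_res X f (homOfLE (X.basicOpen_le g)).op).le.trans inf_le_right
  have hVz : V.1 ≤ (X.affineBasicOpen g).1 := X.basicOpen_le _
  have h1 := Ideal.mem_map_of_mem (X.presheaf.map (homOfLE hVx).op).hom hc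
  rw [← (minIdeal_map hf hVx).2, (minIdeal_map hg hVz).2] at h1
  have : IsLocalization.Away f' Γ(X, X.basicOpen f') :=
    (X.affineBasicOpen g).2.isLocalization_basicOpen f'
  have h2 : algebraMap Γ(X, X.affineBasicOpen g) Γ(X, X.basicOpen f') ((res U g).hom c) ∈
      (minIdeal P (X.affineBasicOpen g)).map
        (algebraMap Γ(X, X.affineBasicOpen g) Γ(X, X.basicOpen f')) := by
    have e : (X.presheaf.map (homOfLE hVx).op).hom ((res U f).hom c) =
        (X.presheaf.map (homOfLE hVz).op).hom ((res U g).hom c) := by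
      simp only [res, ← ConcreteCategory.comp_apply, ← Functor.map_comp]
      rfl
    rw [e] at h1
    exact h1
  obtain ⟨_, ⟨N, rfl⟩, hN⟩ := (IsLocalization.algebraMap_mem_map_algebraMap_iff
    (Submonoid.powers f') Γ(X, X.basicOpen f') _ _).mp h2
  exact ⟨N, by rw [map_mul, map_pow]; exact hN⟩

set_option backward.isDefEq.respectTransparency false in
lemma map_iInf_eq {U : X.affineOpens} {σ : Type u} (t : Finset σ) (g : σ → Γ(X, U))
    (hg : ∀ x, HasMin P (X.affineBasicOpen (g x))) {x : σ} (hx : x ∈ t) :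
    (⨅ z ∈ t, (minIdeal P (X.affineBasicOpen (g z))).comap
        (res U (g z)).hom).map
      (res U (g x)).hom =
      minIdeal P (X.affineBasicOpen (g x)) := by
  classical
  refine le_antisymm (Ideal.map_le_iff_le_comap.mpr (iInf₂_le x hx)) fun y hy => ?_
  have : IsLocalization.Away (g x) Γ(X, X.basicOpen (g x)) := U.2.isLocalization_basicOpen (g x)
  revert hy
  obtain ⟨c, ⟨_, n, rfl⟩, rfl⟩ :=
    IsLocalization.exists_mk'_eq (S := Γ(X, X.basicOpen (g x))) (.powers (g x)) y
  intro hy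
  refine (IsLocalization.mk'_mem_map_algebraMap_iff (Submonoid.powers (g x))
    Γ(X, X.basicOpen (g x)) _ c ⟨_, n, rfl⟩).mpr ?_
  have hc : algebraMap Γ(X, U) Γ(X, X.basicOpen (g x)) c ∈
      minIdeal P (X.affineBasicOpen (g x)) := by
    rw [← IsLocalization.mk'_spec (M := Submonoid.powers (g x))
      Γ(X, X.basicOpen (g x)) c ⟨_, n, rfl⟩]
    exact Ideal.mul_mem_right (I := minIdeal P (X.affineBasicOpen (g x))) _ hy
  choose N hN using fun z => exists_pow_mem (g x) (g z) (hg x) (hg z) c hc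
  refine ⟨_, ⟨t.sup N, rfl⟩, ?_⟩
  simp only [Submodule.mem_iInf]
  intro z hz
  refine Ideal.mem_comap.mpr ?_
  rw [← Nat.sub_add_cancel (Finset.le_sup hz : N z ≤ t.sup N), pow_add, mul_assoc, map_mul]
  exact Ideal.mul_mem_left _ _ (hN z)

set_option backward.isDefEq.respectTransparency false in
lemma away_factor {U : X.affineOpens} (g : Γ(X, U)) {C : CommRingCat.{u}} (χ : Γ(X, U) ⟶ C) :
    ∃ χ' : Γ(X, X.affineBasicOpen g) ⟶ CommRingCat.of (Localization.Away (χ.hom g)),
      res U g ≫ χ' =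
        χ ≫ CommRingCat.ofHom (algebraMap C _) := by
  have hu : IsUnit ((χ ≫ CommRingCat.ofHom
      (algebraMap C (Localization.Away (χ.hom g)))).hom g) :=
    IsLocalization.Away.algebraMap_isUnit (χ.hom g)
  have : IsLocalization.Away g Γ(X, X.basicOpen g) := U.2.isLocalization_basicOpen g
  refine ⟨CommRingCat.ofHom (IsLocalization.Away.lift (S := Γ(X, X.basicOpen g)) g hu), ?_⟩
  ext d
  exact IsLocalization.Away.lift_eq (S := Γ(X, X.basicOpen g)) g hu d

lemma mem_basicOpen_of_cover {U : X.affineOpens} {C : CommRingCat.{u}} (χ : Γ(X, U) ⟶ C)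
    (g : Γ(X, U)) (p : Spec C) (hp : U.2.fromSpec ((Spec.map χ) p) ∈ X.basicOpen g) :
    p ∈ PrimeSpectrum.basicOpen (χ.hom g) := by
  have : (Spec.map χ) p ∈ U.2.fromSpec ⁻¹ᵁ X.basicOpen g := hp
  rw [U.2.fromSpec_preimage_basicOpen] at this
  exact this

set_option backward.isDefEq.respectTransparency false in
/-- If the condition is cut out by an ideal on small affine opens, then on all affine opens. -/
theorem hasMin_all (hP : Good P) (hloc : ∀ x : X, ∃ U : X.affineOpens, x ∈ U.1 ∧ HasMin P U)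
    (U : X.affineOpens) : HasMin P U := by
  classical
  have hsmall : ∀ x : U.1, ∃ g : Γ(X, U), x.1 ∈ X.basicOpen g ∧
      HasMin P (X.affineBasicOpen g) := by
    intro x
    obtain ⟨V, hxV, hV⟩ := hloc x.1
    obtain ⟨g, hg, hxg⟩ := U.2.exists_basicOpen_le (V := V.1) ⟨x.1, hxV⟩ x.2
    exact ⟨g, hxg, (minIdeal_map hV (V := X.affineBasicOpen g) hg).1⟩
  choose g hg hg' using hsmall
  obtain ⟨t, ht⟩ := U.2.isCompact.elim_finite_subcover (fun x : U.1 => (X.basicOpen (g x) : Set X))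
    (fun x => (X.basicOpen (g x)).isOpen) fun x hx => Set.mem_iUnion.mpr ⟨⟨x, hx⟩, hg _⟩
  have hcov : ∀ {C : CommRingCat.{u}} (χ : Γ(X, U) ⟶ C) (p : Spec C),
      ∃ x ∈ t, p ∈ PrimeSpectrum.basicOpen (χ.hom (g x)) := by
    intro C χ p
    have hp : U.2.fromSpec ((Spec.map χ) p) ∈ (U.1 : Set X) := by
      rw [← U.2.range_fromSpec]
      exact ⟨_, rfl⟩
    obtain ⟨x, hx, hxp⟩ := Set.mem_iUnion₂.mp (ht hp)
    exact ⟨x, hx, mem_basicOpen_of_cover χ (g x) p hxp⟩
  let a : Ideal Γ(X, U) := ⨅ z ∈ t, (minIdeal P (X.affineBasicOpen (g z))).comap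
    (res U (g z)).hom
  refine ⟨a, fun C χ => ⟨fun h c hc => ?_, fun h => ?_⟩⟩
  · rw [RingHom.mem_ker]
    by_contra hne
    let J : Ideal C := LinearMap.ker (LinearMap.toSpanSingleton C C (χ.hom c))
    have hJ : J ≠ ⊤ := fun e => hne (by
      have : (1 : C) ∈ J := e ▸ Submodule.mem_top
      simpa [J, LinearMap.mem_ker] using this)
    obtain ⟨M, hM, hJM⟩ := Ideal.exists_le_maximal J hJ
    obtain ⟨x, hx, hxp⟩ := hcov χ ⟨M, hM.isPrime⟩
    obtain ⟨χ', hχ'⟩ := away_factor (g x) χ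
    have h1 : P (Spec.map χ' ≫ (X.affineBasicOpen (g x)).2.fromSpec) := by
      rw [← U.2.map_fromSpec (X.affineBasicOpen (g x)).2 (homOfLE (X.basicOpen_le (g x))).op,
        ← Category.assoc, ← Spec.map_comp, hχ', Spec.map_comp, Category.assoc]
      exact hP.comp _ h
    have h2 : algebraMap C (Localization.Away (χ.hom (g x))) (χ.hom c) = 0 := by
      refine (congrArg (fun φ => φ.hom c) hχ').symm.trans ?_
      exact (minIdeal_spec (hg' x) χ').mp h1
        (map_iInf_eq t g hg' hx ▸ Ideal.mem_map_of_mem _ hc)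
    obtain ⟨⟨_, m, rfl⟩, hm⟩ := (IsLocalization.map_eq_zero_iff
      (Submonoid.powers (χ.hom (g x))) (Localization.Away (χ.hom (g x))) _).mp h2
    refine hxp (hM.isPrime.mem_of_pow_mem m (hJM ?_))
    exact LinearMap.mem_ker.mpr (by rw [LinearMap.toSpanSingleton_apply, smul_eq_mul]; exact hm)
  · refine hP.glue _ ((Spec C).openCoverOfIsOpenCover
      (fun x : t => PrimeSpectrum.basicOpen (χ.hom (g x.1))) ?_) fun x => ?_
    · refine TopologicalSpace.Opens.ext (Set.eq_univ_of_forall fun p => ?_)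
      obtain ⟨x, hx, hxp⟩ := hcov χ p
      exact TopologicalSpace.Opens.mem_iSup.mpr ⟨⟨x, hx⟩, hxp⟩
    · obtain ⟨χ', hχ'⟩ := away_factor (g x.1) χ
      have h1 : P (Spec.map (CommRingCat.ofHom (algebraMap C
          (Localization.Away (χ.hom (g x.1))))) ≫ Spec.map χ ≫ U.2.fromSpec) := by
        rw [← Category.assoc, ← Spec.map_comp, ← hχ', Spec.map_comp, Category.assoc,
          U.2.map_fromSpec (X.affineBasicOpen (g x.1)).2
            (homOfLE (X.basicOpen_le (g x.1))).op]
        refine (minIdeal_spec (hg' x.1) χ').mpr ?_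
        rw [← map_iInf_eq t g hg' x.2, Ideal.map_le_iff_le_comap]
        intro c hc
        refine (congrArg (fun φ => φ.hom c) hχ').trans ?_
        show algebraMap C (Localization.Away (χ.hom (g x.1))) (χ.hom c) = 0
        rw [show χ.hom c = 0 from h hc, map_zero]
      let e := IsOpenImmersion.lift (Spec.map (CommRingCat.ofHom (algebraMap C
          (Localization.Away (χ.hom (g x.1))))))
        (Scheme.Opens.ι (X := Spec C) (PrimeSpectrum.basicOpen (χ.hom (g x.1))))
        (by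
          rw [Scheme.Opens.range_ι]
          exact (PrimeSpectrum.localization_away_comap_range
            (Localization.Away (χ.hom (g x.1))) (χ.hom (g x.1))).ge)
      have := hP.comp e h1
      rw [← Category.assoc, IsOpenImmersion.lift_fac] at this
      exact this

/-- A closed subscheme representing a condition. -/
theorem exists_idealSheaf (hP : Good P)
    (hloc : ∀ x : X, ∃ U : X.affineOpens, x ∈ U.1 ∧ HasMin P U) :
    ∃ I : X.IdealSheafData, ∀ ⦃T : Scheme.{u}⦄ (g : T ⟶ X), P g ↔ I ≤ g.ker := by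
  have hall := hasMin_all hP hloc
  let I : X.IdealSheafData :=
    { ideal := minIdeal P
      map_ideal_basicOpen := fun U f =>
        (minIdeal_map (hall U) (V := X.affineBasicOpen f) (X.basicOpen_le f)).2.symm }
  refine ⟨I, fun T g => ⟨fun h => ?_, fun h => ?_⟩⟩
  · rw [Scheme.Hom.ker, Scheme.IdealSheafData.le_ofIdeals_iff]
    intro V a ha
    rw [RingHom.mem_ker]
    refine T.IsSheaf.section_ext fun x hx => ?_
    obtain ⟨_, ⟨W, hW, rfl⟩, hxW, hWV⟩ :=
      T.isBasis_affineOpens.exists_subset_of_mem_open hx (g ⁻¹ᵁ V.1).isOpen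
    refine ⟨W, hWV, hxW, ?_⟩
    have h1 : Spec.map (g.appLE V W hWV) ≫ V.2.fromSpec = hW.fromSpec ≫ g :=
      IsAffineOpen.SpecMap_appLE_fromSpec g V.2 hW hWV
    have h2 := (minIdeal_spec (hall V) (g.appLE V W hWV)).mp (h1 ▸ hP.comp _ h) ha
    rw [RingHom.mem_ker] at h2
    rw [map_zero, ← h2]
    rfl
  · have hI : P I.subschemeι := hP.glue _ I.subschemeCover.openCover fun U => by
      show P (I.subschemeCover.f U ≫ I.subschemeι)
      rw [I.subschemeCover_map_subschemeι U]
      simp only [Scheme.IdealSheafData.glueDataObjι, Category.assoc,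
        IsAffineOpen.isoSpec_inv_ι]
      exact (minIdeal_spec (hall U) _).mpr (by simp [I])
    have hk : I.subschemeι.ker ≤ g.ker := le_of_eq_of_le I.ker_subschemeι h
    rw [← IsClosedImmersion.lift_fac I.subschemeι g hk]
    exact hP.comp _ hI

/-- Version over a base. -/
theorem exists_closedImmersion_over {S : Scheme.{u}} {X' : Over S}
    {Q : ∀ ⦃T : Scheme.{u}⦄, (T ⟶ X'.left) → Prop} (hQ : Good Q)
    (hloc : ∀ x : X'.left, ∃ U : X'.left.affineOpens, x ∈ U.1 ∧ HasMin Q U) :
    ∃ (Z : Over S) (i : Z ⟶ X'), IsClosedImmersion i.left ∧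
      ∀ (T : Over S) (x : T ⟶ X'), Q x.left ↔ ∃ z : T ⟶ Z, z ≫ i = x := by
  obtain ⟨I, hI⟩ := exists_idealSheaf hQ hloc
  refine ⟨Over.mk (I.subschemeι ≫ X'.hom), Over.homMk I.subschemeι rfl,
    inferInstanceAs (IsClosedImmersion I.subschemeι), fun T x => ?_⟩
  rw [hI]
  constructor
  · intro h
    have hk : I.subschemeι.ker ≤ x.left.ker := le_of_eq_of_le I.ker_subschemeι h
    refine ⟨Over.homMk (IsClosedImmersion.lift I.subschemeι x.left hk) ?_, ?_⟩
    · show _ ≫ I.subschemeι ≫ X'.hom = _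
      rw [IsClosedImmersion.lift_fac_assoc, Over.w x]
    · exact Over.OverMorphism.ext (IsClosedImmersion.lift_fac _ _ _)
  · rintro ⟨z, rfl⟩
    exact le_of_eq_of_le I.ker_subschemeι.symm (Scheme.Hom.le_ker_comp _ _)

end Representable

end Groth.Agent.H8Locus
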