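import Mathlib
import Groth.Agent.Lib.H8Locus

/-!
# Weil restriction of closed subschemes along locally projective morphisms
-/

set_option autoImplicit false

universe u

open CategoryTheory Limits AlgebraicGeometry
open TensorProduct

namespace Groth.Agent.H8Weil

/-- A closed immersion into an affine scheme through which a jointly injective family of morphisms
factors is an isomorphism. -/
lemma isIso_of_jointly_injective {C : CommRingCat.{u}} {E : Scheme.{u}} (e : E ⟶ Spec C)
    [IsClosedImmersion e] {σ : Type u} (D : σ → CommRingCat.{u}) (χ : ∀ i, C ⟶ D i)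
    (hinj : ∀ c : C, (∀ i, (χ i).hom c = 0) → c = 0)
    (h : ∀ i, ∃ l, l ≫ e = Spec.map (χ i)) : IsIso e := by
  obtain ⟨I, φ, hφ⟩ := IsClosedImmersion.Spec_iff.mp ‹IsClosedImmersion e›
  have hI : I = ⊥ := by
    refine eq_bot_iff.mpr fun c hc => hinj c fun i => ?_
    obtain ⟨v, hv⟩ := h i
    have hv' : Spec.map (χ i) = Spec.map (CommRingCat.ofHom (Ideal.Quotient.mk I) ≫
        Spec.preimage (v ≫ φ.hom)) := by
      rw [Spec.map_comp, Spec.map_preimage, Category.assoc, ← hφ, hv]
    rw [Spec.map_injective hv']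
    simp [Ideal.Quotient.eq_zero_iff_mem.mpr hc]
  have : IsIso (CommRingCat.ofHom (Ideal.Quotient.mk I)) := by
    subst hI
    exact (ConcreteCategory.isIso_iff_bijective _).mpr
      ⟨(RingHom.injective_iff_ker_eq_bot _).mpr Ideal.mk_ker, Ideal.Quotient.mk_surjective⟩
  rw [hφ]
  infer_instance

/-- Tensoring with a projective module preserves jointly injective families. -/
lemma tensor_jointly_injective {R : Type u} [CommRing R] {A B : Type u} [CommRing A]
    [Algebra R A] [CommRing B] [Algebra R B] [Module.Projective R B] {σ : Type u}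
    (D : σ → Type u) [∀ i, CommRing (D i)]
    [∀ i, Algebra R (D i)] (φ : ∀ i, A →ₐ[R] D i) (hinj : ∀ a : A, (∀ i, φ i a = 0) → a = 0)
    (x : A ⊗[R] B) (hx : ∀ i, Algebra.TensorProduct.map (φ i) (AlgHom.id R B) x = 0) : x = 0 := by
  classical
  obtain ⟨s, hs⟩ := (Module.projective_def' (R := R) (P := B)).mp inferInstance
  let Φ : A ⊗[R] B →ₗ[R] (B →₀ A) :=
    (TensorProduct.finsuppScalarRight R R A B).toLinearMap ∘ₗ (s.lTensor A)
  have key : ∀ i (y : A ⊗[R] B) j,
      φ i (Φ y j) = TensorProduct.finsuppScalarRight R R (D i) B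
        (s.lTensor (D i) (Algebra.TensorProduct.map (φ i) (AlgHom.id R B) y)) j := by
    intro i y j
    induction y with
    | zero => simp
    | tmul a b => simp [Φ]
    | add p q hp hq => simp [map_add, hp, hq]
  have h0 : Φ x = 0 := by
    ext j
    refine hinj _ fun i => ?_
    rw [key, hx]
    simp
  have h1 : s.lTensor A x = 0 :=
    (TensorProduct.finsuppScalarRight R R A B).injective (h0.trans (map_zero _).symm)
  have h2 := congrArg ((Finsupp.linearCombination R id).lTensor A) h1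
  rwa [← LinearMap.comp_apply, ← LinearMap.lTensor_comp, hs, LinearMap.lTensor_id,
    LinearMap.id_apply, map_zero] at h2

section Lands

variable {S X Y W : Scheme.{u}} (t : X ⟶ S) (f : Y ⟶ S) (j : W ⟶ pullback t f)

/-- The base change of `g : T ⟶ X` to the pullbacks. -/
noncomputable def mapX {T : Scheme.{u}} (g : T ⟶ X) : pullback (g ≫ t) f ⟶ pullback t f :=
  pullback.lift (pullback.fst _ _ ≫ g) (pullback.snd _ _)
    ((Category.assoc _ _ _).trans pullback.condition)

@[reassoc (attr := simp)]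
lemma mapX_fst {T : Scheme.{u}} (g : T ⟶ X) :
    mapX t f g ≫ pullback.fst t f = pullback.fst _ _ ≫ g := pullback.lift_fst _ _ _

@[reassoc (attr := simp)]
lemma mapX_snd {T : Scheme.{u}} (g : T ⟶ X) :
    mapX t f g ≫ pullback.snd t f = pullback.snd _ _ := pullback.lift_snd _ _ _

/-- Functoriality of the base change in the source. -/
noncomputable def mapT {T T' : Scheme.{u}} (h : T' ⟶ T) (g : T ⟶ X) :
    pullback ((h ≫ g) ≫ t) f ⟶ pullback (g ≫ t) f :=
  pullback.lift (pullback.fst _ _ ≫ h) (pullback.snd _ _)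
    (by rw [← pullback.condition]; simp only [Category.assoc])

@[reassoc (attr := simp)]
lemma mapT_fst {T T' : Scheme.{u}} (h : T' ⟶ T) (g : T ⟶ X) :
    mapT t f h g ≫ pullback.fst (g ≫ t) f = pullback.fst _ _ ≫ h := pullback.lift_fst _ _ _

@[reassoc (attr := simp)]
lemma mapT_snd {T T' : Scheme.{u}} (h : T' ⟶ T) (g : T ⟶ X) :
    mapT t f h g ≫ pullback.snd (g ≫ t) f = pullback.snd _ _ := pullback.lift_snd _ _ _

lemma mapT_mapX {T T' : Scheme.{u}} (h : T' ⟶ T) (g : T ⟶ X) :
    mapT t f h g ≫ mapX t f g = mapX t f (h ≫ g) := by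
  apply pullback.hom_ext <;> simp

/-- After base change along `g` the pullback lands in `W`. -/
def Lands ⦃T : Scheme.{u}⦄ (g : T ⟶ X) : Prop :=
  ∃ l : pullback (g ≫ t) f ⟶ W, l ≫ j = mapX t f g

lemma reassociate_mapX {T T' : Scheme.{u}} (u : T' ⟶ T) (g : T ⟶ X)
    (q : pullback (u ≫ g ≫ t) f ⟶ pullback ((u ≫ g) ≫ t) f)
    (r : pullback (u ≫ g ≫ t) f ⟶ pullback (g ≫ t) f)
    (hq₁ : q ≫ pullback.fst _ _ = pullback.fst _ _) (hq₂ : q ≫ pullback.snd _ _ = pullback.snd _ _)
    (hr₁ : r ≫ pullback.fst _ _ = pullback.fst _ _ ≫ u)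
    (hr₂ : r ≫ pullback.snd _ _ = pullback.snd _ _) :
    q ≫ mapX t f (u ≫ g) = r ≫ mapX t f g := by
  apply pullback.hom_ext
  · simp only [Category.assoc, mapX_fst, reassoc_of% hq₁, reassoc_of% hr₁]
  · simp only [Category.assoc, mapX_snd, hq₂, hr₂]

lemma good_lands [Mono j] : H8Locus.Good (Lands t f j) where
  comp T T' h g := by
    rintro ⟨l, hl⟩
    exact ⟨mapT t f h g ≫ l,
      ((Category.assoc _ _ _).trans (congrArg (_ ≫ ·) hl)).trans (mapT_mapX t f h g)⟩
  glue T g 𝒰 H := by
    choose l hl using H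
    let 𝒱 := Scheme.Pullback.openCoverOfLeft 𝒰 (g ≫ t) f
    let e : ∀ i : 𝒰.I₀, pullback (𝒰.f i ≫ g ≫ t) f ⟶ pullback ((𝒰.f i ≫ g) ≫ t) f := fun i =>
      (pullback.congrHom (Category.assoc (𝒰.f i) g t).symm rfl).hom
    let l' : ∀ i : 𝒱.I₀, 𝒱.X i ⟶ W := fun i => e i ≫ l i
    have hl' : ∀ i : 𝒰.I₀, l' i ≫ j = 𝒱.f i ≫ mapX t f g := by
      intro i
      show (e i ≫ l i) ≫ j = _
      refine ((Category.assoc _ _ _).trans (congrArg (e i ≫ ·) (hl i))).trans ?_
      exact reassociate_mapX t f (𝒰.f i) g (e i) (𝒱.f i)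
        ((pullback.lift_fst _ _ _).trans (Category.comp_id _))
        ((pullback.lift_snd _ _ _).trans (Category.comp_id _))
        (pullback.lift_fst _ _ _) ((pullback.lift_snd _ _ _).trans (Category.comp_id _))
    refine ⟨𝒱.glueMorphisms l' fun a b => ?_, ?_⟩
    · refine (cancel_mono j).mp ?_
      refine ((Category.assoc _ _ _).trans (congrArg (_ ≫ ·) (hl' a))).trans ?_
      refine Eq.trans ?_ ((Category.assoc _ _ _).trans (congrArg (_ ≫ ·) (hl' b))).symm
      exact pullback.condition_assoc _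
    · exact 𝒱.hom_ext _ _ fun i =>
        (Scheme.Cover.ι_glueMorphisms_assoc 𝒱 l' _ i j).trans (hl' i)

/-- The closed subscheme of the pullback where it lands in `W`. -/
lemma lands_iff_isIso [Mono j] {T : Scheme.{u}} (g : T ⟶ X) :
    Lands t f j g ↔ IsIso (pullback.fst (mapX t f g) j) := by
  constructor
  · rintro ⟨l, hl⟩
    refine ⟨pullback.lift (f := mapX t f g) (g := j) (𝟙 _) l
      ((Category.id_comp _).trans hl.symm),
      (cancel_mono (pullback.fst (mapX t f g) j)).mp ?_, pullback.lift_fst _ _ _⟩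
    rw [Category.assoc, pullback.lift_fst, Category.comp_id, Category.id_comp]
  · intro h
    refine ⟨inv (pullback.fst (mapX t f g) j) ≫ pullback.snd (mapX t f g) j, ?_⟩
    rw [Category.assoc, ← pullback.condition (f := mapX t f g) (g := j), IsIso.inv_hom_id_assoc]

end Lands

/-- `pullback f s` is covered by affine opens whose rings are projective over `R`. -/
def ProjCover {S Y : Scheme.{u}} (f : Y ⟶ S) {R : CommRingCat.{u}} (s : Spec R ⟶ S) : Prop :=
  ∀ y : ↑(pullback f s), ∃ (B : CommRingCat.{u}) (jB : Spec B ⟶ pullback f s) (β : R ⟶ B),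
    IsOpenImmersion jB ∧ y ∈ Set.range jB ∧ Spec.map β = jB ≫ pullback.snd f s ∧
      (letI := β.hom.toAlgebra; Module.Projective R B)

lemma isPullback_tensor (R A B : CommRingCat.{u}) [Algebra R A] [Algebra R B] :
    IsPullback (Spec.map (CommRingCat.ofHom
        (Algebra.TensorProduct.includeLeftRingHom : A →+* A ⊗[R] B)))
      (Spec.map (CommRingCat.ofHom
        (Algebra.TensorProduct.includeRight.toRingHom : B →+* A ⊗[R] B)))
      (Spec.map (CommRingCat.ofHom (algebraMap R A)))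
      (Spec.map (CommRingCat.ofHom (algebraMap R B))) := by
  refine IsPullback.of_iso_pullback ⟨?_⟩ (pullbackSpecIso R A B).symm
    (pullbackSpecIso_inv_fst R A B) (pullbackSpecIso_inv_snd R A B)
  simp only [← Spec.map_comp]
  congr 1
  ext c
  exact (Algebra.TensorProduct.includeLeft (S := R) (A := A) (B := B)).commutes c |>.trans
    ((Algebra.TensorProduct.includeRight (R := R) (A := A) (B := B)).commutes c).symm

set_option backward.isDefEq.respectTransparency false in
/-- Landing in a closed subscheme descends along jointly injective families when the fibre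
product is locally projective. -/
theorem lands_of_jointly_injective {S X Y W : Scheme.{u}} (t : X ⟶ S) (f : Y ⟶ S)
    (j : W ⟶ pullback t f) [IsClosedImmersion j] {R : CommRingCat.{u}} (s : Spec R ⟶ S)
    (hY : ProjCover f s) {A : CommRingCat.{u}} (α : R ⟶ A) (g : Spec A ⟶ X)
    (hg : g ≫ t = Spec.map α ≫ s) {σ : Type u} (D : σ → CommRingCat.{u}) (φ : ∀ i, A ⟶ D i)
    (hinj : ∀ a : A, (∀ i, (φ i).hom a = 0) → a = 0)
    (h : ∀ i, Lands t f j (Spec.map (φ i) ≫ g)) : Lands t f j g := by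
  rw [lands_iff_isIso]
  set M := mapX t f g with hM
  set e := pullback.fst M j with he
  let : Algebra R A := α.hom.toAlgebra
  choose B jB β hjB hmem hβ hproj using hY
  let : ∀ y, Algebra R (B y) := fun y => (β y).hom.toAlgebra
  have hsnd : ∀ p : ↑(pullback (g ≫ t) f), ∃ y : ↑(pullback f s),
      (pullback.snd (g ≫ t) f) p = (pullback.fst f s) y ∧
      (Spec.map α) ((pullback.fst (g ≫ t) f) p) = (pullback.snd f s) y := by
    intro p
    refine ⟨(pullback.lift (pullback.snd (g ≫ t) f) (pullback.fst (g ≫ t) f ≫ Spec.map α)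
      (by rw [Category.assoc, ← hg, pullback.condition]) : _ ⟶ pullback f s) p, ?_, ?_⟩
    · rw [← Scheme.Hom.comp_apply, pullback.lift_fst]
    · rw [← Scheme.Hom.comp_apply, ← Scheme.Hom.comp_apply, pullback.lift_snd]
  let Q : pullback (g ≫ t) f ⟶ pullback f s :=
    pullback.lift (pullback.snd (g ≫ t) f) (pullback.fst (g ≫ t) f ≫ Spec.map α)
      (by rw [Category.assoc, ← hg, pullback.condition])
  have hQ : IsPullback (pullback.fst (g ≫ t) f) Q (Spec.map α) (pullback.snd f s) := by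
    refine (IsPullback.of_right ?_ (pullback.lift_snd _ _ _) (IsPullback.of_hasPullback f s)).flip
    simp only [Q, pullback.lift_fst, ← hg]
    exact (IsPullback.of_hasPullback _ _).flip
  let m : ∀ y, Spec (CommRingCat.of (A ⊗[R] B y)) ⟶ pullback (g ≫ t) f := fun y =>
    hQ.lift (Spec.map (CommRingCat.ofHom Algebra.TensorProduct.includeLeftRingHom))
      (Spec.map (CommRingCat.ofHom Algebra.TensorProduct.includeRight.toRingHom) ≫ jB y) (by
        rw [Category.assoc, ← hβ]
        exact (isPullback_tensor R A (B y)).w)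
  have hm : ∀ y, IsPullback (m y) (Spec.map (CommRingCat.ofHom
      (Algebra.TensorProduct.includeRight.toRingHom : B y →+* A ⊗[R] B y))) Q (jB y) := by
    intro y
    refine IsPullback.of_right ?_ (hQ.lift_snd _ _ _) hQ
    simp only [m, hQ.lift_fst, ← hβ]
    exact isPullback_tensor R A (B y)
  have hopen : ∀ y, IsOpenImmersion (m y) := fun y =>
    MorphismProperty.of_isPullback (hm y).flip (hjB y)
  have hcov : ∀ p, ∃ y, p ∈ Set.range (m y) := by
    intro p
    refine ⟨Q p, ?_⟩
    obtain ⟨b, hb⟩ := hmem (Q p)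
    obtain ⟨z, hz, -⟩ := Scheme.Pullback.exists_preimage_pullback (f := Q) (g := jB (Q p)) p b hb.symm
    exact ⟨(hm (Q p)).isoPullback.inv z, by
      rw [← Scheme.Hom.comp_apply, (hm (Q p)).isoPullback_inv_fst, hz]⟩
  choose idx hidx using hcov
  let 𝒰 : (pullback (g ≫ t) f).AffineOpenCover :=
    { I₀ := ↑(pullback f s)
      X := fun y => CommRingCat.of (A ⊗[R] B y)
      f := m
      idx := idx
      covers := hidx
      map_prop := hopen }
  apply (IsZariskiLocalAtTarget.iff_of_openCover (P := MorphismProperty.isomorphisms Scheme.{u})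
    𝒰.openCover).mpr
  intro y
  let : ∀ i, Algebra R (D i) := fun i => ((φ i).hom.comp α.hom).toAlgebra
  let φ' : ∀ i, A →ₐ[R] D i := fun i => AlgHom.mk (φ i).hom fun _ => rfl
  have := hproj y
  show IsIso (pullback.snd e (m y))
  refine isIso_of_jointly_injective _ (fun i => CommRingCat.of (D i ⊗[R] B y))
    (fun i => CommRingCat.ofHom (Algebra.TensorProduct.map (φ' i) (AlgHom.id R (B y))).toRingHom)
    (fun c hc => tensor_jointly_injective _ φ' hinj c hc) fun i => ?_
  obtain ⟨l, hl⟩ := h i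
  set χ := CommRingCat.ofHom (Algebra.TensorProduct.map (φ' i) (AlgHom.id R (B y))).toRingHom
  let inL : D i ⟶ CommRingCat.of (D i ⊗[R] B y) :=
    CommRingCat.ofHom Algebra.TensorProduct.includeLeftRingHom
  let ρ : Spec (CommRingCat.of (D i ⊗[R] B y)) ⟶ pullback ((Spec.map (φ i) ≫ g) ≫ t) f :=
    pullback.lift (Spec.map inL) (Spec.map χ ≫ m y ≫ pullback.snd (g ≫ t) f) (by
      simp only [Category.assoc, ← pullback.condition]
      simp only [m, hQ.lift_fst_assoc, ← Spec.map_comp_assoc]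
      congr 2)
  have hρ : ρ ≫ mapT t f (Spec.map (φ i)) g = Spec.map χ ≫ m y := by
    apply pullback.hom_ext
    · simp only [ρ, Category.assoc, mapT_fst, pullback.lift_fst_assoc, m, hQ.lift_fst,
        ← Spec.map_comp]
      congr 1
    · simp [ρ]
  refine ⟨pullback.lift (pullback.lift (Spec.map χ ≫ m y) (ρ ≫ l) ?_) (Spec.map χ) ?_,
    pullback.lift_snd _ _ _⟩
  · rw [Category.assoc ρ, hl, hM, ← mapT_mapX, ← Category.assoc ρ, hρ]
  · rw [he, pullback.lift_fst]

open Classical in
/-- On an affine open of `X` over a base with locally projective `f`, landing is cut out by an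
ideal. -/
theorem hasMin_lands {S X Y W : Scheme.{u}} (t : X ⟶ S) (f : Y ⟶ S)
    (j : W ⟶ pullback t f) [IsClosedImmersion j] {R : CommRingCat.{u}} (s : Spec R ⟶ S)
    (hY : ProjCover f s) (U : X.affineOpens) (α : R ⟶ Γ(X, U))
    (hU : U.2.fromSpec ≫ t = Spec.map α ≫ s) : H8Locus.HasMin (Lands t f j) U := by
  have hP := good_lands t f j
  let 𝒜 : Set (Ideal Γ(X, U)) :=
    {a | Lands t f j (Spec.map (CommRingCat.ofHom (Ideal.Quotient.mk a)) ≫ U.2.fromSpec)}
  have hcond : ∀ {C : CommRingCat.{u}} (χ : Γ(X, U) ⟶ C),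
      (Spec.map χ ≫ U.2.fromSpec) ≫ t = Spec.map (α ≫ χ) ≫ s := fun χ => by
    rw [Category.assoc, hU, Spec.map_comp_assoc]
  have hmem : Lands t f j
      (Spec.map (CommRingCat.ofHom (Ideal.Quotient.mk (sInf 𝒜))) ≫ U.2.fromSpec) := by
    refine lands_of_jointly_injective t f j s hY _ _ (hcond _)
      (fun a : 𝒜 => CommRingCat.of (Γ(X, U) ⧸ a.1))
      (fun a => CommRingCat.ofHom (Ideal.Quotient.factor (sInf_le a.2))) (fun x hx => ?_)
      fun a => ?_
    · obtain ⟨x, rfl⟩ := Ideal.Quotient.mk_surjective x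
      refine Ideal.Quotient.eq_zero_iff_mem.mpr (Submodule.mem_sInf.mpr fun a ha => ?_)
      exact Ideal.Quotient.eq_zero_iff_mem.mp (hx ⟨a, ha⟩)
    · rw [← Category.assoc, ← Spec.map_comp, ← CommRingCat.ofHom_comp,
        Ideal.Quotient.factor_comp_mk]
      exact a.2
  refine ⟨sInf 𝒜, fun C χ => ⟨fun h => sInf_le ?_, fun h => ?_⟩⟩
  · refine lands_of_jointly_injective t f j s hY _ _ (hcond _) (fun _ : PUnit.{u+1} => C)
      (fun _ => CommRingCat.ofHom (RingHom.kerLift χ.hom)) (fun x hx => ?_) fun _ => ?_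
    · exact RingHom.kerLift_injective χ.hom (by rw [map_zero]; exact hx ⟨⟩)
    · rw [← Category.assoc, ← Spec.map_comp]
      exact h
  · have e : χ = CommRingCat.ofHom (Ideal.Quotient.mk (sInf 𝒜)) ≫
        CommRingCat.ofHom (Ideal.Quotient.lift (sInf 𝒜) χ.hom h) := by
      ext x
      exact (Ideal.Quotient.lift_mk (sInf 𝒜) χ.hom h).symm
    rw [e, Spec.map_comp, Category.assoc]
    exact hP.comp _ hmem

/-- Locally on `S`, the morphism `f` is covered by affines with projective rings. -/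
def LocProj {S Y : Scheme.{u}} (f : Y ⟶ S) : Prop :=
  ∀ p : S, ∃ (R : CommRingCat.{u}) (s : Spec R ⟶ S),
    IsOpenImmersion s ∧ p ∈ Set.range s ∧ ProjCover f s

/-- Weil restriction of a closed subscheme. -/
theorem exists_restrict {S : Scheme.{u}} {X : Over S} {Y W : Scheme.{u}} (f : Y ⟶ S)
    (hf : LocProj f) (j : W ⟶ pullback X.hom f) [IsClosedImmersion j] :
    ∃ (Z : Over S) (i : Z ⟶ X), IsClosedImmersion i.left ∧
      ∀ (T : Over S) (x : T ⟶ X), Lands X.hom f j x.left ↔ ∃ z : T ⟶ Z, z ≫ i = x := by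
  refine H8Locus.exists_closedImmersion_over (good_lands X.hom f j) fun x => ?_
  obtain ⟨R, s, hs, hx, hY⟩ := hf (X.hom x)
  obtain ⟨_, ⟨U, hU, rfl⟩, hxU, hle⟩ := X.left.isBasis_affineOpens.exists_subset_of_mem_open
    (show x ∈ X.hom ⁻¹ᵁ s.opensRange from hx) (X.hom ⁻¹ᵁ s.opensRange).isOpen
  have hr : Set.range (hU.fromSpec ≫ X.hom) ⊆ Set.range s := by
    rintro _ ⟨q, rfl⟩
    have : hU.fromSpec q ∈ (U : Set X.left) := by rw [← hU.range_fromSpec]; exact ⟨q, rfl⟩
    exact hle this
  refine ⟨⟨U, hU⟩, hxU, hasMin_lands X.hom f j s hY ⟨U, hU⟩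
    (Spec.preimage (IsOpenImmersion.lift s _ hr)) ?_⟩
  rw [Spec.map_preimage]
  exact (IsOpenImmersion.lift_fac _ _ _).symm

section Field

/-- Over a field everything is locally projective. -/
theorem locProj_field {k : Type u} [Field k] {Y : Scheme.{u}} (f : Y ⟶ Spec (CommRingCat.of k)) :
    LocProj f := by
  intro p
  refine ⟨CommRingCat.of k, 𝟙 _, inferInstance, ⟨p, rfl⟩, fun y => ?_⟩
  let 𝒰 := (pullback f (𝟙 (Spec (CommRingCat.of k)))).affineOpenCover
  refine ⟨𝒰.X (𝒰.idx y), 𝒰.f (𝒰.idx y), Spec.preimage (𝒰.f (𝒰.idx y) ≫ pullback.snd _ _),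
    inferInstance, 𝒰.covers y, Spec.map_preimage _, ?_⟩
  let : Algebra k (𝒰.X (𝒰.idx y)) :=
    (Spec.preimage (𝒰.f (𝒰.idx y) ≫ pullback.snd _ _)).hom.toAlgebra
  exact (inferInstance : Module.Projective k (𝒰.X (𝒰.idx y)))

end Field

end Groth.Agent.H8Weil
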