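import Mathlib
import Groth.Agent.Lib.H8Weil

/-!
# Loci of coincidence of morphisms of families
-/

set_option autoImplicit false

universe u

open CategoryTheory Limits AlgebraicGeometry MonoidalCategory CartesianMonoidalCategory

namespace Groth.Agent.H8Coincidence

variable {S : Scheme.{u}} {X Y Z : Over S}

/-- The pair `(a, b)` as a morphism to the self-product of `Z`. -/
noncomputable def pair (a b : X ⊗ Y ⟶ Z) : (X ⊗ Y).left ⟶ pullback Z.hom Z.hom :=
  pullback.lift a.left b.left ((Over.w a).trans (Over.w b).symm)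

/-- The subscheme of coincidence of `a` and `b`. -/
noncomputable def eqLocus (a b : X ⊗ Y ⟶ Z) :
    pullback (pair a b) (pullback.diagonal Z.hom) ⟶ (X ⊗ Y).left :=
  pullback.fst _ _

lemma factors_iff (a b : X ⊗ Y ⟶ Z) {U : Scheme.{u}} (h : U ⟶ (X ⊗ Y).left) :
    (∃ l, l ≫ eqLocus a b = h) ↔ h ≫ a.left = h ≫ b.left := by
  constructor
  · rintro ⟨l, rfl⟩
    have e := pullback.condition (f := pair a b) (g := pullback.diagonal Z.hom)
    have e1 := congrArg (fun q => l ≫ q ≫ pullback.fst Z.hom Z.hom) e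
    have e2 := congrArg (fun q => l ≫ q ≫ pullback.snd Z.hom Z.hom) e
    simp only [pair, Category.assoc, pullback.lift_fst, pullback.lift_snd, pullback.diagonal_fst,
      pullback.diagonal_snd] at e1 e2
    simp only [eqLocus, pair, Category.assoc]
    exact e1.trans e2.symm
  · intro e
    exact ⟨pullback.lift h (h ≫ a.left) (by
      apply pullback.hom_ext
      · simp only [pair, Category.assoc, pullback.lift_fst, pullback.diagonal_fst, Category.comp_id]
      · simp only [pair, Category.assoc, pullback.lift_snd, pullback.diagonal_snd, Category.comp_id, e]),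
      pullback.lift_fst _ _ _⟩

/-- Closedness when the target is separated. -/
lemma isClosedImmersion_eqLocus [IsSeparated Z.hom] (a b : X ⊗ Y ⟶ Z) :
    IsClosedImmersion (eqLocus a b) :=
  inferInstanceAs (IsClosedImmersion (pullback.fst _ _))

set_option backward.defeqAttrib.useBackward true in
set_option backward.isDefEq.respectTransparency false in
/-- The locus of points of `X` over which `a` and `b` agree. -/
theorem exists_locus (hY : H8Weil.LocProj Y.hom) (a b : X ⊗ Y ⟶ Z)
    [IsClosedImmersion (eqLocus a b)] :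
    ∃ (F : Over S) (i : F ⟶ X), IsClosedImmersion i.left ∧
      ∀ (T : Over S) (x : T ⟶ X),
        (x ▷ Y) ≫ a = (x ▷ Y) ≫ b ↔ ∃ z : T ⟶ F, z ≫ i = x := by
  obtain ⟨F, i, hi, hF⟩ := H8Weil.exists_restrict (X := X) Y.hom hY
    (eqLocus a b : _ ⟶ pullback X.hom Y.hom)
  refine ⟨F, i, hi, fun T x => ?_⟩
  rw [← hF T x]
  let T₁ : Over S := Over.mk (x.left ≫ X.hom)
  let e : T₁ ⟶ T := Over.homMk (𝟙 _) (by simp [T₁])
  let e' : T ⟶ T₁ := Over.homMk (𝟙 _) (by simp [T₁])
  have hx : e' ≫ (e ≫ x) = x := by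
    rw [← Category.assoc, show e' ≫ e = 𝟙 T from Over.OverMorphism.ext (Category.comp_id _)]
    exact Category.id_comp x
  have hm : ((e ≫ x) ▷ Y).left = H8Weil.mapX X.hom Y.hom x.left := by
    apply pullback.hom_ext
    · have : ((e ≫ x) ▷ Y).left ≫ (fst X Y).left = (fst T₁ Y).left ≫ (e ≫ x).left := by
        rw [← Over.comp_left, whiskerRight_fst, Over.comp_left]
      refine this.trans ?_
      rw [H8Weil.mapX_fst]
      simp [e]
      rfl
    · have : ((e ≫ x) ▷ Y).left ≫ (snd X Y).left = (snd T₁ Y).left := by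
        rw [← Over.comp_left, whiskerRight_snd]
      refine this.trans ?_
      rw [H8Weil.mapX_snd]
      rfl
  constructor
  · intro h
    refine (factors_iff a b _).mpr ?_
    have h1 : ((e ≫ x) ▷ Y) ≫ a = ((e ≫ x) ▷ Y) ≫ b := by
      rw [comp_whiskerRight, Category.assoc, Category.assoc, h]
    have := congrArg Over.Hom.left h1
    rw [Over.comp_left, Over.comp_left, hm] at this
    exact this
  · intro h
    have h0 := (factors_iff a b _).mp h
    rw [← hm] at h0
    have h1 : ((e ≫ x) ▷ Y) ≫ a = ((e ≫ x) ▷ Y) ≫ b := Over.OverMorphism.ext h0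
    rw [← hx, comp_whiskerRight, Category.assoc, Category.assoc, h1]

/-- Pointwise form of agreement. -/
lemma agree_iff (a b : X ⊗ Y ⟶ Z) {T : Over S} (x : T ⟶ X) :
    (x ▷ Y) ≫ a = (x ▷ Y) ≫ b ↔ ∀ (T' : Over S) (t : T' ⟶ T) (g : T' ⟶ Y),
      lift (t ≫ x) g ≫ a = lift (t ≫ x) g ≫ b := by
  refine ⟨fun h T' t g => ?_, fun h => ?_⟩
  · have := congrArg (fun q => lift t g ≫ q) h
    simpa only [← Category.assoc, lift_whiskerRight] using this
  · have := h _ (fst T Y) (snd T Y)
    have e : lift (fst T Y ≫ x) (snd T Y) = x ▷ Y := by ext <;> simp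
    rwa [e] at this

/-- The same, with the factors in the other order. -/
theorem exists_locus' (hY : H8Weil.LocProj Y.hom) (a b : Y ⊗ X ⟶ Z)
    [IsClosedImmersion (eqLocus ((β_ X Y).hom ≫ a) ((β_ X Y).hom ≫ b))] :
    ∃ (F : Over S) (i : F ⟶ X), IsClosedImmersion i.left ∧
      ∀ (T : Over S) (x : T ⟶ X),
        (Y ◁ x) ≫ a = (Y ◁ x) ≫ b ↔ ∃ z : T ⟶ F, z ≫ i = x := by
  obtain ⟨F, i, hi, hF⟩ := exists_locus hY ((β_ X Y).hom ≫ a) ((β_ X Y).hom ≫ b)
  refine ⟨F, i, hi, fun T x => ?_⟩
  rw [← hF T x, BraidedCategory.braiding_naturality_left_assoc,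
    BraidedCategory.braiding_naturality_left_assoc]
  exact (cancel_epi (β_ T Y).hom).symm

/-- Pointwise form of agreement, other order. -/
lemma agree_iff' (a b : Y ⊗ X ⟶ Z) {T : Over S} (x : T ⟶ X) :
    (Y ◁ x) ≫ a = (Y ◁ x) ≫ b ↔ ∀ (T' : Over S) (t : T' ⟶ T) (g : T' ⟶ Y),
      lift g (t ≫ x) ≫ a = lift g (t ≫ x) ≫ b := by
  refine ⟨fun h T' t g => ?_, fun h => ?_⟩
  · have := congrArg (fun q => lift g t ≫ q) h
    simpa only [← Category.assoc, lift_whiskerLeft] using this
  · have := h _ (snd Y T) (fst Y T)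
    have e : lift (fst Y T) (snd Y T ≫ x) = Y ◁ x := by ext <;> simp
    rwa [e] at this

open TopologicalSpace in
/-- If every open is stable, the coincidence locus with the projection is closed. -/
lemma isClosedImmersion_eqLocus_fst (a : X ⊗ Y ⟶ X)
    (hstab : ∀ U : X.left.Opens, (fst X Y).left ⁻¹ᵁ U ≤ a.left ⁻¹ᵁ U) :
    IsClosedImmersion (eqLocus a (fst X Y)) := by
  apply (IsZariskiLocalAtTarget.iff_of_iSup_eq_top (P := @IsClosedImmersion)
    (fun U : X.left.affineOpens => (fst X Y).left ⁻¹ᵁ U.1) ?_).mpr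
  · intro U
    let P : (X ⊗ Y).left.Opens := (fst X Y).left ⁻¹ᵁ U.1
    have : IsAffine (U.1 : Scheme) := U.2
    -- restricted maps into the separated `U`
    let a' : (P : Scheme) ⟶ U.1 := IsOpenImmersion.lift U.1.ι (P.ι ≫ a.left) (by
      rw [Scheme.Opens.range_ι]
      rintro _ ⟨p, rfl⟩
      exact hstab U.1 p.2)
    let b' : (P : Scheme) ⟶ U.1 := IsOpenImmersion.lift U.1.ι (P.ι ≫ (fst X Y).left) (by
      rw [Scheme.Opens.range_ι]
      rintro _ ⟨p, rfl⟩
      exact p.2)
    have ha : a' ≫ U.1.ι = P.ι ≫ a.left := IsOpenImmersion.lift_fac _ _ _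
    have hb : b' ≫ U.1.ι = P.ι ≫ (fst X Y).left := IsOpenImmersion.lift_fac _ _ _
    have : IsSeparated (U.1.ι ≫ X.hom) := inferInstance
    let q : (P : Scheme) ⟶ pullback (U.1.ι ≫ X.hom) (U.1.ι ≫ X.hom) := pullback.lift a' b' (by
      rw [← Category.assoc, ha, ← Category.assoc, hb, Category.assoc, Category.assoc, Over.w a,
        Over.w (fst X Y)])
    let j := pullback.fst q (pullback.diagonal (U.1.ι ≫ X.hom))
    have hj : IsClosedImmersion j := inferInstance
    let E := eqLocus a (fst X Y) ∣_ P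
    have hcond := pullback.condition (f := q) (g := pullback.diagonal (U.1.ι ≫ X.hom))
    have hja : j ≫ a' = j ≫ b' := by
      have e1 := congrArg (· ≫ pullback.fst _ _) hcond
      have e2 := congrArg (· ≫ pullback.snd _ _) hcond
      simp only [q, Category.assoc, pullback.lift_fst, pullback.lift_snd, pullback.diagonal_fst,
        pullback.diagonal_snd] at e1 e2
      exact e1.trans e2.symm
    have hE : E ≫ a' = E ≫ b' := by
      rw [← cancel_mono U.1.ι, Category.assoc, Category.assoc, ha, hb, ← Category.assoc,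
        ← Category.assoc, morphismRestrict_ι, Category.assoc, Category.assoc]
      congr 1
      exact (factors_iff a (fst X Y) _).mp ⟨𝟙 _, Category.id_comp _⟩
    obtain ⟨l, hl⟩ : ∃ l, l ≫ eqLocus a (fst X Y) = j ≫ P.ι := by
      refine (factors_iff a (fst X Y) _).mpr ?_
      rw [Category.assoc, Category.assoc, ← ha, ← hb, reassoc_of% hja]
    have hE' : Mono (eqLocus a (fst X Y)) := inferInstanceAs (Mono (pullback.fst _ _))
    have hsq := isPullback_morphismRestrict (eqLocus a (fst X Y)) P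
    let u := hsq.lift j l (by rw [hl])
    let v : _ ⟶ pullback q (pullback.diagonal (U.1.ι ≫ X.hom)) :=
      pullback.lift E (E ≫ a') (by
        apply pullback.hom_ext
        · simp only [q, Category.assoc, pullback.lift_fst, pullback.diagonal_fst, Category.comp_id]
        · simp only [q, Category.assoc, pullback.lift_snd, pullback.diagonal_snd, Category.comp_id, hE])
    have hu : u ≫ E = j := hsq.lift_fst _ _ _
    have hv : v ≫ j = E := pullback.lift_fst _ _ _
    have : Mono E := MorphismProperty.of_isPullback (P := MorphismProperty.monomorphisms Scheme.{u})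
      hsq.flip hE'
    have : IsIso v := ⟨u, (cancel_mono E).mp (by rw [Category.assoc, hu, hv, Category.id_comp]),
      (cancel_mono j).mp (by rw [Category.assoc, hv, hu, Category.id_comp])⟩
    show IsClosedImmersion E
    rw [← hv]
    infer_instance
  · refine TopologicalSpace.Opens.ext (Set.eq_univ_of_forall fun p => ?_)
    obtain ⟨_, ⟨U, hU, rfl⟩, hpU, -⟩ := X.left.isBasis_affineOpens.exists_subset_of_mem_open
      (Set.mem_univ ((fst X Y).left p)) isOpen_univ
    exact Opens.mem_iSup.mpr ⟨⟨U, hU⟩, hpU⟩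

set_option backward.isDefEq.respectTransparency false in
/-- Affine preimages with projective rings give local projectivity. -/
theorem locProj_of_affine {S Y : Scheme.{u}} (f : Y ⟶ S)
    (h : ∀ p : S, ∃ U : S.affineOpens, p ∈ U.1 ∧ IsAffineOpen (f ⁻¹ᵁ U.1) ∧
      (letI := (f.app U.1).hom.toAlgebra; Module.Projective Γ(S, U.1) Γ(Y, f ⁻¹ᵁ U.1))) :
    H8Weil.LocProj f := by
  intro p
  obtain ⟨U, hp, hV, hproj⟩ := h p
  refine ⟨Γ(S, U.1), U.2.fromSpec, U.2.isOpenImmersion_fromSpec,
    U.2.range_fromSpec.symm ▸ hp, fun y => ?_⟩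
  have : IsOpenImmersion U.2.fromSpec := U.2.isOpenImmersion_fromSpec
  have : IsOpenImmersion hV.fromSpec := hV.isOpenImmersion_fromSpec
  have h1 : Spec.map (f.app U.1) ≫ U.2.fromSpec = hV.fromSpec ≫ f := by
    rw [← IsAffineOpen.SpecMap_appLE_fromSpec f U.2 hV le_rfl, Scheme.Hom.app_eq_appLE]
  let jB : Spec Γ(Y, f ⁻¹ᵁ U.1) ⟶ pullback f U.2.fromSpec :=
    pullback.lift hV.fromSpec (Spec.map (f.app U.1)) h1.symm
  have hfst : jB ≫ pullback.fst f U.2.fromSpec = hV.fromSpec := pullback.lift_fst _ _ _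
  have : IsOpenImmersion (jB ≫ pullback.fst f U.2.fromSpec) := hfst ▸ hV.isOpenImmersion_fromSpec
  have hjB : IsOpenImmersion jB := IsOpenImmersion.of_comp jB (pullback.fst f U.2.fromSpec)
  refine ⟨_, jB, f.app U.1, hjB, ?_, (pullback.lift_snd _ _ _).symm, hproj⟩
  have hy : pullback.fst f U.2.fromSpec y ∈ f ⁻¹ᵁ U.1 := by
    show f (pullback.fst f U.2.fromSpec y) ∈ (U.1 : Set S)
    rw [← Scheme.Hom.comp_apply, pullback.condition, Scheme.Hom.comp_apply, ← U.2.range_fromSpec]
    exact ⟨_, rfl⟩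
  rw [← SetLike.mem_coe, ← hV.range_fromSpec] at hy
  obtain ⟨b, hb⟩ := hy
  refine ⟨b, (pullback.fst f U.2.fromSpec).isOpenEmbedding.injective ?_⟩
  rw [← Scheme.Hom.comp_apply, hfst]
  exact hb

/-- Finite flat morphisms of finite presentation are locally projective. -/
theorem locProj_of_finite_flat {S Y : Scheme.{u}} (f : Y ⟶ S) [IsFinite f] [Flat f]
    [LocallyOfFinitePresentation f] : H8Weil.LocProj f := by
  refine locProj_of_affine f fun p => ?_
  obtain ⟨_, ⟨U, hU, rfl⟩, hpU, -⟩ :=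
    S.isBasis_affineOpens.exists_subset_of_mem_open (Set.mem_univ p) isOpen_univ
  refine ⟨⟨U, hU⟩, hpU, hU.preimage f, ?_⟩
  letI := (f.app U).hom.toAlgebra
  have h2 : (f.app U).hom.Flat := by
    rw [Scheme.Hom.app_eq_appLE]; exact f.flat_appLE hU (hU.preimage f) le_rfl
  have h3 : (f.app U).hom.FinitePresentation := by
    rw [Scheme.Hom.app_eq_appLE]; exact f.finitePresentation_appLE hU (hU.preimage f) le_rfl
  have : Module.Flat Γ(S, U) Γ(Y, f ⁻¹ᵁ U) := h2
  have : Module.Finite Γ(S, U) Γ(Y, f ⁻¹ᵁ U) := f.finite_app U hU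
  have : Algebra.FinitePresentation Γ(S, U) Γ(Y, f ⁻¹ᵁ U) := h3
  have := Module.FinitePresentation.of_finite_of_finitePresentation (R := Γ(S, U))
    (S := Γ(Y, f ⁻¹ᵁ U))
  exact Module.Flat.projective_of_finitePresentation

end Groth.Agent.H8Coincidence
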