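import Mathlib
import Groth.Prelude.Def_SixF1
import Groth.Agent.Lib.H5KInjApps
import Groth.Agent.Lib.LEtPullExactAb

/-! The composition morphism of unbounded derived direct images is an isomorphism. -/

set_option autoImplicit false
universe u
open CategoryTheory Category Limits AlgebraicGeometry
attribute [local instance] HasDerivedCategory.standard

noncomputable section

namespace Groth.Agent.H8CompMapIso

open H5KApps

theorem result {X Y Z : Scheme.{u}} (f : X ⟶ Y) (g : Y ⟶ Z)
    [DCoh.HasRpushEt X f] [DCoh.HasRpushEt Y g] [DCoh.HasRpushEt X (f ≫ g)] :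
    IsIso (EtSix.compMap f g) := by
  have RX := resolving_Qh (A := EtCoh.Ab X) enoughKInj_of_grothendieck
  have RY := resolving_Qh (A := EtCoh.Ab Y) enoughKInj_of_grothendieck
  have hu : ∀ {W W' : Scheme.{u}} (h : W ⟶ W') [DCoh.HasRpushEt W h]
      (R : Resolving (DerivedCategory.Qh (C := EtCoh.Ab W)) kInjObj) (I), kInjObj I →
      IsIso (((DCoh.pushEtKh W h).totalRightDerivedUnit DerivedCategory.Qh
        (HomotopyCategory.quasiIso (EtCoh.Ab W) (ComplexShape.up ℤ))).app I) := fun h _ R I hI =>
    (R.isRightDerived_iff (compat_Qh _) (HomotopyCategory.quasiIso (EtCoh.Ab _) (ComplexShape.up ℤ))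
      (DCoh.RpushEt _ h) _).1 inferInstance I hI
  haveI : PreservesFiniteLimits (EtCoh.pull f) := LEtPullExactAb.preservesFiniteLimits_pull f
  haveI := (EtCoh.pullPushAdj f).leftAdjoint_preservesColimits
  haveI : (EtCoh.pull f).Additive := (EtCoh.pullPushAdj f).left_adjoint_additive
  haveI : IsIso (NatTrans.mapHomotopyCategory (EtCoh.pushComp g f).inv (ComplexShape.up ℤ)) :=
    ⟨NatTrans.mapHomotopyCategory (EtCoh.pushComp g f).hom (ComplexShape.up ℤ),
      by rw [← NatTrans.mapHomotopyCategory_comp, Iso.inv_hom_id, NatTrans.mapHomotopyCategory_id],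
      by rw [← NatTrans.mapHomotopyCategory_comp, Iso.hom_inv_id, NatTrans.mapHomotopyCategory_id]⟩
  have key : ∀ I, kInjObj I → IsIso ((EtSix.compMap f g).app (DerivedCategory.Qh.obj I)) := by
    intro I hI
    haveI := hu f RX I hI
    haveI := hu (f ≫ g) RX I hI
    have hI' : kInjObj (((EtCoh.push f).mapHomotopyCategory (ComplexShape.up ℤ)).obj I) := by
      obtain ⟨K, hK, rfl⟩ := hI
      exact ⟨((EtCoh.push f).mapHomologicalComplex (ComplexShape.up ℤ)).obj K,
        isKInjective_map_rightAdjoint (EtCoh.pullPushAdj f) K hK, rfl⟩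
    haveI := hu g RY _ hI'
    haveI : IsIso ((EtSix.compUnit f g).app I) := by
      unfold EtSix.compUnit
      simp only [NatTrans.comp_app, Functor.whiskerRight_app, Functor.whiskerLeft_app, Functor.associator_hom_app,
        Functor.associator_inv_app]
      infer_instance
    exact IsIso.of_isIso_fac_left ((DCoh.RpushEt X (f ≫ g)).rightDerived_fac_app
      ((DCoh.pushEtKh X (f ≫ g)).totalRightDerivedUnit DerivedCategory.Qh
        (HomotopyCategory.quasiIso (EtCoh.Ab X) (ComplexShape.up ℤ)))
      (HomotopyCategory.quasiIso (EtCoh.Ab X) (ComplexShape.up ℤ))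
      (DCoh.RpushEt X f ⋙ DCoh.RpushEt Y g) (EtSix.compUnit f g) I)
  haveI : ∀ K, IsIso ((EtSix.compMap f g).app K) := fun K =>
    (NatTrans.isIso_app_iff_of_iso _ (RX.resIso K)).1 (key _ (RX.res_mem K))
  exact NatIso.isIso_of_isIso_app _

end Groth.Agent.H8CompMapIso
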