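import Mathlib
import Groth.Prelude.Def_SGA3b
import Groth.Agent.S0534
import Groth.Agent.S9436
import Groth.Agent.Lib.H2FlatUnramEtale
import Groth.Agent.Lib.H8MultCore
import Groth.Agent.Lib.H8Mult
import Groth.Agent.Lib.H8MultGL
import Groth.Agent.Lib.H8MultAdic

/-!
# Finite étale algebras lift along complete pairs
-/

set_option autoImplicit false
set_option linter.all false

universe u

open TensorProduct

namespace Groth.Agent.H8CompleteEtale

open H8MultCore H8Mult H8MultGL H8MultAdic

variable {A : Type u} [CommRing A] (I : Ideal A)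

/-- A map from a module to a flat module bijective mod `I` is bijective mod every power of `I`. -/
lemma modBij_pow {P S : Type u} [AddCommGroup P] [Module A P] [AddCommGroup S] [Module A S] [Module.Flat A S]
    (θ : P →ₗ[A] S) (h : ModBij I θ) (n : ℕ) : ModBij (I ^ n) θ := by
  let Rn := A ⧸ I ^ n
  let I' : Ideal Rn := I.map (algebraMap A Rn)
  have hI' : IsNilpotent I' := ⟨n, by
    rw [← Ideal.map_pow, Ideal.zero_eq_bot, Ideal.Quotient.algebraMap_eq, Ideal.map_quotient_self]⟩
  have hm : ModBij I' (θ.baseChange Rn) := by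
    obtain ⟨h1, h2⟩ := h.lTensor Rn
    refine ⟨fun x hx => (mem_map_smul_top I _).mpr (h1 x ((mem_map_smul_top I _).mp hx)), fun y => ?_⟩
    obtain ⟨x, hx⟩ := h2 y
    exact ⟨x, (mem_map_smul_top I _).mpr hx⟩
  exact ModBij.of_bijective θ (hm.bijective hI')

variable [IsNoetherianRing A] [IsAdicComplete I A]

/-- Finite étale algebras lift along complete Noetherian pairs. -/
theorem exists_finite_etale_lift (C : Type u) [CommRing C] [Algebra (A ⧸ I) C] [Module.Finite (A ⧸ I) C]
    [Algebra.Etale (A ⧸ I) C] :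
    ∃ (B : Type u) (_ : CommRing B) (_ : Algebra A B), Module.Finite A B ∧ Algebra.Etale A B ∧
      Nonempty ((A ⧸ I) ⊗[A] B ≃ₐ[A ⧸ I] C) := by
  classical
  haveI : Module.FinitePresentation (A ⧸ I) C := Module.FinitePresentation.of_finite_of_finitePresentation (A ⧸ I) C
  haveI : Module.Projective (A ⧸ I) C := Module.Flat.projective_of_finitePresentation
  obtain ⟨S, _, _, hS, ⟨e₂⟩⟩ := S9436.result A I C
  haveI := hS
  obtain ⟨P, _, _, hPfin, hPproj, ⟨e₁⟩⟩ := S0534.result A I C
  haveI := hPfin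
  haveI := hPproj
  let q : S →ₗ[A] (A ⧸ I) ⊗[A] S := TensorProduct.mk A (A ⧸ I) S 1
  have hq : Function.Surjective q := TensorProduct.mk_surjective A S (A ⧸ I) Ideal.Quotient.mk_surjective
  obtain ⟨θ, hθ⟩ := Module.projective_lifting_property q
    ((((e₁.trans e₂.symm.toLinearEquiv).restrictScalars A).toLinearMap) ∘ₗ TensorProduct.mk A (A ⧸ I) P 1) hq
  have hθt : θ.lTensor (A ⧸ I) = ((e₁.trans e₂.symm.toLinearEquiv).restrictScalars A).toLinearMap := by
    refine TensorProduct.ext' fun r p => ?_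
    rw [LinearMap.lTensor_tmul]
    obtain ⟨r, rfl⟩ := Ideal.Quotient.mk_surjective r
    have h1 : ∀ {X : Type u} [AddCommGroup X] [Module A X] (x : X),
        Ideal.Quotient.mk I r ⊗ₜ[A] x = r • ((1 : A ⧸ I) ⊗ₜ[A] x) := fun x => by
      rw [TensorProduct.smul_tmul', ← Algebra.algebraMap_eq_smul_one, Ideal.Quotient.algebraMap_eq]
    rw [h1, h1, map_smul]
    exact congrArg (r • ·) (LinearMap.congr_fun hθ p)
  have hbij : Function.Bijective (θ.lTensor (A ⧸ I)) := by
    rw [hθt]; exact ((e₁.trans e₂.symm.toLinearEquiv).restrictScalars A).bijective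
  have hmod := modBij_pow I θ (ModBij.of_bijective θ hbij)
  let N : Ideal S := ⨅ n : ℕ, (I ^ n).map (algebraMap A S)
  have hN : ∀ x, x ∈ N ↔ ∀ n : ℕ, x ∈ (I ^ n) • (⊤ : Submodule A S) := fun x => by
    simp only [N, Ideal.mem_iInf, mem_map_iff]
  let π : S →ₐ[A] S ⧸ N := Ideal.Quotient.mkₐ A N
  have hinj : ∀ p, π (θ p) = 0 → p = 0 := fun p hp =>
    finite_separated I P p fun n => (hmod n).1 p ((hN _).mp (Ideal.Quotient.eq_zero_iff_mem.mp hp) n)
  have hsurj : ∀ s, ∃ p, π (θ p) = π s := by
    intro s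
    choose p hp using fun n : ℕ => (hmod (n + 1)).2 s
    obtain ⟨L, hL⟩ := finite_complete I P p fun n => (hmod (n + 1)).1 _ (by
      rw [map_sub, show θ (p (n + 1)) - θ (p n) = (θ (p (n + 1)) - s) - (θ (p n) - s) by abel]
      exact sub_mem (smul_top_mono (Ideal.pow_le_pow_right (Nat.le_succ _)) (hp (n + 1))) (hp n))
    refine ⟨L, Ideal.Quotient.eq.mpr ((hN _).mpr fun n => smul_top_mono (Ideal.pow_le_pow_right n.le_succ) ?_)⟩
    have h1 := map_smul_top_mem _ θ (hL n)
    rw [map_sub] at h1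
    have := sub_mem (hp n) h1
    rwa [show θ (p n) - s - (θ (p n) - θ L) = θ L - s by abel] at this
  let θ' : P →ₗ[A] S ⧸ N := π.toLinearMap ∘ₗ θ
  have hθ' : Function.Bijective θ' := ⟨(injective_iff_map_eq_zero θ').mpr hinj, fun y => by
    obtain ⟨s, rfl⟩ := Ideal.Quotient.mkₐ_surjective A N y
    exact hsurj s⟩
  let E := LinearEquiv.ofBijective θ' hθ'
  haveI : Module.Finite A (S ⧸ N) := Module.Finite.equiv E
  haveI : Module.Projective A (S ⧸ N) := Module.Projective.of_equiv E
  haveI : Module.FinitePresentation A (S ⧸ N) := Module.finitePresentation_of_projective A (S ⧸ N)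
  haveI : Algebra.FormallyUnramified A (S ⧸ N) := Algebra.FormallyUnramified.of_surjective π Ideal.Quotient.mk_surjective
  haveI : Algebra.FormallyEtale A (S ⧸ N) := H2FlatUnramEtale.formallyEtale_of_flat_unramified
  haveI : Algebra.Etale A (S ⧸ N) :=
    { formallyEtale := inferInstance, finitePresentation := Algebra.FinitePresentation.of_finiteType.mp inferInstance }
  refine ⟨S ⧸ N, inferInstance, inferInstance, inferInstance, inferInstance, ⟨?_⟩⟩
  let f : (A ⧸ I) ⊗[A] S →ₐ[A ⧸ I] (A ⧸ I) ⊗[A] (S ⧸ N) := Algebra.TensorProduct.map (AlgHom.id _ _) π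
  have hf : Function.Bijective f := by
    have h2 : ⇑f ∘ ⇑(θ.lTensor (A ⧸ I)) = ⇑(θ'.lTensor (A ⧸ I)) := by
      funext z
      induction z using TensorProduct.induction_on with
      | zero => simp
      | tmul r p => rfl
      | add u v hu hv => simp only [Function.comp_apply, map_add] at hu hv ⊢; rw [hu, hv]
    have h3 : Function.Bijective (θ'.lTensor (A ⧸ I)) := (E.lTensor (A ⧸ I)).bijective
    rw [← h2] at h3
    exact (Function.Bijective.of_comp_iff _ hbij).mp h3
  exact (AlgEquiv.ofBijective f hf).symm.trans e₂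

end Groth.Agent.H8CompleteEtale
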