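import Mathlib

/-!
# The subring of a monoid algebra congruent to constants, and its invariant mean
-/

set_option autoImplicit false
set_option linter.all false

universe u

open MonoidAlgebra

namespace Groth.Agent.H8ConjRigidCore

variable {D : Type u} [CommRing D] (I : Ideal D) (M : Type) [AddCommGroup M]

/-- The extended ideal. -/
noncomputable def IA : Ideal (MonoidAlgebra D (Multiplicative M)) :=
  I.map (singleOneRingHom : D →+* MonoidAlgebra D (Multiplicative M))

variable {I M}

lemma coeff_mem_of_mem_IA {a : MonoidAlgebra D (Multiplicative M)} (ha : a ∈ IA I M) (m : Multiplicative M) :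
    a.coeff m ∈ I := by
  revert m
  refine Submodule.span_induction (p := fun a _ => ∀ m, a.coeff m ∈ I) ?_ ?_ ?_ ?_ ha
  · rintro _ ⟨d, hd, rfl⟩ m
    show ((single (1 : Multiplicative M) d).coeff m) ∈ I
    classical
    rw [coeff_single, Finsupp.single_apply]
    split
    · exact hd
    · exact zero_mem _
  · intro m; simp
  · intro x y _ _ hx hy m
    rw [coeff_add, Finsupp.add_apply]
    exact add_mem (hx m) (hy m)
  · intro c x _ hx
    rw [smul_eq_mul]
    induction c using MonoidAlgebra.induction_linear with
    | zero => intro m; simp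
    | add c₁ c₂ h₁ h₂ => intro m; rw [add_mul, coeff_add, Finsupp.add_apply]; exact add_mem (h₁ m) (h₂ m)
    | single n r =>
      intro m
      rw [coeff_single_mul_eq_mul_coeff (n⁻¹ * m) fun q _ => by rw [eq_inv_mul_iff_mul_eq]]
      exact Ideal.mul_mem_left _ _ (hx _)

lemma mem_IA_of_coeff {a : MonoidAlgebra D (Multiplicative M)} (ha : ∀ m, a.coeff m ∈ I) : a ∈ IA I M := by
  rw [← sum_coeff_single a]
  refine Ideal.sum_mem _ fun m _ => ?_
  have : single m (a.coeff m) = single m (1 : D) * single (1 : Multiplicative M) (a.coeff m) := by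
    rw [single_mul_single, _root_.mul_one, _root_.one_mul]
  show single m (a.coeff m) ∈ IA I M
  rw [this]
  exact Ideal.mul_mem_left _ _ (Ideal.mem_map_of_mem _ (ha m))

lemma IA_mul_IA (hI : I ^ 2 = ⊥) : IA I M * IA I M = ⊥ := by
  rw [IA, ← Ideal.map_mul, ← pow_two, hI, Ideal.map_bot]

lemma sub_const_mem {s : MonoidAlgebra D (Multiplicative M)} (hs : ∀ m, m ≠ 1 → s.coeff m ∈ I) :
    s - single 1 (s.coeff 1) ∈ IA I M := by
  classical
  refine mem_IA_of_coeff fun m => ?_
  rw [coeff_sub, Finsupp.sub_apply, coeff_single, Finsupp.single_apply]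
  by_cases hm : (1 : Multiplicative M) = m
  · subst hm; simp
  · rw [if_neg hm, sub_zero]; exact hs m (Ne.symm hm)

variable (I M)

/-- Elements congruent to constants. -/
noncomputable def S1 : Subring (MonoidAlgebra D (Multiplicative M)) where
  carrier := {s | ∀ m, m ≠ 1 → s.coeff m ∈ I}
  zero_mem' := fun m _ => by simp
  one_mem' := fun m hm => by
    classical
    rw [one_def, coeff_single, Finsupp.single_apply, if_neg (Ne.symm hm)]
    exact zero_mem _
  add_mem' := fun {a b} ha hb m hm => by
    rw [coeff_add, Finsupp.add_apply]; exact add_mem (ha m hm) (hb m hm)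
  neg_mem' := fun {a} ha m hm => by
    rw [coeff_neg, Finsupp.neg_apply]; exact neg_mem (ha m hm)
  mul_mem' := fun {a b} ha hb m hm => by
    classical
    have h : a * b - single (1 : Multiplicative M) (a.coeff 1 * b.coeff 1) ∈ IA I M := by
      have : a * b - single (1 : Multiplicative M) (a.coeff 1 * b.coeff 1) =
          (a - single 1 (a.coeff 1)) * b + single 1 (a.coeff 1) * (b - single 1 (b.coeff 1)) := by
        rw [sub_mul, mul_sub, single_mul_single, _root_.one_mul]
        abel
      rw [this]
      exact add_mem (Ideal.mul_mem_right _ _ (sub_const_mem ha)) (Ideal.mul_mem_left _ _ (sub_const_mem hb))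
    have := coeff_mem_of_mem_IA h m
    rwa [coeff_sub, Finsupp.sub_apply, coeff_single, Finsupp.single_apply, if_neg (Ne.symm hm), sub_zero] at this

/-- The constants. -/
noncomputable def cst : D →+* S1 I M :=
  (singleOneRingHom : D →+* MonoidAlgebra D (Multiplicative M)).codRestrict (S1 I M) fun d m hm => by
    classical
    show (single (1 : Multiplicative M) d).coeff m ∈ I
    rw [coeff_single, Finsupp.single_apply, if_neg (Ne.symm hm)]
    exact zero_mem _

lemma IA_le {a : MonoidAlgebra D (Multiplicative M)} (ha : a ∈ IA I M) : a ∈ S1 I M :=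
  fun m _ => coeff_mem_of_mem_IA ha m

/-- The invariant mean. -/
noncomputable def mean (hI : I ^ 2 = ⊥) : S1 I M →+* D where
  toFun s := (s : MonoidAlgebra D (Multiplicative M)).coeff 1
  map_zero' := by simp
  map_one' := by simp [one_def]
  map_add' s t := by simp [coeff_add]
  map_mul' s t := by
    classical
    show ((s : MonoidAlgebra D (Multiplicative M)) * (t : MonoidAlgebra D (Multiplicative M))).coeff 1 = _
    set a := (s : MonoidAlgebra D (Multiplicative M)) with ha
    set b := (t : MonoidAlgebra D (Multiplicative M)) with hb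
    have h0 : (a - single 1 (a.coeff 1)) * (b - single 1 (b.coeff 1)) = 0 := by
      have := Ideal.mul_mem_mul (sub_const_mem (I := I) (s := a) s.2) (sub_const_mem (I := I) (s := b) t.2)
      rwa [IA_mul_IA hI, Ideal.mem_bot] at this
    have : a * b = single 1 (a.coeff 1) * b + (a - single 1 (a.coeff 1)) * single 1 (b.coeff 1) := by
      linear_combination h0
    rw [this, coeff_add, Finsupp.add_apply, coeff_single_one_mul, mul_comm (a - _), coeff_single_one_mul, coeff_sub,
      Finsupp.sub_apply, coeff_single, Finsupp.single_eq_same, sub_self, mul_zero, _root_.add_zero]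

variable {I M}

lemma mean_cst (hI : I ^ 2 = ⊥) : (mean I M hI).comp (cst I M) = RingHom.id D :=
  RingHom.ext fun d => by simp [mean, cst]

lemma spec_surjective (hI : I ^ 2 = ⊥) : Function.Surjective (PrimeSpectrum.comap (S1 I M).subtype) := by
  classical
  intro p
  let π := mean I M hI
  have hπ : Function.Surjective π := fun d => ⟨cst I M d, DFunLike.congr_fun (mean_cst hI) d⟩
  have hker : RingHom.ker π ≤ p.asIdeal := by
    intro s hs
    have hs0 : (s : MonoidAlgebra D (Multiplicative M)).coeff 1 = 0 := hs
    have h1 := sub_const_mem (I := I) (s := (s : MonoidAlgebra D (Multiplicative M))) s.2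
    rw [hs0, single_zero, sub_zero] at h1
    refine p.isPrime.mem_of_pow_mem 2 ?_
    have : s ^ 2 = 0 := Subtype.ext (by
      have := Ideal.mul_mem_mul h1 h1
      rw [IA_mul_IA hI, Ideal.mem_bot] at this
      rw [pow_two]; exact this)
    rw [this]; exact zero_mem _
  let q : Ideal D := p.asIdeal.map π
  haveI : q.IsPrime := Ideal.map_isPrime_of_surjective hπ hker
  let ε : MonoidAlgebra D (Multiplicative M) →+* D :=
    (MonoidAlgebra.lift D D (Multiplicative M) (1 : Multiplicative M →* D)).toRingHom
  refine ⟨⟨q.comap ε, inferInstance⟩, PrimeSpectrum.ext (Ideal.ext fun s => ?_)⟩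
  show ε (s : MonoidAlgebra D (Multiplicative M)) ∈ q ↔ s ∈ p.asIdeal
  have hd : ε (s : MonoidAlgebra D (Multiplicative M)) - π s ∈ q := by
    have h1 := sub_const_mem (I := I) (s := (s : MonoidAlgebra D (Multiplicative M))) s.2
    have h2 : ε ((s : MonoidAlgebra D (Multiplicative M)) - single 1 (π s)) ∈ I := by
      refine (?_ : (IA I M).map ε ≤ I) (Ideal.mem_map_of_mem _ h1)
      rw [IA, Ideal.map_map, Ideal.map_le_iff_le_comap]
      intro d hd
      show ε (single (1 : Multiplicative M) d) ∈ I
      simpa [ε] using hd
    have h3 : ε (single (1 : Multiplicative M) (π s)) = π s := by simp [ε]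
    rw [map_sub, h3] at h2
    refine ‹q.IsPrime›.mem_of_pow_mem 2 ?_
    have : (ε (s : MonoidAlgebra D (Multiplicative M)) - π s) ^ 2 = 0 := by
      have := Ideal.mul_mem_mul h2 h2
      rw [← pow_two I, hI, Ideal.mem_bot] at this
      rw [pow_two]; exact this
    rw [this]; exact zero_mem _
  rw [show ε (s : MonoidAlgebra D (Multiplicative M)) ∈ q ↔ π s ∈ q from
    ⟨fun h => by simpa using q.sub_mem h hd, fun h => by simpa using q.add_mem hd h⟩]
  rw [Ideal.mem_map_iff_of_surjective _ hπ]
  refine ⟨?_, fun h => ⟨s, h, rfl⟩⟩
  rintro ⟨t, ht, hts⟩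
  have : s - t ∈ p.asIdeal := hker (by rw [RingHom.mem_ker, map_sub, hts, sub_self])
  simpa using p.asIdeal.add_mem this ht

variable {D' : Type u} [CommRing D'] {I' : Ideal D'} {M' : Type} [AddCommGroup M']
  (f : D →+* D') (F : MonoidAlgebra D (Multiplicative M) →+* MonoidAlgebra D' (Multiplicative M'))
  (hF : ∀ d, F (single 1 d) = single 1 (f d)) (hII : I.map f ≤ I')

include hF hII in
lemma map_mem {s : MonoidAlgebra D (Multiplicative M)} (hs : s ∈ S1 I M) : F s ∈ S1 I' M' := by
  have h1 : F (s - single 1 (s.coeff 1)) ∈ IA I' M' := by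
    refine (?_ : (IA I M).map F ≤ IA I' M') (Ideal.mem_map_of_mem _ (sub_const_mem hs))
    rw [IA, IA, Ideal.map_map, show F.comp singleOneRingHom = singleOneRingHom.comp f from RingHom.ext hF, ← Ideal.map_map]
    exact Ideal.map_mono hII
  rw [map_sub, hF] at h1
  have := (S1 I' M').add_mem (IA_le I' M' h1) (cst I' M' (f (s.coeff 1))).2
  simpa [cst] using this

/-- Functoriality. -/
noncomputable def S1map : S1 I M →+* S1 I' M' :=
  (F.comp (S1 I M).subtype).codRestrict (S1 I' M') fun s => map_mem f F hF hII s.2

lemma S1map_cst (d : D) : S1map f F hF hII (cst I M d) = cst I' M' (f d) := Subtype.ext (hF d)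

include hF in
lemma coeff_map (h1 : ∀ m, m ≠ 1 → (F (single m 1)).coeff 1 = 0) (a : MonoidAlgebra D (Multiplicative M)) :
    (F a).coeff 1 = f (a.coeff 1) := by
  classical
  induction a using MonoidAlgebra.induction_linear with
  | zero => simp
  | add a b ha hb => simp [coeff_add, ha, hb]
  | single m d =>
    by_cases hm : m = 1
    · subst hm; rw [hF]; simp
    · have : single m d = single 1 d * single m (1 : D) := by rw [single_mul_single, _root_.one_mul, _root_.mul_one]
      rw [this, map_mul, hF, coeff_single_one_mul, h1 m hm, mul_zero, ← this, coeff_single, Finsupp.single_apply, if_neg hm, map_zero]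

lemma mean_S1map (hI : I ^ 2 = ⊥) (hI' : I' ^ 2 = ⊥) (h1 : ∀ m, m ≠ 1 → (F (single m 1)).coeff 1 = 0) :
    (mean I' M' hI').comp (S1map f F hF hII) = f.comp (mean I M hI) :=
  RingHom.ext fun s => coeff_map f F hF h1 _

/-- Change of coefficients. -/
noncomputable abbrev lc {C : Type u} [CommRing C] (c : D' →+* C) (ψ : Multiplicative M' →* C) :
    MonoidAlgebra D' (Multiplicative M') →+* C :=
  liftNCRingHom c ψ fun _ _ => Commute.all _ _

/-- A group-like element of `D'[M']` which is sent to a nontrivial monomial has no constant term. -/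
lemma coeff_one_eq_zero_of_groupLike (χ : Multiplicative M →* MonoidAlgebra D' (Multiplicative M'))
    (hgl : ∀ (C : Type u) [CommRing C] (c : D' →+* C) (ψ ψ' : Multiplicative M' →* C) (m : Multiplicative M),
      lc c (ψ * ψ') (χ m) = lc c ψ (χ m) * lc c ψ' (χ m))
    (χ' : Multiplicative M' →* MonoidAlgebra D' (Multiplicative M))
    (hinv : ∀ m, lc singleOneRingHom χ' (χ m) = single m 1)
    (m : Multiplicative M) (hm : m ≠ 1) : (χ m).coeff 1 = 0 := by
  classical
  set e := (χ m).coeff 1 with he
  let a : Multiplicative M' →* MonoidAlgebra D' (Multiplicative M' × Multiplicative M') :=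
    { toFun := fun n => single (n, 1) 1
      map_one' := rfl
      map_mul' := fun x y => by rw [single_mul_single]; simp }
  let b : Multiplicative M' →* MonoidAlgebra D' (Multiplicative M' × Multiplicative M') :=
    { toFun := fun n => single (1, n) 1
      map_one' := rfl
      map_mul' := fun x y => by rw [single_mul_single]; simp }
  have h := hgl _ singleOneRingHom a b m
  have hcoef : ∀ (f : MonoidAlgebra D' (Multiplicative M')) (p q : Multiplicative M'),
      (lc singleOneRingHom (a * b) f).coeff (p, q) = if p = q then f.coeff p else 0 := by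
    intro f p q
    induction f using MonoidAlgebra.induction_linear with
    | zero => simp
    | add x y hx hy => rw [map_add, coeff_add, Finsupp.add_apply, hx, hy]; split <;> simp [coeff_add]
    | single n r =>
      rw [lc, liftNCRingHom_single]
      simp only [a, b, singleOneRingHom, RingHom.coe_mk, MonoidHom.coe_mk, OneHom.coe_mk, MonoidHom.mul_apply,
        single_mul_single, Prod.mk_mul_mk, _root_.one_mul, _root_.mul_one, AddMonoidHom.toFun_eq_coe,
        singleAddHom_apply, coeff_single, Finsupp.single_apply, Prod.mk.injEq]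
      by_cases hp : n = p <;> by_cases hq : n = q <;> simp_all [eq_comm]
  have hmul : ∀ (x y : MonoidAlgebra D' (Multiplicative M')) (p q : Multiplicative M'),
      (lc singleOneRingHom a x * lc singleOneRingHom b y).coeff (p, q) = x.coeff p * y.coeff q := by
    intro x y p q
    induction x using MonoidAlgebra.induction_linear with
    | zero => simp
    | add x₁ x₂ h₁ h₂ => rw [map_add, add_mul, coeff_add, Finsupp.add_apply, h₁, h₂, coeff_add, Finsupp.add_apply, add_mul]
    | single n r =>
      induction y using MonoidAlgebra.induction_linear with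
      | zero => simp
      | add y₁ y₂ h₁ h₂ => rw [map_add, mul_add, coeff_add, Finsupp.add_apply, h₁, h₂, coeff_add, Finsupp.add_apply, mul_add]
      | single n' r' =>
        rw [lc, liftNCRingHom_single, lc, liftNCRingHom_single]
        simp only [a, b, singleOneRingHom, RingHom.coe_mk, MonoidHom.coe_mk, OneHom.coe_mk,
          single_mul_single, Prod.mk_mul_mk, _root_.one_mul, _root_.mul_one, AddMonoidHom.toFun_eq_coe,
          singleAddHom_apply, coeff_single, Finsupp.single_apply, Prod.mk.injEq]
        by_cases hp : n = p <;> by_cases hq : n' = q <;> simp_all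
  have hfab : ∀ q, e * (χ m).coeff q = if (1 : Multiplicative M') = q then e else 0 := by
    intro q
    have := congrArg (fun z => z.coeff ((1 : Multiplicative M'), q)) h
    rw [hcoef, hmul] at this
    exact this.symm
  have hef : single (1 : Multiplicative M') e * χ m = single 1 e := by
    refine MonoidAlgebra.ext (Finsupp.ext fun q => ?_)
    rw [coeff_single_one_mul, coeff_single, Finsupp.single_apply, hfab]
  have h2 := congrArg (lc singleOneRingHom χ') hef
  rw [map_mul, hinv, lc, liftNCRingHom_single, map_one, _root_.mul_one] at h2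
  have h3 := congrArg (fun z => z.coeff m) h2
  simpa [singleOneRingHom, single_mul_single, Finsupp.single_apply, Ne.symm hm] using h3

end Groth.Agent.H8ConjRigidCore
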