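import Mathlib

/-!
# Factoring morphisms through the spectrum of a subring containing a nilpotent ideal
-/

set_option autoImplicit false
set_option linter.all false

universe u

open CategoryTheory Limits AlgebraicGeometry

namespace Groth.Agent.H8SubringLift

variable {B A : Type u} [CommRing B] [CommRing A]

lemma away_comp (ι : B →+* A) (g : B) :
    (IsLocalization.Away.map (Localization.Away g) (Localization.Away (ι g)) ι g).comp (algebraMap B (Localization.Away g)) =
      (algebraMap A (Localization.Away (ι g))).comp ι :=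
  IsLocalization.map_comp _

lemma away_spec (ι : B →+* A) (g : B) :
    Spec.map (CommRingCat.ofHom (IsLocalization.Away.map (Localization.Away g) (Localization.Away (ι g)) ι g)) ≫
        Spec.map (CommRingCat.ofHom (algebraMap B (Localization.Away g))) =
      Spec.map (CommRingCat.ofHom (algebraMap A (Localization.Away (ι g)))) ≫ Spec.map (CommRingCat.ofHom ι) := by
  rw [← Spec.map_comp, ← Spec.map_comp, ← CommRingCat.ofHom_comp, ← CommRingCat.ofHom_comp, away_comp]

/-- Morphisms out of the spectrum of a ring are detected by an injective extension with surjective spectrum. -/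
theorem uniq {X : Scheme.{u}} (ι : B →+* A) (hι : Function.Injective ι)
    (hs : Function.Surjective (Spec.map (CommRingCat.ofHom ι))) (k k' : Spec (CommRingCat.of B) ⟶ X)
    (h : Spec.map (CommRingCat.ofHom ι) ≫ k = Spec.map (CommRingCat.ofHom ι) ≫ k') : k = k' := by
  refine Scheme.hom_ext_of_forall _ _ fun p => ?_
  have htop : ∀ z, k z = k' z := by
    intro z
    obtain ⟨a, rfl⟩ := hs z
    rw [← Scheme.Hom.comp_apply, h, Scheme.Hom.comp_apply]
  obtain ⟨_, ⟨V, hV, rfl⟩, hpV, -⟩ := X.isBasis_affineOpens.exists_subset_of_mem_open (Set.mem_univ (k p)) isOpen_univ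
  replace hV : IsAffineOpen V := hV
  obtain ⟨_, ⟨f, rfl⟩, hpf, hfV⟩ := PrimeSpectrum.isTopologicalBasis_basic_opens.exists_subset_of_mem_open
    (show p ∈ k ⁻¹ᵁ V from hpV) (k ⁻¹ᵁ V).2
  refine ⟨PrimeSpectrum.basicOpen f, hpf, ?_⟩
  let Bf := Localization.Away f
  let i : Spec (CommRingCat.of Bf) ⟶ Spec (CommRingCat.of B) := Spec.map (CommRingCat.ofHom (algebraMap B Bf))
  haveI : IsOpenImmersion i := IsOpenImmersion.of_isLocalization f
  have hir : Set.range i = (PrimeSpectrum.basicOpen f : Set (PrimeSpectrum B)) := PrimeSpectrum.localization_away_comap_range Bf f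
  suffices i ≫ k = i ≫ k' by
    let O : (Spec (CommRingCat.of B)).Opens := PrimeSpectrum.basicOpen f
    let l : (O : Scheme.{u}) ⟶ Spec (CommRingCat.of Bf) := IsOpenImmersion.lift i O.ι (by
      rw [Scheme.Opens.range_ι]
      exact hir.ge)
    show O.ι ≫ k = O.ι ≫ k'
    rw [← IsOpenImmersion.lift_fac i O.ι (by rw [Scheme.Opens.range_ι]; exact hir.ge), Category.assoc, Category.assoc, this]
  have r1 : Set.range (i ≫ k) ⊆ Set.range hV.fromSpec := by
    rw [hV.range_fromSpec]; rintro _ ⟨z, rfl⟩; exact hfV (hir.le ⟨z, rfl⟩)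
  have r2 : Set.range (i ≫ k') ⊆ Set.range hV.fromSpec := by
    rw [hV.range_fromSpec]; rintro _ ⟨z, rfl⟩
    show k' (i z) ∈ V
    rw [← htop]
    exact hfV (hir.le ⟨z, rfl⟩)
  obtain ⟨a, ha⟩ : ∃ a, Spec.map a = IsOpenImmersion.lift hV.fromSpec (i ≫ k) r1 := ⟨_, Spec.map_preimage _⟩
  obtain ⟨a', ha'⟩ : ∃ a', Spec.map a' = IsOpenImmersion.lift hV.fromSpec (i ≫ k') r2 := ⟨_, Spec.map_preimage _⟩
  rw [← IsOpenImmersion.lift_fac hV.fromSpec (i ≫ k) r1, ← IsOpenImmersion.lift_fac hV.fromSpec (i ≫ k') r2, ← ha, ← ha']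
  congr 2
  let Af := Localization.Away (ι f)
  let ιf : Bf →+* Af := IsLocalization.Away.map Bf Af ι f
  have hinj : Function.Injective ιf := by
    haveI : IsLocalization (Submonoid.map ι (Submonoid.powers f)) Af := by
      rw [Submonoid.map_powers]; infer_instance
    exact IsLocalization.map_injective_of_injective _ _ _ hι
  have e : Spec.map (CommRingCat.ofHom ιf) ≫ i = Spec.map (CommRingCat.ofHom (algebraMap A Af)) ≫ Spec.map (CommRingCat.ofHom ι) := away_spec ι f
  have : Spec.map (a ≫ CommRingCat.ofHom ιf) ≫ hV.fromSpec = Spec.map (a' ≫ CommRingCat.ofHom ιf) ≫ hV.fromSpec := by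
    rw [Spec.map_comp, Spec.map_comp, ha, ha', Category.assoc, Category.assoc, IsOpenImmersion.lift_fac,
      IsOpenImmersion.lift_fac, reassoc_of% e, h, ← reassoc_of% e]
  rw [cancel_mono] at this
  exact CommRingCat.hom_ext (RingHom.ext fun x => hinj (DFunLike.congr_fun (congrArg CommRingCat.Hom.hom (Spec.map_injective this)) x))

set_option maxHeartbeats 80000 in
lemma restrict_lift {X : Scheme.{u}} (ι : B →+* A) (c : Spec (CommRingCat.of A) ⟶ X) (f g : B)
    (l : Spec (CommRingCat.of (Localization.Away f)) ⟶ X)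
    (hl : Spec.map (CommRingCat.ofHom (IsLocalization.Away.map (Localization.Away f) (Localization.Away (ι f)) ι f)) ≫ l =
      Spec.map (CommRingCat.ofHom (algebraMap A (Localization.Away (ι f)))) ≫ c)
    (k : Spec (CommRingCat.of (Localization.Away g)) ⟶ Spec (CommRingCat.of (Localization.Away f)))
    (hk : k ≫ Spec.map (CommRingCat.ofHom (algebraMap B (Localization.Away f))) =
      Spec.map (CommRingCat.ofHom (algebraMap B (Localization.Away g)))) :
    Spec.map (CommRingCat.ofHom (IsLocalization.Away.map (Localization.Away g) (Localization.Away (ι g)) ι g)) ≫ k ≫ l =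
      Spec.map (CommRingCat.ofHom (algebraMap A (Localization.Away (ι g)))) ≫ c := by
  let Bg := Localization.Away g
  let Ag := Localization.Away (ι g)
  let ιg : Bg →+* Ag := IsLocalization.Away.map Bg Ag ι g
  let i : Spec (CommRingCat.of Bg) ⟶ Spec (CommRingCat.of B) := Spec.map (CommRingCat.ofHom (algebraMap B Bg))
  obtain ⟨kk, rfl⟩ : ∃ kk, Spec.map kk = k := ⟨_, Spec.map_preimage _⟩
  have hkk : ∀ b, kk.hom (algebraMap B (Localization.Away f) b) = algebraMap B Bg b := fun b => by
    have h1 : Spec.map (CommRingCat.ofHom (algebraMap B (Localization.Away f)) ≫ kk) = i := by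
      rw [Spec.map_comp]; exact hk
    exact DFunLike.congr_fun (congrArg CommRingCat.Hom.hom (Spec.map_injective h1)) b
  have hu : IsUnit (algebraMap A Ag (ι f)) := by
    have := ((IsLocalization.Away.algebraMap_isUnit (S := Localization.Away f) f).map kk.hom).map ιg
    rw [hkk] at this
    rwa [show ιg (algebraMap B Bg f) = algebraMap A Ag (ι f) from DFunLike.congr_fun (away_comp ι g) f] at this
  let ψ : Localization.Away (ι f) →+* Ag := IsLocalization.Away.lift (ι f) hu
  have e1 : ιg.comp kk.hom = ψ.comp (IsLocalization.Away.map (Localization.Away f) (Localization.Away (ι f)) ι f) := by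
    refine IsLocalization.ringHom_ext (Submonoid.powers f) (RingHom.ext fun b => ?_)
    have h1 := DFunLike.congr_fun (away_comp ι g) b
    have h2 := DFunLike.congr_fun (away_comp ι f) b
    simp only [RingHom.coe_comp, Function.comp_apply] at h1 h2 ⊢
    rw [hkk, h2, h1]
    exact (IsLocalization.Away.lift_eq _ hu _).symm
  let F : Localization.Away f →+* Localization.Away (ι f) :=
    IsLocalization.Away.map (Localization.Away f) (Localization.Away (ι f)) ι f
  have e2 : kk ≫ CommRingCat.ofHom ιg = CommRingCat.ofHom F ≫ CommRingCat.ofHom ψ := CommRingCat.hom_ext e1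
  have e3 : CommRingCat.ofHom (algebraMap A (Localization.Away (ι f))) ≫ CommRingCat.ofHom ψ =
      CommRingCat.ofHom (algebraMap A Ag) :=
    by
    have : ψ.comp (algebraMap A (Localization.Away (ι f))) = algebraMap A Ag := IsLocalization.Away.lift_comp (ι f) hu
    rw [← CommRingCat.ofHom_comp, this]
  have e4 : Spec.map (CommRingCat.ofHom ιg) ≫ Spec.map kk = Spec.map (CommRingCat.ofHom ψ) ≫ Spec.map (CommRingCat.ofHom F) := by
    rw [← Spec.map_comp, ← Spec.map_comp, e2]
  calc Spec.map (CommRingCat.ofHom ιg) ≫ Spec.map kk ≫ l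
      = (Spec.map (CommRingCat.ofHom ψ) ≫ Spec.map (CommRingCat.ofHom F)) ≫ l := (Category.assoc _ _ _).symm.trans (congrArg (· ≫ l) e4)
    _ = Spec.map (CommRingCat.ofHom ψ) ≫ Spec.map (CommRingCat.ofHom (algebraMap A (Localization.Away (ι f)))) ≫ c :=
      (Category.assoc _ _ _).trans (congrArg (_ ≫ ·) hl)
    _ = _ := by rw [← Category.assoc, ← Spec.map_comp, e3]

set_option maxHeartbeats 1000000 in
/-- Factoring through the subring. -/
theorem exists_lift {X : Scheme.{u}} (ι : B →+* A) (hι : Function.Injective ι)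
    (hs : Function.Surjective (Spec.map (CommRingCat.ofHom ι)))
    (I : Ideal A) (hI : IsNilpotent I) (hIB : ∀ a ∈ I, ∃ b, ι b = a)
    (c : Spec (CommRingCat.of A) ⟶ X) (e : Spec (CommRingCat.of B) ⟶ X)
    (h : Spec.map (CommRingCat.ofHom (Ideal.Quotient.mk I)) ≫ c =
      Spec.map (CommRingCat.ofHom (Ideal.Quotient.mk I)) ≫ Spec.map (CommRingCat.ofHom ι) ≫ e) :
    ∃! l : Spec (CommRingCat.of B) ⟶ X, Spec.map (CommRingCat.ofHom ι) ≫ l = c := by
  refine existsUnique_of_exists_of_unique ?_ (fun k k' hk hk' => uniq ι hι hs k k' (hk.trans hk'.symm))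
  have htop : ∀ z, c z = e (Spec.map (CommRingCat.ofHom ι) z) := by
    intro z
    obtain ⟨y, rfl⟩ : z ∈ Set.range (Spec.map (CommRingCat.ofHom (Ideal.Quotient.mk I))) := by
      obtain ⟨n, hn⟩ := hI
      refine (range_comap_of_surjective _ _ Ideal.Quotient.mk_surjective).ge ?_
      rw [Ideal.mk_ker]
      intro a ha
      exact z.isPrime.mem_of_pow_mem n ((Submodule.zero_mem _ : (0 : A) ∈ z.asIdeal) |> fun h0 => by
        have : a ^ n ∈ I ^ n := Ideal.pow_mem_pow ha n
        rw [hn] at this
        rw [show a ^ n = 0 from this]; exact h0)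
    rw [← Scheme.Hom.comp_apply, h, Scheme.Hom.comp_apply, Scheme.Hom.comp_apply]
  have loc : ∀ p : Spec (CommRingCat.of B), ∃ f : B, p ∈ PrimeSpectrum.basicOpen f ∧
      ∃ l : Spec (CommRingCat.of (Localization.Away f)) ⟶ X,
        Spec.map (CommRingCat.ofHom (IsLocalization.Away.map (Localization.Away f) (Localization.Away (ι f)) ι f)) ≫ l =
          Spec.map (CommRingCat.ofHom (algebraMap A (Localization.Away (ι f)))) ≫ c := by
    intro p
    obtain ⟨_, ⟨V, hV, rfl⟩, hpV, -⟩ := X.isBasis_affineOpens.exists_subset_of_mem_open (Set.mem_univ (e p)) isOpen_univ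
    replace hV : IsAffineOpen V := hV
    obtain ⟨_, ⟨f, rfl⟩, hpf, hfV⟩ := PrimeSpectrum.isTopologicalBasis_basic_opens.exists_subset_of_mem_open
      (show p ∈ e ⁻¹ᵁ V from hpV) (e ⁻¹ᵁ V).2
    refine ⟨f, hpf, ?_⟩
    let Bf := Localization.Away f
    let Af := Localization.Away (ι f)
    let ιf : Bf →+* Af := IsLocalization.Away.map Bf Af ι f
    let i : Spec (CommRingCat.of Bf) ⟶ Spec (CommRingCat.of B) := Spec.map (CommRingCat.ofHom (algebraMap B Bf))
    let j : Spec (CommRingCat.of Af) ⟶ Spec (CommRingCat.of A) := Spec.map (CommRingCat.ofHom (algebraMap A Af))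
    have hir : Set.range i = (PrimeSpectrum.basicOpen f : Set (PrimeSpectrum B)) := PrimeSpectrum.localization_away_comap_range Bf f
    have eij : Spec.map (CommRingCat.ofHom ιf) ≫ i = j ≫ Spec.map (CommRingCat.ofHom ι) := away_spec ι f
    have r1 : Set.range (i ≫ e) ⊆ Set.range hV.fromSpec := by
      rw [hV.range_fromSpec]; rintro _ ⟨z, rfl⟩; exact hfV (hir.le ⟨z, rfl⟩)
    have r2 : Set.range (j ≫ c) ⊆ Set.range hV.fromSpec := by
      rw [hV.range_fromSpec]; rintro _ ⟨z, rfl⟩
      show c (j z) ∈ V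
      rw [htop]
      refine hfV (hir.le ⟨Spec.map (CommRingCat.ofHom ιf) z, ?_⟩)
      rw [← Scheme.Hom.comp_apply, eij]
      rfl
    obtain ⟨a, ha⟩ : ∃ a, Spec.map a = IsOpenImmersion.lift hV.fromSpec (i ≫ e) r1 := ⟨_, Spec.map_preimage _⟩
    obtain ⟨d, hd⟩ : ∃ d, Spec.map d = IsOpenImmersion.lift hV.fromSpec (j ≫ c) r2 := ⟨_, Spec.map_preimage _⟩
    let I' : Ideal Af := I.map (algebraMap A Af)
    let q : A ⧸ I →+* Af ⧸ I' := Ideal.quotientMap I' (algebraMap A Af) Ideal.le_comap_map
    have hdiff : ∀ x, d.hom x - ιf (a.hom x) ∈ I' := by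
      have : Spec.map (d ≫ CommRingCat.ofHom (Ideal.Quotient.mk I')) ≫ hV.fromSpec =
          Spec.map (a ≫ CommRingCat.ofHom ιf ≫ CommRingCat.ofHom (Ideal.Quotient.mk I')) ≫ hV.fromSpec := by
        rw [Spec.map_comp, Spec.map_comp, Spec.map_comp, hd, ha]
        simp only [Category.assoc, IsOpenImmersion.lift_fac]
        rw [reassoc_of% eij]
        have eq' : Spec.map (CommRingCat.ofHom (Ideal.Quotient.mk I')) ≫ j =
            Spec.map (CommRingCat.ofHom q) ≫ Spec.map (CommRingCat.ofHom (Ideal.Quotient.mk I)) := by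
          rw [← Spec.map_comp, ← Spec.map_comp]; rfl
        rw [reassoc_of% eq', reassoc_of% eq', h]
      rw [cancel_mono] at this
      intro x
      exact (Ideal.Quotient.eq).mp (DFunLike.congr_fun (congrArg CommRingCat.Hom.hom (Spec.map_injective this)) x)
    have hinj : Function.Injective ιf := by
      haveI : IsLocalization (Submonoid.map ι (Submonoid.powers f)) Af := by
        rw [Submonoid.map_powers]; infer_instance
      exact IsLocalization.map_injective_of_injective _ _ _ hι
    have hrange : ∀ x, d.hom x ∈ ιf.range := by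
      intro x
      have hI' : ∀ y ∈ I', y ∈ ιf.range := by
        intro y hy
        obtain ⟨⟨⟨n, hn⟩, s⟩, hns⟩ := (IsLocalization.mem_map_algebraMap_iff (Submonoid.powers (ι f)) Af).mp hy
        obtain ⟨k, hk⟩ := s.2
        obtain ⟨b, rfl⟩ := hIB n hn
        refine ⟨IsLocalization.mk' Bf b (⟨f ^ k, k, rfl⟩ : Submonoid.powers f), (IsLocalization.map_units Af s).mul_right_cancel ?_⟩
        rw [hns]
        have e1 := congrArg ιf (IsLocalization.mk'_spec Bf b (⟨f ^ k, k, rfl⟩ : Submonoid.powers f))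
        rw [map_mul] at e1
        have e2 : ∀ t, ιf (algebraMap B Bf t) = algebraMap A Af (ι t) := DFunLike.congr_fun (away_comp ι f)
        rw [e2, e2, map_pow ι f k] at e1
        simpa [← hk] using e1
      obtain ⟨b, hb⟩ := hI' _ (hdiff x)
      exact ⟨b + a.hom x, by rw [map_add, hb, sub_add_cancel]⟩
    choose g hg using hrange
    let gh : Γ(X, V) →+* Bf :=
      { toFun := g
        map_one' := hinj (by rw [hg, map_one, map_one])
        map_mul' := fun x y => hinj (by rw [hg, map_mul, map_mul, hg, hg])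
        map_zero' := hinj (by rw [hg, map_zero, map_zero])
        map_add' := fun x y => hinj (by rw [hg, map_add, map_add, hg, hg]) }
    refine ⟨Spec.map (CommRingCat.ofHom gh) ≫ hV.fromSpec, ?_⟩
    rw [← Spec.map_comp_assoc, show CommRingCat.ofHom gh ≫ CommRingCat.ofHom ιf = d from CommRingCat.hom_ext (RingHom.ext hg),
      hd, IsOpenImmersion.lift_fac]
  choose f hpf l hl using loc
  let 𝒰 : (Spec (CommRingCat.of B)).OpenCover := Scheme.Cover.mkOfCovers (Spec (CommRingCat.of B))
    (fun p => Spec (CommRingCat.of (Localization.Away (f p))))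
    (fun p => Spec.map (CommRingCat.ofHom (algebraMap B (Localization.Away (f p)))))
    (fun p => ⟨p, (PrimeSpectrum.localization_away_comap_range (Localization.Away (f p)) (f p)).ge (hpf p)⟩)
    (fun p => IsOpenImmersion.of_isLocalization (f p))
  have hcompat : ∀ x y : 𝒰.I₀, pullback.fst (𝒰.f x) (𝒰.f y) ≫ l x = pullback.snd (𝒰.f x) (𝒰.f y) ≫ l y := by
    intro x y
    refine Scheme.hom_ext_of_forall _ _ fun z => ?_
    let pr := pullback.fst (𝒰.f x) (𝒰.f y) ≫ 𝒰.f x
    obtain ⟨_, ⟨g, rfl⟩, hzg, hgle⟩ := PrimeSpectrum.isTopologicalBasis_basic_opens.exists_subset_of_mem_open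
      (show pr z ∈ Set.range pr from ⟨z, rfl⟩) pr.isOpenEmbedding.isOpen_range
    let Bg := Localization.Away g
    let i : Spec (CommRingCat.of Bg) ⟶ Spec (CommRingCat.of B) := Spec.map (CommRingCat.ofHom (algebraMap B Bg))
    haveI : IsOpenImmersion i := IsOpenImmersion.of_isLocalization g
    have hig : Set.range i = (PrimeSpectrum.basicOpen g : Set (PrimeSpectrum B)) := PrimeSpectrum.localization_away_comap_range Bg g
    let m : Spec (CommRingCat.of Bg) ⟶ pullback (𝒰.f x) (𝒰.f y) := IsOpenImmersion.lift pr i (hig.le.trans hgle)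
    have hm : m ≫ pr = i := IsOpenImmersion.lift_fac _ _ _
    haveI : IsOpenImmersion m := by
      haveI : IsOpenImmersion (m ≫ pr) := by rw [hm]; infer_instance
      exact IsOpenImmersion.of_comp m pr
    refine ⟨m.opensRange, ?_, ?_⟩
    · obtain ⟨w, hw⟩ := hig.ge hzg
      refine ⟨w, pr.isOpenEmbedding.injective ?_⟩
      rw [← Scheme.Hom.comp_apply, hm, hw]
    · suffices hh : m ≫ pullback.fst (𝒰.f x) (𝒰.f y) ≫ l x = m ≫ pullback.snd (𝒰.f x) (𝒰.f y) ≫ l y by
        refine (cancel_epi m.isoOpensRange.hom).mp ?_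
        rw [Scheme.Hom.isoOpensRange_hom_ι_assoc, Scheme.Hom.isoOpensRange_hom_ι_assoc]
        exact hh
      let Ag := Localization.Away (ι g)
      let ιg : Bg →+* Ag := IsLocalization.Away.map Bg Ag ι g
      have hinj : Function.Injective ιg := by
        haveI : IsLocalization (Submonoid.map ι (Submonoid.powers g)) Ag := by
          rw [Submonoid.map_powers]; infer_instance
        exact IsLocalization.map_injective_of_injective _ _ _ hι
      have hsg : Function.Surjective (Spec.map (CommRingCat.ofHom ιg)) := by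
        intro w
        obtain ⟨a, ha⟩ := hs (i w)
        obtain ⟨b, hb⟩ : a ∈ Set.range (Spec.map (CommRingCat.ofHom (algebraMap A Ag))) := by
          refine (PrimeSpectrum.localization_away_comap_range Ag (ι g)).ge ?_
          show ι g ∉ a.asIdeal
          have : i w ∈ (PrimeSpectrum.basicOpen g : Set (PrimeSpectrum B)) := hig.le ⟨w, rfl⟩
          rw [← ha] at this
          exact this
        refine ⟨b, i.isOpenEmbedding.injective ?_⟩
        rw [← Scheme.Hom.comp_apply, ← ha, ← hb, ← Scheme.Hom.comp_apply, away_spec]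
      refine uniq ιg hinj hsg _ _ ?_
      have key := fun p k hk => restrict_lift ι c (f p) g (l p) (hl p) k hk
      have hx := key x (m ≫ pullback.fst (𝒰.f x) (𝒰.f y)) ((Category.assoc _ _ _).trans hm)
      have hy := key y (m ≫ pullback.snd (𝒰.f x) (𝒰.f y)) ((Category.assoc _ _ _).trans ((congrArg (m ≫ ·) pullback.condition.symm).trans hm))
      exact ((congrArg (Spec.map (CommRingCat.ofHom ιg) ≫ ·) (Category.assoc m _ _).symm).trans hx).trans
        (hy.symm.trans (congrArg (Spec.map (CommRingCat.ofHom ιg) ≫ ·) (Category.assoc m _ _)))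
  refine ⟨𝒰.glueMorphisms l hcompat, ?_⟩
  refine Scheme.hom_ext_of_forall _ _ fun z => ?_
  let p : 𝒰.I₀ := Spec.map (CommRingCat.ofHom ι) z
  let Af := Localization.Away (ι (f p))
  let j : Spec (CommRingCat.of Af) ⟶ Spec (CommRingCat.of A) := Spec.map (CommRingCat.ofHom (algebraMap A Af))
  haveI : IsOpenImmersion j := IsOpenImmersion.of_isLocalization (ι (f p))
  refine ⟨j.opensRange, (PrimeSpectrum.localization_away_comap_range Af (ι (f p))).ge (hpf p), ?_⟩
  rw [← cancel_epi j.isoOpensRange.hom, ← Category.assoc, ← Category.assoc, Scheme.Hom.isoOpensRange_hom_ι]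
  have e2 : j ≫ Spec.map (CommRingCat.ofHom ι) =
      Spec.map (CommRingCat.ofHom (IsLocalization.Away.map (Localization.Away (f p)) Af ι (f p))) ≫ 𝒰.f p := by
    exact (away_spec ι (f p)).symm
  refine ((congrArg (· ≫ 𝒰.glueMorphisms l hcompat) e2).trans ((Category.assoc _ _ _).trans
    ((congrArg (_ ≫ ·) (𝒰.ι_glueMorphisms l hcompat p)).trans (hl p)))).trans ?_
  rw [← Category.assoc, Scheme.Hom.isoOpensRange_hom_ι]

end Groth.Agent.H8SubringLift
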