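import Mathlib
import Groth.Prelude.Def_Red
import Groth.Prelude.Def_TwC
import Groth.Agent.Lib.H8DiagRigid
import Groth.Agent.Lib.H8SubringLift
import Groth.Agent.Lib.H8ConjRigidCore

/-!
# Homomorphisms from groups of multiplicative type congruent modulo a square-zero ideal are conjugate
-/

set_option autoImplicit false
set_option linter.all false

universe u

open CategoryTheory Limits AlgebraicGeometry MonoidalCategory CartesianMonoidalCategory MonObj GrpObj

namespace Groth.Agent.H8ConjRigid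

open H8DiagRigid H8ConjRigidCore

/-- The base. -/
noncomputable abbrev B (R : Type u) [CommRing R] : Scheme.{u} := Spec (CommRingCat.of R)

section Res

variable {S : Scheme.{u}} {C D E : Type u} [CommRing C] [CommRing D] [CommRing E]

/-- Restriction of bases along a ring map. -/
noncomputable def res (f : C →+* D) {t : Spec (CommRingCat.of C) ⟶ S} {t' : Spec (CommRingCat.of D) ⟶ S}
    (h : Spec.map (CommRingCat.ofHom f) ≫ t = t') : Over.mk t' ⟶ Over.mk t :=
  Over.homMk (Spec.map (CommRingCat.ofHom f)) h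

lemma res_comp (f : C →+* D) (g : D →+* E) (fg : C →+* E) {t : Spec (CommRingCat.of C) ⟶ S}
    {t' : Spec (CommRingCat.of D) ⟶ S} {t'' : Spec (CommRingCat.of E) ⟶ S}
    (h : Spec.map (CommRingCat.ofHom f) ≫ t = t') (h' : Spec.map (CommRingCat.ofHom g) ≫ t' = t'')
    (h'' : Spec.map (CommRingCat.ofHom fg) ≫ t = t'') (e : g.comp f = fg) : res g h' ≫ res f h = res fg h'' := by
  refine Over.OverMorphism.ext ?_
  show Spec.map _ ≫ Spec.map _ = Spec.map _
  rw [← Spec.map_comp, ← CommRingCat.ofHom_comp, e]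

lemma res_id (f : C →+* C) (hf : f = RingHom.id C) {t : Spec (CommRingCat.of C) ⟶ S}
    (h : Spec.map (CommRingCat.ofHom f) ≫ t = t) : res f h = 𝟙 _ := by
  refine Over.OverMorphism.ext ?_
  subst hf
  exact Spec.map_id _

lemma comp_mk_eq (f : C →+* D) (g : D →+* E) (t : Spec (CommRingCat.of C) ⟶ S) :
    Spec.map (CommRingCat.ofHom g) ≫ Spec.map (CommRingCat.ofHom f) ≫ t = Spec.map (CommRingCat.ofHom (g.comp f)) ≫ t := by
  rw [← Spec.map_comp_assoc]; rfl

end Res

variable {R : Type u} [CommRing R] (J : Ideal R)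

/-- The pulled back ideal. -/
noncomputable def idl {C : Type u} [CommRing C] (t : Spec (CommRingCat.of C) ⟶ B R) : Ideal C :=
  J.map (Spec.preimage t).hom

lemma idl_map {C D : Type u} [CommRing C] [CommRing D] (f : C →+* D) {t : Spec (CommRingCat.of C) ⟶ B R}
    {t' : Spec (CommRingCat.of D) ⟶ B R} (h : Spec.map (CommRingCat.ofHom f) ≫ t = t') :
    (idl J t).map f = idl J t' := by
  have : Spec.preimage t' = Spec.preimage t ≫ CommRingCat.ofHom f := by
    refine Spec.map_injective ?_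
    rw [Spec.map_comp, Spec.map_preimage, Spec.map_preimage, h]
  rw [idl, idl, this, Ideal.map_map]
  rfl

lemma idl_sq (hJ : J ^ 2 = ⊥) {C : Type u} [CommRing C] (t : Spec (CommRingCat.of C) ⟶ B R) : idl J t ^ 2 = ⊥ := by
  rw [idl, ← Ideal.map_pow, hJ, Ideal.map_bot]

lemma exists_of_idl_eq_bot {C : Type u} [CommRing C] (t : Spec (CommRingCat.of C) ⟶ B R) (h : idl J t = ⊥) :
    Nonempty (Over.mk t ⟶ (Over.mk (Spec.map (CommRingCat.ofHom (Ideal.Quotient.mk J))) : Over (B R))) := by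
  rw [idl, Ideal.map_eq_bot_iff_le_ker] at h
  refine ⟨Over.homMk (Spec.map (CommRingCat.ofHom (Ideal.Quotient.lift J (Spec.preimage t).hom fun r hr => h hr))) ?_⟩
  show Spec.map _ ≫ Spec.map _ = t
  rw [← Spec.map_comp]
  refine (congrArg Spec.map ?_).trans (Spec.map_preimage t)
  exact CommRingCat.hom_ext (RingHom.ext fun r => rfl)

variable (H G : Over (B R)) [GrpObj H] [GrpObj G] (u v : H ⟶ G) [IsMonHom u] [IsMonHom v]

/-- An affine piece with a splitting of the group. -/
structure Piece (D : Type u) [CommRing D] where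
  /-- the trivialising scheme -/
  U : Scheme.{u}
  /-- its map to the base -/
  q : U ⟶ B R
  /-- the character group -/
  M : Type
  /-- group structure -/
  inst : AddCommGroup M
  /-- the splitting -/
  φ : Grp.mk (Red.bc q H) ≅ Grp.mk (Red.DS U M)
  /-- the affine piece -/
  w : Spec (CommRingCat.of D) ⟶ U
  /-- the ideal has square zero on the piece -/
  sq : idl J (w ≫ q) ^ 2 = ⊥

attribute [instance] Piece.inst

variable {H G J}

/-- The structure map of a piece. -/
noncomputable def Piece.t {D : Type u} [CommRing D] (P : Piece J H D) : Spec (CommRingCat.of D) ⟶ B R := P.w ≫ P.q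

/-- Base change of a piece. -/
noncomputable def Piece.bc {D C : Type u} [CommRing D] [CommRing C] (P : Piece J H D) (f : D →+* C) : Piece J H C where
  U := P.U
  q := P.q
  M := P.M
  inst := P.inst
  φ := P.φ
  w := Spec.map (CommRingCat.ofHom f) ≫ P.w
  sq := by
    rw [← idl_map J f (t := P.w ≫ P.q) (Category.assoc _ _ _).symm, ← Ideal.map_pow, P.sq, Ideal.map_bot]

lemma Piece.bc_t {D C : Type u} [CommRing D] [CommRing C] (P : Piece J H D) (f : D →+* C) :
    Spec.map (CommRingCat.ofHom f) ≫ P.t = (P.bc f).t := (Category.assoc _ _ _).symm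

/-- Characters as points. -/
noncomputable def pt {D C : Type u} [CommRing D] [CommRing C] (P : Piece J H D) (k : D →+* C)
    {t' : Spec (CommRingCat.of C) ⟶ B R} (h : Spec.map (CommRingCat.ofHom k) ≫ P.t = t') :
    (Multiplicative P.M →* C) ≃* (Over.mk t' ⟶ H) :=
  (pts P.q H P.M P.φ (Spec.map (CommRingCat.ofHom k) ≫ P.w)).trans
    { toEquiv := (Over.isoMk (Iso.refl _) (by
        show 𝟙 _ ≫ (Spec.map _ ≫ P.w) ≫ P.q = t'
        rw [Category.id_comp, Category.assoc]; exact h) : Over.mk t' ≅ (Over.map P.q).obj (Over.mk (Spec.map (CommRingCat.ofHom k) ≫ P.w))).homFromEquiv.symm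
      map_mul' := fun a b => MonObj.comp_mul _ a b }

lemma pt_left {D C : Type u} [CommRing D] [CommRing C] (P : Piece J H D) (k : D →+* C)
    {t' : Spec (CommRingCat.of C) ⟶ B R} (h : Spec.map (CommRingCat.ofHom k) ≫ P.t = t') (χ : Multiplicative P.M →* C) :
    (pt P k h χ).left = (pts P.q H P.M P.φ (Spec.map (CommRingCat.ofHom k) ≫ P.w) χ).left := by
  simp [pt, Iso.homFromEquiv]

lemma pt_nat {D C C' : Type u} [CommRing D] [CommRing C] [CommRing C'] (P : Piece J H D) (k : D →+* C) (f : C →+* C')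
    (k' : D →+* C') {t : Spec (CommRingCat.of C) ⟶ B R} {t' : Spec (CommRingCat.of C') ⟶ B R}
    (h : Spec.map (CommRingCat.ofHom k) ≫ P.t = t) (hf : Spec.map (CommRingCat.ofHom f) ≫ t = t')
    (h' : Spec.map (CommRingCat.ofHom k') ≫ P.t = t') (e : f.comp k = k') (χ : Multiplicative P.M →* C) :
    res f hf ≫ pt P k h χ = pt P k' h' (f.toMonoidHom.comp χ) := by
  refine Over.OverMorphism.ext ?_
  exact (congrArg (Spec.map (CommRingCat.ofHom f) ≫ ·) (pt_left P k h χ)).trans
    ((pts_nat P.q H P.M P.φ f _ (Spec.map (CommRingCat.ofHom k') ≫ P.w) (by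
      rw [← Spec.map_comp_assoc, ← CommRingCat.ofHom_comp, e]) χ).trans (pt_left P k' h' _).symm)


/-- The ring of the group over a piece. -/
abbrev Piece.A {D : Type u} [CommRing D] (P : Piece J H D) := MonoidAlgebra D (Multiplicative P.M)

/-- Its base map. -/
noncomputable abbrev Piece.tA {D : Type u} [CommRing D] (P : Piece J H D) : Spec (CommRingCat.of P.A) ⟶ B R :=
  Spec.map (CommRingCat.ofHom (MonoidAlgebra.singleOneRingHom : D →+* P.A)) ≫ P.t

/-- The universal point. -/
noncomputable def Piece.h {D : Type u} [CommRing D] (P : Piece J H D) : Over.mk P.tA ⟶ H :=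
  pt P (C := P.A) (MonoidAlgebra.singleOneRingHom : D →+* P.A) (t' := P.tA) rfl (MonoidAlgebra.of D (Multiplicative P.M))

lemma Piece.res_h {D C : Type u} [CommRing D] [CommRing C] (P : Piece J H D) (F : P.A →+* C) (k : D →+* C)
    {t' : Spec (CommRingCat.of C) ⟶ B R} (hF : Spec.map (CommRingCat.ofHom F) ≫ P.tA = t')
    (hk : Spec.map (CommRingCat.ofHom k) ≫ P.t = t') (e : F.comp MonoidAlgebra.singleOneRingHom = k) :
    res F hF ≫ P.h = pt P k hk (F.toMonoidHom.comp (MonoidAlgebra.of D (Multiplicative P.M))) :=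
  pt_nat P _ F k rfl hF hk e _

lemma Piece.bc_h {D C : Type u} [CommRing D] [CommRing C] (P : Piece J H D) (c : D →+* C)
    (hk : Spec.map (CommRingCat.ofHom ((MonoidAlgebra.singleOneRingHom : C →+* MonoidAlgebra C (Multiplicative P.M)).comp c)) ≫ P.t =
      (P.bc c).tA) :
    (P.bc c).h = pt P ((MonoidAlgebra.singleOneRingHom : C →+* MonoidAlgebra C (Multiplicative P.M)).comp c) hk
      (MonoidAlgebra.of C (Multiplicative P.M)) := by
  refine Over.OverMorphism.ext ?_
  refine (pt_left (P.bc c) _ _ _).trans (Eq.trans ?_ (pt_left P _ hk _).symm)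
  have e : Spec.map (CommRingCat.ofHom (MonoidAlgebra.singleOneRingHom : C →+* MonoidAlgebra C (Multiplicative P.M))) ≫
        Spec.map (CommRingCat.ofHom c) ≫ P.w =
      Spec.map (CommRingCat.ofHom ((MonoidAlgebra.singleOneRingHom : C →+* MonoidAlgebra C (Multiplicative P.M)).comp c)) ≫ P.w := by
    rw [← Spec.map_comp_assoc]; rfl
  have key : ∀ {w1 w2 : Spec (CommRingCat.of (MonoidAlgebra C (Multiplicative P.M))) ⟶ P.U}, w1 = w2 →
      (pts P.q H P.M P.φ w1 (MonoidAlgebra.of C (Multiplicative P.M))).left =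
        (pts P.q H P.M P.φ w2 (MonoidAlgebra.of C (Multiplicative P.M))).left := by
    rintro _ _ rfl
    rfl
  exact key e

variable (J) in
/-- Base map of the subring. -/
noncomputable abbrev Piece.tB {D : Type u} [CommRing D] (P : Piece J H D) :
    Spec (CommRingCat.of (S1 (idl J P.t) P.M)) ⟶ B R :=
  Spec.map (CommRingCat.ofHom (cst (idl J P.t) P.M)) ≫ P.t

variable (J) in
lemma Piece.incl_w {D : Type u} [CommRing D] (P : Piece J H D) :
    Spec.map (CommRingCat.ofHom (S1 (idl J P.t) P.M).subtype) ≫ P.tB J = P.tA := by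
  rw [Piece.tB, ← Spec.map_comp_assoc]; rfl

variable (J) in
/-- The inclusion. -/
noncomputable abbrev Piece.incl {D : Type u} [CommRing D] (P : Piece J H D) : Over.mk P.tA ⟶ Over.mk (P.tB J) :=
  res (S1 (idl J P.t) P.M).subtype (P.incl_w J)

variable (h0 : ∀ (X : Over (B R)) (p : X ⟶ (Over.mk (Spec.map (CommRingCat.ofHom (Ideal.Quotient.mk J))) : Over (B R))) (h : X ⟶ H),
    h ≫ u = h ≫ v)

lemma incl_mono {D : Type u} [CommRing D] (P : Piece J H D) {X : Over (B R)} (a b : Over.mk (P.tB J) ⟶ X)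
    (h : P.incl J ≫ a = P.incl J ≫ b) : a = b :=
  Over.OverMorphism.ext (H8SubringLift.uniq (S1 (idl J P.t) P.M).subtype Subtype.val_injective
    (spec_surjective P.sq) _ _ (congrArg Over.Hom.left h))

include h0 in
lemma exists_l {D : Type u} [CommRing D] (P : Piece J H D) :
    ∃ l : Over.mk (P.tB J) ⟶ G, P.incl J ≫ l = (P.h ≫ v) * (P.h ≫ u)⁻¹ := by
  let I := idl J P.t
  let K := IA I P.M
  let c := (P.h ≫ v) * (P.h ≫ u)⁻¹
  let tK := Spec.map (CommRingCat.ofHom (Ideal.Quotient.mk K)) ≫ P.tA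
  let rK : Over.mk tK ⟶ Over.mk P.tA := res (Ideal.Quotient.mk K) rfl
  have hK : idl J tK = ⊥ := by
    rw [← idl_map J (Ideal.Quotient.mk K) (t := P.tA) (t' := tK) rfl,
      ← idl_map J (MonoidAlgebra.singleOneRingHom : D →+* P.A) (t := P.t) (t' := P.tA) rfl]
    exact Ideal.map_quotient_self K
  obtain ⟨p⟩ := exists_of_idl_eq_bot J tK hK
  have hc : rK ≫ c = 1 := by
    rw [MonObj.comp_mul, GrpObj.comp_inv, ← Category.assoc, ← Category.assoc, h0 _ p, mul_inv_cancel]
  have hc2 : rK ≫ c = rK ≫ P.incl J ≫ (1 : Over.mk (P.tB J) ⟶ G) := by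
    rw [hc, MonObj.comp_one, MonObj.comp_one]
  obtain ⟨l, hl, -⟩ := H8SubringLift.exists_lift (S1 I P.M).subtype Subtype.val_injective
    (spec_surjective P.sq) K ⟨2, by rw [pow_two]; exact IA_mul_IA P.sq⟩
    (fun a ha => ⟨⟨a, IA_le I P.M ha⟩, rfl⟩) c.left (1 : Over.mk (P.tB J) ⟶ G).left (congrArg Over.Hom.left hc2)
  refine ⟨Over.homMk l (H8SubringLift.uniq (S1 I P.M).subtype Subtype.val_injective
    (spec_surjective P.sq) _ _ ?_), Over.OverMorphism.ext hl⟩
  rw [← Category.assoc, hl]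
  exact (Over.w c).trans (P.incl_w J).symm

/-- The extension of the difference. -/
noncomputable def Piece.l {D : Type u} [CommRing D] (P : Piece J H D) : Over.mk (P.tB J) ⟶ G :=
  (exists_l u v h0 P).choose

lemma Piece.incl_l {D : Type u} [CommRing D] (P : Piece J H D) :
    P.incl J ≫ P.l u v h0 = (P.h ≫ v) * (P.h ≫ u)⁻¹ := (exists_l u v h0 P).choose_spec

lemma Piece.mean_w {D : Type u} [CommRing D] (P : Piece J H D) :
    Spec.map (CommRingCat.ofHom (mean (idl J P.t) P.M P.sq)) ≫ P.tB J = P.t := by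
  rw [Piece.tB, ← Spec.map_comp_assoc, ← CommRingCat.ofHom_comp, mean_cst, CommRingCat.ofHom_id, Spec.map_id, Category.id_comp]

/-- The conjugating point over a piece. -/
noncomputable def Piece.g {D : Type u} [CommRing D] (P : Piece J H D) : Over.mk P.t ⟶ G :=
  res (mean (idl J P.t) P.M P.sq) P.mean_w ≫ P.l u v h0

lemma l_nat {D D' : Type u} [CommRing D] [CommRing D'] (P : Piece J H D) (P' : Piece J H D') (f : D →+* D')
    (hf : Spec.map (CommRingCat.ofHom f) ≫ P.t = P'.t) (F : P.A →+* P'.A)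
    (hF : ∀ d, F (MonoidAlgebra.single 1 d) = MonoidAlgebra.single 1 (f d))
    (hFt : Spec.map (CommRingCat.ofHom F) ≫ P.tA = P'.tA)
    (l' : Over.mk (P'.tB J) ⟶ G)
    (hl' : P'.incl J ≫ l' = res F hFt ≫ ((P.h ≫ v) * (P.h ≫ u)⁻¹)) :
    ∃ h, res (S1map f F hF (idl_map J f hf).le) (t := P.tB J) (t' := P'.tB J) h ≫ P.l u v h0 = l' := by
  have hB : Spec.map (CommRingCat.ofHom (S1map f F hF (idl_map J f hf).le)) ≫ P.tB J = P'.tB J := by
    refine (comp_mk_eq _ _ _).trans ?_
    refine Eq.trans ?_ ((comp_mk_eq f (cst (idl J P'.t) P'.M) P.t).symm.trans (congrArg (_ ≫ ·) hf))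
    congr 3
    exact RingHom.ext fun d => S1map_cst (I := idl J P.t) (I' := idl J P'.t) f F hF (idl_map J f hf).le d
  refine ⟨hB, incl_mono P' _ _ ?_⟩
  rw [hl', ← P.incl_l u v h0, ← Category.assoc, ← Category.assoc]
  congr 1
  refine Over.OverMorphism.ext ?_
  show Spec.map _ ≫ Spec.map _ = Spec.map _ ≫ Spec.map _
  rw [← Spec.map_comp, ← Spec.map_comp]
  rfl

theorem compat {D D' : Type u} [CommRing D] [CommRing D'] (P : Piece J H D) (P' : Piece J H D') (f : D →+* D')
    (hf : Spec.map (CommRingCat.ofHom f) ≫ P.t = P'.t) : res f hf ≫ P.g u v h0 = P'.g u v h0 := by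
  classical
  let k : D →+* P'.A := (MonoidAlgebra.singleOneRingHom : D' →+* P'.A).comp f
  have hk : Spec.map (CommRingCat.ofHom k) ≫ P.t = P'.tA := by rw [Piece.tA, ← hf, comp_mk_eq]
  let χ : Multiplicative P.M →* P'.A := (pt P k hk).symm P'.h
  have hχ : pt P k hk χ = P'.h := (pt P k hk).apply_symm_apply _
  let F : P.A →+* P'.A := MonoidAlgebra.liftNCRingHom k χ fun _ _ => Commute.all _ _
  have hF : ∀ d, F (MonoidAlgebra.single 1 d) = MonoidAlgebra.single 1 (f d) := fun d => by simp [F, k]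
  have hFt : Spec.map (CommRingCat.ofHom F) ≫ P.tA = P'.tA := by
    rw [Piece.tA, comp_mk_eq, show F.comp (MonoidAlgebra.singleOneRingHom : D →+* P.A) = k from RingHom.ext fun d => hF d, hk]
  have hFh : res F hFt ≫ P.h = P'.h := by
    rw [P.res_h F k hFt hk (RingHom.ext fun d => hF d)]
    refine (congrArg (pt P k hk) (MonoidHom.ext fun m => ?_)).trans hχ
    simp [F]
  obtain ⟨hB, hl⟩ := l_nat u v h0 P P' f hf F hF hFt (P'.l u v h0) (by
    rw [P'.incl_l u v h0, MonObj.comp_mul, GrpObj.comp_inv, ← Category.assoc, ← Category.assoc, hFh])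
  have h1 : ∀ m, m ≠ 1 → (F (MonoidAlgebra.single m 1)).coeff 1 = 0 := by
    intro m hm
    have hsingle : F (MonoidAlgebra.single m 1) = χ m := by simp [F]
    rw [hsingle]
    let k0 : D →+* MonoidAlgebra D' (Multiplicative P.M) := (MonoidAlgebra.singleOneRingHom).comp f
    let t0 : Spec (CommRingCat.of (MonoidAlgebra D' (Multiplicative P.M))) ⟶ B R := Spec.map (CommRingCat.ofHom k0) ≫ P.t
    have hk0 : Spec.map (CommRingCat.ofHom (MonoidAlgebra.singleOneRingHom : D' →+* MonoidAlgebra D' (Multiplicative P.M))) ≫ P'.t = t0 := by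
      show _ = Spec.map _ ≫ P.t
      rw [← hf, comp_mk_eq]
    have key : ∀ (C : Type u) [CommRing C] (c : D' →+* C) (t : Spec (CommRingCat.of C) ⟶ B R)
        (hc : Spec.map (CommRingCat.ofHom c) ≫ P'.t = t) (hck : Spec.map (CommRingCat.ofHom (c.comp f)) ≫ P.t = t)
        (ψ : Multiplicative P'.M →* C), pt P' c hc ψ = pt P (c.comp f) hck ((lc c ψ).toMonoidHom.comp χ) := by
      intro C _ c t hc hck ψ
      have hL : Spec.map (CommRingCat.ofHom (lc c ψ)) ≫ P'.tA = t := by
        rw [Piece.tA, comp_mk_eq, show (lc c ψ).comp (MonoidAlgebra.singleOneRingHom : D' →+* P'.A) = c from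
          RingHom.ext fun d => by simp [lc], hc]
      rw [← pt_nat P k (lc c ψ) (c.comp f) hk hL hck (RingHom.ext fun d => by simp [k, lc]), hχ,
        P'.res_h (lc c ψ) c hL hc (RingHom.ext fun d => by simp [lc])]
      congr 1
      exact MonoidHom.ext fun n => by simp [lc]
    have hk0' : Spec.map (CommRingCat.ofHom k0) ≫ P.t = t0 := rfl
    let c0 : D' →+* MonoidAlgebra D' (Multiplicative P.M) := MonoidAlgebra.singleOneRingHom
    let x0 := pt P k0 hk0' (MonoidAlgebra.of D' (Multiplicative P.M))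
    let χ' : Multiplicative P'.M →* MonoidAlgebra D' (Multiplicative P.M) := (pt P' c0 hk0).symm x0
    have hχ' : pt P' c0 hk0 χ' = x0 := (pt P' c0 hk0).apply_symm_apply x0
    refine coeff_one_eq_zero_of_groupLike χ (fun C _ c ψ ψ' m => ?_) χ' (fun m => ?_) m hm
    · have hck : Spec.map (CommRingCat.ofHom (c.comp f)) ≫ P.t = Spec.map (CommRingCat.ofHom c) ≫ P'.t := by
        rw [← hf, comp_mk_eq]
      have hc : Spec.map (CommRingCat.ofHom c) ≫ P'.t = Spec.map (CommRingCat.ofHom c) ≫ P'.t := rfl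
      have h3 := map_mul (pt P' c hc) ψ ψ'
      rw [key C c _ hc hck, key C c _ hc hck, key C c _ hc hck, ← map_mul] at h3
      exact DFunLike.congr_fun ((pt P (c.comp f) hck).injective h3) m
    · have h3 := key _ c0 t0 hk0 hk0' χ'
      rw [hχ'] at h3
      exact (DFunLike.congr_fun ((pt P k0 hk0').injective h3) m).symm
  rw [Piece.g, Piece.g, ← hl, ← Category.assoc, ← Category.assoc]
  congr 1
  refine Over.OverMorphism.ext ?_
  show Spec.map _ ≫ Spec.map _ = Spec.map _ ≫ Spec.map _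
  rw [← Spec.map_comp, ← Spec.map_comp, ← CommRingCat.ofHom_comp, ← CommRingCat.ofHom_comp,
    mean_S1map f F hF (idl_map J f hf).le _ _ h1]

theorem g_eq_one {D : Type u} [CommRing D] (P : Piece J H D) (hbot : idl J P.t = ⊥) : P.g u v h0 = 1 := by
  obtain ⟨p⟩ := exists_of_idl_eq_bot J P.tA (by
    rw [← idl_map J (MonoidAlgebra.singleOneRingHom : D →+* P.A) (t := P.t) (t' := P.tA) rfl, hbot, Ideal.map_bot])
  have : P.l u v h0 = 1 := incl_mono P _ _ (by
    rw [P.incl_l u v h0, MonObj.comp_one, h0 _ p, mul_inv_cancel])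
  rw [Piece.g, this, MonObj.comp_one]

lemma coeff_sigma {D : Type u} [CommRing D] (M : Type) [AddCommGroup M] (m : Multiplicative M) (hm : m ≠ 1) :
    ((MonoidAlgebra.singleOneRingHom (MonoidAlgebra.single m (1 : D)) : MonoidAlgebra (MonoidAlgebra D (Multiplicative M)) (Multiplicative M)) *
      MonoidAlgebra.of (MonoidAlgebra D (Multiplicative M)) (Multiplicative M) m).coeff 1 = 0 := by
  classical
  simp [MonoidAlgebra.singleOneRingHom, MonoidAlgebra.single_mul_single, Finsupp.single_apply, hm]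

set_option maxHeartbeats 1000000 in
theorem conj {D : Type u} [CommRing D] (P : Piece J H D) :
    P.h ≫ v = (res (MonoidAlgebra.singleOneRingHom : D →+* P.A) (t := P.t) (t' := P.tA) rfl ≫ P.g u v h0) * (P.h ≫ u) *
      (res (MonoidAlgebra.singleOneRingHom : D →+* P.A) (t := P.t) (t' := P.tA) rfl ≫ P.g u v h0)⁻¹ := by
  classical
  let c1 : D →+* P.A := MonoidAlgebra.singleOneRingHom
  let P' := P.bc c1
  have hf : Spec.map (CommRingCat.ofHom c1) ≫ P.t = P'.t := P.bc_t c1
  let c2 : P.A →+* P'.A := MonoidAlgebra.singleOneRingHom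
  let a0 : Multiplicative P.M →* P'.A := c2.toMonoidHom.comp (MonoidAlgebra.of D (Multiplicative P.M))
  let b0 : Multiplicative P.M →* P'.A := MonoidAlgebra.of P.A (Multiplicative P.M)
  let σ : P.A →+* P'.A := MonoidAlgebra.liftNCRingHom (c2.comp c1) (a0 * b0)
    fun _ _ => Commute.all _ _
  have hσ : ∀ d, σ (MonoidAlgebra.single 1 d) = MonoidAlgebra.single 1 (c1 d) := fun d => by
    simp only [σ, MonoidAlgebra.liftNCRingHom_single, map_one, _root_.mul_one]
    rfl
  have hk : Spec.map (CommRingCat.ofHom (c2.comp c1)) ≫ P.t = P'.tA := by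
    rw [Piece.tA, ← hf, comp_mk_eq]
  have hσt : Spec.map (CommRingCat.ofHom σ) ≫ P.tA = P'.tA := by
    rw [Piece.tA, comp_mk_eq, show σ.comp (MonoidAlgebra.singleOneRingHom : D →+* P.A) = c2.comp c1 from RingHom.ext hσ, hk]
  -- the constant point
  have hcA : Spec.map (CommRingCat.ofHom c2) ≫ P.tA = P'.tA := by rw [Piece.tA, comp_mk_eq]; exact hk
  have hcB : Spec.map (CommRingCat.ofHom (cst (idl J P'.t) P'.M)) ≫ P.tA = P'.tB J := by
    show _ = _ ≫ P'.t
    rw [← hf]
  let aB : Over.mk (P'.tB J) ⟶ H := res (cst (idl J P'.t) P'.M) hcB ≫ P.h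
  have haB : P'.incl J ≫ aB = res c2 hcA ≫ P.h := by
    rw [← Category.assoc]
    congr 1
    exact res_comp _ _ c2 _ _ _ rfl
  have hb : P'.h = pt P (c2.comp c1) hk (MonoidAlgebra.of P.A (Multiplicative P.M)) := P.bc_h c1 hk
  have hσh : res σ hσt ≫ P.h = (res c2 hcA ≫ P.h) * P'.h := by
    rw [P.res_h σ (c2.comp c1) hσt hk (RingHom.ext hσ), P.res_h c2 (c2.comp c1) hcA hk rfl, hb, ← map_mul]
    congr 1
    refine MonoidHom.ext fun m => ?_
    simp [σ, a0, b0]
  obtain ⟨hB, hl⟩ := l_nat u v h0 P P' c1 hf σ hσ hσt ((aB ≫ v) * P'.l u v h0 * (aB ≫ u)⁻¹) (by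
    rw [MonObj.comp_mul, MonObj.comp_mul, GrpObj.comp_inv, P'.incl_l u v h0,
      (Category.assoc _ _ _).symm.trans (congrArg (· ≫ v) haB), (Category.assoc _ _ _).symm.trans (congrArg (· ≫ u) haB),
      MonObj.comp_mul, GrpObj.comp_inv, ← Category.assoc, ← Category.assoc, hσh, MonObj.mul_comp, MonObj.mul_comp,
      _root_.mul_inv_rev]
    simp only [_root_.mul_assoc])
  have hm := compat u v h0 P P' c1 hf
  have h1 : ∀ m, m ≠ 1 → (σ (MonoidAlgebra.single m 1)).coeff 1 = 0 := fun m hm => by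
    have e : σ (MonoidAlgebra.single m 1) = c2 (MonoidAlgebra.single m (1 : D)) * b0 m := by
      refine (MonoidAlgebra.liftNCRingHom_single _ _ _ _ _).trans ?_
      rw [map_one, _root_.one_mul]
      rfl
    rw [e]
    exact coeff_sigma P.M m hm
  let π' := res (mean (idl J P'.t) P'.M P'.sq) P'.mean_w
  have e1 : π' ≫ res _ hB = res c1 hf ≫ res (mean (idl J P.t) P.M P.sq) P.mean_w := by
    refine Over.OverMorphism.ext ?_
    show Spec.map _ ≫ Spec.map _ = Spec.map _ ≫ Spec.map _
    rw [← Spec.map_comp, ← Spec.map_comp, ← CommRingCat.ofHom_comp, ← CommRingCat.ofHom_comp,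
      mean_S1map c1 σ hσ (idl_map J c1 hf).le _ _ h1]
  have e2 : π' ≫ res (cst (idl J P'.t) P'.M) hcB = res (RingHom.id P.A) (t := P.tA) (t' := P'.t) (by
      rw [← hf, CommRingCat.ofHom_id, Spec.map_id, Category.id_comp]) :=
    res_comp _ _ _ _ _ _ (mean_cst _)
  have key := congrArg (π' ≫ ·) hl
  simp only [MonObj.comp_mul, GrpObj.comp_inv, ← Category.assoc, aB] at key
  rw [e1, e2, Category.assoc (res c1 hf)] at key
  change res c1 hf ≫ P.g u v h0 = (_ * (P'.g u v h0)) * _ at key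
  rw [← hm] at key
  -- transport to `P.tA`
  have iso : res (RingHom.id P.A) (t := P'.t) (t' := P.tA) (by
      rw [← hf, CommRingCat.ofHom_id, Spec.map_id, Category.id_comp]) ≫ res c1 hf =
      res (MonoidAlgebra.singleOneRingHom : D →+* P.A) (t := P.t) (t' := P.tA) rfl := res_comp _ _ _ _ _ _ rfl
  let j : Over.mk P.tA ⟶ Over.mk P'.t := res (RingHom.id P.A) (by
      rw [← hf, CommRingCat.ofHom_id, Spec.map_id, Category.id_comp])
  have key2 := congrArg (j ≫ ·) key
  simp only [MonObj.comp_mul, GrpObj.comp_inv, ← Category.assoc] at key2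
  rw [iso, show j ≫ res (RingHom.id P.A) (t := P.tA) (t' := P'.t) _ = 𝟙 _ from
    (res_comp _ _ _ _ _ (by rw [CommRingCat.ofHom_id, Spec.map_id, Category.id_comp]) rfl).trans (res_id _ rfl _),
    Category.id_comp] at key2
  generalize res (MonoidAlgebra.singleOneRingHom : D →+* P.A) (t := P.t) (t' := P.tA) rfl ≫ P.g u v h0 = gg at key2 ⊢
  generalize P.h ≫ v = a at key2 ⊢
  generalize P.h ≫ u = b at key2 ⊢
  calc a = a * gg * b⁻¹ * (b * gg⁻¹) := by group
    _ = gg * (b * gg⁻¹) := by rw [← key2]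
    _ = gg * b * gg⁻¹ := (_root_.mul_assoc _ _ _).symm

end Groth.Agent.H8ConjRigid
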