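import Mathlib

/-!
# Lifting sections along square-zero ideals: the algebra

If lifts exist Zariski locally (and for test algebras), a section `C → A/I` of a second order
neighbourhood lifts to `C → A`.
-/

set_option autoImplicit false
set_option linter.all false

universe u

namespace Groth.Agent.H8SmoothLiftCore

variable {A : Type u} [CommRing A] (I : Ideal A) {C : Type u} [CommRing C] [Algebra A C]
  (π : C →ₐ[A] A ⧸ I)

/-- Local lifting property over `D(g)`. -/
def LocalLift (g : A) : Prop :=
  ∀ (D : Type u) [CommRing D] [Algebra A D], IsUnit (algebraMap A D g) → ∀ (J J₁ : Ideal D), J ≤ J₁ → J₁ ^ 2 = ⊥ →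
    ∀ ψ : C →ₐ[A] D ⧸ J,
      (∀ (c : C) (a : A) (d : D), π c = Ideal.Quotient.mk I a → Ideal.Quotient.mk J d = ψ c → d - algebraMap A D a ∈ J₁) →
        ∃ l : C →ₐ[A] D, ∀ c, Ideal.Quotient.mk J (l c) = ψ c

variable {I π}

lemma kill_pow {M : Type u} [AddCommGroup M] [Module A M] (N : Submodule A M) (G : Set A) (hG : Ideal.span G = ⊤)
    {x : M} (h : ∀ g ∈ G, ∃ n : ℕ, g ^ n • x ∈ N) : x ∈ N :=
  Submodule.mem_of_span_eq_top_of_smul_pow_mem N G hG x fun r => h r r.2

section

variable (hI : I ^ 2 = ⊥) (hK : RingHom.ker π ^ 2 = ⊥)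

include hK in
lemma mul_kill {c d : C} (hc : π c = 0) (hd : π d = 0) : c * d = 0 := by
  have h : c * d ∈ RingHom.ker π * RingHom.ker π := Ideal.mul_mem_mul hc hd
  rw [← pow_two, hK, Ideal.mem_bot] at h
  exact h

omit [CommRing C] in
lemma pi_algebraMap [CommRing C] [Algebra A C] (π : C →ₐ[A] A ⧸ I) (a : A) :
    π (algebraMap A C a) = Ideal.Quotient.mk I a := π.commutes a

include hI hK in
theorem exists_lift (hft : Algebra.FiniteType A C) (G : Set A) (hG : Ideal.span G = ⊤)
    (hP : ∀ g ∈ G, LocalLift I π g) : ∃ l : C →ₐ[A] A, ∀ c, Ideal.Quotient.mk I (l c) = π c := by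
  classical
  obtain ⟨G₀, hG₀, hG₀'⟩ := Submodule.mem_span_finite_of_mem_span (show (1 : A) ∈ Ideal.span G by rw [hG]; trivial)
  have hG0 : Ideal.span (G₀ : Set A) = ⊤ := (Ideal.eq_top_iff_one _).mpr hG₀'
  -- generators
  obtain ⟨S, hS⟩ := hft.out
  have hpi : ∀ c, ∃ a : A, Ideal.Quotient.mk I a = π c := fun c => Ideal.Quotient.mk_surjective (π c)
  choose av hav using hpi
  have hI0 : ∀ {i : A}, i ∈ I → π (algebraMap A C i) = 0 := fun hi => by
    rw [pi_algebraMap, Ideal.Quotient.eq_zero_iff_mem]; exact hi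
  let κ : C → C := fun c => c - algebraMap A C (av c)
  have hκ : ∀ c, π (κ c) = 0 := fun c => by rw [map_sub, pi_algebraMap, hav, sub_self]
  let n := S.card
  let e : Fin n ≃ ↥S := S.equivFin.symm
  let k : Fin n → C := fun j => κ (e j)
  let jI : Submodule A C := Submodule.map (Algebra.linearMap A C) I
  let sp : (Fin n → A) →ₗ[A] C := Fintype.linearCombination A k
  have hdec : ∀ c : C, ∃ (a : A) (x : Fin n → A), c = algebraMap A C a + sp x := by
    intro c
    have hc : c ∈ Algebra.adjoin A (S : Set C) := hS ▸ Algebra.mem_top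
    induction hc using Algebra.adjoin_induction with
    | mem s hs =>
      refine ⟨av s, Pi.single (e.symm ⟨s, hs⟩) 1, ?_⟩
      simp [sp, k, κ, Fintype.linearCombination_apply, Pi.single_apply, ite_smul]
    | algebraMap r => exact ⟨r, 0, by simp⟩
    | add c d _ _ hc hd =>
      obtain ⟨a, x, rfl⟩ := hc
      obtain ⟨b, y, rfl⟩ := hd
      exact ⟨a + b, x + y, by simp only [map_add]; abel⟩
    | mul c d _ _ hc hd =>
      obtain ⟨a, x, rfl⟩ := hc
      obtain ⟨b, y, rfl⟩ := hd
      refine ⟨a * b, a • y + b • x, ?_⟩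
      have hsp : ∀ z, π (sp z) = 0 := fun z => by
        simp only [sp, Fintype.linearCombination_apply, map_sum, map_smul]
        exact Finset.sum_eq_zero fun j _ => by rw [show π (k j) = 0 from hκ _, smul_zero]
      have h0 := mul_kill hK (hsp x) (hsp y)
      rw [map_add, map_smul, map_smul, map_mul]
      simp only [Algebra.smul_def]
      linear_combination h0
  have hsp : ∀ z, π (sp z) = 0 := fun z => by
    simp only [sp, Fintype.linearCombination_apply, map_sum, map_smul]
    exact Finset.sum_eq_zero fun j _ => by rw [show π (k j) = 0 from hκ _, smul_zero]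
  have hpd : ∀ a x, π (algebraMap A C a + sp x) = Ideal.Quotient.mk I a := fun a x => by
    rw [map_add, pi_algebraMap, hsp, add_zero]
  let Rel : Submodule A (Fin n → A) := Submodule.comap sp jI
  have hIk : ∀ {i : A}, i ∈ I → ∀ x, i • sp x = 0 := fun hi x => by
    rw [Algebra.smul_def]; exact mul_kill hK (hI0 hi) (hsp x)
  have hIRel : ∀ x : Fin n → A, (∀ j, x j ∈ I) → x ∈ Rel := fun x hx => by
    show sp x ∈ jI
    simp only [sp, Fintype.linearCombination_apply]
    refine Submodule.sum_mem _ fun j _ => ?_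
    rw [Algebra.smul_def, mul_kill hK (hI0 (hx j)) (hκ _)]
    exact zero_mem _
  have hIsq : ∀ {a b : A}, a ∈ I → b ∈ I → a * b = 0 := fun ha hb => by
    have h := Ideal.mul_mem_mul ha hb
    rw [← pow_two, hI, Ideal.mem_bot] at h
    exact h
  -- the localisations
  have loc : ∀ g ∈ G, ∃ (N : ℕ) (W : Fin n → Fin n → A), (∀ j, g ^ N • Pi.single j 1 - W j ∈ Rel) ∧
      ∀ x ∈ Rel, ∃ M : ℕ, ∀ i, g ^ M * (∑ j, x j * W j i) ∈ I := by
    intro g hg
    let A0 := A ⧸ I
    let gb : A0 := Ideal.Quotient.mk I g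
    let L := Localization.Away gb
    have hmapL : ∀ a : A, algebraMap A L a = algebraMap A0 L (Ideal.Quotient.mk I a) :=
      fun a => IsScalarTower.algebraMap_apply A A0 L a
    have hsurj : ∀ z : L, ∃ (a : A) (N : ℕ), algebraMap A L (g ^ N) * z = algebraMap A L a := by
      intro z
      obtain ⟨⟨b, s⟩, hs⟩ := IsLocalization.surj (Submonoid.powers gb) z
      obtain ⟨N, hN⟩ := s.2
      obtain ⟨a, rfl⟩ := Ideal.Quotient.mk_surjective b
      refine ⟨a, N, ?_⟩
      rw [hmapL, hmapL]
      rw [map_pow, show (Ideal.Quotient.mk I g) ^ N = (s : A0) from hN, mul_comm]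
      exact hs
    have hzero : ∀ a : A, algebraMap A L a = 0 → ∃ M : ℕ, g ^ M * a ∈ I := by
      intro a ha
      rw [hmapL] at ha
      obtain ⟨⟨s, M, rfl⟩, hs⟩ := (IsLocalization.map_eq_zero_iff (Submonoid.powers gb) L _).mp ha
      exact ⟨M, Ideal.Quotient.eq_zero_iff_mem.mp (by rw [map_mul, map_pow]; exact hs)⟩
    have hunit : IsUnit (algebraMap A L g) := by rw [hmapL]; exact IsLocalization.Away.algebraMap_isUnit (S := L) gb
    -- relations after localising
    let ρ : (Fin n → A) →ₗ[A] (Fin n → L) := (Algebra.linearMap A L).compLeft (Fin n)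
    let RL : Submodule L (Fin n → L) := Submodule.span L (ρ '' (Rel : Set (Fin n → A)))
    have hRL : ∀ y ∈ RL, ∃ (M : ℕ) (x : Fin n → A), x ∈ Rel ∧ algebraMap A L (g ^ M) • y = ρ x := by
      intro y hy
      induction hy using Submodule.span_induction with
      | mem y hy => obtain ⟨x, hx, rfl⟩ := hy; exact ⟨0, x, hx, by simp⟩
      | zero => exact ⟨0, 0, zero_mem _, by simp⟩
      | add y z _ _ hy hz =>
        obtain ⟨M, x, hx, hy⟩ := hy
        obtain ⟨M', x', hx', hz⟩ := hz
        refine ⟨M + M', g ^ M' • x + g ^ M • x', add_mem (Submodule.smul_mem _ _ hx) (Submodule.smul_mem _ _ hx'), ?_⟩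
        rw [map_add, map_smul, map_smul, ← hy, ← hz, smul_add, pow_add, map_mul]
        simp only [← algebraMap_smul (R := A) L, smul_smul]
        rw [mul_comm (algebraMap A L (g ^ M'))]
      | smul c y _ hy =>
        obtain ⟨M, x, hx, hy⟩ := hy
        obtain ⟨a, N, ha⟩ := hsurj c
        refine ⟨N + M, a • x, Submodule.smul_mem _ _ hx, ?_⟩
        rw [map_smul, ← hy, ← algebraMap_smul (R := A) L a, smul_smul, smul_smul, pow_add, map_mul, ← ha]
        congr 1
        ring
    have ham : ∀ a, algebraMap A (TrivSqZeroExt L (Fin n → L)) a = TrivSqZeroExt.inl (algebraMap A L a) := fun a => rfl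
    let J₁ : Ideal (TrivSqZeroExt L (Fin n → L)) := RingHom.ker (TrivSqZeroExt.fstHom L L (Fin n → L)).toRingHom
    let J : Ideal (TrivSqZeroExt L (Fin n → L)) :=
      { carrier := {d | d.fst = 0 ∧ d.snd ∈ RL}
        zero_mem' := ⟨rfl, zero_mem _⟩
        add_mem' := fun {a b} ha hb => by
          refine ⟨?_, ?_⟩
          · rw [TrivSqZeroExt.fst_add, ha.1, hb.1, add_zero]
          · rw [TrivSqZeroExt.snd_add]; exact add_mem ha.2 hb.2
        smul_mem' := fun c d hd => by
          refine ⟨?_, ?_⟩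
          · rw [smul_eq_mul, TrivSqZeroExt.fst_mul, hd.1, mul_zero]
          · rw [smul_eq_mul, TrivSqZeroExt.snd_mul, hd.1]
            simpa using RL.smul_mem c.fst hd.2 }
    have hJle : J ≤ J₁ := fun d hd => hd.1
    have hJ₁ : J₁ ^ 2 = ⊥ := by
      rw [pow_two, eq_bot_iff, Ideal.mul_le]
      intro a ha b hb
      rw [Ideal.mem_bot]
      ext <;> simp [show a.fst = 0 from ha, show b.fst = 0 from hb]
    have key : ∀ {a b : A} {x y : Fin n → A}, algebraMap A C a + sp x = algebraMap A C b + sp y →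
        algebraMap A L a = algebraMap A L b ∧ ρ (x - y) ∈ RL := by
      intro a b x y h
      have h1 : Ideal.Quotient.mk I a = Ideal.Quotient.mk I b := by rw [← hpd a x, ← hpd b y, h]
      refine ⟨(hmapL a).trans ((congrArg (algebraMap A0 L) h1).trans (hmapL b).symm), Submodule.subset_span ⟨_, ?_, rfl⟩⟩
      show sp (x - y) ∈ jI
      refine ⟨b - a, ?_, ?_⟩
      · show b - a ∈ I
        rw [← neg_sub]; exact neg_mem (Ideal.Quotient.eq.mp h1)
      · simp only [Algebra.linearMap_apply, map_sub]
        linear_combination -h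
    choose da dx hd using hdec
    let Φ : A → (Fin n → A) → (TrivSqZeroExt L (Fin n → L)) ⧸ J := fun a x =>
      Ideal.Quotient.mk J (TrivSqZeroExt.inl (algebraMap A L a) + TrivSqZeroExt.inr (ρ x))
    have hΦ : ∀ {c : C} {a : A} {x : Fin n → A}, c = algebraMap A C a + sp x → Φ (da c) (dx c) = Φ a x := by
      intro c a x h
      obtain ⟨h1, h2⟩ := key ((hd c).symm.trans h)
      refine Ideal.Quotient.eq.mpr ⟨by simp [h1], ?_⟩
      simpa [map_sub] using h2
    let ψr : C →+* (TrivSqZeroExt L (Fin n → L)) ⧸ J :=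
      { toFun := fun c => Φ (da c) (dx c)
        map_one' := (hΦ (a := 1) (x := 0) (by simp)).trans (by simp [Φ])
        map_zero' := (hΦ (a := 0) (x := 0) (by simp)).trans (by simp [Φ])
        map_add' := fun c d => (hΦ (a := da c + da d) (x := dx c + dx d) (by
          conv_lhs => rw [hd c, hd d]
          simp only [map_add]; abel)).trans (by
          simp only [Φ]
          rw [← map_add]
          congr 1
          rw [map_add, map_add]
          refine TrivSqZeroExt.ext ?_ ?_ <;>
            simp only [TrivSqZeroExt.fst_add, TrivSqZeroExt.snd_add, TrivSqZeroExt.fst_inl, TrivSqZeroExt.snd_inl,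
              TrivSqZeroExt.fst_inr, TrivSqZeroExt.snd_inr] <;> abel)
        map_mul' := fun c d => (hΦ (a := da c * da d) (x := da c • dx d + da d • dx c) (by
          conv_lhs => rw [hd c, hd d]
          have h0 := mul_kill hK (hsp (dx c)) (hsp (dx d))
          rw [map_add, map_smul, map_smul, map_mul]
          simp only [Algebra.smul_def]
          linear_combination h0)).trans (by
          simp only [Φ]
          rw [← map_mul]
          congr 1
          ext j
          · simp only [TrivSqZeroExt.fst_add, TrivSqZeroExt.fst_mul, TrivSqZeroExt.fst_inl, TrivSqZeroExt.fst_inr, map_mul]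
            ring
          · simp [ρ, Algebra.smul_def]) }
    let ψ : C →ₐ[A] (TrivSqZeroExt L (Fin n → L)) ⧸ J :=
      { ψr with
        commutes' := fun a => (hΦ (a := a) (x := 0) (by simp)).trans (by
          simp only [Φ, map_zero, TrivSqZeroExt.inr_zero, add_zero]
          rfl) }
    obtain ⟨l, hl⟩ := hP g hg (TrivSqZeroExt L (Fin n → L)) (by
      rw [ham]; exact hunit.map (TrivSqZeroExt.inlHom L (Fin n → L))) J J₁ hJle hJ₁ ψ (by
      intro c a d hc hd'
      have h1 : Ideal.Quotient.mk J d = Φ (da c) (dx c) := hd'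
      have h2 := (Ideal.Quotient.eq.mp h1).1
      have h3 : algebraMap A L (da c) = algebraMap A L a := by
        rw [hmapL, hmapL]
        refine congrArg (algebraMap A0 L) ?_
        have : π c = Ideal.Quotient.mk I (da c) := by conv_lhs => rw [hd c]; exact hpd _ _
        exact this.symm.trans hc
      show (d - algebraMap A (TrivSqZeroExt L (Fin n → L)) a).fst = 0
      simp [ham] at h2 ⊢
      linear_combination h2 + h3)
    let e1 : C →ₗ[A] (Fin n → L) :=
      { toFun := fun c => (l c).snd
        map_add' := fun c d => by simp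
        map_smul' := fun a c => by
          ext j
          simp [Algebra.smul_def, ham, TrivSqZeroExt.snd_mul, RingHom.algebraMap_toAlgebra] }
    have hek : ∀ j, e1 (k j) - ρ (Pi.single j 1) ∈ RL := by
      intro j
      have h1 : Ideal.Quotient.mk J (l (k j)) = Φ 0 (Pi.single j 1) := (hl _).trans (hΦ (by
        simp [sp, Fintype.linearCombination_apply, Pi.single_apply, ite_smul]))
      have := (Ideal.Quotient.eq.mp h1).2
      simpa [Φ, e1] using this
    have hej : ∀ y ∈ jI, e1 y = 0 := by
      rintro _ ⟨i, hi, rfl⟩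
      show (l (algebraMap A C i)).snd = 0
      rw [l.commutes, ham, TrivSqZeroExt.snd_inl]
    have hsum : ∀ x ∈ Rel, ∑ j, x j • e1 (k j) = 0 := fun x hx => by
      have := hej _ hx
      simpa [sp, Fintype.linearCombination_apply, map_sum] using this
    choose w Nw hw using fun p : Fin n × Fin n => hsurj (e1 (k p.1) p.2)
    let N₀ := Finset.univ.sum Nw
    let W₀ : Fin n → Fin n → A := fun j i => g ^ (N₀ - Nw (j, i)) * w (j, i)
    have hW₀ : ∀ j, ρ (W₀ j) = algebraMap A L (g ^ N₀) • e1 (k j) := fun j => funext fun i => by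
      show algebraMap A L (W₀ j i) = algebraMap A L (g ^ N₀) * e1 (k j) i
      have hle : Nw (j, i) ≤ N₀ := Finset.single_le_sum (f := Nw) (fun _ _ => Nat.zero_le _) (Finset.mem_univ (j, i))
      rw [map_mul, ← hw (j, i), ← mul_assoc, ← map_mul, ← pow_add, Nat.sub_add_cancel hle]
    have hmem : ∀ j, ∃ M : ℕ, g ^ M • (g ^ N₀ • Pi.single j 1 - W₀ j) ∈ Rel := by
      intro j
      have h1 : ρ (g ^ N₀ • Pi.single j 1 - W₀ j) ∈ RL := by
        rw [map_sub, hW₀, map_smul, ← algebraMap_smul (R := A) L, ← smul_sub, ← neg_sub, smul_neg]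
        exact neg_mem (RL.smul_mem _ (hek j))
      obtain ⟨M, x, hx, he⟩ := hRL _ h1
      rw [algebraMap_smul, ← map_smul, ← sub_eq_zero, ← map_sub] at he
      choose M' hM' using fun i => hzero _ (congrFun he i)
      refine ⟨Finset.univ.sum M' + M, ?_⟩
      have h2 : g ^ Finset.univ.sum M' • (g ^ M • (g ^ N₀ • Pi.single j 1 - W₀ j) - x) ∈ Rel := by
        refine hIRel _ fun i => ?_
        have hle : M' i ≤ Finset.univ.sum M' := Finset.single_le_sum (f := M') (fun _ _ => Nat.zero_le _) (Finset.mem_univ i)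
        obtain ⟨d, hd⟩ := Nat.exists_eq_add_of_le hle
        rw [Pi.smul_apply, smul_eq_mul, hd, pow_add, mul_assoc, mul_left_comm]
        exact Ideal.mul_mem_left _ _ (hM' i)
      rw [pow_add, mul_smul]
      have h3 := add_mem h2 (Submodule.smul_mem _ (g ^ Finset.univ.sum M') hx)
      rwa [← smul_add, sub_add_cancel] at h3
    choose Mj hMj using hmem
    let M₀ := Finset.univ.sum Mj
    refine ⟨M₀ + N₀, fun j => g ^ M₀ • W₀ j, fun j => ?_, fun x hx => ?_⟩
    · have hle : Mj j ≤ M₀ := Finset.single_le_sum (f := Mj) (fun _ _ => Nat.zero_le _) (Finset.mem_univ j)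
      obtain ⟨d, hd⟩ := Nat.exists_eq_add_of_le hle
      rw [pow_add, mul_smul, ← smul_sub, hd, pow_add, mul_comm, mul_smul]
      exact Submodule.smul_mem _ _ (hMj j)
    · have hz : ∀ i, algebraMap A L (∑ j, x j * W₀ j i) = 0 := fun i => by
        rw [map_sum]
        have h4 : ∀ j, algebraMap A L (x j * W₀ j i) = algebraMap A L (g ^ N₀) * (algebraMap A L (x j) * e1 (k j) i) := fun j => by
          rw [map_mul, show algebraMap A L (W₀ j i) = (ρ (W₀ j)) i from rfl, hW₀, Pi.smul_apply, smul_eq_mul]
          ring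
        simp only [h4, ← Finset.mul_sum]
        have := congrFun (hsum x hx) i
        simp only [Finset.sum_apply, Pi.smul_apply, Pi.zero_apply] at this
        simp only [Algebra.smul_def] at this
        rw [this, mul_zero]
      choose M' hM' using fun i => hzero _ (hz i)
      refine ⟨Finset.univ.sum M', fun i => ?_⟩
      have hle : M' i ≤ Finset.univ.sum M' := Finset.single_le_sum (f := M') (fun _ _ => Nat.zero_le _) (Finset.mem_univ i)
      obtain ⟨d, hd⟩ := Nat.exists_eq_add_of_le hle
      have h5 : ∑ j, x j * (g ^ M₀ • W₀ j) i = g ^ M₀ * ∑ j, x j * W₀ j i := by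
        rw [Finset.mul_sum]
        exact Finset.sum_congr rfl fun j _ => by rw [Pi.smul_apply, smul_eq_mul]; ring
      rw [h5, hd, show g ^ (M' i + d) * (g ^ M₀ * ∑ j, x j * W₀ j i) =
        g ^ d * g ^ M₀ * (g ^ M' i * ∑ j, x j * W₀ j i) by ring]
      exact Ideal.mul_mem_left _ _ (hM' i)
  -- the relations are finitely generated
  choose NG WG hW1 hW2 using loc
  let gen : ↥G₀ × Fin n → (Fin n → A) := fun p =>
    p.1.1 ^ NG p.1.1 (hG₀ p.1.2) • Pi.single p.2 1 - WG p.1.1 (hG₀ p.1.2) p.2
  let RI : Submodule A (Fin n → A) := Submodule.pi Set.univ fun _ => I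
  have hrel : Rel ≤ Submodule.span A (Set.range gen) ⊔ RI := by
    intro x hx
    refine kill_pow _ _ hG0 fun g hg => ?_
    obtain ⟨M, hM⟩ := hW2 g (hG₀ hg) x hx
    refine ⟨M + NG g (hG₀ hg), Submodule.mem_sup.mpr ⟨g ^ M • ∑ j, x j • gen (⟨g, hg⟩, j), ?_, g ^ M • ∑ j, x j • WG g (hG₀ hg) j, ?_, ?_⟩⟩
    · exact Submodule.smul_mem _ _ (Submodule.sum_mem _ fun j _ => Submodule.smul_mem _ _ (Submodule.subset_span ⟨_, rfl⟩))
    · intro i _
      simp only [Pi.smul_apply, Finset.sum_apply, smul_eq_mul]
      exact hM i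
    · rw [← smul_add, ← Finset.sum_add_distrib, pow_add, mul_smul]
      congr 1
      simp only [gen, ← smul_add, sub_add_cancel]
      ext i
      simp [Pi.single_apply, Finset.sum_apply, mul_comm]
  have hgen : ∀ p, gen p ∈ Rel := fun p => hW1 _ _ _
  choose t ht using fun p => hgen p
  -- local solutions
  have hloc2 : ∀ g ∈ G, ∃ (N : ℕ) (v : Fin n → A), (∀ j, v j ∈ I) ∧ ∀ p, g ^ N * t p = ∑ j, gen p j * v j := by
    intro g hg
    let L := Localization.Away g
    let IL : Ideal L := I.map (algebraMap A L)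
    have hIL : IL ^ 2 = ⊥ := by rw [← Ideal.map_pow, hI, Ideal.map_bot]
    let q : A ⧸ I →ₐ[A] L ⧸ IL := Ideal.quotientMapₐ IL (Algebra.ofId A L) Ideal.le_comap_map
    obtain ⟨l, hl⟩ := hP g hg L (IsLocalization.Away.algebraMap_isUnit g) IL IL le_rfl hIL (q.comp π) (by
      intro c a d hc hd
      refine Ideal.Quotient.eq.mp (hd.trans ?_)
      show q (π c) = _
      rw [hc]
      rfl)
    have hlI : ∀ c, π c = 0 → l c ∈ IL := fun c hc => Ideal.Quotient.eq_zero_iff_mem.mp (by
      rw [hl, AlgHom.comp_apply, hc, map_zero])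
    have hfrac : ∀ j, ∃ (i : A) (N : ℕ), i ∈ I ∧ algebraMap A L (g ^ N) * l (k j) = algebraMap A L i := fun j => by
      obtain ⟨⟨⟨i, hi⟩, s⟩, hs⟩ := (IsLocalization.mem_map_algebraMap_iff (Submonoid.powers g) L).mp (hlI _ (hκ _))
      obtain ⟨N, hN⟩ := s.2
      refine ⟨i, N, hi, ?_⟩
      rw [show g ^ N = (s : A) from hN, mul_comm]
      exact hs
    choose v₀ Nv hv₀ hv using hfrac
    let N₁ := Finset.univ.sum Nv
    let v₁ : Fin n → A := fun j => g ^ (N₁ - Nv j) * v₀ j
    have hv₁ : ∀ j, algebraMap A L (v₁ j) = algebraMap A L (g ^ N₁) * l (k j) := fun j => by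
      have hle : Nv j ≤ N₁ := Finset.single_le_sum (f := Nv) (fun _ _ => Nat.zero_le _) (Finset.mem_univ j)
      rw [map_mul, ← hv, ← mul_assoc, ← map_mul, ← pow_add, Nat.sub_add_cancel hle]
    have hz : ∀ p, algebraMap A L (g ^ N₁ * t p - ∑ j, gen p j * v₁ j) = 0 := fun p => by
      have h6 : l (sp (gen p)) = algebraMap A L (t p) := by
        rw [← (ht p).2]
        exact l.commutes _
      rw [map_sub, map_mul, ← h6, map_sum, sub_eq_zero]
      simp only [sp, Fintype.linearCombination_apply, map_sum, map_smul, map_mul, hv₁, Algebra.smul_def,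
        AlgHom.commutes]
      rw [Finset.mul_sum]
      exact Finset.sum_congr rfl fun j _ => by ring
    choose M hM using fun p => (IsLocalization.map_eq_zero_iff (Submonoid.powers g) L _).mp (hz p)
    choose Mn hMn using fun p => (M p).2
    let M₁ := Finset.univ.sum Mn
    refine ⟨M₁ + N₁, fun j => g ^ M₁ * v₁ j, fun j => Ideal.mul_mem_left _ _ (Ideal.mul_mem_left _ _ (hv₀ j)), fun p => ?_⟩
    have hle : Mn p ≤ M₁ := Finset.single_le_sum (f := Mn) (fun _ _ => Nat.zero_le _) (Finset.mem_univ p)
    obtain ⟨d, hd⟩ := Nat.exists_eq_add_of_le hle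
    have h7 : g ^ M₁ * (g ^ N₁ * t p - ∑ j, gen p j * v₁ j) = 0 := by
      rw [hd, pow_add, mul_comm _ (g ^ d), mul_assoc, show g ^ Mn p = (M p : A) from hMn p, hM p, mul_zero]
    rw [mul_sub, sub_eq_zero, ← mul_assoc, ← pow_add, Finset.mul_sum] at h7
    rw [h7]
    exact Finset.sum_congr rfl fun j _ => by ring
  choose N2 v2 hv2I hv2 using hloc2
  have hpow : (1 : A) ∈ Ideal.span (Set.range fun g : ↥G₀ => (g : A) ^ N2 g.1 (hG₀ g.2)) := by
    rw [← Ideal.eq_top_iff_one]
    refine Ideal.radical_eq_top.mp ?_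
    rw [eq_top_iff, ← hG0, Ideal.span_le]
    intro g hg
    exact ⟨N2 g (hG₀ hg), Ideal.subset_span ⟨⟨g, hg⟩, rfl⟩⟩
  obtain ⟨cg, hcg⟩ := Submodule.mem_span_range_iff_exists_fun A |>.mp hpow
  let v : Fin n → A := fun j => ∑ g : ↥G₀, cg g * v2 g.1 (hG₀ g.2) j
  have hvI : ∀ j, v j ∈ I := fun j => Ideal.sum_mem _ fun g _ => Ideal.mul_mem_left _ _ (hv2I _ _ _)
  have hvt : ∀ p, t p = ∑ j, gen p j * v j := by
    intro p
    calc t p = (∑ g : ↥G₀, cg g • (g : A) ^ N2 g.1 (hG₀ g.2)) * t p := by rw [hcg, one_mul]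
      _ = ∑ g : ↥G₀, cg g * ∑ j, gen p j * v2 g.1 (hG₀ g.2) j := by
          rw [Finset.sum_mul]
          exact Finset.sum_congr rfl fun g _ => by rw [smul_eq_mul, mul_assoc, hv2]
      _ = _ := by
          simp only [v, Finset.mul_sum]
          rw [Finset.sum_comm]
          exact Finset.sum_congr rfl fun j _ => Finset.sum_congr rfl fun g _ => by ring
  -- injectivity
  have hinj : ∀ i : A, algebraMap A C i = 0 → i = 0 := by
    intro i hi
    refine kill_pow (⊥ : Submodule A A) G hG fun g hg => ?_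
    let L := Localization.Away g
    let q : A ⧸ I →ₐ[A] L ⧸ I.map (algebraMap A L) := Ideal.quotientMapₐ _ (Algebra.ofId A L) Ideal.le_comap_map
    obtain ⟨l, -⟩ := hP g hg L (IsLocalization.Away.algebraMap_isUnit g) _ _ le_rfl (by rw [← Ideal.map_pow, hI, Ideal.map_bot]) (q.comp π) (by
      intro c a d hc hd
      refine Ideal.Quotient.eq.mp (hd.trans ?_)
      show q (π c) = _
      rw [hc]
      rfl)
    have : algebraMap A L i = 0 := by rw [← l.commutes, hi, map_zero]
    obtain ⟨⟨s, M, rfl⟩, hs⟩ := (IsLocalization.map_eq_zero_iff (Submonoid.powers g) L _).mp this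
    exact ⟨M, hs⟩
  have huniq : ∀ {a b : A} {x y : Fin n → A}, algebraMap A C a + sp x = algebraMap A C b + sp y →
      a + ∑ j, x j * v j = b + ∑ j, y j * v j := by
    intro a b x y h
    have hxy : sp (x - y) = algebraMap A C (b - a) := by rw [map_sub, map_sub]; linear_combination h
    have hba : b - a ∈ I := by
      rw [← Ideal.Quotient.eq, ← hpd b y, ← h, hpd]
    have hmem : x - y ∈ Rel := ⟨b - a, hba, hxy.symm⟩
    obtain ⟨r, hr, s, hs, hrs⟩ := Submodule.mem_sup.mp (hrel hmem)
    obtain ⟨cp, hcp⟩ := Submodule.mem_span_range_iff_exists_fun A |>.mp hr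
    have hs0 : ∀ j, s j * v j = 0 := fun j => hIsq (hs j trivial) (hvI j)
    have hsps : sp s = 0 := by
      simp only [sp, Fintype.linearCombination_apply]
      refine Finset.sum_eq_zero fun j _ => ?_
      rw [Algebra.smul_def, mul_kill hK (hI0 (hs j trivial)) (hκ _)]
    have hr' : algebraMap A C (∑ j, r j * v j) = sp r := by
      rw [← hcp, map_sum sp]
      simp only [map_smul]
      have : ∀ p, sp (gen p) = algebraMap A C (t p) := fun p => (ht p).2.symm
      simp only [this, Algebra.smul_def, ← map_mul, ← map_sum]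
      congr 1
      simp only [hvt, Finset.mul_sum, Finset.sum_apply, Pi.mul_apply, Pi.algebraMap_apply, Algebra.algebraMap_self, RingHom.id_apply, Pi.smul_apply, smul_eq_mul, Finset.sum_mul]
      rw [Finset.sum_comm]
      exact Finset.sum_congr rfl fun j _ => Finset.sum_congr rfl fun p _ => by ring
    have hfin : b - a = ∑ j, r j * v j := by
      rw [← sub_eq_zero]
      refine hinj _ ?_
      rw [map_sub, hr', ← hxy, ← hrs, map_add, hsps, add_zero, sub_self]
    have : ∑ j, (x - y) j * v j = b - a := by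
      rw [hfin, ← hrs]
      exact Finset.sum_congr rfl fun j _ => by rw [Pi.add_apply, add_mul, hs0, add_zero]
    simp only [Pi.sub_apply, sub_mul, Finset.sum_sub_distrib] at this
    linear_combination this
  choose da dx hd using hdec
  let val : C → A := fun c => da c + ∑ j, dx c j * v j
  have hval : ∀ {c : C} {a : A} {x : Fin n → A}, c = algebraMap A C a + sp x → val c = a + ∑ j, x j * v j :=
    fun {c a x} h => huniq ((hd c).symm.trans h)
  refine ⟨
    { toFun := val
      map_one' := (hval (a := 1) (x := 0) (by simp)).trans (by simp)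
      map_zero' := (hval (a := 0) (x := 0) (by simp)).trans (by simp)
      map_add' := fun c d => (hval (a := da c + da d) (x := dx c + dx d) (by
        conv_lhs => rw [hd c, hd d]
        simp only [map_add]; abel)).trans (by
        simp only [val, Pi.add_apply, add_mul, Finset.sum_add_distrib]; ring)
      map_mul' := fun c d => (hval (a := da c * da d) (x := da c • dx d + da d • dx c) (by
        conv_lhs => rw [hd c, hd d]
        have h0 := mul_kill hK (hsp (dx c)) (hsp (dx d))
        rw [map_add, map_smul, map_smul, map_mul]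
        simp only [Algebra.smul_def]
        linear_combination h0)).trans (by
        have h8 : (∑ j, dx c j * v j) * (∑ j, dx d j * v j) = 0 :=
          hIsq (Ideal.sum_mem _ fun j _ => Ideal.mul_mem_left _ _ (hvI j)) (Ideal.sum_mem _ fun j _ => Ideal.mul_mem_left _ _ (hvI j))
        simp only [val, Pi.add_apply, Pi.smul_apply, smul_eq_mul, add_mul, Finset.sum_add_distrib, mul_assoc, ← Finset.mul_sum]
        linear_combination -h8)
      commutes' := fun a => (hval (a := a) (x := 0) (by simp)).trans (by simp) }, fun c => ?_⟩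
  show Ideal.Quotient.mk I (val c) = π c
  conv_rhs => rw [hd c]
  rw [hpd, Ideal.Quotient.eq]
  simp only [val, add_sub_cancel_left]
  exact Ideal.sum_mem _ fun j _ => Ideal.mul_mem_left _ _ (hvI j)

end

end Groth.Agent.H8SmoothLiftCore
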