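import Mathlib
import Groth.Prelude.Def_MoreMor
import Groth.Agent.Lib.H8SmoothLiftCore

/-!
# Smooth morphisms have the infinitesimal lifting property
-/

set_option autoImplicit false
set_option linter.all false

universe u

open CategoryTheory Limits AlgebraicGeometry

namespace Groth.Agent.H8SmoothLift

lemma mul_eq_zero_of_app_eq_zero {D : Type u} [CommRing D] (J₁ : Ideal D) (hJ : J₁ ^ 2 = ⊥)
    (O : (Spec (CommRingCat.of D)).Opens) (x y : Γ(Spec (CommRingCat.of D), O))
    (hx : (Spec.map (CommRingCat.ofHom (Ideal.Quotient.mk J₁))).app O x = 0)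
    (hy : (Spec.map (CommRingCat.ofHom (Ideal.Quotient.mk J₁))).app O y = 0) : x * y = 0 := by
  let T := Spec (CommRingCat.of D)
  let j : Spec (CommRingCat.of (D ⧸ J₁)) ⟶ T := Spec.map (CommRingCat.ofHom (Ideal.Quotient.mk J₁))
  haveI : IsClosedImmersion j := IsClosedImmersion.spec_of_surjective _ Ideal.Quotient.mk_surjective
  have htop : (j.ker * j.ker).ideal ⟨⊤, isAffineOpen_top T⟩ = ⊥ := by
    rw [Scheme.IdealSheafData.ideal_mul, Pi.mul_apply, eq_bot_iff, Ideal.mul_le]
    intro r hr s hs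
    rw [Scheme.Hom.ker_apply, RingHom.mem_ker] at hr hs
    let e := Scheme.ΓSpecIso (CommRingCat.of D)
    have he : ∀ r, j.appTop r = 0 → e.hom r ∈ J₁ := fun r hr => by
      have h := DFunLike.congr_fun (congrArg CommRingCat.Hom.hom (Scheme.ΓSpecIso_naturality (CommRingCat.ofHom (Ideal.Quotient.mk J₁)))) r
      refine Ideal.Quotient.eq_zero_iff_mem.mp (h.symm.trans ?_)
      show (Scheme.ΓSpecIso _).hom (j.appTop r) = 0
      rw [hr, map_zero]
    rw [Ideal.mem_bot]
    refine (ConcreteCategory.bijective_of_isIso e.hom).1 ?_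
    rw [map_mul, map_zero]
    have := Ideal.mul_mem_mul (he r hr) (he s hs)
    rwa [← pow_two, hJ, Ideal.mem_bot] at this
  have hbot : j.ker * j.ker = ⊥ := by
    refine le_bot_iff.mp (Scheme.IdealSheafData.le_of_isAffine ?_)
    rw [htop]
    exact bot_le
  have hex : ∀ z : O, ∃ W : T.Opens, IsAffineOpen W ∧ W ≤ O ∧ (z : T) ∈ W := fun z => by
    obtain ⟨_, ⟨W, hW, rfl⟩, hz, hle⟩ := T.isBasis_affineOpens.exists_subset_of_mem_open z.2 O.2
    exact ⟨W, hW, hle, hz⟩
  choose W hW hle hmem using hex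
  refine T.sheaf.eq_of_locally_eq' W O (fun z => homOfLE (hle z))
    (fun z hz => TopologicalSpace.Opens.mem_iSup.mpr ⟨⟨z, hz⟩, hmem ⟨z, hz⟩⟩) _ _ fun z => ?_
  show T.presheaf.map (homOfLE (hle z)).op (x * y) = T.presheaf.map (homOfLE (hle z)).op 0
  rw [map_mul, map_zero]
  have hk : ∀ r, j.app O r = 0 → T.presheaf.map (homOfLE (hle z)).op r ∈ j.ker.ideal ⟨W z, hW z⟩ := fun r hr => by
    rw [Scheme.Hom.ker_apply, RingHom.mem_ker]
    have h := DFunLike.congr_fun (congrArg CommRingCat.Hom.hom (j.naturality (homOfLE (hle z)).op)) r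
    refine h.trans ?_
    show (Spec _).presheaf.map _ (j.app O r) = 0
    rw [hr, map_zero]
  have := Ideal.mul_mem_mul (hk x hx) (hk y hy)
  rw [← Pi.mul_apply, ← Scheme.IdealSheafData.ideal_mul, hbot, Scheme.IdealSheafData.ideal_bot] at this
  simpa using this

/-- A map whose first-order reduction lands in a closed subscheme lands in its first-order neighbourhood. -/
lemma mul_ker_le {D : Type u} [CommRing D] (J₁ : Ideal D) (hJ : J₁ ^ 2 = ⊥) {W : Scheme.{u}} (K : W.IdealSheafData)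
    (l : Spec (CommRingCat.of D) ⟶ W)
    (hK : K ≤ (Spec.map (CommRingCat.ofHom (Ideal.Quotient.mk J₁)) ≫ l).ker) : K * K ≤ l.ker := by
  refine Scheme.IdealSheafData.le_ofIdeals_iff.mpr fun V => ?_
  rw [Scheme.IdealSheafData.ideal_mul, Pi.mul_apply, Ideal.mul_le]
  intro x hx y hy
  rw [RingHom.mem_ker, map_mul]
  have hx' := (Scheme.IdealSheafData.ideal_ofIdeals_le _ V) (hK V hx)
  have hy' := (Scheme.IdealSheafData.ideal_ofIdeals_le _ V) (hK V hy)
  rw [RingHom.mem_ker, Scheme.Hom.comp_app] at hx' hy'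
  exact mul_eq_zero_of_app_eq_zero J₁ hJ _ _ _ hx' hy'

set_option maxHeartbeats 1000000 in
/-- Smooth morphisms are formally smooth. -/
theorem formallySmooth_of_smooth {X Y : Scheme.{u}} (f : X ⟶ Y) [Smooth f] : MoreMor.IsFormallySmoothHom f := by
  intro A _ I hI a b hab
  let mkI : Spec (CommRingCat.of (A ⧸ I)) ⟶ Spec (CommRingCat.of A) := Spec.map (CommRingCat.ofHom (Ideal.Quotient.mk I))
  haveI : IsClosedImmersion mkI := IsClosedImmersion.spec_of_surjective _ Ideal.Quotient.mk_surjective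
  have hsurjI : Function.Surjective mkI := fun z => by
    refine (range_comap_of_surjective _ _ Ideal.Quotient.mk_surjective).ge ?_
    rw [Ideal.mk_ker]
    intro r hr
    refine z.isPrime.mem_of_pow_mem 2 ?_
    have := Ideal.pow_mem_pow hr 2
    rw [hI, Ideal.mem_bot] at this
    rw [this]
    exact zero_mem _
  let X' := pullback f b
  let p : X' ⟶ Spec (CommRingCat.of A) := pullback.snd f b
  haveI : Smooth p := MorphismProperty.pullback_snd (P := @Smooth) _ _ ‹_›
  let s0 : Spec (CommRingCat.of (A ⧸ I)) ⟶ X' := pullback.lift a mkI hab.symm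
  have hs0 : s0 ≫ p = mkI := pullback.lift_snd _ _ _
  haveI : IsImmersion s0 := by
    haveI : IsImmersion (s0 ≫ p) := by rw [hs0]; infer_instance
    exact IsImmersion.of_comp s0 p
  let W := s0.coborderRange
  let s1 : Spec (CommRingCat.of (A ⧸ I)) ⟶ (W : Scheme.{u}) := s0.liftCoborder
  haveI : IsClosedImmersion s1 := inferInstanceAs (IsClosedImmersion s0.liftCoborder)
  let K := s1.ker
  let Q := K * K
  let Z := Q.subscheme
  let ι : Z ⟶ (W : Scheme.{u}) := Q.subschemeι
  have hQK : Q ≤ K := fun V => by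
    show (K * K).ideal V ≤ K.ideal V
    rw [Scheme.IdealSheafData.ideal_mul, Pi.mul_apply]
    exact Ideal.mul_le_left
  let i : Spec (CommRingCat.of (A ⧸ I)) ⟶ Z := IsClosedImmersion.lift ι s1 (by
    rw [Scheme.IdealSheafData.ker_subschemeι]; exact hQK)
  have hi : i ≫ ι = s1 := IsClosedImmersion.lift_fac _ _ _
  have his : Function.Surjective i := fun z => by
    have h1 : ι z ∈ (Q.support : Set _) := Q.range_subschemeι.le ⟨z, rfl⟩
    rw [Scheme.IdealSheafData.support_mul, sup_idem, Scheme.Hom.support_ker] at h1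
    replace h1 : ι z ∈ Set.range s1 := s1.isClosedEmbedding.isClosed_range.closure_eq.le h1
    obtain ⟨y, hy⟩ := h1
    exact ⟨y, ι.isClosedEmbedding.injective (by rw [← Scheme.Hom.comp_apply, hi]; exact hy)⟩
  let zX : Z ⟶ X' := ι ≫ W.ι
  have hizX : i ≫ zX = s0 := by rw [← Category.assoc, hi]; exact s0.liftCoborder_ι
  let q : Z ⟶ Spec (CommRingCat.of A) := zX ≫ p
  have hiq : i ≫ q = mkI := by rw [← Category.assoc, hizX, hs0]
  have hqe : Topology.IsClosedEmbedding q := by
    refine Topology.IsClosedEmbedding.of_continuous_injective_isClosedMap q.continuous ?_ ?_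
    · intro y z hyz
      obtain ⟨y, rfl⟩ := his y
      obtain ⟨z, rfl⟩ := his z
      rw [← Scheme.Hom.comp_apply, ← Scheme.Hom.comp_apply, hiq] at hyz
      rw [mkI.isClosedEmbedding.injective hyz]
    · intro F hF
      have : q '' F = mkI '' (i ⁻¹' F) := by
        rw [← hiq]
        ext w
        constructor
        · rintro ⟨z, hz, rfl⟩
          obtain ⟨y, rfl⟩ := his z
          exact ⟨y, hz, rfl⟩
        · rintro ⟨y, hy, rfl⟩
          exact ⟨i y, hy, rfl⟩
      rw [this]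
      exact mkI.isClosedMap _ (hF.preimage i.continuous)
  haveI : IsAffineHom q := isAffineHom_of_isInducing q hqe.isInducing hqe.isClosed_range
  haveI : IsAffine Z := isAffine_of_isAffineHom q
  obtain ⟨σ, hσ⟩ : ∃ σ : CommRingCat.of A ⟶ Γ(Z, ⊤), Spec.map σ = Z.isoSpec.inv ≫ q := ⟨_, Spec.map_preimage _⟩
  obtain ⟨π₁, hπ₁⟩ : ∃ π₁ : Γ(Z, ⊤) ⟶ CommRingCat.of (A ⧸ I), Spec.map π₁ = i ≫ Z.isoSpec.hom := ⟨_, Spec.map_preimage _⟩
  have hσπ : σ ≫ π₁ = CommRingCat.ofHom (Ideal.Quotient.mk I) := by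
    refine Spec.map_injective ?_
    rw [Spec.map_comp, hσ, hπ₁, Category.assoc, Iso.hom_inv_id_assoc, hiq]
  letI : Algebra A Γ(Z, ⊤) := σ.hom.toAlgebra
  let Kp : Ideal Γ(Z, ⊤) := RingHom.ker π₁.hom
  let C := Γ(Z, ⊤) ⧸ Kp ^ 2
  let π : C →ₐ[A] A ⧸ I :=
    { toRingHom := Ideal.Quotient.lift (Kp ^ 2) π₁.hom (fun x hx => Ideal.pow_le_self (I := Kp) two_ne_zero hx)
      commutes' := fun r => DFunLike.congr_fun (congrArg CommRingCat.Hom.hom hσπ) r }
  have hK2 : RingHom.ker π ^ 2 = ⊥ := by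
    refine le_bot_iff.mp ((sq (RingHom.ker π)).le.trans (Ideal.mul_le.mpr fun x hx y hy => ?_))
    obtain ⟨x, rfl⟩ := Ideal.Quotient.mk_surjective x
    obtain ⟨y, rfl⟩ := Ideal.Quotient.mk_surjective y
    rw [Ideal.mem_bot, ← map_mul, Ideal.Quotient.eq_zero_iff_mem]
    exact (sq Kp).ge (Ideal.mul_mem_mul hx hy)
  have hft : Algebra.FiniteType A C := by
    haveI : LocallyOfFiniteType q := by
      haveI : LocallyOfFiniteType zX := inferInstance
      haveI : LocallyOfFiniteType p := inferInstance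
      exact MorphismProperty.comp_mem _ _ _ inferInstance inferInstance
    have h1 : σ.hom.FiniteType := (HasRingHomProperty.Spec_iff (P := @LocallyOfFiniteType)).mp (by rw [hσ]; infer_instance)
    haveI : Algebra.FiniteType A Γ(Z, ⊤) := h1
    exact Algebra.FiniteType.of_surjective (Ideal.Quotient.mkₐ A (Kp ^ 2)) Ideal.Quotient.mk_surjective
  let G : Set A := {g | ∃ U : X'.Opens, IsAffineOpen U ∧ ∀ y : Spec (CommRingCat.of (A ⧸ I)), g ∉ (mkI y).asIdeal → s0 y ∈ U}
  have hG : Ideal.span G = ⊤ := by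
    by_contra hne
    obtain ⟨P, hP, hle⟩ := Ideal.exists_le_maximal _ hne
    obtain ⟨y, hy⟩ := hsurjI ⟨P, hP.isPrime⟩
    obtain ⟨_, ⟨U, hU, rfl⟩, hyU, -⟩ := X'.isBasis_affineOpens.exists_subset_of_mem_open (Set.mem_univ (s0 y)) isOpen_univ
    have hopen : IsOpen (mkI '' (s0 ⁻¹' (U : Set X'))ᶜ)ᶜ :=
      (mkI.isClosedMap _ (U.2.preimage s0.continuous).isClosed_compl).isOpen_compl
    obtain ⟨_, ⟨g, rfl⟩, hyg, hgle⟩ := PrimeSpectrum.isTopologicalBasis_basic_opens.exists_subset_of_mem_open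
      (show mkI y ∈ (mkI '' (s0 ⁻¹' (U : Set X'))ᶜ)ᶜ from fun ⟨w, hw, hwy⟩ => hw (mkI.isClosedEmbedding.injective hwy ▸ hyU)) hopen
    have hgG : g ∈ G := ⟨U, hU, fun w hw => by
      by_contra hwU
      exact hgle (show mkI w ∈ PrimeSpectrum.basicOpen g from hw) ⟨w, hwU, rfl⟩⟩
    have : g ∈ (mkI y).asIdeal := by rw [hy]; exact hle (Ideal.subset_span hgG)
    exact hyg this
  have hP : ∀ g ∈ G, H8SmoothLiftCore.LocalLift I π g := by
    rintro g ⟨U, hU, hgU⟩ D _ _ hg J J₁ hle hJ₁ ψ hψ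
    have hJsq : J ^ 2 = ⊥ := le_bot_iff.mp ((Ideal.pow_right_mono hle 2).trans hJ₁.le)
    have hIJ : I ≤ J₁.comap (algebraMap A D) := fun r hr => by
      have := hψ (algebraMap A C r) 0 (algebraMap A D r) (by rw [π.commutes, map_zero]; exact Ideal.Quotient.eq_zero_iff_mem.mpr hr)
        (ψ.commutes r).symm
      simpa using this
    let φ₁ : A ⧸ I →+* D ⧸ J₁ := Ideal.quotientMap J₁ (algebraMap A D) hIJ
    let jJ : Spec (CommRingCat.of (D ⧸ J)) ⟶ Spec (CommRingCat.of D) := Spec.map (CommRingCat.ofHom (Ideal.Quotient.mk J))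
    let fac : D ⧸ J →+* D ⧸ J₁ := Ideal.Quotient.factor hle
    let ψ₁ : Γ(Z, ⊤) →+* D ⧸ J := ψ.toRingHom.comp (Ideal.Quotient.mk (Kp ^ 2))
    let m : Spec (CommRingCat.of (D ⧸ J)) ⟶ Z := Spec.map (CommRingCat.ofHom ψ₁) ≫ Z.isoSpec.inv
    have hm1 : Spec.map (CommRingCat.ofHom fac) ≫ m = Spec.map (CommRingCat.ofHom φ₁) ≫ i := by
      have : Spec.map (CommRingCat.ofHom fac) ≫ Spec.map (CommRingCat.ofHom ψ₁) =
          Spec.map (CommRingCat.ofHom φ₁) ≫ Spec.map π₁ := by
        rw [← Spec.map_comp, ← Spec.map_comp]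
        congr 1
        refine CommRingCat.hom_ext (RingHom.ext fun c => ?_)
        obtain ⟨r, hr⟩ := Ideal.Quotient.mk_surjective (π₁.hom c)
        obtain ⟨d, hd⟩ := Ideal.Quotient.mk_surjective (ψ₁ c)
        show fac (ψ₁ c) = φ₁ (π₁.hom c)
        rw [← hr, ← hd]
        exact (Ideal.Quotient.factor_mk hle d).trans (Ideal.Quotient.eq.mpr (hψ _ r d hr.symm hd))
      rw [← Category.assoc, this, Category.assoc, hπ₁, Category.assoc, Iso.hom_inv_id, Category.comp_id]
    have hmq : m ≫ q = Spec.map (CommRingCat.ofHom (algebraMap A (D ⧸ J))) := by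
      rw [Category.assoc, ← hσ, ← Spec.map_comp]
      congr 1
      exact CommRingCat.hom_ext (RingHom.ext fun r => ψ.commutes r)
    have hsurj1 : Function.Surjective (Spec.map (CommRingCat.ofHom fac)) := fun z => by
      refine (range_comap_of_surjective _ _ (Ideal.Quotient.factor_surjective hle)).ge ?_
      intro r hr
      refine z.isPrime.mem_of_pow_mem 2 ?_
      obtain ⟨d, rfl⟩ := Ideal.Quotient.mk_surjective r
      have hd : d ∈ J₁ := Ideal.Quotient.eq_zero_iff_mem.mp hr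
      have := Ideal.pow_mem_pow hd 2
      rw [hJ₁, Ideal.mem_bot] at this
      rw [← map_pow, this, map_zero]
      exact zero_mem _
    have hzU : Set.range (m ≫ zX) ⊆ Set.range hU.fromSpec := by
      rw [hU.range_fromSpec]
      rintro _ ⟨w, rfl⟩
      obtain ⟨w, rfl⟩ := hsurj1 w
      rw [← Scheme.Hom.comp_apply, reassoc_of% hm1, hizX, Scheme.Hom.comp_apply]
      refine hgU _ fun hgy => ?_
      have hu : IsUnit ((Ideal.Quotient.mk J₁).comp (algebraMap A D) g) := hg.map (Ideal.Quotient.mk J₁)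
      exact w.isPrime.ne_top (Ideal.eq_top_of_isUnit_mem _ (show (Ideal.Quotient.mk J₁).comp (algebraMap A D) g ∈ w.asIdeal from hgy) hu)
    let Bu := Γ(X', U)
    obtain ⟨σB, hσB⟩ : ∃ σB : CommRingCat.of A ⟶ Bu, Spec.map σB = hU.fromSpec ≫ p := ⟨_, Spec.map_preimage _⟩
    have hsm : σB.hom.Smooth := (HasRingHomProperty.Spec_iff (P := @Smooth)).mp (by rw [hσB]; infer_instance)
    letI : Algebra A Bu := σB.hom.toAlgebra
    haveI : Algebra.Smooth A Bu := hsm
    haveI : Algebra.FormallySmooth A Bu := inferInstance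
    obtain ⟨φ, hφ⟩ : ∃ φ : Bu ⟶ CommRingCat.of (D ⧸ J), Spec.map φ = IsOpenImmersion.lift hU.fromSpec (m ≫ zX) hzU :=
      ⟨_, Spec.map_preimage _⟩
    let φa : Bu →ₐ[A] D ⧸ J :=
      { toRingHom := φ.hom
        commutes' := fun r => by
          have : Spec.map (σB ≫ φ) = Spec.map (CommRingCat.ofHom (algebraMap A (D ⧸ J))) := by
            rw [Spec.map_comp, hσB, hφ, IsOpenImmersion.lift_fac_assoc, Category.assoc, hmq]
          exact DFunLike.congr_fun (congrArg CommRingCat.Hom.hom (Spec.map_injective this)) r }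
    let lD : Bu →ₐ[A] D := Algebra.FormallySmooth.lift J ⟨2, hJsq⟩ φa
    have hlD : (Ideal.Quotient.mkₐ A J).comp lD = φa := Algebra.FormallySmooth.comp_lift J ⟨2, hJsq⟩ φa
    let L : Spec (CommRingCat.of D) ⟶ X' := Spec.map (CommRingCat.ofHom lD.toRingHom) ≫ hU.fromSpec
    have hjL : jJ ≫ L = m ≫ zX := by
      rw [← Category.assoc, ← Spec.map_comp,
        show CommRingCat.ofHom lD.toRingHom ≫ CommRingCat.ofHom (Ideal.Quotient.mk J) = φ from
          CommRingCat.hom_ext (congrArg AlgHom.toRingHom hlD), hφ, IsOpenImmersion.lift_fac]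
    have hLp : L ≫ p = Spec.map (CommRingCat.ofHom (algebraMap A D)) := by
      rw [Category.assoc, ← hσB, ← Spec.map_comp]
      congr 1
      exact CommRingCat.hom_ext lD.comp_algebraMap
    have hjs : Function.Surjective jJ := fun z => by
      refine (range_comap_of_surjective _ _ Ideal.Quotient.mk_surjective).ge ?_
      rw [Ideal.mk_ker]
      intro r hr
      refine z.isPrime.mem_of_pow_mem 2 ?_
      have := Ideal.pow_mem_pow hr 2
      rw [hJsq, Ideal.mem_bot] at this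
      rw [this]
      exact zero_mem _
    let LW : Spec (CommRingCat.of D) ⟶ (W : Scheme.{u}) := IsOpenImmersion.lift W.ι L (by
      rintro _ ⟨z, rfl⟩
      obtain ⟨z, rfl⟩ := hjs z
      rw [← Scheme.Hom.comp_apply, hjL]
      exact ⟨ι (m z), rfl⟩)
    have hLW : LW ≫ W.ι = L := IsOpenImmersion.lift_fac _ _ _
    have hjLW : jJ ≫ LW = m ≫ ι := by
      rw [← cancel_mono W.ι, Category.assoc, hLW, hjL]
      simp only [m, zX, Category.assoc]
    have hkey : Spec.map (CommRingCat.ofHom (Ideal.Quotient.mk J₁)) ≫ LW = Spec.map (CommRingCat.ofHom φ₁) ≫ s1 := by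
      have : Spec.map (CommRingCat.ofHom (Ideal.Quotient.mk J₁)) = Spec.map (CommRingCat.ofHom fac) ≫ jJ := by
        rw [← Spec.map_comp]; congr 1
      rw [this, Category.assoc, hjLW, reassoc_of% hm1, hi]
    have hker : ι.ker ≤ LW.ker := by
      rw [Scheme.IdealSheafData.ker_subschemeι]
      refine mul_ker_le J₁ hJ₁ K LW ?_
      rw [hkey]
      exact Scheme.Hom.le_ker_comp _ _
    let LZ : Spec (CommRingCat.of D) ⟶ Z := IsClosedImmersion.lift ι LW hker
    have hLZ : LZ ≫ ι = LW := IsClosedImmersion.lift_fac _ _ _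
    have hjLZ : jJ ≫ LZ = m := by rw [← cancel_mono ι, Category.assoc, hLZ, hjLW]
    obtain ⟨θ, hθ⟩ : ∃ θ : Γ(Z, ⊤) ⟶ CommRingCat.of D, Spec.map θ = LZ ≫ Z.isoSpec.hom := ⟨_, Spec.map_preimage _⟩
    have hθσ : σ ≫ θ = CommRingCat.ofHom (algebraMap A D) := by
      refine Spec.map_injective ?_
      rw [Spec.map_comp, hσ, hθ, Category.assoc, Iso.hom_inv_id_assoc]
      show LZ ≫ (ι ≫ W.ι) ≫ p = _
      rw [Category.assoc, reassoc_of% hLZ, reassoc_of% hLW, hLp]
    have hθψ : ∀ c, Ideal.Quotient.mk J (θ.hom c) = ψ₁ c := by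
      have : Spec.map (θ ≫ CommRingCat.ofHom (Ideal.Quotient.mk J)) = Spec.map (CommRingCat.ofHom ψ₁) := by
        rw [Spec.map_comp, hθ, ← Category.assoc, hjLZ, Category.assoc, Iso.inv_hom_id, Category.comp_id]
      exact fun c => DFunLike.congr_fun (congrArg CommRingCat.Hom.hom (Spec.map_injective this)) c
    have hθK : ∀ x ∈ Kp ^ 2, θ.hom x = 0 := by
      have h1 : Kp.map θ.hom ≤ J₁ := Ideal.map_le_iff_le_comap.mpr fun c hc => by
        have := hψ (Ideal.Quotient.mk _ c) 0 (θ.hom c) (by rw [map_zero]; exact hc) (hθψ c)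
        simpa using this
      intro x hx
      have h2 : θ.hom x ∈ J₁ ^ 2 := Ideal.pow_right_mono h1 2 (by rw [← Ideal.map_pow]; exact Ideal.mem_map_of_mem _ hx)
      rwa [hJ₁, Ideal.mem_bot] at h2
    refine ⟨{ toRingHom := Ideal.Quotient.lift (Kp ^ 2) θ.hom hθK
              commutes' := fun r => DFunLike.congr_fun (congrArg CommRingCat.Hom.hom hθσ) r }, fun c => ?_⟩
    obtain ⟨c, rfl⟩ := Ideal.Quotient.mk_surjective c
    exact hθψ c
  obtain ⟨l, hl⟩ := H8SmoothLiftCore.exists_lift (I := I) (π := π) hI hK2 hft G hG hP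
  let l₁ : Γ(Z, ⊤) ⟶ CommRingCat.of A := CommRingCat.ofHom (l.toRingHom.comp (Ideal.Quotient.mk (Kp ^ 2)))
  refine ⟨(Spec.map l₁ ≫ Z.isoSpec.inv ≫ zX) ≫ pullback.fst f b, ?_, ?_⟩
  · have : mkI ≫ Spec.map l₁ = Spec.map π₁ := by
      rw [← Spec.map_comp]
      congr 1
      exact CommRingCat.hom_ext (RingHom.ext fun c => hl (Ideal.Quotient.mk _ c))
    show mkI ≫ _ = a
    simp only [Category.assoc]
    rw [reassoc_of% this, hπ₁, Category.assoc, Iso.hom_inv_id_assoc, reassoc_of% hizX, pullback.lift_fst]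
  · have : Spec.map l₁ ≫ Z.isoSpec.inv ≫ q = 𝟙 _ := by
      rw [← hσ, ← Spec.map_comp]
      refine (congrArg Spec.map ?_).trans (Spec.map_id _)
      exact CommRingCat.hom_ext (RingHom.ext fun r => l.commutes r)
    simp only [Category.assoc]
    rw [pullback.condition, show zX ≫ pullback.snd f b ≫ b = q ≫ b from (Category.assoc _ _ _).symm, reassoc_of% this]

end Groth.Agent.H8SmoothLift
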