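import Mathlib
import Groth.Agent.Lib.H8ConjRigid
import Groth.Agent.Lib.H8SmoothLift

/-!
# Conjugacy of homomorphisms from groups of multiplicative type modulo nilpotent ideals
-/

set_option autoImplicit false
set_option linter.all false

universe u

open CategoryTheory Limits AlgebraicGeometry MonoidalCategory CartesianMonoidalCategory MonObj GrpObj

namespace Groth.Agent.H8ConjRigid

open H8DiagRigid H8ConjRigidCore

variable {R : Type u} [CommRing R]

/-- The closed subscheme cut out by an ideal, over the base. -/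
noncomputable abbrev XQ (K : Ideal R) : Over (B R) := Over.mk (Spec.map (CommRingCat.ofHom (Ideal.Quotient.mk K)))

lemma flat_quotientMap_alg (D : Type u) [CommRing D] [Algebra R D] [Module.Flat R D] (K : Ideal R) :
    (Ideal.quotientMap (K.map (algebraMap R D)) (algebraMap R D) Ideal.le_comap_map).Flat := by
  haveI : Module.Flat (R ⧸ K) (D ⧸ K.map (algebraMap R D)) :=
    Module.Flat.of_linearEquiv (Algebra.TensorProduct.quotIdealMapEquivQuotTensor D K).toLinearEquiv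
  have e : Ideal.quotientMap (K.map (algebraMap R D)) (algebraMap R D) Ideal.le_comap_map =
      algebraMap (R ⧸ K) (D ⧸ K.map (algebraMap R D)) := Ideal.Quotient.ringHom_ext (RingHom.ext fun r => rfl)
  rw [e]
  exact RingHom.flat_algebraMap_iff.mpr inferInstance

lemma flat_quotientMap {D : Type u} [CommRing D] (φ : R →+* D) (hφ : φ.Flat) (K : Ideal R) :
    (Ideal.quotientMap (K.map φ) φ Ideal.le_comap_map).Flat := by
  letI : Algebra R D := φ.toAlgebra
  haveI : Module.Flat R D := hφ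
  exact flat_quotientMap_alg D K

variable (J : Ideal R) {H G : Over (B R)} [GrpObj H] [GrpObj G] (u v : H ⟶ G) [IsMonHom u] [IsMonHom v]

set_option maxHeartbeats 1000000 in
/-- Conjugacy modulo `K ⊇ J²` of homomorphisms agreeing modulo `J`. -/
theorem result_rel (K : Ideal R) (hJK : J ^ 2 ≤ K)
    (h0 : ∀ (X : Over (B R)) (p : X ⟶ XQ J) (h : X ⟶ H), h ≫ u = h ≫ v)
    (hH : TwC.Locally (B R) TwC.Topology.fpqc (fun S' f => ∃ (M : Type) (_ : AddCommGroup M), Nonempty (Grp.mk (Red.bc f H) ≅ Grp.mk (Red.DS S' M)))) :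
    ∃ g : XQ K ⟶ G, (∀ (X : Over (B R)) (p : X ⟶ XQ J) (pK : X ⟶ XQ K), pK ≫ g = 1) ∧
      ∀ (X : Over (B R)) (pK : X ⟶ XQ K) (h : X ⟶ H), h ≫ v = (pK ≫ g) * (h ≫ u) * (pK ≫ g)⁻¹ := by
  classical
  obtain ⟨S', f, hf, hfs, hqc, htriv⟩ := hH
  haveI := hf
  obtain ⟨W, hW, hWU⟩ := hqc ⊤ (isAffineOpen_top _)
  choose T hT M hM hiso using htriv
  have hc : ∀ w : S', ∃ V : S'.affineOpens, w ∈ V.1 ∧ V.1 ≤ T w := by
    intro w
    obtain ⟨_, ⟨V, hV, rfl⟩, hwV, hle⟩ := S'.isBasis_affineOpens.exists_subset_of_mem_open (hT w) (T w).isOpen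
    exact ⟨⟨V, hV⟩, hwV, hle⟩
  choose V hwV hVT using hc
  obtain ⟨s, hs⟩ := hW.elim_finite_subcover (fun w : S' => ((V w).1 : Set S'))
    (fun w => (V w).1.isOpen) fun w _ => Set.mem_iUnion.mpr ⟨w, hwV w⟩
  let D : ↥s → CommRingCat.{u} := fun i => Γ(S', (V i.1).1)
  let ti : ∀ i : ↥s, Spec (D i) ⟶ B R := fun i => (V i.1).2.fromSpec ≫ f
  let φi : ∀ i : ↥s, R →+* D i := fun i => (Spec.preimage (ti i)).hom
  have hφi : ∀ i, Spec.map (CommRingCat.ofHom (φi i)) = ti i := fun i => Spec.map_preimage (ti i)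
  let D' : ↥s → Type u := fun i => (D i : Type u) ⧸ K.map (φi i)
  let wi : ∀ i : ↥s, Spec (D i) ⟶ (T i.1 : Scheme.{u}) := fun i => IsOpenImmersion.lift (T i.1).ι (V i.1).2.fromSpec (by
    rw [IsAffineOpen.range_fromSpec, Scheme.Opens.range_ι]; exact hVT i.1)
  let π : ∀ i : ↥s, R ⧸ K →+* D' i := fun i => Ideal.quotientMap (K.map (φi i)) (φi i) Ideal.le_comap_map
  have hwt : ∀ i, wi i ≫ (T i.1).ι ≫ f = ti i := fun i => IsOpenImmersion.lift_fac_assoc _ _ _ _
  have hsq : ∀ i, idl J ((Spec.map (CommRingCat.ofHom (Ideal.Quotient.mk (K.map (φi i)))) ≫ wi i) ≫ (T i.1).ι ≫ f) ^ 2 = ⊥ := by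
    intro i
    rw [Category.assoc, hwt, ← idl_map J (Ideal.Quotient.mk (K.map (φi i))) (t := ti i) rfl, idl, ← Ideal.map_pow,
      ← Ideal.map_pow, eq_bot_iff, ← Ideal.map_quotient_self (K.map (φi i))]
    exact Ideal.map_mono (Ideal.map_mono hJK)
  let P : ∀ i : ↥s, Piece J H (D' i) := fun i =>
    { U := T i.1
      q := (T i.1).ι ≫ f
      M := M i.1
      inst := hM i.1
      φ := (hiso i.1).some
      w := Spec.map (CommRingCat.ofHom (Ideal.Quotient.mk (K.map (φi i)))) ≫ wi i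
      sq := hsq i }
  let iK : Spec (CommRingCat.of (R ⧸ K)) ⟶ B R := Spec.map (CommRingCat.ofHom (Ideal.Quotient.mk K))
  have hPt : ∀ i, (P i).t = Spec.map (CommRingCat.ofHom (π i)) ≫ iK := fun i => by
    show (Spec.map _ ≫ wi i) ≫ _ = _
    rw [Category.assoc, hwt, ← hφi, ← Spec.map_comp, ← Spec.map_comp]
    rfl
  let Z : Scheme.{u} := ∐ fun i => Spec (CommRingCat.of (D' i))
  let p : Z ⟶ Spec (CommRingCat.of (R ⧸ K)) := Sigma.desc fun i => Spec.map (CommRingCat.ofHom (π i))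
  haveI : Flat p := by
    refine (IsZariskiLocalAtSource.iff_of_openCover (sigmaOpenCover fun i => Spec (CommRingCat.of (D' i)))).mpr fun i => ?_
    show Flat (Sigma.ι (fun i => Spec (CommRingCat.of (D' i))) i ≫ p)
    rw [Sigma.ι_desc, HasRingHomProperty.Spec_iff (P := @Flat)]
    refine flat_quotientMap _ ?_ K
    have : Flat (Spec.map (CommRingCat.ofHom (φi i))) := by rw [hφi]; infer_instance
    exact (HasRingHomProperty.Spec_iff (P := @Flat)).mp this
  haveI : Surjective p := ⟨fun y => by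
    have hy : iK y ∈ ((⊤ : (B R).Opens) : Set (B R)) := trivial
    rw [← hWU] at hy
    obtain ⟨w, hw, hwy⟩ := hy
    obtain ⟨i, hi, hiV⟩ := Set.mem_iUnion₂.mp (hs hw)
    rw [← (V i).2.range_fromSpec] at hiV
    obtain ⟨z, rfl⟩ := hiV
    have hz : K.map (φi ⟨i, hi⟩) ≤ z.asIdeal := Ideal.map_le_iff_le_comap.mpr fun r hr => by
      have h1 : ti ⟨i, hi⟩ z = iK y := by rw [← hwy]; rfl
      rw [← hφi] at h1
      have h2 : r ∈ (iK y).asIdeal := by
        show Ideal.Quotient.mk K r ∈ y.asIdeal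
        rw [Ideal.Quotient.eq_zero_iff_mem.mpr hr]; exact zero_mem _
      rw [← h1] at h2
      exact h2
    obtain ⟨z', hz'⟩ : z ∈ Set.range (Spec.map (CommRingCat.ofHom (Ideal.Quotient.mk (K.map (φi ⟨i, hi⟩))))) := by
      refine (range_comap_of_surjective _ _ Ideal.Quotient.mk_surjective).ge ?_
      rw [Ideal.mk_ker]; exact hz
    refine ⟨Sigma.ι (fun i => Spec (CommRingCat.of (D' i))) ⟨i, hi⟩ z', ?_⟩
    have hinj : Function.Injective iK :=
      (IsClosedImmersion.spec_of_surjective (CommRingCat.ofHom (Ideal.Quotient.mk K)) Ideal.Quotient.mk_surjective).base_closed.injective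
    apply hinj
    rw [← Scheme.Hom.comp_apply _ p, Sigma.ι_desc, ← Scheme.Hom.comp_apply, ← hPt, ← hwy]
    show ((Spec.map _ ≫ wi ⟨i, hi⟩) ≫ (T i).ι ≫ f) z' = _
    rw [Category.assoc, hwt, Scheme.Hom.comp_apply, hz']
    rfl⟩
  haveI : IsAffine Z := inferInstance
  haveI : QuasiCompact p := inferInstance
  let g' : Z ⟶ G.left := Sigma.desc fun i => ((P i).g u v h0).left
  have hcov : ∀ z : Z, ∃ (i : ↥s) (x : Spec (CommRingCat.of (D' i))), Sigma.ι (fun i => Spec (CommRingCat.of (D' i))) i x = z := fun z =>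
    (sigmaOpenCover fun i => Spec (CommRingCat.of (D' i))).exists_eq z
  have local_eq : ∀ {Y : Scheme.{u}} (a b : Y ⟶ G.left) (m : Y ⟶ Z),
      (∀ (i : ↥s) (C : Type u) [CommRing C] (k : D' i →+* C) (l : Spec (CommRingCat.of C) ⟶ Y),
        l ≫ m = Spec.map (CommRingCat.ofHom k) ≫ Sigma.ι (fun i => Spec (CommRingCat.of (D' i))) i → l ≫ a = l ≫ b) → a = b := by
    intro Y a b m h
    refine Scheme.hom_ext_of_forall _ _ fun y => ?_
    obtain ⟨i, x, hx⟩ := hcov (m y)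
    obtain ⟨_, ⟨O, hO, rfl⟩, hyO, hle⟩ := Y.isBasis_affineOpens.exists_subset_of_mem_open
      (show y ∈ m ⁻¹ᵁ (Sigma.ι (fun i => Spec (CommRingCat.of (D' i))) i).opensRange from ⟨x, hx⟩) (m ⁻¹ᵁ _).2
    replace hO : IsAffineOpen O := hO
    refine ⟨O, hyO, ?_⟩
    let k' : Spec Γ(Y, O) ⟶ Spec (CommRingCat.of (D' i)) := IsOpenImmersion.lift (Sigma.ι (fun i => Spec (CommRingCat.of (D' i))) i) (hO.fromSpec ≫ m) (by
      rintro _ ⟨z, rfl⟩
      exact hle (hO.range_fromSpec.le ⟨z, rfl⟩))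
    obtain ⟨k, hk⟩ : ∃ k, Spec.map k = k' := ⟨_, Spec.map_preimage _⟩
    rw [← cancel_epi hO.isoSpec.inv, IsAffineOpen.isoSpec_inv_ι_assoc, IsAffineOpen.isoSpec_inv_ι_assoc]
    exact h i Γ(Y, O) k.hom hO.fromSpec (by
      rw [CommRingCat.ofHom_hom, hk]; exact (IsOpenImmersion.lift_fac _ _ _).symm)
  let g₀ : Spec (CommRingCat.of (R ⧸ K)) ⟶ G.left := EffectiveEpi.desc p g' (by
    intro Y g₁ g₂ hg
    refine local_eq _ _ g₁ fun i C _ k₁ l hl₁ => ?_
    refine local_eq (l ≫ g₁ ≫ g') (l ≫ g₂ ≫ g') (l ≫ g₂) fun j C' _ k₂ l' hl₂ => ?_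
    obtain ⟨k₀, rfl⟩ : ∃ k₀, Spec.map k₀ = l' := ⟨_, Spec.map_preimage _⟩
    let f1 : D' i →+* C' := k₀.hom.comp k₁
    have e1 : Spec.map k₀ ≫ l ≫ g₁ = Spec.map (CommRingCat.ofHom f1) ≫ Sigma.ι (fun i => Spec (CommRingCat.of (D' i))) i := by
      rw [hl₁, ← Spec.map_comp_assoc]; rfl
    have ht : Spec.map (CommRingCat.ofHom f1) ≫ (P i).t = ((P j).bc k₂).t := by
      have h2 := congrArg (· ≫ p) hl₂
      have h1 := congrArg (· ≫ p) e1
      simp only [Category.assoc, Sigma.ι_desc, p] at h1 h2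
      rw [← (P j).bc_t, hPt, hPt]
      refine (Category.assoc _ _ _).symm.trans (Eq.trans ?_ (Category.assoc _ _ _))
      rw [← h1, ← h2]
      exact congrArg (fun m => (Spec.map k₀ ≫ l ≫ m) ≫ iK) hg
    have c1 := congrArg Over.Hom.left (compat u v h0 (P i) ((P j).bc k₂) f1 ht)
    have c2 := congrArg Over.Hom.left (compat u v h0 (P j) ((P j).bc k₂) k₂ ((P j).bc_t k₂))
    have h1 := congrArg (· ≫ g') e1
    have h2 := congrArg (· ≫ g') hl₂
    simp only [Category.assoc, Sigma.ι_desc, g'] at h1 h2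
    exact h1.trans (c1.trans (c2.symm.trans h2.symm)))
  have hg0 : p ≫ g₀ = g' := EffectiveEpi.fac _ _ _
  have hw : g₀ ≫ G.hom = iK := by
    haveI : Epi p := Flat.epi_of_flat_of_surjective p
    rw [← cancel_epi p, ← Category.assoc, hg0]
    refine Sigma.hom_ext _ _ fun i => ?_
    rw [Sigma.ι_desc_assoc, Sigma.ι_desc_assoc, ← hPt]
    exact Over.w _
  let g : XQ K ⟶ G := Over.homMk g₀ hw
  have test : ∀ {X : Over (B R)} (pK : X ⟶ XQ K) (a b : X ⟶ G),
      (∀ (i : ↥s) (C : Type u) [CommRing C] (k : D' i →+* C) (x : Over.mk ((P i).bc k).t ⟶ X),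
        x ≫ pK ≫ g = ((P i).bc k).g u v h0 → x ≫ a = x ≫ b) → a = b := by
    intro X pK a b h
    refine Over.OverMorphism.ext ?_
    haveI : Epi (pullback.fst pK.left p) := Flat.epi_of_flat_of_surjective _
    rw [← cancel_epi (pullback.fst pK.left p)]
    refine local_eq _ _ (pullback.snd pK.left p) fun i C _ k l hl => ?_
    have hlp : (l ≫ pullback.fst pK.left p) ≫ pK.left = Spec.map (CommRingCat.ofHom k) ≫ Spec.map (CommRingCat.ofHom (π i)) := by
      rw [Category.assoc, pullback.condition, reassoc_of% hl, Sigma.ι_desc]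
    let x : Over.mk ((P i).bc k).t ⟶ X := Over.homMk (l ≫ pullback.fst pK.left p) (by
      show (l ≫ pullback.fst pK.left p) ≫ X.hom = ((P i).bc k).t
      rw [← Over.w pK, ← (P i).bc_t k, hPt, ← Category.assoc _ pK.left, hlp, Category.assoc]
      rfl)
    have := congrArg Over.Hom.left (h i C k x (Over.OverMorphism.ext (by
      refine Eq.trans ?_ (congrArg Over.Hom.left (compat u v h0 (P i) ((P i).bc k) k ((P i).bc_t k)))
      show (l ≫ pullback.fst pK.left p) ≫ pK.left ≫ g₀ = Spec.map (CommRingCat.ofHom k) ≫ _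
      have e2 : Sigma.ι (fun i => Spec (CommRingCat.of (D' i))) i ≫ g' = ((P i).g u v h0).left := Sigma.ι_desc _ _
      rw [← Category.assoc, hlp, Category.assoc]
      refine congrArg (Spec.map (CommRingCat.ofHom k) ≫ ·) ?_
      refine Eq.trans ?_ e2
      rw [← hg0, Sigma.ι_desc_assoc])))
    exact (Category.assoc _ _ _).symm.trans (this.trans (Category.assoc _ _ _))
  refine ⟨g, fun X pJ pK => test pK _ _ fun i C _ k x hx => ?_, fun X pK h => test pK _ _ fun i C _ k x hx => ?_⟩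
  · rw [← Category.assoc] at hx ⊢
    rw [hx, MonObj.comp_one, g_eq_one u v h0]
    rw [← le_bot_iff]
    have hx' : (x ≫ pJ).left ≫ Spec.map (CommRingCat.ofHom (Ideal.Quotient.mk J)) = ((P i).bc k).t := Over.w (x ≫ pJ)
    obtain ⟨xr, hxr⟩ : ∃ xr : CommRingCat.of (R ⧸ J) ⟶ CommRingCat.of C, Spec.map xr = (x ≫ pJ).left := ⟨_, Spec.map_preimage _⟩
    rw [← hxr] at hx'
    rw [← idl_map J xr.hom (t := Spec.map (CommRingCat.ofHom (Ideal.Quotient.mk J))) hx', idl, Spec.preimage_map]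
    show ((J.map (Ideal.Quotient.mk J)).map xr.hom) ≤ ⊥
    rw [Ideal.map_quotient_self, Ideal.map_bot]
  · let P' := (P i).bc k
    have hid : Spec.map (CommRingCat.ofHom (RingHom.id C)) ≫ P'.t = P'.t := by
      rw [CommRingCat.ofHom_id, Spec.map_id, Category.id_comp]
    obtain ⟨χ, hχ⟩ := (pt P' (RingHom.id C) hid).surjective (x ≫ h)
    let L : P'.A →+* C := lc (RingHom.id C) χ
    have hL : Spec.map (CommRingCat.ofHom L) ≫ P'.tA = P'.t := by
      rw [Piece.tA, comp_mk_eq, show L.comp (MonoidAlgebra.singleOneRingHom : C →+* P'.A) = RingHom.id C from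
        RingHom.ext fun d => by simp [L, lc], hid]
    have hLh : res L hL ≫ P'.h = x ≫ h := by
      rw [P'.res_h L (RingHom.id C) hL hid (RingHom.ext fun d => by simp [L, lc]), ← hχ]
      congr 1
      exact MonoidHom.ext fun m => by simp [L, lc]
    have hLg : res L hL ≫ res (MonoidAlgebra.singleOneRingHom : C →+* P'.A) (t := P'.t) (t' := P'.tA) rfl ≫ P'.g u v h0 = P'.g u v h0 := by
      rw [← Category.assoc, res_comp _ _ (RingHom.id C) _ _ hid (RingHom.ext fun d => by simp [L, lc]),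
        res_id _ rfl, Category.id_comp]
    have := congrArg (res L hL ≫ ·) (conj u v h0 P')
    simp only [MonObj.comp_mul, GrpObj.comp_inv] at this
    rw [hLg, ← Category.assoc, ← Category.assoc, hLh, ← hx] at this
    simp only [MonObj.comp_mul, GrpObj.comp_inv, Category.assoc] at this ⊢
    exact this


/-- Conjugacy of homomorphisms agreeing modulo a square-zero ideal. -/
theorem result (hJ : J ^ 2 = ⊥)
    (h0 : ∀ (X : Over (B R)) (p : X ⟶ XQ J) (h : X ⟶ H), h ≫ u = h ≫ v)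
    (hH : TwC.Locally (B R) TwC.Topology.fpqc (fun S' f => ∃ (M : Type) (_ : AddCommGroup M), Nonempty (Grp.mk (Red.bc f H) ≅ Grp.mk (Red.DS S' M)))) :
    ∃ g : 𝟙_ (Over (B R)) ⟶ G, toUnit (XQ J) ≫ g = 1 ∧
      ∀ (X : Over (B R)) (h : X ⟶ H), h ≫ v = (toUnit X ≫ g) * (h ≫ u) * (toUnit X ≫ g)⁻¹ := by
  obtain ⟨g, h1, h2⟩ := result_rel J u v ⊥ hJ.le h0 hH
  let r : R ⧸ (⊥ : Ideal R) →+* R := Ideal.Quotient.lift ⊥ (RingHom.id R) fun x hx => hx
  let e : 𝟙_ (Over (B R)) ⟶ XQ (⊥ : Ideal R) := Over.homMk (Spec.map (CommRingCat.ofHom r)) (by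
    show Spec.map _ ≫ Spec.map _ = 𝟙 _
    rw [← Spec.map_comp]
    refine (congrArg Spec.map ?_).trans (Spec.map_id _)
    exact CommRingCat.hom_ext (RingHom.ext fun x => rfl))
  refine ⟨e ≫ g, ?_, fun X h => ?_⟩
  · rw [← Category.assoc]; exact h1 _ (𝟙 _) _
  · rw [← Category.assoc]; exact h2 X _ h

end Groth.Agent.H8ConjRigid
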