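import Mathlib
import Groth.Agent.Lib.H8ConjRigidRel
import Groth.Agent.Lib.H8SmoothLift

/-!
# Lifting conjugating elements along nilpotent ideals
-/

set_option autoImplicit false
set_option linter.all false

universe u

open CategoryTheory Limits AlgebraicGeometry MonoidalCategory CartesianMonoidalCategory MonObj GrpObj

namespace Groth.Agent.H8ConjLift

open H8ConjRigid

variable {R : Type u} [CommRing R]

/-- The inclusion of closed subschemes. -/
noncomputable def incl {K K' : Ideal R} (h : K' ≤ K) : XQ K ⟶ XQ K' :=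
  Over.homMk (Spec.map (CommRingCat.ofHom (Ideal.Quotient.factor h))) (by
    show Spec.map _ ≫ Spec.map _ = Spec.map _
    rw [← Spec.map_comp]
    congr 1)

lemma incl_comp {K K' K'' : Ideal R} (h : K' ≤ K) (h' : K'' ≤ K') : incl h ≫ incl h' = incl (h'.trans h) := by
  refine Over.OverMorphism.ext ?_
  show Spec.map _ ≫ Spec.map _ = Spec.map _
  rw [← Spec.map_comp]
  congr 1
  exact CommRingCat.hom_ext (Ideal.Quotient.ringHom_ext (RingHom.ext fun r => rfl))

lemma incl_self (K : Ideal R) : incl (le_refl K) = 𝟙 _ := by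
  refine Over.OverMorphism.ext ?_
  show Spec.map _ = _
  refine (congrArg Spec.map ?_).trans (Spec.map_id _)
  exact CommRingCat.hom_ext (Ideal.Quotient.ringHom_ext (RingHom.ext fun r => rfl))

variable {G : Over (B R)} [Smooth G.hom]

lemma lift_step {K K' : Ideal R} (h : K' ≤ K) (h2 : K ^ 2 ≤ K') (x : XQ K ⟶ G) :
    ∃ y : XQ K' ⟶ G, incl h ≫ y = x := by
  let A := R ⧸ K'
  let I : Ideal A := K.map (Ideal.Quotient.mk K')
  have hI : I ^ 2 = ⊥ := by
    rw [← Ideal.map_pow, eq_bot_iff, ← Ideal.map_quotient_self K']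
    exact Ideal.map_mono h2
  let ρ : R ⧸ K →+* A ⧸ I := Ideal.Quotient.lift K ((Ideal.Quotient.mk I).comp (Ideal.Quotient.mk K')) fun r hr =>
    Ideal.Quotient.eq_zero_iff_mem.mpr (Ideal.mem_map_of_mem _ hr)
  let ρ' : A ⧸ I →+* R ⧸ K := Ideal.Quotient.lift I (Ideal.Quotient.factor h) (by
    intro a ha
    have : I.map (Ideal.Quotient.factor h) ≤ ⊥ := by
      rw [Ideal.map_map, show (Ideal.Quotient.factor h).comp (Ideal.Quotient.mk K') = Ideal.Quotient.mk K from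
        RingHom.ext fun r => rfl, Ideal.map_quotient_self]
    exact this (Ideal.mem_map_of_mem _ ha))
  have hρ : ρ'.comp ρ = RingHom.id _ := Ideal.Quotient.ringHom_ext (RingHom.ext fun r => rfl)
  obtain ⟨l, hl1, hl2⟩ := H8SmoothLift.formallySmooth_of_smooth G.hom A I hI
    (Spec.map (CommRingCat.ofHom ρ) ≫ x.left) (Spec.map (CommRingCat.ofHom (Ideal.Quotient.mk K'))) (by
      rw [Category.assoc, Over.w x]
      show _ ≫ Spec.map _ = _ ≫ Spec.map _
      rw [← Spec.map_comp, ← Spec.map_comp]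
      rfl)
  refine ⟨Over.homMk l hl2, Over.OverMorphism.ext ?_⟩
  show Spec.map _ ≫ l = x.left
  have e : CommRingCat.ofHom (Ideal.Quotient.factor h) =
      CommRingCat.ofHom (Ideal.Quotient.mk I) ≫ CommRingCat.ofHom ρ' :=
    CommRingCat.hom_ext (RingHom.ext fun a => rfl)
  rw [e, Spec.map_comp, Category.assoc, hl1, ← Spec.map_comp_assoc, ← CommRingCat.ofHom_comp, hρ, CommRingCat.ofHom_id,
    Spec.map_id, Category.id_comp]

lemma pow_two_pow_le (J : Ideal R) (m : ℕ) : J ^ 2 ^ (m + 1) ≤ J ^ 2 ^ m :=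
  Ideal.pow_le_pow_right (Nat.pow_le_pow_right (by norm_num) (Nat.le_succ m))

lemma pow_le_self (J : Ideal R) (m : ℕ) : J ^ 2 ^ m ≤ J := Ideal.pow_le_self (pow_ne_zero _ two_ne_zero)

/-- Points of smooth schemes lift along nilpotent ideals. -/
theorem lift_section {K : Ideal R} (hK : IsNilpotent K) (x : XQ K ⟶ G) :
    ∃ g : 𝟙_ (Over (B R)) ⟶ G, toUnit (XQ K) ≫ g = x := by
  have main : ∀ m, ∃ y : XQ (K ^ 2 ^ m) ⟶ G, incl (pow_le_self K m) ≫ y = x := by
    intro m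
    induction m with
    | zero =>
      have h : K ≤ K ^ 2 ^ 0 := by simp
      refine ⟨incl h ≫ x, ?_⟩
      rw [← Category.assoc, incl_comp, incl_self, Category.id_comp]
    | succ m ih =>
      obtain ⟨y, hy⟩ := ih
      obtain ⟨z, hz⟩ := lift_step (pow_two_pow_le K m) (by rw [← pow_mul, ← pow_succ]) y
      refine ⟨z, ?_⟩
      rw [← hy, ← hz, ← Category.assoc, incl_comp]
  obtain ⟨n, hn⟩ := hK
  obtain ⟨y, hy⟩ := main n
  have hbot : K ^ 2 ^ n ≤ ⊥ := (Ideal.pow_le_pow_right (Nat.lt_two_pow_self.le)).trans hn.le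
  let r : R ⧸ K ^ 2 ^ n →+* R := Ideal.Quotient.lift _ (RingHom.id R) fun a ha => hbot ha
  let e : 𝟙_ (Over (B R)) ⟶ XQ (K ^ 2 ^ n) := Over.homMk (Spec.map (CommRingCat.ofHom r)) (by
    show Spec.map _ ≫ Spec.map _ = 𝟙 _
    rw [← Spec.map_comp]
    refine (congrArg Spec.map ?_).trans (Spec.map_id _)
    exact CommRingCat.hom_ext (RingHom.ext fun a => rfl))
  refine ⟨e ≫ y, ?_⟩
  rw [← hy, ← Category.assoc]
  congr 1
  refine Over.OverMorphism.ext ?_
  show Spec.map _ ≫ Spec.map _ = Spec.map _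
  rw [← Spec.map_comp]
  congr 1
  exact CommRingCat.hom_ext (Ideal.Quotient.ringHom_ext (RingHom.ext fun a => rfl))

/-- Conjugating elements lift along nilpotent ideals. -/
theorem result (J : Ideal R) (hJ : IsNilpotent J) (H G : Over (B R)) [GrpObj H] [GrpObj G] [Smooth G.hom]
    (hH : TwC.Locally (B R) TwC.Topology.fpqc (fun S' f => ∃ (M : Type) (_ : AddCommGroup M), Nonempty (Grp.mk (Red.bc f H) ≅ Grp.mk (Red.DS S' M))))
    (u v : H ⟶ G) [IsMonHom u] [IsMonHom v] (g₀ : XQ J ⟶ G)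
    (h0 : ∀ (X : Over (B R)) (p : X ⟶ XQ J) (h : X ⟶ H), h ≫ v = (p ≫ g₀) * (h ≫ u) * (p ≫ g₀)⁻¹) :
    ∃ g : 𝟙_ (Over (B R)) ⟶ G, toUnit (XQ J) ≫ g = g₀ ∧
      ∀ (X : Over (B R)) (h : X ⟶ H), h ≫ v = (toUnit X ≫ g) * (h ≫ u) * (toUnit X ≫ g)⁻¹ := by
  have main : ∀ m, ∃ g : 𝟙_ (Over (B R)) ⟶ G, toUnit (XQ J) ≫ g = g₀ ∧
      ∀ (X : Over (B R)) (p : X ⟶ XQ (J ^ 2 ^ m)) (h : X ⟶ H),
        h ≫ v = (toUnit X ≫ g) * (h ≫ u) * (toUnit X ≫ g)⁻¹ := by
    intro m
    induction m with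
    | zero =>
      obtain ⟨g, hg⟩ := lift_section hJ g₀
      refine ⟨g, hg, fun X p h => ?_⟩
      let p' : X ⟶ XQ J := p ≫ incl (show J ≤ J ^ 2 ^ 0 by simp)
      have hp : p' ≫ g₀ = toUnit X ≫ g := by rw [← hg, comp_toUnit_assoc]
      rw [h0 X p' h, hp]
    | succ m ih =>
      obtain ⟨g, hg, hgu⟩ := ih
      let u' : H ⟶ G := (toUnit H ≫ g) * u * (toUnit H ≫ g)⁻¹
      have hu' : ∀ (X : Over (B R)) (h : X ⟶ H), h ≫ u' = (toUnit X ≫ g) * (h ≫ u) * (toUnit X ≫ g)⁻¹ := fun X h => by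
        simp only [u', MonObj.comp_mul, GrpObj.comp_inv, comp_toUnit_assoc]
      haveI : IsMonHom u' :=
        { one_hom := by
            rw [hu', IsMonHom.one_hom, MonObj.one_eq_one, _root_.mul_one, mul_inv_cancel]
          mul_hom := by
            rw [hu', IsMonHom.mul_hom]
            have h1 : (u' ⊗ₘ u') ≫ μ[G] = (fst H H ≫ u') * (snd H H ≫ u') := by
              rw [Hom.mul_def]; congr 1
            have h2 : (u ⊗ₘ u) ≫ μ[G] = (fst H H ≫ u) * (snd H H ≫ u) := by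
              rw [Hom.mul_def]; congr 1
            rw [h1, h2, hu', hu']
            group }
      have hK : (J ^ 2 ^ m) ^ 2 ≤ J ^ 2 ^ (m + 1) := by rw [← pow_mul, ← pow_succ]
      obtain ⟨g₁, hg₁, hg₁u⟩ := result_rel (J ^ 2 ^ m) u' v (J ^ 2 ^ (m + 1)) hK
        (fun X p h => (hu' X h).trans (hgu X p h).symm) hH
      obtain ⟨g', hg'⟩ := lift_section (K := J ^ 2 ^ (m + 1)) (by
        obtain ⟨n, hn⟩ := hJ
        exact ⟨n, by rw [← pow_mul, mul_comm, pow_mul, hn, zero_pow (pow_ne_zero _ two_ne_zero)]⟩) g₁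
      refine ⟨g' * g, ?_, fun X p h => ?_⟩
      · have h1 := hg₁ (XQ J) (incl (pow_le_self J m)) (incl (pow_le_self J (m + 1)))
        rw [← hg', comp_toUnit_assoc] at h1
        rw [MonObj.comp_mul, h1, _root_.one_mul, hg]
      · rw [hg₁u X p h, hu', ← hg', comp_toUnit_assoc, MonObj.comp_mul, _root_.mul_inv_rev]
        simp only [_root_.mul_assoc]
  obtain ⟨n, hn⟩ := hJ
  obtain ⟨g, hg, hgu⟩ := main n
  refine ⟨g, hg, fun X h => ?_⟩
  have hbot : J ^ 2 ^ n ≤ ⊥ := (Ideal.pow_le_pow_right (Nat.lt_two_pow_self.le)).trans hn.le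
  let r : R ⧸ J ^ 2 ^ n →+* R := Ideal.Quotient.lift _ (RingHom.id R) fun a ha => hbot ha
  let e : 𝟙_ (Over (B R)) ⟶ XQ (J ^ 2 ^ n) := Over.homMk (Spec.map (CommRingCat.ofHom r)) (by
    show Spec.map _ ≫ Spec.map _ = 𝟙 _
    rw [← Spec.map_comp]
    refine (congrArg Spec.map ?_).trans (Spec.map_id _)
    exact CommRingCat.hom_ext (RingHom.ext fun a => rfl))
  exact hgu X (toUnit X ≫ e) h

end Groth.Agent.H8ConjLift
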