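import Mathlib
import Groth.Agent.Lib.H8Coeff

/-! Cosemisimple coalgebras. -/

universe u v w w'

open TensorProduct

namespace Groth.Agent.H8Comod

variable {k : Type u} [Field k] {C : Type v} [AddCommGroup C] [Module k C] [Coalgebra k C]

theorem exists_eq_coef {D : Submodule k C} (hD : IsSimpleSubcoalg D) :
    letI := dualModule (k := k) (C := C) C
    ∃ N : Submodule (DualAlg k C) C, IsSimpleModule (DualAlg k C) N ∧ toK k C C N ≤ D :=
  exists_simple_le (isSubcoalg_iff.mp hD.2.1).1 hD.1

/-- The comodule structure on a subcomodule of the regular comodule. -/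
@[reducible] noncomputable def subComod {V : Type w} [AddCommGroup V] [Module k V] [HopfRep.Comod k C V]
    (U : Submodule k V) (hU : HopfRep.IsSubcomod (k := k) (A := C) U) : HopfRep.Comod k C U where
  coact := (LinearEquiv.ofInjective (U.subtype.rTensor C)
      (Module.Flat.rTensor_preserves_injective_linearMap _ U.injective_subtype)).symm.toLinearMap ∘ₗ
    LinearMap.codRestrict (LinearMap.range (U.subtype.rTensor C))
      (HopfRep.Comod.coact (k := k) (A := C) ∘ₗ U.subtype) (fun u => hU u u.2)
  coassoc := by
    have h : U.subtype.rTensor C ∘ₗ ((LinearEquiv.ofInjective (U.subtype.rTensor C)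
        (Module.Flat.rTensor_preserves_injective_linearMap _ U.injective_subtype)).symm.toLinearMap ∘ₗ
        LinearMap.codRestrict (LinearMap.range (U.subtype.rTensor C))
          (HopfRep.Comod.coact (k := k) (A := C) ∘ₗ U.subtype) (fun u => hU u u.2)) =
        HopfRep.Comod.coact (k := k) (A := C) ∘ₗ U.subtype :=
      LinearMap.ext fun u => congrArg Subtype.val ((LinearEquiv.ofInjective (U.subtype.rTensor C)
        (Module.Flat.rTensor_preserves_injective_linearMap _ U.injective_subtype)).apply_symm_apply ⟨_, hU u u.2⟩)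
    generalize hρ : ((LinearEquiv.ofInjective (U.subtype.rTensor C)
        (Module.Flat.rTensor_preserves_injective_linearMap _ U.injective_subtype)).symm.toLinearMap ∘ₗ
        LinearMap.codRestrict (LinearMap.range (U.subtype.rTensor C))
          (HopfRep.Comod.coact (k := k) (A := C) ∘ₗ U.subtype) (fun u => hU u u.2)) = ρ at h ⊢
    have hinj := Module.Flat.rTensor_preserves_injective_linearMap (M := C ⊗[k] C) _ U.injective_subtype
    refine LinearMap.ext fun u => hinj ?_
    have hc := LinearMap.congr_fun (HopfRep.Comod.coassoc (k := k) (A := C) (V := V)) (u : V)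
    have hu : U.subtype.rTensor C (ρ u) = HopfRep.Comod.coact (k := k) (A := C) (u : V) := LinearMap.congr_fun h u
    simp only [LinearMap.comp_apply, LinearEquiv.coe_coe] at hc ⊢
    rw [← hu] at hc
    rw [← LinearMap.comp_apply (U.subtype.rTensor (C ⊗[k] C)) ((CoalgebraStruct.comul (R := k) (A := C)).lTensor U),
      LinearMap.rTensor_comp_lTensor, ← LinearMap.lTensor_comp_rTensor, LinearMap.comp_apply, ← hc]
    generalize ρ u = z
    induction z using TensorProduct.induction_on with
    | zero => simp
    | tmul a q =>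
      simp only [LinearMap.rTensor_tmul]
      rw [show HopfRep.Comod.coact (k := k) (A := C) (U.subtype a) = U.subtype.rTensor C (ρ a) from (LinearMap.congr_fun h a).symm]
      generalize ρ a = y
      induction y using TensorProduct.induction_on with
      | zero => simp
      | tmul p r => simp
      | add p r hp hr => simp only [map_add, add_tmul, hp, hr]
    | add p q hp hq => simp only [map_add, hp, hq]
  counit_comp := by
    have hinj := Module.Flat.rTensor_preserves_injective_linearMap (M := k) _ U.injective_subtype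
    refine LinearMap.ext fun u => hinj ?_
    have hu := congrArg Subtype.val ((LinearEquiv.ofInjective (U.subtype.rTensor C)
      (Module.Flat.rTensor_preserves_injective_linearMap _ U.injective_subtype)).apply_symm_apply ⟨_, hU u u.2⟩)
    have hc := LinearMap.congr_fun (HopfRep.Comod.counit_comp (k := k) (A := C) (V := V)) (u : V)
    simp only [LinearMap.comp_apply, LinearEquiv.coe_coe, LinearMap.flip_apply, TensorProduct.mk_apply] at hc ⊢
    rw [← LinearMap.comp_apply (U.subtype.rTensor k) ((CoalgebraStruct.counit (R := k) (A := C)).lTensor U),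
      LinearMap.rTensor_comp_lTensor, ← LinearMap.lTensor_comp_rTensor, LinearMap.comp_apply,
      LinearMap.rTensor_tmul, Submodule.subtype_apply, ← hc]
    exact congrArg _ hu

theorem subComod_subtype {V : Type w} [AddCommGroup V] [Module k V] [HopfRep.Comod k C V]
    (U : Submodule k V) (hU : HopfRep.IsSubcomod (k := k) (A := C) U) :
    letI := subComod U hU
    Hoch.IsComodHom C U.subtype := by
  letI := subComod U hU
  exact LinearMap.ext fun u => (congrArg Subtype.val ((LinearEquiv.ofInjective (U.subtype.rTensor C)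
      (Module.Flat.rTensor_preserves_injective_linearMap _ U.injective_subtype)).apply_symm_apply ⟨_, hU u u.2⟩)).symm

theorem isSimple_subComod {V : Type w} [AddCommGroup V] [Module k V] [HopfRep.Comod k C V]
    (U : Submodule k V) (hU : HopfRep.IsSubcomod (k := k) (A := C) U) (h0 : U ≠ ⊥)
    (hs : ∀ U' : Submodule k V, HopfRep.IsSubcomod (k := k) (A := C) U' → U' ≤ U → U' = ⊥ ∨ U' = U) :
    letI := subComod U hU
    HopfRep.IsSimpleComod k C U := by
  letI := subComod U hU
  refine ⟨(Submodule.nontrivial_iff_ne_bot).mpr h0, fun X hX => ?_⟩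
  rcases hs _ (isSubcomod_map (subComod_subtype U hU) hX) (Submodule.map_subtype_le U X) with h | h
  · left; exact Submodule.map_injective_of_injective U.injective_subtype (h.trans (Submodule.map_bot _).symm)
  · right; exact Submodule.map_injective_of_injective U.injective_subtype (h.trans (Submodule.map_subtype_top U).symm)

/-- Every simple subcoalgebra is the coefficient space of a simple subcomodule of the coalgebra. -/
theorem exists_simple_subcomod {D : Submodule k C} (hD : IsSimpleSubcoalg D) :
    ∃ (U : Submodule k C) (hU : HopfRep.IsSubcomod (k := k) (A := C) U), U ≤ D ∧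
      (letI := subComod U hU; HopfRep.IsSimpleComod k C U ∧ coef k C U = D) := by
  letI := dualModule (k := k) (C := C) C
  obtain ⟨N, hN, hle⟩ := exists_eq_coef hD
  have hU : HopfRep.IsSubcomod (k := k) (A := C) (toK k C C N) := ((subEquiv (k := k) (C := C) (V := C)) N).2
  refine ⟨toK k C C N, hU, hle, ?_⟩
  letI := subComod (toK k C C N) hU
  have hs := isSimple_subComod _ hU ((isSimple_sub_iff N).mp hN).1 ((isSimple_sub_iff N).mp hN).2
  refine ⟨hs, ?_⟩
  haveI := hs.1
  refine (hD.2.2 _ ?_ isSubcoalg_coef).resolve_left coef_ne_bot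
  refine coef_le_iff.mpr fun f hf x => Subtype.ext ?_
  have h := isComodHom_iff.mp (subComod_subtype _ hU) (WithConv.toConv f) x
  simp only [Submodule.subtype_apply] at h
  rw [h, (isSubcoalg_iff.mp hD.2.1).2 f hf x.1 (hle x.2)]; rfl

theorem iSupIndep_simpleSubcoalg {ι : Type*} (D : ι → Submodule k C) (hinj : Function.Injective D)
    (hD : ∀ i, IsSimpleSubcoalg (D i)) : iSupIndep D := by
  letI := dualModule (k := k) (C := C) C
  intro i
  rw [disjoint_iff]
  by_contra h
  have hsub : HopfRep.IsSubcomod (k := k) (A := C) (⨆ j, ⨆ (_ : j ≠ i), D j) :=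
    isSubcomod_iSup fun j => isSubcomod_iSup fun _ => (isSubcoalg_iff.mp (hD j).2.1).1
  obtain ⟨N, hN, hle⟩ := exists_simple_le (isSubcomod_inf (isSubcoalg_iff.mp (hD i).2.1).1 hsub) h
  choose U hU hUD hsimp using fun j => exists_simple_subcomod (hD j)
  letI := fun j => subComod (U j) (hU j)
  have hcov : toK k C C N ≤ ⨆ p : (Σ j : {j // j ≠ i}, U j.1 →ₗ[k] k), LinearMap.range (mc (C := C) p.2) := by
    refine (hle.trans inf_le_right).trans (iSup₂_le fun j hj => ?_)
    rw [← (hsimp j).2]
    exact iSup_le fun φ => le_iSup_of_le (⟨⟨j, hj⟩, φ⟩ : Σ j : {j // j ≠ i}, U j.1 →ₗ[k] k) le_rfl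
  obtain ⟨⟨⟨j, hj⟩, _⟩, g, hg, hginj, hgr⟩ := exists_iso_of_le_iSup (fun p : (Σ j : {j // j ≠ i}, U j.1 →ₗ[k] k) => U p.1.1)
    (fun p => (hsimp p.1.1).1) (fun p => mc (C := C) p.2) (fun p => mc_isComodHom p.2) N hN hcov
  apply hj
  apply hinj
  haveI := (hsimp j).1.1
  have hcoef : coef k C (U j) = D j := (hsimp j).2
  rw [← hcoef]
  refine ((hD i).2.2 _ ?_ isSubcoalg_coef).resolve_left coef_ne_bot
  refine coef_le_iff.mpr fun f hf x => hginj ?_
  rw [map_zero, isComodHom_iff.mp hg]
  exact (isSubcoalg_iff.mp (hD i).2.1).2 f hf _ ((hle.trans inf_le_left) (hgr ▸ LinearMap.mem_range_self g x))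

theorem isSemisimple_of_regular (h : HopfRep.IsSemisimpleComod k C C) (V : Type w) [AddCommGroup V] [Module k V]
    [HopfRep.Comod k C V] : HopfRep.IsSemisimpleComod k C V := by
  classical
  letI := dualModule (k := k) (C := C) V
  letI := dualModule (k := k) (C := C) C
  haveI := isSemisimple_iff.mpr h
  rw [← isSemisimple_iff]
  choose F hF hvF hFs using fun v : V => exists_finite_mem (k := k) (C := C) v
  choose N hN using fun v => exists_ofK (hFs v)
  refine isSemisimpleModule_of_isSemisimpleModule_submodule' (p := N) (fun v => ?_) ?_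
  · have := hF v
    let b := Module.finBasis k (F v)
    choose φ hφ using fun i => LinearMap.exists_extend (b.coord i)
    choose L hL using fun i => mc_linear (C := C) (φ i)
    refine IsSemisimpleModule.of_injective (LinearMap.pi fun i => L i ∘ₗ (N v).subtype) ?_
    intro x y hxy
    have hx : (x : V) ∈ F v := hN v ▸ mem_toK.mpr x.2
    have hy : (y : V) ∈ F v := hN v ▸ mem_toK.mpr y.2
    apply Subtype.ext
    have : (⟨x, hx⟩ : F v) = ⟨y, hy⟩ := b.ext_elem fun i => by
      have h1 := congrArg (CoalgebraStruct.counit (R := k) (A := C)) (congrFun hxy i)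
      change CoalgebraStruct.counit (L i (x : V)) = CoalgebraStruct.counit (L i (y : V)) at h1
      rw [hL, hL] at h1
      have key : ∀ z : V, CoalgebraStruct.counit (R := k) (mc (C := C) (φ i) z) = φ i z := fun z => by
        rw [apply_mc]
        have : WithConv.toConv (CoalgebraStruct.counit (R := k) (A := C)) = (1 : DualAlg k C) := by
          ext c; exact (LinearMap.convOne_apply (R := k) (A := k) c).symm
        rw [this, act_one, Module.End.one_apply]
      rw [key, key] at h1
      have hx' := LinearMap.congr_fun (hφ i) ⟨x, hx⟩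
      have hy' := LinearMap.congr_fun (hφ i) ⟨y, hy⟩
      simp only [LinearMap.comp_apply, Submodule.subtype_apply] at hx' hy'
      simpa [hx', hy'] using h1
    exact congrArg (Subtype.val : F v → V) this
  · rw [Submodule.eq_top_iff']
    intro v
    exact Submodule.mem_iSup_of_mem v (mem_toK.mp (hN v ▸ hvF v))

theorem cosemisimple_iff :
    (∃ (ι : Type v) (D : ι → Submodule k C), iSupIndep D ∧ iSup D = ⊤ ∧ ∀ i,
        D i ≠ ⊥ ∧ (∀ b ∈ D i, CoalgebraStruct.comul (R := k) b ∈ LinearMap.range (TensorProduct.map (D i).subtype (D i).subtype)) ∧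
        ∀ B : Submodule k C, B ≤ D i → (∀ b ∈ B, CoalgebraStruct.comul (R := k) b ∈ LinearMap.range (TensorProduct.map B.subtype B.subtype)) → B = ⊥ ∨ B = D i) ↔
      ∀ (V : Type v) [AddCommGroup V] [Module k V] [HopfRep.Comod k C V],
        HopfRep.IsSemisimpleComod k C V := by
  letI := dualModule (k := k) (C := C) C
  constructor
  · rintro ⟨ι, D, -, htop, hD⟩ V _ _ _
    refine isSemisimple_of_regular ?_ V
    choose U hU hUD hsimp using fun j => exists_simple_subcomod (hD j)
    letI := fun j => subComod (U j) (hU j)
    rw [← isSemisimple_iff]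
    letI := fun j => dualModule (k := k) (C := C) (U j)
    choose L hL using fun p : (Σ j, U j →ₗ[k] k) => mc_linear (C := C) p.2
    refine isSemisimpleModule_of_isSemisimpleModule_submodule' (p := fun p => LinearMap.range (L p)) (fun p => ?_) ?_
    · haveI := isSimple_iff.mpr (hsimp p.1).1
      exact IsSemisimpleModule.range (L p)
    · rw [Submodule.eq_top_iff']
      intro x
      have hx : x ∈ ⨆ j, D j := htop ▸ Submodule.mem_top
      refine Submodule.iSup_induction D (motive := fun y => y ∈ ⨆ p, LinearMap.range (L p)) hx ?_ (zero_mem _) fun a b ha hb => add_mem ha hb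
      intro j y hy
      rw [← (hsimp j).2] at hy
      refine Submodule.iSup_induction (fun φ => LinearMap.range (mc (C := C) φ))
        (motive := fun y => y ∈ ⨆ p, LinearMap.range (L p)) hy ?_ (zero_mem _) fun a b ha hb => add_mem ha hb
      rintro φ _ ⟨w, rfl⟩
      exact Submodule.mem_iSup_of_mem ⟨j, φ⟩ ⟨w, hL ⟨j, φ⟩ w⟩
  · intro h
    have htop := sSup_simple_eq_top (h C)
    refine ⟨{D : Submodule k C // IsSimpleSubcoalg D}, fun D => D.1,
      iSupIndep_simpleSubcoalg _ Subtype.val_injective fun D => D.2, ?_, fun D => D.2⟩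
    rw [eq_top_iff, ← htop]
    refine iSup_le fun U => ?_
    letI := subComod U.1 U.2.1
    have hs := isSimple_subComod U.1 U.2.1 U.2.2.1 U.2.2.2
    refine le_iSup_of_le ⟨coef k C U.1, coef_simple hs⟩ ?_
    have := range_le_coef (U.1.subtype) (subComod_subtype U.1 U.2.1)
    rwa [Submodule.range_subtype] at this

end Groth.Agent.H8Comod
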