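import Mathlib
import Groth.Agent.Lib.H8Hopf
import Groth.Agent.Lib.H8Comod

/-! Normalised integrals and Maschke's theorem for comodules. -/

universe u v w

open TensorProduct HopfAlgebra

namespace Groth.Agent.H8Integral

variable {k : Type u} [Field k] {A : Type v} [CommRing A] [HopfAlgebra k A]

/-- Invariance of a functional. -/
def IsIntegral (α : A →ₗ[k] k) : Prop :=
  ∀ a, TensorProduct.lid k A (α.rTensor A (CoalgebraStruct.comul (R := k) a)) = α a • (1 : A)

theorem twisted (α : A →ₗ[k] k) (hα : IsIntegral α) (c b : A) :
    TensorProduct.rid k A ((α ∘ₗ LinearMap.mulRight k c ∘ₗ antipode k).lTensor A (CoalgebraStruct.comul (R := k) b)) =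
      TensorProduct.lid k A ((α ∘ₗ LinearMap.mulLeft k (antipode k b)).rTensor A (CoalgebraStruct.comul (R := k) c)) := by
  have step : ∀ (p q : A) (b : A),
      LinearMap.mul' k A (((TensorProduct.lid k A).toLinearMap ∘ₗ
        TensorProduct.map (α ∘ₗ LinearMap.mulRight k p ∘ₗ antipode k) (LinearMap.mulRight k q ∘ₗ antipode k) ∘ₗ
        (TensorProduct.comm k A A).toLinearMap).lTensor A
          ((CoalgebraStruct.comul (R := k) (A := A)).lTensor A (CoalgebraStruct.comul (R := k) b))) =
      α (antipode k b * p) • q := by
    intro p q b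
    rw [← Coalgebra.coassoc_apply]
    have key : ∀ z : A ⊗[k] A,
        LinearMap.mul' k A (((TensorProduct.lid k A).toLinearMap ∘ₗ
          TensorProduct.map (α ∘ₗ LinearMap.mulRight k p ∘ₗ antipode k) (LinearMap.mulRight k q ∘ₗ antipode k) ∘ₗ
          (TensorProduct.comm k A A).toLinearMap).lTensor A
            (TensorProduct.assoc k A A A ((CoalgebraStruct.comul (R := k) (A := A)).rTensor A z))) =
        α (antipode k (TensorProduct.lid k A ((CoalgebraStruct.counit (R := k) (A := A)).rTensor A z)) * p) • q := by
      intro z
      induction z using TensorProduct.induction_on with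
      | zero => simp
      | tmul x y =>
        simp only [LinearMap.rTensor_tmul, TensorProduct.lid_tmul, map_smul, smul_mul_assoc]
        have h2 : ∀ w : A ⊗[k] A,
            LinearMap.mul' k A (((TensorProduct.lid k A).toLinearMap ∘ₗ
              TensorProduct.map (α ∘ₗ LinearMap.mulRight k p ∘ₗ antipode k) (LinearMap.mulRight k q ∘ₗ antipode k) ∘ₗ
              (TensorProduct.comm k A A).toLinearMap).lTensor A (TensorProduct.assoc k A A A (w ⊗ₜ y))) =
            α (antipode k y * p) • (LinearMap.mul' k A ((antipode k).lTensor A w) * q) := by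
          intro w
          induction w using TensorProduct.induction_on with
          | zero => simp
          | tmul u v => simp [mul_assoc]
          | add u v hu hv => simp only [map_add, add_tmul, add_mul, smul_add, hu, hv]
        rw [h2, mul_antipode_lTensor_comul_apply, ← Algebra.smul_def, smul_smul, smul_eq_mul, mul_comm]
      | add x y hx hy => simp only [map_add, add_mul, add_smul, hx, hy]
    rw [key, Coalgebra.rTensor_counit_comul, TensorProduct.lid_tmul, one_smul]
  -- rewrite both sides by invariance
  have lhs : ∀ z : A ⊗[k] A,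
      TensorProduct.rid k A ((α ∘ₗ LinearMap.mulRight k c ∘ₗ antipode k).lTensor A z) =
        LinearMap.mul' k A (((TensorProduct.lid k A).toLinearMap ∘ₗ α.rTensor A ∘ₗ
          LinearMap.mulRight k (CoalgebraStruct.comul (R := k) c) ∘ₗ CoalgebraStruct.comul (R := k) ∘ₗ antipode k).lTensor A z) := by
    intro z
    induction z using TensorProduct.induction_on with
    | zero => simp
    | tmul x y =>
      simp only [LinearMap.lTensor_tmul, rid_tmul, LinearMap.mul'_apply, LinearMap.comp_apply, LinearEquiv.coe_coe,
        LinearMap.mulRight_apply]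
      rw [← Bialgebra.comul_mul, hα, mul_smul_comm, mul_one]
    | add x y hx hy => simp only [map_add, hx, hy]
  rw [lhs]
  generalize CoalgebraStruct.comul (R := k) c = w
  induction w using TensorProduct.induction_on with
  | zero => simp [show LinearMap.mulRight k (0 : A ⊗[k] A) = 0 from LinearMap.ext fun z => by simp]
  | tmul p q =>
    have e : (TensorProduct.lid k A).toLinearMap ∘ₗ α.rTensor A ∘ₗ LinearMap.mulRight k (p ⊗ₜ[k] q) ∘ₗ
        CoalgebraStruct.comul (R := k) ∘ₗ antipode k =
        ((TensorProduct.lid k A).toLinearMap ∘ₗ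
          TensorProduct.map (α ∘ₗ LinearMap.mulRight k p ∘ₗ antipode k) (LinearMap.mulRight k q ∘ₗ antipode k) ∘ₗ
          (TensorProduct.comm k A A).toLinearMap) ∘ₗ CoalgebraStruct.comul (R := k) := by
      refine LinearMap.ext fun x => ?_
      simp only [LinearMap.comp_apply, LinearEquiv.coe_coe, LinearMap.mulRight_apply, H8Hopf.comul_antipode]
      generalize TensorProduct.comm k A A (CoalgebraStruct.comul (R := k) x) = z
      induction z using TensorProduct.induction_on with
      | zero => simp
      | tmul u v => simp
      | add u v hu hv => simp only [map_add, add_mul, hu, hv]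
    rw [e, LinearMap.lTensor_comp_apply, step]
    simp
  | add p q hp hq =>
    have e : LinearMap.mulRight k (p + q) = LinearMap.mulRight k p + LinearMap.mulRight k q := by ext <;> simp [mul_add]
    simp only [e, LinearMap.add_comp, LinearMap.comp_add, LinearMap.lTensor_add, LinearMap.add_apply, map_add, hp, hq]

theorem isIntegral_of_isComodHom {α : A →ₗ[k] k}
    (hα : @Hoch.IsComodHom k _ A _ _ _ A _ _ _ k _ _ (HopfRep.Comod.trivial k A k) α) : IsIntegral α := by
  intro a
  have h := congrArg (TensorProduct.lid k A) (LinearMap.congr_fun hα a)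
  simp only [LinearMap.comp_apply, LinearMap.flip_apply, TensorProduct.mk_apply, TensorProduct.lid_tmul] at h
  exact h.symm

/-- Maschke: a normalised integral makes every comodule semisimple. -/
theorem semisimple_of_integral (α : A →ₗ[k] k) (hα : IsIntegral α) (h1 : α 1 = 1)
    (V : Type w) [AddCommGroup V] [Module k V] [HopfRep.Comod k A V] : HopfRep.IsSemisimpleComod k A V := by
  intro W hW
  obtain ⟨p, hp⟩ := W.subtype.exists_leftInverse_of_injective W.ker_subtype
  let P : V →ₗ[k] V := W.subtype ∘ₗ p
  let H : V ⊗[k] A →ₗ[k] V := TensorProduct.lift (LinearMap.mk₂ k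
    (fun w c => H8Comod.contr V (α ∘ₗ LinearMap.mulRight k c ∘ₗ antipode k) (HopfRep.Comod.coact (k := k) (A := A) w))
    (fun w w' c => by simp) (fun a w c => by simp)
    (fun w c c' => by
      simp [H8Comod.contr, show LinearMap.mulRight k (c + c') = LinearMap.mulRight k c + LinearMap.mulRight k c' from
        LinearMap.ext fun z => by simp [mul_add], LinearMap.add_comp, LinearMap.comp_add, LinearMap.lTensor_add])
    (fun a w c => by
      simp [H8Comod.contr, show LinearMap.mulRight k (a • c) = a • LinearMap.mulRight k c from
        LinearMap.ext fun z => by simp, LinearMap.smul_comp, LinearMap.comp_smul, LinearMap.lTensor_smul]))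
  have hH : ∀ w c, H (w ⊗ₜ c) = H8Comod.contr V (α ∘ₗ LinearMap.mulRight k c ∘ₗ antipode k) (HopfRep.Comod.coact (k := k) (A := A) w) :=
    fun w c => rfl
  let ρ := HopfRep.Comod.coact (k := k) (A := A) (V := V)
  have hHeq : ∀ z : V ⊗[k] A, ρ (H z) =
      H.rTensor A ((TensorProduct.assoc k V A A).symm ((CoalgebraStruct.comul (R := k) (A := A)).lTensor V z)) := by
    intro z
    induction z using TensorProduct.induction_on with
    | zero => simp
    | tmul w c =>
      rw [hH, LinearMap.lTensor_tmul]
      have hco := LinearMap.congr_fun (HopfRep.Comod.coassoc (k := k) (A := A) (V := V)) w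
      simp only [LinearMap.comp_apply, LinearEquiv.coe_coe] at hco
      have k1 : ∀ z : V ⊗[k] A, ρ (H8Comod.contr V (α ∘ₗ LinearMap.mulRight k c ∘ₗ antipode k) z) =
          ((TensorProduct.rid k A).toLinearMap ∘ₗ (α ∘ₗ LinearMap.mulRight k c ∘ₗ antipode k).lTensor A).lTensor V
            (TensorProduct.assoc k V A A (ρ.rTensor A z)) := by
        intro z
        induction z using TensorProduct.induction_on with
        | zero => simp
        | tmul a q =>
          simp only [H8Comod.contr_tmul, map_smul, LinearMap.rTensor_tmul]
          generalize ρ a = y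
          induction y using TensorProduct.induction_on with
          | zero => simp
          | tmul s t => simp
          | add s t hs ht => simp only [map_add, smul_add, add_tmul, hs, ht]
        | add a b ha hb => simp only [map_add, ha, hb]
      rw [k1, hco, ← LinearMap.lTensor_comp_apply]
      have e2 : ∀ y : V ⊗[k] A, (((TensorProduct.rid k A).toLinearMap ∘ₗ (α ∘ₗ LinearMap.mulRight k c ∘ₗ antipode k).lTensor A) ∘ₗ
          CoalgebraStruct.comul (R := k)).lTensor V y =
          ∑ i ∈ (Coalgebra.Repr.arbitrary k c).index, H8Comod.contr V (α ∘ₗ LinearMap.mulRight k ((Coalgebra.Repr.arbitrary k c).left i) ∘ₗ antipode k) y ⊗ₜ[k] (Coalgebra.Repr.arbitrary k c).right i := by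
        intro y
        induction y using TensorProduct.induction_on with
        | zero => simp
        | tmul s b =>
          simp only [LinearMap.lTensor_tmul, LinearMap.comp_apply, LinearEquiv.coe_coe, H8Comod.contr_tmul, twisted α hα c b]
          rw [← (Coalgebra.Repr.arbitrary k c).eq]
          simp [tmul_sum, smul_tmul', mul_comm]
        | add s t hs ht => simp only [map_add, add_tmul, Finset.sum_add_distrib, hs, ht]
      rw [e2]
      conv_rhs => rw [← (Coalgebra.Repr.arbitrary k c).eq]
      simp [tmul_sum, hH]
    | add a b ha hb => simp only [map_add, ha, hb]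
  let q : V →ₗ[k] V := H ∘ₗ P.rTensor A ∘ₗ ρ
  have hq : Hoch.IsComodHom A q := by
    refine LinearMap.ext fun v => ?_
    simp only [LinearMap.comp_apply, q]
    show ρ (H (P.rTensor A (ρ v))) = _
    rw [hHeq]
    have hco := LinearMap.congr_fun (HopfRep.Comod.coassoc (k := k) (A := A) (V := V)) v
    simp only [LinearMap.comp_apply, LinearEquiv.coe_coe] at hco
    rw [← LinearMap.comp_apply ((CoalgebraStruct.comul (R := k) (A := A)).lTensor V) (P.rTensor A),
      LinearMap.lTensor_comp_rTensor, ← LinearMap.rTensor_comp_lTensor, LinearMap.comp_apply, ← hco]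
    show _ = (H ∘ₗ P.rTensor A ∘ₗ ρ).rTensor A (ρ v)
    generalize ρ v = z
    induction z using TensorProduct.induction_on with
    | zero => simp
    | tmul a b =>
      simp only [LinearMap.rTensor_tmul, LinearMap.comp_apply]
      generalize ρ a = y
      induction y using TensorProduct.induction_on with
      | zero => simp
      | tmul s t => simp
      | add s t hs ht => simp only [map_add, add_tmul, hs, ht]
    | add a b ha hb => simp only [map_add, ha, hb]
  have hqW : ∀ v, q v ∈ W := by
    intro v
    simp only [q, LinearMap.comp_apply]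
    generalize ρ v = z
    induction z using TensorProduct.induction_on with
    | zero => simp
    | tmul a b =>
      rw [LinearMap.rTensor_tmul, hH]
      exact (H8Comod.mem_range_rTensor_iff W _).mp (hW _ (p a).2) _
    | add a b ha hb => simp only [map_add]; exact add_mem ha hb
  have hqid : ∀ v ∈ W, q v = v := by
    intro v hv
    obtain ⟨z, hz⟩ := hW v hv
    have hP : P.rTensor A (ρ v) = ρ v := by
      show P.rTensor A (HopfRep.Comod.coact (k := k) (A := A) v) = HopfRep.Comod.coact (k := k) (A := A) v
      rw [← hz, ← LinearMap.rTensor_comp_apply]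
      congr 2
      rw [LinearMap.comp_assoc, hp, LinearMap.comp_id]
    simp only [q, LinearMap.comp_apply, hP]
    have k2 : ∀ z : V ⊗[k] A, H z = H8Comod.contr V α ((LinearMap.mul' k A ∘ₗ (antipode k).rTensor A).lTensor V
        (TensorProduct.assoc k V A A (ρ.rTensor A z))) := by
      intro z
      induction z using TensorProduct.induction_on with
      | zero => simp
      | tmul a b =>
        rw [hH, LinearMap.rTensor_tmul]
        show H8Comod.contr V _ (ρ a) = _
        generalize ρ a = y
        induction y using TensorProduct.induction_on with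
        | zero => simp
        | tmul s t => simp
        | add s t hs ht => simp only [map_add, add_tmul, hs, ht]
      | add a b ha hb => simp only [map_add, ha, hb]
    have hco := LinearMap.congr_fun (HopfRep.Comod.coassoc (k := k) (A := A) (V := V)) v
    simp only [LinearMap.comp_apply, LinearEquiv.coe_coe] at hco
    rw [k2, hco, ← LinearMap.lTensor_comp_apply]
    have e : (LinearMap.mul' k A ∘ₗ (antipode k).rTensor A) ∘ₗ CoalgebraStruct.comul (R := k) =
        Algebra.linearMap k A ∘ₗ CoalgebraStruct.counit := by
      refine LinearMap.ext fun a => ?_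
      simp [mul_antipode_rTensor_comul_apply]
    rw [e, H8Comod.contr, LinearMap.comp_apply, ← LinearMap.lTensor_comp_apply]
    have e' : α ∘ₗ Algebra.linearMap k A ∘ₗ CoalgebraStruct.counit = CoalgebraStruct.counit (R := k) (A := A) := by
      refine LinearMap.ext fun a => ?_
      simp [Algebra.algebraMap_eq_smul_one, h1]
    rw [e']
    have hcu := LinearMap.congr_fun (HopfRep.Comod.counit_comp (k := k) (A := A) (V := V)) v
    simp only [LinearMap.comp_apply, LinearMap.flip_apply, TensorProduct.mk_apply] at hcu
    show TensorProduct.rid k V _ = v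
    rw [hcu, TensorProduct.rid_tmul, one_smul]
  refine ⟨LinearMap.ker q, H8Comod.isSubcomod_ker hq, ?_, ?_⟩
  · rw [Submodule.disjoint_def]
    intro x hx hx'
    rw [← hqid x hx]; exact hx'
  · rw [codisjoint_iff, Submodule.eq_top_iff']
    intro x
    rw [← add_sub_cancel (q x) x]
    exact Submodule.add_mem_sup (hqW x) (by simp [LinearMap.mem_ker, hqid (q x) (hqW x)])

/-- The normalised trace is an integral. -/
theorem exists_integral [Module.Finite k A] (hn : (Module.finrank k A : k) ≠ 0) :
    ∃ α : A →ₗ[k] k, IsIntegral α ∧ α 1 = 1 := by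
  let c : A →ₐ[k] A ⊗[k] A :=
    (Algebra.TensorProduct.comm k A A).toAlgHom.comp (Bialgebra.comulAlgHom k A)
  let θ : A ⊗[k] A →ₐ[A] A ⊗[k] A := Algebra.TensorProduct.lift Algebra.TensorProduct.includeLeft c (fun _ _ => Commute.all _ _)
  have hθ : ∀ p q : A, θ (p ⊗ₜ q) = (p ⊗ₜ 1) * c q := fun p q => by simp [θ]
  have hsurj : Function.Surjective θ := by
    intro z
    induction z using TensorProduct.induction_on with
    | zero => exact ⟨0, map_zero _⟩
    | tmul p q =>
      refine ⟨(p ⊗ₜ 1) * TensorProduct.map (antipode k) LinearMap.id (TensorProduct.comm k A A (CoalgebraStruct.comul (R := k) q)), ?_⟩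
      rw [map_mul, hθ, map_one, mul_one]
      have key : ∀ w : A ⊗[k] A, θ (TensorProduct.map (antipode k) LinearMap.id (TensorProduct.comm k A A w)) =
          TensorProduct.comm k A A ((LinearMap.mul' k A ∘ₗ (antipode k).lTensor A).lTensor A
            (TensorProduct.assoc k A A A ((CoalgebraStruct.comul (R := k) (A := A)).rTensor A w))) := by
        intro w
        induction w using TensorProduct.induction_on with
        | zero => simp
        | tmul x y =>
          simp only [TensorProduct.comm_tmul, TensorProduct.map_tmul, LinearMap.id_apply, hθ, LinearMap.rTensor_tmul]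
          show _ * (TensorProduct.comm k A A (CoalgebraStruct.comul (R := k) x)) = _
          generalize CoalgebraStruct.comul (R := k) x = u
          induction u using TensorProduct.induction_on with
          | zero => simp
          | tmul s t => simp [mul_comm]
          | add s t hs ht => simp only [map_add, mul_add, add_tmul, hs, ht]
        | add x y hx hy => simp only [map_add, hx, hy]
      rw [key, Coalgebra.coassoc_apply, ← LinearMap.lTensor_comp_apply]
      have e : (LinearMap.mul' k A ∘ₗ (antipode k).lTensor A) ∘ₗ CoalgebraStruct.comul (R := k) =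
          Algebra.linearMap k A ∘ₗ CoalgebraStruct.counit := by
        refine LinearMap.ext fun a => ?_
        simp [mul_antipode_lTensor_comul_apply]
      rw [e, LinearMap.lTensor_comp_apply, Coalgebra.lTensor_counit_comul]
      simp
    | add x y hx hy =>
      obtain ⟨a, rfl⟩ := hx; obtain ⟨b, rfl⟩ := hy
      exact ⟨a + b, map_add _ _ _⟩
  let e : (A ⊗[k] A) ≃ₐ[A] A ⊗[k] A :=
    AlgEquiv.ofBijective θ ⟨OrzechProperty.injective_of_surjective_endomorphism θ.toLinearMap hsurj, hsurj⟩
  have htr : ∀ p q : A, Algebra.trace A (A ⊗[k] A) (p ⊗ₜ q) = Algebra.trace k A q • p := by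
    intro p q
    have h0 : (p ⊗ₜ[k] q : A ⊗[k] A) = p • ((1 : A) ⊗ₜ[k] q) := by rw [TensorProduct.smul_tmul', smul_eq_mul, mul_one]
    rw [h0, map_smul, Algebra.trace_apply, Algebra.trace_apply]
    have : Algebra.lmul A (A ⊗[k] A) ((1 : A) ⊗ₜ[k] q) = (Algebra.lmul k A q).baseChange A := by
      ext x; simp
    rw [this, LinearMap.trace_baseChange, smul_eq_mul, Algebra.smul_def, mul_comm]
  refine ⟨(Module.finrank k A : k)⁻¹ • Algebra.trace k A, fun a => ?_, ?_⟩
  · have h2 := Algebra.trace_eq_of_algEquiv e ((1 : A) ⊗ₜ[k] a)
    change Algebra.trace A (A ⊗[k] A) (θ ((1 : A) ⊗ₜ[k] a)) = _ at h2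
    rw [hθ, ← Algebra.TensorProduct.one_def, one_mul, htr] at h2
    have h3 : ∀ z : A ⊗[k] A, Algebra.trace A (A ⊗[k] A) (TensorProduct.comm k A A z) =
        TensorProduct.lid k A ((Algebra.trace k A).rTensor A z) := by
      intro z
      induction z using TensorProduct.induction_on with
      | zero => simp
      | tmul x y => simp [htr]
      | add x y hx hy => simp only [map_add, hx, hy]
    change Algebra.trace A (A ⊗[k] A) (TensorProduct.comm k A A (CoalgebraStruct.comul (R := k) a)) = _ at h2
    rw [h3] at h2
    rw [LinearMap.rTensor_smul, LinearMap.smul_apply, map_smul, h2, LinearMap.smul_apply, smul_eq_mul, mul_smul]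
  · rw [LinearMap.smul_apply, ← map_one (algebraMap k A), Algebra.trace_algebraMap, nsmul_one, smul_eq_mul, inv_mul_cancel₀ hn]

end Groth.Agent.H8Integral
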