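import Mathlib
import Groth.Agent.Lib.H8Cosemisimple
import Groth.Agent.Lib.H8Integral

/-! Linearly reductive groups, integrals, and diagonalizable groups in comodule form. -/

universe u v w

open TensorProduct

namespace Groth.Agent.H8Reductive

open H8Comod

section Coalgebra

variable {k : Type u} [Field k] {C : Type v} [AddCommGroup C] [Module k C] [Coalgebra k C]
variable {V : Type w} [AddCommGroup V] [Module k V] [HopfRep.Comod k C V]

theorem groupLike_of_coact {v : V} (hv : v ≠ 0) {g : C}
    (h : HopfRep.Comod.coact (k := k) (A := C) v = v ⊗ₜ g) : IsGroupLikeElem k g := by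
  obtain ⟨φ, hφ⟩ := Module.Projective.exists_dual_ne_zero k hv
  constructor
  · have h1 := LinearMap.congr_fun (HopfRep.Comod.counit_comp (k := k) (A := C) (V := V)) v
    simp only [LinearMap.comp_apply, h, LinearMap.lTensor_tmul, LinearMap.flip_apply, TensorProduct.mk_apply] at h1
    have h2 := congrArg (fun z => φ (TensorProduct.rid k V z)) h1
    simp only [TensorProduct.rid_tmul, map_smul, smul_eq_mul, one_mul] at h2
    exact mul_right_cancel₀ hφ (h2.trans (one_mul _).symm)
  · have h1 := LinearMap.congr_fun (HopfRep.Comod.coassoc (k := k) (A := C) (V := V)) v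
    simp only [LinearMap.comp_apply, LinearEquiv.coe_coe, h, LinearMap.lTensor_tmul, LinearMap.rTensor_tmul,
      TensorProduct.assoc_tmul] at h1
    have h2 := congrArg (fun z => TensorProduct.lid k (C ⊗[k] C) (φ.rTensor (C ⊗[k] C) z)) h1
    simp only [LinearMap.rTensor_tmul, TensorProduct.lid_tmul] at h2
    exact (smul_right_injective _ hφ h2).symm

theorem exists_coact_of_line {v : V} (hv : v ≠ 0)
    (h : HopfRep.IsSubcomod (k := k) (A := C) (Submodule.span k {v})) :
    ∃ g, IsGroupLikeElem k g ∧ HopfRep.Comod.coact (k := k) (A := C) v = v ⊗ₜ g := by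
  obtain ⟨z, hz⟩ := h v (Submodule.mem_span_singleton_self v)
  obtain ⟨g, hg⟩ : ∃ g, (Submodule.span k {v}).subtype.rTensor C z = v ⊗ₜ g := by
    clear hz
    induction z using TensorProduct.induction_on with
    | zero => exact ⟨0, by simp⟩
    | tmul a c =>
      obtain ⟨t, ht⟩ := Submodule.mem_span_singleton.mp a.2
      refine ⟨t • c, ?_⟩
      rw [LinearMap.rTensor_tmul, Submodule.subtype_apply, ← ht, TensorProduct.smul_tmul]
    | add a b ha hb =>
      obtain ⟨g, hg⟩ := ha; obtain ⟨g', hg'⟩ := hb
      exact ⟨g + g', by rw [map_add, hg, hg', tmul_add]⟩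
  exact ⟨g, groupLike_of_coact hv (hz.symm.trans hg), hz.symm.trans hg⟩

/-- When the group-like elements span, every comodule is spanned by eigenvectors. -/
theorem span_eigen_of_diagonalizable (hd : Submodule.span k {a : C | IsGroupLikeElem k a} = ⊤) :
    Submodule.span k {v : V | ∃ a, HopfRep.Comod.coact (k := k) (A := C) v = v ⊗ₜ[k] a} = ⊤ := by
  classical
  let b : Module.Basis {a : C | IsGroupLikeElem k a} k C :=
    Module.Basis.mk (linearIndepOn_isGroupLikeElem (R := k) (A := C)).linearIndependent
      (by simpa using hd.ge)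
  have hb : ∀ i, b i = (i : C) := fun i => by simp [b]
  rw [Submodule.eq_top_iff']
  intro v
  obtain ⟨y, hy⟩ := TensorProduct.eq_repr_basis_right b (HopfRep.Comod.coact (k := k) (A := C) v)
  have hv : v = y.sum fun _ m => m := by
    have h1 := LinearMap.congr_fun (HopfRep.Comod.counit_comp (k := k) (A := C) (V := V)) v
    simp only [LinearMap.comp_apply, ← hy, LinearMap.flip_apply, TensorProduct.mk_apply] at h1
    have h2 := congrArg (TensorProduct.rid k V) h1
    simp only [map_finsuppSum, LinearMap.lTensor_tmul, TensorProduct.rid_tmul, one_smul] at h2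
    rw [← h2]
    refine Finsupp.sum_congr fun i _ => ?_
    rw [hb, (i.2 : IsGroupLikeElem k (i : C)).counit_eq_one, one_smul]
  have hco : ∀ i, HopfRep.Comod.coact (k := k) (A := C) (y i) = y i ⊗ₜ (i : C) := by
    intro i
    have h1 := LinearMap.congr_fun (HopfRep.Comod.coassoc (k := k) (A := C) (V := V)) v
    simp only [LinearMap.comp_apply, LinearEquiv.coe_coe, ← hy] at h1
    have h2 := congrArg (TensorProduct.assoc k V C C).symm h1
    rw [LinearEquiv.symm_apply_apply] at h2
    let y1 : {a : C | IsGroupLikeElem k a} →₀ (V ⊗[k] C) :=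
      y.mapRange (HopfRep.Comod.coact (k := k) (A := C)) (map_zero _)
    let y2 : {a : C | IsGroupLikeElem k a} →₀ (V ⊗[k] C) :=
      Finsupp.onFinset y.support (fun i => y i ⊗ₜ (i : C)) fun i hi => Finsupp.mem_support_iff.mpr fun h0 => hi (by simp [h0])
    have e1 : (y1.sum fun i m => m ⊗ₜ[k] b i) =
        (HopfRep.Comod.coact (k := k) (A := C)).rTensor C (y.sum fun i m => m ⊗ₜ[k] b i) := by
      rw [Finsupp.sum_mapRange_index (by simp), map_finsuppSum]
      rfl
    have e2 : (y2.sum fun i m => m ⊗ₜ[k] b i) =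
        (TensorProduct.assoc k V C C).symm
          ((CoalgebraStruct.comul (R := k) (A := C)).lTensor V (y.sum fun i m => m ⊗ₜ[k] b i)) := by
      rw [map_finsuppSum, map_finsuppSum, Finsupp.onFinset_sum _ (by simp)]
      refine Finset.sum_congr rfl fun i _ => ?_
      simp only [LinearMap.lTensor_tmul]
      rw [hb, (i.2 : IsGroupLikeElem k (i : C)).comul_eq_tmul_self,
        TensorProduct.assoc_symm_tmul]
    have h3 : y1 = y2 := TensorProduct.sum_tmul_basis_right_injective b (e1.trans (h2.trans e2.symm))
    exact DFunLike.congr_fun h3 i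
  rw [hv]
  exact Submodule.sum_mem _ fun i _ => Submodule.subset_span ⟨(i : C), hco i⟩

end Coalgebra

section Bialgebra

variable {k : Type u} [Field k] {A : Type v} [CommRing A] [Bialgebra k A]

theorem semisimple_of_lr (hG : HopfRep.IsLinearlyReductive k A)
    (V : Type v) [AddCommGroup V] [Module k V] [HopfRep.Comod k A V] : HopfRep.IsSemisimpleComod k A V := by
  letI := dualModule (k := k) (C := A) V
  rw [← isSemisimple_iff]
  choose F hF hvF hFs using fun v : V => exists_finite_mem (k := k) (C := A) v
  choose N hN using fun v => exists_ofK (hFs v)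
  refine isSemisimpleModule_of_isSemisimpleModule_submodule' (p := N) (fun v => ?_) ?_
  · letI := subComod (F v) (hFs v)
    letI := dualModule (k := k) (C := A) (F v)
    haveI := isSemisimple_iff.mpr (hG (F v) (hF v))
    let L : F v →ₗ[DualAlg k A] V :=
      { toFun := fun x => x
        map_add' := fun _ _ => rfl
        map_smul' := fun f x => isComodHom_iff.mp (subComod_subtype (F v) (hFs v)) f x }
    have hr : LinearMap.range L = N v := by
      ext x
      rw [← mem_toK (k := k) (C := A) (N := N v), hN v]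
      exact ⟨fun ⟨y, hy⟩ => hy ▸ y.2, fun hx => ⟨⟨x, hx⟩, rfl⟩⟩
    rw [← hr]
    exact IsSemisimpleModule.range L
  · rw [Submodule.eq_top_iff']
    intro v
    exact Submodule.mem_iSup_of_mem v (mem_toK.mp (hN v ▸ hvF v))

end Bialgebra

section Hopf

variable {k : Type u} [Field k] {A : Type v} [CommRing A] [HopfAlgebra k A]

theorem exists_integral_of_lr (hG : HopfRep.IsLinearlyReductive k A) :
    ∃ α : A →ₗ[k] k, H8Integral.IsIntegral α ∧ α 1 = 1 := by
  have hsub : HopfRep.IsSubcomod (k := k) (A := A) (Submodule.span k {(1 : A)}) := by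
    intro x hx
    obtain ⟨t, rfl⟩ := Submodule.mem_span_singleton.mp hx
    refine ⟨⟨t • 1, hx⟩ ⊗ₜ 1, ?_⟩
    show (t • (1 : A)) ⊗ₜ[k] (1 : A) = CoalgebraStruct.comul (R := k) (t • (1 : A))
    rw [map_smul, Bialgebra.comul_one, Algebra.TensorProduct.one_def, TensorProduct.smul_tmul']
  obtain ⟨W, hW, hc⟩ := semisimple_of_lr hG A _ hsub
  have h1 : (1 : A) ≠ 0 := fun h => by simpa [h] using Bialgebra.counit_one (R := k) (A := A)
  let π : A →ₗ[k] k := (LinearEquiv.toSpanNonzeroSingleton k A 1 h1).symm.toLinearMap ∘ₗ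
    Submodule.projectionOnto _ _ hc
  have hπ1 : π 1 = 1 := by
    simp only [π, LinearMap.comp_apply, LinearEquiv.coe_coe]
    rw [Submodule.projectionOnto_apply_left hc ⟨1, Submodule.mem_span_singleton_self 1⟩, LinearEquiv.symm_apply_eq]
    exact Subtype.ext (by simp)
  have hπW : ∀ w ∈ W, π w = 0 := fun w hw => by
    simp [π, (Submodule.projectionOnto_apply_eq_zero_iff hc).mpr hw]
  refine ⟨π, fun a => ?_, hπ1⟩
  obtain ⟨x, hx, w, hw, rfl⟩ := Submodule.mem_sup.mp (hc.2.eq_top ▸ Submodule.mem_top : a ∈ _ ⊔ _)
  obtain ⟨t, rfl⟩ := Submodule.mem_span_singleton.mp hx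
  obtain ⟨z, hz⟩ := hW w hw
  have hw0 : TensorProduct.lid k A (π.rTensor A (CoalgebraStruct.comul (R := k) w)) = 0 := by
    rw [show CoalgebraStruct.comul (R := k) w = W.subtype.rTensor A z from hz.symm, ← LinearMap.rTensor_comp_apply,
      show π ∘ₗ W.subtype = 0 from LinearMap.ext fun y => hπW y y.2]
    simp
  simp only [map_add, map_smul, hw0, hπW w hw, hπ1, Bialgebra.comul_one, Algebra.TensorProduct.one_def,
    LinearMap.rTensor_tmul, TensorProduct.lid_tmul, one_smul, add_zero, smul_eq_mul, mul_one]

theorem lr_iff_integral :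
    HopfRep.IsLinearlyReductive k A ↔ ∃ α : A →ₗ[k] k, H8Integral.IsIntegral α ∧ α 1 = 1 :=
  ⟨exists_integral_of_lr, fun ⟨α, hα, h1⟩ V _ _ _ _ => H8Integral.semisimple_of_integral α hα h1 V⟩

/-- The coefficient of the unit character is an integral of a diagonalizable group. -/
theorem exists_integral_of_diagonalizable (hd : HopfRep.IsDiagonalizable k A) :
    ∃ α : A →ₗ[k] k, H8Integral.IsIntegral α ∧ α 1 = 1 := by
  classical
  let b : Module.Basis {a : A | IsGroupLikeElem k a} k A :=
    Module.Basis.mk (linearIndepOn_isGroupLikeElem (R := k) (A := A)).linearIndependent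
      (by simpa [HopfRep.IsDiagonalizable] using hd.ge)
  have hb : ∀ i, b i = (i : A) := fun i => by simp [b]
  let e : {a : A | IsGroupLikeElem k a} := ⟨1, ⟨Bialgebra.counit_one, Bialgebra.comul_one⟩⟩
  have key : ∀ j, b.coord e (b j) = if j = e then 1 else 0 := fun j => by simp [Finsupp.single_apply]
  refine ⟨b.coord e, ?_, ?_⟩
  · intro a
    have : (TensorProduct.lid k A).toLinearMap ∘ₗ (b.coord e).rTensor A ∘ₗ CoalgebraStruct.comul (R := k) =
        (b.coord e).smulRight (1 : A) := by
      refine b.ext fun i => ?_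
      simp only [LinearMap.comp_apply, LinearEquiv.coe_coe, LinearMap.smulRight_apply]
      rw [hb i, (i.2 : IsGroupLikeElem k (i : A)).comul_eq_tmul_self, LinearMap.rTensor_tmul, TensorProduct.lid_tmul,
        ← hb i, key]
      split_ifs with h
      · subst h; simp [hb, e]
      · simp
    exact LinearMap.congr_fun this a
  · rw [show (1 : A) = b e from (hb e).symm, key, if_pos rfl]

theorem diagonalizable_of_lr_cocomm [IsAlgClosed k] [Coalgebra.IsCocomm k A]
    (hG : HopfRep.IsLinearlyReductive k A) : HopfRep.IsDiagonalizable k A := by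
  have hA := semisimple_of_lr hG A
  have htop := sSup_simple_eq_top hA
  rw [HopfRep.IsDiagonalizable, ← top_le_iff, ← htop]
  refine iSup_le fun U => ?_
  obtain ⟨U, hU, h0, hs⟩ := U
  letI := subComod U hU
  have hsimple := isSimple_subComod U hU h0 hs
  haveI := hsimple.1
  have hcomm : ∀ f g : DualAlg k A, f * g = g * f := mul_comm
  have hscal : ∀ f : DualAlg k A, ∃ a : k, act U f = a • LinearMap.id := fun f =>
    exists_smul_of_simple hsimple (act U f) (isComodHom_iff.mpr fun g v => by
      rw [← Module.End.mul_apply, ← act_mul, hcomm, act_mul, Module.End.mul_apply])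
  intro x hx
  by_cases hx0 : x = 0
  · subst hx0; exact zero_mem _
  let xx : U := ⟨x, hx⟩
  have hline : HopfRep.IsSubcomod (k := k) (A := A) (Submodule.span k {xx}) :=
    isSubcomod_iff.mpr fun f u hu => by
      obtain ⟨a, ha⟩ := hscal f
      rw [ha]
      exact Submodule.smul_mem _ a hu
  obtain ⟨g, hg, hρ⟩ := exists_coact_of_line (C := A) (fun h => hx0 (congrArg Subtype.val h)) hline
  have h1 : CoalgebraStruct.comul (R := k) x = x ⊗ₜ g := by
    have := LinearMap.congr_fun (subComod_subtype U hU) xx
    simp only [LinearMap.comp_apply, hρ, LinearMap.rTensor_tmul] at this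
    exact this
  have h2 := congrArg (fun z => TensorProduct.lid k A ((CoalgebraStruct.counit (R := k) (A := A)).rTensor A z)) h1
  simp only [Coalgebra.rTensor_counit_comul, LinearMap.rTensor_tmul, TensorProduct.lid_tmul, one_smul] at h2
  rw [h2]
  exact Submodule.smul_mem _ _ (Submodule.subset_span hg)

end Hopf

end Groth.Agent.H8Reductive
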