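import Mathlib
import Groth.Agent.Lib.H8Reductive

/-! The fixed-vector criterion for linear reductivity, and Reynolds operators of integrals. -/

universe u v w w'

open TensorProduct

namespace Groth.Agent.H8Criterion

open H8Comod HopfAlgebra

variable {k : Type u} [Field k] {A : Type v} [CommRing A] [HopfAlgebra k A]

/-- Every surjection of a finite comodule onto the trivial one is nonzero on some fixed vector. -/
def Crit (k : Type u) [Field k] (A : Type v) [CommRing A] [HopfAlgebra k A] : Prop :=
  ∀ (V : Type v) [AddCommGroup V] [Module k V] [HopfRep.Comod k A V], Module.Finite k V →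
    ∀ π : V →ₗ[k] k, Function.Surjective π →
      LinearMap.rTensor A π ∘ₗ HopfRep.Comod.coact (k := k) (A := A) (V := V) =
        (TensorProduct.mk k k A).flip (1 : A) ∘ₗ π →
      ∃ v ∈ HopfRep.fixedPts k A V, π v ≠ 0

/-- Right invariance of a functional on a subspace. -/
def RightInvOn (D : Submodule k A) (ψ : A →ₗ[k] k) : Prop :=
  ∀ x ∈ D, contr A ψ (CoalgebraStruct.comul (R := k) x) = ψ x • (1 : A)

theorem coeff_eq_zero {M : Type w} [AddCommGroup M] [Module k M] {ι : Type w'} [Fintype ι] [DecidableEq ι]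
    (w : ι → A) (φ : ι → A →ₗ[k] k) (hφ : ∀ i j, φ i (w j) = if j = i then 1 else 0) (m m' : ι → M)
    (h : ∑ i, m i ⊗ₜ[k] w i = ∑ i, m' i ⊗ₜ[k] w i) : m = m' := by
  funext i
  have := congrArg (contr M (φ i)) h
  simpa [hφ] using this

theorem exists_rightInvOn (hc : Crit k A) (D : Submodule k A) [Module.Finite k D] (h1 : (1 : A) ∈ D)
    (hD : ∀ b ∈ D, CoalgebraStruct.comul (R := k) b ∈ LinearMap.range (TensorProduct.map D.subtype D.subtype)) :
    ∃ ψ : A →ₗ[k] k, RightInvOn D ψ ∧ ψ 1 = 1 := by
  classical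
  let b := Module.finBasis k D
  let w : Fin (Module.finrank k D) → A := fun i => (b i : A)
  choose φ hφ using fun i => LinearMap.exists_extend (b.coord i)
  have hφw : ∀ i j, φ i (w j) = if j = i then 1 else 0 := fun i j => by
    have := LinearMap.congr_fun (hφ i) (b j)
    simp only [LinearMap.comp_apply, Submodule.subtype_apply] at this
    simp [w, this, Finsupp.single_apply]
  let c : Fin (Module.finrank k D) → Fin (Module.finrank k D) → A :=
    fun j i => contr A (φ i) (CoalgebraStruct.comul (R := k) (w j))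
  have hexpD : ∀ x ∈ D, x = ∑ i, φ i x • w i := fun x hx => by
    have h := (congrArg Subtype.val (b.sum_repr ⟨x, hx⟩)).symm
    simp only [Submodule.coe_sum, Submodule.coe_smul] at h
    have e : ∀ i, φ i x = b.repr ⟨x, hx⟩ i := fun i => LinearMap.congr_fun (hφ i) ⟨x, hx⟩
    simp only [e]; exact h
  have hexp : ∀ j, CoalgebraStruct.comul (R := k) (w j) = ∑ i, c j i ⊗ₜ[k] w i := by
    intro j
    obtain ⟨z, hz⟩ := hD _ (b j).2
    simp only [c, w, ← hz]
    clear hz
    induction z using TensorProduct.induction_on with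
    | zero => simp
    | tmul p q =>
      simp only [TensorProduct.map_tmul, Submodule.subtype_apply, contr_tmul]
      conv_lhs => rw [hexpD q q.2, tmul_sum]
      simp [smul_tmul, w]
    | add p q hp hq => simp only [map_add, add_tmul, Finset.sum_add_distrib, ← hp, ← hq]
  have hcounit : ∀ j i, CoalgebraStruct.counit (R := k) (c j i) = if j = i then 1 else 0 := by
    intro j i
    have h := congrArg (fun z => φ i (TensorProduct.lid k A z)) (Coalgebra.rTensor_counit_comul (R := k) (w j))
    simp only [hexp j, map_sum, LinearMap.rTensor_tmul, TensorProduct.lid_tmul, map_smul, hφw, one_smul,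
      smul_eq_mul, mul_ite, mul_one, mul_zero, Finset.sum_ite_eq', Finset.mem_univ, if_true] at h
    exact h
  have hcomul : ∀ j l, CoalgebraStruct.comul (R := k) (c j l) = ∑ i, c j i ⊗ₜ[k] c i l := by
    intro j
    refine congrFun (coeff_eq_zero (M := A ⊗[k] A) w φ hφw (fun l => CoalgebraStruct.comul (R := k) (c j l))
      (fun l => ∑ i, c j i ⊗ₜ[k] c i l) ?_)
    have h := Coalgebra.coassoc_symm_apply (R := k) (w j)
    simp only [hexp, map_sum, LinearMap.lTensor_tmul, LinearMap.rTensor_tmul, tmul_sum,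
      TensorProduct.assoc_symm_tmul] at h
    simp only [sum_tmul]
    rw [← h, Finset.sum_comm]
  -- the dual comodule
  let ρ : D →ₗ[k] D ⊗[k] A := b.constr k fun l => ∑ j, b j ⊗ₜ[k] c j l
  have hρ : ∀ l, ρ (b l) = ∑ j, b j ⊗ₜ[k] c j l := fun l => b.constr_basis k _ l
  letI : HopfRep.Comod k A D :=
    { coact := ρ
      coassoc := by
        refine b.ext fun l => ?_
        simp only [LinearMap.comp_apply, LinearEquiv.coe_coe, hρ, map_sum, LinearMap.rTensor_tmul,
          LinearMap.lTensor_tmul, hcomul, sum_tmul, tmul_sum, TensorProduct.assoc_tmul]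
        rw [Finset.sum_comm]
      counit_comp := by
        refine b.ext fun l => ?_
        simp [hρ, hcounit, TensorProduct.tmul_ite] }
  let e : Fin (Module.finrank k D) → k := fun j => φ j 1
  have hone : (1 : A) = ∑ j, e j • w j := hexpD 1 h1
  have heq : ∀ l, ∑ j, e j • c j l = e l • (1 : A) := by
    refine congrFun (coeff_eq_zero (M := A) w φ hφw (fun l => ∑ j, e j • c j l) (fun l => e l • (1 : A)) ?_)
    have h : CoalgebraStruct.comul (R := k) (1 : A) = (1 : A) ⊗ₜ (1 : A) := Bialgebra.comul_one
    conv_lhs at h => rw [hone]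
    conv_rhs at h => arg 3; rw [hone]
    simp only [map_sum, map_smul, hexp, Finset.smul_sum, tmul_sum] at h
    rw [Finset.sum_comm] at h
    simp only [sum_tmul, smul_tmul'] at h ⊢
    rw [h]
    simp [smul_tmul]
  let π : D →ₗ[k] k := b.constr k e
  have hπb : ∀ l, π (b l) = e l := fun l => b.constr_basis k _ l
  have h10 : (1 : A) ≠ 0 := fun h => by simpa [h] using Bialgebra.counit_one (R := k) (A := A)
  have hsurj : Function.Surjective π := by
    obtain ⟨l, hl⟩ : ∃ l, e l ≠ 0 := by
      by_contra hcon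
      push Not at hcon
      exact h10 (by rw [hone]; simp [hcon])
    exact fun t => ⟨(t / e l) • b l, by rw [map_smul, hπb, smul_eq_mul, div_mul_cancel₀ _ hl]⟩
  obtain ⟨v, hv, hπv⟩ := hc D inferInstance π hsurj (by
    refine b.ext fun l => ?_
    change π.rTensor A (ρ (b l)) = π (b l) ⊗ₜ[k] (1 : A)
    rw [hρ, map_sum, hπb]
    simp only [LinearMap.rTensor_tmul, hπb]
    apply (TensorProduct.lid k A).injective
    simpa using heq l)
  let t : Fin (Module.finrank k D) → k := fun l => b.repr v l
  have ht : ∀ j, ∑ l, t l • c j l = t j • (1 : A) := by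
    intro j
    have hv' : ρ v = v ⊗ₜ[k] (1 : A) := hv
    have h := congrArg (fun z => TensorProduct.lid k A ((b.coord j).rTensor A z)) hv'
    rw [← b.sum_repr v] at h
    simp only [map_sum, map_smul, hρ, LinearMap.rTensor_tmul, sum_tmul, TensorProduct.lid_tmul, Module.Basis.coord_apply,
      Module.Basis.repr_self, Finsupp.single_apply, ite_smul, one_smul, zero_smul, smul_ite, smul_zero,
      Finset.sum_ite_eq', Finset.mem_univ, if_true, smul_assoc] at h
    exact h
  obtain ⟨ψ, hψ⟩ := LinearMap.exists_extend (b.constr k t)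
  have hψw : ∀ j, ψ (w j) = t j := fun j => (LinearMap.congr_fun hψ (b j)).trans (b.constr_basis k _ j)
  have hψ1 : ψ 1 ≠ 0 := by
    have : ψ 1 = π v := by
      rw [hone]
      simp only [map_sum, map_smul, hψw, smul_eq_mul]
      rw [show π v = ∑ i, b.equivFun v i • e i from b.constr_apply_fintype k e v]
      simp [t, mul_comm]
    rwa [this]
  refine ⟨(ψ 1)⁻¹ • ψ, fun x hx => ?_, by simp [hψ1]⟩
  have key : contr A ψ (CoalgebraStruct.comul (R := k) x) = ψ x • (1 : A) := by
    rw [hexpD x hx]
    simp only [map_sum, map_smul, hexp, contr_tmul, hψw, ht, smul_eq_mul, Finset.sum_smul, mul_smul]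
  have hs : ∀ z, contr A ((ψ 1)⁻¹ • ψ) z = (ψ 1)⁻¹ • contr A ψ z := fun z => by
    simp [contr, LinearMap.lTensor_smul]
  rw [hs, key, LinearMap.smul_apply, smul_assoc]

theorem exists_leftInv_of_rightInv {ψ : A →ₗ[k] k} {x : A}
    (h : contr A ψ (CoalgebraStruct.comul (R := k) (antipode k x)) = ψ (antipode k x) • (1 : A)) :
    TensorProduct.lid k A ((ψ ∘ₗ antipode k).rTensor A (CoalgebraStruct.comul (R := k) x)) =
      (ψ ∘ₗ antipode k) x • (1 : A) := by
  rw [H8Hopf.comul_antipode] at h
  apply (show Function.Injective (antipode k : A →ₗ[k] A) from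
    Function.LeftInverse.injective (g := antipode k) H8Hopf.antipode_antipode)
  rw [map_smul, antipode_one]
  refine Eq.trans ?_ h
  generalize CoalgebraStruct.comul (R := k) x = z
  induction z using TensorProduct.induction_on with
  | zero => simp
  | tmul p q => simp
  | add p q hp hq => simp only [map_add, hp, hq]

theorem unique_rightInvOn (hc : Crit k A) (D : Submodule k A) [Module.Finite k D] (δ : A →ₗ[k] k)
    (hδ : RightInvOn D δ) (h1 : δ 1 = 0) : ∀ x ∈ D, δ x = 0 := by
  classical
  obtain ⟨s, hs⟩ := Module.Finite.fg_top (R := k) (M := D)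
  obtain ⟨D', hD'f, hsD', hD'⟩ := H8Coalg.exists_finite_subcoalgebra (k := k) (A := A)
    (insert (1 : A) (s.image fun d : D => antipode k (d : A)))
  haveI := hD'f
  obtain ⟨ψ, hψ, hψ1⟩ := exists_rightInvOn hc D' (hsD' (by simp)) hD'
  intro x hx
  have hxs : antipode k x ∈ D' := by
    have hle : Submodule.span k (s : Set D) ≤ (D'.comap (antipode k)).comap D.subtype :=
      Submodule.span_le.mpr fun d hd => hsD' (by simp only [Finset.coe_insert, Finset.coe_image]; exact Or.inr ⟨d, hd, rfl⟩)
    exact hle (hs.symm ▸ Submodule.mem_top : (⟨x, hx⟩ : D) ∈ _)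
  have h := exists_leftInv_of_rightInv (hψ _ hxs)
  have key : ∀ z : A ⊗[k] A, (ψ ∘ₗ antipode k) (contr A δ z) =
      δ (TensorProduct.lid k A ((ψ ∘ₗ antipode k).rTensor A z)) := by
    intro z
    induction z using TensorProduct.induction_on with
    | zero => simp
    | tmul p q => simp [mul_comm]
    | add p q hp hq => simp only [map_add, hp, hq]
  have h2 := key (CoalgebraStruct.comul (R := k) x)
  rw [hδ x hx, h, map_smul, map_smul, h1, smul_zero] at h2
  simpa [antipode_one, hψ1] using h2

theorem exists_integral_of_crit (hc : Crit k A) : ∃ α : A →ₗ[k] k, H8Integral.IsIntegral α ∧ α 1 = 1 := by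
  classical
  have hex : ∀ s : Finset A, ∃ (D : Submodule k A) (ψ : A →ₗ[k] k), Module.Finite k D ∧ (1 : A) ∈ D ∧
      (↑s : Set A) ⊆ D ∧ RightInvOn D ψ ∧ ψ 1 = 1 := by
    intro s
    obtain ⟨D, hDf, hsD, hD⟩ := H8Coalg.exists_finite_subcoalgebra (k := k) (A := A) (insert 1 s)
    haveI := hDf
    obtain ⟨ψ, hψ, hψ1⟩ := exists_rightInvOn hc D (hsD (by simp)) hD
    exact ⟨D, ψ, hDf, hsD (by simp), fun x hx => hsD (by simp [Finset.mem_coe.mp hx]), hψ, hψ1⟩
  choose D ψ hDf hD1 hsD hψ hψ1 using hex
  have huniq : ∀ s t, ∀ x ∈ D s, x ∈ D t → ψ s x = ψ t x := by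
    intro s t x hx hx'
    haveI := hDf s
    have hsub := unique_rightInvOn hc (D s ⊓ D t) (ψ s - ψ t) (fun y hy => ?_) (by simp [hψ1]) x ⟨hx, hx'⟩
    · rwa [LinearMap.sub_apply, sub_eq_zero] at hsub
    · have e : ∀ z, contr A (ψ s - ψ t) z = contr A (ψ s) z - contr A (ψ t) z := fun z => by
        simp [contr, LinearMap.lTensor_sub]
      rw [e, hψ s y hy.1, hψ t y hy.2, LinearMap.sub_apply, sub_smul]
  let f : A → k := fun a => ψ {a} a
  have hf : ∀ s a, a ∈ D s → ψ s a = f a := fun s a ha => huniq s {a} a ha (hsD {a} (by simp))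
  let α : A →ₗ[k] k :=
    { toFun := f
      map_add' := fun a b => by
        let s : Finset A := {a, b, a + b}
        rw [← hf s a (hsD s (by simp [s])), ← hf s b (hsD s (by simp [s])), ← hf s (a + b) (hsD s (by simp [s])), map_add]
      map_smul' := fun t a => by
        let s : Finset A := {a, t • a}
        rw [← hf s a (hsD s (by simp [s])), ← hf s (t • a) (hsD s (by simp [s])), map_smul, RingHom.id_apply] }
  have hα1 : α 1 = 1 := by
    show f 1 = 1
    rw [← hf {1} 1 (hD1 _), hψ1]
  have hαr : ∀ a, contr A α (CoalgebraStruct.comul (R := k) a) = α a • (1 : A) := by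
    intro a
    obtain ⟨S, hS⟩ := TensorProduct.exists_finset (CoalgebraStruct.comul (R := k) a)
    let s : Finset A := insert a (S.image Prod.snd)
    have h := hψ s a (hsD s (by simp [s]))
    rw [hf s a (hsD s (by simp [s]))] at h
    show _ = f a • (1 : A)
    rw [← h, hS, map_sum, map_sum]
    refine Finset.sum_congr rfl fun p hp => ?_
    simp only [contr_tmul]
    rw [hf s p.2 (hsD s (by simp only [s, Finset.coe_insert, Finset.coe_image]; exact Or.inr ⟨p, hp, rfl⟩))]
    rfl
  exact ⟨α ∘ₗ antipode k, fun a => exists_leftInv_of_rightInv (hαr _), by simp [antipode_one, hα1]⟩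

variable {V : Type w} [AddCommGroup V] [Module k V] [HopfRep.Comod k A V]

/-- Averaging by an integral gives fixed vectors. -/
theorem act_fixed {α : A →ₗ[k] k} (hα : H8Integral.IsIntegral α) (v : V) :
    act V (WithConv.toConv (α ∘ₗ antipode k)) v ∈ HopfRep.fixedPts k A V := by
  have hβ : ∀ b, contr A (α ∘ₗ antipode k) (CoalgebraStruct.comul (R := k) b) = (α ∘ₗ antipode k) b • (1 : A) := by
    intro b
    have h := H8Integral.twisted α hα 1 b
    rw [show LinearMap.mulRight k (1 : A) = LinearMap.id from LinearMap.ext fun z => by simp, LinearMap.id_comp,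
      Bialgebra.comul_one, Algebra.TensorProduct.one_def, LinearMap.rTensor_tmul, TensorProduct.lid_tmul] at h
    simpa [contr] using h
  show HopfRep.Comod.coact (k := k) (A := A) _ = _ ⊗ₜ[k] (1 : A)
  simp only [act_apply, WithConv.ofConv_toConv]
  have hc := LinearMap.congr_fun (HopfRep.Comod.coassoc (k := k) (A := A) (V := V)) v
  simp only [LinearMap.comp_apply, LinearEquiv.coe_coe] at hc
  have k1 : ∀ (β : A →ₗ[k] k) (z : V ⊗[k] A), HopfRep.Comod.coact (k := k) (A := A) (contr V β z) =
      (contr A β).lTensor V (TensorProduct.assoc k V A A ((HopfRep.Comod.coact (k := k) (A := A)).rTensor A z)) := by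
    intro β z
    induction z using TensorProduct.induction_on with
    | zero => simp
    | tmul a q =>
      simp only [contr_tmul, map_smul, LinearMap.rTensor_tmul]
      generalize HopfRep.Comod.coact (k := k) (A := A) a = y
      induction y using TensorProduct.induction_on with
      | zero => simp
      | tmul p r => simp
      | add p r hp hr => simp only [map_add, add_tmul, smul_add, hp, hr]
    | add p q hp hq => simp only [map_add, hp, hq]
  rw [k1, hc, ← LinearMap.lTensor_comp_apply]
  generalize HopfRep.Comod.coact (k := k) (A := A) v = z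
  induction z using TensorProduct.induction_on with
  | zero => simp
  | tmul p r => rw [LinearMap.lTensor_tmul, LinearMap.comp_apply, hβ, contr_tmul, TensorProduct.smul_tmul]
  | add p q hp hq => simp only [map_add, add_tmul, hp, hq]

theorem act_fixed_eq (β : A →ₗ[k] k) (h1 : β 1 = 1) {v : V} (hv : v ∈ HopfRep.fixedPts k A V) :
    act V (WithConv.toConv β) v = v := by
  rw [act_apply, show HopfRep.Comod.coact (k := k) (A := A) v = v ⊗ₜ (1 : A) from hv, contr_tmul,
    WithConv.ofConv_toConv, h1, one_smul]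

theorem fixed_surjective {W : Type w'} [AddCommGroup W] [Module k W] [HopfRep.Comod k A W]
    {α : A →ₗ[k] k} (hα : H8Integral.IsIntegral α) (h1 : α 1 = 1) {φ : V →ₗ[k] W} (hφ : Hoch.IsComodHom A φ)
    (hs : Function.Surjective φ) {w : W} (hw : w ∈ HopfRep.fixedPts k A W) :
    ∃ v ∈ HopfRep.fixedPts k A V, φ v = w := by
  obtain ⟨v₀, rfl⟩ := hs w
  refine ⟨_, act_fixed hα v₀, ?_⟩
  rw [isComodHom_iff.mp hφ, act_fixed_eq _ (by simp [antipode_one, h1]) hw]

theorem crit_of_lr (hG : HopfRep.IsLinearlyReductive k A) : Crit k A := by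
  obtain ⟨α, hα, h1⟩ := H8Reductive.exists_integral_of_lr hG
  intro V _ _ _ _ π hπ hπe
  letI := HopfRep.Comod.trivial k A k
  obtain ⟨v, hv, hv1⟩ := fixed_surjective hα h1 (φ := π) hπe.symm hπ (w := (1 : k)) rfl
  exact ⟨v, hv, by simp [hv1]⟩

theorem lr_iff_crit : HopfRep.IsLinearlyReductive k A ↔ Crit k A :=
  ⟨crit_of_lr, fun h => H8Reductive.lr_iff_integral.mpr (exists_integral_of_crit h)⟩

end Groth.Agent.H8Criterion
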