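import Mathlib
import Groth.Prelude.Def_Red
import Groth.Agent.Lib.H8Deligne

/-!
# Deligne's theorem for group schemes
-/

set_option autoImplicit false

universe u

open CategoryTheory Limits AlgebraicGeometry MonoidalCategory CartesianMonoidalCategory MonObj
open TensorProduct

namespace Groth.Agent.H8DeligneScheme

set_option backward.isDefEq.respectTransparency false in
/-- A Hopf algebra whose group scheme is commutative is cocommutative. -/
theorem isCocomm_of_comm (R A : Type u) [CommRing R] [CommRing A] [HopfAlgebra R A]
    (h : ∀ (T : Over (Spec (CommRingCat.of R)))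
      (a b : T ⟶ (Spec (CommRingCat.of A)).asOver (Spec (CommRingCat.of R))), a * b = b * a) :
    Coalgebra.IsCocomm R A := by
  let L : WithConv (A →ₐ[R] A ⊗[R] A) := WithConv.toConv Algebra.TensorProduct.includeLeft
  let M : WithConv (A →ₐ[R] A ⊗[R] A) := WithConv.toConv Algebra.TensorProduct.includeRight
  have hLM : L * M = M * L :=
    (Spec.mapMulEquiv (R := R) (S := A) (T := A ⊗[R] A)).injective
      (by rw [map_mul, map_mul]; exact h _ _ _)
  have e1 : ∀ z : A ⊗[R] A, Algebra.TensorProduct.lmul' R
      (Algebra.TensorProduct.map L.ofConv M.ofConv z) = z := by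
    intro z
    induction z using TensorProduct.induction_on with
    | zero => simp
    | tmul p q => simp [L, M]
    | add p q hp hq => simp only [map_add, hp, hq]
  have e2 : ∀ z : A ⊗[R] A, Algebra.TensorProduct.lmul' R
      (Algebra.TensorProduct.map M.ofConv L.ofConv z) = TensorProduct.comm R A A z := by
    intro z
    induction z using TensorProduct.induction_on with
    | zero => simp
    | tmul p q => simp [L, M]
    | add p q hp hq => simp only [map_add, hp, hq]
  constructor
  refine LinearMap.ext fun a => ?_
  have h2 := AlgHom.congr_fun (congrArg WithConv.ofConv hLM) a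
  change Algebra.TensorProduct.lmul' R (Algebra.TensorProduct.map L.ofConv M.ofConv
      (CoalgebraStruct.comul (R := R) a)) = Algebra.TensorProduct.lmul' R
      (Algebra.TensorProduct.map M.ofConv L.ofConv (CoalgebraStruct.comul (R := R) a)) at h2
  rw [e1, e2] at h2
  exact h2.symm

set_option backward.isDefEq.respectTransparency false in
/-- Deligne's theorem over an affine base. -/
theorem pow_eq_one_affine (R : CommRingCat.{u}) (G : Over (Spec R)) [GrpObj G] [IsCommMonObj G]
    [IsFinite G.hom] [Flat G.hom] [LocallyOfFinitePresentation G.hom]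
    (r : ℕ) (hr : ∀ s, G.hom.finrank s = r) : (𝟙 G : G ⟶ G) ^ r = 1 := by
  have : IsAffine G.left := isAffine_of_isAffineHom G.hom
  obtain ⟨A', ⟨e⟩⟩ : (hopfSpec R).essImage (Grp.mk G) := essImage_hopfSpec.mpr this
  let A := A'.unop
  let Y : Over (Spec R) := (Spec (CommRingCat.of A)).asOver (Spec (CommRingCat.of R))
  let i : Y ⟶ G := e.hom.hom.hom
  let j : G ⟶ Y := e.inv.hom.hom
  have hij : i ≫ j = 𝟙 Y := congrArg (fun m => m.hom.hom) e.hom_inv_id
  have hji : j ≫ i = 𝟙 G := congrArg (fun m => m.hom.hom) e.inv_hom_id
  have hmul : ∀ {T : Over (Spec R)} (a b : T ⟶ Y), (a * b) ≫ i = (a ≫ i) * (b ≫ i) := by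
    intro T a b
    haveI : IsMonHom i := inferInstanceAs (IsMonHom e.hom.hom.hom)
    exact MonObj.mul_comp a b i
  have hcomm : Coalgebra.IsCocomm R A := isCocomm_of_comm R A fun T a b => by
    have h : (a * b) ≫ i = (b * a) ≫ i := by rw [hmul, hmul, mul_comm]
    have := congrArg (· ≫ j) h
    rw [Category.assoc, Category.assoc, hij] at this
    exact (Category.comp_id _).symm.trans (this.trans (Category.comp_id _))
  have hY : Y.hom = i.left ≫ G.hom := (Over.w i).symm
  have : IsIso i.left := ⟨j.left, congrArg Over.Hom.left hij, congrArg Over.Hom.left hji⟩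
  have hfin : IsFinite Y.hom := by rw [hY]; infer_instance
  have hflat : Flat Y.hom := by rw [hY]; infer_instance
  have hlfp : LocallyOfFinitePresentation Y.hom := by rw [hY]; infer_instance
  have hYs : Y.hom = Spec.map (CommRingCat.ofHom (algebraMap R A)) := rfl
  rw [hYs] at hfin hflat hlfp
  have : Module.Finite R A := RingHom.finite_algebraMap.mp ((IsFinite.SpecMap_iff _).mp hfin)
  have : Module.Flat R A := RingHom.flat_algebraMap_iff.mp (Flat.SpecMap_iff.mp hflat)
  have : Algebra.FinitePresentation R A := RingHom.finitePresentation_algebraMap.mp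
    ((LocallyOfFinitePresentation.SpecMap_iff _).mp hlfp)
  have := Module.FinitePresentation.of_finite_of_finitePresentation (R := R) (S := A)
  have : Module.Projective R A := Module.Flat.projective_of_finitePresentation
  have hn : ∀ p : PrimeSpectrum R, Module.rankAtStalk A p = r := fun p => by
    rw [← hr p, ← Scheme.Hom.finrank_SpecMap_algebraMap R A p, ← hYs, hY,
      Scheme.Hom.finrank_comp_left_of_isIso]
  have h1 := congrArg (Spec.mapMulEquiv (R := R) (S := A) (T := A))
    (H8Deligne.pow_eq_one (R := R) (A := A) r hn)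
  rw [map_pow, map_one] at h1
  have hid : Spec.mapMulEquiv (R := R) (S := A) (T := A) (WithConv.toConv (AlgHom.id R A)) = 𝟙 Y := by
    ext1
    exact Spec.map_id _
  rw [hid] at h1
  let conj : (Y ⟶ Y) →* (G ⟶ G) :=
    { toFun := fun f => j ≫ f ≫ i
      map_one' := by
        haveI : IsMonHom i := inferInstanceAs (IsMonHom e.hom.hom.hom)
        rw [MonObj.one_comp, MonObj.comp_one]
      map_mul' := fun a b => by rw [hmul, MonObj.comp_mul] }
  have h2 : conj (𝟙 Y) = 𝟙 G := by show j ≫ 𝟙 Y ≫ i = 𝟙 G; rw [Category.id_comp, hji]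
  rw [← h2, ← map_pow]
  exact (congrArg conj h1).trans conj.map_one

set_option backward.isDefEq.respectTransparency false in
/-- Deligne's theorem. -/
theorem pow_eq_one {S : Scheme.{u}} (G : Over S) [GrpObj G] [IsCommMonObj G]
    [IsFinite G.hom] [Flat G.hom] [LocallyOfFinitePresentation G.hom]
    (r : ℕ) (hr : ∀ s, G.hom.finrank s = r) {T : Over S} (g : T ⟶ G) : g ^ r = 1 := by
  have key : (𝟙 G : G ⟶ G) ^ r = 1 := by
    apply Over.OverMorphism.ext
    refine Scheme.Cover.hom_ext (S.affineCover.pullback₁ G.hom) _ _ fun i => ?_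
    let s := S.affineCover.f i
    let Gi := Red.bc s G
    have : IsFinite Gi.hom := inferInstanceAs (IsFinite (pullback.snd G.hom s))
    have : Flat Gi.hom := inferInstanceAs (Flat (pullback.snd G.hom s))
    have : LocallyOfFinitePresentation Gi.hom :=
      inferInstanceAs (LocallyOfFinitePresentation (pullback.snd G.hom s))
    have : IsCommMonObj Gi := inferInstance
    have h := pow_eq_one_affine _ Gi r fun x => by
      show (pullback.snd G.hom s).finrank x = r
      rw [Scheme.Hom.finrank_pullback_snd, hr]
    let F : (G ⟶ G) →* (Gi ⟶ Gi) :=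
      { toFun := fun f => (Over.pullback s).map f
        map_one' := Functor.map_one _
        map_mul' := fun a b => Functor.map_mul _ a b }
    have h' : F ((𝟙 G) ^ r) = F 1 := by
      rw [map_pow, map_one]
      show ((Over.pullback s).map (𝟙 G)) ^ r = 1
      rw [CategoryTheory.Functor.map_id]
      exact h
    have h'' := congrArg (fun f => f.left ≫ pullback.fst G.hom s) h'
    exact (pullback.lift_fst _ _ _).symm.trans (h''.trans (pullback.lift_fst _ _ _))
  let post : (G ⟶ G) →* (T ⟶ G) :=
    { toFun := fun f => g ≫ f
      map_one' := MonObj.comp_one g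
      map_mul' := fun a b => MonObj.comp_mul g a b }
  have h := congrArg post key
  rw [map_pow, map_one] at h
  show g ^ r = 1
  rwa [show post (𝟙 G) = g from Category.comp_id g] at h

end Groth.Agent.H8DeligneScheme
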