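import Mathlib

/-!
# Free actions of diagonalisable groups on affine schemes: the coaction generates
-/

set_option autoImplicit false
set_option linter.all false

universe u

open MonoidAlgebra

namespace Groth.Agent.H8DiagFreeCore

variable {R : Type u} [CommRing R] {M : Type} [CommGroup M] {B : Type u} [CommRing B] [Algebra R B]

set_option maxHeartbeats 1000000 in
/-- For a free action, the coaction and the constants generate the group algebra. -/
theorem adjoin_eq_top
    (α : ∀ (C : Type u) [CommRing C] [Algebra R C], (M →* C) → (B →ₐ[R] C) → (B →ₐ[R] C))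
    (nat : ∀ (C D : Type u) [CommRing C] [Algebra R C] [CommRing D] [Algebra R D] (f : C →ₐ[R] D) (χ : M →* C)
      (y : B →ₐ[R] C), f.comp (α C χ y) = α D ((f : C →* D).comp χ) (f.comp y))
    (one : ∀ (C : Type u) [CommRing C] [Algebra R C] (y : B →ₐ[R] C), α C 1 y = y)
    (mul : ∀ (C : Type u) [CommRing C] [Algebra R C] (χ χ' : M →* C) (y : B →ₐ[R] C),
      α C (χ * χ') y = α C χ (α C χ' y))
    (free : ∀ (C : Type u) [CommRing C] [Algebra R C] (χ : M →* C) (y : B →ₐ[R] C), α C χ y = y → χ = 1) :
    Algebra.adjoin R (Set.range (singleOneAlgHom : B →ₐ[R] MonoidAlgebra B M) ∪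
      Set.range (α (MonoidAlgebra B M) (of B M) singleOneAlgHom)) = ⊤ := by
  classical
  let x₀ : B →ₐ[R] MonoidAlgebra B M := singleOneAlgHom
  let ρ : B →ₐ[R] MonoidAlgebra B M := α _ (of B M) x₀
  let ev : ∀ (C : Type u) [CommRing C] [Algebra R C], (M →* C) → (B →ₐ[R] C) → (MonoidAlgebra B M →ₐ[R] C) :=
    fun C _ _ χ y => liftNCAlgHom y χ fun _ _ => Commute.all _ _
  have hev : ∀ (C : Type u) [CommRing C] [Algebra R C] (χ : M →* C) (y : B →ₐ[R] C),
      α C χ y = (ev C χ y).comp ρ := by
    intro C _ _ χ y
    rw [nat]
    congr 1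
    · ext m
      simp [ev, liftNCAlgHom, liftNCRingHom]
    · refine AlgHom.ext fun b => ?_
      simp [ev, x₀, liftNCAlgHom, liftNCRingHom, singleOneAlgHom]
  have evs : ∀ (C : Type u) [CommRing C] [Algebra R C] (χ : M →* C) (y : B →ₐ[R] C) (m : M) (b : B),
      ev C χ y (single m b) = y b * χ m := by
    intro C _ _ χ y m b
    simp [ev, liftNCAlgHom, liftNCRingHom]
  let p : M → B → B := fun m b => (ρ b).coeff m
  -- the components are homogeneous
  have hom : ∀ m b, ρ (p m b) = single m (p m b) := by
    intro m b
    refine MonoidAlgebra.coeff_injective (Finsupp.ext fun n => ?_)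
    let χ1 : M →* MonoidAlgebra B (M × M) := (of B (M × M)).comp (MonoidHom.inl M M)
    let χ2 : M →* MonoidAlgebra B (M × M) := (of B (M × M)).comp (MonoidHom.inr M M)
    let z : B →ₐ[R] MonoidAlgebra B (M × M) := singleOneAlgHom
    have h := DFunLike.congr_fun (mul _ χ1 χ2 z) b
    have h12 : χ1 * χ2 = (of B (M × M)).comp ((MonoidHom.id M).prod (MonoidHom.id M)) := by
      ext n; simp [χ1, χ2, single_mul_single]
    rw [h12, hev, hev _ χ1, hev _ χ2, AlgHom.comp_apply, AlgHom.comp_apply] at h
    have h' := congrArg (fun w : MonoidAlgebra B (M × M) => w.coeff (m, n)) h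
    have L : ∀ w : MonoidAlgebra B M,
        (ev _ ((of B (M × M)).comp ((MonoidHom.id M).prod (MonoidHom.id M))) z w).coeff (m, n) =
          if m = n then w.coeff m else 0 := fun w => by
      induction w using MonoidAlgebra.induction_linear with
      | zero => simp
      | add f g hf hg =>
        simp only [map_add, coeff_add, Finsupp.add_apply, hf, hg]
        split <;> simp
      | single q c =>
        rw [evs]
        simp [z, singleOneAlgHom, single_mul_single, Finsupp.single_apply]
        by_cases h1 : q = m <;> by_cases h2 : m = n <;> simp_all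
    have Rr : ∀ w : MonoidAlgebra B M,
        (ev _ χ1 ((ev _ χ2 z).comp ρ) w).coeff (m, n) = p n (w.coeff m) := fun w => by
      induction w using MonoidAlgebra.induction_linear with
      | zero => simp [p]
      | add f g hf hg => simp [map_add, hf, hg, p]
      | single q c =>
        rw [evs, AlgHom.comp_apply]
        have key : ∀ v : MonoidAlgebra B M, (ev _ χ2 z v * χ1 q).coeff (m, n) = if q = m then v.coeff n else 0 := fun v => by
          induction v using MonoidAlgebra.induction_linear with
          | zero => simp
          | add f g hf hg => simp only [map_add, add_mul, coeff_add, Finsupp.add_apply, hf, hg]; split <;> simp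
          | single r d =>
            rw [evs]
            show ((single (1 : M × M) d * single ((1 : M), r) 1) * single (q, (1 : M)) 1).coeff (m, n) = _
            rw [single_mul_single, single_mul_single, mul_one, mul_one, one_mul, Prod.mk_mul_mk, one_mul, mul_one,
              coeff_single, coeff_single, Finsupp.single_apply, Finsupp.single_apply]
            by_cases hq : q = m <;> simp [hq]
        rw [key]
        by_cases hq : q = m <;> simp [p, Finsupp.single_apply, hq]
    simp only [L, Rr] at h'
    rw [coeff_single, Finsupp.single_apply]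
    exact h'.symm
  -- the coaction of a product with a homogeneous element
  have pmul : ∀ a m (e b : B), p m (p a e * b) = p a e * p (a⁻¹ * m) b := by
    intro a m e b
    show (ρ (p a e * b)).coeff m = _
    rw [map_mul, hom]
    refine coeff_single_mul_eq_mul_coeff _ fun q _ => ?_
    rw [eq_inv_mul_iff_mul_eq]
  have hsum : ∀ b, b = ∑ m ∈ (ρ b).coeff.support, p m b := by
    intro b
    have h := DFunLike.congr_fun (one B (AlgHom.id R B)) b
    rw [hev, AlgHom.comp_apply] at h
    have hw : ∀ w : MonoidAlgebra B M, ev B 1 (AlgHom.id R B) w = w.coeff.sum fun _ c => c := fun w => by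
      induction w using MonoidAlgebra.induction_linear with
      | zero => simp
      | add f g hf hg => rw [map_add, hf, hg, coeff_add, Finsupp.sum_add_index'] <;> simp
      | single q c => rw [evs, coeff_single]; simp
    rw [hw] at h
    exact h.symm
  have padd : ∀ m a b, p m (a + b) = p m a + p m b := fun m a b => by simp [p, map_add]
  -- the ideals of the homogeneous parts are the unit ideal
  have htop : ∀ m, Ideal.span (Set.range (p m)) = ⊤ := by
    intro m₀
    by_contra hne
    obtain ⟨P, hP, hle⟩ := Ideal.exists_le_maximal _ hne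
    haveI := hP.isPrime
    let N : Subgroup M :=
      { carrier := {m | ∃ b c, p m b * p m⁻¹ c ∉ P}
        one_mem' := by
          refine ⟨1, 1, ?_⟩
          have h1 : p 1 1 = 1 := by simp [p, MonoidAlgebra.one_def]
          rw [inv_one, h1, mul_one]
          exact fun h => hP.ne_top ((Ideal.eq_top_iff_one _).mpr h)
        mul_mem' := by
          rintro a a' ⟨b, c, h⟩ ⟨b', c', h'⟩
          refine ⟨p a b * p a' b', p a⁻¹ c * p a'⁻¹ c', ?_⟩
          have e1 : ∀ x y u v, p (x * y) (p x u * p y v) = p x u * p y v := fun x y u v => by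
            rw [pmul, inv_mul_cancel_left]
            congr 1
            show (ρ (p y v)).coeff y = p y v
            rw [hom]; simp
          rw [e1, mul_inv, e1]
          intro hh
          rcases (‹P.IsPrime›).mem_or_mem (show (p a b * p a⁻¹ c) * (p a' b' * p a'⁻¹ c') ∈ P by
            convert hh using 1; ring) with hh | hh
          exacts [h hh, h' hh]
        inv_mem' := by
          rintro a ⟨b, c, h⟩
          exact ⟨c, b, by rwa [inv_inv, mul_comm]⟩ }
    let Q : Ideal B :=
      { carrier := {b | ∀ m c, p m b * p m⁻¹ c ∈ P}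
        add_mem' := fun {a b} ha hb m c => by rw [padd, add_mul]; exact add_mem (ha m c) (hb m c)
        zero_mem' := fun m c => by simp [p]
        smul_mem' := fun e b hb m c => by
          have hh : p m (e * b) = ∑ a ∈ (ρ e).coeff.support, p m (p a e * b) := by
            conv_lhs => rw [hsum e, Finset.sum_mul]
            simp [p, map_sum]
          rw [smul_eq_mul, hh, Finset.sum_mul]
          refine sum_mem fun a _ => ?_
          rw [pmul]
          have h3 : p (a⁻¹ * m)⁻¹ (p a e * p m⁻¹ c) = p a e * p m⁻¹ c := by
            rw [pmul, mul_inv_rev, inv_inv, mul_comm m⁻¹ a, inv_mul_cancel_left]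
            congr 1
            show (ρ (p m⁻¹ c)).coeff m⁻¹ = p m⁻¹ c
            rw [hom]; simp
          have := hb (a⁻¹ * m) (p a e * p m⁻¹ c)
          rw [h3] at this
          convert this using 1
          ring }
    have hQ1 : (1 : B) ∉ Q := fun h => by
      have := h 1 1
      simp [p, MonoidAlgebra.one_def] at this
      exact hP.ne_top ((Ideal.eq_top_iff_one _).mpr this)
    haveI : Nontrivial (B ⧸ Q) := Ideal.Quotient.nontrivial_iff.mpr fun h => hQ1 (h ▸ trivial)
    have hQ : ∀ m ∉ N, ∀ b, p m b ∈ Q := by
      intro m hm b n c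
      by_cases hn : m = n
      · subst hn
        show p m (p m b) * _ ∈ P
        rw [show p m (p m b) = p m b by show (ρ (p m b)).coeff m = _; rw [hom]; simp]
        by_contra h
        exact hm ⟨b, c, h⟩
      · rw [show p n (p m b) = 0 by show (ρ (p m b)).coeff n = _; rw [hom]; simp [Finsupp.single_apply, hn]]
        simp
    let y : B →ₐ[R] MonoidAlgebra (B ⧸ Q) (M ⧸ N) := (singleOneAlgHom).comp (Ideal.Quotient.mkₐ R Q)
    let χ : M →* MonoidAlgebra (B ⧸ Q) (M ⧸ N) := (of (B ⧸ Q) (M ⧸ N)).comp (QuotientGroup.mk' N)
    have hfix : α _ χ y = y := by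
      refine AlgHom.ext fun b => ?_
      rw [hev, AlgHom.comp_apply]
      have hw : ρ b = ∑ m ∈ (ρ b).coeff.support, single m (p m b) := by
        conv_lhs => rw [hsum b, map_sum]
        exact Finset.sum_congr rfl fun m _ => hom m b
      conv_rhs => rw [hsum b, map_sum]
      conv_lhs => rw [hw, map_sum]
      refine Finset.sum_congr rfl fun m _ => ?_
      rw [evs]
      by_cases hm : m ∈ N
      · have : QuotientGroup.mk' N m = 1 := (QuotientGroup.eq_one_iff m).mpr hm
        show y _ * of _ _ (QuotientGroup.mk' N m) = _
        rw [this, map_one, mul_one]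
      · have : y (p m b) = 0 := by
          show (singleOneAlgHom : B ⧸ Q →ₐ[R] MonoidAlgebra (B ⧸ Q) (M ⧸ N)) (Ideal.Quotient.mk Q (p m b)) = 0
          rw [(Ideal.Quotient.eq_zero_iff_mem).mpr (hQ m hm b), map_zero]
        rw [this, zero_mul]
    have hN : ∀ m, m ∈ N := fun m => by
      have h := DFunLike.congr_fun (free _ χ y hfix) m
      refine (QuotientGroup.eq_one_iff m).mp ?_
      simp [χ, MonoidAlgebra.one_def] at h
      exact MonoidAlgebra.single_left_injective one_ne_zero h
    obtain ⟨b, c, h⟩ := hN m₀
    exact h (Ideal.mul_mem_right _ _ (hle (Ideal.subset_span ⟨b, rfl⟩)))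
  rw [eq_top_iff]
  rintro w -
  let S := Algebra.adjoin R (Set.range x₀ ∪ Set.range ρ)
  show w ∈ S
  have hs1 : ∀ b, single 1 b ∈ S := fun b => Algebra.subset_adjoin (Or.inl ⟨b, rfl⟩)
  induction w using MonoidAlgebra.induction_linear with
  | zero => exact zero_mem _
  | add f g hf hg => exact add_mem hf hg
  | single m c =>
    refine Submodule.span_induction (p := fun c _ => single m c ∈ S) ?_ (by simp)
      (fun a b _ _ ha hb => by rw [single_add]; exact add_mem ha hb)
      (fun d a _ ha => by rw [smul_eq_mul, show single m (d * a) = single 1 d * single m a by simp]; exact mul_mem (hs1 d) ha)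
      ((htop m).symm ▸ Submodule.mem_top : c ∈ Ideal.span (Set.range (p m)))
    rintro _ ⟨b, rfl⟩
    rw [← hom]
    exact Algebra.subset_adjoin (Or.inr ⟨_, rfl⟩)

end Groth.Agent.H8DiagFreeCore
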