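import Mathlib
import Groth.Agent.Lib.H8DiagRigid
import Groth.Agent.Lib.H8DiagFreeCore
import Groth.Agent.Lib.FpqcDescent

/-!
# Free actions of diagonalisable groups on affine schemes: the graph is closed
-/

set_option autoImplicit false
set_option linter.all false

universe u

open CategoryTheory Limits AlgebraicGeometry MonoidalCategory CartesianMonoidalCategory MonObj GrpObj TensorProduct

namespace Groth.Agent.H8DiagFree

open H8DiagRigid

section BaseChange

variable {S : Scheme.{u}}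

set_option backward.isDefEq.respectTransparency false in
/-- The comparison of base changes along a composite. -/
noncomputable def comp {Y : Over S} {T T' : Scheme.{u}} (v : T' ⟶ T) (r : T ⟶ S) :
    pullback Y.hom (v ≫ r) ⟶ pullback Y.hom r :=
  pullback.lift (pullback.fst _ _) (pullback.snd _ _ ≫ v) (by rw [pullback.condition, Category.assoc])

set_option backward.isDefEq.respectTransparency false in
lemma isPullback_comp {Y : Over S} {T T' : Scheme.{u}} (v : T' ⟶ T) (r : T ⟶ S) :
    IsPullback (comp (Y := Y) v r) (pullback.snd Y.hom (v ≫ r)) (pullback.snd Y.hom r) v := by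
  refine IsPullback.of_right ?_ (pullback.lift_snd _ _ _) (IsPullback.of_hasPullback Y.hom r)
  rw [comp, pullback.lift_fst]
  exact IsPullback.of_hasPullback Y.hom (v ≫ r)

set_option backward.isDefEq.respectTransparency false in
lemma isPullback_map {Y Z : Over S} (g : Y ⟶ Z) {T : Scheme.{u}} (t : T ⟶ S) :
    IsPullback (pullback.fst Y.hom t) ((Over.pullback t).map g).left g.left (pullback.fst Z.hom t) := by
  refine IsPullback.of_bot ?_ ?_ (IsPullback.of_hasPullback Z.hom t)
  · rw [Over.w]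
    have : ((Over.pullback t).map g).left ≫ pullback.snd Z.hom t = pullback.snd Y.hom t :=
      Over.w ((Over.pullback t).map g)
    rw [this]
    exact IsPullback.of_hasPullback Y.hom t
  · simp

set_option backward.isDefEq.respectTransparency false in
lemma isPullback_map_comp {Y Z : Over S} (g : Y ⟶ Z) {T T' : Scheme.{u}} (v : T' ⟶ T) (r : T ⟶ S) :
    IsPullback (comp (Y := Y) v r) ((Over.pullback (v ≫ r)).map g).left ((Over.pullback r).map g).left (comp (Y := Z) v r) := by
  refine IsPullback.of_right ?_ ?_ (isPullback_map g r)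
  · rw [comp, comp, pullback.lift_fst, pullback.lift_fst]
    exact isPullback_map g (v ≫ r)
  · apply pullback.hom_ext <;> simp [comp]

end BaseChange

section Local

variable {S U : Scheme.{u}} (q : U ⟶ S) (G X : Over S) [GrpObj G] (M : Type) [AddCommGroup M]
  (φ : Grp.mk (Red.bc q G) ≅ Grp.mk (Red.DS U M)) (a : AlgGrp.Action G X) [IsAffineHom X.hom]
  (hfree : ∀ (Y : Over S) (g : Y ⟶ G) (x : Y ⟶ X), lift g x ≫ a.act = x → g = 1)
  {R : Type u} [CommRing R] (w : Spec (CommRingCat.of R) ⟶ U)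

set_option maxHeartbeats 1000000 in
set_option synthInstance.maxHeartbeats 400000 in
set_option backward.isDefEq.respectTransparency false in
include φ hfree in
theorem local_closedImmersion :
    IsClosedImmersion ((Over.pullback (w ≫ q)).map (lift a.act (snd G X))).left := by
  let Φ := lift a.act (snd G X)
  let t := w ≫ q
  let Xt := pullback X.hom t
  haveI : IsAffine Xt := isAffine_of_isAffineHom (pullback.snd X.hom t)
  let B := Γ(Xt, ⊤)
  obtain ⟨sB, hsB⟩ : ∃ sB : CommRingCat.of R ⟶ B, Spec.map sB = Xt.isoSpec.inv ≫ pullback.snd X.hom t := ⟨_, Spec.map_preimage _⟩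
  letI : Algebra R B := sB.hom.toAlgebra
  let tC : ∀ (C : Type u) [CommRing C] [Algebra R C], Spec (CommRingCat.of C) ⟶ U := fun C _ _ =>
    Spec.map (CommRingCat.ofHom (algebraMap R C)) ≫ w
  let T : ∀ (C : Type u) [CommRing C] [Algebra R C], Over S := fun C _ _ => (Over.map q).obj (Over.mk (tC C))
  let st : ∀ (C : Type u) [CommRing C] [Algebra R C], Spec (CommRingCat.of C) ⟶ Spec (CommRingCat.of R) := fun C _ _ =>
    Spec.map (CommRingCat.ofHom (algebraMap R C))
  have hT : ∀ (C : Type u) [CommRing C] [Algebra R C], (T C).hom = st C ≫ t := fun C _ _ => Category.assoc _ _ _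
  have hy : ∀ (C : Type u) [CommRing C] [Algebra R C] (y : B →ₐ[R] C),
      Spec.map (CommRingCat.ofHom y.toRingHom) ≫ Xt.isoSpec.inv ≫ pullback.snd X.hom t = st C := by
    intro C _ _ y
    rw [← hsB, ← Spec.map_comp]
    exact congrArg Spec.map (CommRingCat.hom_ext y.comp_algebraMap)
  let xp : ∀ (C : Type u) [CommRing C] [Algebra R C], (B →ₐ[R] C) → (T C ⟶ X) := fun C _ _ y =>
    Over.homMk (Spec.map (CommRingCat.ofHom y.toRingHom) ≫ Xt.isoSpec.inv ≫ pullback.fst X.hom t) (by
      simp only [Category.assoc, pullback.condition]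
      rw [hT C, ← hy C y]
      simp only [Category.assoc])
  have xp_left : ∀ (C : Type u) [CommRing C] [Algebra R C] (y : B →ₐ[R] C),
      pullback.lift (xp C y).left (st C) ((Over.w (xp C y)).trans (hT C)) = Spec.map (CommRingCat.ofHom y.toRingHom) ≫ Xt.isoSpec.inv := by
    intro C _ _ y
    apply pullback.hom_ext
    · rw [pullback.lift_fst, Category.assoc]; rfl
    · rw [pullback.lift_snd, Category.assoc, hy C y]
  have xp_inj : ∀ (C : Type u) [CommRing C] [Algebra R C] (y y' : B →ₐ[R] C), xp C y = xp C y' → y = y' := by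
    intro C _ _ y y' h
    have h1 : Spec.map (CommRingCat.ofHom y.toRingHom) ≫ Xt.isoSpec.inv = Spec.map (CommRingCat.ofHom y'.toRingHom) ≫ Xt.isoSpec.inv := by
      apply pullback.hom_ext
      · rw [Category.assoc, Category.assoc]; exact congrArg Over.Hom.left h
      · rw [Category.assoc, Category.assoc, hy C y, hy C y']
    rw [cancel_mono] at h1
    exact AlgHom.coe_ringHom_injective (congrArg CommRingCat.Hom.hom (Spec.map_injective h1))
  have xp_surj : ∀ (C : Type u) [CommRing C] [Algebra R C] (x : T C ⟶ X), ∃ y, xp C y = x := by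
    intro C _ _ x
    obtain ⟨z, hz⟩ : ∃ z : B ⟶ CommRingCat.of C, Spec.map z =
        pullback.lift x.left (st C) ((Over.w x).trans (hT C)) ≫ Xt.isoSpec.hom := ⟨_, Spec.map_preimage _⟩
    have hzc : Spec.map (sB ≫ z) = st C := by
      rw [Spec.map_comp, hz, hsB, Category.assoc, Iso.hom_inv_id_assoc, pullback.lift_snd]
    let y : B →ₐ[R] C := { toRingHom := z.hom, commutes' := fun r => DFunLike.congr_fun (congrArg CommRingCat.Hom.hom (Spec.map_injective hzc)) r }
    refine ⟨y, Over.OverMorphism.ext ?_⟩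
    show Spec.map z ≫ Xt.isoSpec.inv ≫ pullback.fst X.hom t = x.left
    rw [hz, Category.assoc, Iso.hom_inv_id_assoc, pullback.lift_fst]
  let sh : ∀ (C D : Type u) [CommRing C] [Algebra R C] [CommRing D] [Algebra R D], (C →ₐ[R] D) → (T D ⟶ T C) :=
    fun C D _ _ _ _ f => Over.homMk (Spec.map (CommRingCat.ofHom f.toRingHom)) (by
      show Spec.map _ ≫ (Spec.map _ ≫ w) ≫ q = (Spec.map _ ≫ w) ≫ q
      rw [← Category.assoc, ← Category.assoc, ← Spec.map_comp]
      simp only [← CommRingCat.ofHom_comp, f.toRingHom_eq_coe, f.comp_algebraMap])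
  have e1 : ∀ (C D : Type u) [CommRing C] [Algebra R C] [CommRing D] [Algebra R D] (f : C →ₐ[R] D) (z : B →ₐ[R] C),
      sh C D f ≫ xp C z = xp D (f.comp z) := fun C D _ _ _ _ f z => Over.OverMorphism.ext (by
    show Spec.map _ ≫ Spec.map _ ≫ _ = Spec.map _ ≫ _
    rw [← Spec.map_comp_assoc]
    rfl)
  have e2 : ∀ (C D : Type u) [CommRing C] [Algebra R C] [CommRing D] [Algebra R D] (f : C →ₐ[R] D) (χ : Multiplicative M →* C),
      sh C D f ≫ pts q G M φ (tC C) χ = pts q G M φ (tC D) ((f : C →* D).comp χ) := fun C D _ _ _ _ f χ =>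
    Over.OverMorphism.ext (pts_nat q G M φ f.toRingHom (tC C) (tC D) (by
      rw [← Category.assoc, ← Spec.map_comp]
      simp only [← CommRingCat.ofHom_comp, f.toRingHom_eq_coe, f.comp_algebraMap]
      rfl) χ)
  have hα : ∀ (C : Type u) [CommRing C] [Algebra R C] (χ : Multiplicative M →* C) (y : B →ₐ[R] C),
      ∃ y', xp C y' = lift (pts q G M φ (tC C) χ) (xp C y) ≫ a.act := fun C _ _ χ y => xp_surj C _
  choose α hα using hα
  have hadj := H8DiagFreeCore.adjoin_eq_top (R := R) (B := B) (fun C _ _ χ y => α C χ y)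
    (fun C D _ _ _ _ f χ y => xp_inj D _ _ (by rw [hα D, ← e1, hα C, ← e1, ← e2, comp_lift_assoc]))
    (fun C _ _ y => xp_inj C _ _ ((hα C 1 y).trans (by
      rw [map_one]
      have h := congrArg (fun m => lift (toUnit (T C)) (xp C y) ≫ m) a.one_act
      simpa [Hom.one_def] using h)))
    (fun C _ _ χ χ' y => xp_inj C _ _ ((hα C _ y).trans (by rw [map_mul, hα C χ, hα C χ', act_mul])))
    (fun C _ _ χ y h => (pts q G M φ (tC C)).injective (by
      rw [map_one]
      exact hfree _ _ (xp C y) ((hα C χ y).symm.trans (congrArg (xp C) h))))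
  let P := pullback (G ⊗ X).hom t
  let Q := pullback (X ⊗ X).hom t
  let mk : ∀ (C : Type u) [CommRing C] [Algebra R C], (Multiplicative M →* C) → (B →ₐ[R] C) → (Spec (CommRingCat.of C) ⟶ P) :=
    fun C _ _ χ y => pullback.lift (lift (pts q G M φ (tC C) χ) (xp C y)).left (st C) ((Over.w _).trans (hT C))
  have mk_nat : ∀ (C D : Type u) [CommRing C] [Algebra R C] [CommRing D] [Algebra R D] (f : C →ₐ[R] D)
      (χ : Multiplicative M →* C) (y : B →ₐ[R] C),
      Spec.map (CommRingCat.ofHom f.toRingHom) ≫ mk C χ y = mk D ((f : C →* D).comp χ) (f.comp y) := by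
    intro C D _ _ _ _ f χ y
    apply pullback.hom_ext
    · rw [Category.assoc, pullback.lift_fst, pullback.lift_fst, ← e1, ← e2, ← comp_lift]
      rfl
    · rw [Category.assoc, pullback.lift_snd, pullback.lift_snd, ← Spec.map_comp]
      exact congrArg Spec.map (CommRingCat.hom_ext f.comp_algebraMap)
  have mk_inj : ∀ (C : Type u) [CommRing C] [Algebra R C] (χ χ' : Multiplicative M →* C) (y y' : B →ₐ[R] C),
      mk C χ y = mk C χ' y' → χ = χ' ∧ y = y' := by
    intro C _ _ χ χ' y y' h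
    have h1 := congrArg (· ≫ pullback.fst _ _) h
    simp only [mk, pullback.lift_fst] at h1
    have h2 : lift (pts q G M φ (tC C) χ) (xp C y) = lift (pts q G M φ (tC C) χ') (xp C y') := Over.OverMorphism.ext h1
    have hg := congrArg (· ≫ fst G X) h2
    have hx := congrArg (· ≫ snd G X) h2
    simp only [lift_fst] at hg
    simp only [lift_snd] at hx
    exact ⟨(pts q G M φ (tC C)).injective hg, xp_inj C _ _ hx⟩
  have mk_surj : ∀ (C : Type u) [CommRing C] [Algebra R C] (l : Spec (CommRingCat.of C) ⟶ P),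
      l ≫ pullback.snd _ _ = st C → ∃ χ y, mk C χ y = l := by
    intro C _ _ l hl
    let z : T C ⟶ G ⊗ X := Over.homMk (l ≫ pullback.fst _ _) (by
      rw [Category.assoc, pullback.condition, reassoc_of% hl, hT C])
    obtain ⟨χ, hχ⟩ := (pts q G M φ (tC C)).surjective (z ≫ fst G X)
    obtain ⟨y, hy'⟩ := xp_surj C (z ≫ snd G X)
    refine ⟨χ, y, ?_⟩
    apply pullback.hom_ext
    · rw [pullback.lift_fst, hχ, hy']
      refine congrArg Over.Hom.left (?_ : lift (z ≫ fst G X) (z ≫ snd G X) = z)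
      ext <;> simp
    · rw [pullback.lift_snd, hl]
  haveI : IsAffineHom (pullback.snd G.hom q) := by
    haveI : IsAffine (Red.diag (ULift.{u} ℤ) M).left := inferInstanceAs (IsAffine (Spec _))
    have h0 : IsAffineHom (Red.diag (ULift.{u} ℤ) M).hom := isAffineHom_of_isAffine _
    have hDS : IsAffineHom (Red.DS U M).hom := MorphismProperty.pullback_snd (P := @IsAffineHom) _ _ h0
    show IsAffineHom (Red.bc q G).hom
    rw [← Over.w (splitIso q G M φ).inv]
    haveI : IsIso (splitIso q G M φ).inv.left := inferInstance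
    exact MorphismProperty.comp_mem _ _ _ inferInstance hDS
  haveI : IsAffine (pullback (pullback.snd G.hom q) w) := isAffine_of_isAffineHom (pullback.snd _ w)
  haveI : IsAffine (pullback G.hom t) := .of_isIso (pullbackLeftPullbackSndIso G.hom q w).inv
  haveI : IsAffineHom (pullback.fst G.hom X.hom) := MorphismProperty.pullback_fst (P := @IsAffineHom) _ _ ‹IsAffineHom X.hom›
  haveI : IsAffine (pullback (pullback.fst G.hom X.hom) (pullback.fst G.hom t)) := isAffine_of_isAffineHom (pullback.snd _ _)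
  haveI : IsAffine P := .of_isIso (pullbackRightPullbackFstIso G.hom t (pullback.fst G.hom X.hom)).inv
  haveI : IsAffineHom (X ⊗ X).hom := MorphismProperty.comp_mem _ _ _
    (MorphismProperty.pullback_fst (P := @IsAffineHom) X.hom X.hom ‹IsAffineHom X.hom›) ‹IsAffineHom X.hom›
  haveI : IsAffine Q := isAffine_of_isAffineHom (pullback.snd (X ⊗ X).hom t)
  -- the universal point
  let x₀ : B →ₐ[R] MonoidAlgebra B (Multiplicative M) := MonoidAlgebra.singleOneAlgHom
  let u₀ := mk (MonoidAlgebra B (Multiplicative M)) (MonoidAlgebra.of B _) x₀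
  let C := Γ(P, ⊤)
  obtain ⟨sC, hsC⟩ : ∃ sC : CommRingCat.of R ⟶ C, Spec.map sC = P.isoSpec.inv ≫ pullback.snd _ _ := ⟨_, Spec.map_preimage _⟩
  letI : Algebra R C := sC.hom.toAlgebra
  obtain ⟨χ, y, hmk⟩ := mk_surj C P.isoSpec.inv hsC.symm
  let h : MonoidAlgebra B (Multiplicative M) →ₐ[R] C := MonoidAlgebra.liftNCAlgHom y χ fun _ _ => Commute.all _ _
  have hu1 : Spec.map (CommRingCat.ofHom h.toRingHom) ≫ u₀ = P.isoSpec.inv := by
    rw [mk_nat, ← hmk]
    congr 1
    · ext m; simp [h, MonoidAlgebra.liftNCAlgHom, MonoidAlgebra.liftNCRingHom]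
    · refine AlgHom.ext fun b => ?_
      simp [h, x₀, MonoidAlgebra.singleOneAlgHom, MonoidAlgebra.liftNCAlgHom, MonoidAlgebra.liftNCRingHom]
  obtain ⟨ψ, hψ⟩ : ∃ ψ : C ⟶ CommRingCat.of (MonoidAlgebra B (Multiplicative M)), Spec.map ψ = u₀ ≫ P.isoSpec.hom :=
    ⟨_, Spec.map_preimage _⟩
  have hψc : Spec.map (sC ≫ ψ) = st (MonoidAlgebra B (Multiplicative M)) := by
    rw [Spec.map_comp, hψ, hsC, Category.assoc, Iso.hom_inv_id_assoc]
    exact pullback.lift_snd _ _ _
  let ψa : C →ₐ[R] MonoidAlgebra B (Multiplicative M) :=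
    { toRingHom := ψ.hom, commutes' := fun r => DFunLike.congr_fun (congrArg CommRingCat.Hom.hom (Spec.map_injective hψc)) r }
  have hu0 : Spec.map (CommRingCat.ofHom ψa.toRingHom) ≫ P.isoSpec.inv = u₀ := by
    show Spec.map ψ ≫ _ = _
    rw [hψ, Category.assoc, Iso.hom_inv_id, Category.comp_id]
  rw [← hmk, mk_nat] at hu0
  obtain ⟨hu0χ, hu0y⟩ := mk_inj _ _ _ _ _ hu0
  have hid : ψa.comp h = AlgHom.id R _ := by
    refine MonoidAlgebra.algHom_ext (fun m => ?_) (AlgHom.ext fun b => ?_)
    · simpa [h, MonoidAlgebra.liftNCAlgHom, MonoidAlgebra.liftNCRingHom] using DFunLike.congr_fun hu0χ m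
    · simpa [h, x₀, MonoidAlgebra.singleOneAlgHom, MonoidAlgebra.liftNCAlgHom, MonoidAlgebra.liftNCRingHom] using DFunLike.congr_fun hu0y b
  let v : P ⟶ Spec (CommRingCat.of (MonoidAlgebra B (Multiplicative M))) := P.isoSpec.hom ≫ Spec.map (CommRingCat.ofHom h.toRingHom)
  have hvu : v ≫ u₀ = 𝟙 P := by rw [Category.assoc, hu1, Iso.hom_inv_id]
  have huv : u₀ ≫ v = 𝟙 _ := by
    rw [← Category.assoc, ← hψ, ← Spec.map_comp]
    refine (congrArg Spec.map ?_).trans (Spec.map_id _)
    exact CommRingCat.hom_ext (congrArg AlgHom.toRingHom hid)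
  haveI : IsIso v := ⟨u₀, hvu, huv⟩
  let D : P ⟶ Q := ((Over.pullback t).map Φ).left
  show IsClosedImmersion D
  have hD : D = v ≫ (u₀ ≫ D) := by rw [← Category.assoc, hvu, Category.id_comp]
  rw [hD]
  suffices IsClosedImmersion (u₀ ≫ D) from MorphismProperty.comp_mem _ _ _ inferInstance this
  obtain ⟨e, he⟩ : ∃ e : Γ(Q, ⊤) ⟶ CommRingCat.of (MonoidAlgebra B (Multiplicative M)), Spec.map e = (u₀ ≫ D) ≫ Q.isoSpec.hom :=
    ⟨_, Spec.map_preimage _⟩
  suffices Function.Surjective e.hom by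
    haveI := IsClosedImmersion.spec_of_surjective e this
    rw [show u₀ ≫ D = Spec.map e ≫ Q.isoSpec.inv by rw [he, Category.assoc _ Q.isoSpec.hom, Iso.hom_inv_id, Category.comp_id]]
    infer_instance
  have hproj : ∀ (pr : X ⊗ X ⟶ X) (y' : B →ₐ[R] MonoidAlgebra B (Multiplicative M)),
      xp _ y' = lift (pts q G M φ (tC _) (MonoidAlgebra.of B _)) (xp _ x₀) ≫ Φ ≫ pr → ∀ b, y' b ∈ e.hom.range := by
    intro pr y' hy'' b
    obtain ⟨ε, hε⟩ : ∃ ε : B ⟶ Γ(Q, ⊤), Spec.map ε =
        Q.isoSpec.inv ≫ ((Over.pullback t).map pr).left ≫ Xt.isoSpec.hom := ⟨_, Spec.map_preimage _⟩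
    have : Spec.map (ε ≫ e) = Spec.map (CommRingCat.ofHom y'.toRingHom) := by
      rw [Spec.map_comp, he, hε, ← cancel_mono Xt.isoSpec.inv]
      simp only [Category.assoc, Iso.hom_inv_id_assoc, Iso.hom_inv_id, Category.comp_id]
      rw [← xp_left _ y']
      apply pullback.hom_ext
      · rw [pullback.lift_fst, hy'']
        simp [u₀, mk, D]
      · rw [pullback.lift_snd]
        simp [u₀, mk, D]
    exact ⟨ε.hom b, DFunLike.congr_fun (congrArg CommRingCat.Hom.hom (Spec.map_injective this)) b⟩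
  intro z
  have hz : z ∈ Algebra.adjoin R (Set.range x₀ ∪ Set.range (α _ (MonoidAlgebra.of B _) x₀)) := hadj ▸ Algebra.mem_top
  refine Algebra.adjoin_induction (p := fun z _ => z ∈ e.hom.range) ?_ ?_ (fun _ _ _ _ ha hb => add_mem ha hb)
    (fun _ _ _ _ ha hb => mul_mem ha hb) hz
  · rintro z' (⟨b, rfl⟩ | ⟨b, rfl⟩)
    · exact hproj (snd X X) x₀ (by simp [Φ]) b
    · exact hproj (fst X X) _ (by simp [Φ, hα]) b
  · intro r
    rw [← x₀.commutes]
    exact hproj (snd X X) x₀ (by simp [Φ]) _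

end Local

set_option backward.isDefEq.respectTransparency false in
theorem result {S : Scheme.{u}} (G X : Over S) [GrpObj G]
    (hG : TwC.Locally S TwC.Topology.fpqc (fun S' f => ∃ (M : Type) (_ : AddCommGroup M), Nonempty (Grp.mk (Red.bc f G) ≅ Grp.mk (Red.DS S' M))))
    (hX : IsAffineHom X.hom) (a : AlgGrp.Action G X)
    (hfree : ∀ (Y : Over S) (g : Y ⟶ G) (x : Y ⟶ X), lift g x ≫ a.act = x → g = 1) :
    IsClosedImmersion (lift a.act (snd G X)).left ∧
      ∀ σ : 𝟙_ (Over S) ⟶ X, IsClosedImmersion (a.orbitMap σ).left := by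
  let Φ := lift a.act (snd G X)
  haveI := hX
  let IsCI : ∀ (T : Scheme.{u}), (T ⟶ S) → Prop := fun T r => IsClosedImmersion ((Over.pullback r).map Φ).left
  have zar : ∀ (T : Scheme.{u}) (r : T ⟶ S), (∀ x : T, ∃ (T' : Scheme.{u}) (v : T' ⟶ T),
      IsOpenImmersion v ∧ x ∈ Set.range v ∧ IsCI T' (v ≫ r)) → IsCI T r := by
    intro T r h
    choose T' v hv hxv hci using h
    let 𝒰 : (pullback (X ⊗ X).hom r).OpenCover := Scheme.Cover.mkOfCovers T
      (fun x => pullback (X ⊗ X).hom (v x ≫ r)) (fun x => comp (v x) r)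
      (fun z => by
        obtain ⟨z', hz'⟩ := hxv (pullback.snd (X ⊗ X).hom r z)
        obtain ⟨z'', hz'', -⟩ := Scheme.exists_preimage_of_isPullback (isPullback_comp (Y := X ⊗ X) (v _) r) z z' hz'.symm
        exact ⟨_, z'', hz''⟩)
      (fun x => MorphismProperty.of_isPullback (isPullback_comp (Y := X ⊗ X) (v x) r).flip (hv x))
    refine (IsZariskiLocalAtTarget.iff_of_openCover (P := @IsClosedImmersion) 𝒰).mpr fun x => ?_
    show IsClosedImmersion (pullback.snd ((Over.pullback r).map Φ).left (comp (v x) r))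
    rw [← (isPullback_map_comp Φ (v x) r).isoPullback_inv_snd]
    haveI : IsClosedImmersion ((Over.pullback (v x ≫ r)).map Φ).left := hci x
    exact MorphismProperty.comp_mem _ _ _ inferInstance (hci x)
  obtain ⟨S', f, hf, hfs, hqc, htriv⟩ := hG
  haveI := hf
  have hS' : ∀ W : S'.Opens, IsCI W (W.ι ≫ f) := by
    intro W
    refine zar _ _ fun x => ?_
    obtain ⟨U, hxU, M, _, ⟨φ⟩⟩ := htriv (W.ι x)
    obtain ⟨_, ⟨V, hV, rfl⟩, hxV, hVU⟩ := S'.isBasis_affineOpens.exists_subset_of_mem_open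
      (show W.ι x ∈ U ⊓ W from ⟨hxU, x.2⟩) (U ⊓ W).2
    replace hV : IsAffineOpen V := hV
    let w : Spec Γ(S', V) ⟶ (U : Scheme.{u}) := IsOpenImmersion.lift U.ι hV.fromSpec
      (hV.range_fromSpec.le.trans ((show (V : Set S') ⊆ U from fun z hz => (hVU hz).1).trans (Scheme.Opens.range_ι U).ge))
    let v : Spec Γ(S', V) ⟶ (W : Scheme.{u}) := IsOpenImmersion.lift W.ι hV.fromSpec
      (hV.range_fromSpec.le.trans ((show (V : Set S') ⊆ W from fun z hz => (hVU hz).2).trans (Scheme.Opens.range_ι W).ge))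
    have hvι : v ≫ W.ι = hV.fromSpec := IsOpenImmersion.lift_fac _ _ _
    haveI : IsOpenImmersion v := by
      haveI : IsOpenImmersion (v ≫ W.ι) := by rw [hvι]; infer_instance
      exact IsOpenImmersion.of_comp v W.ι
    refine ⟨_, v, inferInstance, ?_, ?_⟩
    · obtain ⟨z, hz⟩ : W.ι x ∈ Set.range hV.fromSpec := hV.range_fromSpec.ge hxV
      exact ⟨z, W.ι.isOpenEmbedding.injective (by rw [← Scheme.Hom.comp_apply, hvι]; exact hz)⟩
    · rw [show v ≫ W.ι ≫ f = w ≫ U.ι ≫ f by rw [← Category.assoc, hvι, IsOpenImmersion.lift_fac_assoc]]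
      exact local_closedImmersion (U.ι ≫ f) G X M φ a hfree w
  have hS : IsCI S (𝟙 S) := by
    refine zar _ _ fun x => ?_
    obtain ⟨_, ⟨(U : S.Opens), hU, rfl⟩, hxU, -⟩ := S.isBasis_affineOpens.exists_subset_of_mem_open (Set.mem_univ x) isOpen_univ
    refine ⟨U, U.ι, inferInstance, ⟨⟨x, hxU⟩, rfl⟩, ?_⟩
    rw [Category.comp_id]
    obtain ⟨W, hW, hWU⟩ := hqc U hU
    have hWle : W ≤ f ⁻¹ᵁ U := fun w hw => by
      show f w ∈ (U : Set S)
      rw [← hWU]
      exact ⟨w, hw, rfl⟩
    let p : (W : Scheme.{u}) ⟶ (U : Scheme.{u}) := f.resLE U W hWle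
    haveI : IsAffine (U : Scheme.{u}) := hU
    haveI : CompactSpace ↥(W : Scheme.{u}) := isCompact_iff_compactSpace.mp hW
    haveI : QuasiCompact p := (quasiCompact_iff_compactSpace p).mpr inferInstance
    haveI : Flat p := inferInstanceAs (Flat (f.resLE U W hWle))
    haveI : Surjective p := ⟨fun y => by
      have hy : U.ι y ∈ (U : Set S) := y.2
      rw [← hWU] at hy
      obtain ⟨w, hw, hwy⟩ := hy
      refine ⟨⟨w, hw⟩, U.ι.isOpenEmbedding.injective ?_⟩
      rw [← Scheme.Hom.comp_apply, Scheme.Hom.resLE_comp_ι]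
      exact hwy⟩
    have hc := isPullback_comp (Y := X ⊗ X) p U.ι
    have h1 : IsCI W (p ≫ U.ι) := by rw [Scheme.Hom.resLE_comp_ι]; exact hS' W
    exact MorphismProperty.of_isPullback_of_descendsAlong (P := @IsClosedImmersion)
      (Q := @Surjective ⊓ @Flat ⊓ @QuasiCompact) (isPullback_map_comp Φ p U.ι).flip
      ⟨⟨MorphismProperty.of_isPullback hc.flip ‹Surjective p›, MorphismProperty.of_isPullback hc.flip ‹Flat p›⟩,
        MorphismProperty.of_isPullback hc.flip ‹QuasiCompact p›⟩ h1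
  have hΦ : IsClosedImmersion Φ.left := by
    have h := isPullback_map Φ (𝟙 S)
    haveI : IsClosedImmersion ((Over.pullback (𝟙 S)).map Φ).left := hS
    have e : Φ.left = inv (pullback.fst (G ⊗ X).hom (𝟙 S)) ≫ ((Over.pullback (𝟙 S)).map Φ).left ≫ pullback.fst (X ⊗ X).hom (𝟙 S) := by
      rw [IsIso.eq_inv_comp]; exact h.w
    rw [e]
    infer_instance
  refine ⟨hΦ, fun σ => ?_⟩
  let c : G ⟶ G ⊗ X := lift (𝟙 G) (toUnit G ≫ σ)
  haveI : IsAffineHom (fst G X).left := MorphismProperty.pullback_fst (P := @IsAffineHom) G.hom X.hom hX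
  haveI : IsClosedImmersion c.left := by
    haveI : IsClosedImmersion (c.left ≫ (fst G X).left) := by
      rw [← Over.comp_left, lift_fst]
      exact inferInstanceAs (IsClosedImmersion (𝟙 G.left))
    exact IsClosedImmersion.of_comp c.left (fst G X).left
  haveI := hΦ
  let d : X ⟶ X ⊗ X := lift (𝟙 X) (toUnit X ≫ σ)
  haveI : IsAffineHom (fst X X).left := MorphismProperty.pullback_fst (P := @IsAffineHom) X.hom X.hom hX
  haveI : IsClosedImmersion d.left := by
    haveI : IsClosedImmersion (d.left ≫ (fst X X).left) := by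
      rw [← Over.comp_left, lift_fst]
      exact inferInstanceAs (IsClosedImmersion (𝟙 X.left))
    exact IsClosedImmersion.of_comp d.left (fst X X).left
  have e : a.orbitMap σ ≫ d = c ≫ Φ := by
    apply CartesianMonoidalCategory.hom_ext
    · simp [d, c, Φ, AlgGrp.Action.orbitMap]
    · simp [d, c, Φ, AlgGrp.Action.orbitMap]
  haveI : IsClosedImmersion ((a.orbitMap σ).left ≫ d.left) := by
    rw [← Over.comp_left, e, Over.comp_left]; infer_instance
  exact IsClosedImmersion.of_comp (a.orbitMap σ).left d.left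

end Groth.Agent.H8DiagFree
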