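import Mathlib
import Groth.Agent.Lib.H8Coincidence

/-!
# Finite presentation of Weil restrictions of closed subschemes
-/

set_option autoImplicit false

universe u

open CategoryTheory Limits AlgebraicGeometry

namespace Groth.Agent.H8WeilFP

set_option backward.isDefEq.respectTransparency false in
/-- A closed subscheme with finitely generated ideals is locally of finite presentation. -/
lemma lfp_subschemeι {X : Scheme.{u}} (I : X.IdealSheafData) (h : ∀ U, (I.ideal U).FG) :
    LocallyOfFinitePresentation I.subschemeι := by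
  apply (IsZariskiLocalAtTarget.iff_of_openCover (P := @LocallyOfFinitePresentation)
    (X.openCoverOfIsOpenCover _ (iSup_affineOpens_eq_top X))).mpr
  intro (U : X.affineOpens)
  show LocallyOfFinitePresentation (pullback.snd I.subschemeι U.1.ι)
  have hsq : IsPullback (I.glueDataObjι U) (I.subschemeCover.f U) U.1.ι I.subschemeι :=
    IsOpenImmersion.isPullback _ _ _ _ (I.subschemeCover_map_subschemeι U)
      (by rw [Scheme.Opens.opensRange_ι]; exact (I.opensRange_subschemeCover_map U).symm)
  have h1 : LocallyOfFinitePresentation (I.glueDataObjι U) := by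
    have : LocallyOfFinitePresentation
        (Spec.map (CommRingCat.ofHom (Ideal.Quotient.mk (I.ideal U)))) :=
      (HasRingHomProperty.Spec_iff (P := @LocallyOfFinitePresentation)).mpr
        (RingHom.FinitePresentation.of_surjective _ Ideal.Quotient.mk_surjective
          (by rw [CommRingCat.hom_ofHom, Ideal.mk_ker]; exact h U))
    unfold Scheme.IdealSheafData.glueDataObjι
    infer_instance
  rw [← hsq.flip.isoPullback_inv_snd]
  infer_instance

set_option backward.isDefEq.respectTransparency false in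
lemma eq_zero_of_mem_ker {P : Scheme.{u}} (V : P.affineOpens) {C : CommRingCat.{u}}
    (χ : Γ(P, V.1) ⟶ C) {c : Γ(P, V.1)}
    (hc : c ∈ RingHom.ker ((Spec.map χ ≫ V.2.fromSpec).app V.1).hom) : χ.hom c = 0 := by
  have hle : (⊤ : (Spec C).Opens) ≤ (Spec.map χ ≫ V.2.fromSpec) ⁻¹ᵁ V.1 := fun p _ => by
    show V.2.fromSpec ((Spec.map χ) p) ∈ (V.1 : Set P)
    rw [← V.2.range_fromSpec]
    exact ⟨_, rfl⟩
  have h1 := IsAffineOpen.SpecMap_appLE_fromSpec (Spec.map χ ≫ V.2.fromSpec) V.2
    (isAffineOpen_top (Spec C)) hle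
  rw [IsAffineOpen.fromSpec_top, Scheme.isoSpec_Spec_inv, ← Category.assoc, cancel_mono,
    ← Spec.map_comp] at h1
  have h2 := congrArg (fun φ => φ.hom c) (Spec.map_injective h1)
  have h3 : ((Spec.map χ ≫ V.2.fromSpec).appLE V.1 ⊤ hle).hom c = 0 := by
    simp only [Scheme.Hom.appLE, CommRingCat.comp_apply]
    rw [show ((Spec.map χ ≫ V.2.fromSpec).app V.1).hom c = 0 from hc, map_zero]
  exact (ConcreteCategory.bijective_of_isIso (Scheme.ΓSpecIso C).inv).1
    (h2.symm.trans (h3.trans (map_zero _).symm))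

section

variable {S X Y W : Scheme.{u}} (t : X ⟶ S) (f : Y ⟶ S) (j : W ⟶ pullback t f)

set_option backward.isDefEq.respectTransparency false in
/-- For quasi-compact `f` and finitely presented `j` the smallest ideal is finitely generated. -/
theorem minIdeal_fg [IsClosedImmersion j] [LocallyOfFinitePresentation j] [QuasiCompact f]
    (U : X.affineOpens) (a₀ : Ideal Γ(X, U))
    (ha₀ : ∀ ⦃C : CommRingCat.{u}⦄ (χ : Γ(X, U) ⟶ C),
      H8Weil.Lands t f j (Spec.map χ ≫ U.2.fromSpec) ↔ a₀ ≤ RingHom.ker χ.hom) : a₀.FG := by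
  classical
  let g := U.2.fromSpec
  let e := pullback.fst (H8Weil.mapX t f g) j
  have : LocallyOfFinitePresentation e := inferInstance
  let P := pullback (g ≫ t) f
  have hPc : CompactSpace P := QuasiCompact.compactSpace_of_compactSpace (pullback.fst (g ≫ t) f)
  obtain ⟨s, hs⟩ := isCompact_univ.elim_finite_subcover (fun V : P.affineOpens => (V.1 : Set P))
    (fun V => V.1.isOpen) fun p _ => by
      obtain ⟨_, ⟨V, hV, rfl⟩, hpV, -⟩ :=
        P.isBasis_affineOpens.exists_subset_of_mem_open (Set.mem_univ p) isOpen_univ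
      exact Set.mem_iUnion.mpr ⟨⟨V, hV⟩, hpV⟩
  have hKfg : ∀ V : P.affineOpens, (e.ker.ideal V).FG := by
    intro V
    rw [e.ker_apply]
    have hV' : IsAffineOpen (e ⁻¹ᵁ V.1) := V.2.preimage e
    have h2 : (e.app V.1).hom.FinitePresentation := by
      rw [Scheme.Hom.app_eq_appLE]; exact e.finitePresentation_appLE V.2 hV' le_rfl
    letI := (e.app V.1).hom.toAlgebra
    have : Algebra.FinitePresentation Γ(P, V.1) Γ(pullback (H8Weil.mapX t f g) j, e ⁻¹ᵁ V.1) := h2
    exact Algebra.FinitePresentation.ker_fG_of_surjective (Algebra.ofId _ _)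
      (e.app_surjective V.1 V.2)
  -- the structure maps
  let ρ : ∀ V : P.affineOpens, Γ(X, U) ⟶ Γ(P, V.1) := fun V =>
    Spec.preimage (V.2.fromSpec ≫ pullback.fst (g ≫ t) f)
  have hρ : ∀ V : P.affineOpens, Spec.map (ρ V) = V.2.fromSpec ≫ pullback.fst (g ≫ t) f :=
    fun V => Spec.map_preimage _
  have hsub : ∀ V : P.affineOpens, e.ker.ideal V ≤ a₀.map (ρ V).hom := by
    intro V
    let C := CommRingCat.of (Γ(P, V.1) ⧸ a₀.map (ρ V).hom)
    let m : Spec C ⟶ P :=
      Spec.map (CommRingCat.ofHom (Ideal.Quotient.mk (a₀.map (ρ V).hom))) ≫ V.2.fromSpec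
    obtain ⟨l, hl⟩ := (ha₀ (CommRingCat.ofHom (Ideal.Quotient.mk a₀))).mpr (by simp)
    let q : Γ(X, U) ⧸ a₀ →+* C := Ideal.quotientMap _ (ρ V).hom Ideal.le_comap_map
    let v : Spec C ⟶ pullback ((Spec.map (CommRingCat.ofHom (Ideal.Quotient.mk a₀)) ≫ g) ≫ t) f :=
      pullback.lift (Spec.map (CommRingCat.ofHom q)) (m ≫ pullback.snd (g ≫ t) f) (by
        simp only [Category.assoc, ← pullback.condition]
        simp only [m, Category.assoc, ← reassoc_of% (hρ V), ← Spec.map_comp_assoc]
        rfl)
    have hv : v ≫ H8Weil.mapT t f (Spec.map (CommRingCat.ofHom (Ideal.Quotient.mk a₀))) g = m := by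
      apply pullback.hom_ext
      · simp only [v, Category.assoc, H8Weil.mapT_fst, pullback.lift_fst_assoc, m, ← hρ,
          ← Spec.map_comp]
        rfl
      · simp [v]
    let w : Spec C ⟶ pullback (H8Weil.mapX t f g) j :=
      pullback.lift m (v ≫ l) (by
        rw [Category.assoc v, hl, ← H8Weil.mapT_mapX, ← Category.assoc v, hv])
    have hw : w ≫ e = m := pullback.lift_fst _ _ _
    intro c hc
    have hc' : c ∈ RingHom.ker (m.app V.1).hom :=
      m.ideal_ker_le V ((hw ▸ Scheme.Hom.le_ker_comp w e : e.ker ≤ m.ker) V hc)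
    refine Ideal.Quotient.eq_zero_iff_mem.mp ?_
    exact eq_zero_of_mem_ker V _ hc'
  -- a finitely generated ideal which already works
  have hfin : ∀ V : P.affineOpens, ∃ T : Finset Γ(X, U), ↑T ⊆ (a₀ : Set Γ(X, U)) ∧
      e.ker.ideal V ≤ (Ideal.span (T : Set Γ(X, U))).map (ρ V).hom := by
    intro V
    obtain ⟨G, hG⟩ := hKfg V
    have : ∀ c ∈ G, ∃ T : Finset Γ(X, U), ↑T ⊆ (a₀ : Set Γ(X, U)) ∧
        c ∈ (Ideal.span (T : Set Γ(X, U))).map (ρ V).hom := by
      intro c hc
      have h1 : c ∈ a₀.map (ρ V).hom := hsub V (hG ▸ Submodule.subset_span hc)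
      obtain ⟨T, hT, hcT⟩ := Submodule.mem_span_finite_of_mem_span (R := Γ(P, V.1))
        (show c ∈ Submodule.span Γ(P, V.1) ((ρ V).hom '' a₀) from h1)
      choose pre hpre hpre' using fun y : T => hT y.2
      refine ⟨Finset.univ.image pre, by simp [Set.range_subset_iff, hpre], ?_⟩
      refine Submodule.span_le.mpr ?_ hcT
      intro y hy
      rw [show y = (ρ V).hom (pre ⟨y, hy⟩) from (hpre' ⟨y, hy⟩).symm]
      exact Ideal.mem_map_of_mem _ (Ideal.subset_span (by simp))
    choose T hT hT' using this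
    refine ⟨G.attach.biUnion fun c => T c.1 c.2, ?_, ?_⟩
    · simp only [Finset.coe_biUnion, Set.iUnion_subset_iff]
      exact fun c _ => hT c.1 c.2
    · rw [← hG]
      refine Submodule.span_le.mpr fun c hc => Ideal.map_mono (Ideal.span_mono ?_) (hT' c hc)
      exact Finset.coe_subset.mpr
        (Finset.subset_biUnion_of_mem (fun c : G => T c.1 c.2) (Finset.mem_attach G ⟨c, hc⟩))
  choose T hT hT' using hfin
  let a := Ideal.span ((s.biUnion T : Finset Γ(X, U)) : Set Γ(X, U))
  have hle : a ≤ a₀ := Ideal.span_le.mpr (by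
    simp only [Finset.coe_biUnion, Set.iUnion_subset_iff]; exact fun V _ => hT V)
  suffices a₀ ≤ a from ⟨s.biUnion T, le_antisymm hle this⟩
  -- `a` already cuts out a locus which lands
  suffices hL : H8Weil.Lands t f j (Spec.map (CommRingCat.ofHom (Ideal.Quotient.mk a)) ≫ g) by
    simpa using (ha₀ _).mp hL
  let M := H8Weil.mapT t f (Spec.map (CommRingCat.ofHom (Ideal.Quotient.mk a))) g
  have : IsClosedImmersion M := by
    have hM : IsPullback M (pullback.fst _ f) (pullback.fst (g ≫ t) f)
        (Spec.map (CommRingCat.ofHom (Ideal.Quotient.mk a))) := by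
      refine (IsPullback.of_right ?_ (H8Weil.mapT_fst t f _ g)
        (IsPullback.of_hasPullback (g ≫ t) f).flip)
      rw [H8Weil.mapT_snd]
      exact (IsPullback.of_hasPullback _ f).flip
    exact MorphismProperty.of_isPullback hM.flip inferInstance
  have hker : e.ker ≤ M.ker := by
    refine Scheme.IdealSheafData.le_of_iSup_eq_top (fun V : s => V.1) ?_ fun V => ?_
    · refine TopologicalSpace.Opens.ext (Set.eq_univ_of_forall fun p => ?_)
      obtain ⟨V, hV, hp⟩ := Set.mem_iUnion₂.mp (hs (Set.mem_univ p))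
      exact TopologicalSpace.Opens.mem_iSup.mpr ⟨⟨V, hV⟩, hp⟩
    · rw [M.ker_apply]
      refine (hT' V.1).trans ?_
      rw [Ideal.map_le_iff_le_comap]
      refine le_trans (Ideal.span_mono (Finset.coe_subset.mpr
        (Finset.subset_biUnion_of_mem T V.2))) ?_
      intro c hc
      rw [Ideal.mem_comap, RingHom.mem_ker]
      have hV' : IsAffineOpen (M ⁻¹ᵁ V.1.1) := V.1.2.preimage M
      have h0 := IsAffineOpen.SpecMap_appLE_fromSpec M V.1.2 hV' le_rfl
      have h1 : ρ V.1 ≫ M.appLE V.1.1 (M ⁻¹ᵁ V.1.1) le_rfl =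
          CommRingCat.ofHom (Ideal.Quotient.mk a) ≫
            Spec.preimage (hV'.fromSpec ≫ pullback.fst _ f) := by
        apply Spec.map_injective
        rw [Spec.map_comp, Spec.map_comp, hρ, Spec.map_preimage]
        refine (Category.assoc _ _ _).symm.trans ((congrArg (· ≫ _) h0).trans ?_)
        refine (Category.assoc _ _ _).trans ?_
        refine (congrArg (hV'.fromSpec ≫ ·) (H8Weil.mapT_fst t f _ g)).trans ?_
        exact (Category.assoc _ _ _).symm
      have h2 := congrArg (fun φ => φ.hom c) h1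
      simp only [Scheme.Hom.appLE_eq_app, CommRingCat.comp_apply] at h2
      refine h2.trans ?_
      rw [show (CommRingCat.ofHom (Ideal.Quotient.mk a)).hom c = 0 from
        Ideal.Quotient.eq_zero_iff_mem.mpr hc, map_zero]
  refine ⟨IsClosedImmersion.lift e M hker ≫ pullback.snd _ j, ?_⟩
  refine (Category.assoc _ _ _).trans ?_
  refine (congrArg (_ ≫ ·) (pullback.condition (f := H8Weil.mapX t f g) (g := j)).symm).trans ?_
  exact (IsClosedImmersion.lift_fac_assoc e M hker _).trans (H8Weil.mapT_mapX t f _ g)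

end

/-- Weil restriction of a finitely presented closed subscheme along quasi-compact locally
projective morphisms. -/
theorem exists_restrict {S : Scheme.{u}} {X : Over S} {Y W : Scheme.{u}} (f : Y ⟶ S)
    [QuasiCompact f] (hf : H8Weil.LocProj f) (j : W ⟶ pullback X.hom f) [IsClosedImmersion j]
    [LocallyOfFinitePresentation j] :
    ∃ (Z : Over S) (i : Z ⟶ X), IsClosedImmersion i.left ∧ LocallyOfFinitePresentation i.left ∧
      ∀ (T : Over S) (x : T ⟶ X), H8Weil.Lands X.hom f j x.left ↔ ∃ z : T ⟶ Z, z ≫ i = x := by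
  obtain ⟨Z, i, hi, hZ⟩ := H8Weil.exists_restrict f hf j
  refine ⟨Z, i, hi, ?_, hZ⟩
  have hfg : ∀ U, (i.left.ker.ideal U).FG := by
    intro U
    refine minIdeal_fg X.hom f j U _ fun C χ => ?_
    let T : Over S := Over.mk (Spec.map χ ≫ U.2.fromSpec ≫ X.hom)
    let x : T ⟶ X := Over.homMk (Spec.map χ ≫ U.2.fromSpec) (Category.assoc _ _ _)
    refine (hZ T x).trans ⟨?_, fun h => ?_⟩
    · rintro ⟨z, hz⟩ c hc
      have h1 : i.left.ker ≤ x.left.ker := by
        rw [← hz]; exact Scheme.Hom.le_ker_comp _ _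
      exact eq_zero_of_mem_ker U χ (x.left.ideal_ker_le U (h1 U hc))
    · have hk : i.left.ker ≤ x.left.ker := by
        have e : χ = CommRingCat.ofHom (Ideal.Quotient.mk (i.left.ker.ideal U)) ≫
            CommRingCat.ofHom (Ideal.Quotient.lift (i.left.ker.ideal U) χ.hom h) := by
          ext c
          exact (Ideal.Quotient.lift_mk _ χ.hom h).symm
        have hx : x.left = (Spec.map (CommRingCat.ofHom (Ideal.Quotient.lift
            (i.left.ker.ideal U) χ.hom h)) ≫ i.left.ker.subschemeCover.f U) ≫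
              i.left.ker.subschemeι := by
          refine Eq.trans ?_ (Category.assoc _ _ _).symm
          refine Eq.trans ?_ (congrArg (_ ≫ ·) (i.left.ker.subschemeCover_map_subschemeι U)).symm
          simp only [Scheme.IdealSheafData.glueDataObjι, Category.assoc,
            IsAffineOpen.isoSpec_inv_ι]
          show Spec.map χ ≫ U.2.fromSpec = _
          conv_lhs => rw [e]
          rw [Spec.map_comp_assoc]
          rfl
        rw [hx]
        exact (i.left.ker.ker_subschemeι).ge.trans (Scheme.Hom.le_ker_comp _ _)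
      refine ⟨Over.homMk (IsClosedImmersion.lift i.left x.left hk) ?_, ?_⟩
      · rw [← Over.w i, IsClosedImmersion.lift_fac_assoc, Over.w x]
      · exact Over.OverMorphism.ext (IsClosedImmersion.lift_fac _ _ _)
  have := lfp_subschemeι i.left.ker hfg
  rw [← IsClosedImmersion.lift_fac i.left.ker.subschemeι i.left
    (i.left.ker.ker_subschemeι).le]
  have := IsClosedImmersion.isIso_lift i.left.ker.subschemeι i.left (i.left.ker.ker_subschemeι)
  infer_instance

end Groth.Agent.H8WeilFP
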