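import Mathlib
import Groth.Agent.Lib.H8WeilFP

/-!
# Transporters
-/

set_option autoImplicit false

universe u

open CategoryTheory Limits AlgebraicGeometry MonoidalCategory CartesianMonoidalCategory

namespace Groth.Agent.H8Transporter

variable {S : Scheme.{u}} {X Y Z W : Over S}

/-- The preimage of `W` in the family. -/
noncomputable def preW (c : X ⊗ Y ⟶ Z) (w : W ⟶ Z) :
    pullback c.left w.left ⟶ pullback X.hom Y.hom :=
  (pullback.fst c.left w.left : pullback c.left w.left ⟶ (X ⊗ Y).left)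

instance (c : X ⊗ Y ⟶ Z) (w : W ⟶ Z) [IsClosedImmersion w.left] :
    IsClosedImmersion (preW c w) :=
  inferInstanceAs (IsClosedImmersion (pullback.fst c.left w.left))

instance (c : X ⊗ Y ⟶ Z) (w : W ⟶ Z) [LocallyOfFinitePresentation w.left] :
    LocallyOfFinitePresentation (preW c w) :=
  inferInstanceAs (LocallyOfFinitePresentation (pullback.fst c.left w.left))

set_option backward.defeqAttrib.useBackward true in
set_option backward.isDefEq.respectTransparency false in
lemma lands_iff (c : X ⊗ Y ⟶ Z) (w : W ⟶ Z) {T : Over S} (x : T ⟶ X) :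
    H8Weil.Lands X.hom Y.hom (preW c w) x.left ↔
      ∀ (T' : Over S) (t : T' ⟶ T) (g : T' ⟶ Y), ∃ w' : T' ⟶ W, lift (t ≫ x) g ≫ c = w' ≫ w := by
  let T₁ : Over S := Over.mk (x.left ≫ X.hom)
  let e : T₁ ⟶ T := Over.homMk (𝟙 _) (by simp [T₁])
  let e' : T ⟶ T₁ := Over.homMk (𝟙 _) (by simp [T₁])
  have hee : e' ≫ e = 𝟙 T := Over.OverMorphism.ext (Category.comp_id _)
  have hm : ((e ≫ x) ▷ Y).left = H8Weil.mapX X.hom Y.hom x.left := by
    apply pullback.hom_ext
    · have : ((e ≫ x) ▷ Y).left ≫ (fst X Y).left = (fst T₁ Y).left ≫ (e ≫ x).left := by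
        rw [← Over.comp_left, whiskerRight_fst, Over.comp_left]
      refine this.trans ?_
      rw [H8Weil.mapX_fst]
      simp [e]
      rfl
    · have : ((e ≫ x) ▷ Y).left ≫ (snd X Y).left = (snd T₁ Y).left := by
        rw [← Over.comp_left, whiskerRight_snd]
      refine this.trans ?_
      rw [H8Weil.mapX_snd]
      rfl
  constructor
  · rintro ⟨l, hl⟩ T' t g
    let q : T' ⟶ T₁ ⊗ Y := lift (t ≫ e') g
    have hq : q ≫ ((e ≫ x) ▷ Y) = lift (t ≫ x) g := by
      simp only [q, lift_whiskerRight, Category.assoc, reassoc_of% hee]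
    let l' : (T₁ ⊗ Y).left ⟶ pullback c.left w.left := l
    have hl' : l' ≫ pullback.fst c.left w.left = ((e ≫ x) ▷ Y).left := hl.trans hm.symm
    refine ⟨Over.homMk (q.left ≫ l' ≫ pullback.snd c.left w.left) ?_, ?_⟩
    · have e1 : (l' ≫ pullback.snd c.left w.left) ≫ w.left = ((e ≫ x) ▷ Y).left ≫ c.left := by
        rw [Category.assoc, ← pullback.condition, ← Category.assoc, hl']
      rw [← Over.w w, Category.assoc, ← Category.assoc _ w.left, e1, Category.assoc, Over.w c,
        Over.w ((e ≫ x) ▷ Y), Over.w q]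
    · apply Over.OverMorphism.ext
      show (lift (t ≫ x) g).left ≫ c.left =
        (q.left ≫ l' ≫ pullback.snd c.left w.left) ≫ w.left
      rw [Category.assoc, Category.assoc,
        ← pullback.condition, ← Category.assoc l', hl', ← Category.assoc]
      exact (congrArg (fun r => r.left ≫ c.left) hq).symm
  · intro h
    obtain ⟨w', hw'⟩ := h (T₁ ⊗ Y) (fst T₁ Y ≫ e) (snd T₁ Y)
    have h1 : lift ((fst T₁ Y ≫ e) ≫ x) (snd T₁ Y) = (e ≫ x) ▷ Y := by ext <;> simp
    rw [h1] at hw'
    exact ⟨pullback.lift (((e ≫ x) ▷ Y).left) w'.left (congrArg Over.Hom.left hw'),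
      (pullback.lift_fst _ _ _).trans hm⟩

/-- The transporter of a family into a closed subscheme. -/
theorem exists_transporter (hY : H8Weil.LocProj Y.hom) (c : X ⊗ Y ⟶ Z) (w : W ⟶ Z)
    [IsClosedImmersion w.left] :
    ∃ (F : Over S) (i : F ⟶ X), IsClosedImmersion i.left ∧
      ∀ (T : Over S) (x : T ⟶ X),
        (∀ (T' : Over S) (t : T' ⟶ T) (g : T' ⟶ Y), ∃ w' : T' ⟶ W,
          lift (t ≫ x) g ≫ c = w' ≫ w) ↔ ∃ z : T ⟶ F, z ≫ i = x := by
  obtain ⟨F, i, hi, hF⟩ := H8Weil.exists_restrict (X := X) Y.hom hY (preW c w)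
  exact ⟨F, i, hi, fun T x => (lands_iff c w x).symm.trans (hF T x)⟩

/-- The transporter of a quasi-compact family into a finitely presented closed subscheme. -/
theorem exists_transporter_fp [QuasiCompact Y.hom] (hY : H8Weil.LocProj Y.hom) (c : X ⊗ Y ⟶ Z)
    (w : W ⟶ Z) [IsClosedImmersion w.left] [LocallyOfFinitePresentation w.left] :
    ∃ (F : Over S) (i : F ⟶ X), IsClosedImmersion i.left ∧ LocallyOfFinitePresentation i.left ∧
      ∀ (T : Over S) (x : T ⟶ X),
        (∀ (T' : Over S) (t : T' ⟶ T) (g : T' ⟶ Y), ∃ w' : T' ⟶ W,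
          lift (t ≫ x) g ≫ c = w' ≫ w) ↔ ∃ z : T ⟶ F, z ≫ i = x := by
  obtain ⟨F, i, hi, hi', hF⟩ := H8WeilFP.exists_restrict (X := X) Y.hom hY (preW c w)
  exact ⟨F, i, hi, hi', fun T x => (lands_iff c w x).symm.trans (hF T x)⟩

set_option backward.defeqAttrib.useBackward true in
set_option backward.isDefEq.respectTransparency false in
/-- The diagonal of a separated object is a closed immersion in `Over S`. -/
lemma isClosedImmersion_diag (Z : Over S) [IsSeparated Z.hom] :
    IsClosedImmersion (lift (𝟙 Z) (𝟙 Z) : Z ⟶ Z ⊗ Z).left := by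
  have : (lift (𝟙 Z) (𝟙 Z) : Z ⟶ Z ⊗ Z).left = pullback.diagonal Z.hom := by
    apply pullback.hom_ext <;> simp
  rw [this]
  infer_instance

set_option backward.isDefEq.respectTransparency false in
/-- Cancellation for finite presentation. -/
theorem lfp_of_comp {X Y Z : Scheme.{u}} {f : X ⟶ Y} {g : Y ⟶ Z} (h : LocallyOfFinitePresentation (f ≫ g))
    (hg : LocallyOfFiniteType g) : LocallyOfFinitePresentation f := by
  wlog hZ : IsAffine Z generalizing X Y Z
  · rw [IsZariskiLocalAtTarget.iff_of_iSup_eq_top (P := (@LocallyOfFinitePresentation : MorphismProperty Scheme.{u})) _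
      (g.iSup_preimage_eq_top (iSup_affineOpens_eq_top Z))]
    intro U
    have H : LocallyOfFinitePresentation ((f ≫ g) ∣_ U.1) := IsZariskiLocalAtTarget.restrict h U.1
    rw [morphismRestrict_comp] at H
    exact this H (IsZariskiLocalAtTarget.restrict hg U.1) U.2
  wlog hY : IsAffine Y generalizing X Y
  · rw [IsZariskiLocalAtTarget.iff_of_iSup_eq_top (P := (@LocallyOfFinitePresentation : MorphismProperty Scheme.{u})) _
      (iSup_affineOpens_eq_top Y)]
    intro U
    have H := HasRingHomProperty.comp_of_isOpenImmersion @LocallyOfFinitePresentation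
      (f ⁻¹ᵁ U.1).ι (f ≫ g) h
    rw [← morphismRestrict_ι_assoc] at H
    exact this H (HasRingHomProperty.comp_of_isOpenImmersion @LocallyOfFiniteType U.1.ι g hg) U.2
  wlog hX : IsAffine X generalizing X
  · rw [IsZariskiLocalAtSource.iff_of_openCover (P := (@LocallyOfFinitePresentation : MorphismProperty Scheme.{u})) X.affineCover]
    intro i
    have H := HasRingHomProperty.comp_of_isOpenImmersion @LocallyOfFinitePresentation
      (X.affineCover.f i) (f ≫ g) h
    rw [← Category.assoc] at H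
    exact this H inferInstance
  rw [HasRingHomProperty.iff_of_isAffine (P := (@LocallyOfFinitePresentation : MorphismProperty Scheme.{u}))] at h ⊢
  rw [HasRingHomProperty.iff_of_isAffine (P := (@LocallyOfFiniteType : MorphismProperty Scheme.{u}))] at hg
  rw [Scheme.Hom.comp_appTop] at h
  exact RingHom.FinitePresentation.of_comp_finiteType g.appTop.hom h hg

set_option backward.defeqAttrib.useBackward true in
set_option backward.isDefEq.respectTransparency false in
/-- The diagonal is of finite presentation when `Z` is locally of finite type. -/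
lemma lfp_diag (Z : Over S) [LocallyOfFiniteType Z.hom] :
    LocallyOfFinitePresentation (lift (𝟙 Z) (𝟙 Z) : Z ⟶ Z ⊗ Z).left := by
  have : (lift (𝟙 Z) (𝟙 Z) : Z ⟶ Z ⊗ Z).left = pullback.diagonal Z.hom := by
    apply pullback.hom_ext <;> simp
  rw [this]
  refine lfp_of_comp (g := pullback.fst Z.hom Z.hom) ?_ inferInstance
  rw [pullback.diagonal_fst]
  infer_instance

/-- Agreement of two maps as landing in the diagonal. -/
lemma eq_iff_diag {T : Over S} (a b : T ⟶ Z) :
    a = b ↔ ∃ w' : T ⟶ Z, lift a b = w' ≫ lift (𝟙 Z) (𝟙 Z) := by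
  refine ⟨fun h => ⟨a, ?_⟩, fun ⟨w', h⟩ => ?_⟩
  · ext <;> simp [h]
  · have e1 := congrArg (· ≫ fst Z Z) h
    have e2 := congrArg (· ≫ snd Z Z) h
    simp only [lift_fst, lift_snd, Category.assoc, Category.comp_id] at e1 e2
    rw [e1, e2]

end Groth.Agent.H8Transporter
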