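import Mathlib
import Groth.Agent.Lib.H8WeilFP

/-!
# Weil restriction of closed subschemes along morphisms which are locally projective after a
faithfully flat base change
-/

set_option autoImplicit false

universe u

open CategoryTheory Limits AlgebraicGeometry
open TensorProduct

namespace Groth.Agent.H8WeilFF

variable {S X Y W : Scheme.{u}} (t : X ⟶ S) (f : Y ⟶ S) (j : W ⟶ pullback t f)

open Classical in
/-- Landing is cut out by an ideal on any affine scheme over `X`. -/
theorem exists_min [IsClosedImmersion j] {R : CommRingCat.{u}} (s : Spec R ⟶ S)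
    (hY : H8Weil.ProjCover f s) {A : CommRingCat.{u}} (α : R ⟶ A) (g : Spec A ⟶ X)
    (hg : g ≫ t = Spec.map α ≫ s) :
    ∃ a : Ideal A, ∀ ⦃C : CommRingCat.{u}⦄ (χ : A ⟶ C),
      H8Weil.Lands t f j (Spec.map χ ≫ g) ↔ a ≤ RingHom.ker χ.hom := by
  have hP := H8Weil.good_lands t f j
  let 𝒜 : Set (Ideal A) :=
    {a | H8Weil.Lands t f j (Spec.map (CommRingCat.ofHom (Ideal.Quotient.mk a)) ≫ g)}
  have hcond : ∀ {C : CommRingCat.{u}} (χ : A ⟶ C),
      (Spec.map χ ≫ g) ≫ t = Spec.map (α ≫ χ) ≫ s := fun χ => by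
    rw [Category.assoc, hg, Spec.map_comp_assoc]
  have hmem : H8Weil.Lands t f j
      (Spec.map (CommRingCat.ofHom (Ideal.Quotient.mk (sInf 𝒜))) ≫ g) := by
    refine H8Weil.lands_of_jointly_injective t f j s hY _ _ (hcond _)
      (fun a : 𝒜 => CommRingCat.of (A ⧸ a.1))
      (fun a => CommRingCat.ofHom (Ideal.Quotient.factor (sInf_le a.2))) (fun x hx => ?_)
      fun a => ?_
    · obtain ⟨x, rfl⟩ := Ideal.Quotient.mk_surjective x
      refine Ideal.Quotient.eq_zero_iff_mem.mpr (Submodule.mem_sInf.mpr fun a ha => ?_)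
      exact Ideal.Quotient.eq_zero_iff_mem.mp (hx ⟨a, ha⟩)
    · rw [← Category.assoc, ← Spec.map_comp, ← CommRingCat.ofHom_comp,
        Ideal.Quotient.factor_comp_mk]
      exact a.2
  refine ⟨sInf 𝒜, fun C χ => ⟨fun h => sInf_le ?_, fun h => ?_⟩⟩
  · refine H8Weil.lands_of_jointly_injective t f j s hY _ _ (hcond _) (fun _ : PUnit.{u+1} => C)
      (fun _ => CommRingCat.ofHom (RingHom.kerLift χ.hom)) (fun x hx => ?_) fun _ => ?_
    · exact RingHom.kerLift_injective χ.hom (by rw [map_zero]; exact hx ⟨⟩)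
    · rw [← Category.assoc, ← Spec.map_comp]
      exact h
  · have e : χ = CommRingCat.ofHom (Ideal.Quotient.mk (sInf 𝒜)) ≫
        CommRingCat.ofHom (Ideal.Quotient.lift (sInf 𝒜) χ.hom h) := by
      ext x
      exact (Ideal.Quotient.lift_mk (sInf 𝒜) χ.hom h).symm
    rw [e, Spec.map_comp, Category.assoc]
    exact hP.comp _ hmem

/-- Flat descent of ideals. -/
lemma map_comap_eq_of_descentData {A A' : Type u} [CommRing A] [CommRing A'] [Algebra A A']
    [Module.Flat A A'] (a' : Ideal A')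
    (h : a'.map (Algebra.TensorProduct.includeLeftRingHom : A' →+* A' ⊗[A] A') =
      a'.map (Algebra.TensorProduct.includeRight : A' →ₐ[A] A' ⊗[A] A').toRingHom) :
    (a'.comap (algebraMap A A')).map (algebraMap A A') = a' := by
  refine le_antisymm Ideal.map_comap_le fun x hx => ?_
  set a := a'.comap (algebraMap A A') with ha
  let q : A' →ₐ[A] A' ⧸ a' := Ideal.Quotient.mkₐ A a'
  let Φ : A' ⊗[A] A' →ₐ[A] A' ⊗[A] (A' ⧸ a') := Algebra.TensorProduct.map (AlgHom.id A A') q
  have h1 : Φ (x ⊗ₜ[A] 1) = 0 := by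
    have hmem : (Algebra.TensorProduct.includeLeftRingHom : A' →+* A' ⊗[A] A') x ∈
        a'.map (Algebra.TensorProduct.includeRight : A' →ₐ[A] A' ⊗[A] A').toRingHom :=
      h ▸ Ideal.mem_map_of_mem _ hx
    have hle : a'.map (Algebra.TensorProduct.includeRight : A' →ₐ[A] A' ⊗[A] A').toRingHom ≤
        RingHom.ker Φ := by
      rw [Ideal.map_le_iff_le_comap]
      intro z hz
      rw [Ideal.mem_comap, RingHom.mem_ker]
      show Φ ((1 : A') ⊗ₜ[A] z) = 0
      simp [Φ, q, Ideal.Quotient.eq_zero_iff_mem.mpr hz]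
    exact hle hmem
  let j : (A ⧸ a) →ₐ[A] A' ⧸ a' := Ideal.Quotient.liftₐ a (Algebra.ofId A (A' ⧸ a')) fun c hc => by
    rw [Algebra.ofId_apply, ← Ideal.Quotient.mk_algebraMap]
    exact Ideal.Quotient.eq_zero_iff_mem.mpr hc
  have hj : Function.Injective j.toLinearMap := by
    rw [← LinearMap.ker_eq_bot, LinearMap.ker_eq_bot']
    intro c hc
    obtain ⟨c, rfl⟩ := Ideal.Quotient.mk_surjective c
    refine Ideal.Quotient.eq_zero_iff_mem.mpr ?_
    rw [ha, Ideal.mem_comap]
    refine Ideal.Quotient.eq_zero_iff_mem.mp ?_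
    rw [Ideal.Quotient.mk_algebraMap]
    simpa [j] using hc
  have h2 : (j.toLinearMap.lTensor A') (x ⊗ₜ[A] (1 : A ⧸ a)) = 0 := by
    simp only [LinearMap.lTensor_tmul, AlgHom.toLinearMap_apply, map_one]
    simpa [Φ, q] using h1
  have h3 : (x ⊗ₜ[A] (1 : A ⧸ a)) = 0 :=
    Module.Flat.lTensor_preserves_injective_linearMap _ hj (h2.trans (map_zero _).symm)
  have h4 := congrArg (TensorProduct.tensorQuotEquivQuotSMul A' a) h3
  rw [map_zero] at h4
  have h5 : x ∈ (a • (⊤ : Submodule A A')) := by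
    have h6 : TensorProduct.tensorQuotEquivQuotSMul A' a (x ⊗ₜ[A] Ideal.Quotient.mk a 1) =
        Submodule.Quotient.mk ((1 : A) • x) :=
      TensorProduct.tensorQuotEquivQuotSMul_tmul_mk a x 1
    rw [map_one, one_smul, h4] at h6
    exact (Submodule.Quotient.mk_eq_zero _).mp h6.symm
  rwa [Ideal.smul_top_eq_map, Submodule.restrictScalars_mem] at h5

set_option backward.isDefEq.respectTransparency false in
/-- Landing descends along faithfully flat affine base change. -/
lemma lands_of_faithfullyFlat [IsClosedImmersion j] {C C' : CommRingCat.{u}} (κ : C ⟶ C')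
    [Flat (Spec.map κ)] [Surjective (Spec.map κ)] (g : Spec C ⟶ X)
    (h : H8Weil.Lands t f j (Spec.map κ ≫ g)) : H8Weil.Lands t f j g := by
  rw [H8Weil.lands_iff_isIso]
  rw [H8Weil.lands_iff_isIso] at h
  set M := H8Weil.mapT t f (Spec.map κ) g with hM
  have hsq : IsPullback M (pullback.fst _ f) (pullback.fst (g ≫ t) f) (Spec.map κ) := by
    refine (IsPullback.of_right ?_ (H8Weil.mapT_fst t f _ g)
      (IsPullback.of_hasPullback (g ≫ t) f).flip)
    rw [H8Weil.mapT_snd]
    exact (IsPullback.of_hasPullback _ f).flip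
  have : Flat M := MorphismProperty.of_isPullback hsq.flip inferInstance
  have : Surjective M := MorphismProperty.of_isPullback hsq.flip inferInstance
  have : QuasiCompact M := MorphismProperty.of_isPullback hsq.flip inferInstance
  set e := pullback.fst (H8Weil.mapX t f g) j
  set e' := pullback.fst (H8Weil.mapX t f (Spec.map κ ≫ g)) j
  let v : pullback (H8Weil.mapX t f (Spec.map κ ≫ g)) j ⟶ pullback (H8Weil.mapX t f g) j :=
    pullback.lift (e' ≫ M) (pullback.snd _ j)
      ((Category.assoc _ _ _).trans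
        ((congrArg (e' ≫ ·) (H8Weil.mapT_mapX t f (Spec.map κ) g)).trans pullback.condition))
  have hv : IsPullback v e' e M := by
    refine IsPullback.of_right ?_ (pullback.lift_fst _ _ _)
      (IsPullback.of_hasPullback (H8Weil.mapX t f g) j).flip
    rw [show v ≫ pullback.snd (H8Weil.mapX t f g) j = pullback.snd _ j from pullback.lift_snd _ _ _,
      H8Weil.mapT_mapX]
    exact (IsPullback.of_hasPullback _ j).flip
  exact MorphismProperty.of_isPullback_of_descendsAlong
    (P := MorphismProperty.isomorphisms Scheme.{u}) (Q := @Surjective ⊓ @Flat ⊓ @QuasiCompact)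
    hv.flip ⟨⟨inferInstance, inferInstance⟩, inferInstance⟩ h

set_option backward.isDefEq.respectTransparency false in
/-- Landing is cut out by an ideal when `f` becomes locally projective after a faithfully flat
base change. -/
theorem exists_min_ff [IsClosedImmersion j] {R R' : CommRingCat.{u}} (ρ : R ⟶ R')
    [Flat (Spec.map ρ)] [Surjective (Spec.map ρ)] (s : Spec R ⟶ S)
    (hY : H8Weil.ProjCover f (Spec.map ρ ≫ s)) {A : CommRingCat.{u}} (α : R ⟶ A)
    (g : Spec A ⟶ X) (hg : g ≫ t = Spec.map α ≫ s) :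
    ∃ a : Ideal A, ∀ ⦃C : CommRingCat.{u}⦄ (χ : A ⟶ C),
      H8Weil.Lands t f j (Spec.map χ ≫ g) ↔ a ≤ RingHom.ker χ.hom := by
  have hP := H8Weil.good_lands t f j
  let : Algebra R A := α.hom.toAlgebra
  let : Algebra R R' := ρ.hom.toAlgebra
  have hρ : Module.FaithfullyFlat R R' := by
    rw [← RingHom.faithfullyFlat_algebraMap_iff]
    exact (flat_and_surjective_SpecMap_iff ρ).mp ⟨inferInstance, inferInstance⟩
  let A' : CommRingCat.{u} := CommRingCat.of (A ⊗[R] R')
  let ι : A ⟶ A' := CommRingCat.ofHom Algebra.TensorProduct.includeLeftRingHom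
  let α' : R' ⟶ A' := CommRingCat.ofHom Algebra.TensorProduct.includeRight.toRingHom
  have hι : ρ ≫ α' = α ≫ ι := by
    ext c
    exact ((Algebra.TensorProduct.includeRight (R := R) (A := A) (B := R')).commutes c).trans
      ((Algebra.TensorProduct.includeLeft (S := R) (A := A) (B := R')).commutes c).symm
  obtain ⟨a', ha'⟩ := exists_min t f j (Spec.map ρ ≫ s) hY α' (Spec.map ι ≫ g) (by
    rw [Category.assoc, hg, ← Spec.map_comp_assoc, ← Spec.map_comp_assoc, hι])
  have hAA' : Module.FaithfullyFlat A A' :=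
    inferInstanceAs (Module.FaithfullyFlat A (A ⊗[R] R'))
  have hdd : a'.map (Algebra.TensorProduct.includeLeftRingHom : A' →+* A' ⊗[A] A') =
      a'.map (Algebra.TensorProduct.includeRight : A' →ₐ[A] A' ⊗[A] A').toRingHom := by
    let A'' : CommRingCat.{u} := CommRingCat.of (A' ⊗[A] A')
    let i₁ : A' ⟶ A'' := CommRingCat.ofHom Algebra.TensorProduct.includeLeftRingHom
    let i₂ : A' ⟶ A'' := CommRingCat.ofHom Algebra.TensorProduct.includeRight.toRingHom
    have hi : ι ≫ i₁ = ι ≫ i₂ := by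
      ext c
      exact ((Algebra.TensorProduct.includeLeft (S := A) (A := A') (B := A')).commutes c).trans
        ((Algebra.TensorProduct.includeRight (R := A) (A := A') (B := A')).commutes c).symm
    have key : ∀ {C : CommRingCat.{u}} (χ : A'' ⟶ C),
        (a'.map i₁.hom ≤ RingHom.ker χ.hom) ↔ (a'.map i₂.hom ≤ RingHom.ker χ.hom) := by
      intro C χ
      simp only [Ideal.map_le_iff_le_comap, RingHom.comap_ker, ← CommRingCat.hom_comp]
      rw [← ha', ← ha', Spec.map_comp, Spec.map_comp, Category.assoc, Category.assoc,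
        ← Spec.map_comp_assoc ι, ← Spec.map_comp_assoc ι, hi]
    refine le_antisymm ?_ ?_
    · intro c hc
      exact Ideal.Quotient.eq_zero_iff_mem.mp
        ((key (C := CommRingCat.of (↑A'' ⧸ a'.map i₂.hom))
          (CommRingCat.ofHom (R := ↑A'') (Ideal.Quotient.mk (a'.map i₂.hom)))).mpr
          (fun d hd => Ideal.Quotient.eq_zero_iff_mem.mpr hd) hc)
    · intro c hc
      exact Ideal.Quotient.eq_zero_iff_mem.mp
        ((key (C := CommRingCat.of (↑A'' ⧸ a'.map i₁.hom))
          (CommRingCat.ofHom (R := ↑A'') (Ideal.Quotient.mk (a'.map i₁.hom)))).mp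
          (fun d hd => Ideal.Quotient.eq_zero_iff_mem.mpr hd) hc)
  have hmap : (a'.comap (algebraMap A A')).map (algebraMap A A') = a' :=
    map_comap_eq_of_descentData a' hdd
  refine ⟨a'.comap (algebraMap A A'), fun C χ => ?_⟩
  let : Algebra A C := χ.hom.toAlgebra
  let C' : CommRingCat.{u} := CommRingCat.of (C ⊗[A] A')
  let κ : C ⟶ C' := CommRingCat.ofHom Algebra.TensorProduct.includeLeftRingHom
  let χ' : A' ⟶ C' := CommRingCat.ofHom Algebra.TensorProduct.includeRight.toRingHom
  have hκ : ι ≫ χ' = χ ≫ κ := by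
    ext c
    exact ((Algebra.TensorProduct.includeRight (R := A) (A := C) (B := A')).commutes c).trans
      ((Algebra.TensorProduct.includeLeft (S := A) (A := C) (B := A')).commutes c).symm
  have hκff : κ.hom.FaithfullyFlat :=
    (RingHom.faithfullyFlat_algebraMap_iff (R := C) (S := C ⊗[A] A')).mpr inferInstance
  obtain ⟨hκ₁, hκ₂⟩ := (flat_and_surjective_SpecMap_iff κ).mpr hκff
  have hiff : H8Weil.Lands t f j (Spec.map χ ≫ g) ↔
      H8Weil.Lands t f j (Spec.map χ' ≫ Spec.map ι ≫ g) := by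
    rw [← Spec.map_comp_assoc, hκ, Spec.map_comp_assoc]
    exact ⟨fun h => hP.comp _ h, fun h => lands_of_faithfullyFlat t f j κ _ h⟩
  rw [hiff, ha']
  conv_lhs => rw [← hmap]
  rw [Ideal.map_le_iff_le_comap, RingHom.comap_ker]
  have e : χ'.hom.comp (algebraMap A A') = κ.hom.comp χ.hom := congrArg CommRingCat.Hom.hom hκ
  rw [e, ← RingHom.comap_ker, (RingHom.injective_iff_ker_eq_bot κ.hom).mp ?_]
  · rfl
  · exact fun x y h => hκff.injective h

/-- Locally on the base, after a faithfully flat base change, the morphism is locally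
projective. -/
def LocFF {S Y : Scheme.{u}} (f : Y ⟶ S) : Prop :=
  ∀ p : S, ∃ (R R' : CommRingCat.{u}) (ρ : R ⟶ R') (s : Spec R ⟶ S),
    IsOpenImmersion s ∧ p ∈ Set.range s ∧ Flat (Spec.map ρ) ∧ Surjective (Spec.map ρ) ∧
      H8Weil.ProjCover f (Spec.map ρ ≫ s)

/-- Weil restriction of a closed subscheme. -/
theorem exists_restrict {S : Scheme.{u}} {X : Over S} {Y W : Scheme.{u}} (f : Y ⟶ S)
    (hf : LocFF f) (j : W ⟶ pullback X.hom f) [IsClosedImmersion j] :
    ∃ (Z : Over S) (i : Z ⟶ X), IsClosedImmersion i.left ∧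
      (∀ (T : Over S) (x : T ⟶ X), H8Weil.Lands X.hom f j x.left ↔ ∃ z : T ⟶ Z, z ≫ i = x) ∧
      (QuasiCompact f → LocallyOfFinitePresentation j → LocallyOfFinitePresentation i.left) := by
  have hloc : ∀ x : X.left, ∃ U : X.left.affineOpens,
      x ∈ U.1 ∧ H8Locus.HasMin (H8Weil.Lands X.hom f j) U := fun x => by
    obtain ⟨R, R', ρ, s, hs, hx, hρ₁, hρ₂, hY⟩ := hf (X.hom x)
    obtain ⟨_, ⟨U, hU, rfl⟩, hxU, hle⟩ := X.left.isBasis_affineOpens.exists_subset_of_mem_open
      (show x ∈ X.hom ⁻¹ᵁ s.opensRange from hx) (X.hom ⁻¹ᵁ s.opensRange).isOpen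
    have hr : Set.range (hU.fromSpec ≫ X.hom) ⊆ Set.range s := by
      rintro _ ⟨q, rfl⟩
      have : hU.fromSpec q ∈ (U : Set X.left) := by rw [← hU.range_fromSpec]; exact ⟨q, rfl⟩
      exact hle this
    refine ⟨⟨U, hU⟩, hxU, exists_min_ff X.hom f j ρ s hY
      (Spec.preimage (IsOpenImmersion.lift s _ hr)) hU.fromSpec ?_⟩
    rw [Spec.map_preimage]
    exact (IsOpenImmersion.lift_fac _ _ _).symm
  obtain ⟨I, hI⟩ := H8Locus.exists_idealSheaf (H8Weil.good_lands X.hom f j) hloc
  refine ⟨Over.mk (I.subschemeι ≫ X.hom), Over.homMk I.subschemeι rfl,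
    inferInstanceAs (IsClosedImmersion I.subschemeι), fun T x => ?_, fun hqc hfp => ?_⟩
  · rw [hI]
    constructor
    · intro h
      have hk : I.subschemeι.ker ≤ x.left.ker := le_of_eq_of_le I.ker_subschemeι h
      refine ⟨Over.homMk (IsClosedImmersion.lift I.subschemeι x.left hk) ?_, ?_⟩
      · show _ ≫ I.subschemeι ≫ X.hom = _
        rw [IsClosedImmersion.lift_fac_assoc, Over.w x]
      · exact Over.OverMorphism.ext (IsClosedImmersion.lift_fac _ _ _)
    · rintro ⟨z, rfl⟩
      exact le_of_eq_of_le I.ker_subschemeι.symm (Scheme.Hom.le_ker_comp _ _)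
  · refine H8WeilFP.lfp_subschemeι I fun U => H8WeilFP.minIdeal_fg X.hom f j U _ fun C χ => ?_
    have hall := H8Locus.hasMin_all (H8Weil.good_lands X.hom f j) hloc
    obtain ⟨a, ha⟩ := hall U
    suffices I.ideal U = a by rw [this]; exact ha χ
    refine le_antisymm ?_ ?_
    · have h1 := (hI _).mp ((ha (CommRingCat.ofHom (Ideal.Quotient.mk a))).mpr (by simp))
      intro c hc
      refine Ideal.Quotient.eq_zero_iff_mem.mp ?_
      exact H8WeilFP.eq_zero_of_mem_ker U _ (Scheme.Hom.ideal_ker_le _ U (h1 U hc))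
    · have h2 : H8Weil.Lands X.hom f j (I.subschemeCover.f U ≫ I.subschemeι) :=
        (H8Weil.good_lands X.hom f j).comp _ ((hI _).mpr I.ker_subschemeι.ge)
      rw [I.subschemeCover_map_subschemeι U] at h2
      simp only [Scheme.IdealSheafData.glueDataObjι, Category.assoc,
        IsAffineOpen.isoSpec_inv_ι] at h2
      simpa using (ha _).mp h2

end Groth.Agent.H8WeilFF
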