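import Mathlib
import Groth.Prelude.Def_SGA3x
import Groth.Agent.Lib.H8WeilFF
import Groth.Agent.Lib.H8Transporter

/-!
# Weil restriction along essentially free morphisms
-/

set_option autoImplicit false

universe u

open CategoryTheory Limits AlgebraicGeometry MonoidalCategory CartesianMonoidalCategory

namespace Groth.Agent.H8EssFree

/-- Local projectivity implies local projectivity after a faithfully flat base change. -/
theorem locFF_of_locProj {S Y : Scheme.{u}} {f : Y ⟶ S} (hf : H8Weil.LocProj f) :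
    H8WeilFF.LocFF f := by
  intro p
  obtain ⟨R, s, hs, hp, hY⟩ := hf p
  refine ⟨R, R, 𝟙 R, s, hs, hp, by rw [Spec.map_id]; infer_instance,
    by rw [Spec.map_id]; infer_instance, ?_⟩
  rwa [Spec.map_id, Category.id_comp]

set_option backward.isDefEq.respectTransparency false in
/-- Essentially free morphisms are locally projective after a faithfully flat base change. -/
theorem locFF_of_essentiallyFree {S Y : Scheme.{u}} {f : Y ⟶ S}
    (hf : SGA3x.IsEssentiallyFree f) : H8WeilFF.LocFF f := by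
  intro p
  obtain ⟨U, hp, hU, S', hS', g, hg₁, hg₂, hV⟩ := hf p
  let m : Spec Γ(S', ⊤) ⟶ Spec Γ(S, U) := S'.isoSpec.inv ≫ g ≫ hU.isoSpec.hom
  refine ⟨Γ(S, U), Γ(S', ⊤), Spec.preimage m, hU.fromSpec, hU.isOpenImmersion_fromSpec,
    hU.range_fromSpec.symm ▸ hp, ?_, ?_, fun y => ?_⟩
  · rw [Spec.map_preimage]; infer_instance
  · rw [Spec.map_preimage]; infer_instance
  · have hm : Spec.map (Spec.preimage m) ≫ hU.fromSpec = S'.isoSpec.inv ≫ g ≫ U.ι := by
      simp only [Spec.map_preimage, m, Category.assoc]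
      rw [← hU.isoSpec_inv_ι, Iso.hom_inv_id_assoc]
    let φ : pullback f (g ≫ U.ι) ⟶ pullback f (Spec.map (Spec.preimage m) ≫ hU.fromSpec) :=
      pullback.map _ _ _ _ (𝟙 _) S'.isoSpec.hom (𝟙 _) (by simp) (by
        rw [hm, Iso.hom_inv_id_assoc, Category.comp_id])
    obtain ⟨x, hx⟩ := φ.surjective y
    obtain ⟨V, hxV, hVa, hproj⟩ := hV x
    have : IsAffine (V : Scheme) := hVa
    refine ⟨Γ(V, ⊤), (V : Scheme).isoSpec.inv ≫ V.ι ≫ φ,
      (V.ι ≫ pullback.snd f (g ≫ U.ι)).appTop, inferInstance, ?_, ?_, hproj⟩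
    · refine ⟨(V : Scheme).isoSpec.hom ⟨x, hxV⟩, ?_⟩
      rw [← Scheme.Hom.comp_apply, Iso.hom_inv_id_assoc]
      exact hx
    · simp only [φ, Category.assoc, pullback.lift_snd]
      rw [← Category.assoc V.ι, ← Scheme.isoSpec_inv_naturality_assoc, Iso.inv_hom_id,
        Category.comp_id]

variable {S : Scheme.{u}} {X Y Z W : Over S}

/-- The transporter of a family into a closed subscheme. -/
theorem exists_transporter (hY : H8WeilFF.LocFF Y.hom) (c : X ⊗ Y ⟶ Z) (w : W ⟶ Z)
    [IsClosedImmersion w.left] :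
    ∃ (F : Over S) (i : F ⟶ X), IsClosedImmersion i.left ∧
      (∀ (T : Over S) (x : T ⟶ X),
        (∀ (T' : Over S) (t : T' ⟶ T) (g : T' ⟶ Y), ∃ w' : T' ⟶ W,
          lift (t ≫ x) g ≫ c = w' ≫ w) ↔ ∃ z : T ⟶ F, z ≫ i = x) ∧
      (QuasiCompact Y.hom → LocallyOfFinitePresentation w.left →
        LocallyOfFinitePresentation i.left) := by
  obtain ⟨F, i, hi, hF, hfp⟩ := H8WeilFF.exists_restrict (X := X) Y.hom hY
    (H8Transporter.preW c w)
  exact ⟨F, i, hi, fun T x => (H8Transporter.lands_iff c w x).symm.trans (hF T x),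
    fun h₁ h₂ => hfp h₁ inferInstance⟩

/-- The locus over which two families of points of a separated scheme agree. -/
theorem exists_locus [IsSeparated Z.hom] (hY : H8WeilFF.LocFF Y.hom) (a b : X ⊗ Y ⟶ Z) :
    ∃ (F : Over S) (i : F ⟶ X), IsClosedImmersion i.left ∧
      (∀ (T : Over S) (x : T ⟶ X),
        (∀ (T' : Over S) (t : T' ⟶ T) (g : T' ⟶ Y),
          lift (t ≫ x) g ≫ a = lift (t ≫ x) g ≫ b) ↔ ∃ z : T ⟶ F, z ≫ i = x) ∧
      (QuasiCompact Y.hom → LocallyOfFiniteType Z.hom →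
        LocallyOfFinitePresentation i.left) := by
  have : IsClosedImmersion (lift (𝟙 Z) (𝟙 Z) : Z ⟶ Z ⊗ Z).left :=
    H8Transporter.isClosedImmersion_diag Z
  obtain ⟨F, i, hi, hF, hfp⟩ := exists_transporter hY (lift a b) (lift (𝟙 Z) (𝟙 Z))
  refine ⟨F, i, hi, fun T x => ?_, fun h₁ h₂ => hfp h₁ (H8Transporter.lfp_diag Z)⟩
  rw [← hF T x]
  refine forall_congr' fun T' => forall_congr' fun t => forall_congr' fun g => ?_
  rw [H8Transporter.eq_iff_diag (Z := Z), comp_lift]

end Groth.Agent.H8EssFree
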