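import Mathlib

/-!
# Smooth morphisms have étale-local sections
-/

set_option autoImplicit false

universe u

open CategoryTheory Limits AlgebraicGeometry

noncomputable section

namespace Groth.Agent.H8EtaleSection

theorem exists_etale_point {R : Type u} [CommRing R] (p : Ideal R) [p.IsPrime] {n : ℕ}
    (g : MvPolynomial (Fin n) R) (hg : MvPolynomial.map (Ideal.Quotient.mk p) g ≠ 0) :
    ∃ (R' : Type u) (_ : CommRing R') (_ : Algebra R R'), Algebra.Etale R R' ∧
      ∃ (P' : Ideal R') (_ : P'.IsPrime) (a : Fin n → R'),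
        P'.comap (algebraMap R R') = p ∧ MvPolynomial.aeval a g ∉ P' := by
  classical
  rcases finite_or_infinite (R ⧸ p) with hfin | hinf
  · haveI : p.IsMaximal := Ideal.Quotient.maximal_of_isField p (Finite.isField_of_domain _)
    letI : Field (R ⧸ p) := Ideal.Quotient.field p
    let k := R ⧸ p
    let K := AlgebraicClosure k
    have hK : MvPolynomial.map (algebraMap k K) (MvPolynomial.map (Ideal.Quotient.mk p) g) ≠ 0 :=
      (map_ne_zero_iff _ (MvPolynomial.map_injective _ (algebraMap k K).injective)).mpr hg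
    obtain ⟨a, ha⟩ : ∃ a : Fin n → K,
        MvPolynomial.eval a (MvPolynomial.map (algebraMap k K) (MvPolynomial.map (Ideal.Quotient.mk p) g)) ≠ 0 := by
      by_contra h
      simp only [ne_eq, not_exists, not_not] at h
      exact hK (MvPolynomial.funext fun x => by rw [h x, map_zero])
    let E : IntermediateField k K := IntermediateField.adjoin k (Set.range a)
    haveI : FiniteDimensional k E := IntermediateField.finiteDimensional_adjoin
      fun x _ => Algebra.IsIntegral.isIntegral x
    obtain ⟨θ, hθ⟩ := Field.exists_primitive_element k E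
    have hint : IsIntegral k θ := Algebra.IsIntegral.isIntegral θ
    obtain ⟨F, hF, -, hFm⟩ := Polynomial.lifts_and_degree_eq_and_monic
      (Polynomial.map_surjective _ Ideal.Quotient.mk_surjective (minpoly k θ)) (minpoly.monic hint)
    have hm : (minpoly k θ).Separable := Algebra.IsSeparable.isSeparable k θ
    let P : StandardEtalePair R := ⟨F, hFm, Polynomial.derivative F, 1, 0, 1, by simp⟩
    letI : Algebra R K := ((algebraMap k K).comp (Ideal.Quotient.mk p)).toAlgebra
    have hev : ∀ q : Polynomial R, Polynomial.aeval (θ : K) q =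
        algebraMap E K (Polynomial.aeval θ (q.map (Ideal.Quotient.mk p))) := by
      intro q
      rw [← Polynomial.aeval_algebraMap_apply, Polynomial.aeval_def, Polynomial.aeval_def,
        Polynomial.eval₂_map]
      rfl
    have hθm : P.HasMap (θ : K) := by
      refine ⟨?_, ?_⟩
      · rw [hev, hF, minpoly.aeval, map_zero]
      · rw [hev, ← Polynomial.derivative_map, hF, isUnit_iff_ne_zero]
        exact (map_ne_zero _).mpr (hm.aeval_derivative_ne_zero (minpoly.aeval k θ))
    let L := P.lift (θ : K) hθm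
    have hpol : ∀ i, ∃ H : Polynomial R, Polynomial.aeval (θ : K) H = a i := by
      intro i
      have hi : (⟨a i, IntermediateField.subset_adjoin k _ (Set.mem_range_self i)⟩ : E) ∈
          Algebra.adjoin k {θ} := by
        rw [← IntermediateField.adjoin_simple_toSubalgebra_of_isAlgebraic hint.isAlgebraic, hθ]
        trivial
      obtain ⟨q, hq⟩ := (Algebra.adjoin_singleton_eq_range_aeval k θ).le hi
      obtain ⟨H, hH⟩ := Polynomial.map_surjective _ Ideal.Quotient.mk_surjective q
      refine ⟨H, ?_⟩
      rw [hev, hH]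
      exact congrArg (algebraMap E K) hq
    choose H hH using hpol
    refine ⟨P.Ring, inferInstance, inferInstance, inferInstance, RingHom.ker L, RingHom.ker_isPrime _,
      fun i => Polynomial.aeval P.X (H i), ?_, ?_⟩
    · ext x
      rw [Ideal.mem_comap, RingHom.mem_ker, AlgHom.commutes]
      exact (map_eq_zero_iff _ (algebraMap k K).injective).trans Ideal.Quotient.eq_zero_iff_mem
    · rw [RingHom.mem_ker, MvPolynomial.comp_aeval_apply]
      have : (fun i => L (Polynomial.aeval P.X (H i))) = a := funext fun i => by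
        rw [← Polynomial.aeval_algHom_apply, P.lift_X, hH]
      rw [this]
      rw [MvPolynomial.eval_map, MvPolynomial.eval₂_map] at ha
      exact ha
  · obtain ⟨a, ha⟩ : ∃ a : Fin n → R ⧸ p,
        MvPolynomial.eval a (MvPolynomial.map (Ideal.Quotient.mk p) g) ≠ 0 := by
      by_contra h
      simp only [ne_eq, not_exists, not_not] at h
      exact hg (MvPolynomial.funext fun x => by rw [h x, map_zero])
    choose b hb using fun i => Ideal.Quotient.mk_surjective (a i)
    refine ⟨R, inferInstance, inferInstance, inferInstance, p, inferInstance, b, rfl, fun h => ha ?_⟩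
    rw [← Ideal.Quotient.eq_zero_iff_mem] at h
    rw [← h, MvPolynomial.eval_map, ← funext hb, ← Function.comp_def, ← MvPolynomial.eval₂_comp]
    rfl

set_option backward.isDefEq.respectTransparency false in
/-- A smooth morphism admits, near every point of its image, a section after an étale base change. -/
theorem exists_etale_section {S T : Scheme.{u}} (f : T ⟶ S) [Smooth f] (s : S) (hs : s ∈ Set.range f.base) :
    ∃ (S' : Scheme.{u}) (h : S' ⟶ S) (σ : S' ⟶ T), Etale h ∧ s ∈ Set.range h.base ∧ σ ≫ f = h := by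
  obtain ⟨x, rfl⟩ := hs
  obtain ⟨U, hU, V, hV, hxV, e, hss⟩ := Smooth.exists_isStandardSmooth f x
  obtain ⟨n, φ, hφC, hφ⟩ := hss.exists_etale_mvPolynomial
  obtain ⟨xB, hxB⟩ : x ∈ Set.range hV.fromSpec.base := by rwa [hV.range_fromSpec]
  let C' : Γ(S, U) ⟶ CommRingCat.of (MvPolynomial (Fin n) Γ(S, U)) := CommRingCat.ofHom MvPolynomial.C
  let φ' : CommRingCat.of (MvPolynomial (Fin n) Γ(S, U)) ⟶ Γ(T, V) := CommRingCat.ofHom φ
  have hρ : C' ≫ φ' = f.appLE U V e := CommRingCat.hom_ext hφC
  have hV' : hV.fromSpec ≫ f = Spec.map φ' ≫ Spec.map C' ≫ hU.fromSpec := by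
    rw [← Spec.map_comp_assoc, hρ, IsAffineOpen.SpecMap_appLE_fromSpec]
  haveI : Etale (Spec.map φ') := (HasRingHomProperty.Spec_iff (P := @Etale)).mpr hφ
  let q : PrimeSpectrum (MvPolynomial (Fin n) Γ(S, U)) := (Spec.map φ').base xB
  let p : PrimeSpectrum Γ(S, U) := (Spec.map C').base q
  have hp : hU.fromSpec.base p = f.base x := by
    rw [← hxB]
    exact (congrArg (fun m : _ ⟶ S => m.base xB) hV').symm
  obtain ⟨D, ⟨g, rfl⟩, hqg, hD⟩ := PrimeSpectrum.isTopologicalBasis_basic_opens.exists_subset_of_mem_open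
    (a := q) (u := Set.range (Spec.map φ').base) ⟨xB, rfl⟩ (Spec.map φ').isOpenMap.isOpen_range
  have hg : MvPolynomial.map (Ideal.Quotient.mk p.asIdeal) g ≠ 0 := fun h => hqg (by
    have : g ∈ Ideal.map MvPolynomial.C p.asIdeal := by
      rw [MvPolynomial.mem_map_C_iff]
      intro m
      have := congrArg (MvPolynomial.coeff m) h
      rwa [MvPolynomial.coeff_map, MvPolynomial.coeff_zero, Ideal.Quotient.eq_zero_iff_mem] at this
    exact Ideal.map_le_iff_le_comap.mpr le_rfl this)
  obtain ⟨R', _, _, hR', P', hP', a, hP'p, hag⟩ := exists_etale_point p.asIdeal g hg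
  let ψ : CommRingCat.of (MvPolynomial (Fin n) Γ(S, U)) ⟶ CommRingCat.of R' :=
    CommRingCat.ofHom (MvPolynomial.aeval a).toRingHom
  let α : Γ(S, U) ⟶ CommRingCat.of R' := CommRingCat.ofHom (algebraMap Γ(S, U) R')
  have hψ : C' ≫ ψ = α := CommRingCat.hom_ext (RingHom.ext fun r => MvPolynomial.aeval_C a r)
  haveI : Etale (Spec.map α) := (HasRingHomProperty.Spec_iff (P := @Etale)).mpr
    (RingHom.etale_algebraMap.mpr hR')
  let y : Spec (CommRingCat.of R') := (⟨P', hP'⟩ : PrimeSpectrum R')
  obtain ⟨w, hw⟩ := @hD ((Spec.map ψ).base y) hag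
  obtain ⟨z, hz, -⟩ := Scheme.Pullback.exists_preimage_pullback (f := Spec.map ψ) (g := Spec.map φ') y w hw.symm
  haveI : Etale (pullback.fst (Spec.map ψ) (Spec.map φ')) :=
    MorphismProperty.pullback_fst (P := @Etale) _ _ inferInstance
  refine ⟨_, pullback.fst (Spec.map ψ) (Spec.map φ') ≫ Spec.map α ≫ hU.fromSpec,
    pullback.snd (Spec.map ψ) (Spec.map φ') ≫ hV.fromSpec, inferInstance, ⟨z, ?_⟩, ?_⟩
  · show hU.fromSpec.base ((Spec.map α).base ((pullback.fst (Spec.map ψ) (Spec.map φ')).base z)) = _
    rw [hz, ← hp]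
    exact congrArg hU.fromSpec.base (PrimeSpectrum.ext hP'p)
  · rw [Category.assoc, hV', ← pullback.condition_assoc, ← Spec.map_comp_assoc, hψ]

end Groth.Agent.H8EtaleSection
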