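import Mathlib
import Groth.Agent.Lib.H8Rigidity
import Groth.Agent.Lib.H6.RedClosed

/-!
# Connected components of fibres of morphisms out of abelian varieties
-/

set_option autoImplicit false

universe u

open CategoryTheory Limits AlgebraicGeometry MonoidalCategory CartesianMonoidalCategory
open scoped MonObj

namespace Groth.Agent.H8FibreTrans

section Top

/-- A finite closed cover of a connected space: a property which is constant on each member and
holds somewhere holds everywhere. -/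
lemma forall_of_preconnected {α : Type u} [TopologicalSpace α] {F : Set α} (hF : IsPreconnected F)
    (𝒯 : Set (Set α)) (hfin : 𝒯.Finite) (hcl : ∀ T ∈ 𝒯, IsClosed T) (hsub : ∀ T ∈ 𝒯, T ⊆ F)
    (hcov : F ⊆ ⋃₀ 𝒯) (P : Set α → Prop)
    (hP : ∀ T ∈ 𝒯, ∀ T' ∈ 𝒯, (T ∩ T').Nonempty → P T → P T') {o : α} (ho : o ∈ F)
    (hPo : ∀ T ∈ 𝒯, o ∈ T → P T) : ∀ T ∈ 𝒯, T.Nonempty → P T := by
  classical
  intro T hT hne
  by_contra hnT
  obtain ⟨To, hTo, hoT⟩ := hcov ho
  have h1 : IsClosed (⋃₀ {T ∈ 𝒯 | P T}) := by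
    rw [Set.sUnion_eq_biUnion]
    exact (hfin.subset fun _ h => h.1).isClosed_biUnion fun T h => hcl T h.1
  have h2 : IsClosed (⋃₀ {T ∈ 𝒯 | ¬ P T}) := by
    rw [Set.sUnion_eq_biUnion]
    exact (hfin.subset fun _ h => h.1).isClosed_biUnion fun T h => hcl T h.1
  obtain ⟨z, -, ⟨T₁, ⟨hT₁, hP₁⟩, hz₁⟩, T₂, ⟨hT₂, hP₂⟩, hz₂⟩ :=
    isPreconnected_closed_iff.mp hF _ _ h1 h2 (fun x hx => by
      obtain ⟨S, hS, hxS⟩ := hcov hx
      by_cases h : P S
      · exact Or.inl ⟨S, ⟨hS, h⟩, hxS⟩
      · exact Or.inr ⟨S, ⟨hS, h⟩, hxS⟩)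
      ⟨o, ho, To, ⟨hTo, hPo To hTo hoT⟩, hoT⟩
      (by obtain ⟨t, ht⟩ := hne; exact ⟨t, hsub T hT ht, T, ⟨hT, hnT⟩, ht⟩)
  exact hP₂ (hP T₁ hT₁ T₂ hT₂ ⟨z, hz₁, hz₂⟩ hP₁)

lemma isClosed_connectedComponentIn {α : Type u} [TopologicalSpace α] {W : Set α} (hW : IsClosed W)
    (x : α) : IsClosed (connectedComponentIn W x) := by
  by_cases hx : x ∈ W
  · rw [connectedComponentIn_eq_image hx]
    exact hW.isClosedEmbedding_subtypeVal.isClosedMap _ isClosed_connectedComponent
  · rw [connectedComponentIn_eq_empty hx]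
    exact isClosed_empty

end Top

variable {k : Type u} [Field k]

local notation "Ov" => Over (Spec (CommRingCat.of k))
local notation "S0" => Spec (CommRingCat.of k)
local notation "cp" => IsLocalRing.closedPoint k

variable {X Y : Over (Spec (CommRingCat.of k))}

lemma one_pt (p : 𝟙_ Ov ⟶ X) (t : ↥(𝟙_ Ov).left) : p.left t = p.left cp := by
  haveI : Subsingleton ↥(𝟙_ Ov).left := inferInstanceAs (Subsingleton ↥(S0))
  exact congrArg _ (Subsingleton.elim _ _)

lemma isClosed_point [IsSeparated Y.hom] (p : 𝟙_ Ov ⟶ Y) : IsClosed ({p.left cp} : Set Y.left) := by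
  haveI : IsClosedImmersion (p.left ≫ Y.hom) := by
    rw [Over.w p]
    exact inferInstanceAs (IsClosedImmersion (𝟙 S0))
  haveI : IsClosedImmersion p.left := IsClosedImmersion.of_comp p.left Y.hom
  have h : Set.range p.left = {p.left cp} := by
    ext y
    exact ⟨fun ⟨t, ht⟩ => ht ▸ one_pt p t, fun h => ⟨cp, h.symm⟩⟩
  rw [← h]
  exact p.left.isClosedEmbedding.isClosed_range

section AlgClosed

variable [IsAlgClosed k]

lemma exists_pt [LocallyOfFiniteType X.hom] {x : X.left} (hx : IsClosed ({x} : Set X.left)) :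
    ∃ p : 𝟙_ Ov ⟶ X, p.left cp = x :=
  ⟨Over.homMk (pointOfClosedPoint X.hom x hx) (pointOfClosedPoint_comp _ x hx),
    pointOfClosedPoint_apply _ x hx _⟩

variable [GrpObj X] [IsProper X.hom] [GeometricallyIntegral X.hom] [IsSeparated Y.hom] (f : X ⟶ Y)

/-- Two points induce the same translate of the map. -/
def Rel (a b : 𝟙_ Ov ⟶ X) : Prop := ∀ y : 𝟙_ Ov ⟶ X, (y * a) ≫ f = (y * b) ≫ f

set_option backward.isDefEq.respectTransparency false in
/-- Points on an irreducible subset of the fibre over the image of the origin induce the same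
translates. -/
theorem rel_of_irreducible (T : Set X.left) (hT : IsClosed T) (hirr : IsIrreducible T)
    (hsub : T ⊆ f.left ⁻¹' {f.left (η[X].left cp)}) (a b : 𝟙_ Ov ⟶ X) (ha : a.left cp ∈ T)
    (hb : b.left cp ∈ T) : Rel f a b := by
  let I := Scheme.IdealSheafData.vanishingIdeal (⟨T, hT⟩ : TopologicalSpace.Closeds X.left)
  let Z : Ov := Over.mk (I.subschemeι ≫ X.hom)
  let j : Z ⟶ X := Over.homMk I.subschemeι rfl
  have hrange : Set.range j.left = T := by
    show Set.range I.subschemeι = T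
    rw [Scheme.IdealSheafData.range_subschemeι, Scheme.IdealSheafData.coe_support_vanishingIdeal]
    rfl
  haveI : IsClosedImmersion j.left := inferInstanceAs (IsClosedImmersion I.subschemeι)
  haveI : IsReduced Z.left := H6.RedClosed.isReduced_vanishing _
  haveI : IrreducibleSpace Z.left := by
    rw [irreducibleSpace_def]
    obtain ⟨g, hγ⟩ := QuasiSober.sober hirr hT
    obtain ⟨z, hz⟩ : g ∈ Set.range j.left := hrange ▸ hγ.mem
    have hd : Dense ({z} : Set Z.left) := fun w => by
      rw [j.left.isEmbedding.isInducing.closure_eq_preimage_closure_image, Set.image_singleton, hz]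
      show j.left w ∈ closure {g}
      rw [hγ.def, ← hrange]
      exact ⟨w, rfl⟩
    simpa [hd.closure_eq] using (isIrreducible_singleton (x := z)).closure
  haveI : IsIntegral Z.left := isIntegral_of_irreducibleSpace_of_isReduced _
  haveI : IsProper Z.hom := inferInstanceAs (IsProper (I.subschemeι ≫ X.hom))
  haveI : IsLocallyNoetherian Z.left := LocallyOfFiniteType.isLocallyNoetherian Z.hom
  haveI : IsIntegral (Z ⊗ X).left := inferInstanceAs (IsIntegral (pullback Z.hom X.hom))
  have lift_pt : ∀ p : 𝟙_ Ov ⟶ X, p.left cp ∈ T → ∃ q : 𝟙_ Ov ⟶ Z, q ≫ j = p := by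
    intro p hp
    obtain ⟨x, hx⟩ : p.left cp ∈ Set.range j.left := hrange ▸ hp
    haveI : IsSeparated X.hom := inferInstance
    have hxc : IsClosed ({x} : Set Z.left) := by
      have := (isClosed_point p).preimage j.left.continuous
      convert this using 1
      ext w
      rw [Set.mem_preimage, Set.mem_singleton_iff, Set.mem_singleton_iff, ← hx]
      exact ⟨fun h => h ▸ rfl, fun h => j.left.isEmbedding.injective h⟩
    obtain ⟨q, hq⟩ := exists_pt hxc
    refine ⟨q, Over.OverMorphism.ext ?_⟩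
    refine H8Rigidity.ext_point X.hom (Over.w (q ≫ j)) (Over.w p) ?_
    show j.left (q.left cp) = _
    exact (congrArg j.left hq).trans hx
  obtain ⟨a', rfl⟩ := lift_pt a ha
  obtain ⟨b', rfl⟩ := lift_pt b hb
  let z₀ : 𝟙_ Ov ⟶ Y := η[X] ≫ f
  have hj : j ≫ f = toUnit Z ≫ z₀ := by
    apply Over.OverMorphism.ext
    refine H8Rigidity.ext_closedPoints Z.hom Y.hom Set.univ isOpen_univ.isLocallyClosed dense_univ
      (fun x _ _ => ?_) (Over.w (j ≫ f)) (Over.w (toUnit Z ≫ z₀))
    have h1 : f.left (j.left x) = f.left (η[X].left cp) := hsub (hrange.le ⟨x, rfl⟩)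
    rw [Over.comp_left, Scheme.Hom.comp_apply, h1, Over.comp_left, Scheme.Hom.comp_apply,
      one_pt z₀]
    rfl
  let φ : Z ⊗ X ⟶ Y := (snd Z X * (fst Z X ≫ j)) ≫ f
  have hφ : lift (𝟙 Z) (toUnit Z ≫ η[X]) ≫ φ = toUnit Z ≫ z₀ := by
    show lift (𝟙 Z) (toUnit Z ≫ η[X]) ≫ (snd Z X * (fst Z X ≫ j)) ≫ f = _
    rw [← Category.assoc, MonObj.comp_mul, lift_snd, lift_fst_assoc, Category.id_comp,
      ← Hom.one_def, _root_.one_mul, hj]
  have hr := H8Rigidity.rigid_algClosed Z X Y φ b' η[X] z₀ hφ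
  intro y
  have h := congrArg (fun q => lift a' y ≫ q) hr
  simp only [φ] at h
  rw [← Category.assoc, MonObj.comp_mul, lift_snd, lift_fst_assoc, lift_snd_assoc, comp_lift_assoc,
    Category.comp_id, ← Category.assoc y, toUnit_unique (y ≫ toUnit X) (𝟙 _), Category.id_comp,
    ← Category.assoc, MonObj.comp_mul, lift_snd, lift_fst_assoc] at h
  exact h

/-- The component of the fibre containing the origin. -/
def comp₀ : Set X.left :=
  connectedComponentIn (f.left ⁻¹' {f.left (η[X].left cp)}) (η[X].left cp)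

omit [IsAlgClosed k] [IsProper X.hom] [GeometricallyIntegral X.hom] in
lemma isClosed_fibre (x : 𝟙_ Ov ⟶ X) : IsClosed (f.left ⁻¹' {f.left (x.left cp)}) := by
  have h : f.left (x.left cp) = (x ≫ f).left cp := rfl
  rw [h]
  exact (isClosed_point (x ≫ f)).preimage f.left.continuous

/-- Translating by a point of the component of the origin does not change the map. -/
theorem rel_one_of_mem (a : 𝟙_ Ov ⟶ X) (ha : a.left cp ∈ comp₀ f) :
    Rel f a (1 : 𝟙_ Ov ⟶ X) := by
  classical
  have h1 : (1 : 𝟙_ Ov ⟶ X) = η[X] := by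
    rw [Hom.one_def, toUnit_unique (toUnit (𝟙_ Ov)) (𝟙 _), Category.id_comp]
  rw [h1]
  have hF : IsClosed (comp₀ f) := isClosed_connectedComponentIn (isClosed_fibre f η[X]) _
  haveI : IsLocallyNoetherian X.left := LocallyOfFiniteType.isLocallyNoetherian X.hom
  haveI : CompactSpace X.left := QuasiCompact.compactSpace_of_compactSpace X.hom
  haveI : IsNoetherian X.left := {}
  haveI := LocallyOfFiniteType.jacobsonSpace X.hom
  obtain ⟨𝒯, hfin, hcl, hirr, hun⟩ :=
    TopologicalSpace.NoetherianSpace.exists_finite_set_isClosed_irreducible (s := comp₀ f) hF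
  have hsub : ∀ T ∈ 𝒯, T ⊆ comp₀ f := fun T hT => by
    rw [hun]; exact Set.subset_sUnion_of_mem hT
  have hpre : comp₀ f ⊆ f.left ⁻¹' {f.left (η[X].left cp)} := connectedComponentIn_subset _ _
  let P : Set X.left → Prop := fun T => ∀ p : 𝟙_ Ov ⟶ X, p.left cp ∈ T → Rel f p η[X]
  have hrefl : Rel f η[X] η[X] := fun y => rfl
  obtain ⟨T, hT, haT⟩ := hun.le ha
  refine forall_of_preconnected isPreconnected_connectedComponentIn 𝒯 hfin hcl hsub hun.le P ?_
    (mem_connectedComponentIn rfl) ?_ T hT ⟨_, haT⟩ a haT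
  · intro T₁ hT₁ T₂ hT₂ hne hP p hp
    obtain ⟨z, ⟨hz₁, hz₂⟩, hzc⟩ := nonempty_inter_closedPoints hne
      ((hcl T₁ hT₁).inter (hcl T₂ hT₂)).isLocallyClosed
    obtain ⟨c, rfl⟩ := exists_pt hzc
    intro y
    rw [rel_of_irreducible f T₂ (hcl T₂ hT₂) (hirr T₂ hT₂) ((hsub T₂ hT₂).trans hpre) p c hp hz₂ y]
    exact hP c hz₁ y
  · intro T₁ hT₁ ho p hp
    exact rel_of_irreducible f T₁ (hcl T₁ hT₁) (hirr T₁ hT₁) ((hsub T₁ hT₁).trans hpre) p η[X] hp ho

omit [IsAlgClosed k] [IsProper X.hom] [GeometricallyIntegral X.hom] in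
/-- Translation by a rational point. -/
noncomputable def trans (x : 𝟙_ Ov ⟶ X) : X ≅ X where
  hom := (toUnit X ≫ x) * 𝟙 X
  inv := (toUnit X ≫ x⁻¹) * 𝟙 X
  hom_inv_id := by
    rw [MonObj.comp_mul, ← Category.assoc, toUnit_unique (_ ≫ toUnit X) (toUnit X),
      Category.comp_id, ← _root_.mul_assoc, ← MonObj.comp_mul, inv_mul_cancel, MonObj.comp_one,
      _root_.one_mul]
  inv_hom_id := by
    rw [MonObj.comp_mul, ← Category.assoc, toUnit_unique (_ ≫ toUnit X) (toUnit X),
      Category.comp_id, ← _root_.mul_assoc, ← MonObj.comp_mul, mul_inv_cancel, MonObj.comp_one,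
      _root_.one_mul]

omit [IsAlgClosed k] [IsProper X.hom] [GeometricallyIntegral X.hom] in
lemma comp_trans (p x : 𝟙_ Ov ⟶ X) : p ≫ (trans x).hom = x * p := by
  show p ≫ ((toUnit X ≫ x) * 𝟙 X) = _
  rw [MonObj.comp_mul, ← Category.assoc, toUnit_unique (p ≫ toUnit X) (𝟙 _), Category.id_comp,
    Category.comp_id]

/-- The translate of the component at the origin lies in the component at the point. -/
theorem image_trans_subset (x : 𝟙_ Ov ⟶ X) :
    (trans x).hom.left '' comp₀ f ⊆
      connectedComponentIn (f.left ⁻¹' {f.left (x.left cp)}) (x.left cp) := by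
  have horg : η[X].left cp ∈ comp₀ f := mem_connectedComponentIn rfl
  haveI := LocallyOfFiniteType.jacobsonSpace X.hom
  have hFc : IsClosed (comp₀ f) := isClosed_connectedComponentIn (isClosed_fibre f η[X]) _
  have h1 : ∀ p : 𝟙_ Ov ⟶ X, p.left cp ∈ comp₀ f →
      f.left ((trans x).hom.left (p.left cp)) = f.left (x.left cp) := fun p hp => by
    have h := rel_one_of_mem f p hp x
    rw [_root_.mul_one] at h
    rw [← comp_trans p x, Category.assoc] at h
    exact congrArg (fun q : 𝟙_ Ov ⟶ Y => q.left cp) h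
  have h2 : comp₀ f ⊆ (trans x).hom.left ⁻¹' (f.left ⁻¹' {f.left (x.left cp)}) := by
    rw [← JacobsonSpace.closure_inter_closedPoints_eq_closure hFc.isLocallyClosed |>.trans
      hFc.closure_eq]
    refine closure_minimal ?_ ((isClosed_fibre f x).preimage (trans x).hom.left.continuous)
    rintro z ⟨hz, hzc⟩
    obtain ⟨p, rfl⟩ := exists_pt hzc
    exact h1 p hz
  refine IsPreconnected.subset_connectedComponentIn ?_ ?_ (Set.image_subset_iff.mpr h2)
  · exact isPreconnected_connectedComponentIn.image _ (trans x).hom.left.continuous.continuousOn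
  · refine ⟨η[X].left cp, horg, ?_⟩
    show ((η[X] ≫ (trans x).hom).left) cp = _
    rw [comp_trans, ← Category.id_comp η[X], toUnit_unique (𝟙 (𝟙_ Ov)) (toUnit _), ← Hom.one_def,
      _root_.mul_one]

/-- The component at a point is the translate of the component at the origin. -/
theorem image_trans_eq (x : 𝟙_ Ov ⟶ X) :
    (trans x).hom.left '' comp₀ f =
      connectedComponentIn (f.left ⁻¹' {f.left (x.left cp)}) (x.left cp) := by
  refine Set.Subset.antisymm (image_trans_subset f x) ?_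
  let f' : X ⟶ Y := (trans x).hom ≫ f
  have hη : (η[X] ≫ (trans x).hom) = x := by
    rw [comp_trans, ← Category.id_comp η[X], toUnit_unique (𝟙 (𝟙_ Ov)) (toUnit _), ← Hom.one_def,
      _root_.mul_one]
  have ho : (trans x).hom.left (η[X].left cp) = x.left cp := congrArg (fun q : 𝟙_ Ov ⟶ X => q.left cp) hη
  have key := image_trans_subset f' x⁻¹
  have hpt : f'.left ((x⁻¹ : 𝟙_ Ov ⟶ X).left cp) = f.left (η[X].left cp) := by
    show ((x⁻¹ ≫ (trans x).hom ≫ f).left) cp = _
    rw [← Category.assoc, comp_trans, mul_inv_cancel, Hom.one_def,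
      toUnit_unique (toUnit (𝟙_ Ov)) (𝟙 _), Category.id_comp]
    rfl
  have e := comp₀_map f x
  rw [e] at key
  intro z hz
  obtain ⟨w, rfl⟩ := (trans x).hom.left.surjective z
  refine ⟨w, ?_, rfl⟩
  have hw := key ⟨w, hz, rfl⟩
  have hi : (trans x⁻¹).hom = (trans x).inv := rfl
  rw [hi] at hw
  have hcomm : ∀ v : X.left, (trans x).hom.left ((trans x).inv.left v) = v := fun v => by
    rw [← Scheme.Hom.comp_apply, ← Over.comp_left, Iso.inv_hom_id]; rfl
  have h3 : connectedComponentIn (f'.left ⁻¹' {f'.left ((x⁻¹ : 𝟙_ Ov ⟶ X).left cp)})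
      ((x⁻¹ : 𝟙_ Ov ⟶ X).left cp) ⊆ (trans x).hom.left ⁻¹' comp₀ f := by
    rw [← Set.image_subset_iff]
    refine IsPreconnected.subset_connectedComponentIn
      (isPreconnected_connectedComponentIn.image _ (trans x).hom.left.continuous.continuousOn) ?_ ?_
    · refine ⟨_, mem_connectedComponentIn rfl, ?_⟩
      show ((x⁻¹ ≫ (trans x).hom).left) cp = _
      rw [comp_trans, mul_inv_cancel, Hom.one_def, toUnit_unique (toUnit (𝟙_ Ov)) (𝟙 _),
        Category.id_comp]
    · rintro _ ⟨v, hv, rfl⟩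
      have := connectedComponentIn_subset _ _ hv
      exact (this : f'.left v = _).trans hpt
  have h4 := h3 hw
  rw [Set.mem_preimage, hcomm] at h4
  exact h4
where
  comp₀_map (f : X ⟶ Y) (x : 𝟙_ Ov ⟶ X) :
      comp₀ ((trans x).hom ≫ f) = (trans x).hom.left ⁻¹'
        connectedComponentIn (f.left ⁻¹' {f.left (x.left cp)}) (x.left cp) := by
    let e := (Scheme.forgetToTop.mapIso ((Over.forget _).mapIso (trans x)))
    let H : X.left ≃ₜ X.left := TopCat.homeoOfIso e
    have hη : (η[X] ≫ (trans x).hom) = x := by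
      rw [comp_trans, ← Category.id_comp η[X], toUnit_unique (𝟙 (𝟙_ Ov)) (toUnit _), ← Hom.one_def,
        _root_.mul_one]
    have ho : H (η[X].left cp) = x.left cp := congrArg (fun q : 𝟙_ Ov ⟶ X => q.left cp) hη
    show connectedComponentIn (H ⁻¹' (f.left ⁻¹' {f.left (H (η[X].left cp))})) (η[X].left cp) = H ⁻¹' _
    rw [ho]
    have := H.image_connectedComponentIn (s := H ⁻¹' (f.left ⁻¹' {f.left (x.left cp)}))
      (x := η[X].left cp) (congrArg f.left ho)
    rw [Set.image_preimage_eq _ H.surjective, ho] at this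
    rw [← this, Set.preimage_image_eq _ H.injective]

end AlgClosed

end Groth.Agent.H8FibreTrans
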