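import Mathlib
import Groth.Agent.Lib.H8FibreTrans

/-!
# Components of fibres and base change to an algebraic closure
-/

set_option autoImplicit false

universe u

open CategoryTheory Limits AlgebraicGeometry MonoidalCategory CartesianMonoidalCategory
open scoped MonObj CategoryTheory.Obj

namespace Groth.Agent.H8FibreBC

section Top

/-- The image of a component of the preimage under an open closed surjection is the component. -/
lemma image_connectedComponentIn {α β : Type u} [TopologicalSpace α] [TopologicalSpace β]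
    [TopologicalSpace.NoetherianSpace α] (π : α → β) (hc : Continuous π) (ho : IsOpenMap π)
    (hcl : IsClosedMap π) (W : Set β) (hW : IsClosed W) (p : α) (hp : π p ∈ W) :
    π '' connectedComponentIn (π ⁻¹' W) p = connectedComponentIn W (π p) := by
  classical
  let C := connectedComponentIn (π ⁻¹' W) p
  have hC : IsClosed C := H8FibreTrans.isClosed_connectedComponentIn (hW.preimage hc) p
  have hCW : C ⊆ π ⁻¹' W := connectedComponentIn_subset _ _
  have hpC : p ∈ C := mem_connectedComponentIn hp
  refine Set.Subset.antisymm (IsPreconnected.subset_connectedComponentIn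
    (isPreconnected_connectedComponentIn.image _ hc.continuousOn) ⟨p, hpC, rfl⟩
    (Set.image_subset_iff.mpr hCW)) ?_
  obtain ⟨𝒯, hfin, hTcl, hirr, hun⟩ :=
    TopologicalSpace.NoetherianSpace.exists_finite_set_isClosed_irreducible (s := π ⁻¹' W)
      (hW.preimage hc)
  let O : Set α := (⋃₀ {T ∈ 𝒯 | ¬ (T ∩ C).Nonempty})ᶜ
  have hO : IsOpen O := by
    refine IsClosed.isOpen_compl (self := ?_)
    rw [Set.sUnion_eq_biUnion]
    exact (hfin.subset fun _ h => h.1).isClosed_biUnion fun T h => hTcl T h.1
  have hCO : π ⁻¹' W ∩ O = C := by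
    ext v
    constructor
    · rintro ⟨hv, hvO⟩
      obtain ⟨T, hT, hvT⟩ := hun.le hv
      obtain ⟨c, hcT, hcC⟩ : (T ∩ C).Nonempty := by
        by_contra h
        exact hvO ⟨T, ⟨hT, h⟩, hvT⟩
      have hsub : T ∪ C ⊆ C := by
        refine IsPreconnected.subset_connectedComponentIn ?_ (Or.inr hpC)
          (Set.union_subset (hun ▸ Set.subset_sUnion_of_mem hT) hCW)
        exact (hirr T hT).isPreirreducible.isPreconnected.union c hcT hcC
          isPreconnected_connectedComponentIn
      exact hsub (Or.inl hvT)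
    · intro hv
      refine ⟨hCW hv, ?_⟩
      rintro ⟨T, ⟨-, h⟩, hvT⟩
      exact h ⟨v, hvT, hv⟩
  have himg : W ∩ π '' O = π '' C := by
    rw [← hCO, ← Set.image_preimage_inter]
  intro w hw
  by_contra hwC
  obtain ⟨z, hz, ⟨hz₁, hz₂⟩⟩ := (isPreconnected_connectedComponentIn (F := W) (x := π p))
    (π '' O) (π '' C)ᶜ (ho _ hO) (hcl C hC).isOpen_compl (fun z hz => by
      by_cases h : z ∈ π '' C
      · exact Or.inl (himg.ge h).2
      · exact Or.inr h)
    ⟨π p, mem_connectedComponentIn hp, (himg.ge ⟨p, hpC, rfl⟩).2⟩ ⟨w, hw, hwC⟩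
  exact hz₂ (himg.le ⟨connectedComponentIn_subset _ _ hz, hz₁⟩)

end Top

variable {k : Type u} [Field k]

local notation "Ov" => Over (Spec (CommRingCat.of k))
local notation "S0" => Spec (CommRingCat.of k)
local notation "cp" => IsLocalRing.closedPoint k
local notation "KK" => AlgebraicClosure k

/-- The base change map. -/
noncomputable abbrev toS0 : Spec (CommRingCat.of KK) ⟶ Spec (CommRingCat.of k) :=
  Spec.map (CommRingCat.ofHom (algebraMap k KK))

instance isIntegralHom_toS0 : IsIntegralHom (toS0 (k := k)) :=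
  IsIntegralHom.SpecMap_iff.mpr (algebraMap_isIntegral_iff.mpr inferInstance)

/-- Base change to the algebraic closure. -/
noncomputable abbrev F : Over (Spec (CommRingCat.of k)) ⥤ Over (Spec (CommRingCat.of KK)) :=
  Over.pullback toS0

/-- The projection from the base change. -/
noncomputable abbrev proj (X : Ov) : (F.obj X).left ⟶ X.left := pullback.fst X.hom toS0

lemma proj_naturality {X Y : Ov} (f : X ⟶ Y) (v : ↥(F.obj X).left) :
    proj Y ((F.map f).left v) = f.left (proj X v) := by
  rw [← Scheme.Hom.comp_apply, show (F.map f).left ≫ proj Y = proj X ≫ f.left from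
    pullback.lift_fst _ _ _, Scheme.Hom.comp_apply]

/-- The base change of a rational point. -/
noncomputable def bcPt {X : Ov} (x : 𝟙_ Ov ⟶ X) : 𝟙_ (Over (Spec (CommRingCat.of KK))) ⟶ F.obj X :=
  Functor.LaxMonoidal.ε F ≫ F.map x

lemma proj_bcPt {X : Ov} (x : 𝟙_ Ov ⟶ X) :
    proj X ((bcPt x).left (IsLocalRing.closedPoint KK)) = x.left cp := by
  rw [bcPt, Over.comp_left, Scheme.Hom.comp_apply, proj_naturality, H8FibreTrans.one_pt]

set_option backward.isDefEq.respectTransparency false in
lemma eq_bcPt {Y : Ov} (y : 𝟙_ Ov ⟶ Y) (v : ↥(F.obj Y).left) (hv : proj Y v = y.left cp) :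
    v = (bcPt y).left (IsLocalRing.closedPoint KK) := by
  have hb : IsPullback (F.map y).left (proj (𝟙_ Ov)) (proj Y) y.left := by
    refine IsPullback.of_right ?_ (pullback.lift_fst _ _ _)
      (IsPullback.of_hasPullback Y.hom toS0).flip
    rw [show (F.map y).left ≫ pullback.snd Y.hom toS0 = pullback.snd (𝟙_ Ov).hom toS0 from
      Over.w (F.map y), Over.w y]
    exact (IsPullback.of_hasPullback (𝟙_ Ov).hom toS0).flip
  obtain ⟨w, hw, -⟩ := Scheme.exists_preimage_of_isPullback hb v cp hv
  haveI : Subsingleton ↥((Over.forget (Spec (CommRingCat.of KK))).obj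
      (𝟙_ (Over (Spec (CommRingCat.of KK))))) :=
    inferInstanceAs (Subsingleton ↥(Spec (CommRingCat.of KK)))
  haveI : Subsingleton ↥(F.obj (𝟙_ Ov)).left :=
    ((Over.forget _).mapIso (Functor.Monoidal.εIso F)).symm.hom.homeomorph.injective.subsingleton
  rw [← hw, bcPt, Over.comp_left, Scheme.Hom.comp_apply]
  exact congrArg _ (Subsingleton.elim _ _)

variable (X Y : Over (Spec (CommRingCat.of k))) [GrpObj X] [IsProper X.hom]
  [GeometricallyIntegral X.hom] [IsSeparated Y.hom] (f : X ⟶ Y)

lemma fibre_eq (x : 𝟙_ Ov ⟶ X) :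
    (F.map f).left ⁻¹' {(F.map f).left ((bcPt x).left (IsLocalRing.closedPoint KK))} =
      proj X ⁻¹' (f.left ⁻¹' {f.left (x.left cp)}) := by
  have e : (F.map f).left ((bcPt x).left (IsLocalRing.closedPoint KK)) =
      (bcPt (x ≫ f)).left (IsLocalRing.closedPoint KK) := by
    rw [bcPt, bcPt, F.map_comp, ← Category.assoc]
    rfl
  ext v
  simp only [Set.mem_preimage, Set.mem_singleton_iff]
  constructor
  · intro h
    rw [← proj_naturality, h, e, proj_bcPt]
    rfl
  · intro h
    rw [e]
    exact eq_bcPt (x ≫ f) _ ((proj_naturality f v).trans h)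

lemma image_component (x : 𝟙_ Ov ⟶ X) :
    proj X '' connectedComponentIn
        ((F.map f).left ⁻¹' {(F.map f).left ((bcPt x).left (IsLocalRing.closedPoint KK))})
        ((bcPt x).left (IsLocalRing.closedPoint KK)) =
      connectedComponentIn (f.left ⁻¹' {f.left (x.left cp)}) (x.left cp) := by
  haveI : IsProper (F.obj X).hom := MorphismProperty.pullback_snd _ _ ‹IsProper X.hom›
  haveI : IsLocallyNoetherian (F.obj X).left :=
    LocallyOfFiniteType.isLocallyNoetherian (F.obj X).hom
  haveI : CompactSpace (F.obj X).left := QuasiCompact.compactSpace_of_compactSpace (F.obj X).hom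
  haveI : IsNoetherian (F.obj X).left := {}
  haveI : UniversallyOpen (proj X) := inferInstance
  haveI : IsIntegralHom (proj X) := inferInstance
  rw [fibre_eq, image_connectedComponentIn (proj X) (proj X).continuous (proj X).isOpenMap
    (proj X).isClosedMap _ (H8FibreTrans.isClosed_fibre f x) _ (by rw [proj_bcPt]; rfl), proj_bcPt]

/-- The component at a point is the translate of the component at the origin. -/
theorem image_trans_eq (x : 𝟙_ Ov ⟶ X) :
    (H8FibreTrans.trans x).hom.left ''
        connectedComponentIn (f.left ⁻¹' {f.left (η[X].left cp)}) (η[X].left cp) =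
      connectedComponentIn (f.left ⁻¹' {f.left (x.left cp)}) (x.left cp) := by
  haveI : IsProper (F.obj X).hom := MorphismProperty.pullback_snd _ _ ‹IsProper X.hom›
  haveI : GeometricallyIntegral (F.obj X).hom :=
    MorphismProperty.pullback_snd _ _ ‹GeometricallyIntegral X.hom›
  haveI : IsSeparated (F.obj Y).hom := MorphismProperty.pullback_snd _ _ ‹IsSeparated Y.hom›
  letI : GrpObj (F.obj X) := Functor.grpObjObj
  have hη : bcPt η[X] = η[F.obj X] := rfl
  have htr : F.map (H8FibreTrans.trans x).hom = (H8FibreTrans.trans (bcPt x)).hom := by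
    show F.map ((toUnit X ≫ x) * 𝟙 X) = (toUnit (F.obj X) ≫ bcPt x) * 𝟙 (F.obj X)
    rw [Functor.map_mul, CategoryTheory.Functor.map_id, bcPt, ← Category.assoc,
      Functor.Monoidal.toUnit_ε, ← F.map_comp]
  rw [← image_component X Y f η[X], ← image_component X Y f x, hη,
    ← H8FibreTrans.image_trans_eq (F.map f) (bcPt x), Set.image_image, Set.image_image]
  refine Set.image_congr' fun v => ?_
  rw [← htr, proj_naturality]

end Groth.Agent.H8FibreBC
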