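import Mathlib
import Groth.Prelude.Def_HopfRep
import Groth.Prelude.Def_GLin

/-!
# Invariants of finite group schemes
-/

set_option autoImplicit false

universe u v w w'

open TensorProduct WithConv Polynomial

namespace Groth.Agent.H8FinInv

variable {k : Type u} [Field k] {A : Type v} [CommRing A] [HopfAlgebra k A]

section Shear

variable {T : Type w} [CommRing T] [Algebra k T]

/-- Translation of the trivial torsor by a point. -/
noncomputable def shear (t : WithConv (A →ₐ[k] T)) : T ⊗[k] A →ₐ[T] T ⊗[k] A :=
  Algebra.TensorProduct.lift (Algebra.ofId T _)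
    (toConv ((Algebra.TensorProduct.includeLeft : T →ₐ[k] T ⊗[k] A).comp t.ofConv) *
      toConv (Algebra.TensorProduct.includeRight : A →ₐ[k] T ⊗[k] A)).ofConv
    fun _ _ => Commute.all _ _

lemma shear_tmul (t : WithConv (A →ₐ[k] T)) (x : T) (a : A) :
    shear t (x ⊗ₜ[k] a) = (x ⊗ₜ[k] (1 : A)) *
      (toConv ((Algebra.TensorProduct.includeLeft : T →ₐ[k] T ⊗[k] A).comp t.ofConv) *
        toConv (Algebra.TensorProduct.includeRight : A →ₐ[k] T ⊗[k] A)).ofConv a :=
  Algebra.TensorProduct.lift_tmul _ _ _ x a

lemma shear_incl (t : WithConv (A →ₐ[k] T)) :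
    ((shear t).restrictScalars k).comp Algebra.TensorProduct.includeLeft =
      (Algebra.TensorProduct.includeLeft : T →ₐ[k] T ⊗[k] A) :=
  AlgHom.ext fun c => (shear_tmul t c 1).trans (by
    rw [map_one, mul_one]
    rfl)

lemma shear_right (t : WithConv (A →ₐ[k] T)) :
    ((shear t).restrictScalars k).comp Algebra.TensorProduct.includeRight =
      (toConv ((Algebra.TensorProduct.includeLeft : T →ₐ[k] T ⊗[k] A).comp t.ofConv) *
        toConv (Algebra.TensorProduct.includeRight : A →ₐ[k] T ⊗[k] A)).ofConv :=
  AlgHom.ext fun a => (shear_tmul t 1 a).trans (by rw [← Algebra.TensorProduct.one_def, one_mul])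

lemma shear_shear (s t : WithConv (A →ₐ[k] T)) (z : T ⊗[k] A) :
    shear s (shear t z) = shear (t * s) z := by
  suffices h : (shear s).comp (shear t) = shear (t * s) from AlgHom.congr_fun h z
  refine Algebra.TensorProduct.ext (by ext) (AlgHom.ext fun a => ?_)
  show shear s (shear t ((1 : T) ⊗ₜ[k] a)) = shear (t * s) ((1 : T) ⊗ₜ[k] a)
  rw [show shear t ((1 : T) ⊗ₜ[k] a) = _ from AlgHom.congr_fun (shear_right t) a,
    show shear (t * s) ((1 : T) ⊗ₜ[k] a) = _ from AlgHom.congr_fun (shear_right (t * s)) a]
  refine (AlgHom.congr_fun (AlgHom.comp_convMul_distrib ((shear s).restrictScalars k) _ _) a).trans ?_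
  have e1 : toConv (((shear s).restrictScalars k).comp (toConv
      ((Algebra.TensorProduct.includeLeft : T →ₐ[k] T ⊗[k] A).comp t.ofConv)).ofConv) =
      toConv ((Algebra.TensorProduct.includeLeft : T →ₐ[k] T ⊗[k] A).comp t.ofConv) := by
    refine WithConv.ofConv_injective ?_
    show ((shear s).restrictScalars k).comp (Algebra.TensorProduct.includeLeft.comp t.ofConv) = _
    rw [← AlgHom.comp_assoc, shear_incl]
  have e2 : toConv (((shear s).restrictScalars k).comp (toConv
      (Algebra.TensorProduct.includeRight : A →ₐ[k] T ⊗[k] A)).ofConv) = _ :=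
    WithConv.ofConv_injective (shear_right s)
  rw [e1, e2, ← mul_assoc]
  congr 1
  congr 1
  congr 1
  exact (WithConv.ofConv_injective
    (AlgHom.comp_convMul_distrib (Algebra.TensorProduct.includeLeft : T →ₐ[k] T ⊗[k] A) t s)).symm

lemma shear_one (z : T ⊗[k] A) : shear (1 : WithConv (A →ₐ[k] T)) z = z := by
  suffices h : shear (1 : WithConv (A →ₐ[k] T)) = AlgHom.id T _ from AlgHom.congr_fun h z
  refine Algebra.TensorProduct.ext (by ext) (AlgHom.ext fun a => ?_)
  refine (AlgHom.congr_fun (shear_right 1) a).trans ?_
  rw [show toConv ((Algebra.TensorProduct.includeLeft : T →ₐ[k] T ⊗[k] A).comp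
      (1 : WithConv (A →ₐ[k] T)).ofConv) = 1 from
    WithConv.ofConv_injective (AlgHom.ext fun c =>
      (Algebra.TensorProduct.includeLeft (R := k) (A := T) (B := A) (S := k)).commutes _), one_mul]
  rfl

/-- The inverse of a point. -/
noncomputable def inv (t : WithConv (A →ₐ[k] T)) : WithConv (A →ₐ[k] T) :=
  toConv (t.ofConv.comp (HopfAlgebra.antipodeAlgHom k A))

lemma inv_mul (t : WithConv (A →ₐ[k] T)) : inv t * t = 1 := by
  refine WithConv.ofConv_injective (AlgHom.ext fun c => ?_)
  show Algebra.TensorProduct.lmul' k (Algebra.TensorProduct.map (t.ofConv.comp (HopfAlgebra.antipodeAlgHom k A))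
    t.ofConv (CoalgebraStruct.comul (R := k) c)) = algebraMap k T (CoalgebraStruct.counit (R := k) c)
  have h : ∀ z : A ⊗[k] A, Algebra.TensorProduct.lmul' k
      (Algebra.TensorProduct.map (t.ofConv.comp (HopfAlgebra.antipodeAlgHom k A)) t.ofConv z) =
      t.ofConv (LinearMap.mul' k A ((HopfAlgebraStruct.antipode k).rTensor A z)) := by
    intro z
    induction z using TensorProduct.induction_on with
    | zero => simp
    | add p q hp hq => simp only [map_add, hp, hq]
    | tmul a b => simp
  rw [h, HopfAlgebra.mul_antipode_rTensor_comul_apply, AlgHom.commutes]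

lemma mul_inv (t : WithConv (A →ₐ[k] T)) : t * inv t = 1 := by
  refine WithConv.ofConv_injective (AlgHom.ext fun c => ?_)
  show Algebra.TensorProduct.lmul' k (Algebra.TensorProduct.map t.ofConv
    (t.ofConv.comp (HopfAlgebra.antipodeAlgHom k A)) (CoalgebraStruct.comul (R := k) c)) =
      algebraMap k T (CoalgebraStruct.counit (R := k) c)
  have h : ∀ z : A ⊗[k] A, Algebra.TensorProduct.lmul' k
      (Algebra.TensorProduct.map t.ofConv (t.ofConv.comp (HopfAlgebra.antipodeAlgHom k A)) z) =
      t.ofConv (LinearMap.mul' k A ((HopfAlgebraStruct.antipode k).lTensor A z)) := by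
    intro z
    induction z using TensorProduct.induction_on with
    | zero => simp
    | add p q hp hq => simp only [map_add, hp, hq]
    | tmul a b => simp
  rw [h, HopfAlgebra.mul_antipode_lTensor_comul_apply, AlgHom.commutes]

/-- The shear as an automorphism. -/
noncomputable def shearEquiv (t : WithConv (A →ₐ[k] T)) : T ⊗[k] A ≃ₐ[T] T ⊗[k] A :=
  AlgEquiv.ofAlgHom (shear t) (shear (inv t))
    (AlgHom.ext fun z => by rw [AlgHom.comp_apply, shear_shear, inv_mul, shear_one]; rfl)
    (AlgHom.ext fun z => by rw [AlgHom.comp_apply, shear_shear, mul_inv, shear_one]; rfl)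

lemma charpoly_shear [Module.Finite k A] (t : WithConv (A →ₐ[k] T)) (x : T ⊗[k] A) :
    (Algebra.lmul T (T ⊗[k] A) (shear t x)).charpoly = (Algebra.lmul T (T ⊗[k] A) x).charpoly := by
  rw [← LinearEquiv.charpoly_conj (shearEquiv t).toLinearEquiv (Algebra.lmul T (T ⊗[k] A) x)]
  congr 1
  refine LinearMap.ext fun y => ?_
  show shear t x * y = shearEquiv t (x * (shearEquiv t).symm y)
  rw [map_mul, AlgEquiv.apply_symm_apply]
  rfl

end Shear

variable [Module.Finite k A]

lemma charpoly_map {R : Type w} [CommRing R] [Algebra k R] {T : Type w'} [CommRing T] [Algebra k T]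
    (g : R →ₐ[k] T) (φ : R ⊗[k] A) :
    (Algebra.lmul R (R ⊗[k] A) φ).charpoly.map (g : R →+* T) =
      (Algebra.lmul T (T ⊗[k] A) (Algebra.TensorProduct.map g (AlgHom.id k A) φ)).charpoly := by
  classical
  let b₀ := Module.finBasis k A
  let b := b₀.baseChange R
  let b' := b₀.baseChange T
  rw [← LinearMap.charpoly_toMatrix _ b, ← LinearMap.charpoly_toMatrix _ b', ← Matrix.charpoly_map]
  congr 1
  refine Matrix.ext fun i j => ?_
  rw [Matrix.map_apply, LinearMap.toMatrix_apply, LinearMap.toMatrix_apply]
  have key : ∀ z : R ⊗[k] A, g (b.repr z i) = b'.repr (Algebra.TensorProduct.map g (AlgHom.id k A) z) i := by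
    intro z
    induction z using TensorProduct.induction_on with
    | zero => simp
    | add p q hp hq => simp only [map_add, Finsupp.add_apply, hp, hq]
    | tmul r a =>
      rw [Algebra.TensorProduct.map_tmul, Module.Basis.baseChange_repr_tmul, Module.Basis.baseChange_repr_tmul,
        map_smul]
      rfl
  show g (b.repr (φ * b j) i) = b'.repr (Algebra.TensorProduct.map g (AlgHom.id k A) φ * b' j) i
  rw [key, map_mul, Module.Basis.baseChange_apply, Module.Basis.baseChange_apply, Algebra.TensorProduct.map_tmul,
    map_one, AlgHom.id_apply]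

variable {R : Type w} [CommRing R] [Algebra k R] [HopfRep.Comod k A R] [GLin.IsCoactAlg k A R]

/-- Every element is integral over the invariants. -/
theorem isIntegral_invariants (f : R) : IsIntegral ↥(GLin.invariants k A R) f := by
  classical
  let S := R ⊗[k] A
  let φ : S := HopfRep.Comod.coact (k := k) (A := A) f
  let χ := (Algebra.lmul R S φ).charpoly
  let gl : R →ₐ[k] S := Algebra.TensorProduct.includeLeft
  let gc : R →ₐ[k] S := GLin.coactAlgHom k A R
  let t : WithConv (A →ₐ[k] S) := toConv Algebra.TensorProduct.includeRight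
  have hrt : Algebra.TensorProduct.map gc (AlgHom.id k A) φ = shear t (Algebra.TensorProduct.map gl (AlgHom.id k A) φ) := by
    have hco := LinearMap.congr_fun (HopfRep.Comod.coassoc (k := k) (A := A) (V := R)) f
    simp only [LinearMap.comp_apply, LinearEquiv.coe_coe] at hco
    have e1 : ∀ z : S, Algebra.TensorProduct.map gc (AlgHom.id k A) z =
        (HopfRep.Comod.coact (k := k) (A := A) (V := R)).rTensor A z := by
      intro z
      induction z using TensorProduct.induction_on with
      | zero => simp
      | add p q hp hq => simp only [map_add, hp, hq]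
      | tmul r a => rfl
    have e2 : ∀ z : S, shear t (Algebra.TensorProduct.map gl (AlgHom.id k A) z) =
        (TensorProduct.assoc k R A A).symm ((CoalgebraStruct.comul (R := k) (A := A)).lTensor R z) := by
      intro z
      induction z using TensorProduct.induction_on with
      | zero => simp
      | add p q hp hq => simp only [map_add, hp, hq]
      | tmul r a =>
        rw [Algebra.TensorProduct.map_tmul, AlgHom.id_apply, shear_tmul, LinearMap.lTensor_tmul]
        show (gl r ⊗ₜ[k] (1 : A)) * Algebra.TensorProduct.lmul' k (Algebra.TensorProduct.map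
          ((Algebra.TensorProduct.includeLeft : S →ₐ[k] S ⊗[k] A).comp Algebra.TensorProduct.includeRight)
          (Algebra.TensorProduct.includeRight : A →ₐ[k] S ⊗[k] A) (CoalgebraStruct.comul (R := k) a)) = _
        generalize CoalgebraStruct.comul (R := k) a = w
        induction w using TensorProduct.induction_on with
        | zero => simp
        | add p q hp hq => simp only [map_add, tmul_add, mul_add, hp, hq]
        | tmul p q => simp [gl, S]
    rw [e1, e2]
    apply (TensorProduct.assoc k R A A).injective
    rw [LinearEquiv.apply_symm_apply]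
    exact hco
  have hχ : χ.map (gc : R →+* S) = χ.map (gl : R →+* S) := by
    rw [charpoly_map gc, charpoly_map gl, hrt, charpoly_shear]
  have hcoef : ∀ n, χ.coeff n ∈ GLin.invariants k A R := by
    intro n
    have h := congrArg (fun p => p.coeff n) hχ
    simp only [Polynomial.coeff_map] at h
    exact h
  let Θ : S →ₐ[R] R := Algebra.TensorProduct.lift (AlgHom.id R R)
    ((Algebra.ofId k R).comp (Bialgebra.counitAlgHom k A)) fun _ _ => Commute.all _ _
  have hΘ : Θ φ = f := by
    have hc := LinearMap.congr_fun (HopfRep.Comod.counit_comp (k := k) (A := A) (V := R)) f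
    have e : ∀ z : S, Θ z = TensorProduct.rid k R ((CoalgebraStruct.counit (R := k) (A := A)).lTensor R z) := by
      intro z
      induction z using TensorProduct.induction_on with
      | zero => simp
      | add p q hp hq => simp only [map_add, hp, hq]
      | tmul r a =>
        refine (Algebra.TensorProduct.lift_tmul _ _ _ r a).trans ?_
        simp [Algebra.smul_def, mul_comm, Algebra.ofId_apply]
    rw [e]
    rw [LinearMap.comp_apply] at hc
    rw [hc]
    simp
  have hroot : Polynomial.aeval f χ = 0 := by
    rw [← hΘ, Polynomial.aeval_algHom_apply, Algebra.aeval_self_charpoly_lmul, map_zero]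
  obtain ⟨q, hq, -, hqm⟩ := Polynomial.lifts_and_natDegree_eq_and_monic
    (f := algebraMap ↥(GLin.invariants k A R) R) (p := χ)
    ((Polynomial.lifts_iff_coeff_lifts _).mpr fun n => ⟨⟨_, hcoef n⟩, rfl⟩) (LinearMap.charpoly_monic _)
  refine ⟨q, hqm, ?_⟩
  rw [← Polynomial.eval_map, hq, ← Polynomial.coe_aeval_eq_eval]
  simpa [Polynomial.aeval_def] using hroot

/-- Invariants are finitely generated and the algebra is finite over them. -/
theorem finiteType_and_finite [Algebra.FiniteType k R] :
    Algebra.FiniteType k ↥(GLin.invariants k A R) ∧ Module.Finite ↥(GLin.invariants k A R) R := by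
  let I := GLin.invariants k A R
  haveI : Algebra.IsIntegral ↥I R := ⟨isIntegral_invariants⟩
  haveI : Algebra.FiniteType ↥I R := Algebra.FiniteType.of_restrictScalars_finiteType k _ _
  haveI hfin : Module.Finite ↥I R := Algebra.IsIntegral.finite
  refine ⟨⟨fg_of_fg_of_fg k ↥I R Algebra.FiniteType.out hfin.fg_top Subtype.val_injective⟩, hfin⟩

end Groth.Agent.H8FinInv
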