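import Mathlib
import Groth.Agent.Lib.H2LocalCrit
import Groth.Agent.Lib.H8Mult

/-!
# Flatness at the closed fibre along a change of base
-/

set_option autoImplicit false
set_option linter.all false
set_option synthInstance.maxHeartbeats 100000

universe u

open TensorProduct

namespace Groth.Agent.H8FlatDescent

lemma _root_.IsLocalization.isLocalization_of_submonoid_le_aux {A B : Type u} [CommRing A] [CommRing B] [Algebra A B]
    {p q : Ideal A} [p.IsPrime] [q.IsPrime] (h : p = q) (hB : IsLocalization.AtPrime B p) : IsLocalization.AtPrime B q := by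
  subst h; exact hB

open IsLocalRing

variable {R₁ : Type u} [CommRing R₁] [IsLocalRing R₁]
variable {C₁ : Type u} [CommRing C₁] [Algebra R₁ C₁]
variable (R' : Type u) [CommRing R'] [Algebra R₁ R']

/-- The extension of the maximal ideal. -/
abbrev mI : Ideal R' := (maximalIdeal R₁).map (algebraMap R₁ R')

/-- The maximal ideal mapped into its extension. -/
noncomputable def inI : maximalIdeal R₁ →ₗ[R₁] mI (R₁ := R₁) R' where
  toFun a := ⟨algebraMap R₁ R' a, Ideal.mem_map_of_mem _ a.2⟩
  map_add' a b := Subtype.ext (by simp)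
  map_smul' c a := Subtype.ext (by simp [Algebra.smul_def])

@[simp] lemma inI_coe (a : maximalIdeal R₁) : ((inI (R₁ := R₁) R' a : mI (R₁ := R₁) R') : R') = algebraMap R₁ R' a :=
  rfl

variable (C₁) in
/-- Elements of `C₁ ⊗ 𝔪` pushed to the base change. -/
noncomputable def push : C₁ ⊗[R₁] maximalIdeal R₁ →ₗ[R₁] (R' ⊗[R₁] C₁) ⊗[R'] mI (R₁ := R₁) R' :=
  TensorProduct.lift (LinearMap.mk₂ R₁ (fun c a => ((1 : R') ⊗ₜ[R₁] c) ⊗ₜ[R'] inI R' a)
    (fun c c' a => by rw [tmul_add, add_tmul])
    (fun r c a => by rw [tmul_smul, ← smul_tmul'])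
    (fun c a a' => by rw [map_add, tmul_add])
    (fun r c a => by rw [map_smul, tmul_smul]))

@[simp] lemma push_tmul (c : C₁) (a : maximalIdeal R₁) :
    push C₁ R' (c ⊗ₜ[R₁] a) = ((1 : R') ⊗ₜ[R₁] c) ⊗ₜ[R'] inI R' a := rfl

lemma push_smul (c : C₁) (k : C₁ ⊗[R₁] maximalIdeal R₁) :
    push C₁ R' (c • k) = ((1 : R') ⊗ₜ[R₁] c) • push C₁ R' k := by
  induction k using TensorProduct.induction_on with
  | zero => simp
  | tmul d a => simp [smul_tmul']
  | add p q hp hq => simp only [smul_add, map_add, hp, hq]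

variable (C₁) in
/-- The comparison with the tensor product over the small base. -/
noncomputable def flatten : (R' ⊗[R₁] C₁) ⊗[R'] mI (R₁ := R₁) R' ≃ₗ[R'] mI (R₁ := R₁) R' ⊗[R₁] C₁ :=
  (TensorProduct.comm R' _ _).trans (TensorProduct.AlgebraTensorModule.cancelBaseChange R₁ R' R' _ C₁)

lemma flatten_tmul (r : R') (c : C₁) (i : mI (R₁ := R₁) R') :
    flatten C₁ R' ((r ⊗ₜ[R₁] c) ⊗ₜ[R'] i) = (r • i) ⊗ₜ[R₁] c := by
  simp [flatten]

/-- Multiplication of the maximal ideal into `C₁`. -/
noncomputable def mu : C₁ ⊗[R₁] maximalIdeal R₁ →ₗ[R₁] C₁ :=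
  (TensorProduct.rid R₁ C₁).toLinearMap ∘ₗ (maximalIdeal R₁).subtype.lTensor C₁

@[simp] lemma mu_tmul (c : C₁) (a : maximalIdeal R₁) : mu (c ⊗ₜ[R₁] a) = (a : R₁) • c := by simp [mu]

/-- The inclusion of the extended ideal. -/
noncomputable def incl : mI (R₁ := R₁) R' ⊗[R₁] C₁ →ₗ[R₁] R' ⊗[R₁] C₁ :=
  ((mI (R₁ := R₁) R').subtype.restrictScalars R₁).rTensor C₁

variable (C₁) in
/-- The base change of `push`. -/
noncomputable def pull : R' ⊗[R₁] (C₁ ⊗[R₁] maximalIdeal R₁) →ₗ[R₁] mI (R₁ := R₁) R' ⊗[R₁] C₁ :=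
  TensorProduct.lift (LinearMap.mk₂ R₁ (fun (r : R') d => r • flatten C₁ R' (push C₁ R' d))
    (fun a b k => by rw [add_smul]) (fun c a k => by rw [smul_assoc])
    (fun a k k' => by rw [map_add, map_add, smul_add])
    (fun c a k => by
      rw [map_smul]
      show a • (flatten C₁ R').toLinearMap (c • push C₁ R' k) = c • a • flatten C₁ R' (push C₁ R' k)
      rw [LinearMap.map_smul_of_tower, smul_comm]
      rfl))

lemma pull_tmul (r : R') (d : C₁ ⊗[R₁] maximalIdeal R₁) :
    pull C₁ R' (r ⊗ₜ[R₁] d) = r • flatten C₁ R' (push C₁ R' d) := rfl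

set_option maxHeartbeats 800000 in
/-- The kernel after base change comes from the kernel before. -/
theorem ker_incl (y : mI (R₁ := R₁) R' ⊗[R₁] C₁) (hy : incl R' y = 0) :
    ∃ v : R' ⊗[R₁] (LinearMap.ker (mu (R₁ := R₁) (C₁ := C₁))),
      y = pull C₁ R' ((LinearMap.ker (mu (R₁ := R₁) (C₁ := C₁))).subtype.lTensor R' v) := by
  classical
  let m := maximalIdeal R₁
  let D := C₁ ⊗[R₁] m
  let k := ResidueField R₁
  haveI : Module.Free k (k ⊗[R₁] C₁) := Module.Free.of_divisionRing k _
  let β := Module.Free.ChooseBasisIndex k (k ⊗[R₁] C₁)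
  let b := Module.Free.chooseBasis k (k ⊗[R₁] C₁)
  have hsurj : ∀ z : k ⊗[R₁] C₁, ∃ c : C₁, (1 : k) ⊗ₜ[R₁] c = z := fun z => by
    induction z using TensorProduct.induction_on with
    | zero => exact ⟨0, by simp⟩
    | tmul t c =>
      obtain ⟨t, rfl⟩ := Ideal.Quotient.mk_surjective t
      exact ⟨t • c, by
        rw [tmul_smul, smul_tmul', Algebra.smul_def, mul_one]
        rfl⟩
    | add p q hp hq =>
      obtain ⟨c, rfl⟩ := hp
      obtain ⟨d, rfl⟩ := hq
      exact ⟨c + d, tmul_add _ _ _⟩
  choose g₀ hg₀ using fun i => hsurj (b i)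
  let g : (β →₀ R₁) →ₗ[R₁] C₁ := Finsupp.linearCombination R₁ g₀
  let γ : (β →₀ m) →ₗ[R₁] D := Finsupp.lsum R₁ fun i => TensorProduct.mk R₁ C₁ m (g₀ i)
  let ν : (β →₀ m) →ₗ[R₁] β →₀ R₁ := Finsupp.mapRange.linearMap m.subtype
  have hγν : ∀ w, mu (γ w) = g (ν w) := by
    intro w
    induction w using Finsupp.induction_linear with
    | zero => simp
    | add p q hp hq => simp only [map_add, hp, hq]
    | single i a => simp [γ, ν, g, TensorProduct.mk_apply]; exact mu_tmul _ _
  let K := LinearMap.ker (mu (R₁ := R₁) (C₁ := C₁))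
  let h : (β →₀ R₁) × D →ₗ[R₁] C₁ := LinearMap.coprod g mu
  let φ : (β →₀ m) × K →ₗ[R₁] (β →₀ R₁) × D :=
    LinearMap.prod (ν ∘ₗ LinearMap.fst R₁ _ _) (K.subtype ∘ₗ LinearMap.snd R₁ _ _ - γ ∘ₗ LinearMap.fst R₁ _ _)
  have hcoef : ∀ f : β →₀ R₁, (1 : k) ⊗ₜ[R₁] g f = ∑ i ∈ f.support, residue R₁ (f i) • b i := fun f => by
    rw [show g f = ∑ i ∈ f.support, f i • g₀ i from rfl, tmul_sum]
    refine Finset.sum_congr rfl fun i _ => ?_
    rw [tmul_smul, hg₀, ← algebraMap_smul k]
    rfl
  have hμ : ∀ d : D, (1 : k) ⊗ₜ[R₁] mu d = 0 := by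
    intro d
    induction d using TensorProduct.induction_on with
    | zero => simp
    | tmul c a =>
      rw [mu_tmul, tmul_smul, smul_tmul', Algebra.smul_def, mul_one]
      show (residue R₁ (a : R₁) : k) ⊗ₜ[R₁] c = 0
      rw [(residue_eq_zero_iff (a : R₁)).mpr a.2, zero_tmul]
    | add p q hp hq => rw [map_add, tmul_add, hp, hq, add_zero]
  have hex : Function.Exact φ h := by
    rintro ⟨f, d⟩
    refine ⟨fun hfd => ?_, ?_⟩
    · have h1 : g f + mu d = 0 := hfd
      have hfm : ∀ i, f i ∈ m := fun i => by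
        have h2 := hcoef f
        rw [eq_neg_of_add_eq_zero_left h1, tmul_neg, hμ, neg_zero] at h2
        by_cases hi : i ∈ f.support
        · have := linearIndependent_iff'.mp b.linearIndependent f.support (fun j => residue R₁ (f j)) h2.symm i hi
          exact (residue_eq_zero_iff _).mp this
        · rw [Finsupp.notMem_support_iff.mp hi]
          exact zero_mem _
      let w : β →₀ m := Finsupp.onFinset f.support (fun i => ⟨f i, hfm i⟩) fun i hi => by
        rw [Finsupp.mem_support_iff]
        exact fun h0 => hi (Subtype.ext h0)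
      have hw : ν w = f := Finsupp.ext fun i => by simp [ν, w]
      refine ⟨(w, ⟨d + γ w, ?_⟩), ?_⟩
      · show mu (d + γ w) = 0
        rw [map_add, hγν, hw, add_comm]
        exact h1
      · simp [φ, hw]
    · rintro ⟨⟨w, kk⟩, hwk⟩
      rw [← hwk]
      show g (ν w) + mu ((kk : D) - γ w) = 0
      rw [map_sub, hγν, show mu (kk : D) = 0 from kk.2]
      simp
  have hh : Function.Surjective h := by
    intro c
    let f : β →₀ R₁ := (b.repr ((1 : k) ⊗ₜ[R₁] c)).mapRange (Function.surjInv residue_surjective ∘ id |> fun φ z =>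
      if z = 0 then 0 else φ z) (by simp)
    have hf : ∀ i, residue R₁ (f i) = b.repr ((1 : k) ⊗ₜ[R₁] c) i := fun i => by
      simp only [f, Finsupp.mapRange_apply]
      split_ifs with h0
      · rw [map_zero, h0]
      · exact Function.surjInv_eq residue_surjective _
    have h1 : (1 : k) ⊗ₜ[R₁] (c - g f) = 0 := by
      rw [tmul_sub, hcoef, sub_eq_zero]
      conv_lhs => rw [← b.linearCombination_repr ((1 : k) ⊗ₜ[R₁] c)]
      rw [Finsupp.linearCombination_apply, Finsupp.sum]
      refine Eq.trans ?_ (Finset.sum_subset (s₁ := (b.repr ((1 : k) ⊗ₜ[R₁] c)).support) (fun i hi => ?_) fun i _ hi => ?_)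
      · exact Finset.sum_congr rfl fun i _ => by rw [hf]
      · rw [Finsupp.mem_support_iff] at hi ⊢
        exact fun h0 => hi (by rw [← hf, h0, map_zero])
      · rw [hf, Finsupp.notMem_support_iff.mp hi, zero_smul]
    have h2 : c - g f ∈ m • (⊤ : Submodule R₁ C₁) := by
      exact H8Mult.mem_smul_top_of_one_tmul_eq_zero (I := m) h1
    obtain ⟨d, hd⟩ : c - g f ∈ LinearMap.range (mu (R₁ := R₁) (C₁ := C₁)) := by
      refine Submodule.smul_induction_on h2 (fun a ha c' _ => ⟨c' ⊗ₜ ⟨a, ha⟩, by simp⟩) fun p q hp hq => add_mem hp hq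
    exact ⟨(f, d), by show g f + mu d = c; rw [hd, add_sub_cancel]⟩
  let Pi := pull (R₁ := R₁) C₁ R'
  have hPi : Function.Surjective Pi := by
    intro z
    induction z using TensorProduct.induction_on with
    | zero => exact ⟨0, map_zero _⟩
    | add p q hp hq =>
      obtain ⟨x, rfl⟩ := hp
      obtain ⟨y, rfl⟩ := hq
      exact ⟨x + y, map_add _ _ _⟩
    | tmul i c =>
      have hi : (i : R') ∈ Submodule.span R' (algebraMap R₁ R' '' (m : Set R₁)) := i.2
      suffices hS : ∀ (x : R') (hx : x ∈ mI (R₁ := R₁) R'), ∃ w, Pi w = (⟨x, hx⟩ : mI (R₁ := R₁) R') ⊗ₜ[R₁] c from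
        hS _ i.2
      intro x hx
      have hx' : x ∈ Submodule.span R' (algebraMap R₁ R' '' (m : Set R₁)) := hx
      induction hx' using Submodule.span_induction with
      | mem a ha =>
        obtain ⟨a, ha, rfl⟩ := ha
        refine ⟨(1 : R') ⊗ₜ (c ⊗ₜ ⟨a, ha⟩), ?_⟩
        show (1 : R') • flatten C₁ R' (push C₁ R' (c ⊗ₜ ⟨a, ha⟩)) = _
        rw [one_smul, push_tmul, flatten_tmul, one_smul]
        rfl
      | zero => exact ⟨0, by rw [map_zero]; exact (zero_tmul _ c).symm⟩
      | add a a' ha ha' iha iha' =>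
        obtain ⟨w, hw⟩ := iha ha
        obtain ⟨w', hw'⟩ := iha' ha'
        exact ⟨w + w', by rw [map_add, hw, hw', ← add_tmul]; rfl⟩
      | smul r a ha iha =>
        obtain ⟨w, hw⟩ := iha ha
        refine ⟨r • w, ?_⟩
        have hlin : ∀ w : R' ⊗[R₁] D, Pi (r • w) = r • Pi w := by
          intro w
          induction w using TensorProduct.induction_on with
          | zero => simp
          | tmul t d =>
            rw [smul_tmul']
            show (r • t) • flatten C₁ R' (push C₁ R' d) = r • (t • flatten C₁ R' (push C₁ R' d))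
            rw [smul_assoc]
          | add p q hp hq => simp only [smul_add, map_add, hp, hq]
        rw [hlin, hw, smul_tmul']
        rfl
  obtain ⟨x, rfl⟩ := hPi y
  have hcompat : ∀ w, incl R' (Pi w) = (mu (R₁ := R₁) (C₁ := C₁)).lTensor R' w := by
    intro w
    induction w using TensorProduct.induction_on with
    | zero => simp
    | tmul r d =>
      induction d using TensorProduct.induction_on with
      | zero => simp
      | tmul c a =>
        show incl R' (r • flatten C₁ R' (push C₁ R' (c ⊗ₜ a))) = r ⊗ₜ[R₁] mu (c ⊗ₜ a)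
        rw [push_tmul, flatten_tmul, one_smul, smul_tmul', mu_tmul, tmul_smul, smul_tmul']
        show ((r • inI R' a : mI (R₁ := R₁) R') : R') ⊗ₜ[R₁] c = _
        simp [Algebra.smul_def, mul_comm]
      | add p q hp hq => simp only [tmul_add, map_add, hp, hq]
    | add p q hp hq => simp only [map_add, hp, hq]
  have hx0 : (mu (R₁ := R₁) (C₁ := C₁)).lTensor R' x = 0 := by rw [← hcompat, hy]
  have h0 : h.lTensor R' ((LinearMap.inr R₁ (β →₀ R₁) D).lTensor R' x) = 0 := by
    rw [← LinearMap.lTensor_comp_apply, LinearMap.coprod_inr, hx0]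
  letI : AddCommGroup ↥K := Submodule.addCommGroup K
  letI gW : AddCommGroup ((β →₀ m) × K) := Prod.instAddCommGroup
  have hlex := @lTensor_exact (R := R₁) (M := (β →₀ m) × K) (N := (β →₀ R₁) × D) (P := C₁) (f := φ) (g := h) (Q := R')
  obtain ⟨u, hu⟩ := (hlex hex hh _).mp h0
  let uw := (LinearMap.fst R₁ (β →₀ m) K).lTensor R' u
  let uk := (LinearMap.snd R₁ (β →₀ m) K).lTensor R' u
  have h1 : ν.lTensor R' uw = 0 := by
    have := congrArg ((LinearMap.fst R₁ (β →₀ R₁) D).lTensor R') hu
    rw [← LinearMap.lTensor_comp_apply, ← LinearMap.lTensor_comp_apply, LinearMap.fst_comp_inr, LinearMap.lTensor_zero,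
      LinearMap.zero_apply, show LinearMap.fst R₁ _ _ ∘ₗ φ = ν ∘ₗ LinearMap.fst R₁ _ _ from rfl,
      LinearMap.lTensor_comp_apply] at this
    exact this
  have h2 : x = K.subtype.lTensor R' uk - γ.lTensor R' uw := by
    have := congrArg ((LinearMap.snd R₁ (β →₀ R₁) D).lTensor R') hu
    rw [← LinearMap.lTensor_comp_apply, ← LinearMap.lTensor_comp_apply, LinearMap.snd_comp_inr, LinearMap.lTensor_id,
      LinearMap.id_apply, show LinearMap.snd R₁ _ _ ∘ₗ φ = K.subtype ∘ₗ LinearMap.snd R₁ _ _ - γ ∘ₗ LinearMap.fst R₁ _ _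
      from rfl, LinearMap.lTensor_sub, LinearMap.sub_apply, LinearMap.lTensor_comp_apply, LinearMap.lTensor_comp_apply] at this
    exact this.symm
  have h3 : Pi (γ.lTensor R' uw) = 0 := by
    let ρ : R' ⊗[R₁] m →ₗ[R₁] mI (R₁ := R₁) R' :=
      TensorProduct.lift (LinearMap.mk₂ R₁ (fun r a => r • inI R' a) (fun a b k => by rw [add_smul])
        (fun c a k => by rw [smul_assoc]) (fun a k k' => by rw [map_add, smul_add])
        (fun c a k => by rw [map_smul, smul_comm]))
    let fW := TensorProduct.finsuppRight R₁ R₁ R' m β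
    let ω : R' ⊗[R₁] (β →₀ m) →ₗ[R₁] β →₀ mI (R₁ := R₁) R' :=
      Finsupp.mapRange.linearMap ρ ∘ₗ fW.toLinearMap
    have hω : ω uw = 0 := by
      refine Finsupp.ext fun i => Subtype.ext ?_
      rw [Finsupp.zero_apply, ZeroMemClass.coe_zero]
      have h4 := congrArg (fun z => (TensorProduct.finsuppScalarRight R₁ R₁ R' β z) i) h1
      simp only [map_zero, Finsupp.zero_apply] at h4
      rw [← h4]
      clear_value uw
      clear h4 h1 h2
      induction uw using TensorProduct.induction_on with
      | zero => simp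
      | tmul r w => simp [ω, ρ, fW, ν, Algebra.smul_def, mul_comm]
      | add p q hp hq => simp only [map_add, Finsupp.add_apply, Submodule.coe_add, hp, hq]
    have h5 : ∀ w, Pi (γ.lTensor R' w) =
        Finsupp.lsum R₁ (fun i => (TensorProduct.mk R₁ (mI (R₁ := R₁) R') C₁).flip (g₀ i)) (ω w) := by
      intro w
      induction w using TensorProduct.induction_on with
      | zero => simp
      | tmul r w =>
        induction w using Finsupp.induction_linear with
        | zero => simp
        | add p q hp hq => simp only [tmul_add, map_add, hp, hq]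
        | single i a =>
          have h6 : ω (r ⊗ₜ[R₁] Finsupp.single i a) = Finsupp.single i (r • inI R' a) := by
            simp [ω, fW, ρ]
          rw [h6, Finsupp.lsum_single, LinearMap.lTensor_tmul]
          show r • flatten C₁ R' (push C₁ R' (γ (Finsupp.single i a))) = (r • inI R' a) ⊗ₜ[R₁] g₀ i
          rw [show γ (Finsupp.single i a) = g₀ i ⊗ₜ[R₁] a by simp [γ]; rfl, push_tmul, flatten_tmul, one_smul, smul_tmul']
      | add p q hp hq => simp only [map_add, hp, hq]
    rw [h5, hω, map_zero]
  exact ⟨uk, by rw [h2, map_sub, h3, sub_zero]⟩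

set_option maxHeartbeats 800000 in
/-- Flatness at the primes over the closed point where the kernel is killed. -/
theorem flat_at_of_kill [IsNoetherianRing R'] [IsNoetherianRing (R' ⊗[R₁] C₁)] (s : R' ⊗[R₁] C₁)
    (hs : ∀ k : C₁ ⊗[R₁] maximalIdeal R₁, mu k = 0 → s • push C₁ R' k = 0)
    (q : Ideal (R' ⊗[R₁] C₁)) [q.IsPrime] (hsq : s ∉ q)
    (hIq : (mI (R₁ := R₁) R').map (algebraMap R' (R' ⊗[R₁] C₁)) ≤ q) :
    Module.Flat R' (Localization.AtPrime q) := by
  classical
  let I := mI (R₁ := R₁) R'
  let C' := R' ⊗[R₁] C₁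
  have hkill : ∀ z : C' ⊗[R'] I, I.subtype.lTensor C' z = 0 → s • z = 0 := by
    intro z hz
    have h0 : incl R' (flatten C₁ R' z) = 0 := by
      have hc : ∀ z : C' ⊗[R'] I, incl R' (flatten C₁ R' z) = TensorProduct.rid R' C' (I.subtype.lTensor C' z) := by
        intro z
        induction z using TensorProduct.induction_on with
        | zero => simp
        | tmul c i =>
          induction c using TensorProduct.induction_on with
          | zero => simp
          | tmul r c =>
            rw [flatten_tmul]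
            simp [incl, smul_tmul', mul_comm]
            rw [smul_tmul', smul_eq_mul, mul_comm]
          | add p q hp hq => simp only [add_tmul, map_add, hp, hq]
        | add p q hp hq => simp only [map_add, hp, hq]
      rw [hc, hz, map_zero]
    obtain ⟨v, hv⟩ := ker_incl R' _ h0
    apply (flatten C₁ R').injective
    rw [map_zero]
    have hlin : ∀ w : C' ⊗[R'] I, flatten C₁ R' (s • w) = flatten C₁ R' (s • (flatten C₁ R').symm (flatten C₁ R' w)) :=
      fun w => by rw [LinearEquiv.symm_apply_apply]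
    rw [hlin, hv]
    clear hv h0 hz hlin
    induction v using TensorProduct.induction_on with
    | zero => simp
    | tmul r kk =>
      rw [LinearMap.lTensor_tmul, pull_tmul, Submodule.subtype_apply]
      rw [map_smul (flatten C₁ R').symm, LinearEquiv.symm_apply_apply, smul_comm, hs _ kk.2, smul_zero, map_zero]
    | add p q hp hq => simp only [map_add, smul_add, hp, hq, add_zero]
  let W := Localization.Away s
  haveI : IsNoetherianRing W := IsLocalization.isNoetherianRing (Submonoid.powers s) W inferInstance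
  let j : C' →ₗ[R'] W := (IsScalarTower.toAlgHom R' C' W).toLinearMap
  have hunit : IsUnit (algebraMap C' W s) := IsLocalization.Away.algebraMap_isUnit s
  have h1 : Function.Injective (I.subtype.lTensor W) := by
    refine (injective_iff_map_eq_zero _).mpr fun y hy => ?_
    have hlift : ∀ y : W ⊗[R'] I, ∃ (n : ℕ) (z : C' ⊗[R'] I), algebraMap C' W (s ^ n) • y = j.rTensor I z := by
      intro y
      induction y using TensorProduct.induction_on with
      | zero => exact ⟨0, 0, by simp⟩
      | tmul w i =>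
        obtain ⟨⟨c, ⟨_, n, rfl⟩⟩, hc⟩ := IsLocalization.surj (Submonoid.powers s) w
        exact ⟨n, c ⊗ₜ i, by rw [smul_tmul', smul_eq_mul, mul_comm]; exact congrArg (· ⊗ₜ[R'] i) hc⟩
      | add a b ha hb =>
        obtain ⟨n, z, hz⟩ := ha
        obtain ⟨n', z', hz'⟩ := hb
        refine ⟨n + n', s ^ n' • z + s ^ n • z', ?_⟩
        have hsm : ∀ (c : C') (w : C' ⊗[R'] I), j.rTensor I (c • w) = algebraMap C' W c • j.rTensor I w := fun c w => by
          induction w using TensorProduct.induction_on with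
          | zero => simp
          | tmul x i => simp [smul_tmul', j, Algebra.smul_def]
          | add p q hp hq => simp only [smul_add, map_add, hp, hq]
        rw [map_add, hsm, hsm, ← hz, ← hz', smul_add, smul_smul, smul_smul, ← map_mul, ← map_mul, ← pow_add, ← pow_add,
          add_comm n' n]
    obtain ⟨n, z, hz⟩ := hlift y
    have h2 : j (TensorProduct.rid R' C' (I.subtype.lTensor C' z)) = 0 := by
      have e1 : ∀ z : C' ⊗[R'] I, j (TensorProduct.rid R' C' (I.subtype.lTensor C' z)) =
          TensorProduct.rid R' W (I.subtype.lTensor W (j.rTensor I z)) := by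
        intro z
        induction z using TensorProduct.induction_on with
        | zero => simp
        | tmul x i => simp
        | add p q hp hq => simp only [map_add, hp, hq]
      rw [e1, ← hz, H2LocalCrit.map_lTensor_smul, hy, smul_zero, map_zero]
    obtain ⟨⟨_, l, rfl⟩, hl⟩ := (IsLocalization.map_eq_zero_iff (Submonoid.powers s) W _).mp h2
    have h3 : s • (s ^ l • z) = 0 := by
      refine hkill _ ((TensorProduct.rid R' C').injective ?_)
      rw [map_zero, H2LocalCrit.map_lTensor_smul]
      have e2 : ∀ (c : C') (z : C' ⊗[R'] R'), TensorProduct.rid R' C' (c • z) = c * TensorProduct.rid R' C' z := by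
        intro c z
        induction z using TensorProduct.induction_on with
        | zero => simp
        | tmul x i => simp [smul_tmul', Algebra.smul_def]; ring
        | add p q hp hq => simp only [smul_add, map_add, mul_add, hp, hq]
      rw [e2]
      exact hl
    have hsm : ∀ (c : C') (w : C' ⊗[R'] I), j.rTensor I (c • w) = algebraMap C' W c • j.rTensor I w := fun c w => by
      induction w using TensorProduct.induction_on with
      | zero => simp
      | tmul x i => simp [smul_tmul', j, Algebra.smul_def]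
      | add p q hp hq => simp only [smul_add, map_add, hp, hq]
    have h4 := congrArg (j.rTensor I) h3
    rw [hsm, hsm, ← hz, map_zero, smul_smul, smul_smul, map_pow, map_pow] at h4
    exact (((hunit.mul (hunit.pow l)).mul (hunit.pow n))).smul_left_cancel.mp (h4.trans (smul_zero _).symm)
  haveI h2 : Module.Flat (R' ⧸ I) ((R' ⧸ I) ⊗[R'] W) := by
    let k := ResidueField R₁
    let ρ : k →ₐ[R₁] R' ⧸ I := Ideal.Quotient.liftₐ (maximalIdeal R₁) (Algebra.ofId R₁ _) fun r hr =>
      Ideal.Quotient.eq_zero_iff_mem.mpr (Ideal.mem_map_of_mem _ hr)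
    letI : Algebra k (R' ⧸ I) := ρ.toRingHom.toAlgebra
    haveI : IsScalarTower R₁ k (R' ⧸ I) := IsScalarTower.of_algebraMap_eq fun r => (ρ.commutes r).symm
    haveI : Module.Flat (R' ⧸ I) ((R' ⧸ I) ⊗[R'] C') := by
      haveI : Module.Flat (R' ⧸ I) ((R' ⧸ I) ⊗[R₁] C₁) :=
        Module.Flat.of_linearEquiv
          (TensorProduct.AlgebraTensorModule.cancelBaseChange R₁ k (R' ⧸ I) (R' ⧸ I) C₁).symm
      exact Module.Flat.of_linearEquiv
        (TensorProduct.AlgebraTensorModule.cancelBaseChange R₁ R' (R' ⧸ I) (R' ⧸ I) C₁)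
    let ψ : (R' ⧸ I) ⊗[R'] C' →ₐ[R' ⧸ I] (R' ⧸ I) ⊗[R'] W :=
      Algebra.TensorProduct.map (AlgHom.id _ _) (IsScalarTower.toAlgHom R' C' W)
    letI : Algebra ((R' ⧸ I) ⊗[R'] C') ((R' ⧸ I) ⊗[R'] W) := ψ.toRingHom.toAlgebra
    haveI : IsScalarTower (R' ⧸ I) ((R' ⧸ I) ⊗[R'] C') ((R' ⧸ I) ⊗[R'] W) :=
      IsScalarTower.of_algebraMap_eq fun r => (ψ.commutes r).symm
    haveI : IsLocalization ((Submonoid.powers s).map (Algebra.TensorProduct.includeRight (R := R') (A := R' ⧸ I)))
        ((R' ⧸ I) ⊗[R'] W) :=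
      IsLocalization.tensorProduct_tensorProduct_right R' (R' ⧸ I) (Submonoid.powers s) W (RingHom.ext fun c => rfl)
    haveI : Module.Flat ((R' ⧸ I) ⊗[R'] C') ((R' ⧸ I) ⊗[R'] W) :=
      IsLocalization.flat _ ((Submonoid.powers s).map (Algebra.TensorProduct.includeRight (R := R') (A := R' ⧸ I)))
    exact Module.Flat.trans (R' ⧸ I) ((R' ⧸ I) ⊗[R'] C') _
  have h1' : Function.Injective (I.subtype.rTensor W) := by
    intro a b hab
    apply (TensorProduct.comm R' I W).injective
    apply h1
    have e : ∀ z, I.subtype.lTensor W (TensorProduct.comm R' I W z) = TensorProduct.comm R' R' W (I.subtype.rTensor W z) := by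
      intro z
      induction z using TensorProduct.induction_on with
      | zero => simp
      | tmul x i => simp
      | add p q hp hq => simp only [map_add, hp, hq]
    rw [e, e, hab]
  let q' := q.map (algebraMap C' W)
  have hdisj : Disjoint ((Submonoid.powers s : Submonoid C') : Set C') (q : Set C') :=
    Ideal.disjoint_powers_iff_notMem _ (Ideal.IsPrime.isRadical inferInstance) |>.mpr hsq
  haveI hq' : q'.IsPrime := IsLocalization.isPrime_of_isPrime_disjoint (Submonoid.powers s) W q inferInstance hdisj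
  have hflat : Module.Flat R' (LocalizedModule q'.primeCompl W) := by
    refine H2LocalCrit.flat_localized q'.primeCompl fun J x hx => ?_
    obtain ⟨r, hr, hrx⟩ := H2LocalCrit.exists_smul_eq_self (S := W) I J (fun n _ y hy =>
      H2LocalCrit.mem_range_inf_of_inj J (I ^ n) (H2LocalCrit.Inj.of_killed_pow I h1' n _ fun a ha z => by
        obtain ⟨z, rfl⟩ := Ideal.Quotient.mk_surjective z
        rw [Algebra.smul_def, Ideal.Quotient.algebraMap_eq, ← map_mul, Ideal.Quotient.eq_zero_iff_mem]
        exact Ideal.mul_mem_right _ _ (Ideal.mem_sup_right ha)) hy) hx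
    refine ⟨1 - r, fun hc => q'.one_notMem ?_, (sub_smul (1 : W) r x).trans (by rw [one_smul, hrx, sub_self])⟩
    have hle : I.map (algebraMap R' W) ≤ q' := by
      rw [IsScalarTower.algebraMap_eq R' C' W, ← Ideal.map_map]
      exact Ideal.map_mono hIq
    simpa using add_mem hc (hle hr)
  have hcomap : q'.comap (algebraMap C' W) = q :=
    IsLocalization.comap_map_of_isPrime_disjoint (Submonoid.powers s) W inferInstance hdisj
  haveI : IsLocalization.AtPrime (Localization.AtPrime q') q := by
    have := IsLocalization.isLocalization_isLocalization_atPrime_isLocalization (S := W) (Submonoid.powers s)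
      (Localization.AtPrime q') q'
    exact IsLocalization.isLocalization_of_submonoid_le_aux hcomap this
  let e : Localization.AtPrime q ≃ₐ[C'] Localization.AtPrime q' :=
    IsLocalization.algEquiv q.primeCompl _ _
  haveI : Module.Flat R' (Localization.AtPrime q') := hflat
  exact Module.Flat.of_linearEquiv (e.restrictScalars R').toLinearEquiv

end Groth.Agent.H8FlatDescent
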