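import Mathlib
import Groth.Agent.Lib.H8Mult

/-!
# Noetherian models of finitely presented Hopf algebras
-/

set_option autoImplicit false
set_option linter.all false

universe u

open TensorProduct MvPolynomial

namespace Groth.Agent.H8HopfModel

section Pairs

variable {S : Type u} [CommRing S]

/-- Relations of a pair of presentations. -/
noncomputable def pairRel {σ τ α β : Type*} (f : α → MvPolynomial σ S) (g : β → MvPolynomial τ S) :
    α ⊕ β → MvPolynomial (σ ⊕ τ) S :=
  Sum.elim (fun a => rename Sum.inl (f a)) fun b => rename Sum.inr (g b)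

/-- Generators of a tensor product. -/
noncomputable def pairGen {σ τ : Type*} {A B : Type u} [CommRing A] [Algebra S A] [CommRing B] [Algebra S B]
    (x : σ → A) (y : τ → B) : σ ⊕ τ → A ⊗[S] B :=
  Sum.elim (fun i => x i ⊗ₜ[S] (1 : B)) fun j => (1 : A) ⊗ₜ[S] y j

lemma aeval_inl {σ τ : Type*} {A B : Type u} [CommRing A] [Algebra S A] [CommRing B] [Algebra S B]
    (x : σ → A) (y : τ → B) (p : MvPolynomial σ S) :
    aeval (pairGen x y) (rename Sum.inl p) = aeval x p ⊗ₜ[S] (1 : B) := by
  rw [aeval_rename]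
  exact (comp_aeval_apply x (Algebra.TensorProduct.includeLeft (R := S) (S := S) (A := A) (B := B)) p).symm

lemma aeval_inr {σ τ : Type*} {A B : Type u} [CommRing A] [Algebra S A] [CommRing B] [Algebra S B]
    (x : σ → A) (y : τ → B) (p : MvPolynomial τ S) :
    aeval (pairGen x y) (rename Sum.inr p) = (1 : A) ⊗ₜ[S] aeval y p := by
  rw [aeval_rename]
  exact (comp_aeval_apply y (Algebra.TensorProduct.includeRight : B →ₐ[S] A ⊗[S] B) p).symm

/-- A presentation. -/
def IsPres {σ α : Type*} {A : Type u} [CommRing A] [Algebra S A] (x : σ → A) (f : α → MvPolynomial σ S) : Prop :=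
  Function.Surjective (aeval (R := S) x) ∧ ∀ p : MvPolynomial σ S, aeval x p = 0 ↔ p ∈ Ideal.span (Set.range f)

/-- The presentation of a tensor product. -/
theorem isPres_pair {σ τ α β : Type*} {A B : Type u} [CommRing A] [Algebra S A] [CommRing B] [Algebra S B]
    {x : σ → A} {y : τ → B} {f : α → MvPolynomial σ S} {g : β → MvPolynomial τ S} (hA : IsPres x f) (hB : IsPres y g) :
    IsPres (pairGen (S := S) x y) (pairRel f g) := by
  refine ⟨fun z => ?_, fun p => ⟨fun hp => ?_, fun hp => ?_⟩⟩
  · induction z using TensorProduct.induction_on with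
    | zero => exact ⟨0, map_zero _⟩
    | tmul a b =>
      obtain ⟨p, rfl⟩ := hA.1 a
      obtain ⟨q, rfl⟩ := hB.1 b
      exact ⟨rename Sum.inl p * rename Sum.inr q, by
        rw [map_mul, aeval_inl, aeval_inr, Algebra.TensorProduct.tmul_mul_tmul, mul_one, one_mul]⟩
    | add u v hu hv =>
      obtain ⟨p, rfl⟩ := hu
      obtain ⟨q, rfl⟩ := hv
      exact ⟨p + q, map_add _ _ _⟩
  · let J := Ideal.span (Set.range (pairRel f g))
    let Q := MvPolynomial (σ ⊕ τ) S ⧸ J
    let qm : MvPolynomial (σ ⊕ τ) S →ₐ[S] Q := Ideal.Quotient.mkₐ S J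
    let fA : A →ₐ[S] Q := AlgHom.liftOfSurjective (aeval x) hA.1 (qm.comp (rename Sum.inl)) fun q hq => by
      have h1 : q ∈ Ideal.span (Set.range f) := (hA.2 q).mp hq
      have h2 : Ideal.span (Set.range f) ≤ RingHom.ker (qm.comp (rename Sum.inl)) :=
        Ideal.span_le.mpr (by
          rintro _ ⟨a, rfl⟩
          exact Ideal.Quotient.eq_zero_iff_mem.mpr (Ideal.subset_span ⟨Sum.inl a, rfl⟩))
      exact h2 h1
    let fB : B →ₐ[S] Q := AlgHom.liftOfSurjective (aeval y) hB.1 (qm.comp (rename Sum.inr)) fun q hq => by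
      have h1 : q ∈ Ideal.span (Set.range g) := (hB.2 q).mp hq
      have h2 : Ideal.span (Set.range g) ≤ RingHom.ker (qm.comp (rename Sum.inr)) :=
        Ideal.span_le.mpr (by
          rintro _ ⟨b, rfl⟩
          exact Ideal.Quotient.eq_zero_iff_mem.mpr (Ideal.subset_span ⟨Sum.inr b, rfl⟩))
      exact h2 h1
    let L : A ⊗[S] B →ₐ[S] Q := Algebra.TensorProduct.lift fA fB fun _ _ => Commute.all _ _
    have hL : L.comp (aeval (pairGen x y)) = qm := by
      refine MvPolynomial.algHom_ext fun i => ?_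
      rcases i with i | j
      · show L (aeval (pairGen x y) (X (Sum.inl i))) = _
        rw [aeval_X]
        show fA (x i) * fB 1 = _
        rw [map_one, mul_one, show x i = aeval x (X i : MvPolynomial σ S) by rw [aeval_X],
          show fA (aeval x (X i : MvPolynomial σ S)) = qm (rename Sum.inl (X i)) from
            AlgHom.liftOfSurjective_apply _ _ _ _ _]
        simp
      · show L (aeval (pairGen x y) (X (Sum.inr j))) = _
        rw [aeval_X]
        show fA 1 * fB (y j) = _
        rw [map_one, one_mul, show y j = aeval y (X j : MvPolynomial τ S) by rw [aeval_X],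
          show fB (aeval y (X j : MvPolynomial τ S)) = qm (rename Sum.inr (X j)) from
            AlgHom.liftOfSurjective_apply _ _ _ _ _]
        simp
    refine Ideal.Quotient.eq_zero_iff_mem.mp (show qm p = 0 from ?_)
    rw [← hL, AlgHom.comp_apply, hp, map_zero]
  · have h2 : Ideal.span (Set.range (pairRel f g)) ≤ RingHom.ker (aeval (R := S) (pairGen (S := S) x y)) :=
      Ideal.span_le.mpr (by
        rintro _ ⟨a | b, rfl⟩
        · show aeval (pairGen (S := S) x y) (rename Sum.inl (f a)) = 0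
          rw [aeval_inl, (hA.2 _).mpr (Ideal.subset_span ⟨a, rfl⟩), zero_tmul]
        · show aeval (pairGen (S := S) x y) (rename Sum.inr (g b)) = 0
          rw [aeval_inr, (hB.2 _).mpr (Ideal.subset_span ⟨b, rfl⟩), tmul_zero])
    exact h2 hp

end Pairs

section Laws

variable {n k : ℕ}

/-- Substitution computing the left iterated comultiplication. -/
noncomputable def gL {S : Type u} [CommRing S] (D : Fin n → MvPolynomial (Fin n ⊕ Fin n) S) :
    Fin n ⊕ Fin n → MvPolynomial (Fin n ⊕ (Fin n ⊕ Fin n)) S :=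
  Sum.elim (fun j => rename (Sum.map id Sum.inl) (D j)) fun j => X (Sum.inr (Sum.inr j))

/-- Substitution computing the right iterated comultiplication. -/
noncomputable def gR {S : Type u} [CommRing S] (D : Fin n → MvPolynomial (Fin n ⊕ Fin n) S) :
    Fin n ⊕ Fin n → MvPolynomial (Fin n ⊕ (Fin n ⊕ Fin n)) S :=
  Sum.elim (fun j => X (Sum.inl j)) fun j => rename Sum.inr (D j)

/-- The identities making a presented algebra a Hopf algebra. -/
structure Laws {S : Type u} [CommRing S] (r : Fin k → MvPolynomial (Fin n) S)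
    (D : Fin n → MvPolynomial (Fin n ⊕ Fin n) S) (e : Fin n → S) (s : Fin n → MvPolynomial (Fin n) S) : Prop where
  rel_e : ∀ j, eval e (r j) = 0
  rel_D : ∀ j, aeval D (r j) ∈ Ideal.span (Set.range (pairRel r r))
  rel_s : ∀ j, aeval s (r j) ∈ Ideal.span (Set.range r)
  coassoc : ∀ i, aeval (gL D) (D i) - aeval (gR D) (D i) ∈ Ideal.span (Set.range (pairRel r (pairRel r r)))
  counitL : ∀ i, aeval (Sum.elim (fun j => C (e j)) X) (D i) - X i ∈ Ideal.span (Set.range r)
  counitR : ∀ i, aeval (Sum.elim X (fun j => C (e j))) (D i) - X i ∈ Ideal.span (Set.range r)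
  antiL : ∀ i, aeval (Sum.elim s X) (D i) - C (e i) ∈ Ideal.span (Set.range r)
  antiR : ∀ i, aeval (Sum.elim X s) (D i) - C (e i) ∈ Ideal.span (Set.range r)

variable {S : Type u} [CommRing S] {B : Type u} [CommRing B] [Algebra S B] {x : Fin n → B}
  {D : Fin n → MvPolynomial (Fin n ⊕ Fin n) S} {e : Fin n → S} {s : Fin n → MvPolynomial (Fin n) S}
  (Δ : B →ₐ[S] B ⊗[S] B) (hΔ : ∀ i, Δ (x i) = aeval (pairGen x x) (D i))
  (ε : B →ₐ[S] S) (hε : ∀ i, ε (x i) = e i) (σ : B →ₐ[S] B) (hσ : ∀ i, σ (x i) = aeval x (s i))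

include hΔ in
lemma coassoc_left (i : Fin n) :
    Algebra.TensorProduct.assoc S S S B B B (Algebra.TensorProduct.map Δ (AlgHom.id S B) (Δ (x i))) =
      aeval (pairGen x (pairGen x x)) (aeval (gL D) (D i)) := by
  have key : (Algebra.TensorProduct.assoc S S S B B B).toAlgHom.comp
      ((Algebra.TensorProduct.map Δ (AlgHom.id S B)).comp (aeval (pairGen x x))) =
      (aeval (pairGen x (pairGen x x))).comp (aeval (gL D)) := by
    refine MvPolynomial.algHom_ext fun t => ?_
    rcases t with j | j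
    · simp only [AlgHom.comp_apply, aeval_X, gL, Sum.elim_inl, aeval_rename]
      show Algebra.TensorProduct.assoc S S S B B B (Δ (x j) ⊗ₜ[S] (1 : B)) = _
      rw [hΔ]
      have h2 : (Algebra.TensorProduct.assoc S S S B B B).toAlgHom.comp
          ((Algebra.TensorProduct.includeLeft : B ⊗[S] B →ₐ[S] (B ⊗[S] B) ⊗[S] B).comp (aeval (pairGen x x))) =
          aeval ((pairGen x (pairGen x x)) ∘ Sum.map id Sum.inl) := by
        refine MvPolynomial.algHom_ext fun t => ?_
        rcases t with l | l <;>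
          simp [pairGen, Algebra.TensorProduct.one_def]
      exact DFunLike.congr_fun h2 (D j)
    · simp [gL, pairGen, Algebra.TensorProduct.one_def]
  rw [hΔ]
  exact DFunLike.congr_fun key (D i)

include hΔ in
lemma coassoc_right (i : Fin n) :
    Algebra.TensorProduct.map (AlgHom.id S B) Δ (Δ (x i)) =
      aeval (pairGen x (pairGen x x)) (aeval (gR D) (D i)) := by
  have key : (Algebra.TensorProduct.map (AlgHom.id S B) Δ).comp (aeval (pairGen x x)) =
      (aeval (pairGen x (pairGen x x))).comp (aeval (gR D)) := by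
    refine MvPolynomial.algHom_ext fun t => ?_
    rcases t with j | j
    · simp [gR, pairGen]
    · simp only [AlgHom.comp_apply, aeval_X, gR, Sum.elim_inr, aeval_inr]
      show (1 : B) ⊗ₜ[S] Δ (x j) = _
      rw [hΔ]
  rw [hΔ]
  exact DFunLike.congr_fun key (D i)

include hΔ hε in
lemma counit_left (i : Fin n) :
    Algebra.TensorProduct.lid S B (Algebra.TensorProduct.map ε (AlgHom.id S B) (Δ (x i))) =
      aeval x (aeval (Sum.elim (fun j => C (e j)) X) (D i)) := by
  have key : (Algebra.TensorProduct.lid S B).toAlgHom.comp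
      ((Algebra.TensorProduct.map ε (AlgHom.id S B)).comp (aeval (pairGen x x))) =
      (aeval x).comp (aeval (Sum.elim (fun j => C (e j)) X)) := by
    refine MvPolynomial.algHom_ext fun t => ?_
    rcases t with j | j <;> simp [pairGen, hε, Algebra.algebraMap_eq_smul_one]
  rw [hΔ]
  exact DFunLike.congr_fun key (D i)

include hΔ hε in
lemma counit_right (i : Fin n) :
    Algebra.TensorProduct.rid S S B (Algebra.TensorProduct.map (AlgHom.id S B) ε (Δ (x i))) =
      aeval x (aeval (Sum.elim X (fun j => C (e j))) (D i)) := by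
  have key : (Algebra.TensorProduct.rid S S B).toAlgHom.comp
      ((Algebra.TensorProduct.map (AlgHom.id S B) ε).comp (aeval (pairGen x x))) =
      (aeval x).comp (aeval (Sum.elim X (fun j => C (e j)))) := by
    refine MvPolynomial.algHom_ext fun t => ?_
    rcases t with j | j <;> simp [pairGen, hε, Algebra.algebraMap_eq_smul_one]
  rw [hΔ]
  exact DFunLike.congr_fun key (D i)

include hΔ hσ in
lemma antipode_left (i : Fin n) :
    Algebra.TensorProduct.lift σ (AlgHom.id S B) (fun _ _ => Commute.all _ _) (Δ (x i)) =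
      aeval x (aeval (Sum.elim s X) (D i)) := by
  have key : (Algebra.TensorProduct.lift σ (AlgHom.id S B) fun _ _ => Commute.all _ _).comp (aeval (pairGen x x)) =
      (aeval x).comp (aeval (Sum.elim s X)) := by
    refine MvPolynomial.algHom_ext fun t => ?_
    rcases t with j | j <;> simp [pairGen, hσ]
  rw [hΔ]
  exact DFunLike.congr_fun key (D i)

include hΔ hσ in
lemma antipode_right (i : Fin n) :
    Algebra.TensorProduct.lift (AlgHom.id S B) σ (fun _ _ => Commute.all _ _) (Δ (x i)) =
      aeval x (aeval (Sum.elim X s) (D i)) := by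
  have key : (Algebra.TensorProduct.lift (AlgHom.id S B) σ fun _ _ => Commute.all _ _).comp (aeval (pairGen x x)) =
      (aeval x).comp (aeval (Sum.elim X s)) := by
    refine MvPolynomial.algHom_ext fun t => ?_
    rcases t with j | j <;> simp [pairGen, hσ]
  rw [hΔ]
  exact DFunLike.congr_fun key (D i)

end Laws

/-- A Hopf algebra with given presentation satisfies the identities. -/
theorem exists_laws {R : Type u} [CommRing R] {C' : Type u} [CommRing C'] [HopfAlgebra R C'] {n k : ℕ}
    {x : Fin n → C'} {r : Fin k → MvPolynomial (Fin n) R} (h : IsPres x r) :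
    ∃ (D : Fin n → MvPolynomial (Fin n ⊕ Fin n) R) (e : Fin n → R) (s : Fin n → MvPolynomial (Fin n) R),
      Laws r D e s ∧ (∀ i, Bialgebra.comulAlgHom R C' (x i) = aeval (pairGen x x) (D i)) ∧
        (∀ i, Bialgebra.counitAlgHom R C' (x i) = e i) := by
  let Δ := Bialgebra.comulAlgHom R C'
  let ε := Bialgebra.counitAlgHom R C'
  let σ := HopfAlgebra.antipodeAlgHom R C'
  have h2 := isPres_pair h h
  have h3 := isPres_pair h h2
  choose D hD using fun i => h2.1 (Δ (x i))
  choose s hs using fun i => h.1 (σ (x i))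
  have hΔ : ∀ i, Δ (x i) = aeval (pairGen x x) (D i) := fun i => (hD i).symm
  have hσ : ∀ i, σ (x i) = aeval x (s i) := fun i => (hs i).symm
  have hr : ∀ j, aeval x (r j) = 0 := fun j => (h.2 _).mpr (Ideal.subset_span ⟨j, rfl⟩)
  refine ⟨D, fun i => ε (x i), s, ⟨fun j => ?_, fun j => ?_, fun j => ?_, fun i => ?_, fun i => ?_, fun i => ?_,
    fun i => ?_, fun i => ?_⟩, hΔ, fun i => rfl⟩
  · have := congrArg ε (hr j)
    rw [map_zero, comp_aeval_apply] at this
    rwa [aeval_eq_eval] at this
  · refine (h2.2 _).mp ?_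
    rw [comp_aeval_apply, show (fun i => aeval (pairGen x x) (D i)) = fun i => Δ (x i) from funext fun i => (hΔ i).symm,
      ← comp_aeval_apply, hr, map_zero]
  · refine (h.2 _).mp ?_
    rw [comp_aeval_apply, show (fun i => aeval x (s i)) = fun i => σ (x i) from funext fun i => (hσ i).symm,
      ← comp_aeval_apply, hr, map_zero]
  · refine (h3.2 _).mp ?_
    rw [map_sub, sub_eq_zero, ← coassoc_left Δ hΔ, ← coassoc_right Δ hΔ]
    exact Coalgebra.coassoc_apply (R := R) (x i)
  · refine (h.2 _).mp ?_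
    rw [map_sub, sub_eq_zero, aeval_X, ← counit_left Δ hΔ ε (fun _ => rfl)]
    show Algebra.TensorProduct.lid R C' ((CoalgebraStruct.counit (R := R)).rTensor C' (CoalgebraStruct.comul (R := R) (x i))) = _
    rw [Coalgebra.rTensor_counit_comul]
    simp
  · refine (h.2 _).mp ?_
    rw [map_sub, sub_eq_zero, aeval_X, ← counit_right Δ hΔ ε (fun _ => rfl)]
    show Algebra.TensorProduct.rid R R C' ((CoalgebraStruct.counit (R := R)).lTensor C' (CoalgebraStruct.comul (R := R) (x i))) = _
    rw [Coalgebra.lTensor_counit_comul]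
    simp
  · refine (h.2 _).mp ?_
    rw [map_sub, sub_eq_zero, aeval_C, ← antipode_left Δ hΔ σ hσ]
    refine Eq.trans ?_ (HopfAlgebra.mul_antipode_rTensor_comul_apply (R := R) (x i))
    show _ = LinearMap.mul' R C' ((HopfAlgebraStruct.antipode R).rTensor C' (CoalgebraStruct.comul (R := R) (x i)))
    show Algebra.TensorProduct.lift σ (AlgHom.id R C') (fun _ _ => Commute.all _ _) (CoalgebraStruct.comul (R := R) (x i)) = _
    generalize CoalgebraStruct.comul (R := R) (x i) = z
    induction z using TensorProduct.induction_on with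
    | zero => simp
    | tmul a b => simp [σ]
    | add p q hp hq => simp only [map_add, hp, hq]
  · refine (h.2 _).mp ?_
    rw [map_sub, sub_eq_zero, aeval_C, ← antipode_right Δ hΔ σ hσ]
    refine Eq.trans ?_ (HopfAlgebra.mul_antipode_lTensor_comul_apply (R := R) (x i))
    show Algebra.TensorProduct.lift (AlgHom.id R C') σ (fun _ _ => Commute.all _ _) (CoalgebraStruct.comul (R := R) (x i)) = _
    generalize CoalgebraStruct.comul (R := R) (x i) = z
    induction z using TensorProduct.induction_on with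
    | zero => simp
    | tmul a b => simp [σ]
    | add p q hp hq => simp only [map_add, hp, hq]

/-- The identities give a Hopf algebra. -/
theorem exists_hopf {S : Type u} [CommRing S] {n k : ℕ} {r : Fin k → MvPolynomial (Fin n) S}
    {D : Fin n → MvPolynomial (Fin n ⊕ Fin n) S} {e : Fin n → S} {s : Fin n → MvPolynomial (Fin n) S}
    (h : Laws r D e s) :
    ∃ (B : Type u) (_ : CommRing B) (_ : HopfAlgebra S B) (x : Fin n → B), IsPres x r ∧
      (∀ i, Bialgebra.comulAlgHom S B (x i) = aeval (pairGen x x) (D i)) ∧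
        (∀ i, Bialgebra.counitAlgHom S B (x i) = e i) := by
  let I := Ideal.span (Set.range r)
  let B := MvPolynomial (Fin n) S ⧸ I
  let π : MvPolynomial (Fin n) S →ₐ[S] B := Ideal.Quotient.mkₐ S I
  let x : Fin n → B := fun i => π (X i)
  have hπ : aeval x = π := (aeval_unique π).symm
  have hp : IsPres x r := ⟨by rw [hπ]; exact Ideal.Quotient.mk_surjective, fun p => by
    rw [hπ]; exact Ideal.Quotient.eq_zero_iff_mem⟩
  have h2 := isPres_pair hp hp
  have h3 := isPres_pair hp h2
  have hext : ∀ {W : Type u} [CommRing W] [Algebra S W] (f g : B →ₐ[S] W), (∀ i, f (x i) = g (x i)) → f = g := by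
    intro W _ _ f g hfg
    refine Ideal.Quotient.algHom_ext S (MvPolynomial.algHom_ext fun i => ?_)
    exact hfg i
  let Δ : B →ₐ[S] B ⊗[S] B := Ideal.Quotient.liftₐ I (aeval fun i => aeval (pairGen (S := S) x x) (D i)) fun p hp' => by
    have hle : I ≤ RingHom.ker (aeval (R := S) fun i => aeval (pairGen (S := S) x x) (D i)) := Ideal.span_le.mpr (by
      rintro _ ⟨j, rfl⟩
      show aeval (fun i => aeval (pairGen (S := S) x x) (D i)) (r j) = 0
      rw [← comp_aeval_apply]
      exact (h2.2 _).mpr (h.rel_D j))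
    exact hle hp'
  let ε : B →ₐ[S] S := Ideal.Quotient.liftₐ I (aeval e) fun p hp' => by
    have hle : I ≤ RingHom.ker (aeval (R := S) e) := Ideal.span_le.mpr (by
      rintro _ ⟨j, rfl⟩
      show aeval e (r j) = 0
      rw [aeval_eq_eval]
      exact h.rel_e j)
    exact hle hp'
  let σ : B →ₐ[S] B := Ideal.Quotient.liftₐ I (aeval fun i => aeval x (s i)) fun p hp' => by
    have hle : I ≤ RingHom.ker (aeval (R := S) fun i => aeval x (s i)) := Ideal.span_le.mpr (by
      rintro _ ⟨j, rfl⟩
      show aeval (fun i => aeval x (s i)) (r j) = 0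
      rw [← comp_aeval_apply]
      exact (hp.2 _).mpr (h.rel_s j))
    exact hle hp'
  have hΔ : ∀ i, Δ (x i) = aeval (pairGen x x) (D i) := fun i =>
    (aeval_X (fun i => aeval (pairGen (S := S) x x) (D i)) i)
  have hε : ∀ i, ε (x i) = e i := fun i => aeval_X e i
  have hσ : ∀ i, σ (x i) = aeval x (s i) := fun i => aeval_X (fun i => aeval x (s i)) i
  letI bi : Bialgebra S B := Bialgebra.ofAlgHom Δ ε
    (by
      refine Ideal.Quotient.algHom_ext S (MvPolynomial.algHom_ext fun i => ?_)
      show Algebra.TensorProduct.assoc S S S B B B (Algebra.TensorProduct.map Δ (AlgHom.id S B) (Δ (x i))) =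
        Algebra.TensorProduct.map (AlgHom.id S B) Δ (Δ (x i))
      rw [coassoc_left Δ hΔ, coassoc_right Δ hΔ, ← sub_eq_zero, ← map_sub]
      exact (h3.2 _).mpr (h.coassoc i))
    (by
      refine Ideal.Quotient.algHom_ext S (MvPolynomial.algHom_ext fun i => ?_)
      apply (Algebra.TensorProduct.lid S B).injective
      show Algebra.TensorProduct.lid S B (Algebra.TensorProduct.map ε (AlgHom.id S B) (Δ (x i))) =
        Algebra.TensorProduct.lid S B ((Algebra.TensorProduct.lid S B).symm (x i))
      rw [AlgEquiv.apply_symm_apply, counit_left Δ hΔ ε hε, ← aeval_X (R := S) x i, ← sub_eq_zero, ← map_sub]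
      exact (hp.2 _).mpr (h.counitL i))
    (by
      refine Ideal.Quotient.algHom_ext S (MvPolynomial.algHom_ext fun i => ?_)
      apply (Algebra.TensorProduct.rid S S B).injective
      show Algebra.TensorProduct.rid S S B (Algebra.TensorProduct.map (AlgHom.id S B) ε (Δ (x i))) =
        Algebra.TensorProduct.rid S S B ((Algebra.TensorProduct.rid S S B).symm (x i))
      rw [AlgEquiv.apply_symm_apply, counit_right Δ hΔ ε hε, ← aeval_X (R := S) x i, ← sub_eq_zero, ← map_sub]
      exact (hp.2 _).mpr (h.counitR i))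
  letI : HopfAlgebra S B := HopfAlgebra.ofAlgHom σ
    (by
      refine Ideal.Quotient.algHom_ext S (MvPolynomial.algHom_ext fun i => ?_)
      show Algebra.TensorProduct.lift σ (AlgHom.id S B) (fun _ _ => Commute.all _ _) (Δ (x i)) = algebraMap S B (ε (x i))
      rw [antipode_left Δ hΔ σ hσ, hε, ← aeval_C (R := S) x (e i), ← sub_eq_zero, ← map_sub]
      exact (hp.2 _).mpr (h.antiL i))
    (by
      refine Ideal.Quotient.algHom_ext S (MvPolynomial.algHom_ext fun i => ?_)
      show Algebra.TensorProduct.lift (AlgHom.id S B) σ (fun _ _ => Commute.all _ _) (Δ (x i)) = algebraMap S B (ε (x i))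
      rw [antipode_right Δ hΔ σ hσ, hε, ← aeval_C (R := S) x (e i), ← sub_eq_zero, ← map_sub]
      exact (hp.2 _).mpr (h.antiR i))
  exact ⟨B, inferInstance, inferInstance, x, hp, hΔ, hε⟩

/-- The comultiplication of a base change on generators. -/
theorem comul_pairGen {A : Type u} [CommRing A] {R : Type u} [CommRing R] [Algebra A R] {B : Type u} [CommRing B]
    [HopfAlgebra A B] {C' : Type u} [CommRing C'] [Algebra A C'] [Algebra R C'] [IsScalarTower A R C'] {n : ℕ}
    {y : Fin n → B} {x : Fin n → C'} (φ : R ⊗[A] B →ₐ[R] C') (hφy : ∀ i, φ ((1 : R) ⊗ₜ[A] y i) = x i) (i : Fin n)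
    (p : MvPolynomial (Fin n ⊕ Fin n) A) (hp : Bialgebra.comulAlgHom A B (y i) = aeval (pairGen y y) p) :
    Algebra.TensorProduct.map φ φ (CoalgebraStruct.comul (R := R) ((1 : R) ⊗ₜ[A] y i)) =
      aeval (pairGen (S := R) x x) p := by
  let W := (R ⊗[A] B) ⊗[R] (R ⊗[A] B)
  let lft : B →ₐ[A] W :=
    ((Algebra.TensorProduct.includeLeft (R := R) (S := R) (A := R ⊗[A] B) (B := R ⊗[A] B)).restrictScalars A).comp
      Algebra.TensorProduct.includeRight
  let rgt : B →ₐ[A] W :=
    ((Algebra.TensorProduct.includeRight (R := R) (A := R ⊗[A] B) (B := R ⊗[A] B)).restrictScalars A).comp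
      Algebra.TensorProduct.includeRight
  let sqA : B ⊗[A] B →ₐ[A] W := Algebra.TensorProduct.lift lft rgt fun a b => @Commute.all W _ (lft a) (rgt b)
  have hsq : CoalgebraStruct.comul (R := R) ((1 : R) ⊗ₜ[A] y i) = sqA (Bialgebra.comulAlgHom A B (y i)) := by
    rw [H8Mult.comul_one_tmul]
    show _ = sqA (CoalgebraStruct.comul (R := A) (y i))
    generalize CoalgebraStruct.comul (R := A) (y i) = z
    induction z using TensorProduct.induction_on with
    | zero => simp
    | tmul p q =>
      simp [sqA, lft, rgt]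
      exact ((Algebra.TensorProduct.tmul_mul_tmul _ _ _ _).trans (congrArg₂ (· ⊗ₜ[R] ·) (mul_one _) (one_mul _))).symm
    | add p q hp hq => simp only [map_add, hp, hq]
  rw [hsq, hp]
  have key : ((Algebra.TensorProduct.map φ φ).restrictScalars A).comp (sqA.comp (aeval (pairGen y y))) =
      aeval (pairGen (S := R) x x) := by
    refine MvPolynomial.algHom_ext fun t => ?_
    rcases t with j | j <;> simp [sqA, lft, rgt, pairGen, hφy, ← Algebra.TensorProduct.one_def]
  exact DFunLike.congr_fun key p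

section Stage

variable {R : Type u} [CommRing R]

/-- The inclusion of a subalgebra. -/
def inc (A : Subalgebra ℤ R) : A →+* R := A.val.toRingHom

lemma inc_injective (A : Subalgebra ℤ R) : Function.Injective (inc A) := Subtype.val_injective

@[simp] lemma inc_apply (A : Subalgebra ℤ R) (a : A) : inc A a = (a : R) := rfl

/-- The polynomials defined over a subalgebra. -/
def DefOver (A : Subalgebra ℤ R) {σ : Type*} (p : MvPolynomial σ R) : Prop :=
  ∃ q : MvPolynomial σ A, map (inc A) q = p

lemma DefOver.mono {A A' : Subalgebra ℤ R} (hle : A ≤ A') {σ : Type*} {p : MvPolynomial σ R} (h : DefOver A p) :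
    DefOver A' p := by
  obtain ⟨q, rfl⟩ := h
  exact ⟨map (Subalgebra.inclusion hle).toRingHom q, by rw [MvPolynomial.map_map]; rfl⟩

lemma exists_defOver {σ : Type*} (p : MvPolynomial σ R) : ∃ A : Subalgebra ℤ R, A.FG ∧ DefOver A p := by
  induction p using MvPolynomial.induction_on' with
  | monomial d a =>
    refine ⟨Algebra.adjoin ℤ {a}, Subalgebra.fg_def.mpr ⟨{a}, Set.finite_singleton a, rfl⟩,
      monomial d ⟨a, Algebra.subset_adjoin rfl⟩, ?_⟩
    simp
  | add p q hp hq =>
    obtain ⟨A, hA, hp⟩ := hp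
    obtain ⟨A', hA', hq⟩ := hq
    refine ⟨A ⊔ A', hA.sup hA', ?_⟩
    obtain ⟨p', hp'⟩ := hp.mono (le_sup_left : A ≤ A ⊔ A')
    obtain ⟨q', hq'⟩ := hq.mono (le_sup_right : A' ≤ A ⊔ A')
    exact ⟨p' + q', by rw [map_add, hp', hq']⟩

lemma exists_defOver_family {ι σ : Type*} [Finite ι] (p : ι → MvPolynomial σ R) :
    ∃ A : Subalgebra ℤ R, A.FG ∧ ∀ i, DefOver A (p i) := by
  classical
  haveI := Fintype.ofFinite ι
  choose A hA hp using fun i => exists_defOver (p i)
  refine ⟨Finset.univ.sup A, ?_, fun i => (hp i).mono (Finset.le_sup (Finset.mem_univ i))⟩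
  exact Finset.sup_induction (p := fun B : Subalgebra ℤ R => B.FG) Subalgebra.fg_bot (fun a ha b hb => ha.sup hb)
    fun i _ => hA i

lemma exists_cert {ι σ γ : Type*} [Finite ι] [Fintype γ] (G : γ → MvPolynomial σ R) (p : ι → MvPolynomial σ R)
    (hp : ∀ i, p i ∈ Ideal.span (Set.range G)) :
    ∃ A : Subalgebra ℤ R, A.FG ∧ ∀ (A' : Subalgebra ℤ R), A ≤ A' → ∀ (G' : γ → MvPolynomial σ A')
      (p' : ι → MvPolynomial σ A'), (∀ c, map (inc A') (G' c) = G c) →
        (∀ i, map (inc A') (p' i) = p i) → ∀ i, p' i ∈ Ideal.span (Set.range G') := by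
  choose a ha using fun i => Ideal.mem_span_range_iff_exists_fun.mp (hp i)
  obtain ⟨A, hA, hd⟩ := exists_defOver_family fun x : ι × γ => a x.1 x.2
  refine ⟨A, hA, fun A' hle G' p' hG' hp' i => ?_⟩
  choose a' ha' using fun c => (hd (i, c)).mono hle
  refine Ideal.mem_span_range_iff_exists_fun.mpr ⟨a', map_injective (inc A') (inc_injective A') ?_⟩
  rw [hp', ← ha i, map_sum]
  refine Finset.sum_congr rfl fun c _ => ?_
  rw [map_mul, ha', hG']

lemma map_pairRel {A : Subalgebra ℤ R} {σ τ α β : Type*} (f' : α → MvPolynomial σ A) (f : α → MvPolynomial σ R)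
    (hf : ∀ a, map (inc A) (f' a) = f a) (g' : β → MvPolynomial τ A) (g : β → MvPolynomial τ R)
    (hg : ∀ b, map (inc A) (g' b) = g b) (c : α ⊕ β) :
    map (inc A) (pairRel f' g' c) = pairRel f g c := by
  rcases c with a | b <;> simp [pairRel, map_rename, hf, hg]

lemma map_aeval' {A : Subalgebra ℤ R} {σ τ : Type*} (g' : σ → MvPolynomial τ A) (g : σ → MvPolynomial τ R)
    (hg : ∀ i, map (inc A) (g' i) = g i) (p' : MvPolynomial σ A) :
    map (inc A) (aeval g' p') = aeval g (map (inc A) p') := by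
  induction p' using MvPolynomial.induction_on with
  | C a => simp
  | add p q hp hq => simp only [map_add, hp, hq]
  | mul_X p i hp => simp only [map_mul, aeval_X, map_X, hp, hg]

end Stage

set_option maxHeartbeats 800000 in
/-- A finitely presented Hopf algebra is defined over a finitely generated subring. -/
theorem exists_model (R : Type u) [CommRing R] (C' : Type u) [CommRing C'] [HopfAlgebra R C']
    (hfp : Algebra.FinitePresentation R C') :
    ∃ (A : Subalgebra ℤ R) (_ : A.FG) (C₀ : Type u) (_ : CommRing C₀) (_ : HopfAlgebra A C₀),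
      Algebra.FinitePresentation A C₀ ∧ Nonempty ((R ⊗[A] C₀) ≃ₐc[R] C') := by
  classical
  obtain ⟨n, f, hf, ⟨rs, hrs⟩⟩ := hfp.out
  let r : Fin rs.card → MvPolynomial (Fin n) R := fun j => (rs.equivFin.symm j).1
  have hrange : Set.range r = (rs : Set (MvPolynomial (Fin n) R)) := by
    ext p
    exact ⟨fun ⟨j, hj⟩ => hj ▸ (rs.equivFin.symm j).2, fun hp => ⟨rs.equivFin ⟨p, hp⟩, by simp [r]⟩⟩
  let x : Fin n → C' := fun i => f (X i)
  have hfx : aeval x = f := (aeval_unique f).symm
  have hpres : IsPres x r := ⟨by rw [hfx]; exact hf, fun p => by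
    rw [hfx, hrange]
    show p ∈ RingHom.ker f.toRingHom ↔ _
    rw [← hrs]⟩
  obtain ⟨D, e, s, hlaws, hD, he⟩ := exists_laws hpres
  obtain ⟨A₁, hA₁, hr'⟩ := exists_defOver_family r
  obtain ⟨A₂, hA₂, hD'⟩ := exists_defOver_family D
  obtain ⟨A₃, hA₃, hs'⟩ := exists_defOver_family s
  obtain ⟨A₄, hA₄, he'⟩ := exists_defOver_family (fun i => (C (e i) : MvPolynomial (Fin n) R))
  obtain ⟨B₁, hB₁, c₁⟩ := exists_cert (pairRel r r) (fun j => aeval D (r j)) hlaws.rel_D
  obtain ⟨B₂, hB₂, c₂⟩ := exists_cert r (fun j => aeval s (r j)) hlaws.rel_s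
  obtain ⟨B₃, hB₃, c₃⟩ := exists_cert (pairRel r (pairRel r r)) _ hlaws.coassoc
  obtain ⟨B₄, hB₄, c₄⟩ := exists_cert r _ hlaws.counitL
  obtain ⟨B₅, hB₅, c₅⟩ := exists_cert r _ hlaws.counitR
  obtain ⟨B₆, hB₆, c₆⟩ := exists_cert r _ hlaws.antiL
  obtain ⟨B₇, hB₇, c₇⟩ := exists_cert r _ hlaws.antiR
  let eA := Algebra.adjoin ℤ (Set.range e)
  have heA : eA.FG := Subalgebra.fg_def.mpr ⟨Set.range e, Set.finite_range e, rfl⟩
  let A := A₁ ⊔ A₂ ⊔ A₃ ⊔ eA ⊔ B₁ ⊔ B₂ ⊔ B₃ ⊔ B₄ ⊔ B₅ ⊔ B₆ ⊔ B₇
  have hAfg : A.FG := (((((((((hA₁.sup hA₂).sup hA₃).sup heA).sup hB₁).sup hB₂).sup hB₃).sup hB₄).sup hB₅).sup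
    hB₆).sup hB₇
  choose r₀ hr₀ using fun j => (hr' j).mono (show A₁ ≤ A by simp only [A, sup_assoc]; exact le_sup_left)
  choose D₀ hD₀ using fun i => (hD' i).mono (show A₂ ≤ A from le_trans le_sup_right (le_trans le_sup_left
    (le_trans le_sup_left (le_trans le_sup_left (le_trans le_sup_left (le_trans le_sup_left (le_trans le_sup_left
      (le_trans le_sup_left (le_trans le_sup_left le_sup_left)))))))))
  choose s₀ hs₀ using fun i => (hs' i).mono (show A₃ ≤ A from le_trans le_sup_right
    (le_trans le_sup_left (le_trans le_sup_left (le_trans le_sup_left (le_trans le_sup_left (le_trans le_sup_left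
      (le_trans le_sup_left (le_trans le_sup_left le_sup_left))))))))
  have heA' : eA ≤ A := le_trans le_sup_right
    (le_trans le_sup_left (le_trans le_sup_left (le_trans le_sup_left (le_trans le_sup_left (le_trans le_sup_left
      (le_trans le_sup_left le_sup_left))))))
  let e₀ : Fin n → A := fun i => ⟨e i, heA' (Algebra.subset_adjoin ⟨i, rfl⟩)⟩
  have hpr2 := map_pairRel r₀ r hr₀ r₀ r hr₀
  have hpr3 := map_pairRel r₀ r hr₀ (pairRel r₀ r₀) (pairRel r r) hpr2
  have hCe : ∀ i, map (inc A) (C (e₀ i) : MvPolynomial (Fin n) A) = C (e i) := fun i => map_C _ _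
  have hgL : ∀ t, map (inc A) (gL D₀ t) = gL D t := fun t => by
    rcases t with j | j <;> simp [gL, map_rename, hD₀]
  have hgR : ∀ t, map (inc A) (gR D₀ t) = gR D t := fun t => by
    rcases t with j | j <;> simp [gR, map_rename, hD₀]
  have hlaws₀ : Laws r₀ D₀ e₀ s₀ := by
    refine ⟨fun j => ?_, fun j => ?_, fun j => ?_, fun i => ?_, fun i => ?_, fun i => ?_, fun i => ?_, fun i => ?_⟩
    · apply Subtype.val_injective
      rw [ZeroMemClass.coe_zero, ← hlaws.rel_e j, ← hr₀ j, eval_map, eval_eq', eval₂_eq', AddSubmonoidClass.coe_finsetSum]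
      refine Finset.sum_congr rfl fun d _ => ?_
      simp [e₀]
    · exact c₁ A (by simp only [A]; exact le_trans le_sup_right (le_trans le_sup_left (le_trans le_sup_left
        (le_trans le_sup_left (le_trans le_sup_left (le_trans le_sup_left le_sup_left)))))) _ (fun j => aeval D₀ (r₀ j)) hpr2
        (fun j => by rw [map_aeval' D₀ D hD₀, hr₀]) j
    · exact c₂ A (le_trans le_sup_right (le_trans le_sup_left (le_trans le_sup_left (le_trans le_sup_left
        (le_trans le_sup_left le_sup_left))))) r₀ (fun j => aeval s₀ (r₀ j)) hr₀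
        (fun j => by rw [map_aeval' s₀ s hs₀, hr₀]) j
    · exact c₃ A (le_trans le_sup_right (le_trans le_sup_left (le_trans le_sup_left (le_trans le_sup_left le_sup_left))))
        _ (fun i => aeval (gL D₀) (D₀ i) - aeval (gR D₀) (D₀ i)) hpr3
        (fun i => by rw [map_sub, map_aeval' _ _ hgL, map_aeval' _ _ hgR, hD₀]) i
    · exact c₄ A (le_trans le_sup_right (le_trans le_sup_left (le_trans le_sup_left le_sup_left)))
        r₀ (fun i => aeval (Sum.elim (fun j => C (e₀ j)) X) (D₀ i) - X i) hr₀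
        (fun i => by
          rw [map_sub, map_X, map_aeval' _ (Sum.elim (fun j => C (e j)) X) (fun t => by rcases t with t | t <;> simp [hCe]),
            hD₀]) i
    · exact c₅ A (le_trans le_sup_right (le_trans le_sup_left le_sup_left))
        r₀ (fun i => aeval (Sum.elim X (fun j => C (e₀ j))) (D₀ i) - X i) hr₀
        (fun i => by
          rw [map_sub, map_X, map_aeval' _ (Sum.elim X (fun j => C (e j))) (fun t => by rcases t with t | t <;> simp [hCe]),
            hD₀]) i
    · exact c₆ A (le_trans le_sup_right le_sup_left)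
        r₀ (fun i => aeval (Sum.elim s₀ X) (D₀ i) - C (e₀ i)) hr₀
        (fun i => by
          rw [map_sub, hCe, map_aeval' _ (Sum.elim s X) (fun t => by rcases t with t | t <;> simp [hs₀]), hD₀]) i
    · exact c₇ A le_sup_right
        r₀ (fun i => aeval (Sum.elim X s₀) (D₀ i) - C (e₀ i)) hr₀
        (fun i => by
          rw [map_sub, hCe, map_aeval' _ (Sum.elim X s) (fun t => by rcases t with t | t <;> simp [hs₀]), hD₀]) i
  obtain ⟨B, _, _, y, hy, hΔy, hεy⟩ := exists_hopf hlaws₀
  have hfpB : Algebra.FinitePresentation A B := by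
    refine Algebra.FinitePresentation.of_surjective hy.1 ?_
    rw [show RingHom.ker (aeval (R := A) y).toRingHom = Ideal.span (Set.range r₀) from Ideal.ext fun p => hy.2 p]
    exact ⟨(Set.finite_range r₀).toFinset, by simp⟩
  refine ⟨A, hAfg, B, inferInstance, inferInstance, hfpB, ?_⟩
  have hval : algebraMap A R = (inc A) := rfl
  have hmapA : ∀ p : MvPolynomial (Fin n) A, aeval x p = aeval (R := R) x (map (inc A) p) := fun p => by
    rw [← hval, aeval_map_algebraMap]
  let g : B →ₐ[A] C' := AlgHom.liftOfSurjective (aeval y) hy.1 (aeval x) fun p hp => by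
    have h1 : p ∈ Ideal.span (Set.range r₀) := (hy.2 p).mp hp
    have h2 : Ideal.span (Set.range r₀) ≤ RingHom.ker (aeval (R := A) x) := Ideal.span_le.mpr (by
      rintro _ ⟨j, rfl⟩
      show aeval x (r₀ j) = 0
      rw [← aeval_map_algebraMap R, hval, hr₀]
      exact (hpres.2 _).mpr (Ideal.subset_span ⟨j, rfl⟩))
    exact h2 h1
  have hgy : ∀ i, g (y i) = x i := fun i => by
    rw [show y i = aeval y (X i : MvPolynomial (Fin n) A) by rw [aeval_X],
      show g (aeval y (X i : MvPolynomial (Fin n) A)) = aeval x (X i : MvPolynomial (Fin n) A) from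
        AlgHom.liftOfSurjective_apply _ _ _ _ _, aeval_X]
  let φ : R ⊗[A] B →ₐ[R] C' := Algebra.TensorProduct.lift (Algebra.ofId R C') g fun _ _ => Commute.all _ _
  have hφy : ∀ i, φ ((1 : R) ⊗ₜ[A] y i) = x i := fun i => by simp [φ, hgy]
  let ψ₀ : MvPolynomial (Fin n) R →ₐ[R] R ⊗[A] B := aeval fun i => (1 : R) ⊗ₜ[A] y i
  let ψ : C' →ₐ[R] R ⊗[A] B := AlgHom.liftOfSurjective (aeval x) hpres.1 ψ₀ fun p hp => by
    have h1 : p ∈ Ideal.span (Set.range r) := (hpres.2 p).mp hp
    have h2 : Ideal.span (Set.range r) ≤ RingHom.ker ψ₀ := Ideal.span_le.mpr (by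
      rintro _ ⟨j, rfl⟩
      show ψ₀ (r j) = 0
      rw [← hr₀ j, ← hval]
      show aeval _ (map (algebraMap A R) (r₀ j)) = 0
      rw [aeval_map_algebraMap]
      refine Eq.trans (comp_aeval_apply y (Algebra.TensorProduct.includeRight : B →ₐ[A] R ⊗[A] B) (r₀ j)).symm ?_
      rw [(hy.2 _).mpr (Ideal.subset_span ⟨j, rfl⟩), map_zero])
    exact h2 h1
  have hψx : ∀ i, ψ (x i) = (1 : R) ⊗ₜ[A] y i := fun i => by
    rw [show x i = aeval x (X i : MvPolynomial (Fin n) R) by rw [aeval_X],
      show ψ (aeval x (X i : MvPolynomial (Fin n) R)) = ψ₀ (X i) from AlgHom.liftOfSurjective_apply _ _ _ _ _]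
    exact aeval_X _ i
  have hextB : ∀ {W : Type u} [CommRing W] [Algebra R W] (a b : R ⊗[A] B →ₐ[R] W),
      (∀ i, a ((1 : R) ⊗ₜ[A] y i) = b ((1 : R) ⊗ₜ[A] y i)) → a = b := by
    intro W _ _ a b hab
    refine Algebra.TensorProduct.ext (Subsingleton.elim _ _) ?_
    refine (AlgHom.cancel_right hy.1).mp (MvPolynomial.algHom_ext fun i => ?_)
    simpa using hab i
  have hextC : ∀ {W : Type u} [CommRing W] [Algebra R W] (a b : C' →ₐ[R] W), (∀ i, a (x i) = b (x i)) → a = b := by
    intro W _ _ a b hab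
    exact (AlgHom.cancel_right hpres.1).mp (MvPolynomial.algHom_ext fun i => by simpa using hab i)
  let E : R ⊗[A] B ≃ₐ[R] C' := AlgEquiv.ofAlgHom φ ψ (hextC _ _ fun i => by simp [hψx, hφy])
    (hextB _ _ fun i => by simp [hφy, hψx])
  refine ⟨BialgEquiv.ofBijective (BialgHom.ofAlgHom φ ?_ ?_) E.bijective⟩
  · refine hextB _ _ fun i => ?_
    show CoalgebraStruct.counit (R := R) (φ ((1 : R) ⊗ₜ[A] y i)) = CoalgebraStruct.counit (R := R) ((1 : R) ⊗ₜ[A] y i)
    rw [hφy, TensorProduct.counit_tmul, Bialgebra.counit_one]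
    show Bialgebra.counitAlgHom R C' (x i) = _
    rw [he, show CoalgebraStruct.counit (R := A) (y i) = e₀ i from hεy i]
    show e i = (e₀ i : R) * 1
    rw [mul_one]
  · refine hextB _ _ fun i => ?_
    show Algebra.TensorProduct.map φ φ (CoalgebraStruct.comul (R := R) ((1 : R) ⊗ₜ[A] y i)) =
      CoalgebraStruct.comul (R := R) (φ ((1 : R) ⊗ₜ[A] y i))
    rw [hφy, show CoalgebraStruct.comul (R := R) (x i) = aeval (pairGen x x) (D i) from hD i, ← hD₀ i, ← hval,
      aeval_map_algebraMap]
    exact comul_pairGen φ hφy i (D₀ i) (hΔy i)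

end Groth.Agent.H8HopfModel
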