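import Mathlib
import Groth.Prelude.Def_HopfRep
import Groth.Prelude.Def_SGA3b
import Groth.Agent.Lib.H8Comod
import Groth.Agent.Lib.H8Hopf
import Groth.Agent.Lib.H8HopfSub
import Groth.Agent.Lib.H8FiniteHopf

/-! The unipotent part (irreducible component of `1`) of a commutative cocommutative Hopf algebra over a field. -/

set_option autoImplicit false

universe u

open TensorProduct WithConv

namespace Groth.Agent.H8Unip

section Basic

variable {k : Type u} [Field k] {A : Type u} [CommRing A] [HopfAlgebra k A]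

/-- Translation by a functional. -/
noncomputable def T (f : A →ₗ[k] k) : Module.End k A :=
  H8Comod.act A (toConv f : H8Comod.DualAlg k A)

lemma T_apply (f : A →ₗ[k] k) (x : A) :
    T f x = H8Comod.contr A f (CoalgebraStruct.comul (R := k) x) := rfl

lemma T_counit : T (CoalgebraStruct.counit (R := k) (A := A)) = 1 := by
  rw [T, ← H8Comod.act_one (C := A) (V := A)]
  congr 1

lemma T_add (f g : A →ₗ[k] k) : T (f + g) = T f + T g := by
  ext x; simp [T_apply, H8Comod.contr, LinearMap.lTensor_add]

lemma T_smul (c : k) (f : A →ₗ[k] k) : T (c • f) = c • T f := by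
  ext x; simp [T_apply, H8Comod.contr, LinearMap.lTensor_smul]

lemma T_sub (f g : A →ₗ[k] k) : T (f - g) = T f - T g := by
  ext x; simp [T_apply, H8Comod.contr, LinearMap.lTensor_sub]

lemma T_one (f : A →ₗ[k] k) : T f (1 : A) = f 1 • 1 := by
  simp [T_apply, Algebra.TensorProduct.one_def]

lemma apply_T_counit (f : A →ₗ[k] k) (x : A) : CoalgebraStruct.counit (R := k) (T f x) = f x := by
  rw [T_apply]
  have h := Coalgebra.rTensor_counit_comul (R := k) x
  have key : ∀ z : A ⊗[k] A, CoalgebraStruct.counit (R := k) (H8Comod.contr A f z) =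
      f (TensorProduct.lid k A (LinearMap.rTensor A (CoalgebraStruct.counit (R := k) (A := A)) z)) := by
    intro z
    induction z using TensorProduct.induction_on with
    | zero => simp
    | tmul a b => simp [mul_comm]
    | add a b ha hb => simp only [map_add, ha, hb]
  rw [key, h]; simp

lemma T_T [Coalgebra.IsCocomm k A] (f g : A →ₗ[k] k) (x : A) : T f (T g x) = T g (T f x) := by
  have h := H8Comod.act_mul (V := A) (toConv f : H8Comod.DualAlg k A) (toConv g)
  rw [mul_comm, H8Comod.act_mul] at h
  exact (LinearMap.congr_fun h x).symm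

variable (k A) in
/-- The kernel filtration at `1`. -/
noncomputable def F : ℕ → Submodule k A
  | 0 => ⊥
  | n + 1 => ⨅ (f : A →ₗ[k] k) (_ : f 1 = 0), (F n).comap (T f)

lemma mem_succ {n : ℕ} {x : A} : x ∈ F k A (n + 1) ↔ ∀ f : A →ₗ[k] k, f 1 = 0 → T f x ∈ F k A n := by
  simp [F]

lemma T_sub_counit (f : A →ₗ[k] k) (x : A) :
    T (f - f 1 • CoalgebraStruct.counit (R := k) (A := A)) x = T f x - f 1 • x := by
  rw [T_sub, T_smul, T_counit]; simp

lemma sub_counit_one (f : A →ₗ[k] k) :
    (f - f 1 • CoalgebraStruct.counit (R := k) (A := A)) 1 = 0 := by simp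

lemma mem_succ' {n : ℕ} {x : A} :
    x ∈ F k A (n + 1) ↔ ∀ f : A →ₗ[k] k, T f x - f 1 • x ∈ F k A n := by
  rw [mem_succ]
  constructor
  · intro h f
    rw [← T_sub_counit]
    exact h _ (sub_counit_one f)
  · intro h f hf
    simpa [hf] using h f

lemma F_le_succ (n : ℕ) : F k A n ≤ F k A (n + 1) := by
  induction n with
  | zero => exact bot_le
  | succ n ih => exact fun x hx => mem_succ.mpr fun f hf => ih (mem_succ.mp hx f hf)

lemma F_mono : Monotone (F k A) := monotone_nat_of_le_succ F_le_succ

lemma one_mem_F_one : (1 : A) ∈ F k A 1 := mem_succ.mpr fun f hf => by simp [T_one, hf, F]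

lemma T_mem {n : ℕ} {x : A} (hx : x ∈ F k A n) (f : A →ₗ[k] k) : T f x ∈ F k A n := by
  cases n with
  | zero => simp [F] at hx ⊢; simp [hx]
  | succ n =>
    have := add_mem (F_le_succ n ((mem_succ').mp hx f)) (Submodule.smul_mem _ (f 1) hx)
    simpa using this

lemma comul_mem {n : ℕ} {x : A} (hx : x ∈ F k A n) :
    CoalgebraStruct.comul (R := k) x ∈ LinearMap.range ((F k A n).subtype.rTensor A) :=
  (H8Comod.mem_range_rTensor_iff _ _).mpr fun f => T_mem hx f

lemma mem_succ_iff_D {n : ℕ} {x : A} : x ∈ F k A (n + 1) ↔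
    CoalgebraStruct.comul (R := k) x - x ⊗ₜ 1 ∈ LinearMap.range ((F k A n).subtype.rTensor A) := by
  rw [mem_succ', H8Comod.mem_range_rTensor_iff]
  simp [T_apply]

lemma mul_range {U V W : Submodule k A} (h : ∀ a ∈ U, ∀ b ∈ V, a * b ∈ W) {z w : A ⊗[k] A}
    (hz : z ∈ LinearMap.range (U.subtype.rTensor A)) (hw : w ∈ LinearMap.range (V.subtype.rTensor A)) :
    z * w ∈ LinearMap.range (W.subtype.rTensor A) := by
  obtain ⟨z, rfl⟩ := hz
  obtain ⟨w, rfl⟩ := hw
  induction z using TensorProduct.induction_on with
  | zero => simp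
  | add p q hp hq => rw [map_add, add_mul]; exact add_mem hp hq
  | tmul a x =>
    induction w using TensorProduct.induction_on with
    | zero => simp
    | add p q hp hq => rw [map_add, mul_add]; exact add_mem hp hq
    | tmul b y => exact ⟨⟨a.1 * b.1, h _ a.2 _ b.2⟩ ⊗ₜ (x * y), by simp⟩

lemma mul_mem_F : ∀ (n a b : ℕ), a + b = n → ∀ x ∈ F k A a, ∀ y ∈ F k A b, x * y ∈ F k A n := by
  intro n
  induction n with
  | zero =>
    intro a b h x hx y hy
    obtain ⟨rfl, rfl⟩ : a = 0 ∧ b = 0 := by omega
    simp [F] at hx ⊢; simp [hx]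
  | succ n ih =>
    intro a b h x hx y hy
    cases a with
    | zero => simp [F] at hx; simp [hx]
    | succ a =>
      cases b with
      | zero => simp [F] at hy; simp [hy]
      | succ b =>
        rw [mem_succ_iff_D, Bialgebra.comul_mul]
        have e : CoalgebraStruct.comul (R := k) x * CoalgebraStruct.comul (R := k) y - (x * y) ⊗ₜ (1 : A) =
            (CoalgebraStruct.comul (R := k) x - x ⊗ₜ 1) * CoalgebraStruct.comul (R := k) y +
              (x ⊗ₜ (1 : A)) * (CoalgebraStruct.comul (R := k) y - y ⊗ₜ 1) := by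
          simp only [sub_mul, mul_sub, Algebra.TensorProduct.tmul_mul_tmul, mul_one]
          abel
        rw [e]
        refine add_mem (mul_range (fun p hp q hq => ih a (b + 1) (by omega) p hp q hq)
          (mem_succ_iff_D.mp hx) (comul_mem hy))
          (mul_range (fun p hp q hq => ih (a + 1) b (by omega) p hp q hq) ?_ (mem_succ_iff_D.mp hy))
        exact ⟨⟨x, hx⟩ ⊗ₜ 1, by simp⟩

lemma antipode_mem [Coalgebra.IsCocomm k A] {n : ℕ} : ∀ {x : A}, x ∈ F k A n → HopfAlgebra.antipode k x ∈ F k A n := by
  induction n with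
  | zero => intro x hx; simp [F] at hx ⊢; simp [hx]
  | succ n ih =>
    intro x hx
    rw [mem_succ_iff_D] at hx ⊢
    obtain ⟨z, hz⟩ := hx
    have e : CoalgebraStruct.comul (R := k) (HopfAlgebra.antipode k x) - HopfAlgebra.antipode k x ⊗ₜ (1 : A) =
        TensorProduct.map (HopfAlgebra.antipode k) (HopfAlgebra.antipode k)
          (CoalgebraStruct.comul (R := k) x - x ⊗ₜ 1) := by
      rw [map_sub, H8Hopf.comul_antipode, Coalgebra.comm_comul]
      simp
    rw [e, ← hz]
    clear hz e
    induction z using TensorProduct.induction_on with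
    | zero => simp
    | add p q hp hq => simp only [map_add]; exact add_mem hp hq
    | tmul a b => exact ⟨⟨_, ih a.2⟩ ⊗ₜ HopfAlgebra.antipode k b, by simp⟩

variable (k A) in
/-- The unipotent part. -/
noncomputable def U : Subalgebra k A where
  carrier := {x | ∃ n, x ∈ F k A n}
  add_mem' := fun {x y} ⟨a, ha⟩ ⟨b, hb⟩ =>
    ⟨max a b, add_mem (F_mono (le_max_left a b) ha) (F_mono (le_max_right a b) hb)⟩
  mul_mem' := fun {x y} ⟨a, ha⟩ ⟨b, hb⟩ => ⟨a + b, mul_mem_F _ a b rfl x ha y hb⟩
  algebraMap_mem' := fun r => ⟨1, by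
    rw [Algebra.algebraMap_eq_smul_one]; exact Submodule.smul_mem _ r one_mem_F_one⟩

lemma mem_U {x : A} : x ∈ U k A ↔ ∃ n, x ∈ F k A n := Iff.rfl

lemma F_le_U (n : ℕ) : F k A n ≤ (U k A).toSubmodule := fun _ hx => ⟨n, hx⟩

lemma mem_range_map_of_comm {W : Submodule k A} {z : A ⊗[k] A}
    (hz : z ∈ LinearMap.range (W.subtype.rTensor A)) (hc : TensorProduct.comm k A A z = z) :
    z ∈ LinearMap.range (TensorProduct.map W.subtype W.subtype) := by
  obtain ⟨p, hp⟩ := LinearMap.exists_leftInverse_of_injective W.subtype W.ker_subtype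
  obtain ⟨y, hy⟩ := hz
  refine ⟨TensorProduct.map p p z, ?_⟩
  have h1 : LinearMap.rTensor A (W.subtype ∘ₗ p) z = z := by
    rw [← hy, ← LinearMap.rTensor_comp_apply, LinearMap.comp_assoc, hp, LinearMap.comp_id]
  have h2 : LinearMap.lTensor A (W.subtype ∘ₗ p) z = z := by
    conv_lhs => rw [← hc]
    rw [LinearMap.lTensor, TensorProduct.map_comm]
    exact (congrArg _ h1).trans hc
  have h3 : TensorProduct.map (W.subtype ∘ₗ p) (W.subtype ∘ₗ p) z = z := by
    rw [← LinearMap.rTensor_comp_lTensor, LinearMap.comp_apply, h2, h1]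
  rw [TensorProduct.map_comp] at h3
  exact h3

theorem isHopfSub_U [Coalgebra.IsCocomm k A] : H8HopfSub.IsHopfSub (U k A) := by
  refine ⟨fun b hb => ?_, fun b hb => ?_⟩
  · obtain ⟨n, hn⟩ := hb
    obtain ⟨z, hz⟩ := mem_range_map_of_comm (comul_mem hn) (Coalgebra.comm_comul k b)
    let i : F k A n →ₗ[k] (U k A) := LinearMap.codRestrict (U k A).toSubmodule (F k A n).subtype
      fun x => F_le_U n x.2
    refine ⟨TensorProduct.map i i z, ?_⟩
    rw [← LinearMap.comp_apply, ← TensorProduct.map_comp]
    exact hz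
  · obtain ⟨n, hn⟩ := hb
    exact ⟨n, antipode_mem hn⟩

theorem isUnipotent_U [Coalgebra.IsCocomm k A] :
    letI := H8HopfSub.hopf (isHopfSub_U (k := k) (A := A))
    HopfRep.IsUnipotent k (U k A) := by
  letI := H8HopfSub.hopf (isHopfSub_U (k := k) (A := A))
  intro V _ _ _ hfin hnt
  -- matrix coefficients, read in `A`
  let c : Module.Dual k V → (V →ₗ[k] A) := fun φ =>
    (U k A).val.toLinearMap ∘ₗ (TensorProduct.lid k (U k A)).toLinearMap ∘ₗ φ.rTensor (U k A) ∘ₗ
      HopfRep.Comod.coact (k := k) (A := U k A) (V := V)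
  have hc0 : ∀ φ v, CoalgebraStruct.counit (R := k) (c φ v) = φ v := by
    intro φ v
    have h := LinearMap.congr_fun (HopfRep.Comod.counit_comp (k := k) (A := U k A) (V := V)) v
    simp only [LinearMap.comp_apply, LinearMap.flip_apply, TensorProduct.mk_apply] at h
    have key : ∀ z : V ⊗[k] (U k A), CoalgebraStruct.counit (R := k)
        ((U k A).val (TensorProduct.lid k (U k A) (φ.rTensor (U k A) z))) =
        φ (TensorProduct.rid k V ((CoalgebraStruct.counit (R := k) (A := U k A)).lTensor V z)) := by
      intro z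
      induction z using TensorProduct.induction_on with
      | zero => simp
      | tmul v b =>
        have e : CoalgebraStruct.counit (R := k) (b : A) = CoalgebraStruct.counit (R := k) b := rfl
        simp [e, mul_comm]
      | add a b ha hb => simp only [map_add, ha, hb]
    show CoalgebraStruct.counit (R := k)
        ((U k A).val (TensorProduct.lid k (U k A) (φ.rTensor (U k A) _))) = _
    rw [key, h]; simp
  let res : (A →ₗ[k] k) → H8Comod.DualAlg k (U k A) := fun f => toConv (f ∘ₗ (U k A).val.toLinearMap)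
  have hact : ∀ (φ : Module.Dual k V) (f : A →ₗ[k] k) (v : V),
      c φ (H8Comod.act V (res f) v) = T f (c φ v) := by
    intro φ f v
    have h := LinearMap.congr_fun (HopfRep.Comod.coassoc (k := k) (A := U k A) (V := V)) v
    simp only [LinearMap.comp_apply, LinearEquiv.coe_coe] at h
    let ψ : (U k A) ⊗[k] (U k A) →ₗ[k] A :=
      H8Comod.contr A f ∘ₗ TensorProduct.map (U k A).val.toLinearMap (U k A).val.toLinearMap
    let Ψ : V ⊗[k] ((U k A) ⊗[k] (U k A)) →ₗ[k] A :=
      (TensorProduct.lid k A).toLinearMap ∘ₗ TensorProduct.map φ ψ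
    have e1 : ∀ z : V ⊗[k] (U k A), c φ (H8Comod.contr V (res f).ofConv z) =
        Ψ (TensorProduct.assoc k V (U k A) (U k A)
          ((HopfRep.Comod.coact (k := k) (A := U k A) (V := V)).rTensor (U k A) z)) := by
      intro z
      induction z using TensorProduct.induction_on with
      | zero => simp
      | tmul a q =>
        simp only [H8Comod.contr_tmul, map_smul, LinearMap.rTensor_tmul, c, LinearMap.comp_apply,
          LinearEquiv.coe_coe]
        generalize HopfRep.Comod.coact (k := k) (A := U k A) a = w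
        induction w using TensorProduct.induction_on with
        | zero => simp
        | tmul p r => simp [Ψ, ψ, res, smul_smul, mul_comm]
        | add p r hp hr => simp only [map_add, smul_add, add_tmul, hp, hr]
      | add p q hp hq => simp only [map_add, hp, hq]
    have e2 : ∀ z : V ⊗[k] (U k A), Ψ ((CoalgebraStruct.comul (R := k) (A := U k A)).lTensor V z) =
        T f ((U k A).val (TensorProduct.lid k (U k A) (φ.rTensor (U k A) z))) := by
      intro z
      induction z using TensorProduct.induction_on with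
      | zero => simp
      | tmul a q =>
        have e : TensorProduct.map (U k A).val.toLinearMap (U k A).val.toLinearMap
            (CoalgebraStruct.comul (R := k) q) = CoalgebraStruct.comul (R := k) (q : A) :=
          AlgHom.congr_fun (H8HopfSub.sqVal_comulB (isHopfSub_U (k := k) (A := A))) q
        simp [Ψ, ψ, T_apply, e]
      | add p q hp hq => simp only [map_add, hp, hq]
    rw [H8Comod.act_apply, e1, h, e2]
    rfl
  have hex : ∀ v : V, ∃ n, ∀ φ, c φ v ∈ F k A n := by
    intro v
    simp only [c, LinearMap.comp_apply, LinearEquiv.coe_coe, AlgHom.toLinearMap_apply]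
    generalize HopfRep.Comod.coact (k := k) (A := U k A) v = z
    induction z using TensorProduct.induction_on with
    | zero => exact ⟨0, fun φ => by simp⟩
    | tmul a q =>
      obtain ⟨n, hn⟩ := q.2
      exact ⟨n, fun φ => by simpa using Submodule.smul_mem _ (φ a) hn⟩
    | add p q hp hq =>
      obtain ⟨a, ha⟩ := hp
      obtain ⟨b, hb⟩ := hq
      refine ⟨max a b, fun φ => ?_⟩
      simp only [map_add, Subalgebra.coe_add]
      exact add_mem (F_mono (le_max_left a b) (ha φ)) (F_mono (le_max_right a b) (hb φ))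
  classical
  obtain ⟨v₀, hv₀⟩ := exists_ne (0 : V)
  have hP : ∃ n, ∃ v : V, v ≠ 0 ∧ ∀ φ, c φ v ∈ F k A n :=
    ⟨_, v₀, hv₀, (hex v₀).choose_spec⟩
  obtain ⟨v, hv, hn⟩ := Nat.find_spec hP
  obtain ⟨m, hm⟩ : ∃ m, Nat.find hP = m + 1 := by
    refine Nat.exists_eq_succ_of_ne_zero fun h0 => hv ?_
    refine (Module.forall_dual_apply_eq_zero_iff k v).mp fun φ => ?_
    have := hn φ
    rw [h0] at this
    simp only [F, Submodule.mem_bot] at this
    rw [← hc0, this, map_zero]
  have hkill : ∀ f : A →ₗ[k] k, f 1 = 0 → H8Comod.act V (res f) v = 0 := by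
    intro f hf
    by_contra hne
    refine Nat.find_min hP (m := m) (by omega) ⟨_, hne, fun φ => ?_⟩
    rw [hact]
    exact mem_succ.mp (hm ▸ hn φ) f hf
  have hfix : v ∈ HopfRep.fixedPts k (U k A) V := by
    show HopfRep.Comod.coact (k := k) (A := U k A) v = v ⊗ₜ 1
    refine H8Comod.eq_of_forall_contr fun g => ?_
    obtain ⟨g', hg'⟩ := LinearMap.exists_extend (p := (U k A).toSubmodule)
      (g - g 1 • CoalgebraStruct.counit (R := k) (A := U k A))
    have hres : res g' = toConv (g - g 1 • CoalgebraStruct.counit (R := k) (A := U k A)) :=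
      congrArg toConv hg'
    have h1 : g' 1 = 0 := by
      have e : g' ((1 : U k A) : A) = _ := LinearMap.congr_fun hg' (1 : U k A)
      rw [OneMemClass.coe_one] at e
      rw [e]; simp
    have hk := hkill g' h1
    rw [hres, H8Comod.act_apply] at hk
    simp only [H8Comod.contr, LinearMap.lTensor_sub, LinearMap.lTensor_smul] at hk
    have h := LinearMap.congr_fun (HopfRep.Comod.counit_comp (k := k) (A := U k A) (V := V)) v
    simp only [LinearMap.comp_apply, LinearMap.flip_apply, TensorProduct.mk_apply] at h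
    simp only [LinearMap.comp_apply, LinearMap.sub_apply, LinearMap.smul_apply, map_sub, map_smul,
      LinearEquiv.coe_coe, h, rid_tmul, one_smul, sub_eq_zero] at hk
    simp [H8Comod.contr, hk]
  intro hbot
  rw [hbot] at hfix
  exact hv hfix

/-- The orbit of a vector under the translations. -/
noncomputable def orbit (x : A) : Submodule k A :=
  LinearMap.range ({ toFun := fun f => T f x, map_add' := fun f g => by simp [T_add],
                     map_smul' := fun c f => by simp [T_smul] } : (A →ₗ[k] k) →ₗ[k] A)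

lemma mem_orbit {x y : A} : y ∈ orbit (k := k) x ↔ ∃ f : A →ₗ[k] k, T f x = y := Iff.rfl

lemma self_mem_orbit (x : A) : x ∈ orbit (k := k) x :=
  ⟨CoalgebraStruct.counit, by simp [T_counit]⟩

lemma T_mul_eq (f g : A →ₗ[k] k) (x : A) :
    ∃ h : A →ₗ[k] k, T h x = T f (T g x) :=
  ⟨(toConv f * toConv g : H8Comod.DualAlg k A).ofConv, by
    rw [T, toConv_ofConv, H8Comod.act_mul]; rfl⟩

lemma T_mem_orbit {x y : A} (hy : y ∈ orbit (k := k) x) (f : A →ₗ[k] k) : T f y ∈ orbit (k := k) x := by
  obtain ⟨g, rfl⟩ := hy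
  exact T_mul_eq f g x

lemma orbit_le {x y : A} (hy : y ∈ orbit (k := k) x) : orbit (k := k) y ≤ orbit (k := k) x := by
  rintro _ ⟨f, rfl⟩
  exact T_mem_orbit hy f

instance finite_orbit (x : A) : Module.Finite k (orbit (k := k) x) := by
  classical
  obtain ⟨s, hs⟩ := TensorProduct.exists_finset (CoalgebraStruct.comul (R := k) x)
  haveI : Module.Finite k (Submodule.span k (Prod.fst '' (s : Set (A × A)))) :=
    Module.Finite.span_of_finite k (s.finite_toSet.image _)
  suffices orbit (k := k) x ≤ Submodule.span k (Prod.fst '' (s : Set (A × A))) from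
    Submodule.finiteDimensional_of_le this
  rintro _ ⟨f, rfl⟩
  show T f x ∈ _
  rw [T_apply, hs, map_sum]
  refine Submodule.sum_mem _ fun i hi => ?_
  rw [H8Comod.contr_tmul]
  exact Submodule.smul_mem _ _ (Submodule.subset_span (Set.mem_image_of_mem _ hi))

lemma orbit_eq_of_finrank {x y : A} (hy : y ∈ orbit (k := k) x)
    (h : Module.finrank k (orbit (k := k) x) ≤ Module.finrank k (orbit (k := k) y)) :
    orbit (k := k) y = orbit (k := k) x :=
  Submodule.eq_of_le_of_finrank_le (orbit_le hy) h

/-- If `y = L x` lies in the orbit of `x` and generates it, while `L` is locally nilpotent at `x`, then `x = 0`. -/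
lemma eq_zero_of_orbit_eq [Coalgebra.IsCocomm k A] {x : A} {f : A →ₗ[k] k}
    (hgen : x ∈ orbit (k := k) (T f x)) {N : ℕ} (hN : ((T f) ^ N) x = 0) : x = 0 := by
  obtain ⟨h, hh⟩ := hgen
  have hcomm : Commute (T h) (T f) := LinearMap.ext fun z => T_T h f z
  have hfix : ∀ n : ℕ, ((T h * T f) ^ n) x = x := by
    intro n
    induction n with
    | zero => simp
    | succ n ih => rw [pow_succ', Module.End.mul_apply, ih]; exact hh
  have := hfix N
  rw [hcomm.mul_pow, Module.End.mul_apply, hN, map_zero] at this
  exact this.symm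

lemma exists_F_of_fg {W : Submodule k A} (hW : W.FG) (hle : W ≤ (U k A).toSubmodule) :
    ∃ N, W ≤ F k A N := by
  classical
  obtain ⟨s, rfl⟩ := hW
  induction s using Finset.induction_on with
  | empty => exact ⟨0, by simp⟩
  | insert a s _ ih =>
    rw [Finset.coe_insert, Submodule.span_insert] at hle ⊢
    obtain ⟨N, hN⟩ := ih (le_sup_right.trans hle)
    obtain ⟨M, hM⟩ := hle (Submodule.mem_sup_left (Submodule.mem_span_singleton_self a))
    exact ⟨max M N, sup_le ((Submodule.span_singleton_le_iff_mem _ _).mpr (F_mono (le_max_left M N) hM))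
      (hN.trans (F_mono (le_max_right M N)))⟩

/-- A finite-dimensional stable subspace on which the augmentation acts nilpotently lies in `U`. -/
theorem le_U_of_nil [Coalgebra.IsCocomm k A] : ∀ (d : ℕ) (x : A), Module.finrank k (orbit (k := k) x) = d →
    (∀ f : A →ₗ[k] k, f 1 = 0 → ∀ y ∈ orbit (k := k) x, ∃ N : ℕ, ((T f) ^ N) y = 0) →
    x ∈ U k A := by
  intro d
  induction d using Nat.strong_induction_on with
  | _ d ih =>
    intro x hd hnil
    by_contra hx
    have hsub : ∀ f : A →ₗ[k] k, f 1 = 0 → T f x ∈ U k A := by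
      intro f hf
      have hy : T f x ∈ orbit (k := k) x := ⟨f, rfl⟩
      by_contra hyU
      have hfull : Module.finrank k (orbit (k := k) x) ≤ Module.finrank k (orbit (k := k) (T f x)) := by
        by_contra hlt
        exact hyU (ih _ (hd ▸ Nat.lt_of_not_le hlt) (T f x) rfl fun g hg y hy' =>
          hnil g hg y (orbit_le hy hy'))
      have hxin : x ∈ orbit (k := k) (T f x) := by
        rw [orbit_eq_of_finrank hy hfull]; exact self_mem_orbit x
      obtain ⟨N, hN⟩ := hnil f hf x (self_mem_orbit x)
      exact hx (eq_zero_of_orbit_eq hxin hN ▸ zero_mem _)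
    obtain ⟨N, hN⟩ := exists_F_of_fg
      (W := orbit (k := k) x ⊓ (U k A).toSubmodule)
      (Module.Finite.iff_fg.mp (Submodule.finiteDimensional_of_le inf_le_left)) inf_le_right
    exact hx ⟨N + 1, mem_succ.mpr fun f hf => hN ⟨⟨f, rfl⟩, hsub f hf⟩⟩

lemma T_mul_groupLike (g : A) (hg : IsGroupLikeElem k g) (f : A →ₗ[k] k) (x : A) :
    T f (g * x) = g * T (f ∘ₗ LinearMap.mulLeft k g) x := by
  rw [T_apply, Bialgebra.comul_mul, hg.comul_eq_tmul_self, T_apply]
  generalize CoalgebraStruct.comul (R := k) x = z
  induction z using TensorProduct.induction_on with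
  | zero => simp
  | tmul a b => simp
  | add a b ha hb => simp only [mul_add, map_add, ha, hb]

variable (k A) in
/-- Group-like translates of the unipotent part. -/
noncomputable def S : Submodule k A :=
  Submodule.span k {y | ∃ g b, IsGroupLikeElem k g ∧ b ∈ U k A ∧ y = g * b}

/-- Over an algebraically closed field, group-like translates of the unipotent part span. -/
theorem S_eq_top [IsAlgClosed k] [Coalgebra.IsCocomm k A] : S k A = ⊤ := by
  rw [eq_top_iff]
  intro x _
  suffices ∀ (d : ℕ) (x : A), Module.finrank k (orbit (k := k) x) = d → x ∈ S k A from this _ x rfl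
  intro d
  induction d using Nat.strong_induction_on with
  | _ d ih =>
    intro x hd
    by_contra hx
    set W := orbit (k := k) x with hW
    have hchar : ∀ f : A →ₗ[k] k, ∃ c : k, ∀ w ∈ W, ∃ N : ℕ, ((T f - c • 1) ^ N) w = 0 := by
      intro f
      let t : Module.End k W := (T f).restrict fun w hw => T_mem_orbit hw f
      have hval : ∀ (c : k) (N : ℕ) (w : W), (((t - c • 1) ^ N) w : A) = ((T f - c • 1) ^ N) (w : A) := by
        intro c N
        induction N with
        | zero => simp
        | succ N ihN =>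
          intro w
          rw [pow_succ, Module.End.mul_apply, ihN, pow_succ, Module.End.mul_apply]
          rfl
      by_contra hno
      have hlt : ∀ c : k, ∀ w ∈ t.maxGenEigenspace c, (w : A) ∈ S k A := by
        intro c w hw
        obtain ⟨N, hN⟩ := (Module.End.mem_maxGenEigenspace _ _ _).mp hw
        have hwN : ((T f - c • 1) ^ N) (w : A) = 0 := by rw [← hval, hN]; rfl
        refine ih _ ?_ _ rfl
        rw [← hd]
        refine lt_of_not_ge fun hge => hno ⟨c, fun y hy => ⟨N, ?_⟩⟩
        have hy' : y ∈ orbit (k := k) (w : A) := (orbit_eq_of_finrank w.2 hge).symm ▸ hy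
        obtain ⟨g, rfl⟩ := hy' 
        have hcomm : Commute (T g) (T f - c • 1) :=
          (show Commute (T g) (T f) from LinearMap.ext fun z => T_T g f z).sub_right
            ((Commute.one_right _).smul_right c)
        show ((T f - c • 1) ^ N) (T g w) = 0
        rw [← Module.End.mul_apply, ← (hcomm.pow_right N).eq, Module.End.mul_apply, hwN, map_zero]
      have htop := Module.End.iSup_maxGenEigenspace_eq_top t
      have hall : (⨆ c, t.maxGenEigenspace c) ≤ (S k A).comap W.subtype :=
        iSup_le fun c w hw => hlt c w hw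
      rw [htop] at hall
      exact hx (hall (Submodule.mem_top (x := ⟨x, self_mem_orbit x⟩)))
    choose χ hχ using hchar
    -- a common eigenvector of minimal orbit
    have hx0 : x ≠ 0 := fun h => hx (h ▸ zero_mem _)
    classical
    have hP : ∃ n, ∃ y ∈ W, y ≠ 0 ∧ Module.finrank k (orbit (k := k) y) = n :=
      ⟨_, x, self_mem_orbit x, hx0, rfl⟩
    obtain ⟨y, hyW, hy0, hyd⟩ := Nat.find_spec hP
    have heig : ∀ f : A →ₗ[k] k, T f y = χ f • y := by
      intro f
      let f' := f - χ f • CoalgebraStruct.counit (R := k) (A := A)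
      have hf' : T f' = T f - χ f • 1 := by rw [T_sub, T_smul, T_counit]
      have hy' : T f' y ∈ orbit (k := k) y := ⟨f', rfl⟩
      by_cases hz : T f' y = 0
      · rw [hf'] at hz
        simpa [sub_eq_zero] using hz
      · exfalso
        have hfull : Module.finrank k (orbit (k := k) y) ≤ Module.finrank k (orbit (k := k) (T f' y)) :=
          hyd ▸ Nat.find_min' hP ⟨_, orbit_le hyW hy', hz, rfl⟩
        have hyin : y ∈ orbit (k := k) (T f' y) := by
          rw [orbit_eq_of_finrank hy' hfull]; exact self_mem_orbit y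
        obtain ⟨N, hN⟩ := hχ f y hyW
        exact hy0 (eq_zero_of_orbit_eq hyin (N := N) (by rw [hf']; exact hN))
    have hεy : CoalgebraStruct.counit (R := k) y ≠ 0 := by
      intro hε
      refine hy0 ((Module.forall_dual_apply_eq_zero_iff k y).mp fun f => ?_)
      rw [← apply_T_counit, heig, map_smul, hε, smul_zero]
    set g := (CoalgebraStruct.counit (R := k) y)⁻¹ • y with hg
    have hεg : CoalgebraStruct.counit (R := k) g = 1 := by
      rw [hg, map_smul, smul_eq_mul, inv_mul_cancel₀ hεy]
    have hχg : ∀ f : A →ₗ[k] k, χ f = f g := by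
      intro f
      rw [hg, map_smul, ← apply_T_counit f y, heig, map_smul, smul_eq_mul, smul_eq_mul, mul_comm (χ f),
        ← mul_assoc, inv_mul_cancel₀ hεy, one_mul]
    have hgl : IsGroupLikeElem k g := by
      refine ⟨hεg, H8Comod.eq_of_forall_contr fun f => ?_⟩
      rw [H8Comod.contr_tmul, ← T_apply, ← hχg, hg, map_smul, heig, smul_comm]
    -- translate by the inverse of `g`
    set h := HopfAlgebra.antipode k g with hh
    have hhl : IsGroupLikeElem k h := hgl.antipode
    have hhU : h * x ∈ U k A := by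
      refine le_U_of_nil _ _ rfl fun f hf z hz => ?_
      obtain ⟨e, rfl⟩ := hz
      show ∃ N : ℕ, ((T f) ^ N) (T e (h * x)) = 0
      rw [T_mul_groupLike h hhl]
      set w := T (e ∘ₗ LinearMap.mulLeft k h) x
      obtain ⟨N, hN⟩ := hχ (f ∘ₗ LinearMap.mulLeft k h) w ⟨_, rfl⟩
      have hzero : χ (f ∘ₗ LinearMap.mulLeft k h) = 0 := by
        rw [hχg]; simp [h, hgl, hf]
      rw [hzero, zero_smul, sub_zero] at hN
      refine ⟨N, ?_⟩
      have : ∀ n : ℕ, ∀ w : A, ((T f) ^ n) (h * w) = h * ((T (f ∘ₗ LinearMap.mulLeft k h)) ^ n) w := by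
        intro n
        induction n with
        | zero => simp
        | succ n ihn =>
          intro w
          rw [pow_succ', Module.End.mul_apply, ihn, T_mul_groupLike h hhl, pow_succ', Module.End.mul_apply]
      rw [this, hN, mul_zero]
    refine hx (Submodule.subset_span ⟨g, h * x, hgl, hhU, ?_⟩)
    rw [← mul_assoc, hh, hgl.mul_antipode_cancel, one_mul]

end Basic

section BaseChange

variable {k : Type u} [Field k] {A : Type u} [CommRing A] [HopfAlgebra k A]
  (R : Type u) [CommRing R] [Algebra k R]

variable (A) in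
/-- `A ⊗ A` mapped into the square of the base change. -/
noncomputable def sq : A ⊗[k] A →ₗ[k] (R ⊗[k] A) ⊗[R] (R ⊗[k] A) :=
  TensorProduct.lift (LinearMap.mk₂ k (fun a b => ((1 : R) ⊗ₜ[k] a) ⊗ₜ[R] ((1 : R) ⊗ₜ[k] b))
    (fun a a' b => by simp [tmul_add, add_tmul])
    (fun c a b => by rw [tmul_smul, ← smul_tmul'])
    (fun a b b' => by simp [tmul_add])
    (fun c a b => by rw [tmul_smul, TensorProduct.tmul_smul]))

@[simp] lemma sq_tmul (a b : A) : sq A R (a ⊗ₜ[k] b) = ((1 : R) ⊗ₜ[k] a) ⊗ₜ[R] ((1 : R) ⊗ₜ[k] b) := rfl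

lemma comul_one_tmul (a : A) :
    CoalgebraStruct.comul (R := R) ((1 : R) ⊗ₜ[k] a) = sq A R (CoalgebraStruct.comul (R := k) a) := by
  rw [TensorProduct.comul_tmul]
  generalize CoalgebraStruct.comul (R := k) a = z
  induction z using TensorProduct.induction_on with
  | zero => simp
  | tmul p q => simp
  | add p q hp hq => simp only [map_add, tmul_add, hp, hq]

variable (K : Type u) [Field K] [Algebra k K]

/-- Slices of the unipotent part of the base change lie in the unipotent part. -/
lemma slice_mem (n : ℕ) : ∀ x ∈ F K (K ⊗[k] A) n, ∀ l : K →ₗ[k] k,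
    TensorProduct.lid k A (LinearMap.rTensor A l x) ∈ F k A n := by
  induction n with
  | zero => intro x hx l; simp [F] at hx ⊢; simp [hx]
  | succ n ih =>
    intro x hx l
    refine mem_succ.mpr fun f hf => ?_
    let fb : K ⊗[k] A →ₗ[K] K := (AlgebraTensorModule.rid k K K).toLinearMap ∘ₗ f.baseChange K
    have hfb : fb 1 = 0 := by simp [fb, Algebra.TensorProduct.one_def, hf]
    have := ih _ (mem_succ.mp hx fb hfb) l
    convert this using 1
    clear this hx
    induction x using TensorProduct.induction_on with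
    | zero => simp
    | add p q hp hq => simp only [map_add, hp, hq]
    | tmul c a =>
      have e : T fb (c ⊗ₜ[k] a) = c ⊗ₜ[k] T f a := by
        rw [show c ⊗ₜ[k] a = c • ((1 : K) ⊗ₜ[k] a) by simp [smul_tmul'], map_smul, T_apply, comul_one_tmul]
        rw [show c ⊗ₜ[k] T f a = c • ((1 : K) ⊗ₜ[k] T f a) by simp [smul_tmul'], T_apply]
        congr 1
        generalize CoalgebraStruct.comul (R := k) a = z
        induction z using TensorProduct.induction_on with
        | zero => simp
        | tmul p q =>
          simp [fb, smul_tmul', Algebra.smul_def, tmul_smul]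
          rw [← mul_one (algebraMap k K (f q)), ← Algebra.smul_def, smul_tmul]
          simp [tmul_smul, Algebra.smul_def]
        | add p q hp hq => simp only [map_add, tmul_add, hp, hq]
      simp [e]

lemma mem_span_of_mem_U {x : K ⊗[k] A} (hx : x ∈ U K (K ⊗[k] A)) :
    x ∈ Submodule.span K ((fun a : A => (1 : K) ⊗ₜ[k] a) '' (U k A : Set A)) := by
  classical
  obtain ⟨n, hn⟩ := hx
  let e := Module.Free.chooseBasis k K
  rw [← (TensorProduct.equivFinsuppOfBasisLeft (N := A) e).symm_apply_apply x,
    TensorProduct.equivFinsuppOfBasisLeft_symm_apply]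
  refine Submodule.sum_mem _ fun i _ => ?_
  dsimp only
  rw [show e i ⊗ₜ[k] TensorProduct.equivFinsuppOfBasisLeft e x i =
    e i • ((1 : K) ⊗ₜ[k] TensorProduct.equivFinsuppOfBasisLeft e x i) by simp [smul_tmul']]
  refine Submodule.smul_mem _ _ (Submodule.subset_span ⟨_, ⟨n, ?_⟩, rfl⟩)
  have key : ∀ z : K ⊗[k] A, TensorProduct.equivFinsuppOfBasisLeft e z i =
      TensorProduct.lid k A (LinearMap.rTensor A (e.coord i) z) := by
    intro z
    induction z using TensorProduct.induction_on with
    | zero => simp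
    | tmul a q => simp
    | add p q hp hq => simp only [map_add, Finsupp.add_apply, hp, hq]
  rw [key]
  exact slice_mem K n x hn _

end BaseChange

/-- A Hopf algebra over a field spanned by its group-like elements is diagonalisable. -/
theorem isDiag_of_span (K : Type u) [Field K] (Q : Type u) [CommRing Q] [HopfAlgebra K Q]
    (h : Submodule.span K {a : Q | IsGroupLikeElem K a} = ⊤) : SGA3b.IsDiag K Q := by
  let F : GroupLike K Q →* Q :=
    { toFun := GroupLike.val, map_one' := rfl, map_mul' := fun _ _ => rfl }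
  let θ := MonoidAlgebra.lift K Q (GroupLike K Q) F
  let Θ : MonoidAlgebra K (GroupLike K Q) →ₐc[K] Q := BialgHom.ofAlgHom θ
    (by
      apply MonoidAlgebra.algHom_ext
      · intro m; simp [θ, F, m.2.counit_eq_one]
      · exact Subsingleton.elim _ _)
    (by
      apply MonoidAlgebra.algHom_ext
      · intro m; simp [θ, F, m.2.comul_eq_tmul_self]
      · exact Subsingleton.elim _ _)
  have hΘ : Function.Bijective Θ := by
    have he : ∀ x, Θ x = Finsupp.linearCombination K (GroupLike.val (R := K) (A := Q)) x.coeff := by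
      intro x
      rw [Finsupp.linearCombination_apply]
      exact MonoidAlgebra.lift_apply F x
    constructor
    · intro x y hxy
      rw [he, he] at hxy
      exact MonoidAlgebra.coeff_injective (linearIndep_groupLikeVal hxy)
    · intro q
      have : q ∈ LinearMap.range (Θ : MonoidAlgebra K (GroupLike K Q) →ₐ[K] Q).toLinearMap := by
        have hq : q ∈ Submodule.span K {a : Q | IsGroupLikeElem K a} := h ▸ Submodule.mem_top
        refine Submodule.span_le.mpr ?_ hq
        intro a ha
        exact ⟨MonoidAlgebra.single ⟨a, ha⟩ 1, by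
          show θ _ = a
          simp [θ, F]⟩
      exact this
  exact ⟨GroupLike K Q, inferInstance, ⟨(BialgEquiv.ofBijective Θ hΘ).symm⟩⟩

/-- Over a multiplicative group, an element `q` with `Δ q = q ⊗ 1 + 1 ⊗ y` is constant. -/
theorem eq_counit_of_isMultTypeConst {k : Type u} [Field k] {Q : Type u} [CommRing Q] [HopfAlgebra k Q]
    (hQ : SGA3b.IsMultTypeConst k Q) (q y : Q)
    (hq : CoalgebraStruct.comul (R := k) q = q ⊗ₜ[k] 1 + 1 ⊗ₜ[k] y) :
    q = CoalgebraStruct.counit (R := k) q • 1 := by
  obtain ⟨R', _, _, hff, M, _, ⟨e⟩⟩ := hQ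
  classical
  set z := e ((1 : R') ⊗ₜ[k] q) with hz
  set w := e ((1 : R') ⊗ₜ[k] y) with hw
  have hΔ : CoalgebraStruct.comul (R := R') z = z ⊗ₜ[R'] 1 + 1 ⊗ₜ[R'] w := by
    rw [hz, ← CoalgHomClass.map_comp_comul_apply, comul_one_tmul, hq]
    simp [← Algebra.TensorProduct.one_def, hw]
  have hz1 : ∀ g : M, g ≠ 1 → z.coeff g = 0 := by
    intro g hg
    let c : MonoidAlgebra R' M →ₗ[R'] R' :=
      { toFun := fun f => f.coeff g, map_add' := fun _ _ => by simp, map_smul' := fun _ _ => by simp }
    let μ : MonoidAlgebra R' M ⊗[R'] MonoidAlgebra R' M →ₗ[R'] R' :=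
      LinearMap.mul' R' R' ∘ₗ TensorProduct.map c c
    have hc1 : c 1 = 0 := by
      show (1 : MonoidAlgebra R' M).coeff g = 0
      simp [MonoidAlgebra.one_def, Ne.symm hg]
    have hdiag : ∀ f : MonoidAlgebra R' M, μ (CoalgebraStruct.comul (R := R') f) = f.coeff g := by
      intro f
      induction f using MonoidAlgebra.induction_linear with
      | zero => simp
      | add f f' hf hf' => simp [hf, hf']
      | single m r =>
        have hcs : ∀ (a : M) (s : R'), c (MonoidAlgebra.single a s) = if a = g then s else 0 := by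
          intro a s
          show (MonoidAlgebra.single a s).coeff g = _
          simp [Finsupp.single_apply]
        by_cases hm : m = g <;> simp [μ, MonoidAlgebra.comul_single, hcs, hm]
    have := congrArg μ hΔ
    rw [hdiag, map_add] at this
    simpa [μ, hc1] using this
  have hz2 : z = CoalgebraStruct.counit (R := R') z • 1 := by
    have hs : z = MonoidAlgebra.single 1 (z.coeff 1) := by
      ext g
      by_cases hg : g = 1
      · simp [hg]
      · simp [hg, hz1 g hg]
    rw [hs]
    simp [MonoidAlgebra.one_def]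
  have hε : CoalgebraStruct.counit (R := R') z =
      algebraMap k R' (CoalgebraStruct.counit (R := k) q) := by
    rw [hz, CoalgHomClass.counit_comp_apply e]
    simp [Algebra.smul_def]
  rw [hε, hz] at hz2
  have h3 : (1 : R') ⊗ₜ[k] q = (1 : R') ⊗ₜ[k] (CoalgebraStruct.counit (R := k) q • (1 : Q)) := by
    apply EquivLike.injective e
    rw [hz2]
    rw [tmul_smul, ← algebraMap_smul R' (CoalgebraStruct.counit (R := k) q), map_smul,
      ← Algebra.TensorProduct.one_def, map_one]
  exact Module.FaithfullyFlat.tensorProduct_mk_injective (A := k) (B := R') Q h3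

end Groth.Agent.H8Unip
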