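import Mathlib
import Groth.Prelude.Def_SGA3b
import Groth.Agent.Lib.H8Mult
import Groth.Agent.Lib.H8Unip
import Groth.Agent.Lib.H8MultGL

/-!
# Groups of multiplicative type over a field are split by a finite separable extension
-/

set_option autoImplicit false

universe u

open TensorProduct

namespace Groth.Agent.H8MultField

open H8MultGL H8MultCore H8Mult

section BC

variable {k : Type u} [Field k] (A : Type u) [CommRing A] [HopfAlgebra k A]
variable (T : Type u) [CommRing T] [Algebra k T] (K : Type u) [CommRing K] [Algebra k K]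

/-- The map induced by an algebra map on base changes. -/
noncomputable def bc (φ : T →ₐ[k] K) : T ⊗[k] A →ₐ[k] K ⊗[k] A :=
  Algebra.TensorProduct.map φ (AlgHom.id k A)

variable {A T K}

lemma bc_tmul (φ : T →ₐ[k] K) (t : T) (a : A) : bc A T K φ (t ⊗ₜ a) = φ t ⊗ₜ a := rfl

lemma bc_injective (φ : T →ₐ[k] K) (hφ : Function.Injective φ) : Function.Injective (bc A T K φ) :=
  Module.Flat.rTensor_preserves_injective_linearMap φ.toLinearMap hφ

lemma counit_bc (φ : T →ₐ[k] K) (z : T ⊗[k] A) :
    CoalgebraStruct.counit (R := K) (bc A T K φ z) = φ (CoalgebraStruct.counit (R := T) z) := by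
  induction z using TensorProduct.induction_on with
  | zero => simp
  | tmul t a => simp [bc_tmul]
  | add p q hp hq => simp only [map_add, hp, hq]

/-- The square of `bc`. -/
noncomputable def bc2 (φ : T →ₐ[k] K) :
    (T ⊗[k] A) ⊗[T] (T ⊗[k] A) →+ (K ⊗[k] A) ⊗[K] (K ⊗[k] A) :=
  TensorProduct.liftAddHom
    { toFun := fun x =>
        { toFun := fun y => bc A T K φ x ⊗ₜ[K] bc A T K φ y
          map_zero' := by simp
          map_add' := fun a b => by simp [tmul_add] }
      map_zero' := by ext; simp
      map_add' := fun a b => by ext y; simp [add_tmul] }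
    (fun t x y => by
      show bc A T K φ (t • x) ⊗ₜ[K] bc A T K φ y = bc A T K φ x ⊗ₜ[K] bc A T K φ (t • y)
      have h : ∀ w : T ⊗[k] A, bc A T K φ (t • w) = φ t • bc A T K φ w := by
        intro w
        induction w using TensorProduct.induction_on with
        | zero => simp
        | tmul s a => simp [bc_tmul, smul_tmul']
        | add p q hp hq => simp only [smul_add, map_add, hp, hq]
      rw [h, h, smul_tmul])

lemma bc2_tmul (φ : T →ₐ[k] K) (x y : T ⊗[k] A) :
    bc2 φ (x ⊗ₜ[T] y) = bc A T K φ x ⊗ₜ[K] bc A T K φ y := rfl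

lemma comul_bc (φ : T →ₐ[k] K) (z : T ⊗[k] A) :
    CoalgebraStruct.comul (R := K) (bc A T K φ z) = bc2 φ (CoalgebraStruct.comul (R := T) z) := by
  induction z using TensorProduct.induction_on with
  | zero => simp
  | tmul t a =>
    rw [bc_tmul, show (t ⊗ₜ[k] a : T ⊗[k] A) = t • ((1 : T) ⊗ₜ[k] a) by simp [smul_tmul'],
      show (φ t ⊗ₜ[k] a : K ⊗[k] A) = φ t • ((1 : K) ⊗ₜ[k] a) by simp [smul_tmul'],
      map_smul, map_smul, comul_one_tmul, comul_one_tmul]
    generalize CoalgebraStruct.comul (R := k) a = w
    induction w using TensorProduct.induction_on with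
    | zero => simp
    | tmul x y =>
      rw [H8Mult.sq_tmul, H8Mult.sq_tmul, TensorProduct.smul_tmul', TensorProduct.smul_tmul' t, bc2_tmul]
      simp [smul_tmul', bc_tmul]
    | add p q hp hq => simp only [map_add, smul_add, hp, hq]
  | add p q hp hq => simp only [map_add, hp, hq]

/-- `bc` on group-like elements. -/
noncomputable def glMap (φ : T →ₐ[k] K) : GroupLike T (T ⊗[k] A) →* GroupLike K (K ⊗[k] A) where
  toFun g := ⟨bc A T K φ g.val, ⟨by rw [counit_bc, g.2.counit_eq_one, map_one], by
    rw [comul_bc, g.2.comul_eq_tmul_self, bc2_tmul]⟩⟩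
  map_one' := GroupLike.val_injective (by simp)
  map_mul' a b := GroupLike.val_injective (by simp)

lemma bc2_injective (φ : T →ₐ[k] K) (hφ : Function.Injective φ) : Function.Injective (bc2 (A := A) φ) := by
  have key : ∀ z, bc2 φ z =
      (Algebra.TensorProduct.cancelBaseChange k K K (K ⊗[k] A) A).symm
        ((Algebra.TensorProduct.assoc k k k K A A).symm
          (LinearMap.rTensor (A ⊗[k] A) φ.toLinearMap
            ((Algebra.TensorProduct.assoc k k k T A A)
              ((Algebra.TensorProduct.cancelBaseChange k T T (T ⊗[k] A) A) z)))) := by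
    intro z
    induction z using TensorProduct.induction_on with
    | zero => simp
    | tmul x y =>
      induction x using TensorProduct.induction_on with
      | zero => simp
      | tmul t a =>
        induction y using TensorProduct.induction_on with
        | zero => simp
        | tmul s b =>
          rw [bc2_tmul]
          simp [bc_tmul, Algebra.TensorProduct.cancelBaseChange_tmul, smul_tmul', tmul_smul,
            Algebra.TensorProduct.assoc_tmul, Algebra.TensorProduct.assoc_symm_tmul]
          rw [show (φ s ⊗ₜ[k] b : K ⊗[k] A) = φ s • ((1 : K) ⊗ₜ[k] b) by simp [smul_tmul'],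
            ← TensorProduct.smul_tmul]
          try simp [smul_tmul', mul_comm]
        | add p q hp hq => simp only [tmul_add, map_add, hp, hq]
      | add p q hp hq => simp only [add_tmul, map_add, hp, hq]
    | add p q hp hq => simp only [map_add, hp, hq]
  intro x y hxy
  rw [key, key] at hxy
  exact (Algebra.TensorProduct.cancelBaseChange k T T (T ⊗[k] A) A).injective
    ((Algebra.TensorProduct.assoc k k k T A A).injective
      (Module.Flat.rTensor_preserves_injective_linearMap φ.toLinearMap hφ
        ((Algebra.TensorProduct.assoc k k k K A A).symm.injective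
          ((Algebra.TensorProduct.cancelBaseChange k K K (K ⊗[k] A) A).symm.injective hxy))))

/-- An element mapping to a group-like element is group-like. -/
lemma isGroupLike_of_bc (φ : T →ₐ[k] K) (hφ : Function.Injective φ) {z : T ⊗[k] A}
    (h : IsGroupLikeElem K (bc A T K φ z)) : IsGroupLikeElem T z := by
  refine ⟨hφ ?_, bc2_injective φ hφ ?_⟩
  · rw [← counit_bc, h.counit_eq_one, map_one]
  · rw [← comul_bc, h.comul_eq_tmul_self, bc2_tmul]

end BC

section Descend

variable {k : Type u} [Field k] {A : Type u} [CommRing A] [HopfAlgebra k A]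

/-- A diagonalisation over a field descends to a finitely generated algebra. -/
theorem exists_fg_diag (hft : Algebra.FiniteType k A) (K : Type u) [Field K] [Algebra k K]
    (h : SGA3b.IsDiag K (K ⊗[k] A)) :
    ∃ T : Subalgebra k K, T.FG ∧ SGA3b.IsDiag T (T ⊗[k] A) := by
  classical
  obtain ⟨M, _, ⟨e⟩⟩ := h
  haveI := hft
  haveI : Algebra.FiniteType K (MonoidAlgebra K M) :=
    Algebra.FiniteType.equiv (inferInstance : Algebra.FiniteType K (K ⊗[k] A))
      (BialgEquiv.toAlgEquiv e)
  have hMfg : Monoid.FG M := (MonoidAlgebra.finiteType_iff_fg (R := K)).mp inferInstance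
  obtain ⟨S, hS⟩ := hMfg.fg_top
  obtain ⟨Fa, hFa⟩ := hft.out
  have hfin : ∀ z : K ⊗[k] A, ∃ c : Finset K, z ∈ Submodule.span k {x | ∃ t ∈ c, ∃ a : A, t ⊗ₜ[k] a = x} := by
    intro z
    obtain ⟨w, rfl⟩ := TensorProduct.exists_finset z
    refine ⟨w.image Prod.fst, Submodule.sum_mem _ fun i hi => Submodule.subset_span ?_⟩
    exact ⟨i.1, Finset.mem_image_of_mem _ hi, i.2, rfl⟩
  choose c hc using hfin
  let gens : Finset K :=
    (S.biUnion fun m => c (diagHom e m).val ∪ c (diagHom e m⁻¹).val) ∪
      Fa.biUnion fun a => (e ((1 : K) ⊗ₜ[k] a)).coeff.support.image fun m => (e ((1 : K) ⊗ₜ[k] a)).coeff m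
  let T : Subalgebra k K := Algebra.adjoin k (gens : Set K)
  refine ⟨T, ⟨gens, rfl⟩, ?_⟩
  let φ : T →ₐ[k] K := T.val
  have hφ : Function.Injective φ := Subtype.val_injective
  let G : GroupLike T (T ⊗[k] A) →* GroupLike K (K ⊗[k] A) := glMap φ
  have hGinj : Function.Injective G := fun g g' hgg =>
    GroupLike.val_injective (bc_injective φ hφ (congrArg GroupLike.val hgg))
  have hrange : ∀ g : GroupLike K (K ⊗[k] A), (∀ t ∈ c g.val, t ∈ T) → g ∈ MonoidHom.mrange G := by
    intro g hg
    have : g.val ∈ LinearMap.range (bc A T K φ).toLinearMap := by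
      refine Submodule.span_le.mpr ?_ (hc g.val)
      rintro x ⟨t, ht, a, rfl⟩
      exact ⟨(⟨t, hg t ht⟩ : T) ⊗ₜ a, rfl⟩
    obtain ⟨z, hz⟩ := this
    have hz' : bc A T K φ z = g.val := hz
    exact ⟨⟨z, isGroupLike_of_bc φ hφ (hz' ▸ g.2)⟩, GroupLike.val_injective hz⟩
  have hall : ∀ m, diagHom e m ∈ MonoidHom.mrange G := by
    intro m
    have hm : m ∈ Submonoid.closure (S : Set M) := hS ▸ Submonoid.mem_top m
    refine (Submonoid.closure_le (S := (MonoidHom.mrange G).comap (diagHom e))).mpr ?_ hm
    intro s hs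
    exact hrange _ fun t ht => Algebra.subset_adjoin (Finset.mem_union_left _
      (Finset.mem_biUnion.mpr ⟨s, hs, Finset.mem_union_left _ ht⟩))
  choose g hg using hall
  let G₀ : M →* GroupLike T (T ⊗[k] A) :=
    { toFun := g
      map_one' := hGinj (by rw [hg, map_one, map_one])
      map_mul' := fun a b => hGinj (by rw [hg, map_mul, map_mul, hg, hg]) }
  have key : ∀ x : MonoidAlgebra T M, bc A T K φ (theta G₀ x) =
      theta (diagHom e) (MonoidAlgebra.mapAlgHom (M := M) φ x) := by
    intro x
    induction x using MonoidAlgebra.induction_linear with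
    | zero => simp
    | add p q hp hq =>
      simp only [map_add, hp, hq]
    | single m t =>
      rw [theta_single]
      have h : ∀ w : T ⊗[k] A, bc A T K φ (t • w) = φ t • bc A T K φ w := by
        intro w
        induction w using TensorProduct.induction_on with
        | zero => simp
        | tmul s a => simp [bc_tmul, smul_tmul']
        | add p q hp hq => simp only [smul_add, map_add, hp, hq]
      rw [h, show bc A T K φ (G₀ m).val = (diagHom e m).val from congrArg GroupLike.val (hg m)]
      rw [show MonoidAlgebra.mapAlgHom (M := M) φ (MonoidAlgebra.single m t) =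
        MonoidAlgebra.single m (φ t) by apply MonoidAlgebra.coeff_injective; simp, theta_single]
  refine isDiag_of_bijective G₀ ⟨fun x y hxy => ?_, fun z => ?_⟩
  · have h1 := congrArg (bc A T K φ) hxy
    rw [key, key] at h1
    have h2 := congrArg MonoidAlgebra.coeff ((theta_diagHom_bijective e).1 h1)
    apply MonoidAlgebra.coeff_injective
    ext m
    have h3 := DFunLike.congr_fun h2 m
    simpa [φ] using hφ (by simpa using h3)
  · have hgen : ∀ a ∈ Fa, (1 : T) ⊗ₜ[k] a ∈ (theta G₀ : MonoidAlgebra T M →ₐ[T] T ⊗[k] A).range := by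
      intro a ha
      let w := e ((1 : K) ⊗ₜ[k] a)
      have hw : ∀ m, w.coeff m ∈ T := by
        intro m
        by_cases hm : m ∈ w.coeff.support
        · exact Algebra.subset_adjoin (Finset.mem_union_right _
            (Finset.mem_biUnion.mpr ⟨a, ha, Finset.mem_image_of_mem _ hm⟩))
        · rw [Finsupp.notMem_support_iff.mp hm]; exact zero_mem T
      let x : MonoidAlgebra T M := ∑ m ∈ w.coeff.support, MonoidAlgebra.single m (⟨w.coeff m, hw m⟩ : T)
      refine ⟨x, bc_injective φ hφ ?_⟩
      show bc A T K φ (theta G₀ x) = bc A T K φ ((1 : T) ⊗ₜ[k] a)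
      rw [key, bc_tmul, map_one]
      refine Eq.trans ?_ (EquivLike.left_inv e ((1 : K) ⊗ₜ[k] a))
      show _ = e.symm w
      conv_rhs => rw [← MonoidAlgebra.sum_coeff_single w, Finsupp.sum, map_sum]
      rw [show MonoidAlgebra.mapAlgHom (M := M) φ x =
        ∑ m ∈ w.coeff.support, MonoidAlgebra.single m (w.coeff m) by
        apply MonoidAlgebra.coeff_injective; ext n; simp [x, φ, map_sum], map_sum]
      refine Finset.sum_congr rfl fun m _ => ?_
      rw [theta_single]
      show w.coeff m • e.symm (MonoidAlgebra.single m 1) = _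
      rw [← map_smul, MonoidAlgebra.smul_single', mul_one]
    induction z using TensorProduct.induction_on with
    | zero => exact ⟨0, map_zero _⟩
    | add p q hp hq => obtain ⟨x, hx⟩ := hp; obtain ⟨y, hy⟩ := hq; exact ⟨x + y, by rw [map_add, hx, hy]⟩
    | tmul t a =>
      have ha : a ∈ ((theta G₀ : MonoidAlgebra T M →ₐ[T] T ⊗[k] A).range.restrictScalars k).comap
          (Algebra.TensorProduct.includeRight : A →ₐ[k] T ⊗[k] A) := by
        have : a ∈ Algebra.adjoin k (Fa : Set A) := hFa ▸ Algebra.mem_top
        exact Algebra.adjoin_le (fun b hb => hgen b hb) this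
      obtain ⟨x, hx⟩ := ha
      refine ⟨t • x, ?_⟩
      have hx' : theta G₀ x = (1 : T) ⊗ₜ[k] a := hx
      rw [map_smul, hx', smul_tmul', smul_eq_mul, mul_one]

end Descend

/-- Group-like elements descend along purely inseparable extensions. -/
theorem isDiag_of_purelyInseparable {k : Type u} [Field k] {A : Type u} [CommRing A] [HopfAlgebra k A]
    (L : Type u) [Field L] [Algebra k L] [IsPurelyInseparable k L] (h : SGA3b.IsDiag L (L ⊗[k] A)) :
    SGA3b.IsDiag k A := by
  classical
  obtain ⟨M, _, ⟨e⟩⟩ := h
  let W := L ⊗[k] L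
  let i₁ : L →ₐ[k] W := Algebra.TensorProduct.includeLeft
  let i₂ : L →ₐ[k] W := Algebra.TensorProduct.includeRight
  have hsplit : HasSplitting W (W ⊗[k] A) := by
    haveI : Module.FaithfullyFlat k L := inferInstance
    have h0 : HasSplitting k A := ⟨PUnit, inferInstance, fun _ => L, inferInstance, inferInstance,
      Module.FaithfullyFlat.of_linearEquiv k L (LinearEquiv.funUnique PUnit k L), fun _ => ⟨M, inferInstance, ⟨e⟩⟩⟩
    exact h0.baseChange W
  obtain ⟨J, hJ1, hJ⟩ := hsplit.exists_haar
  let ker : Ideal W := KaehlerDifferential.ideal k L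
  have hker : ∀ x ∈ ker, IsNilpotent x := by
    intro x hx
    refine mem_nilradical.mp ((show ker ≤ nilradical W from ?_) hx)
    show KaehlerDifferential.ideal k L ≤ _
    rw [← KaehlerDifferential.span_range_eq_ideal, Ideal.span_le]
    rintro _ ⟨s, rfl⟩
    obtain ⟨n, y, hy⟩ := IsPurelyInseparable.pow_mem k (ringExpChar k) s
    haveI : Nontrivial W := inferInstance
    haveI : ExpChar W (ringExpChar k) := expChar_of_injective_ringHom (algebraMap k W).injective _
    refine ⟨ringExpChar k ^ n, ?_⟩
    show ((1 : L) ⊗ₜ[k] s - s ⊗ₜ[k] (1 : L)) ^ _ = 0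
    rw [sub_pow_expChar_pow, Algebra.TensorProduct.tmul_pow, Algebra.TensorProduct.tmul_pow, one_pow, ← hy,
      Algebra.algebraMap_eq_smul_one, smul_tmul, sub_self]
  have hfix : ∀ g : GroupLike L (L ⊗[k] A), bc A L W i₁ g.val = bc A L W i₂ g.val := by
    intro g
    refine congrArg GroupLike.val (groupLike_unique_nil (g := glMap i₁ g) (h := glMap i₂ g) hJ1 hJ ker hker ?_)
    show bc A L W i₁ g.val - bc A L W i₂ g.val ∈ ker • (⊤ : Submodule W (W ⊗[k] A))
    generalize g.val = z
    induction z using TensorProduct.induction_on with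
    | zero => simp
    | tmul t a =>
      rw [bc_tmul, bc_tmul, ← sub_tmul, show ((i₁ t - i₂ t) ⊗ₜ[k] a : W ⊗[k] A) =
        (i₁ t - i₂ t) • ((1 : W) ⊗ₜ[k] a) by rw [smul_tmul', smul_eq_mul, mul_one]]
      refine Submodule.smul_mem_smul ?_ trivial
      show _ ∈ KaehlerDifferential.ideal k L
      rw [← neg_mem_iff, neg_sub]
      exact KaehlerDifferential.one_smul_sub_smul_one_mem_ideal k t
    | add p q hp hq => rw [map_add, map_add, add_sub_add_comm]; exact add_mem hp hq
  let b := Module.Free.chooseBasis k A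
  have hdesc : ∀ z : L ⊗[k] A, bc A L W i₁ z = bc A L W i₂ z → ∃ a : A, (1 : L) ⊗ₜ[k] a = z := by
    intro z hz
    let B := TensorProduct.equivFinsuppOfBasisRight (M := L) b
    let B' := TensorProduct.equivFinsuppOfBasisRight (M := W) b
    have hB : ∀ (φ : L →ₐ[k] W) (z : L ⊗[k] A) i, B' (bc A L W φ z) i = φ (B z i) := by
      intro φ z i
      induction z using TensorProduct.induction_on with
      | zero => simp
      | tmul t a => simp [bc_tmul, B, B']
      | add p q hp hq => simp only [map_add, Finsupp.add_apply, hp, hq]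
    have hc : ∀ i, ∃ r : k, algebraMap k L r = B z i := by
      intro i
      have h1 : i₁ (B z i) = i₂ (B z i) := by rw [← hB, ← hB, hz]
      exact (Algebra.IsEffective.of_faithfullyFlat k L (B z i)).mp
        ((Algebra.TensorProduct.includeLeftSubRight_apply (R := k) (B z i)).trans (sub_eq_zero.mpr h1))
    choose r hr using hc
    refine ⟨∑ i ∈ (B z).support, r i • b i, ?_⟩
    rw [tmul_sum]
    conv_rhs => rw [← B.symm_apply_apply z]
    rw [TensorProduct.equivFinsuppOfBasisRight_symm_apply]
    refine Finset.sum_congr rfl fun i _ => ?_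
    rw [tmul_smul, smul_tmul', ← Algebra.algebraMap_eq_smul_one, hr]
  let Sp : Submodule k A := Submodule.span k {a : A | IsGroupLikeElem k a}
  have hgl : ∀ g : GroupLike L (L ⊗[k] A), ∃ a : A, IsGroupLikeElem k a ∧ (1 : L) ⊗ₜ[k] a = g.val := by
    intro g
    obtain ⟨a, ha⟩ := hdesc g.val (hfix g)
    refine ⟨a, ⟨(algebraMap k L).injective ?_, ?_⟩, ha⟩
    · have := g.2.counit_eq_one
      rw [← ha, TensorProduct.counit_tmul, CommSemiring.counit_apply, ← Algebra.algebraMap_eq_smul_one] at this
      rw [this, map_one]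
    · apply Module.FaithfullyFlat.tensorProduct_mk_injective (A := k) (B := L) (A ⊗[k] A)
      apply (TensorProduct.AlgebraTensorModule.distribBaseChange k L A A).injective
      have key : ∀ z : A ⊗[k] A, TensorProduct.AlgebraTensorModule.distribBaseChange k L A A ((1 : L) ⊗ₜ[k] z) =
          H8Mult.sq (R := k) L A z := by
        intro z
        induction z using TensorProduct.induction_on with
        | zero => simp
        | tmul a b => simp [TensorProduct.AlgebraTensorModule.distribBaseChange_tmul]
        | add p q hp hq => simp only [tmul_add, map_add, hp, hq]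
      show TensorProduct.AlgebraTensorModule.distribBaseChange k L A A ((1 : L) ⊗ₜ[k] _) =
        TensorProduct.AlgebraTensorModule.distribBaseChange k L A A ((1 : L) ⊗ₜ[k] _)
      rw [key, key, ← comul_one_tmul, H8Mult.sq_tmul, ha]
      exact g.2.comul_eq_tmul_self
  refine H8Unip.isDiag_of_span k A (eq_top_iff.mpr fun a _ => ?_)
  by_contra hna
  have h1 : (1 : L) ⊗ₜ[k] a ∈ LinearMap.range (Sp.subtype.baseChange L) := by
    rw [← EquivLike.left_inv e ((1 : L) ⊗ₜ[k] a)]
    show e.symm (e _) ∈ _
    generalize e ((1 : L) ⊗ₜ[k] a) = w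
    induction w using MonoidAlgebra.induction_linear with
    | zero => simp
    | add p q hp hq => rw [map_add]; exact add_mem hp hq
    | single m r =>
      rw [show MonoidAlgebra.single m r = r • MonoidAlgebra.single m (1 : L) by simp, map_smul]
      refine Submodule.smul_mem _ r ?_
      obtain ⟨a', ha', heq⟩ := hgl (diagHom e m)
      exact ⟨(1 : L) ⊗ₜ[k] (⟨a', Submodule.subset_span ha'⟩ : Sp), heq⟩
  have h2 : LinearMap.lTensor L Sp.mkQ ((1 : L) ⊗ₜ[k] a) = 0 := by
    obtain ⟨w, hw⟩ := h1
    rw [← hw]
    clear hw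
    induction w using TensorProduct.induction_on with
    | zero => simp
    | tmul l x => simp [(Submodule.Quotient.mk_eq_zero Sp).mpr x.2]
    | add p q hp hq => simp only [map_add, hp, hq, add_zero]
  rw [LinearMap.lTensor_tmul] at h2
  exact hna ((Submodule.Quotient.mk_eq_zero Sp).mp
    (Module.FaithfullyFlat.tensorProduct_mk_injective (A := k) (B := L) (A ⧸ Sp)
      (h2.trans (tmul_zero _ _).symm)))

lemma isDiagFT_of_purelyInseparable {k : Type u} [Field k] {A : Type u} [CommRing A] [HopfAlgebra k A]
    (hft : Algebra.FiniteType k A) (k' L : Type u) [Field k'] [Algebra k k'] [Field L] [Algebra k L] [Algebra k' L]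
    [IsScalarTower k k' L] [IsPurelyInseparable k' L] (hdL : SGA3b.IsDiag L (L ⊗[k] A)) :
    SGA3b.IsDiagFT k' (k' ⊗[k] A) := by
  haveI := hft
  obtain ⟨M, _, ⟨e⟩⟩ := isDiag_of_purelyInseparable L (isDiag_uncancel L k' hdL)
  haveI : Algebra.FiniteType k' (MonoidAlgebra k' M) :=
    Algebra.FiniteType.equiv (inferInstance : Algebra.FiniteType k' (k' ⊗[k] A)) (BialgEquiv.toAlgEquiv e)
  exact ⟨M, inferInstance, Group.fg_iff_monoid_fg.mpr ((MonoidAlgebra.finiteType_iff_fg (R := k')).mp inferInstance), ⟨e⟩⟩

set_option synthInstance.maxHeartbeats 400000 in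
/-- A group of multiplicative type over a field is diagonalisable over a finite separable extension. -/
theorem exists_sep_split_of_splitting {k : Type u} [Field k] {A : Type u} [CommRing A] [HopfAlgebra k A]
    (hft : Algebra.FiniteType k A) (h : HasSplitting k A) :
    ∃ (k' : Type u) (_ : Field k') (_ : Algebra k k'),
      Module.Finite k k' ∧ Algebra.IsSeparable k k' ∧ SGA3b.IsDiagFT k' (k' ⊗[k] A) := by
  classical
  haveI := hft
  obtain ⟨ι, _, T, _, _, hff, hd⟩ := h
  haveI := hff
  obtain ⟨i, hi⟩ : ∃ i, Nontrivial (T i) := by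
    by_contra hcon
    haveI : ∀ i, Subsingleton (T i) := fun i => not_nontrivial_iff_subsingleton.mp (not_exists.mp hcon i)
    obtain ⟨q, -⟩ := PrimeSpectrum.comap_surjective_of_faithfullyFlat (B := ∀ i, T i) (⟨⊥, inferInstance⟩ : PrimeSpectrum k)
    exact q.isPrime.ne_top (Subsingleton.elim _ _)
  haveI := hi
  obtain ⟨m, hm⟩ := Ideal.exists_maximal (T i)
  letI := Ideal.Quotient.field m
  obtain ⟨T₀, hfg, hd₀⟩ := exists_fg_diag hft (T i ⧸ m) (isDiag_cancel (T i ⧸ m) (T i) (isDiag_baseChange _ (hd i)))
  haveI : Algebra.FiniteType k T₀ := ⟨T₀.fg_top.mpr hfg⟩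
  obtain ⟨m', hm'⟩ := Ideal.exists_maximal T₀
  letI := Ideal.Quotient.field m'
  let L := T₀ ⧸ m'
  haveI : Module.Finite k L := finite_of_finite_type_of_isJacobsonRing k L
  have hdL : SGA3b.IsDiag L (L ⊗[k] A) := isDiag_cancel L T₀ (isDiag_baseChange _ hd₀)
  haveI : Algebra.IsAlgebraic k L := Algebra.IsAlgebraic.of_finite k L
  refine ⟨separableClosure k L, inferInstance, inferInstance, inferInstance, inferInstance, ?_⟩
  haveI := separableClosure.isPurelyInseparable k L
  exact isDiagFT_of_purelyInseparable hft (separableClosure k L) L hdL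

/-- A group of multiplicative type over a field is diagonalisable over a finite separable extension. -/
theorem exists_sep_split {k : Type u} [Field k] {A : Type u} [CommRing A] [HopfAlgebra k A]
    (hft : Algebra.FiniteType k A) (h : SGA3b.IsMultType k A) :
    ∃ (k' : Type u) (_ : Field k') (_ : Algebra k k'),
      Module.Finite k k' ∧ Algebra.IsSeparable k k' ∧ SGA3b.IsDiagFT k' (k' ⊗[k] A) :=
  exists_sep_split_of_splitting hft (hasSplitting_of_isMultType h)

end Groth.Agent.H8MultField
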