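import Mathlib
import Groth.Prelude.Def_SGA3b
import Groth.Agent.Lib.H8MultCore
import Groth.Agent.Lib.H8Mult
import Groth.Agent.Lib.H8MultGL
import Groth.Agent.Lib.H8CharFrame
import Groth.Agent.Lib.H8CharLocus
import Groth.Agent.Lib.H8CharQuasi
import Groth.Agent.Lib.H4HenselEtale

/-!
# Groups of multiplicative type over henselian pairs
-/

set_option autoImplicit false

universe u

open TensorProduct

namespace Groth.Agent.H8MultHensel

open H8MultCore H8Mult H8MultAdic H8MultGL H8CharFrame H8CharLocus H8CharQuasi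

variable {R : Type u} [CommRing R] {A : Type u} [CommRing A] [HopfAlgebra R A]

/-- An element vanishing in every piece vanishes. -/
lemma eq_zero_of_pieces {ι : Type u} [Fintype ι] (T : ι → Type u) [∀ i, CommRing (T i)] [∀ i, Algebra R (T i)]
    [Module.FaithfullyFlat R (∀ i, T i)] {S : Type u} [CommRing S] [Algebra R S] (d : S ⊗[R] A)
    (h : ∀ i, bc (Algebra.TensorProduct.includeLeft : S →ₐ[R] S ⊗[R] T i) d = 0) : d = 0 := by
  classical
  refine Module.FaithfullyFlat.tensorProduct_mk_injective (A := R) (B := ∀ i, T i) (S ⊗[R] A) ?_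
  show (1 : ∀ i, T i) ⊗ₜ[R] d = (1 : ∀ i, T i) ⊗ₜ[R] (0 : S ⊗[R] A)
  rw [tmul_zero]
  refine piTensor_injective T fun i => ?_
  rw [map_zero, LinearMap.rTensor_tmul]
  let e : (S ⊗[R] T i) ⊗[R] A ≃ₗ[R] T i ⊗[R] (S ⊗[R] A) :=
    (TensorProduct.congr (TensorProduct.comm R S (T i)) (LinearEquiv.refl R A)).trans (TensorProduct.assoc R (T i) S A)
  have he : ∀ z : S ⊗[R] A, e (bc Algebra.TensorProduct.includeLeft z) = (1 : T i) ⊗ₜ[R] z := by
    intro z
    induction z using TensorProduct.induction_on with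
    | zero => simp
    | tmul s a => simp [e, bc_tmul]
    | add p q hp hq => simp only [map_add, tmul_add, hp, hq]
  have := he d
  rw [h i, map_zero] at this
  exact this.symm

/-- An element vanishing in every local ring at a maximal ideal vanishes. -/
lemma eq_zero_of_local (d : R ⊗[R] A)
    (h : ∀ m : Ideal R, ∀ [m.IsMaximal], bc (IsScalarTower.toAlgHom R R (Localization.AtPrime m)) d = 0) : d = 0 := by
  by_contra hd
  let ann : Ideal R := LinearMap.ker (LinearMap.toSpanSingleton R (R ⊗[R] A) d)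
  obtain ⟨m, hm, hle⟩ := ann.exists_le_maximal fun htop => hd (by
    have : (1 : R) ∈ ann := htop ▸ trivial
    simpa [ann] using this)
  obtain ⟨s, hs, hs0⟩ := exists_smul_eq_zero m.primeCompl (Sx := Localization.AtPrime m) d (h m)
  exact hs (hle (by simpa [ann] using hs0))

/-- A group-like element supported on fixed characters is fixed. -/
theorem elt_fixed {n : ℕ} (a : Fin n → A) (φ : Fin n → A →ₗ[R] R)
    {ι : Type u} [Fintype ι] (T : ι → Type u) [∀ i, CommRing (T i)]
    [∀ i, Algebra R (T i)] [Module.FaithfullyFlat R (∀ i, T i)]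
    (M : ι → Type u) [∀ i, CommGroup (M i)] (D : ∀ i, M i →* GroupLike (T i) (T i ⊗[R] A))
    (S₀ : Type u) [CommRing S₀] [Algebra R S₀]
    (g : GroupLike S₀ (S₀ ⊗[R] A)) (z : ∀ i, MonoidAlgebra (S₀ ⊗[R] T i) (M i))
    (hz : ∀ i, theta ((glMap (Algebra.TensorProduct.includeRight : T i →ₐ[R] S₀ ⊗[R] T i)).comp (D i)) (z i) =
      bc (Algebra.TensorProduct.includeLeft : S₀ →ₐ[R] S₀ ⊗[R] T i) g.val)
    (hfixD : ∀ i, ∀ k ∈ (z i).coeff.support, elt a (T i) (fun j => ev (T i) (φ j) (D i k).val) = (D i k).val) :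
    elt a S₀ (fun j => ev S₀ (φ j) g.val) = g.val := by
  classical
  let i₀ : ∀ i, S₀ →ₐ[R] S₀ ⊗[R] T i := fun i => Algebra.TensorProduct.includeLeft
  let i₁ : ∀ i, T i →ₐ[R] S₀ ⊗[R] T i := fun i => Algebra.TensorProduct.includeRight
  refine sub_eq_zero.mp (eq_zero_of_pieces T _ fun i => ?_)
  show bc (i₀ i) _ = 0
  let Φ : (S₀ ⊗[R] T i) ⊗[R] A →ₗ[S₀ ⊗[R] T i] (S₀ ⊗[R] T i) ⊗[R] A :=
    ∑ j, (ev (S₀ ⊗[R] T i) (φ j)).smulRight ((1 : S₀ ⊗[R] T i) ⊗ₜ[R] a j)
  have hΦ : ∀ w, Φ w = elt a _ (fun j => ev (S₀ ⊗[R] T i) (φ j) w) := fun w => by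
    simp [Φ, elt, smul_tmul']
  rw [map_sub, bc_elt, sub_eq_zero]
  simp only [← ev_bc]
  rw [← hΦ, ← hz i]
  conv_lhs => rw [← MonoidAlgebra.sum_coeff_single (z i)]
  conv_rhs => rw [← MonoidAlgebra.sum_coeff_single (z i)]
  rw [Finsupp.sum, map_sum, map_sum]
  refine Finset.sum_congr rfl fun k hk => ?_
  rw [theta_single, map_smul, hΦ]
  congr 1
  show elt a _ (fun j => ev _ (φ j) (bc (i₁ i) (D i k).val)) = bc (i₁ i) (D i k).val
  conv_rhs => rw [← hfixD i k hk, bc_elt]
  simp only [← ev_bc]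

/-- A section of the universal algebra coming from a group-like element runs through the étale locus. -/
theorem mem_etaleLocus {n m : ℕ} (a : Fin n → A) (φ : Fin n → A →ₗ[R] R) (b : Fin m → A) (χ : Fin m → A →ₗ[R] R)
    (hΔ : ∀ i, ∑ k, ∑ l, bil (χ k) (χ l) (CoalgebraStruct.comul (R := R) (a i)) • (b k ⊗ₜ[R] b l) =
      CoalgebraStruct.comul (R := R) (a i))
    (hAA : ∀ i j, ∑ k, ∑ l, (χ k (a i) * χ l (a j)) • (b k ⊗ₜ[R] b l) = a i ⊗ₜ[R] a j)
    (hA : HasSplitting R A) [Module.Flat R A] {ι : Type u} [Fintype ι] (T : ι → Type u) [∀ i, CommRing (T i)]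
    [∀ i, Algebra R (T i)] [Module.FaithfullyFlat R (∀ i, T i)] [∀ i, Module.Flat R (T i)]
    (M : ι → Type u) [∀ i, CommGroup (M i)] (D : ∀ i, M i →* GroupLike (T i) (T i ⊗[R] A))
    (hD : ∀ i, Function.Bijective (theta (D i))) (S₀ : Type u) [CommRing S₀] [Algebra R S₀]
    (g : GroupLike S₀ (S₀ ⊗[R] A)) (z : ∀ i, MonoidAlgebra (S₀ ⊗[R] T i) (M i))
    (hz : ∀ i, theta ((glMap (Algebra.TensorProduct.includeRight : T i →ₐ[R] S₀ ⊗[R] T i)).comp (D i)) (z i) =
      bc (Algebra.TensorProduct.includeLeft : S₀ →ₐ[R] S₀ ⊗[R] T i) g.val)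
    (hfixD : ∀ i, ∀ k ∈ (z i).coeff.support, elt a (T i) (fun j => ev (T i) (φ j) (D i k).val) = (D i k).val)
    (hgfix : elt a S₀ (fun j => ev S₀ (φ j) g.val) = g.val)
    (σ : MvPolynomial (Fin n) R ⧸ eqIdeal a φ χ →ₐ[R] S₀)
    (hσX : ∀ j, σ (Ideal.Quotient.mk _ (MvPolynomial.X j)) = ev S₀ (φ j) g.val) (q : PrimeSpectrum S₀) :
    PrimeSpectrum.comap σ.toRingHom q ∈ Algebra.etaleLocus R (MvPolynomial (Fin n) R ⧸ eqIdeal a φ χ) := by
  classical
  let i₀ : ∀ i, S₀ →ₐ[R] S₀ ⊗[R] T i := fun i => Algebra.TensorProduct.includeLeft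
  let i₁ : ∀ i, T i →ₐ[R] S₀ ⊗[R] T i := fun i => Algebra.TensorProduct.includeRight
  let κ := q.asIdeal.ResidueField
  obtain ⟨i, hi⟩ : ∃ i, Nontrivial (κ ⊗[R] T i) := by
    by_contra hcon
    haveI : ∀ i, Subsingleton (κ ⊗[R] T i) := fun i => not_nontrivial_iff_subsingleton.mp (not_exists.mp hcon i)
    haveI : Subsingleton (κ ⊗[R] (∀ i, T i)) := (TensorProduct.piRight R R κ T).toEquiv.subsingleton
    obtain ⟨q', -⟩ := PrimeSpectrum.comap_surjective_of_faithfullyFlat (B := κ ⊗[R] (∀ i, T i))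
      (⟨⊥, inferInstance⟩ : PrimeSpectrum κ)
    exact q'.isPrime.ne_top (Subsingleton.elim _ _)
  haveI := hi
  obtain ⟨mx, hmx⟩ := Ideal.exists_maximal (κ ⊗[R] T i)
  letI := Ideal.Quotient.field mx
  let F := (κ ⊗[R] T i) ⧸ mx
  let ψq : S₀ →ₐ[R] F := ((Ideal.Quotient.mkₐ R mx).comp Algebra.TensorProduct.includeLeft).comp
    (IsScalarTower.toAlgHom R S₀ κ)
  let ψF : T i →ₐ[R] F := (Ideal.Quotient.mkₐ R mx).comp Algebra.TensorProduct.includeRight
  let ΨW : S₀ ⊗[R] T i →ₐ[R] F := Algebra.TensorProduct.lift ψq ψF fun _ _ => Commute.all _ _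
  have hW₀ : ΨW.comp (i₀ i) = ψq := Algebra.TensorProduct.lift_comp_includeLeft _ _ _
  have hW₁ : ΨW.comp (i₁ i) = ψF := Algebra.TensorProduct.lift_comp_includeRight' _ _ _
  obtain ⟨k, hk⟩ := frame_surjective _ (frame_map (D i) (hD i) ψF) (glMap ψq g)
  have hval : bc ψF (D i k).val = bc ψq g.val := congrArg GroupLike.val hk
  have hksupp : k ∈ (z i).coeff.support := by
    rw [Finsupp.mem_support_iff]
    intro h0
    have h1 : theta ((glMap ψF).comp (D i)) (MonoidAlgebra.mapAlgHom (M := M i) ΨW (z i)) =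
        theta ((glMap ψF).comp (D i)) (MonoidAlgebra.single k 1) := by
      rw [theta_single, one_smul]
      show _ = bc ψF (D i k).val
      rw [hval, ← hW₀, ← bc_bc, ← hz i]
      generalize z i = w
      induction w using MonoidAlgebra.induction_linear with
      | zero => simp
      | add p q hp hq => simp only [map_add, hp, hq]
      | single k' r =>
        rw [MonoidAlgebra.mapAlgHom_single, theta_single, theta_single, bc_smul, MonoidHom.comp_apply,
          MonoidHom.comp_apply]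
        congr 1
        show bc ψF (D i k').val = bc ΨW (bc (i₁ i) (D i k').val)
        rw [bc_bc, hW₁]
    have h2 := congrArg (fun w : MonoidAlgebra F (M i) => w.coeff k) ((frame_map (D i) (hD i) ψF).1 h1)
    simp [MonoidAlgebra.coeff_mapAlgHom, h0] at h2
  have hker : RingHom.ker (ψq.comp σ).toRingHom = q.asIdeal.comap σ.toRingHom := by
    ext c
    show ψq (σ c) = 0 ↔ σ c ∈ q.asIdeal
    show Ideal.Quotient.mk mx (algebraMap S₀ κ (σ c) ⊗ₜ[R] (1 : T i)) = 0 ↔ _
    rw [show Ideal.Quotient.mk mx (algebraMap S₀ κ (σ c) ⊗ₜ[R] (1 : T i)) =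
      ((Ideal.Quotient.mkₐ R mx).comp Algebra.TensorProduct.includeLeft) (algebraMap S₀ κ (σ c)) from rfl,
      _root_.map_eq_zero, Ideal.algebraMap_residueField_eq_zero]
  haveI : (RingHom.ker (ψq.comp σ).toRingHom).IsPrime := RingHom.ker_isPrime _
  have := isEtaleAt a φ b χ hΔ hAA hA (D i) (hD i) (ψq.comp σ) ψF k (hfixD i k hksupp) (by
    show elt a F (fun j => ψq (σ _)) = _
    simp only [hσX]
    rw [← bc_elt, hgfix, hval])
  rw [Algebra.mem_etaleLocus_iff]
  convert! this using 2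
  exact hker.symm

/-- Lifting of characters along henselian pairs. -/
theorem exists_groupLike_lift (hA : HasSplitting R A) (I : Ideal R) [HenselianRing R I]
    (g : GroupLike (R ⧸ I) ((R ⧸ I) ⊗[R] A)) :
    ∃ G : GroupLike R (R ⊗[R] A), glMap (Algebra.ofId R (R ⧸ I)) G = g := by
  classical
  haveI := flat_of_splitting hA
  obtain ⟨ι, _, T, _, _, hff, hd⟩ := id hA
  haveI := hff
  haveI : ∀ i, Module.Flat R (T i) := fun i => by
    haveI : Module.Flat R (∀ i, T i) := inferInstance
    exact Module.Flat.of_retract (LinearMap.single R T i) (LinearMap.proj i) (by ext; simp)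
  choose M hMg e using hd
  letI : ∀ i, CommGroup (M i) := hMg
  let D : ∀ i, M i →* GroupLike (T i) (T i ⊗[R] A) := fun i => diagHom (e i).some
  have hD : ∀ i, Function.Bijective (theta (D i)) := fun i => theta_diagHom_bijective _
  let i₀ : ∀ i, (R ⧸ I) →ₐ[R] (R ⧸ I) ⊗[R] T i := fun i => Algebra.TensorProduct.includeLeft
  let i₁ : ∀ i, T i →ₐ[R] (R ⧸ I) ⊗[R] T i := fun i => Algebra.TensorProduct.includeRight
  choose z hz using fun i => (frame_map (D i) (hD i) (i₁ i)).2 (bc (i₀ i) g.val)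
  let s₀ : Finset A := Finset.univ.biUnion fun i =>
    (z i).coeff.support.biUnion fun n => (TensorProduct.exists_finset (D i n).val).choose.image Prod.snd
  obtain ⟨n, a, φ, hfix₀⟩ := exists_proj hA s₀
  choose legs hlegs using fun j : Fin n => TensorProduct.exists_finset (CoalgebraStruct.comul (R := R) (a j))
  obtain ⟨m, b, χ, hb⟩ := exists_proj hA
    (Finset.univ.biUnion fun j => insert (a j) ((legs j).image Prod.fst ∪ (legs j).image Prod.snd))
  have hbm : ∀ x y, (∑ k, χ k x • b k = x) → (∑ l, χ l y • b l = y) →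
      ∑ k, ∑ l, bil (χ k) (χ l) (x ⊗ₜ[R] y) • (b k ⊗ₜ[R] b l) = x ⊗ₜ[R] y := by
    intro x y hx hy
    conv_rhs => rw [← hx, ← hy, TensorProduct.sum_tmul]
    refine Finset.sum_congr rfl fun k _ => ?_
    rw [TensorProduct.tmul_sum]
    refine Finset.sum_congr rfl fun l _ => ?_
    rw [TensorProduct.tmul_smul, ← TensorProduct.smul_tmul', smul_smul]
    congr 1
    simp [bil, mul_comm]
  have hmem : ∀ (j : Fin n) (v : A), v ∈ insert (a j) ((legs j).image Prod.fst ∪ (legs j).image Prod.snd) →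
      ∑ k, χ k v • b k = v :=
    fun j v hv => hb v (Finset.mem_biUnion.mpr ⟨j, Finset.mem_univ j, hv⟩)
  have hΔ : ∀ j, ∑ k, ∑ l, bil (χ k) (χ l) (CoalgebraStruct.comul (R := R) (a j)) • (b k ⊗ₜ[R] b l) =
      CoalgebraStruct.comul (R := R) (a j) := by
    intro j
    rw [hlegs j]
    simp only [map_sum, Finset.sum_smul]
    conv_lhs => enter [2, k]; rw [Finset.sum_comm]
    rw [Finset.sum_comm]
    refine Finset.sum_congr rfl fun p hp => hbm _ _ (hmem j _ ?_) (hmem j _ ?_)
    · exact Finset.mem_insert_of_mem (Finset.mem_union_left _ (Finset.mem_image_of_mem _ hp))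
    · exact Finset.mem_insert_of_mem (Finset.mem_union_right _ (Finset.mem_image_of_mem _ hp))
  have hAA : ∀ i j, ∑ k, ∑ l, (χ k (a i) * χ l (a j)) • (b k ⊗ₜ[R] b l) = a i ⊗ₜ[R] a j := fun i j => by
    refine Eq.trans ?_ (hbm _ _ (hmem i _ (Finset.mem_insert_self _ _)) (hmem j _ (Finset.mem_insert_self _ _)))
    simp [bil]
  have hfixD : ∀ i, ∀ k ∈ (z i).coeff.support, elt a (T i) (fun j => ev (T i) (φ j) (D i k).val) = (D i k).val := by
    intro i k hk
    have hs₀ := (TensorProduct.exists_finset (D i k).val).choose_spec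
    rw [hs₀, elt]
    simp only [map_sum, TensorProduct.sum_tmul]
    rw [Finset.sum_comm]
    refine Finset.sum_congr rfl fun p hp => ?_
    conv_rhs => rw [← hfix₀ p.2 (Finset.mem_biUnion.mpr ⟨i, Finset.mem_univ i,
      Finset.mem_biUnion.mpr ⟨k, hk, Finset.mem_image_of_mem _ hp⟩⟩), TensorProduct.tmul_sum]
    refine Finset.sum_congr rfl fun j _ => ?_
    rw [ev_tmul, TensorProduct.tmul_smul, TensorProduct.smul_tmul', Algebra.smul_def, mul_comm]
  have hgfix : elt a (R ⧸ I) (fun j => ev (R ⧸ I) (φ j) g.val) = g.val :=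
    elt_fixed a φ T M D (R ⧸ I) g z hz hfixD
  let C := MvPolynomial (Fin n) R ⧸ eqIdeal a φ χ
  let σ : C →ₐ[R] (R ⧸ I) :=
    Ideal.Quotient.liftₐ (eqIdeal a φ χ) (MvPolynomial.aeval fun j => ev (R ⧸ I) (φ j) g.val)
      (by
        intro p hp
        induction hp using Submodule.span_induction with
        | mem p hp =>
          obtain ⟨j, rfl⟩ := hp
          rw [eqn_map]
          simp only [MvPolynomial.aeval_X]
          exact eqn_of_fixed a φ χ g hgfix j
        | zero => simp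
        | add u v _ _ hu hv => simp [hu, hv]
        | smul u v _ hv => simp [hv])
  have hσX : ∀ j, σ (Ideal.Quotient.mk _ (MvPolynomial.X j)) = ev (R ⧸ I) (φ j) g.val :=
    fun j => MvPolynomial.aeval_X (fun j => ev (R ⧸ I) (φ j) g.val) j
  haveI : Algebra.FinitePresentation R C :=
    Algebra.FinitePresentation.quotient ((Submodule.fg_def).mpr ⟨_, Set.finite_range _, rfl⟩)
  have het : ∀ q : PrimeSpectrum (R ⧸ I), PrimeSpectrum.comap σ.toRingHom q ∈ Algebra.etaleLocus R C :=
    mem_etaleLocus a φ b χ hΔ hAA hA T M D hD (R ⧸ I) g z hz hfixD hgfix σ hσX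
  obtain ⟨Jc, hJc⟩ := (PrimeSpectrum.isClosed_iff_zeroLocus_ideal _).mp
    (isClosed_compl_iff.mpr (Algebra.isOpen_etaleLocus (R := R) (A := C)))
  have h1 : (1 : R ⧸ I) ∈ Jc.map σ.toRingHom := by
    by_contra h1
    obtain ⟨mq, hmq, hle⟩ := Ideal.exists_le_maximal _ fun (h : Jc.map σ.toRingHom = ⊤) => h1 (h.symm ▸ Submodule.mem_top)
    have hmem : PrimeSpectrum.comap σ.toRingHom ⟨mq, hmq.isPrime⟩ ∈ PrimeSpectrum.zeroLocus (Jc : Set C) :=
      fun c hc => hle (Ideal.mem_map_of_mem _ hc)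
    rw [← hJc] at hmem
    exact hmem (het _)
  have hσs : Function.Surjective σ.toRingHom := fun y => by
    obtain ⟨r, rfl⟩ := Ideal.Quotient.mk_surjective y
    exact ⟨algebraMap R C r, σ.commutes r⟩
  obtain ⟨h, hhJ, hh1⟩ := (Ideal.mem_map_iff_of_surjective _ hσs).mp h1
  haveI : Algebra.Etale R (Localization.Away h) := by
    refine Algebra.basicOpen_subset_etaleLocus_iff_etale.mp fun q hq => ?_
    by_contra hne
    have : q ∈ PrimeSpectrum.zeroLocus (Jc : Set C) := hJc ▸ hne
    exact hq (this hhJ)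
  let S := Localization.Away h
  let σS : S →ₐ[R] (R ⧸ I) := IsLocalization.liftAlgHom (M := Submonoid.powers h) (f := σ) (by
    rintro ⟨_, k, rfl⟩
    show IsUnit (σ (h ^ k))
    rw [map_pow, show σ h = 1 from hh1, one_pow]
    exact isUnit_one)
  obtain ⟨τ, hτ⟩ := H4HenselPair.exists_lift_of_etale I S σS
  let c : Fin n → R := fun j => τ (IsScalarTower.toAlgHom R C S (Ideal.Quotient.mk _ (MvPolynomial.X j)))
  have hc : ∀ j, eqn a φ χ R c j = 0 := fun j => by
    have h0 := eqn_map a φ χ ((τ.comp (IsScalarTower.toAlgHom R C S)).comp (Ideal.Quotient.mkₐ R _)) MvPolynomial.X j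
    rw [AlgHom.comp_apply, show Ideal.Quotient.mkₐ R (eqIdeal a φ χ) (eqn a φ χ _ MvPolynomial.X j) = 0 from
      Ideal.Quotient.eq_zero_iff_mem.mpr (Ideal.subset_span ⟨j, rfl⟩), map_zero] at h0
    exact h0.symm
  refine ⟨⟨_, isGroupLike_elt a φ b χ hΔ hAA c hc⟩, GroupLike.val_injective ?_⟩
  show bc _ (elt a R c) = g.val
  conv_rhs => rw [← hgfix]
  rw [bc_elt]
  congr 1
  funext j
  show Ideal.Quotient.mk I (τ (algebraMap C S _)) = _
  rw [show Ideal.Quotient.mk I (τ (algebraMap C S (Ideal.Quotient.mk _ (MvPolynomial.X j)))) =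
    σS (algebraMap C S (Ideal.Quotient.mk _ (MvPolynomial.X j))) from AlgHom.congr_fun hτ _]
  exact (IsLocalization.lift_eq _ _).trans (hσX j)

set_option synthInstance.maxHeartbeats 400000 in
/-- Characters congruent modulo an ideal in the radical are equal. -/
theorem groupLike_eq (hA : HasSplitting R A) (I : Ideal R) (hI : I ≤ Ideal.jacobson ⊥)
    (g g' : GroupLike R (R ⊗[R] A)) (h : glMap (Algebra.ofId R (R ⧸ I)) g = glMap (Algebra.ofId R (R ⧸ I)) g') :
    g = g' := by
  refine GroupLike.val_injective (sub_eq_zero.mp (eq_zero_of_local _ fun m hm => ?_))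
  rw [map_sub, sub_eq_zero]
  refine congrArg GroupLike.val (eq_of_residue hA (B := Localization.AtPrime m)
    (F := IsLocalRing.ResidueField (Localization.AtPrime m)) (IsScalarTower.toAlgHom R _ _)
    (fun x hx => Ideal.Quotient.eq_zero_iff_mem.mpr hx)
    (glMap (IsScalarTower.toAlgHom R R (Localization.AtPrime m)) g) (glMap _ g') ?_)
  let j : (R ⧸ I) →ₐ[R] IsLocalRing.ResidueField (Localization.AtPrime m) :=
    Ideal.Quotient.liftₐ I (Algebra.ofId R _) fun r hr => by
      have hrm : r ∈ m := (hI.trans (sInf_le ⟨bot_le, hm⟩)) hr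
      rw [Algebra.ofId_apply, IsScalarTower.algebraMap_apply R (Localization.AtPrime m) (IsLocalRing.ResidueField _)]
      exact Ideal.Quotient.eq_zero_iff_mem.mpr ((IsLocalization.AtPrime.to_map_mem_maximal_iff _ m r).mpr hrm)
  rw [glMap_glMap, glMap_glMap,
    show (IsScalarTower.toAlgHom R (Localization.AtPrime m) (IsLocalRing.ResidueField _)).comp
      (IsScalarTower.toAlgHom R R (Localization.AtPrime m)) = j.comp (Algebra.ofId R (R ⧸ I)) from
      Subsingleton.elim _ _, ← glMap_glMap, ← glMap_glMap, h]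

/-- Bijectivity of a family of characters is local. -/
theorem bijective_of_local (hA : HasSplitting R A) {M : Type u} [CommGroup M] (G : M →* GroupLike R (R ⊗[R] A))
    (h : ∀ m : Ideal R, ∀ [m.IsMaximal],
      Function.Bijective (theta ((glMap (IsScalarTower.toAlgHom R R (Localization.AtPrime m))).comp G))) :
    Function.Bijective (theta G) := by
  classical
  obtain ⟨J, hJ1, hJ⟩ := hA.exists_haar
  have hmap : ∀ (L : Type u) [CommRing L] [Algebra R L] (i : R →ₐ[R] L) (x : MonoidAlgebra R M),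
      theta ((glMap i).comp G) (MonoidAlgebra.mapAlgHom (M := M) i x) = bc i (theta G x) := by
    intro L _ _ i x
    induction x using MonoidAlgebra.induction_linear with
    | zero => simp
    | add p q hp hq => simp only [map_add, hp, hq]
    | single m r => rw [MonoidAlgebra.mapAlgHom_single, theta_single, theta_single, bc_smul]; rfl
  refine ⟨(injective_iff_map_eq_zero _).mpr fun x hx => MonoidAlgebra.coeff_injective (Finsupp.ext fun k => ?_),
    fun w => ?_⟩
  · show x.coeff k = 0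
    by_contra hne
    let ann : Ideal R := LinearMap.ker (LinearMap.toSpanSingleton R R (x.coeff k))
    obtain ⟨m, hm, hle⟩ := ann.exists_le_maximal fun htop => hne (by
      have : (1 : R) ∈ ann := htop ▸ trivial
      simpa [ann] using this)
    have h1 := congrArg (fun w : MonoidAlgebra (Localization.AtPrime m) M => w.coeff k)
      ((h m).1 (((hmap _ (IsScalarTower.toAlgHom R R (Localization.AtPrime m)) x).trans
        (by rw [hx, map_zero])).trans (map_zero _).symm))
    simp [MonoidAlgebra.coeff_mapAlgHom] at h1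
    obtain ⟨s, hs⟩ := (IsLocalization.map_eq_zero_iff m.primeCompl (Localization.AtPrime m) (x.coeff k)).mp h1
    exact s.2 (hle (by simpa [ann] using hs))
  · let Q : Ideal R := (LinearMap.range (theta G : MonoidAlgebra R M →ₐ[R] R ⊗[R] A).toLinearMap).comap
      (LinearMap.toSpanSingleton R (R ⊗[R] A) w)
    suffices hQ : (1 : R) ∈ Q by
      obtain ⟨x, hx⟩ := hQ
      exact ⟨x, hx.trans (one_smul _ _)⟩
    by_contra hQ
    obtain ⟨m, hm, hle⟩ := Q.exists_le_maximal fun htop => hQ (htop ▸ trivial)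
    let im : R →ₐ[R] Localization.AtPrime m := IsScalarTower.toAlgHom R R _
    obtain ⟨y, hy⟩ := (h m).2 (bc im w)
    let c : M → R := fun k => ev R J (w * (G k⁻¹).val)
    have hcw : ∀ k, im (c k) = y.coeff k := by
      intro k
      show im (ev R J _) = _
      rw [← ev_bc, map_mul, ← hy, ← ev_coeff _ J ((glMap im).comp G) ?_ ?_ y k]
      · rfl
      · rw [map_one, GroupLike.val_one, Algebra.TensorProduct.one_def, ev_tmul, hJ1, map_one, mul_one]
      · intro k hk
        rw [ev_frame _ J hJ1 hJ _ (h m), if_neg hk]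
    let x : MonoidAlgebra R M := ∑ k ∈ y.coeff.support, MonoidAlgebra.single k (c k)
    have hx : bc im (w - theta G x) = 0 := by
      rw [map_sub, ← hy, sub_eq_zero]
      conv_lhs => rw [← MonoidAlgebra.sum_coeff_single y, Finsupp.sum, map_sum]
      rw [map_sum, map_sum]
      refine Finset.sum_congr rfl fun k _ => ?_
      rw [theta_single, theta_single, bc_smul, hcw]
      rfl
    obtain ⟨s, hs, hs0⟩ := exists_smul_eq_zero m.primeCompl (Sx := Localization.AtPrime m) _ hx
    refine hs (hle ⟨s • x, ?_⟩)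
    show theta G (s • x) = s • w
    rw [smul_sub, sub_eq_zero] at hs0
    rw [map_smul, hs0]

set_option synthInstance.maxHeartbeats 400000 in
/-- Diagonalisability lifts along henselian pairs. -/
theorem isDiag_of_henselian (hA : HasSplitting R A) (I : Ideal R) [HenselianRing R I]
    (h0 : SGA3b.IsDiag (R ⧸ I) ((R ⧸ I) ⊗[R] A)) : SGA3b.IsDiag R A := by
  obtain ⟨M, _, ⟨e⟩⟩ := h0
  have hjac : I ≤ Ideal.jacobson ⊥ := HenselianRing.jac
  choose G hG using fun k => exists_groupLike_lift hA I (diagHom e k)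
  let Gh : M →* GroupLike R (R ⊗[R] A) :=
    { toFun := G
      map_one' := groupLike_eq hA I hjac _ _ (by rw [hG, map_one, map_one])
      map_mul' := fun a b => groupLike_eq hA I hjac _ _ (by rw [hG, map_mul, map_mul, hG, hG]) }
  have hb : Function.Bijective (theta Gh) := by
    refine bijective_of_local hA Gh fun m _ => ?_
    refine bijective_of_residue hA (F := IsLocalRing.ResidueField (Localization.AtPrime m))
      (IsScalarTower.toAlgHom R _ _) (fun x hx => Ideal.Quotient.eq_zero_iff_mem.mpr hx) _ ?_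
    let j : (R ⧸ I) →ₐ[R] IsLocalRing.ResidueField (Localization.AtPrime m) :=
      Ideal.Quotient.liftₐ I (Algebra.ofId R _) fun r hr => by
        have hrm : r ∈ m := (hjac.trans (sInf_le ⟨bot_le, ‹m.IsMaximal›⟩)) hr
        rw [Algebra.ofId_apply, IsScalarTower.algebraMap_apply R (Localization.AtPrime m) (IsLocalRing.ResidueField _)]
        exact Ideal.Quotient.eq_zero_iff_mem.mpr ((IsLocalization.AtPrime.to_map_mem_maximal_iff _ m r).mpr hrm)
    have hcomp : (glMap (IsScalarTower.toAlgHom R (Localization.AtPrime m) (IsLocalRing.ResidueField (Localization.AtPrime m)))).comp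
        ((glMap (IsScalarTower.toAlgHom R R (Localization.AtPrime m))).comp Gh) = (glMap j).comp (diagHom e) := by
      refine MonoidHom.ext fun k => ?_
      show glMap _ (glMap _ (G k)) = glMap j (diagHom e k)
      rw [← hG k, glMap_glMap, glMap_glMap]
      exact congrArg (fun f => glMap f (G k)) (Subsingleton.elim _ _)
    rw [hcomp]
    exact frame_map _ (theta_diagHom_bijective e) j
  let e' := BialgEquiv.ofBijective (theta Gh) hb
  exact ⟨M, inferInstance, ⟨(Bialgebra.TensorProduct.lid R A).symm.trans e'.symm⟩⟩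

end Groth.Agent.H8MultHensel
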