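import Mathlib
import Groth.Prelude.Def_SGA3b
import Groth.Agent.Lib.H8MultCore
import Groth.Agent.Lib.H8Mult
import Groth.Agent.Lib.H8MultGL
import Groth.Agent.Lib.H8CharFrame
import Groth.Agent.Lib.H8CharLocus
import Groth.Agent.Lib.H8CharQuasi
import Groth.Agent.Lib.H8MultHensel

/-!
# Homomorphisms between groups of multiplicative type: descent, uniqueness, lifting
-/

set_option autoImplicit false

universe u

open TensorProduct

namespace Groth.Agent.H8MultHom

open H8MultCore H8Mult H8MultGL H8CharFrame H8CharQuasi H8MultHensel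

variable {R : Type u} [CommRing R] {B : Type u} [CommRing B] [HopfAlgebra R B]
  {C : Type u} [CommRing C] [HopfAlgebra R C]
  {T L : Type u} [CommRing T] [Algebra R T] [CommRing L] [Algebra R L]

/-- The algebra map underlying the base change of a homomorphism. -/
noncomputable def homBCAlg (j : T →ₐ[R] L) (f : T ⊗[R] C →ₐc[T] T ⊗[R] B) : L ⊗[R] C →ₐ[L] L ⊗[R] B :=
  Algebra.TensorProduct.lift (Algebra.ofId L _)
    ((bc j).comp (((f : T ⊗[R] C →ₐ[T] T ⊗[R] B).restrictScalars R).comp Algebra.TensorProduct.includeRight))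
    fun _ _ => Commute.all _ _

lemma homBCAlg_one_tmul (j : T →ₐ[R] L) (f : T ⊗[R] C →ₐc[T] T ⊗[R] B) (c : C) :
    homBCAlg j f ((1 : L) ⊗ₜ c) = bc j (f ((1 : T) ⊗ₜ c)) := by
  rw [homBCAlg, Algebra.TensorProduct.lift_tmul, map_one, one_mul]
  rfl

/-- The base change of a homomorphism. -/
noncomputable def homBC (j : T →ₐ[R] L) (f : T ⊗[R] C →ₐc[T] T ⊗[R] B) : L ⊗[R] C →ₐc[L] L ⊗[R] B :=
  BialgHom.ofAlgHom (homBCAlg j f)
    (Algebra.TensorProduct.ext (Subsingleton.elim _ _) (AlgHom.ext fun c => by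
      show CoalgebraStruct.counit (R := L) (homBCAlg j f ((1 : L) ⊗ₜ c)) =
        CoalgebraStruct.counit (R := L) ((1 : L) ⊗ₜ[R] c)
      rw [homBCAlg_one_tmul, counit_bc, CoalgHomClass.counit_comp_apply f]
      simp [Algebra.algebraMap_eq_smul_one]))
    (Algebra.TensorProduct.ext (Subsingleton.elim _ _) (AlgHom.ext fun c => by
      show Algebra.TensorProduct.map (homBCAlg j f) (homBCAlg j f) (CoalgebraStruct.comul (R := L) ((1 : L) ⊗ₜ[R] c)) =
        CoalgebraStruct.comul (R := L) (homBCAlg j f ((1 : L) ⊗ₜ c))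
      rw [homBCAlg_one_tmul, comul_bc, ← CoalgHomClass.map_comp_comul_apply f, comul_one_tmul, comul_one_tmul]
      generalize CoalgebraStruct.comul (R := R) c = z
      induction z using TensorProduct.induction_on with
      | zero => simp
      | tmul x y =>
        rw [sq_tmul, sq_tmul, Algebra.TensorProduct.map_tmul, homBCAlg_one_tmul, homBCAlg_one_tmul]
        rfl
      | add p q hp hq => simp only [map_add, hp, hq]))

lemma homBC_one_tmul (j : T →ₐ[R] L) (f : T ⊗[R] C →ₐc[T] T ⊗[R] B) (c : C) :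
    homBC j f ((1 : L) ⊗ₜ c) = bc j (f ((1 : T) ⊗ₜ c)) := homBCAlg_one_tmul j f c

lemma tmul_eq_smul (t : T) (c : C) : (t ⊗ₜ[R] c : T ⊗[R] C) = t • ((1 : T) ⊗ₜ[R] c) := by
  rw [TensorProduct.smul_tmul', smul_eq_mul, mul_one]

lemma homBC_bc (j : T →ₐ[R] L) (f : T ⊗[R] C →ₐc[T] T ⊗[R] B) (z : T ⊗[R] C) :
    homBC j f (bc j z) = bc j (f z) := by
  induction z using TensorProduct.induction_on with
  | zero => simp
  | tmul t c => rw [tmul_eq_smul t c, bc_smul, map_smul, map_smul, bc_smul, bc_tmul, map_one, homBC_one_tmul]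
  | add p q hp hq => simp only [map_add, hp, hq]

/-- A homomorphism after a faithfully flat base change with equal pullbacks descends. -/
theorem descend_hom {S : Type u} [CommRing S] [Algebra R S] [Module.FaithfullyFlat R S]
    (f : S ⊗[R] C →ₐc[S] S ⊗[R] B)
    (h : ∀ c : C, bc (Algebra.TensorProduct.includeLeft : S →ₐ[R] S ⊗[R] S) (f ((1 : S) ⊗ₜ c)) =
      bc (Algebra.TensorProduct.includeRight : S →ₐ[R] S ⊗[R] S) (f ((1 : S) ⊗ₜ c))) :
    ∃ φ : C →ₐc[R] B, ∀ c, f ((1 : S) ⊗ₜ c) = (1 : S) ⊗ₜ φ c := by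
  have hd : ∀ c : C, ∃ b : B, (1 : S) ⊗ₜ[R] b = f ((1 : S) ⊗ₜ c) := fun c => descend _ (by
    have h' := congrArg (TensorProduct.assoc R S S B) (h c).symm
    have e1 : ∀ w : S ⊗[R] B, TensorProduct.assoc R S S B
        (bc (Algebra.TensorProduct.includeRight : S →ₐ[R] S ⊗[R] S) w) = (1 : S) ⊗ₜ[R] w := by
      intro w
      induction w using TensorProduct.induction_on with
      | zero => simp
      | tmul s b => simp [bc_tmul]
      | add p q hp hq => simp only [map_add, tmul_add, hp, hq]
    have e2 : ∀ w : S ⊗[R] B, TensorProduct.assoc R S S B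
        (bc (Algebra.TensorProduct.includeLeft : S →ₐ[R] S ⊗[R] S) w) = (TensorProduct.mk R S B 1).lTensor S w := by
      intro w
      induction w using TensorProduct.induction_on with
      | zero => simp
      | tmul s b => simp [bc_tmul]
      | add p q hp hq => simp only [map_add, hp, hq]
    rwa [e1, e2] at h')
  choose φ hφ using hd
  have inj : Function.Injective (fun b : B => (1 : S) ⊗ₜ[R] b) :=
    Module.FaithfullyFlat.tensorProduct_mk_injective (A := R) (B := S) B
  have inj2 : Function.Injective (sq (R := R) S B) := by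
    intro x y hxy
    refine Module.FaithfullyFlat.tensorProduct_mk_injective (A := R) (B := S) (B ⊗[R] B) ?_
    apply (TensorProduct.AlgebraTensorModule.distribBaseChange R S B B).injective
    have key : ∀ y : B ⊗[R] B, TensorProduct.AlgebraTensorModule.distribBaseChange R S B B ((1 : S) ⊗ₜ[R] y) =
        sq (R := R) S B y := by
      intro y
      induction y using TensorProduct.induction_on with
      | zero => simp
      | tmul a b => rfl
      | add p q hp hq => simp only [tmul_add, map_add, hp, hq]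
    simp only [TensorProduct.mk_apply, key]
    exact hxy
  let φa : C →ₐ[R] B :=
    { toFun := φ
      map_one' := inj (by simp only [hφ]; rw [← Algebra.TensorProduct.one_def, map_one, ← Algebra.TensorProduct.one_def])
      map_mul' := fun a b => inj (by
        show (1 : S) ⊗ₜ[R] φ (a * b) = (1 : S) ⊗ₜ[R] (φ a * φ b)
        rw [show (1 : S) ⊗ₜ[R] (φ a * φ b) = ((1 : S) ⊗ₜ[R] φ a) * ((1 : S) ⊗ₜ[R] φ b) by simp, hφ, hφ, hφ,
          ← map_mul f]
        simp)
      map_zero' := inj (by simp [hφ])
      map_add' := fun a b => inj (by simp [hφ, tmul_add])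
      commutes' := fun r => inj (by
        show (1 : S) ⊗ₜ[R] φ (algebraMap R C r) = (1 : S) ⊗ₜ[R] algebraMap R B r
        rw [hφ, Algebra.algebraMap_eq_smul_one, Algebra.algebraMap_eq_smul_one, tmul_smul, tmul_smul,
          ← algebraMap_smul S, map_smul, algebraMap_smul, ← Algebra.TensorProduct.one_def, map_one,
          ← Algebra.TensorProduct.one_def]) }
  refine ⟨BialgHom.ofAlgHom φa (AlgHom.ext fun c => ?_) (AlgHom.ext fun c => ?_), fun c => (hφ c).symm⟩
  · show CoalgebraStruct.counit (R := R) (φ c) = CoalgebraStruct.counit (R := R) c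
    refine FaithfulSMul.algebraMap_injective R S ?_
    have h1 : ∀ {X : Type u} [CommRing X] [HopfAlgebra R X] (x : X),
        CoalgebraStruct.counit (R := S) ((1 : S) ⊗ₜ[R] x) = algebraMap R S (CoalgebraStruct.counit (R := R) x) :=
      fun x => by simp [Algebra.algebraMap_eq_smul_one]
    rw [← h1, hφ, CoalgHomClass.counit_comp_apply f, h1]
  · show TensorProduct.map φa.toLinearMap φa.toLinearMap (CoalgebraStruct.comul (R := R) c) =
      CoalgebraStruct.comul (R := R) (φ c)
    apply inj2
    rw [← comul_one_tmul, hφ, ← CoalgHomClass.map_comp_comul_apply f, comul_one_tmul]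
    generalize CoalgebraStruct.comul (R := R) c = z
    induction z using TensorProduct.induction_on with
    | zero => simp
    | tmul x y =>
      rw [TensorProduct.map_tmul, sq_tmul, sq_tmul, TensorProduct.map_tmul]
      show ((1 : S) ⊗ₜ[R] φ x) ⊗ₜ[S] ((1 : S) ⊗ₜ[R] φ y) = _
      rw [hφ, hφ]
      rfl
    | add p q hp hq => simp only [map_add, hp, hq]

/-- Two homomorphisms agreeing at every closed point are equal. -/
theorem hom_eq_of_congr_max (hB : HasSplitting R B) (hC : HasSplitting R C) (φ ψ : C →ₐc[R] B)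
    (h : ∀ m : Ideal R, m.IsMaximal → ∀ c, φ c - ψ c ∈ m • (⊤ : Submodule R B)) : φ = ψ := by
  classical
  haveI := flat_of_splitting hB
  refine BialgHom.ext fun c => sub_eq_zero.mp ?_
  have h0 : (1 : R) ⊗ₜ[R] (φ c - ψ c) = 0 := eq_zero_of_local _ fun m hm => by
    obtain ⟨L₁, _, _, _, M, _, D, i₁, hD, hf₁, hl₁⟩ := exists_local_frame hB (Localization.AtPrime m)
    obtain ⟨L, _, _, _, N, _, E, i₂, hE, hf₂, hl₂⟩ := exists_local_frame hC L₁
    refine bc_injective (i₂.comp i₁)
      ((injective_of_flat_local i₂.toRingHom hf₂ hl₂).comp (injective_of_flat_local i₁.toRingHom hf₁ hl₁)) ?_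
    rw [bc_tmul, map_one, map_zero, bc_tmul, map_one, tmul_sub, sub_eq_zero]
    let F := IsLocalRing.ResidueField L
    let π : L →ₐ[R] F := IsScalarTower.toAlgHom R L F
    have hm : ∀ r ∈ m, algebraMap R F r = 0 := fun r hr => by
      rw [IsScalarTower.algebraMap_apply R L F]
      refine Ideal.Quotient.eq_zero_iff_mem.mpr fun hu => ?_
      rw [← (i₂.comp i₁).commutes] at hu
      have hu' := hl₁.map_nonunit _ (hl₂.map_nonunit _ hu)
      exact (IsLocalization.AtPrime.isUnit_to_map_iff (Localization.AtPrime m) m r).mp hu' hr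
    have hres : ∀ c : C, (1 : F) ⊗ₜ[R] φ c = (1 : F) ⊗ₜ[R] ψ c := fun c => by
      rw [← sub_eq_zero, ← tmul_sub]
      refine Submodule.smul_induction_on (p := fun b => (1 : F) ⊗ₜ[R] b = 0) (h m ‹_› c) (fun r hr b _ => ?_)
        fun p q hp hq => ?_
      · rw [← smul_tmul, ← Algebra.algebraMap_eq_smul_one, hm r hr, zero_tmul]
      · rw [tmul_add, hp, hq, add_zero]
    let φL : L ⊗[R] C →ₐc[L] L ⊗[R] B := Bialgebra.TensorProduct.map (BialgHom.id L L) φ
    let ψL : L ⊗[R] C →ₐc[L] L ⊗[R] B := Bialgebra.TensorProduct.map (BialgHom.id L L) ψ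
    have hres' : ∀ z : L ⊗[R] C, bc π (φL z) = bc π (ψL z) := by
      intro z
      induction z using TensorProduct.induction_on with
      | zero => simp
      | tmul t c =>
        show bc π (t ⊗ₜ[R] φ c) = bc π (t ⊗ₜ[R] ψ c)
        rw [tmul_eq_smul t (φ c), tmul_eq_smul t (ψ c), bc_smul, bc_smul, bc_tmul, bc_tmul, map_one, hres]
      | add p q hp hq => simp only [map_add, hp, hq]
    let D' := (glMap i₂).comp D
    have hD' : Function.Bijective (theta D') := frame_map D hD i₂
    have hgl : ∀ (f : L ⊗[R] C →ₐc[L] L ⊗[R] B) (n : N), IsGroupLikeElem L (f (E n).val) := fun f n =>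
      { counit_eq_one := by rw [CoalgHomClass.counit_comp_apply f]; exact (E n).2.counit_eq_one
        comul_eq_tmul_self := by
          rw [← CoalgHomClass.map_comp_comul_apply f, (E n).2.comul_eq_tmul_self]; rfl }
    have hE' : ∀ n, φL (E n).val = ψL (E n).val := by
      intro n
      obtain ⟨a, ha⟩ := frame_surjective D' hD' ⟨_, hgl φL n⟩
      obtain ⟨b, hb⟩ := frame_surjective D' hD' ⟨_, hgl ψL n⟩
      have hab : a = b := frame_injective _ (frame_map D' hD' π) (by
        show glMap π (D' a) = glMap π (D' b)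
        rw [ha, hb]
        exact GroupLike.val_injective (hres' (E n).val))
      subst hab
      exact congrArg GroupLike.val (ha.symm.trans hb)
    obtain ⟨x, hx⟩ := hE.2 ((1 : L) ⊗ₜ[R] c)
    show φL ((1 : L) ⊗ₜ[R] c) = ψL ((1 : L) ⊗ₜ[R] c)
    rw [← hx]
    clear hx
    induction x using MonoidAlgebra.induction_linear with
    | zero => simp
    | add p q hp hq => simp only [map_add, hp, hq]
    | single n r => rw [theta_single, map_smul, map_smul, hE']
  exact (Algebra.TensorProduct.lid R B).symm.injective (h0.trans (map_zero _).symm)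

end Groth.Agent.H8MultHom
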