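import Mathlib
import Groth.Prelude.Def_SGA3b
import Groth.Agent.S0505
import Groth.Agent.S0518
import Groth.Agent.Lib.H8MultCore
import Groth.Agent.Lib.H8Mult
import Groth.Agent.Lib.H8MultGL
import Groth.Agent.Lib.H8MultField
import Groth.Agent.Lib.H8MultHensel
import Groth.Agent.Lib.H8CharFrame
import Groth.Agent.Lib.H8CharQuasi
import Groth.Agent.Lib.H8MultHom

/-!
# Isotriviality of groups of multiplicative type
-/

set_option autoImplicit false

universe u

open TensorProduct

namespace Groth.Agent.H8MultIso

open H8MultCore H8Mult H8MultGL H8CharFrame H8CharQuasi H8MultHensel H8MultHom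

variable {R : Type u} [CommRing R] {A : Type u} [CommRing A] [HopfAlgebra R A]

set_option synthInstance.maxHeartbeats 400000 in
/-- Over a Henselian local ring a group of multiplicative type of finite type is split by a finite étale local
extension. -/
theorem exists_local_split [HenselianLocalRing R] (hft : Algebra.FiniteType R A) (hA : HasSplitting R A) :
    ∃ (S : Type u) (_ : CommRing S) (_ : Algebra R S), IsLocalRing S ∧ HenselianLocalRing S ∧
      Algebra.Etale R S ∧ Module.Finite R S ∧ Module.FaithfullyFlat R S ∧ SGA3b.IsDiag S (S ⊗[R] A) := by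
  classical
  let k := IsLocalRing.ResidueField R
  haveI := hft
  obtain ⟨k', _, _, hfin, hsep, M, _, -, hd⟩ :=
    H8MultField.exists_sep_split_of_splitting (k := k) (A := k ⊗[R] A) inferInstance (hA.baseChange k)
  haveI := hfin
  haveI := hsep
  obtain ⟨g, hgf, hge, ⟨e⟩⟩ := S0518.exists_lift_field R k'
  let S := AdjoinRoot g
  haveI : Module.Finite R S := hgf
  haveI : Algebra.Etale R S := hge
  letI : Algebra R k' := ((algebraMap k k').comp (algebraMap R k)).toAlgebra
  haveI : IsScalarTower R k k' := IsScalarTower.of_algebraMap_eq' rfl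
  let ψ : S →ₐ[R] k' := ((e : k ⊗[R] S →ₐ[k] k').restrictScalars R).comp Algebra.TensorProduct.includeRight
  have hψs : Function.Surjective ψ := by
    intro x
    obtain ⟨z, rfl⟩ := e.surjective x
    obtain ⟨s, rfl⟩ := TensorProduct.mk_surjective R S k IsLocalRing.residue_surjective z
    exact ⟨s, rfl⟩
  have hker : RingHom.ker ψ.toRingHom = (IsLocalRing.maximalIdeal R).map (algebraMap R S) := by
    refine le_antisymm (fun x hx => ?_) (Ideal.map_le_iff_le_comap.mpr fun r hr => ?_)
    · rw [mem_map_iff]
      have h0 : (1 : k) ⊗ₜ[R] x = 0 := e.injective (Eq.trans hx (map_zero e).symm)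
      exact mem_smul_top_of_one_tmul_eq_zero h0
    · show ψ (algebraMap R S r) = 0
      rw [ψ.commutes, IsScalarTower.algebraMap_apply R k k', show algebraMap R k r = 0 from
        Ideal.Quotient.eq_zero_iff_mem.mpr hr, map_zero]
  have hmax : (RingHom.ker ψ.toRingHom).IsMaximal := RingHom.ker_isMaximal_of_surjective _ hψs
  haveI : IsLocalRing S := by
    refine IsLocalRing.of_unique_max_ideal ⟨RingHom.ker ψ.toRingHom, hmax, fun N hN => ?_⟩
    haveI : N.IsMaximal := hN
    refine (hmax.eq_of_le hN.ne_top ?_).symm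
    rw [hker]
    refine Ideal.map_le_iff_le_comap.mpr (le_of_eq (IsLocalRing.eq_maximalIdeal ?_).symm)
    exact Ideal.isMaximal_comap_of_isIntegral_of_isMaximal N
  haveI hhen : HenselianLocalRing S := S0505.result R S
  haveI : IsLocalHom (algebraMap R S) :=
    ((IsLocalRing.local_hom_TFAE (algebraMap R S)).out 0 2).mpr
      (by rw [← hker]; exact (IsLocalRing.eq_maximalIdeal hmax).le)
  haveI : Module.FaithfullyFlat R S := Module.FaithfullyFlat.of_flat_of_isLocalHom
  refine ⟨S, inferInstance, inferInstance, inferInstance, hhen, inferInstance, inferInstance, inferInstance, ?_⟩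
  let I := IsLocalRing.maximalIdeal S
  refine isDiag_of_henselian (hA.baseChange S) I ?_
  have hIker : RingHom.ker ψ = I := IsLocalRing.eq_maximalIdeal hmax
  let κ : k' →ₐ[R] S ⧸ I :=
    (Ideal.quotientEquivAlgOfEq R hIker).toAlgHom.comp (Ideal.quotientKerAlgEquivOfSurjective hψs).symm.toAlgHom
  letI : Algebra k' (S ⧸ I) := κ.toRingHom.toAlgebra
  letI : Algebra k (S ⧸ I) := (κ.toRingHom.comp (algebraMap k k')).toAlgebra
  haveI : IsScalarTower k k' (S ⧸ I) := IsScalarTower.of_algebraMap_eq' rfl
  haveI : IsScalarTower R k (S ⧸ I) := IsScalarTower.of_algebraMap_eq fun r => (κ.commutes r).symm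
  have h1 : SGA3b.IsDiag k' (k' ⊗[k] (k ⊗[R] A)) := ⟨M, inferInstance, hd⟩
  exact isDiag_uncancel (S ⧸ I) S (isDiag_cancel (S ⧸ I) k (isDiag_cancel (S ⧸ I) k' (isDiag_baseChange _ h1)))

/-- Over a Henselian local ring a group of multiplicative type of finite type is isotrivial. -/
theorem isotrivial_of_henselian [HenselianLocalRing R] (hft : Algebra.FiniteType R A) (hA : HasSplitting R A) :
    SGA3b.IsIsotrivial R A := by
  obtain ⟨S, _, _, _, _, het, hfin, hff, hd⟩ := exists_local_split hft hA
  exact ⟨S, inferInstance, inferInstance, het, hfin, hff, hd⟩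

section Hom

variable {B : Type u} [CommRing B] [HopfAlgebra R B]

/-- An element killed at a point lies in the ideal of the point. -/
lemma mem_smul_top_of_bc {V : Type u} [CommRing V] [Algebra R V] (n : Ideal V) (d : V ⊗[R] B)
    (h : bc (Ideal.Quotient.mkₐ R n) d = 0) : d ∈ n • (⊤ : Submodule V (V ⊗[R] B)) := by
  refine mem_smul_top_of_one_tmul_eq_zero
    ((Algebra.TensorProduct.cancelBaseChange R V (V ⧸ n) (V ⧸ n) B).injective ?_)
  rw [map_zero, ← h]
  clear h
  induction d using TensorProduct.induction_on with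
  | zero => simp
  | tmul v b => simp [bc_tmul, Algebra.smul_def]
  | add p q hp hq => simp only [tmul_add, map_add, hp, hq]

/-- The bialgebra isomorphism of transitivity of base change. -/
noncomputable def cancelBialg (B : Type u) [CommRing B] [HopfAlgebra R B] (S T : Type u) [CommRing S] [CommRing T]
    [Algebra R S] [Algebra R T] [Algebra S T] [IsScalarTower R S T] :
    (T ⊗[R] B) ≃ₐc[T] (T ⊗[S] (S ⊗[R] B)) :=
  BialgEquiv.ofAlgEquiv (Algebra.TensorProduct.cancelBaseChange R S T T B).symm
    (Algebra.TensorProduct.ext (Subsingleton.elim _ _) (AlgHom.ext fun a => by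
      simp [Algebra.algebraMap_eq_smul_one]))
    (Algebra.TensorProduct.ext (Subsingleton.elim _ _) (AlgHom.ext fun a => by
      let κ := Algebra.TensorProduct.cancelBaseChange R S T T B
      show Algebra.TensorProduct.map (κ.symm : _ →ₐ[T] _) (κ.symm : _ →ₐ[T] _)
        (CoalgebraStruct.comul (R := T) ((1 : T) ⊗ₜ[R] a)) = CoalgebraStruct.comul (R := T) (κ.symm ((1 : T) ⊗ₜ[R] a))
      rw [show κ.symm ((1 : T) ⊗ₜ[R] a) = (1 : T) ⊗ₜ[S] ((1 : S) ⊗ₜ[R] a) by simp [κ],
        comul_one_tmul, comul_one_tmul, comul_one_tmul]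
      generalize CoalgebraStruct.comul (R := R) a = z
      induction z using TensorProduct.induction_on with
      | zero => simp
      | tmul x y => simp [κ]
      | add p q hp hq => simp only [map_add, hp, hq]))

lemma map_groupLike {T : Type u} [CommRing T] {X Y : Type u} [CommRing X] [HopfAlgebra T X] [CommRing Y]
    [HopfAlgebra T Y] (f : X →ₐc[T] Y) (g : GroupLike T X) : IsGroupLikeElem T (f g.val) :=
  { counit_eq_one := by rw [CoalgHomClass.counit_comp_apply f]; exact g.2.counit_eq_one
    comul_eq_tmul_self := by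
      rw [← CoalgHomClass.map_comp_comul_apply f, g.2.comul_eq_tmul_self]; rfl }

set_option synthInstance.maxHeartbeats 400000 in
/-- Homomorphisms of the closed fibres lift over a Henselian local ring. -/
theorem exists_hom_lift [HenselianLocalRing R] (hAft : Algebra.FiniteType R A) (hA : HasSplitting R A)
    (hB : HasSplitting R B)
    (φ₀ : (IsLocalRing.ResidueField R ⊗[R] A) →ₐc[IsLocalRing.ResidueField R] (IsLocalRing.ResidueField R ⊗[R] B)) :
    ∃ φ : A →ₐc[R] B, ∀ a, φ₀ ((1 : IsLocalRing.ResidueField R) ⊗ₜ[R] a) =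
      (1 : IsLocalRing.ResidueField R) ⊗ₜ[R] φ a := by
  classical
  haveI := flat_of_splitting hB
  obtain ⟨S, _, _, _, hhen, _, hSfin, hff, N, _, ⟨e⟩⟩ := exists_local_split hAft hA
  haveI := hSfin
  haveI := hff
  let k := IsLocalRing.ResidueField R
  let I := IsLocalRing.maximalIdeal S
  let L := S ⧸ I
  letI := Ideal.Quotient.field I
  have hmk : ∀ r ∈ IsLocalRing.maximalIdeal R, algebraMap R S r ∈ I := by
    intro r hr
    haveI : (I.comap (algebraMap R S)).IsMaximal := Ideal.isMaximal_comap_of_isIntegral_of_isMaximal I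
    rw [← IsLocalRing.eq_maximalIdeal ‹(I.comap (algebraMap R S)).IsMaximal›] at hr
    exact hr
  let j : k →ₐ[R] L := Ideal.Quotient.liftₐ _ (Algebra.ofId R L) fun r hr =>
    Ideal.Quotient.eq_zero_iff_mem.mpr (hmk r hr)
  let π : S →ₐ[R] L := Ideal.Quotient.mkₐ R I
  have hπ : ∀ x ∈ IsLocalRing.maximalIdeal S, π x = 0 := fun x hx => Ideal.Quotient.eq_zero_iff_mem.mpr hx
  let f₀ : L ⊗[R] A →ₐc[L] L ⊗[R] B := homBC j φ₀
  let E : N →* GroupLike S (S ⊗[R] A) := diagHom e
  have hE : Function.Bijective (theta E) := theta_diagHom_bijective e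
  let ε := cancelBialg (R := R) B S L
  let g : N → GroupLike L (L ⊗[S] (S ⊗[R] B)) := fun n =>
    ⟨_, map_groupLike (ε : _ →ₐc[L] _) ⟨_, map_groupLike f₀ (glMap π (E n))⟩⟩
  choose G hG using fun n => exists_groupLike_lift (hB.baseChange S) I (g n)
  let H : N → GroupLike S (S ⊗[R] B) := fun n =>
    ⟨_, map_groupLike (Bialgebra.TensorProduct.lid S (S ⊗[R] B) : _ →ₐc[S] _) (G n)⟩
  have hH : ∀ n, bc π (H n).val = f₀ (bc π (E n).val) := by
    intro n
    have h1 : ∀ w : S ⊗[S] (S ⊗[R] B), bc π (Bialgebra.TensorProduct.lid S (S ⊗[R] B) w) =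
        Algebra.TensorProduct.cancelBaseChange R S L L B (bc (R := S) (Algebra.ofId S L) w) := by
      intro w
      induction w using TensorProduct.induction_on with
      | zero => simp
      | tmul s x =>
        induction x using TensorProduct.induction_on with
        | zero => simp
        | tmul t b =>
          rw [bc_tmul]
          show bc π (s • (t ⊗ₜ[R] b)) = _
          rw [bc_smul, bc_tmul, Algebra.TensorProduct.cancelBaseChange_tmul, TensorProduct.smul_tmul', Algebra.smul_def t]
          simp [π, L, mul_comm, Algebra.ofId_apply, Ideal.Quotient.algebraMap_eq]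
        | add p q hp hq => simp only [tmul_add, map_add, hp, hq]
      | add p q hp hq => simp only [map_add, hp, hq]
    show bc π (Bialgebra.TensorProduct.lid S (S ⊗[R] B) (G n).val) = _
    rw [h1, show bc (R := S) (Algebra.ofId S L) (G n).val = (g n).val from congrArg GroupLike.val (hG n)]
    exact (Algebra.TensorProduct.cancelBaseChange R S L L B).apply_symm_apply _
  let Hh : N →* GroupLike S (S ⊗[R] B) :=
    { toFun := H
      map_one' := eq_of_residue hB π hπ _ _ (GroupLike.val_injective (by
        show bc π (H 1).val = bc π (1 : GroupLike S (S ⊗[R] B)).val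
        rw [hH, map_one, GroupLike.val_one, GroupLike.val_one, map_one, map_one, map_one]))
      map_mul' := fun a b => eq_of_residue hB π hπ _ _ (GroupLike.val_injective (by
        show bc π (H (a * b)).val = bc π (H a * H b).val
        rw [hH, map_mul, GroupLike.val_mul, GroupLike.val_mul, map_mul, map_mul, map_mul, hH, hH])) }
  let φS : S ⊗[R] A →ₐc[S] S ⊗[R] B :=
    (theta Hh).comp ((BialgEquiv.ofBijective (theta E) hE).symm : _ →ₐc[S] _)
  have hφS : ∀ z, bc π (φS z) = f₀ (bc π z) := by
    intro z
    obtain ⟨x, rfl⟩ := hE.2 z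
    show bc π (theta Hh ((BialgEquiv.ofBijective (theta E) hE).symm (theta E x))) = _
    rw [show (BialgEquiv.ofBijective (theta E) hE).symm (theta E x) = x from
      (BialgEquiv.ofBijective (theta E) hE).symm_apply_apply x]
    induction x using MonoidAlgebra.induction_linear with
    | zero => simp
    | add p q hp hq => simp only [map_add, hp, hq]
    | single n r =>
      rw [theta_single, theta_single, bc_smul, bc_smul, map_smul]
      show π r • bc π (H n).val = _
      rw [hH]
  let V := S ⊗[R] S
  let iL : S →ₐ[R] V := Algebra.TensorProduct.includeLeft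
  let iR : S →ₐ[R] V := Algebra.TensorProduct.includeRight
  have heq : homBC iL φS = homBC iR φS := by
    refine hom_eq_of_congr_max (hB.baseChange V) (hA.baseChange V) _ _ fun n hn c => mem_smul_top_of_bc n _ ?_
    haveI := hn
    rw [map_sub, sub_eq_zero]
    let F := V ⧸ n
    let q : V →ₐ[R] F := Ideal.Quotient.mkₐ R n
    have hkill : ∀ i : S →ₐ[R] V, ∀ x ∈ I, q (i x) = 0 := by
      intro i x hx
      haveI : (n.comap i.toRingHom).IsPrime := Ideal.IsPrime.comap i.toRingHom
      have hc : (n.comap i.toRingHom).comap (algebraMap R S) = n.comap (algebraMap R V) := by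
        rw [Ideal.comap_comap]
        congr 1
        exact i.comp_algebraMap
      have hmax : ((n.comap i.toRingHom).comap (algebraMap R S)).IsMaximal :=
        hc ▸ Ideal.isMaximal_comap_of_isIntegral_of_isMaximal n
      have h2 := IsLocalRing.eq_maximalIdeal (Ideal.isMaximal_of_isIntegral_of_isMaximal_comap _ hmax)
      refine Ideal.Quotient.eq_zero_iff_mem.mpr ?_
      show x ∈ n.comap i.toRingHom
      rw [h2]; exact hx
    have hval : ∀ i : S →ₐ[R] V, ∀ a : A, bc q (homBC i φS ((1 : V) ⊗ₜ a)) =
        bc ((Ideal.Quotient.liftₐ I (q.comp i) (hkill i)).comp j) (φ₀ ((1 : k) ⊗ₜ a)) := by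
      intro i a
      have e : q.comp i = (Ideal.Quotient.liftₐ I (q.comp i) (hkill i)).comp π := AlgHom.ext fun x => rfl
      rw [homBC_one_tmul, bc_bc]
      refine (congrArg (fun f => bc f (φS ((1 : S) ⊗ₜ a))) e).trans ?_
      generalize Ideal.Quotient.liftₐ I (q.comp i) (hkill i) = t
      rw [← bc_bc, hφS, bc_tmul, map_one, homBC_one_tmul, bc_bc]
    induction c using TensorProduct.induction_on with
    | zero => simp
    | tmul v a =>
      rw [tmul_eq_smul v a, map_smul (homBC iL φS), map_smul (homBC iR φS), bc_smul, bc_smul, hval, hval]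
      congr 3
      refine AlgHom.ext fun x => ?_
      obtain ⟨r, rfl⟩ := Ideal.Quotient.mk_surjective x
      exact (AlgHom.commutes _ r).trans (AlgHom.commutes _ r).symm
    | add p q hp hq => simp only [map_add, hp, hq]
  obtain ⟨φ, hφ⟩ := descend_hom φS fun c => by
    rw [← homBC_one_tmul, ← homBC_one_tmul, heq]
  refine ⟨φ, fun a => bc_injective j j.toRingHom.injective ?_⟩
  rw [← homBC_one_tmul]
  show f₀ _ = _
  rw [bc_tmul, map_one, show ((1 : L) ⊗ₜ[R] a) = bc π ((1 : S) ⊗ₜ[R] a) by rw [bc_tmul, map_one], ← hφS, hφ,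
    bc_tmul, map_one]

end Hom

end Groth.Agent.H8MultIso
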