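import Mathlib
import Groth.Prelude.Def_SGA3b
import Groth.Agent.Lib.H8MultCore
import Groth.Agent.Lib.H8Mult
import Groth.Agent.Lib.H8MultGL
import Groth.Agent.Lib.H8CharFrame
import Groth.Agent.Lib.H8CharLocus
import Groth.Agent.Lib.H8CharQuasi
import Groth.Agent.Lib.H8Unip

/-!
# Quotients of diagonalisable groups
-/

set_option autoImplicit false

universe u

open TensorProduct

namespace Groth.Agent.H8MultQuot

open H8MultCore H8Mult H8MultAdic H8MultGL H8CharFrame H8CharLocus H8CharQuasi

variable {R : Type u} [CommRing R]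

/-- Diagonalisable after a faithfully flat extension is of multiplicative type. -/
theorem multType_of_diag_ff {A : Type u} [CommRing A] [HopfAlgebra R A] (S : Type u) [CommRing S] [Algebra R S]
    [Module.FaithfullyFlat R S] (hd : SGA3b.IsDiag S (S ⊗[R] A)) : SGA3b.IsMultType R A := by
  refine ⟨{1}, by simp, fun f hf => ?_⟩
  rw [Set.mem_singleton_iff] at hf
  subst hf
  letI : Algebra (Localization.Away (1 : R)) S :=
    (IsLocalization.Away.lift (1 : R) (g := algebraMap R S) (by simp)).toAlgebra
  haveI : IsScalarTower R (Localization.Away (1 : R)) S :=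
    IsScalarTower.of_algebraMap_eq fun r => (IsLocalization.Away.lift_eq _ _ r).symm
  haveI : Module.Flat (Localization.Away (1 : R)) S :=
    (Module.flat_iff_of_isLocalization (M := S) (Localization.Away (1 : R)) (Submonoid.powers (1 : R))).mpr inferInstance
  refine ⟨S, inferInstance, inferInstance, ?_, isDiag_uncancel S _ hd⟩
  refine Module.FaithfullyFlat.of_comap_surjective fun p => ?_
  obtain ⟨q, hq⟩ := PrimeSpectrum.comap_surjective_of_faithfullyFlat (B := S)
    (PrimeSpectrum.comap (algebraMap R (Localization.Away (1 : R))) p)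
  refine ⟨q, PrimeSpectrum.localization_comap_injective (Localization.Away (1 : R)) (Submonoid.powers (1 : R)) ?_⟩
  rw [← hq, IsScalarTower.algebraMap_eq R (Localization.Away (1 : R)) S]
  rfl

/-- The image of the characters of a diagonalisable group in a quotient. -/
noncomputable def quotChar {Q A : Type u} [CommRing A] [HopfAlgebra R A] [CommRing Q] [HopfAlgebra R Q]
    (π : A →ₐc[R] Q) {M : Type u} [CommGroup M] (e : A ≃ₐc[R] MonoidAlgebra R M) :
    M →* GroupLike R Q where
  toFun m := ⟨π (diagHom e m).val, (diagHom e m).2.map π⟩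
  map_one' := GroupLike.val_injective (by simp)
  map_mul' a b := GroupLike.val_injective (by simp)

lemma quotChar_surjective {Q A : Type u} [CommRing A] [HopfAlgebra R A] [CommRing Q] [HopfAlgebra R Q]
    (π : A →ₐc[R] Q) (hπ : Function.Surjective π) {M : Type u} [CommGroup M] (e : A ≃ₐc[R] MonoidAlgebra R M) :
    Function.Surjective (theta (quotChar π e)) := by
  intro q
  obtain ⟨a, rfl⟩ := hπ q
  obtain ⟨x, rfl⟩ := (theta_diagHom_bijective e).2 a
  refine ⟨x, ?_⟩
  induction x using MonoidAlgebra.induction_linear with
  | zero => simp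
  | add p q hp hq => simp only [map_add, hp, hq]
  | single m r => rw [theta_single, theta_single, map_smul]; rfl

/-- A surjective family of characters on a connected base with an invariant functional makes the group diagonalisable. -/
theorem isDiag_of_connected {Q : Type u} [CommRing Q] [HopfAlgebra R Q]
    (hconn : ∀ e : R, IsIdempotentElem e → e = 0 ∨ e = 1) (hQ : HasSplitting R Q)
    {M : Type u} [CommGroup M] (G : M →* GroupLike R Q) (hG : Function.Surjective (theta G)) :
    SGA3b.IsDiag R Q := by
  classical
  obtain ⟨J, hJ1, hJ⟩ := hQ.exists_haar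
  have hJg : ∀ g : GroupLike R Q, J g.val • g.val = J g.val • (1 : Q) := fun g => by
    have h := hJ g.val
    rwa [g.2.comul_eq_tmul_self, P_tmul] at h
  have hid : ∀ g : GroupLike R Q, IsIdempotentElem (J g.val) := fun g => by
    have h := congrArg J (hJg g)
    rw [map_smul, map_smul, hJ1, smul_eq_mul, smul_eq_mul, mul_one] at h
    exact h
  have hker : ∀ m, G m = 1 ∨ J (G m).val = 0 := fun m => by
    rcases hconn _ (hid (G m)) with h | h
    · exact Or.inr h
    · left
      have := hJg (G m)
      rw [h, one_smul, one_smul] at this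
      exact GroupLike.val_injective this
  let π := QuotientGroup.mk' G.ker
  let G' : M ⧸ G.ker →* GroupLike R Q := QuotientGroup.kerLift G
  have hG' : ∀ n, n ≠ 1 → J (G' n).val = 0 := by
    intro n hn
    obtain ⟨m, rfl⟩ := QuotientGroup.mk_surjective n
    rcases hker m with h | h
    · exact absurd ((QuotientGroup.eq_one_iff m).mpr (MonoidHom.mem_ker.mpr h)) hn
    · exact h
  refine isDiag_of_bijective G' ⟨?_, fun q => ?_⟩
  · have hc : ∀ x n, J (theta G' x * (G' n⁻¹).val) = x.coeff n := by
      intro x n
      induction x using MonoidAlgebra.induction_linear with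
      | zero => simp
      | add y z hy hz => simp only [MonoidAlgebra.coeff_add, Finsupp.add_apply, map_add, add_mul, hy, hz]
      | single k r =>
        rw [theta_single, smul_mul_assoc, ← GroupLike.val_mul, ← map_mul, map_smul, smul_eq_mul]
        by_cases hkn : k = n
        · subst hkn; rw [mul_inv_cancel, map_one, GroupLike.val_one, hJ1]; simp
        · rw [hG' _ fun h => hkn (mul_inv_eq_one.mp h)]; simp [hkn]
    intro x y hxy
    exact MonoidAlgebra.coeff_injective (Finsupp.ext fun n => by rw [← hc, hxy, hc])
  · obtain ⟨x, rfl⟩ := hG q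
    refine ⟨MonoidAlgebra.mapDomain π x, ?_⟩
    induction x using MonoidAlgebra.induction_linear with
    | zero => simp
    | add p q hp hq => simp only [MonoidAlgebra.mapDomain_add, map_add, hp, hq]
    | single m r => rw [MonoidAlgebra.mapDomain_single, theta_single, theta_single]; rfl

/-- A quotient of a group of multiplicative type over a field. -/
theorem multType_quotient_field {k : Type u} [Field k] {A Q : Type u} [CommRing A] [HopfAlgebra k A] [CommRing Q]
    [HopfAlgebra k Q] (π : A →ₐc[k] Q) (hπ : Function.Surjective π) (hA : HasSplitting k A) :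
    SGA3b.IsMultType k Q := by
  classical
  obtain ⟨ι, _, T, _, _, hff, hd⟩ := hA
  haveI := hff
  obtain ⟨i, hi⟩ : ∃ i, Nontrivial (T i) := by
    by_contra hcon
    haveI : ∀ i, Subsingleton (T i) := fun i => not_nontrivial_iff_subsingleton.mp (not_exists.mp hcon i)
    obtain ⟨q, -⟩ := PrimeSpectrum.comap_surjective_of_faithfullyFlat (B := ∀ i, T i)
      (⟨⊥, inferInstance⟩ : PrimeSpectrum k)
    exact q.isPrime.ne_top (Subsingleton.elim _ _)
  haveI := hi
  obtain ⟨mx, hmx⟩ := Ideal.exists_maximal (T i)
  letI := Ideal.Quotient.field mx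
  let K := T i ⧸ mx
  obtain ⟨M, _, ⟨e⟩⟩ := isDiag_cancel K (T i) (isDiag_baseChange K (hd i))
  let πK : K ⊗[k] A →ₐc[K] K ⊗[k] Q := Bialgebra.TensorProduct.map (BialgHom.id K K) π
  have hπK : Function.Surjective πK := fun z => by
    induction z using TensorProduct.induction_on with
    | zero => exact ⟨0, map_zero _⟩
    | tmul t q => obtain ⟨a, rfl⟩ := hπ q; exact ⟨t ⊗ₜ a, rfl⟩
    | add p q hp hq =>
      obtain ⟨a, ha⟩ := hp
      obtain ⟨b, hb⟩ := hq
      exact ⟨a + b, by rw [map_add, ha, hb]⟩
  refine multType_of_diag_ff K (H8Unip.isDiag_of_span K (K ⊗[k] Q) (eq_top_iff.mpr fun q _ => ?_))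
  rename_i hq
  clear hq
  obtain ⟨x, rfl⟩ := quotChar_surjective πK hπK e q
  induction x using MonoidAlgebra.induction_linear with
  | zero => simp
  | add p q hp hq => rw [map_add]; exact add_mem hp hq
  | single m r =>
    rw [theta_single]
    exact Submodule.smul_mem _ r (Submodule.subset_span (quotChar πK e m).2)

end Groth.Agent.H8MultQuot
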