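import Mathlib
import Groth.Prelude.Def_SGA3b
import Groth.Agent.Lib.H8MultCore
import Groth.Agent.Lib.H8Mult
import Groth.Agent.Lib.H8MultGL
import Groth.Agent.Lib.H8MultField
import Groth.Agent.Lib.H8MultIso
import Groth.Agent.Lib.H8MultQuot
import Groth.Agent.Lib.H8HopfModel
import Groth.Agent.Lib.H8FlatDescent

/-!
# Noetherian models of groups over local rings which are flat at the closed fibre
-/

set_option autoImplicit false
set_option linter.all false
set_option synthInstance.maxHeartbeats 200000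

universe u

open TensorProduct

namespace Groth.Agent.H8FlatModel

open H8MultGL H8MultIso H8FlatDescent

section Closed

variable {R₁ : Type*} {R : Type u} [CommRing R₁] [CommRing R] [Algebra R₁ R]

/-- A subalgebra in which every element invertible in the ambient ring is invertible. -/
def Closed (S : Subalgebra R₁ R) : Prop := ∀ x : S, IsUnit (x : R) → IsUnit x

theorem isLocalRing_of_closed [IsLocalRing R] {S : Subalgebra R₁ R} (hS : Closed S) : IsLocalRing S := by
  haveI : Nontrivial S := inferInstance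
  refine IsLocalRing.of_isUnit_or_isUnit_one_sub_self fun a => ?_
  rcases IsLocalRing.isUnit_or_isUnit_one_sub_self (a : R) with h | h
  · exact Or.inl (hS a h)
  · exact Or.inr (hS (1 - a) (by simpa using h))

theorem isLocalHom_of_closed {S : Subalgebra R₁ R} (hS : Closed S) : IsLocalHom (algebraMap S R) :=
  ⟨fun x hx => hS x hx⟩

/-- The closure of a subalgebra under inversion of the elements invertible in the ambient ring. -/
def closure (S : Subalgebra R₁ R) : Subalgebra R₁ R where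
  carrier := {x | ∃ b ∈ S, IsUnit b ∧ x * b ∈ S}
  mul_mem' := by
    rintro x y ⟨b, hb, hbu, hx⟩ ⟨c, hc, hcu, hy⟩
    exact ⟨b * c, mul_mem hb hc, hbu.mul hcu, by rw [mul_mul_mul_comm]; exact mul_mem hx hy⟩
  add_mem' := by
    rintro x y ⟨b, hb, hbu, hx⟩ ⟨c, hc, hcu, hy⟩
    refine ⟨b * c, mul_mem hb hc, hbu.mul hcu, ?_⟩
    rw [show (x + y) * (b * c) = x * b * c + y * c * b by ring]
    exact add_mem (mul_mem hx hc) (mul_mem hy hb)
  algebraMap_mem' r := ⟨1, one_mem _, isUnit_one, by rw [mul_one]; exact S.algebraMap_mem r⟩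

theorem le_closure (S : Subalgebra R₁ R) : S ≤ closure S := fun x hx => ⟨1, one_mem _, isUnit_one, by rwa [mul_one]⟩

theorem closed_closure (S : Subalgebra R₁ R) : Closed (closure S) := by
  intro x hx
  obtain ⟨u, hu⟩ := hx
  obtain ⟨b, hb, hbu, hxb⟩ := x.2
  refine IsUnit.of_mul_eq_one (⟨(↑u⁻¹ : R), ⟨x * b, hxb, (hu ▸ u.isUnit).mul hbu, ?_⟩⟩ : closure S) ?_
  · rw [← mul_assoc, ← hu, Units.inv_mul, one_mul]
    exact hb
  · refine Subtype.ext ?_
    show (x : R) * ↑u⁻¹ = 1
    rw [← hu, Units.mul_inv]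

theorem isNoetherianRing_closure [IsNoetherianRing R₁] {S : Subalgebra R₁ R} (hS : S.FG) :
    IsNoetherianRing (closure S) := by
  haveI : Algebra.FiniteType R₁ S := S.fg_iff_finiteType.mp hS
  haveI : IsNoetherianRing S := Algebra.FiniteType.isNoetherianRing R₁ S
  let M : Submonoid S := (IsUnit.submonoid R).comap S.val.toMonoidHom
  letI : Algebra S (closure S) := (Subalgebra.inclusion (le_closure S)).toRingHom.toAlgebra
  haveI : IsLocalization M (closure S) := by
    refine (isLocalization_iff M (closure S)).mpr ⟨fun y => closed_closure S _ y.2, fun z => ?_, fun {a b} h => ?_⟩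
    · obtain ⟨b, hb, hbu, hzb⟩ := z.2
      exact ⟨(⟨z * b, hzb⟩, ⟨⟨b, hb⟩, hbu⟩), Subtype.ext rfl⟩
    · refine ⟨1, ?_⟩
      have : (a : R) = b := congrArg (fun z : closure S => (z : R)) h
      rw [Subtype.ext this]
  exact IsLocalization.isNoetherianRing M (closure S) inferInstance

end Closed

section Stage

variable {R₁ : Type u} [CommRing R₁] [IsLocalRing R₁]
variable {C₁ : Type u} [CommRing C₁] [Algebra R₁ C₁]
variable {S S' : Type u} [CommRing S] [Algebra R₁ S] [CommRing S'] [Algebra R₁ S']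

/-- Functoriality of the extended maximal ideal. -/
noncomputable def mIMap (φ : S →ₐ[R₁] S') : mI (R₁ := R₁) S →ₗ[R₁] mI (R₁ := R₁) S' where
  toFun x := ⟨φ x, by
    show φ x ∈ (IsLocalRing.maximalIdeal R₁).map (algebraMap R₁ S')
    rw [← φ.comp_algebraMap, ← Ideal.map_map]
    exact Ideal.mem_map_of_mem _ x.2⟩
  map_add' x y := Subtype.ext (map_add φ _ _)
  map_smul' c x := Subtype.ext (map_smul φ c (x : S))

lemma mIMap_injective (φ : S →ₐ[R₁] S') (hφ : Function.Injective φ) : Function.Injective (mIMap φ) := fun x y h =>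
  Subtype.ext (hφ (congrArg Subtype.val h))

lemma flatten_map (φ : S →ₐ[R₁] S') (x : S ⊗[R₁] C₁) (k : C₁ ⊗[R₁] IsLocalRing.maximalIdeal R₁) :
    (mIMap φ).rTensor C₁ (flatten C₁ S (x • push C₁ S k)) =
      flatten C₁ S' (Algebra.TensorProduct.map φ (AlgHom.id R₁ C₁) x • push C₁ S' k) := by
  induction x using TensorProduct.induction_on with
  | zero => rw [map_zero (Algebra.TensorProduct.map φ (AlgHom.id R₁ C₁)), zero_smul, zero_smul,
      LinearEquiv.map_zero, LinearEquiv.map_zero, LinearMap.map_zero]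
  | add p q hp hq => rw [map_add (Algebra.TensorProduct.map φ (AlgHom.id R₁ C₁)), add_smul, add_smul,
      LinearEquiv.map_add, LinearEquiv.map_add, LinearMap.map_add, hp, hq]
  | tmul r c =>
    induction k using TensorProduct.induction_on with
    | zero => rw [LinearMap.map_zero, LinearMap.map_zero, smul_zero, smul_zero,
        LinearEquiv.map_zero, LinearEquiv.map_zero, LinearMap.map_zero]
    | add p q hp hq => rw [LinearMap.map_add, LinearMap.map_add, smul_add, smul_add,
        LinearEquiv.map_add, LinearEquiv.map_add, LinearMap.map_add, hp, hq]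
    | tmul d a =>
      rw [push_tmul, push_tmul, smul_tmul', smul_tmul', smul_eq_mul, smul_eq_mul, Algebra.TensorProduct.map_tmul,
        Algebra.TensorProduct.tmul_mul_tmul, Algebra.TensorProduct.tmul_mul_tmul, mul_one, mul_one, flatten_tmul,
        flatten_tmul, LinearMap.rTensor_tmul]
      congr 1
      refine Subtype.ext ?_
      show φ (r * algebraMap R₁ S a) = φ r * algebraMap R₁ S' a
      rw [map_mul, AlgHom.commutes]

lemma mu_smul (c : C₁) (k : C₁ ⊗[R₁] IsLocalRing.maximalIdeal R₁) : mu (c • k) = c * mu k := by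
  induction k using TensorProduct.induction_on with
  | zero => simp
  | tmul d a => simp [smul_tmul']
  | add p q hp hq => simp only [smul_add, map_add, mul_add, hp, hq]

end Stage

section Gens

variable {R₁ R : Type u} [CommRing R₁] [IsLocalRing R₁] [CommRing R] [Algebra R₁ R]

/-- Finitely many elements of the extended ideal come from a finitely generated stage. -/
lemma exists_range (q : mI (R₁ := R₁) R) :
    ∃ B : Finset R, ∀ S : Subalgebra R₁ R, (B : Set R) ⊆ S → q ∈ LinearMap.range (mIMap S.val) := by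
  classical
  obtain ⟨x, hx⟩ := q
  have hx' : x ∈ Submodule.span R (algebraMap R₁ R '' (IsLocalRing.maximalIdeal R₁ : Set R₁)) := hx
  induction hx' using Submodule.span_induction with
  | mem a ha =>
    obtain ⟨a, ha, rfl⟩ := ha
    exact ⟨∅, fun S _ => ⟨inI S ⟨a, ha⟩, Subtype.ext (S.val.commutes a)⟩⟩
  | zero => exact ⟨∅, fun S _ => ⟨0, Subtype.ext (by simp [mIMap])⟩⟩
  | add a b ha hb iha ihb =>
    obtain ⟨B, hB⟩ := iha ha
    obtain ⟨B', hB'⟩ := ihb hb
    refine ⟨B ∪ B', fun S hS => ?_⟩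
    rw [Finset.coe_union, Set.union_subset_iff] at hS
    exact add_mem (hB S hS.1) (hB' S hS.2)
  | smul r a ha iha =>
    obtain ⟨B, hB⟩ := iha ha
    refine ⟨insert r B, fun S hS => ?_⟩
    rw [Finset.coe_insert, Set.insert_subset_iff] at hS
    obtain ⟨y, hy⟩ := hB S hS.2
    exact ⟨(⟨r, hS.1⟩ : S) • y, Subtype.ext (congrArg (r * ·) (congrArg Subtype.val hy))⟩

/-- A finitely generated submodule of the extended ideal comes from a finitely generated stage. -/
lemma exists_range_fg (Q : Submodule R₁ (mI (R₁ := R₁) R)) (hQ : Q.FG) :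
    ∃ B : Finset R, ∀ S : Subalgebra R₁ R, (B : Set R) ⊆ S → Q ≤ LinearMap.range (mIMap S.val) := by
  classical
  obtain ⟨T, rfl⟩ := hQ
  choose B hB using fun q : T => exists_range (q : mI (R₁ := R₁) R)
  refine ⟨Finset.univ.biUnion B, fun S hS => Submodule.span_le.mpr fun q hq => hB ⟨q, hq⟩ S ?_⟩
  exact fun b hb => hS (Finset.mem_coe.mpr (Finset.mem_biUnion.mpr ⟨⟨q, hq⟩, Finset.mem_univ _, hb⟩))

variable {C₁ : Type u} [CommRing C₁] [Algebra R₁ C₁]

set_option maxHeartbeats 800000 in
/-- A relation killed over the big ring is killed at a finitely generated stage. -/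
lemma exists_stage_kill (S₀ : Subalgebra R₁ R) (s₀ : S₀ ⊗[R₁] C₁) (k : C₁ ⊗[R₁] IsLocalRing.maximalIdeal R₁)
    (h : Algebra.TensorProduct.map S₀.val (AlgHom.id R₁ C₁) s₀ • push C₁ R k = 0) :
    ∃ B : Finset R, ∀ (S : Subalgebra R₁ R) (hle : S₀ ≤ S), (B : Set R) ⊆ S →
      Algebra.TensorProduct.map (Subalgebra.inclusion hle) (AlgHom.id R₁ C₁) s₀ • push C₁ S k = 0 := by
  let w₀ := flatten C₁ S₀ (s₀ • push C₁ S₀ k)
  obtain ⟨P, hP, t, ht⟩ := TensorProduct.exists_of_fg w₀
  let j₀ := mIMap (R₁ := R₁) S₀.val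
  let P' := P.map j₀
  let res : P →ₗ[R₁] P' := (j₀ ∘ₗ P.subtype).codRestrict P' fun x => Submodule.mem_map_of_mem x.2
  have h0 : P'.subtype.rTensor C₁ (res.rTensor C₁ t) = 0 := by
    rw [← LinearMap.rTensor_comp_apply, show P'.subtype ∘ₗ res = j₀ ∘ₗ P.subtype from rfl,
      LinearMap.rTensor_comp_apply, ht]
    show (mIMap S₀.val).rTensor C₁ (flatten C₁ S₀ (s₀ • push C₁ S₀ k)) = 0
    rw [flatten_map, h, map_zero]
  obtain ⟨Q, hPQ, hQ, hQ0⟩ := TensorProduct.eq_zero_of_fg_of_subtype_eq_zero (hP.map j₀) h0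
  obtain ⟨B, hB⟩ := exists_range_fg Q hQ
  refine ⟨B, fun S hle hS => (flatten C₁ S).injective ?_⟩
  rw [LinearEquiv.map_zero, ← flatten_map]
  let jS := mIMap (R₁ := R₁) S.val
  let eS := LinearEquiv.ofInjective jS (mIMap_injective _ Subtype.val_injective)
  let ι : Q →ₗ[R₁] mI (R₁ := R₁) S := eS.symm.toLinearMap ∘ₗ Submodule.inclusion (hB S hS)
  have hι : mIMap (Subalgebra.inclusion hle) ∘ₗ P.subtype = ι ∘ₗ Submodule.inclusion hPQ ∘ₗ res := by
    refine LinearMap.ext fun x => mIMap_injective S.val Subtype.val_injective ?_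
    refine Eq.trans ?_ (congrArg Subtype.val (eS.apply_symm_apply
      (Submodule.inclusion (hB S hS) (Submodule.inclusion hPQ (res x))))).symm
    exact Subtype.ext rfl
  show (mIMap (Subalgebra.inclusion hle)).rTensor C₁ w₀ = 0
  rw [← ht, ← LinearMap.rTensor_comp_apply, hι]
  simp only [LinearMap.rTensor_comp, LinearMap.comp_apply]
  rw [hQ0, LinearMap.map_zero]

/-- An element of the extended maximal ideal comes from the maximal ideal of a finitely generated stage. -/
lemma exists_stage_mem [IsLocalRing R] (x : R ⊗[R₁] C₁)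
    (hx : x ∈ (IsLocalRing.maximalIdeal R).map (algebraMap R (R ⊗[R₁] C₁))) :
    ∃ B : Finset R, ∀ (S : Subalgebra R₁ R), (B : Set R) ⊆ S → ∃ y : S ⊗[R₁] C₁,
      y ∈ ((IsLocalRing.maximalIdeal R).comap S.val.toRingHom).map (algebraMap S (S ⊗[R₁] C₁)) ∧
        Algebra.TensorProduct.map S.val (AlgHom.id R₁ C₁) y = x := by
  classical
  refine Submodule.smul_induction_on ((H8MultCore.mem_map_iff _ x).mp hx) (fun a ha z hz => ?_) ?_
  · clear hz
    induction z using TensorProduct.induction_on with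
    | zero => exact ⟨∅, fun S _ => ⟨0, zero_mem _, by simp⟩⟩
    | tmul b c =>
      refine ⟨{a, b}, fun S hS => ?_⟩
      rw [Finset.coe_pair, Set.insert_subset_iff, Set.singleton_subset_iff] at hS
      refine ⟨algebraMap S (S ⊗[R₁] C₁) ⟨a, hS.1⟩ * ((⟨b, hS.2⟩ : S) ⊗ₜ[R₁] c),
        Ideal.mul_mem_right _ _ (Ideal.mem_map_of_mem _ ha), ?_⟩
      rw [map_mul, smul_tmul', Algebra.TensorProduct.algebraMap_apply, Algebra.TensorProduct.map_tmul,
        Algebra.TensorProduct.map_tmul, Algebra.TensorProduct.tmul_mul_tmul]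
      simp
    | add p q hp hq =>
      obtain ⟨B, hB⟩ := hp
      obtain ⟨B', hB'⟩ := hq
      refine ⟨B ∪ B', fun S hS => ?_⟩
      rw [Finset.coe_union, Set.union_subset_iff] at hS
      obtain ⟨y, hy, hy'⟩ := hB S hS.1
      obtain ⟨z, hz, hz'⟩ := hB' S hS.2
      exact ⟨y + z, add_mem hy hz, by rw [map_add, hy', hz', smul_add]⟩
  · rintro p q ⟨B, hB⟩ ⟨B', hB'⟩
    refine ⟨B ∪ B', fun S hS => ?_⟩
    rw [Finset.coe_union, Set.union_subset_iff] at hS
    obtain ⟨y, hy, hy'⟩ := hB S hS.1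
    obtain ⟨z, hz, hz'⟩ := hB' S hS.2
    exact ⟨y + z, add_mem hy hz, by rw [map_add, hy', hz']⟩

end Gens

section Flat

variable {R : Type u} [CommRing R]

/-- Flatness of localisations is invariant under isomorphisms. -/
theorem flat_transport {C C' : Type u} [CommRing C] [Algebra R C] [CommRing C'] [Algebra R C'] (ν : C' ≃ₐ[R] C)
    (q : Ideal C') [q.IsPrime] (q' : Ideal C) [q'.IsPrime] (h : ∀ x, ν x ∈ q' ↔ x ∈ q)
    (hq : Module.Flat R (Localization.AtPrime q')) : Module.Flat R (Localization.AtPrime q) := by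
  haveI := hq
  have H : Submonoid.map ν q.primeCompl = q'.primeCompl := by
    ext y
    refine ⟨?_, fun hy => ⟨ν.symm y, fun hc => hy ?_, ν.apply_symm_apply y⟩⟩
    · rintro ⟨x, hx, rfl⟩
      exact fun hc => hx ((h x).mp hc)
    · simpa using (h _).mpr hc
  exact Module.Flat.of_linearEquiv
    (IsLocalization.algEquivOfAlgEquiv (Localization.AtPrime q) (Localization.AtPrime q') ν H).toLinearEquiv

/-- Flatness at the closed fibre is invariant under isomorphisms. -/
theorem flat_closed_transport {C C' : Type u} [CommRing C] [Algebra R C] [CommRing C'] [Algebra R C']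
    (ν : C' ≃ₐ[R] C) (m : Ideal R)
    (hfl : ∀ (q : Ideal C) [q.IsPrime], m.map (algebraMap R C) ≤ q → Module.Flat R (Localization.AtPrime q))
    (q : Ideal C') [q.IsPrime] (hq : m.map (algebraMap R C') ≤ q) : Module.Flat R (Localization.AtPrime q) := by
  let q' := q.comap ν.symm.toAlgHom.toRingHom
  have hq' : Ideal.map (algebraMap R C) m ≤ q' := Ideal.map_le_iff_le_comap.mpr fun a ha => by
    show ν.symm (algebraMap R C a) ∈ q
    rw [AlgEquiv.commutes]
    exact hq (Ideal.mem_map_of_mem _ ha)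
  exact flat_transport ν q q' (fun x => by show ν.symm (ν x) ∈ q ↔ _; rw [ν.symm_apply_apply]) (hfl q' hq')

/-- Base change of an isomorphism of Hopf algebras. -/
noncomputable def bcEquiv {P Q : Type u} [CommRing P] [HopfAlgebra R P] [CommRing Q] [HopfAlgebra R Q]
    (g : P ≃ₐc[R] Q) (T : Type u) [CommRing T] [Algebra R T] : T ⊗[R] P ≃ₐc[T] T ⊗[R] Q :=
  BialgEquiv.ofBijective (Bialgebra.TensorProduct.map (BialgHom.id T T) (g : P →ₐc[R] Q)) (by
    have hG : ∀ z, Bialgebra.TensorProduct.map (BialgHom.id T T) (g : P →ₐc[R] Q) z =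
        (g : P ≃ₐc[R] Q).toLinearEquiv.lTensor T z := by
      intro z
      induction z using TensorProduct.induction_on with
      | zero => simp
      | tmul a b => rfl
      | add p q hp hq => simp only [map_add, hp, hq]
    rw [show ⇑(Bialgebra.TensorProduct.map (BialgHom.id T T) (g : P →ₐc[R] Q)) =
      (g : P ≃ₐc[R] Q).toLinearEquiv.lTensor T from funext hG]
    exact LinearEquiv.bijective _)

variable [IsLocalRing R] {R₁ : Type u} [CommRing R₁] [IsLocalRing R₁] [Algebra R₁ R]
  {C₁ : Type u} [CommRing C₁] [Algebra R₁ C₁]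

set_option maxHeartbeats 800000 in
/-- Near the closed fibre a relation dies in the big ring. -/
lemma exists_kill [IsLocalHom (algebraMap R₁ R)] (hfl : ∀ (q : Ideal (R ⊗[R₁] C₁)) [q.IsPrime],
      (IsLocalRing.maximalIdeal R).map (algebraMap R (R ⊗[R₁] C₁)) ≤ q → Module.Flat R (Localization.AtPrime q))
    (k : C₁ ⊗[R₁] IsLocalRing.maximalIdeal R₁) (hk : mu k = 0) :
    ∃ s : R ⊗[R₁] C₁, s - 1 ∈ (IsLocalRing.maximalIdeal R).map (algebraMap R (R ⊗[R₁] C₁)) ∧
      s • push C₁ R k = 0 := by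
  classical
  let C' := R ⊗[R₁] C₁
  let mC := (IsLocalRing.maximalIdeal R).map (algebraMap R C')
  let I := mI (R₁ := R₁) R
  let z := push C₁ R k
  let An : Ideal C' := LinearMap.ker (LinearMap.toSpanSingleton C' (C' ⊗[R] I) z)
  suffices htop : An ⊔ mC = ⊤ by
    obtain ⟨a, ha, b, hb, hab⟩ := Submodule.mem_sup.mp ((Ideal.eq_top_iff_one _).mp htop)
    exact ⟨a, by rw [← hab, sub_add_cancel_left]; exact neg_mem hb, ha⟩
  by_contra htop
  obtain ⟨q, hq, hle⟩ := Ideal.exists_le_maximal _ htop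
  haveI := hq.isPrime
  haveI := hfl q (le_trans le_sup_right hle)
  let g : C' →ₗ[C'] Localization.AtPrime q := Algebra.linearMap C' _
  let G := AlgebraTensorModule.rTensor R I g
  have hG : ∀ x : C' ⊗[R] I, TensorProduct.rid R _ (I.subtype.lTensor (Localization.AtPrime q) (G x)) =
      g (TensorProduct.rid R C' (I.subtype.lTensor C' x)) := by
    intro x
    induction x using TensorProduct.induction_on with
    | zero => simp
    | tmul c i => simp [G, g, Algebra.smul_def, ← IsScalarTower.algebraMap_apply R C' (Localization.AtPrime q)]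
    | add p q hp hq => simp only [map_add, hp, hq]
  have hz : TensorProduct.rid R C' (I.subtype.lTensor C' z) = 0 := by
    have : ∀ d, TensorProduct.rid R C' (I.subtype.lTensor C' (push C₁ R d)) = (1 : R) ⊗ₜ[R₁] mu d := by
      intro d
      induction d using TensorProduct.induction_on with
      | zero => simp
      | tmul c a =>
        rw [push_tmul, LinearMap.lTensor_tmul, Submodule.subtype_apply, TensorProduct.rid_tmul, inI_coe,
          algebraMap_smul, mu_tmul, tmul_smul]
      | add p q hp hq => simp only [map_add, tmul_add, hp, hq]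
    rw [this, hk, tmul_zero]
  have hG0 : G z = 0 := by
    apply Module.Flat.lTensor_preserves_injective_linearMap (M := Localization.AtPrime q) I.subtype
      Subtype.val_injective
    apply (TensorProduct.rid R (Localization.AtPrime q)).injective
    rw [hG, hz, map_zero, map_zero, map_zero]
  obtain ⟨c, hc⟩ := IsLocalizedModule.exists_of_eq (S := q.primeCompl) (f := G)
    (x₁ := z) (x₂ := 0) (by rw [hG0, map_zero])
  rw [smul_zero] at hc
  exact c.2 (hle (Ideal.mem_sup_left (show (c : C') • z = 0 from hc)))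

/-- A product of elements congruent to one is congruent to one. -/
lemma prod_sub_one_mem {P ι : Type*} [CommRing P] [Fintype ι] (mC : Ideal P) (f : ι → P) (h : ∀ i, f i - 1 ∈ mC) :
    (∏ i, f i) - 1 ∈ mC := by
  refine Ideal.Quotient.eq.mp ?_
  rw [map_prod, map_one]
  exact Finset.prod_eq_one fun k _ => (Ideal.Quotient.eq.mpr (h k)).trans (map_one _)

/-- A product kills what one factor kills. -/
lemma prod_smul_eq_zero {P ι : Type*} [CommRing P] [Fintype ι] {M : Type*} [AddCommGroup M] [Module P M] (f : ι → P)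
    (z : M) (i : ι) (h : f i • z = 0) : (∏ i, f i) • z = 0 := by
  classical
  rw [← Finset.prod_erase_mul _ _ (Finset.mem_univ i), mul_smul, h, smul_zero]

/-- Killing is spread from generators. -/
lemma push_kill (S : Type u) [CommRing S] [Algebra R₁ S] (t : S ⊗[R₁] C₁)
    (G : Set (C₁ ⊗[R₁] IsLocalRing.maximalIdeal R₁)) (hG : ∀ k ∈ G, t • push C₁ S k = 0)
    (k : C₁ ⊗[R₁] IsLocalRing.maximalIdeal R₁) (hk : k ∈ Submodule.span C₁ G) : t • push C₁ S k = 0 := by
  induction hk using Submodule.span_induction with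
  | mem g hg => exact hG g hg
  | zero => rw [LinearMap.map_zero, smul_zero]
  | add a b _ _ ha hb => rw [LinearMap.map_add, smul_add, ha, hb, add_zero]
  | smul c a _ ha => rw [push_smul, smul_comm, ha, smul_zero]

/-- The kernel of the multiplication is finitely generated. -/
lemma exists_gens [IsNoetherianRing R₁] [IsNoetherianRing C₁] :
    ∃ G : Finset (C₁ ⊗[R₁] IsLocalRing.maximalIdeal R₁), (∀ k ∈ G, mu k = 0) ∧
      ∀ k, mu k = 0 → k ∈ Submodule.span C₁ (G : Set (C₁ ⊗[R₁] IsLocalRing.maximalIdeal R₁)) := by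
  let m₁ := IsLocalRing.maximalIdeal R₁
  let D := C₁ ⊗[R₁] m₁
  haveI : Module.Finite R₁ m₁ := Module.Finite.iff_fg.mpr (IsNoetherian.noetherian m₁)
  haveI : Module.Finite C₁ D := Module.Finite.base_change R₁ C₁ m₁
  haveI : IsNoetherian C₁ D := isNoetherian_of_isNoetherianRing_of_finite C₁ D
  let K : Submodule C₁ D :=
    { carrier := {k | mu k = 0}
      zero_mem' := map_zero _
      add_mem' := fun {a b} ha hb => by
        show mu (a + b) = 0
        rw [map_add, ha, hb, add_zero]
      smul_mem' := fun c k hk => by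
        show mu (c • k) = 0
        rw [mu_smul, show mu k = 0 from hk, mul_zero] }
  obtain ⟨G, hG⟩ := IsNoetherian.noetherian K
  exact ⟨G, fun k hk => show k ∈ K from hG ▸ Submodule.subset_span hk, fun k hk => hG ▸ hk⟩

set_option maxHeartbeats 1600000 in
/-- Flatness at the closed fibre descends to a finitely generated stage. -/
theorem exists_stage_flat [IsNoetherianRing R₁] [Algebra.FiniteType R₁ C₁] [IsLocalHom (algebraMap R₁ R)]
    (hfl : ∀ (q : Ideal (R ⊗[R₁] C₁)) [q.IsPrime],
      (IsLocalRing.maximalIdeal R).map (algebraMap R (R ⊗[R₁] C₁)) ≤ q → Module.Flat R (Localization.AtPrime q)) :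
    ∃ (S : Subalgebra R₁ R) (_ : IsLocalRing S) (_ : IsLocalHom (algebraMap S R)) (_ : IsNoetherianRing S),
      ∀ (q : Ideal (S ⊗[R₁] C₁)) [q.IsPrime],
        (IsLocalRing.maximalIdeal S).map (algebraMap S (S ⊗[R₁] C₁)) ≤ q → Module.Flat S (Localization.AtPrime q) := by
  classical
  haveI : IsNoetherianRing C₁ := Algebra.FiniteType.isNoetherianRing R₁ C₁
  obtain ⟨G, hGK, hG⟩ := exists_gens (R₁ := R₁) (C₁ := C₁)
  choose sk hsk1 hsk2 using fun k : G => exists_kill hfl (k : _) (hGK k k.2)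
  let s : R ⊗[R₁] C₁ := ∏ k, sk k
  obtain ⟨B₀, hB₀⟩ := exists_stage_mem (s - 1) (prod_sub_one_mem _ sk hsk1)
  let S₀ := closure (Algebra.adjoin R₁ (B₀ : Set R))
  obtain ⟨y, hy, hyx⟩ := hB₀ S₀ (Algebra.subset_adjoin.trans (le_closure _))
  let s₀ : S₀ ⊗[R₁] C₁ := 1 + y
  have hs₀ : Algebra.TensorProduct.map S₀.val (AlgHom.id R₁ C₁) s₀ = s := by
    rw [map_add, map_one, hyx, add_sub_cancel]
  choose B hB using fun k : G => exists_stage_kill S₀ s₀ (k : _) (by
    rw [hs₀]; exact prod_smul_eq_zero (M := (R ⊗[R₁] C₁) ⊗[R] mI (R₁ := R₁) R) sk _ k (hsk2 k))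
  let Bt : Finset R := B₀ ∪ Finset.univ.biUnion B
  let S := closure (Algebra.adjoin R₁ (Bt : Set R))
  haveI hSl : IsLocalRing S := isLocalRing_of_closed (closed_closure _)
  haveI hSh : IsLocalHom (algebraMap S R) := isLocalHom_of_closed (closed_closure _)
  haveI hSn : IsNoetherianRing S := isNoetherianRing_closure (Subalgebra.fg_adjoin_finset _)
  have hle : S₀ ≤ S := by
    rintro x ⟨b, hb, hbu, hxb⟩
    have hmono : Algebra.adjoin R₁ (B₀ : Set R) ≤ Algebra.adjoin R₁ (Bt : Set R) :=
      Algebra.adjoin_mono (by simp [Bt])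
    exact ⟨b, hmono hb, hbu, hmono hxb⟩
  haveI : IsNoetherianRing (S ⊗[R₁] C₁) := Algebra.FiniteType.isNoetherianRing S _
  let iS : S₀ ⊗[R₁] C₁ →ₐ[R₁] S ⊗[R₁] C₁ :=
    Algebra.TensorProduct.map (Subalgebra.inclusion hle) (AlgHom.id R₁ C₁)
  have hkill : ∀ k, mu k = 0 → iS s₀ • push C₁ S k = 0 := fun k hk =>
    push_kill S (iS s₀) _ (fun g hg => hB ⟨g, hg⟩ S hle fun b hb => (Algebra.subset_adjoin.trans (le_closure _))
      (Finset.mem_coe.mpr (Finset.mem_union_right _
        (Finset.mem_biUnion.mpr ⟨⟨g, hg⟩, Finset.mem_univ _, hb⟩)))) k (hG k hk)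
  refine ⟨S, hSl, hSh, hSn, fun q _ hq => flat_at_of_kill S (iS s₀) hkill q (fun hc => ?_) ?_⟩
  · have hy2 : iS y ∈ q := by
      refine hq ?_
      have h1 := Ideal.mem_map_of_mem iS.toRingHom hy
      rw [Ideal.map_map] at h1
      refine (Ideal.map_le_iff_le_comap.mpr fun a ha => ?_) h1
      rw [Ideal.mem_comap, RingHom.comp_apply]
      show iS (a ⊗ₜ[R₁] (1 : C₁)) ∈ _
      rw [show iS (a ⊗ₜ[R₁] (1 : C₁)) = algebraMap S (S ⊗[R₁] C₁) (Subalgebra.inclusion hle a) from rfl]
      refine Ideal.mem_map_of_mem (algebraMap S (S ⊗[R₁] C₁)) ?_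
      intro hu
      exact (IsLocalRing.mem_maximalIdeal _).mp ha (hu.map S.val)
    refine (inferInstance : q.IsPrime).ne_top ((Ideal.eq_top_iff_one q).mpr ?_)
    have h2 := sub_mem hc hy2
    rwa [map_add iS, map_one iS, add_sub_cancel_right] at h2
  · refine Ideal.map_le_iff_le_comap.mpr (Ideal.map_le_iff_le_comap.mpr fun a ha => ?_)
    refine hq (Ideal.mem_map_of_mem _ ?_)
    intro hu
    have := hu.map S.val
    rw [AlgHom.commutes] at this
    exact ha (IsLocalHom.map_nonunit (f := algebraMap R₁ R) a this)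

end Flat

set_option maxHeartbeats 800000 in
/-- The closed fibre of a model is of multiplicative type. -/
theorem multType_residue {R₂ R : Type u} [CommRing R₂] [IsLocalRing R₂] [CommRing R] [IsLocalRing R] [Algebra R₂ R]
    [IsLocalHom (algebraMap R₂ R)] {C₂ : Type u} [CommRing C₂] [HopfAlgebra R₂ C₂] {C : Type u} [CommRing C]
    [HopfAlgebra R C] [Algebra.FiniteType R C] (ν : R ⊗[R₂] C₂ ≃ₐc[R] C)
    (hs : SGA3b.IsMultType (IsLocalRing.ResidueField R) (IsLocalRing.ResidueField R ⊗[R] C)) :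
    SGA3b.IsMultType (IsLocalRing.ResidueField R₂) (IsLocalRing.ResidueField R₂ ⊗[R₂] C₂) := by
  let k := IsLocalRing.ResidueField R
  let k₂ := IsLocalRing.ResidueField R₂
  obtain ⟨k', _, _, hfin, hsep, M, _, -, hd⟩ := H8MultField.exists_sep_split (A := k ⊗[R] C) inferInstance hs
  letI : Algebra R k' := ((algebraMap k k').comp (algebraMap R k)).toAlgebra
  haveI : IsScalarTower R k k' := IsScalarTower.of_algebraMap_eq' rfl
  letI : Algebra R₂ k' := ((algebraMap R k').comp (algebraMap R₂ R)).toAlgebra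
  haveI : IsScalarTower R₂ R k' := IsScalarTower.of_algebraMap_eq fun _ => rfl
  letI : Algebra k₂ k' := ((algebraMap k k').comp (IsLocalRing.ResidueField.map (algebraMap R₂ R))).toAlgebra
  haveI : IsScalarTower R₂ k₂ k' := IsScalarTower.of_algebraMap_eq fun _ => rfl
  have h1 : SGA3b.IsDiag k' (k' ⊗[R] C) := isDiag_cancel k' k ⟨M, inferInstance, hd⟩
  have h2 : SGA3b.IsDiag k' (k' ⊗[R] (R ⊗[R₂] C₂)) := by
    obtain ⟨N, _, ⟨e⟩⟩ := h1
    exact ⟨N, inferInstance, ⟨(bcEquiv ν k').trans e⟩⟩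
  exact H8MultQuot.multType_of_diag_ff k' (isDiag_uncancel k' k₂ (isDiag_cancel k' R h2))

set_option maxHeartbeats 1600000 in
/-- A group over a local ring, of finite presentation, flat at the closed fibre and with closed fibre of
multiplicative type, comes from one with the same properties over a Noetherian local ring. -/
theorem exists_flat_model (R : Type u) [CommRing R] [IsLocalRing R] (C : Type u) [CommRing C] [HopfAlgebra R C]
    (hfp : Algebra.FinitePresentation R C)
    (hfl : ∀ (q : Ideal C) [q.IsPrime], Ideal.map (algebraMap R C) (IsLocalRing.maximalIdeal R) ≤ q →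
      Module.Flat R (Localization.AtPrime q))
    (hs : SGA3b.IsMultType (IsLocalRing.ResidueField R) (IsLocalRing.ResidueField R ⊗[R] C)) :
    ∃ (R₀ : Type u) (_ : CommRing R₀) (_ : IsNoetherianRing R₀) (_ : IsLocalRing R₀) (_ : Algebra R₀ R)
      (_ : IsLocalHom (algebraMap R₀ R)) (C₀ : Type u) (_ : CommRing C₀) (_ : HopfAlgebra R₀ C₀),
      Algebra.FiniteType R₀ C₀ ∧
      (∀ (q : Ideal C₀) [q.IsPrime], Ideal.map (algebraMap R₀ C₀) (IsLocalRing.maximalIdeal R₀) ≤ q →
        Module.Flat R₀ (Localization.AtPrime q)) ∧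
      SGA3b.IsMultType (IsLocalRing.ResidueField R₀) (IsLocalRing.ResidueField R₀ ⊗[R₀] C₀) ∧
      Nonempty ((R ⊗[R₀] C₀) ≃ₐc[R] C) := by
  classical
  obtain ⟨A, hA, CA, _, _, hfpA, ⟨νA⟩⟩ := H8HopfModel.exists_model R C hfp
  haveI := hfpA
  let R₁ := closure A
  haveI : IsLocalRing R₁ := isLocalRing_of_closed (closed_closure A)
  haveI : IsLocalHom (algebraMap R₁ R) := isLocalHom_of_closed (closed_closure A)
  haveI : IsNoetherianRing R₁ := isNoetherianRing_closure hA
  letI : Algebra A R₁ := (Subalgebra.inclusion (le_closure A)).toRingHom.toAlgebra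
  haveI : IsScalarTower A R₁ R := IsScalarTower.of_algebraMap_eq fun _ => rfl
  let ν₁ : R ⊗[R₁] (R₁ ⊗[A] CA) ≃ₐc[R] C := (cancelBialg (R := A) CA R₁ R).symm.trans νA
  obtain ⟨S, hSl, hSh, hSn, hSfl⟩ := exists_stage_flat (R₁ := R₁) (R := R) (C₁ := R₁ ⊗[A] CA) fun q _ hq =>
    flat_closed_transport (C' := R ⊗[R₁] (R₁ ⊗[A] CA)) ν₁.toAlgEquiv (IsLocalRing.maximalIdeal R) hfl q hq
  haveI := hSl
  haveI := hSh
  haveI := hfp
  let ν₂ : R ⊗[S] (S ⊗[R₁] (R₁ ⊗[A] CA)) ≃ₐc[R] C :=
    (cancelBialg (R := R₁) (R₁ ⊗[A] CA) S R).symm.trans ν₁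
  exact ⟨S, inferInstance, hSn, hSl, inferInstance, hSh, S ⊗[R₁] (R₁ ⊗[A] CA), inferInstance, inferInstance,
    inferInstance, hSfl, multType_residue ν₂ hs, ⟨ν₂⟩⟩

end Groth.Agent.H8FlatModel
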