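import Mathlib
import Groth.Prelude.Def_GLin
import Groth.Agent.Lib.H8Criterion
import Groth.Agent.Lib.H8AffDim

/-!
# Orbits of points of affine varieties with an affine group acting

Orbit maps, closures, closed orbits, stable points and invariant separation for linearly
reductive groups.
-/

universe u

open TensorProduct

noncomputable section

namespace Groth.Agent.H8Orbit

open H8Comod

variable {k : Type u} [Field k] {A : Type u} [CommRing A] [HopfAlgebra k A]
  {R : Type u} [CommRing R] [Algebra k R] [HopfRep.Comod k A R] [GLin.IsCoactAlg k A R]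

/-- The orbit map of a point. -/
def orb (x : R →ₐ[k] k) : R →ₐ[k] A :=
  (Algebra.TensorProduct.lid k A).toAlgHom.comp
    ((Algebra.TensorProduct.map x (AlgHom.id k A)).comp (GLin.coactAlgHom k A R))

/-- A functional on the orbit map is the action followed by evaluation. -/
theorem apply_orb (x : R →ₐ[k] k) (ψ : A →ₗ[k] k) (f : R) :
    ψ (orb x f) = x (act R (WithConv.toConv ψ) f) := by
  simp only [orb, AlgEquiv.toAlgHom_eq_coe, AlgHom.comp_apply, AlgHom.coe_coe,
    GLin.coactAlgHom_apply, act_apply, WithConv.ofConv_toConv]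
  generalize HopfRep.Comod.coact (k := k) (A := A) f = z
  induction z using TensorProduct.induction_on with
  | zero => simp
  | tmul a b => simp [mul_comm]
  | add p q hp hq => simp only [map_add, hp, hq]

theorem act_eq (g : A →ₐ[k] k) (f : R) :
    HopfRep.Comod.act k A R g f = act R (WithConv.toConv g.toLinearMap) f := rfl

theorem eq_zero_of_forall {a : A} (h : ∀ ψ : A →ₗ[k] k, ψ a = 0) : a = 0 :=
  (Module.forall_dual_apply_eq_zero_iff k a).mp h

theorem mem_ker_iff {x : R →ₐ[k] k} {f : R} :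
    f ∈ RingHom.ker (orb (A := A) x) ↔ ∀ ψ : DualAlg k A, x (act R ψ f) = 0 := by
  rw [RingHom.mem_ker]
  constructor
  · intro h ψ
    have := apply_orb x ψ.ofConv f
    rwa [h, map_zero, WithConv.toConv_ofConv, eq_comm] at this
  · exact fun h => eq_zero_of_forall fun ψ => by rw [apply_orb]; exact h _

theorem ker_stable (x : R →ₐ[k] k) :
    HopfRep.IsSubcomod (k := k) (A := A) ((RingHom.ker (orb (A := A) x)).restrictScalars k) := by
  refine isSubcomod_iff.mpr fun φ f hf => ?_
  show act R φ f ∈ RingHom.ker (orb (A := A) x)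
  refine mem_ker_iff.mpr fun ψ => ?_
  rw [← Module.End.mul_apply, ← act_mul]
  exact mem_ker_iff.mp hf _

/-- The point `x·g`. -/
def pt (x : R →ₐ[k] k) (g : WithConv (A →ₐ[k] k)) : R →ₐ[k] k := g.ofConv.comp (orb x)

/-- The linear functional of a point of the group. -/
def lin (g : WithConv (A →ₐ[k] k)) : DualAlg k A := WithConv.toConv g.ofConv.toLinearMap

theorem lin_mul (g h : WithConv (A →ₐ[k] k)) : lin (g * h) = lin g * lin h :=
  AlgHom.toLinearMap_convMul g h

theorem lin_one : lin (1 : WithConv (A →ₐ[k] k)) = 1 := AlgHom.toLinearMap_convOne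

theorem pt_apply (x : R →ₐ[k] k) (g : WithConv (A →ₐ[k] k)) (f : R) :
    pt x g f = x (act R (lin g) f) := apply_orb x g.ofConv.toLinearMap f

theorem pt_eq (x : R →ₐ[k] k) (g : A →ₐ[k] k) (f : R) :
    pt x (WithConv.toConv g) f = x (HopfRep.Comod.act k A R g f) := by
  rw [pt_apply, act_eq]; rfl

theorem pt_mul (x : R →ₐ[k] k) (g h : WithConv (A →ₐ[k] k)) : pt x (g * h) = pt (pt x g) h := by
  refine AlgHom.ext fun f => ?_
  rw [pt_apply, pt_apply (pt x g), pt_apply, lin_mul, act_mul, Module.End.mul_apply]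

theorem pt_one (x : R →ₐ[k] k) : pt x (1 : WithConv (A →ₐ[k] k)) = x := by
  refine AlgHom.ext fun f => ?_
  rw [pt_apply, lin_one, act_one, Module.End.one_apply]

theorem pt_inv (x : R →ₐ[k] k) (g : WithConv (A →ₐ[k] k)) : pt (pt x g) g⁻¹ = x := by
  rw [← pt_mul, mul_inv_cancel, pt_one]

theorem ker_pt (x : R →ₐ[k] k) (g : WithConv (A →ₐ[k] k)) :
    RingHom.ker (orb (A := A) (pt x g)) = RingHom.ker (orb (A := A) x) := by
  have key : ∀ (y : R →ₐ[k] k) (h : WithConv (A →ₐ[k] k)), RingHom.ker (orb (A := A) y) ≤ RingHom.ker (orb (A := A) (pt y h)) := by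
    intro y h f hf
    refine mem_ker_iff.mpr fun ψ => ?_
    rw [pt_apply, ← Module.End.mul_apply, ← act_mul]
    exact mem_ker_iff.mp hf _
  refine le_antisymm ?_ (key x g)
  have := key (pt x g) g⁻¹
  rwa [pt_inv] at this

/-- The orbit map of a fixed vector is constant. -/
theorem orb_fixed (x : R →ₐ[k] k) {f : R} (hf : f ∈ HopfRep.fixedPts k A R) :
    orb x f = algebraMap k A (x f) := by
  have hf' : HopfRep.Comod.coact (k := k) (A := A) f = f ⊗ₜ[k] (1 : A) := hf
  simp [orb, hf', Algebra.algebraMap_eq_smul_one]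

theorem pt_fixed (x : R →ₐ[k] k) (g : WithConv (A →ₐ[k] k)) {f : R}
    (hf : f ∈ HopfRep.fixedPts k A R) : pt x g f = x f := by
  simp [pt, orb_fixed x hf]

variable (A) in
/-- `z` lies in the closure of the orbit of `x`. -/
def Cl (x z : R →ₐ[k] k) : Prop :=
  ∀ f : R, (∀ g : A →ₐ[k] k, x (HopfRep.Comod.act k A R g f) = 0) → z f = 0

variable (A) in
/-- The orbit of `x` is closed. -/
def IsClosedOrbit (x : R →ₐ[k] k) : Prop :=
  ∀ z : R →ₐ[k] k, Cl A x z → ∃ g : A →ₐ[k] k, ∀ f : R, z f = x (HopfRep.Comod.act k A R g f)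

variable (A) in
/-- The stabilizer of `x` is finite. -/
def StabFinite (x : R →ₐ[k] k) : Prop :=
  {g : A →ₐ[k] k | ∀ f : R, x (HopfRep.Comod.act k A R g f) = x f}.Finite

theorem exists_eq_pt_iff {x z : R →ₐ[k] k} :
    (∃ g : A →ₐ[k] k, ∀ f : R, z f = x (HopfRep.Comod.act k A R g f)) ↔
      ∃ g : WithConv (A →ₐ[k] k), z = pt x g := by
  constructor
  · rintro ⟨g, hg⟩
    exact ⟨WithConv.toConv g, AlgHom.ext fun f => by rw [pt_eq, hg]⟩
  · rintro ⟨g, rfl⟩
    exact ⟨g.ofConv, fun f => by rw [← pt_eq, WithConv.toConv_ofConv]⟩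

theorem stabFinite_iff {x : R →ₐ[k] k} :
    StabFinite A x ↔ {g : WithConv (A →ₐ[k] k) | pt x g = x}.Finite := by
  have : {g : WithConv (A →ₐ[k] k) | pt x g = x} =
      WithConv.ofConv ⁻¹' {g : A →ₐ[k] k | ∀ f : R, x (HopfRep.Comod.act k A R g f) = x f} := by
    ext g
    simp only [Set.mem_setOf_eq, Set.mem_preimage, AlgHom.ext_iff]
    exact forall_congr' fun f => by rw [← pt_eq, WithConv.toConv_ofConv]
  rw [this, StabFinite]
  refine ⟨fun h => h.preimage WithConv.ofConv_injective.injOn, fun h => ?_⟩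
  exact h.of_preimage fun g => ⟨WithConv.toConv g, WithConv.ofConv_toConv g⟩

theorem stabFinite_pt {x : R →ₐ[k] k} (g : WithConv (A →ₐ[k] k)) (h : StabFinite A x) :
    StabFinite A (pt x g) := by
  rw [stabFinite_iff] at h ⊢
  refine (h.image fun t => g⁻¹ * t * g).subset fun t ht => ?_
  refine ⟨g * t * g⁻¹, ?_, by group⟩
  show pt x _ = x
  rw [pt_mul, pt_mul, show pt (pt x g) t = pt x g from ht, pt_inv]

theorem cl_refl (x : R →ₐ[k] k) : Cl A x x := by
  intro f hf
  have := hf (1 : WithConv (A →ₐ[k] k)).ofConv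
  rwa [← pt_eq, WithConv.toConv_ofConv, pt_one] at this

variable [IsAlgClosed k] [Algebra.FiniteType k A]

theorem cl_iff {x z : R →ₐ[k] k} : Cl A x z ↔ RingHom.ker (orb (A := A) x) ≤ RingHom.ker z := by
  constructor
  · exact fun h f hf => h f fun g => mem_ker_iff.mp hf _
  · intro h f hf
    obtain ⟨n, hn⟩ : IsNilpotent (orb (A := A) x f) := H8AffDim.isNilpotent_of_points fun g => by
      rw [show g (orb x f) = pt x (WithConv.toConv g) f from rfl, pt_eq, hf g]
    rw [← map_pow] at hn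
    have := h hn
    rw [RingHom.mem_ker, map_pow] at this
    exact eq_zero_of_pow_eq_zero this

theorem cl_iff_ker_le {x z : R →ₐ[k] k} :
    Cl A x z ↔ RingHom.ker (orb (A := A) x) ≤ RingHom.ker (orb (A := A) z) := by
  rw [cl_iff]
  constructor
  · exact fun h f hf => mem_ker_iff.mpr fun ψ => h (isSubcomod_iff.mp (ker_stable x) ψ f hf)
  · intro h f hf
    have := mem_ker_iff.mp (h hf) 1
    rwa [act_one] at this

theorem Cl.trans {x y z : R →ₐ[k] k} (h : Cl A x y) (h' : Cl A y z) : Cl A x z :=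
  cl_iff_ker_le.mpr ((cl_iff_ker_le.mp h).trans (cl_iff_ker_le.mp h'))

theorem cl_pt (x : R →ₐ[k] k) (g : WithConv (A →ₐ[k] k)) : Cl A x (pt x g) :=
  cl_iff_ker_le.mpr (ker_pt x g).ge

theorem pt_cl (x : R →ₐ[k] k) (g : WithConv (A →ₐ[k] k)) : Cl A (pt x g) x :=
  cl_iff_ker_le.mpr (ker_pt x g).le

theorem Cl.fixed {x z : R →ₐ[k] k} (h : Cl A x z) {f : R} (hf : f ∈ HopfRep.fixedPts k A R) :
    z f = x f := by
  have h' := cl_iff.mp h (show f - algebraMap k R (x f) ∈ RingHom.ker (orb (A := A) x) by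
    rw [RingHom.mem_ker, map_sub, orb_fixed x hf, AlgHom.commutes, sub_self])
  simpa [RingHom.mem_ker, sub_eq_zero] using h'

variable [Algebra.FiniteType k R]

/-- An orbit contains a nonempty open subset of its closure. -/
theorem exists_open (y : R →ₐ[k] k) :
    ∃ f : R, (∃ g : WithConv (A →ₐ[k] k), pt y g f ≠ 0) ∧
      ∀ w : R →ₐ[k] k, Cl A y w → w f ≠ 0 → ∃ g : WithConv (A →ₐ[k] k), w = pt y g := by
  classical
  haveI : IsNoetherianRing R := Algebra.FiniteType.isNoetherianRing k R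
  set o : R →ₐ[k] A := orb y
  have hne : RingHom.ker o ≠ ⊤ := fun h => by
    have := cl_iff.mp (cl_refl (A := A) y)
    rw [show RingHom.ker (orb (A := A) y) = ⊤ from h, top_le_iff] at this
    exact RingHom.ker_ne_top y this
  obtain ⟨M, hM, hle⟩ := Ideal.exists_le_maximal _ hne
  haveI := hM.isPrime
  obtain ⟨P, hP, -⟩ := Ideal.exists_minimalPrimes_le hle
  haveI hPp : P.IsPrime := hP.1.1
  have hfp : o.toRingHom.FinitePresentation := by
    letI := o.toRingHom.toAlgebra
    haveI : IsScalarTower k R A := IsScalarTower.of_algebraMap_eq fun r => (o.commutes r).symm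
    haveI : Algebra.FiniteType R A := Algebra.FiniteType.of_restrictScalars_finiteType k R A
    exact Algebra.FinitePresentation.of_finiteType.mp inferInstance
  obtain ⟨S, hS⟩ := PrimeSpectrum.exists_constructibleSetData_iff.mpr
    (PrimeSpectrum.isConstructible_range_comap hfp)
  obtain ⟨Q, hQ, hQc⟩ := Ideal.exists_comap_eq_of_mem_minimalPrimes (I := (⊥ : Ideal A)) o.toRingHom P
    (by rwa [← RingHom.ker_eq_comap_bot])
  have hPS : (⟨P, hPp⟩ : PrimeSpectrum R) ∈ S.toSet := hS ▸ ⟨⟨Q, hQ⟩, PrimeSpectrum.ext hQc.2⟩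
  simp only [PrimeSpectrum.ConstructibleSetData.toSet, Set.mem_iUnion] at hPS
  obtain ⟨C, hC, hgP, hfP⟩ := hPS
  simp only [PrimeSpectrum.mem_zeroLocus, Set.singleton_subset_iff, SetLike.mem_coe] at hfP hgP
  -- avoid the other components
  let T := ((RingHom.ker o).finite_minimalPrimes_of_isNoetherianRing R).toFinset.erase P
  obtain ⟨f0, hf0, hf0P⟩ : ∃ f0 ∈ T.inf id, f0 ∉ P := SetLike.not_le_iff_exists.mp fun h => by
    obtain ⟨P', hP', hle'⟩ := (Ideal.IsPrime.inf_le' hPp).mp h
    obtain ⟨hne', hP'm⟩ := Finset.mem_erase.mp hP'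
    have hP'm := (Set.Finite.mem_toFinset _).mp hP'm
    exact hne' (le_antisymm hle' (hP.2 hP'm.1 hle'))
  refine ⟨C.f * f0, ?_, ?_⟩
  · by_contra! hcon
    have hm : C.f * f0 ∈ P := by
      obtain ⟨n, hn⟩ : IsNilpotent (o (C.f * f0)) :=
        H8AffDim.isNilpotent_of_points fun g => hcon (WithConv.toConv g)
      rw [← map_pow] at hn
      exact hPp.mem_of_pow_mem n (hP.1.2 hn)
    exact (hPp.mem_or_mem hm).elim hfP hf0P
  · intro w hw hwf
    have hkw : RingHom.ker o ≤ RingHom.ker w := cl_iff.mp hw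
    haveI hwm : (RingHom.ker w).IsMaximal :=
      RingHom.ker_isMaximal_of_surjective w fun r => ⟨algebraMap k R r, w.commutes r⟩
    obtain ⟨P', hP', hle'⟩ := Ideal.exists_minimalPrimes_le hkw
    rw [map_mul, mul_ne_zero_iff] at hwf
    obtain rfl : P' = P := by
      by_contra hne'
      exact hwf.2 (hle' (Finset.inf_le (f := id) (Finset.mem_erase.mpr
        ⟨hne', (Set.Finite.mem_toFinset _).mpr hP'⟩) hf0))
    have hwS : (⟨RingHom.ker w, hwm.isPrime⟩ : PrimeSpectrum R) ∈ S.toSet := by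
      simp only [PrimeSpectrum.ConstructibleSetData.toSet, Set.mem_iUnion]
      refine ⟨C, hC, ?_, ?_⟩
      · simp only [PrimeSpectrum.mem_zeroLocus]
        exact hgP.trans hle'
      · simp only [PrimeSpectrum.mem_zeroLocus, Set.singleton_subset_iff, SetLike.mem_coe]
        exact hwf.1
    rw [hS] at hwS
    obtain ⟨⟨Q', hQ'⟩, hQ'c⟩ := hwS
    obtain ⟨M', hM', hle''⟩ := Ideal.exists_le_maximal Q' hQ'.ne_top
    obtain ⟨h, hh⟩ := H8AffDim.exists_point (k := k) M'
    refine ⟨WithConv.toConv h, AlgHom.ext fun f => ?_⟩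
    have hle3 : RingHom.ker w ≤ RingHom.ker (pt y (WithConv.toConv h)) := by
      intro a ha
      have : a ∈ Q'.comap o.toRingHom := by
        rw [show Q'.comap o.toRingHom = RingHom.ker w from congrArg PrimeSpectrum.asIdeal hQ'c]
        exact ha
      have h2 : o a ∈ RingHom.ker h := hh.symm ▸ hle'' this
      exact h2
    have := hle3 (show f - algebraMap k R (w f) ∈ RingHom.ker w by simp)
    rw [RingHom.mem_ker, map_sub, AlgHom.commutes, sub_eq_zero] at this
    exact this.symm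

/-- Two orbits with the same closure are equal. -/
theorem eq_pt_of_cl {y z : R →ₐ[k] k} (h : Cl A y z) (h' : Cl A z y) :
    ∃ g : WithConv (A →ₐ[k] k), z = pt y g := by
  obtain ⟨f, ⟨h0, hf0⟩, hf⟩ := exists_open (A := A) z
  obtain ⟨f', ⟨g0, hg0⟩, hf'⟩ := exists_open (A := A) y
  obtain ⟨a, ha⟩ : ∃ a : WithConv (A →ₐ[k] k), pt y a f ≠ 0 := by
    by_contra! hcon
    exact hf0 ((h.trans (cl_pt z h0)) f fun g => by rw [← pt_eq]; exact hcon _)
  obtain ⟨b, hb⟩ := hf (pt y a) (h'.trans (cl_pt y a)) ha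
  exact ⟨a * b⁻¹, by rw [pt_mul, hb, pt_inv]⟩

/-- A closed orbit in an orbit closure. -/
theorem exists_closed (x : R →ₐ[k] k) : ∃ y, Cl A x y ∧ IsClosedOrbit A y := by
  haveI : IsNoetherianRing R := Algebra.FiniteType.isNoetherianRing k R
  obtain ⟨_, ⟨y, hy, rfl⟩, hmax⟩ := set_has_maximal_iff_noetherian.mpr (inferInstance : IsNoetherian R R)
    {I : Ideal R | ∃ y, Cl A x y ∧ RingHom.ker (orb (A := A) y) = I} ⟨_, x, cl_refl x, rfl⟩
  refine ⟨y, hy, fun z hz => exists_eq_pt_iff.mpr (eq_pt_of_cl hz (cl_iff_ker_le.mpr ?_))⟩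
  have hle := cl_iff_ker_le.mp hz
  exact (eq_of_le_of_not_lt hle (hmax _ ⟨z, hy.trans hz, rfl⟩)).ge

theorem dim_le_of_stabFinite {y : R →ₐ[k] k} (h : StabFinite A y) :
    ringKrullDim A ≤ ringKrullDim (R ⧸ RingHom.ker (orb (A := A) y)) := by
  haveI : Algebra.FiniteType k (R ⧸ RingHom.ker (orb (A := A) y)) :=
    Algebra.FiniteType.of_surjective (Ideal.Quotient.mkₐ k _) (Ideal.Quotient.mkₐ_surjective k _)
  refine H8AffDim.dim_le_of_finite_fibres
    (Ideal.Quotient.liftₐ _ (orb y) fun _ h => h) fun p => ?_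
  rw [stabFinite_iff] at h
  refine ((h.image fun t => t * WithConv.toConv p).image WithConv.ofConv).subset fun p' hp' => ?_
  have he : pt y (WithConv.toConv p') = pt y (WithConv.toConv p) := by
    refine AlgHom.ext fun f => ?_
    exact AlgHom.congr_fun hp' (Ideal.Quotient.mk _ f)
  refine ⟨WithConv.toConv p', ⟨WithConv.toConv p' * (WithConv.toConv p)⁻¹, ?_, by group⟩, rfl⟩
  show pt y _ = y
  rw [pt_mul, he, pt_inv]

/-- The boundary of an orbit has smaller dimension. -/
theorem cl_symm_of_dim {x y : R →ₐ[k] k} (hxy : Cl A x y)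
    (h : ringKrullDim (R ⧸ RingHom.ker (orb (A := A) x)) ≤ ringKrullDim (R ⧸ RingHom.ker (orb (A := A) y))) :
    Cl A y x := by
  classical
  haveI : IsNoetherianRing R := Algebra.FiniteType.isNoetherianRing k R
  by_contra hcon
  set I := RingHom.ker (orb (A := A) x)
  set J := RingHom.ker (orb (A := A) y)
  have hJ : J ≠ ⊤ := fun h' => RingHom.ker_ne_top y (top_le_iff.mp (h' ▸ cl_iff.mp (cl_refl y)))
  have hmin : ∀ P ∈ I.minimalPrimes, ¬ J ≤ P := by
    intro P hP hJP
    have hPp : P.IsPrime := hP.1.1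
    let T := (I.finite_minimalPrimes_of_isNoetherianRing R).toFinset.erase P
    obtain ⟨f0, hf0, hf0P⟩ : ∃ f0 ∈ T.inf id, f0 ∉ P := SetLike.not_le_iff_exists.mp fun h => by
      obtain ⟨P', hP', hle'⟩ := (Ideal.IsPrime.inf_le' hPp).mp h
      obtain ⟨hne', hP'm⟩ := Finset.mem_erase.mp hP'
      have hP'm := (Set.Finite.mem_toFinset _).mp hP'm
      exact hne' (le_antisymm hle' (hP.2 hP'm.1 hle'))
    obtain ⟨g, hg⟩ : ∃ g : WithConv (A →ₐ[k] k), pt x g f0 ≠ 0 := by
      by_contra! hall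
      obtain ⟨n, hn⟩ : IsNilpotent (orb (A := A) x f0) :=
        H8AffDim.isNilpotent_of_points fun g => hall (WithConv.toConv g)
      rw [← map_pow] at hn
      exact hf0P (hPp.mem_of_pow_mem n (hP.1.2 hn))
    haveI hwm : (RingHom.ker (pt x g)).IsPrime := RingHom.ker_isPrime _
    obtain ⟨P', hP', hle'⟩ := Ideal.exists_minimalPrimes_le (cl_iff.mp (cl_pt x g))
    obtain rfl : P' = P := by
      by_contra hne'
      exact hg (hle' (Finset.inf_le (f := id) (Finset.mem_erase.mpr
        ⟨hne', (Set.Finite.mem_toFinset _).mpr hP'⟩) hf0))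
    exact hcon ((cl_iff.mpr (hJP.trans hle')).trans (pt_cl x g))
  have h1 := H8AffDim.dim_quotient_succ_le (cl_iff_ker_le.mp hxy) hJ hmin
  haveI : Algebra.FiniteType k (R ⧸ J) :=
    Algebra.FiniteType.of_surjective (Ideal.Quotient.mkₐ k J) (Ideal.Quotient.mkₐ_surjective k J)
  haveI : Nontrivial (R ⧸ J) := Ideal.Quotient.nontrivial_iff.mpr hJ
  have hfin := H8AffDim.dim_ne_top (k := k) (A := R ⧸ J)
  obtain ⟨d, hd⟩ := WithBot.ne_bot_iff_exists.mp
    (ne_bot_of_le_ne_bot (by simp) (ringKrullDim_nonneg_of_nontrivial (R := R ⧸ J)))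
  have h4 : ringKrullDim (R ⧸ J) + 1 ≤ ringKrullDim (R ⧸ J) := h1.trans h
  rw [← hd, ← WithBot.coe_one, ← WithBot.coe_add, WithBot.coe_le_coe] at h4
  rw [← hd] at hfin
  exact absurd h4 (not_le.mpr (ENat.lt_add_one_iff' (by simpa using hfin) |>.mpr le_rfl))

/-- A point with finite stabilizer is not in the boundary of an orbit. -/
theorem cl_symm {x y : R →ₐ[k] k} (hxy : Cl A x y) (h : StabFinite A y) : Cl A y x :=
  cl_symm_of_dim hxy ((H8AffDim.dim_le_of_injective (Ideal.kerLiftAlg (orb (A := A) x))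
    (Ideal.kerLiftAlg_injective _)).trans (dim_le_of_stabFinite h))

section Reductive

variable (hG : HopfRep.IsLinearlyReductive k A)

include hG

/-- A point over a point of the quotient, inside a stable closed subset. -/
theorem exists_point_over (I : Ideal R) (hI : HopfRep.IsSubcomod (k := k) (A := A) (I.restrictScalars k))
    (φ : GLin.invariants k A R →ₐ[k] k) (hφ : ∀ f : GLin.invariants k A R, (f : R) ∈ I → φ f = 0) :
    ∃ x : R →ₐ[k] k, (∀ f ∈ I, x f = 0) ∧ ∀ f : GLin.invariants k A R, x (f : R) = φ f := by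
  classical
  obtain ⟨α, hα, hα1⟩ := H8Reductive.exists_integral_of_lr hG
  let β : DualAlg k A := WithConv.toConv (α ∘ₗ HopfAlgebraStruct.antipode k)
  let F := fun f : RingHom.ker φ => ((f : GLin.invariants k A R) : R)
  let J : Ideal R := I ⊔ Ideal.span (Set.range F)
  have hmul : ∀ (r : R) (g : GLin.invariants k A R), act R β (r * g) = act R β r * g := by
    intro r g
    simp only [act_apply, GLin.IsCoactAlg.coact_mul]
    rw [show HopfRep.Comod.coact (k := k) (A := A) (g : R) = (g : R) ⊗ₜ[k] (1 : A) from g.2]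
    generalize HopfRep.Comod.coact (k := k) (A := A) r = z
    induction z using TensorProduct.induction_on with
    | zero => simp
    | tmul a q => simp
    | add p q hp hq => simp only [map_add, add_mul, hp, hq]
  have hJ : J ≠ ⊤ := by
    intro h
    have h1 : (1 : R) ∈ J := h ▸ trivial
    obtain ⟨a, ha, b, hb, hab⟩ := Submodule.mem_sup.mp h1
    obtain ⟨c, hc⟩ := Finsupp.mem_span_range_iff_exists_finsupp.mp hb
    let m : GLin.invariants k A R := ⟨act R β a, H8Criterion.act_fixed hα a⟩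
    have hm : φ m = 0 := hφ m (isSubcomod_iff.mp hI β a ha)
    let e : GLin.invariants k A R :=
      c.sum fun f r => ⟨act R β r, H8Criterion.act_fixed hα r⟩ * f.1
    have he : φ e = 0 := by
      simp only [e, Finsupp.sum, map_sum, map_mul]
      exact Finset.sum_eq_zero fun f _ => by rw [show φ f.1 = 0 from f.2, mul_zero]
    have hsum : act R β (1 : R) = ((m + e : GLin.invariants k A R) : R) := by
      rw [← hab, map_add, ← hc, Subalgebra.coe_add]
      simp [m, e, F, Finsupp.sum, map_sum, hmul]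
    rw [H8Criterion.act_fixed_eq _ (by simp [HopfAlgebra.antipode_one, hα1])
      (one_mem (GLin.invariants k A R))] at hsum
    have : φ (1 : GLin.invariants k A R) = 0 := by
      rw [show (1 : GLin.invariants k A R) = m + e from Subtype.ext hsum, map_add, hm, he, add_zero]
    simp at this
  obtain ⟨M, hM, hle⟩ := Ideal.exists_le_maximal J hJ
  obtain ⟨x, hx⟩ := H8AffDim.exists_point (k := k) M
  refine ⟨x, fun f hf => ?_, fun f => ?_⟩
  · rw [← RingHom.mem_ker, hx]
    exact hle (Ideal.mem_sup_left hf)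
  · have hf : f - algebraMap k _ (φ f) ∈ RingHom.ker φ := by simp [RingHom.mem_ker]
    have h' : F ⟨_, hf⟩ ∈ RingHom.ker x := hx ▸ hle (Ideal.mem_sup_right (Ideal.subset_span ⟨_, rfl⟩))
    simpa [F, RingHom.mem_ker, sub_eq_zero] using h'

/-- Points with the same invariants have meeting orbit closures. -/
theorem exists_common (x y : R →ₐ[k] k) (h : ∀ f ∈ HopfRep.fixedPts k A R, x f = y f) :
    ∃ z, Cl A x z ∧ Cl A y z := by
  obtain ⟨α, hα, hα1⟩ := H8Reductive.exists_integral_of_lr hG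
  let β : DualAlg k A := WithConv.toConv (α ∘ₗ HopfAlgebraStruct.antipode k)
  obtain ⟨z, hz, -⟩ := exists_point_over hG (RingHom.ker (orb (A := A) x) ⊔ RingHom.ker (orb (A := A) y))
    (by rw [Submodule.restrictScalars_sup]; exact isSubcomod_sup (ker_stable x) (ker_stable y))
    (x.comp (GLin.invariants k A R).val) (fun f hf => by
      obtain ⟨a, ha, b, hb, hab⟩ := Submodule.mem_sup.mp hf
      have hf' : (f : R) = act R β a + act R β b := by
        rw [← map_add, hab, H8Criterion.act_fixed_eq _ (by simp [HopfAlgebra.antipode_one, hα1]) f.2]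
      have hxa : x (act R β a) = 0 := mem_ker_iff.mp ha β
      have hyb : y (act R β b) = 0 := mem_ker_iff.mp hb β
      show x (f : R) = 0
      rw [hf', map_add, hxa, h _ (H8Criterion.act_fixed hα b), hyb, add_zero])
  exact ⟨z, cl_iff.mpr fun f hf => hz f (Ideal.mem_sup_left hf),
    cl_iff.mpr fun f hf => hz f (Ideal.mem_sup_right hf)⟩

theorem fixed_eq_iff (x y : R →ₐ[k] k) :
    (∀ f ∈ HopfRep.fixedPts k A R, x f = y f) ↔ ∃ z, Cl A x z ∧ Cl A y z :=
  ⟨exists_common hG x y, fun ⟨_, hx, hy⟩ f hf => (hx.fixed hf).symm.trans (hy.fixed hf)⟩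

/-- The fibre of the quotient over a stable point is its orbit. -/
theorem eq_pt_of_stable {x y : R →ₐ[k] k} (hc : IsClosedOrbit A x) (hf : StabFinite A x)
    (h : ∀ f ∈ HopfRep.fixedPts k A R, x f = y f) : ∃ g : WithConv (A →ₐ[k] k), y = pt x g := by
  obtain ⟨z, hxz, hyz⟩ := exists_common hG x y h
  obtain ⟨g, rfl⟩ := exists_eq_pt_iff.mp (hc z hxz)
  have hyx : Cl A y x := hyz.trans (pt_cl x g)
  exact eq_pt_of_cl (cl_symm hyx hf) hyx

/-- A point is stable when all points in its fibre have finite stabilizers. -/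
theorem stable_iff (x : R →ₐ[k] k) : (IsClosedOrbit A x ∧ StabFinite A x) ↔
    ∀ z : R →ₐ[k] k, (∀ f ∈ HopfRep.fixedPts k A R, z f = x f) → StabFinite A z := by
  constructor
  · rintro ⟨hc, hf⟩ z hz
    obtain ⟨g, rfl⟩ := eq_pt_of_stable hG hc hf fun f hf => (hz f hf).symm
    exact stabFinite_pt g hf
  · intro h
    refine ⟨?_, h x fun _ _ => rfl⟩
    obtain ⟨y, hxy, hy⟩ := exists_closed (A := A) x
    have hyx : Cl A y x := cl_symm hxy (h y fun f hf => hxy.fixed hf)
    intro z hz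
    obtain ⟨g, rfl⟩ := exists_eq_pt_iff.mp (hy z (hyx.trans hz))
    obtain ⟨a, ha⟩ := exists_eq_pt_iff.mp (hy x hyx)
    exact exists_eq_pt_iff.mpr ⟨a⁻¹ * g, by rw [pt_mul, ha, pt_inv]⟩

end Reductive

end Groth.Agent.H8Orbit
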