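import Mathlib

/-!
# Group-like elements of monoid algebras: rigidity and lifting along nil ideals
-/

set_option autoImplicit false

universe u v

open MonoidAlgebra

noncomputable section

namespace Groth.Agent.H8GLChar

variable {R : Type u} [CommRing R] {G : Type v} [CommMonoid G]

/-- First inclusion. -/
def inl : MonoidAlgebra R G →+* MonoidAlgebra R (G × G) := mapDomainRingHom R (MonoidHom.inl G G)

/-- Second inclusion. -/
def inr : MonoidAlgebra R G →+* MonoidAlgebra R (G × G) := mapDomainRingHom R (MonoidHom.inr G G)

/-- Diagonal. -/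
def dg : MonoidAlgebra R G →+* MonoidAlgebra R (G × G) := mapDomainRingHom R ((MonoidHom.id G).prod (MonoidHom.id G))

/-- Augmentation. -/
def aug : MonoidAlgebra R G →+* R := liftNCRingHom (RingHom.id R) (1 : G →* R) fun _ _ => Commute.all _ _

/-- Group-like elements. -/
structure IsGL (a : MonoidAlgebra R G) : Prop where
  dg_eq : dg a = inl a * inr a
  aug_eq : aug a = 1

lemma inl_single (m : G) (r : R) : inl (single m r) = single ((m, 1) : G × G) r := by simp [inl]
lemma inr_single (m : G) (r : R) : inr (single m r) = single ((1, m) : G × G) r := by simp [inr]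
lemma dg_single (m : G) (r : R) : dg (single m r) = single ((m, m) : G × G) r := by simp [dg]
lemma aug_single (m : G) (r : R) : aug (single m r) = r := by simp [aug]

lemma coeff_inl_mul_inr (a b : MonoidAlgebra R G) (m m' : G) :
    (inl a * inr b).coeff (m, m') = a.coeff m * b.coeff m' := by
  classical
  induction a using MonoidAlgebra.induction_linear with
  | zero => simp
  | add x y hx hy => rw [map_add, add_mul, coeff_add, Finsupp.add_apply, hx, hy, coeff_add, Finsupp.add_apply, add_mul]
  | single n r =>
    induction b using MonoidAlgebra.induction_linear with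
    | zero => simp
    | add x y hx hy => rw [map_add, mul_add, coeff_add, Finsupp.add_apply, hx, hy, coeff_add, Finsupp.add_apply, mul_add]
    | single n' r' =>
      rw [inl_single, inr_single, single_mul_single, Prod.mk_mul_mk, mul_one, one_mul, coeff_single,
        Finsupp.single_apply, coeff_single, Finsupp.single_apply, coeff_single, Finsupp.single_apply]
      by_cases h1 : n = m <;> by_cases h2 : n' = m' <;> simp [h1, h2]

lemma coeff_dg [DecidableEq G] (a : MonoidAlgebra R G) (m m' : G) :
    (dg a).coeff (m, m') = if m = m' then a.coeff m else 0 := by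
  induction a using MonoidAlgebra.induction_linear with
  | zero => simp
  | add x y hx hy =>
    rw [map_add, coeff_add, Finsupp.add_apply, hx, hy, coeff_add, Finsupp.add_apply]
    split <;> simp
  | single n r =>
    rw [dg_single, coeff_single, Finsupp.single_apply, coeff_single, Finsupp.single_apply]
    by_cases h : m = m'
    · subst h; simp [Prod.ext_iff]
    · rw [if_neg h, if_neg]
      intro hc
      exact h ((Prod.ext_iff.mp hc).1.symm.trans (Prod.ext_iff.mp hc).2)

lemma IsGL.mul_coeff [DecidableEq G] {a : MonoidAlgebra R G} (ha : IsGL a) (m m' : G) :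
    a.coeff m * a.coeff m' = if m = m' then a.coeff m else 0 := by
  rw [← coeff_inl_mul_inr, ← ha.dg_eq, coeff_dg]

lemma IsGL.idem {a : MonoidAlgebra R G} (ha : IsGL a) (m : G) : IsIdempotentElem (a.coeff m) := by
  classical
  simpa [IsIdempotentElem] using ha.mul_coeff m m

lemma IsGL.ext {a b : MonoidAlgebra R G} (ha : IsGL a) (hb : IsGL b)
    (h : ∀ m, IsNilpotent (a.coeff m - b.coeff m)) : a = b :=
  MonoidAlgebra.ext <| Finsupp.ext fun m => eq_of_isNilpotent_sub_of_isIdempotentElem (ha.idem m) (hb.idem m) (h m)

lemma IsGL.one : IsGL (1 : MonoidAlgebra R G) := ⟨by simp, by simp⟩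

lemma IsGL.mul {a b : MonoidAlgebra R G} (ha : IsGL a) (hb : IsGL b) : IsGL (a * b) :=
  ⟨by simp only [map_mul, ha.dg_eq, hb.dg_eq]; ac_rfl, by rw [map_mul, ha.aug_eq, hb.aug_eq, mul_one]⟩

lemma isGL_sum {s : Finset G} (e : s → R) (he : CompleteOrthogonalIdempotents e) :
    IsGL (∑ m : s, single (m : G) (e m)) := by
  classical
  refine ⟨?_, ?_⟩
  · simp only [map_sum, dg_single, inl_single, inr_single, Finset.sum_mul, Finset.mul_sum, single_mul_single,
      Prod.mk_mul_mk, mul_one, one_mul, he.mul_eq]
    refine Finset.sum_congr rfl fun m _ => ?_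
    rw [Finset.sum_eq_single m (fun n _ hn => by simp [hn, Ne.symm hn]) (fun h => absurd (Finset.mem_univ _) h)]
    simp
  · simp only [map_sum, aug_single]
    exact he.complete

lemma IsGL.map {R' : Type u} [CommRing R'] (f : R →+* R') {a : MonoidAlgebra R G} (ha : IsGL a) :
    IsGL (mapRingHom G f a) := by
  have h1 : ∀ (φ : MonoidAlgebra R G →+* MonoidAlgebra R (G × G)) (φ' : MonoidAlgebra R' G →+* MonoidAlgebra R' (G × G))
      (g : G → G × G), (∀ m r, φ (single m r) = single (g m) r) → (∀ m r, φ' (single m r) = single (g m) r) →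
      ∀ x, φ' (mapRingHom G f x) = mapRingHom (G × G) f (φ x) := fun φ φ' g hφ hφ' x => by
    induction x using MonoidAlgebra.induction_linear with
    | zero => simp
    | add x y hx hy => simp [map_add, hx, hy]
    | single m r => simp [hφ, hφ']
  refine ⟨?_, ?_⟩
  · rw [h1 dg dg _ dg_single dg_single, h1 inl inl _ inl_single inl_single, h1 inr inr _ inr_single inr_single,
      ha.dg_eq, map_mul]
  · have : ∀ x : MonoidAlgebra R G, aug (mapRingHom G f x) = f (aug x) := fun x => by
      induction x using MonoidAlgebra.induction_linear with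
      | zero => simp
      | add x y hx hy => simp [map_add, hx, hy]
      | single m r => simp [aug_single]
    rw [this, ha.aug_eq, map_one]

/-- Group-like elements lift along surjections with nil kernel. -/
theorem exists_lift {R' : Type u} [CommRing R'] (f : R →+* R') (hf : Function.Surjective f)
    (hker : ∀ x ∈ RingHom.ker f, IsNilpotent x) {a : MonoidAlgebra R' G} (ha : IsGL a) :
    ∃ b : MonoidAlgebra R G, IsGL b ∧ mapRingHom G f b = a := by
  classical
  let s := a.coeff.support
  let e : s → R' := fun m => a.coeff (m : G)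
  have hsum : ∑ m : s, single (m : G) (e m) = a := by
    conv_rhs => rw [← sum_coeff_single a]
    exact Finset.sum_coe_sort s fun m => single m (a.coeff m)
  have he : CompleteOrthogonalIdempotents e := by
    refine ⟨⟨fun m => ha.idem _, fun m n hmn => ?_⟩, ?_⟩
    · show a.coeff (m : G) * a.coeff (n : G) = 0
      rw [ha.mul_coeff, if_neg fun h => hmn (Subtype.ext h)]
    · have h := ha.aug_eq
      rw [← hsum, map_sum] at h
      simpa [aug_single] using h
  obtain ⟨e', he', hfe⟩ := CompleteOrthogonalIdempotents.lift_of_isNilpotent_ker f hker he fun i => hf _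
  refine ⟨∑ m : s, single (m : G) (e' m), isGL_sum e' he', ?_⟩
  rw [map_sum, ← hsum]
  refine Finset.sum_congr rfl fun m _ => ?_
  rw [mapRingHom_single]
  exact congrArg (single (m : G)) (congrFun hfe m)

/-- Multiplicative lifting of families of group-like elements. -/
theorem exists_lift_hom {R' : Type u} [CommRing R'] (f : R →+* R') (hf : Function.Surjective f)
    (hker : ∀ x ∈ RingHom.ker f, IsNilpotent x) {N : Type*} [MulOneClass N] (θ : N →* MonoidAlgebra R' G)
    (hθ : ∀ n, IsGL (θ n)) :
    ∃ θ' : N →* MonoidAlgebra R G, (∀ n, IsGL (θ' n)) ∧ ∀ n, mapRingHom G f (θ' n) = θ n := by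
  choose b hb hbf using fun n => exists_lift f hf hker (hθ n)
  have huniq : ∀ {x y : MonoidAlgebra R G}, IsGL x → IsGL y → mapRingHom G f x = mapRingHom G f y → x = y := by
    intro x y hx hy h
    refine hx.ext hy fun m => hker _ ?_
    rw [RingHom.mem_ker, map_sub, sub_eq_zero, ← coeff_mapRingHom, ← coeff_mapRingHom, h]
  refine ⟨{ toFun := b
            map_one' := huniq (hb 1) IsGL.one (by rw [hbf, map_one, map_one])
            map_mul' := fun x y => huniq (hb _) ((hb x).mul (hb y)) (by rw [hbf, map_mul, map_mul, hbf, hbf]) },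
    hb, hbf⟩

end Groth.Agent.H8GLChar

end
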