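import Mathlib
import Groth.Prelude.Def_SGA3b
import Groth.Agent.Lib.H8MultCore
import Groth.Agent.Lib.H8Mult
import Groth.Agent.Lib.H8MultGL
import Groth.Agent.Lib.H8CharFrame
import Groth.Agent.Lib.H8CharLocus
import Groth.Agent.Lib.H8CharQuasi
import Groth.Agent.Lib.H8MultHensel

/-!
# Finite groups of multiplicative type over a connected base are isotrivial
-/

set_option autoImplicit false
set_option linter.all false

universe u

open TensorProduct

namespace Groth.Agent.H8MultFinite

open H8MultCore H8Mult H8MultGL H8CharFrame H8CharLocus H8CharQuasi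

section Idem

lemma idem_of_connected {R : Type u} [CommRing R] [PreconnectedSpace (PrimeSpectrum R)] (e : R)
    (he : IsIdempotentElem e) : e = 0 ∨ e = 1 := by
  rcases isClopen_iff.mp (PrimeSpectrum.isClopen_iff.mpr ⟨e, he, rfl⟩ :
      IsClopen (PrimeSpectrum.basicOpen e : Set (PrimeSpectrum R))) with h | h
  · left
    refine PrimeSpectrum.basicOpen_injOn_isIdempotentElem he IsIdempotentElem.zero (SetLike.ext' ?_)
    rw [h, PrimeSpectrum.basicOpen_zero]; rfl
  · right
    refine PrimeSpectrum.basicOpen_injOn_isIdempotentElem he IsIdempotentElem.one (SetLike.ext' ?_)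
    rw [h, PrimeSpectrum.basicOpen_one]; rfl

variable {R : Type u} [CommRing R] [PreconnectedSpace (PrimeSpectrum R)]

lemma rank_const (X : Type u) [AddCommGroup X] [Module R X] [Module.Finite R X] [Module.Projective R X]
    [Nonempty (PrimeSpectrum R)] : ∃ d : ℕ, Module.rankAtStalk (R := R) X = d := by
  haveI : Module.FinitePresentation R X := Module.finitePresentation_of_projective R X
  exact ⟨Module.rankAtStalk (R := R) X (Classical.arbitrary _), funext fun p =>
    (Module.isLocallyConstant_rankAtStalk (R := R) (M := X)).apply_eq_of_preconnectedSpace p _⟩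

/-- A splitting finite étale cover with connected spectrum. -/
theorem exists_connected_cover [Nontrivial R] (P : ∀ (T : Type u) [CommRing T] [Algebra R T], Prop)
    (hP : ∀ (T T' : Type u) [CommRing T] [Algebra R T] [CommRing T'] [Algebra R T'], (T →ₐ[R] T') → P T → P T')
    (T : Type u) [CommRing T] [Algebra R T] [Algebra.Etale R T] [Module.Finite R T] [Nontrivial T] (hT : P T) :
    ∃ (S : Type u) (_ : CommRing S) (_ : Algebra R S), Algebra.Etale R S ∧ Module.Finite R S ∧
      Module.FaithfullyFlat R S ∧ Nontrivial S ∧ (∀ e : S, IsIdempotentElem e → e = 0 ∨ e = 1) ∧ P S := by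
  classical
  let Q : ℕ → Prop := fun d => ∃ (S : Type u) (_ : CommRing S) (_ : Algebra R S), Algebra.Etale R S ∧
    Module.Finite R S ∧ Nontrivial S ∧ P S ∧ Module.rankAtStalk (R := R) S = d
  haveI : Module.Flat R T := inferInstance
  haveI : Module.FinitePresentation R T := Module.FinitePresentation.of_finite_of_finitePresentation R T
  haveI : Module.Projective R T := Module.Flat.projective_of_finitePresentation
  have hQ : ∃ d, Q d := by
    obtain ⟨d, hd⟩ := rank_const (R := R) T
    exact ⟨d, T, inferInstance, inferInstance, inferInstance, inferInstance, inferInstance, hT, hd⟩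
  obtain ⟨S, _, _, het, hfin, hnt, hPS, hd⟩ := Nat.find_spec hQ
  haveI := het; haveI := hfin; haveI := hnt
  haveI : Module.FinitePresentation R S := Module.FinitePresentation.of_finite_of_finitePresentation R S
  haveI : Module.Projective R S := Module.Flat.projective_of_finitePresentation
  have hff : ∀ (X : Type u) [CommRing X] [Algebra R X] [Module.Finite R X] [Module.Projective R X] [Nontrivial X],
      ∀ p, 0 < Module.rankAtStalk (R := R) X p := by
    intro X _ _ _ _ _ p
    obtain ⟨c, hc⟩ := rank_const (R := R) X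
    rcases Nat.eq_zero_or_pos c with h | h
    · subst h
      rw [Nat.cast_zero, Module.rankAtStalk_eq_zero_iff_subsingleton] at hc
      exact absurd hc (not_subsingleton X)
    · rw [hc]; exact h
  refine ⟨S, inferInstance, inferInstance, het, hfin, ?_, hnt, fun e he => ?_, hPS⟩
  · apply Module.FaithfullyFlat.of_comap_surjective
    rw [← PrimeSpectrum.rankAtStalk_pos_iff_comap_surjective]
    exact hff S
  · by_contra hne
    push Not at hne
    obtain ⟨h0, h1⟩ := hne
    let S₁ := Localization.Away e
    let S₂ := Localization.Away (1 - e)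
    have hsurj : ∀ f : S, IsIdempotentElem f → Function.Surjective (algebraMap S (Localization.Away f)) := by
      intro f hf x
      obtain ⟨a, ⟨_, k, rfl⟩, rfl⟩ := IsLocalization.exists_mk'_eq (Submonoid.powers f) x
      refine ⟨a, ?_⟩
      rw [IsLocalization.eq_mk'_iff_mul_eq, ← map_mul]
      have h1 : algebraMap S (Localization.Away f) f = 1 := by
        have hu := IsLocalization.Away.algebraMap_isUnit (S := Localization.Away f) f
        exact hu.mul_right_cancel (by rw [one_mul, ← map_mul, hf.eq] )
      show algebraMap S _ (a * f ^ k) = _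
      rw [map_mul, map_pow, h1, one_pow, mul_one]
    have hnt' : ∀ f : S, IsIdempotentElem f → f ≠ 0 → Nontrivial (Localization.Away f) := by
      intro f hf hf0
      by_contra hcon
      haveI := not_nontrivial_iff_subsingleton.mp hcon
      obtain ⟨⟨_, k, rfl⟩, hk⟩ := (IsLocalization.map_eq_zero_iff (Submonoid.powers f) (Localization.Away f) 1).mp
        (Subsingleton.elim _ _)
      rw [mul_one] at hk
      cases k with
      | zero => exact one_ne_zero ((pow_zero f).symm.trans hk)
      | succ k => exact hf0 ((hf.pow_succ_eq k).symm.trans hk)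
    haveI : Nontrivial S₁ := hnt' e he h0
    haveI : Nontrivial S₂ := hnt' (1 - e) he.one_sub (sub_ne_zero.mpr (Ne.symm h1))
    haveI hf₁ : Module.Finite R S₁ := Module.Finite.of_surjective (IsScalarTower.toAlgHom R S S₁).toLinearMap (hsurj e he)
    haveI hf₂ : Module.Finite R S₂ :=
      Module.Finite.of_surjective (IsScalarTower.toAlgHom R S S₂).toLinearMap (hsurj _ he.one_sub)
    let f : S →ₗ[R] S₁ × S₂ :=
      (IsScalarTower.toAlgHom R S S₁).toLinearMap.prod (IsScalarTower.toAlgHom R S S₂).toLinearMap
    have hbij : Function.Bijective f := by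
      constructor
      · refine (injective_iff_map_eq_zero f).mpr fun x hx => ?_
        obtain ⟨hx1, hx2⟩ := Prod.ext_iff.mp hx
        obtain ⟨⟨_, k, rfl⟩, hk⟩ := (IsLocalization.map_eq_zero_iff (Submonoid.powers e) S₁ x).mp hx1
        obtain ⟨⟨_, l, rfl⟩, hl⟩ := (IsLocalization.map_eq_zero_iff (Submonoid.powers (1 - e)) S₂ x).mp hx2
        have a1 : e * x = 0 := by
          have := congrArg (e * ·) hk
          simp only [mul_zero, ← mul_assoc, ← pow_succ'] at this
          rwa [he.pow_succ_eq] at this
        have a2 : (1 - e) * x = 0 := by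
          have := congrArg ((1 - e) * ·) hl
          simp only [mul_zero, ← mul_assoc, ← pow_succ'] at this
          rwa [he.one_sub.pow_succ_eq] at this
        linear_combination a1 + a2
      · rintro ⟨y₁, y₂⟩
        obtain ⟨a, rfl⟩ := hsurj e he y₁
        obtain ⟨b, rfl⟩ := hsurj _ he.one_sub y₂
        have o1 : algebraMap S S₁ (1 - e) = 0 :=
          (IsLocalization.map_eq_zero_iff (Submonoid.powers e) S₁ _).mpr ⟨⟨e, Submonoid.mem_powers e⟩, by
            simp [mul_sub, he.eq]⟩
        have o2 : algebraMap S S₂ e = 0 :=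
          (IsLocalization.map_eq_zero_iff (Submonoid.powers (1 - e)) S₂ _).mpr ⟨⟨1 - e, Submonoid.mem_powers _⟩, by
            simp [sub_mul, he.eq]⟩
        have u1 : algebraMap S S₁ e = 1 := by
          have := o1; rwa [map_sub, map_one, sub_eq_zero, eq_comm] at this
        have u2 : algebraMap S S₂ (1 - e) = 1 := by rw [map_sub, map_one, o2, sub_zero]
        refine ⟨e * a + (1 - e) * b, Prod.ext ?_ ?_⟩
        · exact ((map_add (algebraMap S S₁) _ _).trans (by rw [map_mul, map_mul, u1, o1]; ring) :
            algebraMap S S₁ (e * a + (1 - e) * b) = algebraMap S S₁ a)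
        · exact ((map_add (algebraMap S S₂) _ _).trans (by rw [map_mul, map_mul, u2, o2]; ring) :
            algebraMap S S₂ (e * a + (1 - e) * b) = algebraMap S S₂ b)
    haveI : Algebra.Etale R S₁ := inferInstance
    haveI : Algebra.Etale R S₂ := inferInstance
    haveI : Module.FinitePresentation R S₁ := Module.FinitePresentation.of_finite_of_finitePresentation R S₁
    haveI : Module.Projective R S₁ := Module.Flat.projective_of_finitePresentation
    haveI : Module.FinitePresentation R S₂ := Module.FinitePresentation.of_finite_of_finitePresentation R S₂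
    haveI : Module.Projective R S₂ := Module.Flat.projective_of_finitePresentation
    obtain ⟨d₁, hd₁⟩ := rank_const (R := R) S₁
    obtain ⟨p⟩ := (inferInstance : Nonempty (PrimeSpectrum R))
    have hlt : d₁ < Nat.find hQ := by
      have h2 := hff S₂ p
      have h3 := congrFun (Module.rankAtStalk_eq_of_equiv (LinearEquiv.ofBijective f hbij)) p
      rw [Module.rankAtStalk_prod, Pi.add_apply, hd, hd₁] at h3
      simp only [Pi.natCast_def, Nat.cast_id] at h3
      omega
    exact Nat.find_min hQ hlt ⟨S₁, inferInstance, inferInstance, inferInstance, hf₁, inferInstance,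
      hP S S₁ (IsScalarTower.toAlgHom R S S₁) hPS, hd₁⟩

end Idem

section Chars

variable {R : Type u} [CommRing R] {A : Type u} [CommRing A] [HopfAlgebra R A]
variable {n : ℕ} (a : Fin n → A) (φ : Fin n → A →ₗ[R] R)

lemma elt_all (hfix : ∀ v : A, ∑ k, φ k v • a k = v) {S : Type u} [CommRing S] [Algebra R S] (z : S ⊗[R] A) :
    elt a S (fun i => ev S (φ i) z) = z := by
  induction z using TensorProduct.induction_on with
  | zero => simp [elt]
  | tmul s v =>
    conv_rhs => rw [← hfix v, TensorProduct.tmul_sum]
    refine Finset.sum_congr rfl fun i _ => ?_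
    beta_reduce
    rw [ev_tmul, TensorProduct.tmul_smul, TensorProduct.smul_tmul']
    congr 1
    simp [Algebra.smul_def, mul_comm]
  | add p q hp hq =>
    conv_rhs => rw [← hp, ← hq]
    simp [elt, add_tmul, Finset.sum_add_distrib]

lemma bil_hyps (hfix : ∀ v : A, ∑ k, φ k v • a k = v) (w : A ⊗[R] A) :
    ∑ k, ∑ l, bil (φ k) (φ l) w • (a k ⊗ₜ[R] a l) = w := by
  induction w using TensorProduct.induction_on with
  | zero => simp
  | tmul x y =>
    conv_rhs => rw [← hfix x, ← hfix y, TensorProduct.sum_tmul]
    refine Finset.sum_congr rfl fun k _ => ?_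
    rw [TensorProduct.tmul_sum]
    refine Finset.sum_congr rfl fun l _ => ?_
    rw [TensorProduct.tmul_smul, ← TensorProduct.smul_tmul', smul_smul]
    congr 1
    simp [bil, mul_comm]
  | add p q hp hq => simp only [map_add, add_smul, Finset.sum_add_distrib, hp, hq]

/-- The algebra of characters. -/
abbrev CharAlg : Type u := MvPolynomial (Fin n) R ⧸ eqIdeal a φ φ

/-- Its coordinates. -/
noncomputable def X (i : Fin n) : CharAlg a φ := Ideal.Quotient.mkₐ R (eqIdeal a φ φ) (MvPolynomial.X i)

lemma eqn_X (j) : eqn a φ φ (CharAlg a φ) (X a φ) j = 0 := by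
  exact (eqn_map a φ φ (Ideal.Quotient.mkₐ R (eqIdeal a φ φ)) MvPolynomial.X j).symm.trans
    (Ideal.Quotient.eq_zero_iff_mem.mpr (Ideal.subset_span ⟨j, rfl⟩))

lemma eqn_hom {S : Type u} [CommRing S] [Algebra R S] (F : CharAlg a φ →ₐ[R] S) (j) :
    eqn a φ φ S (fun i => F (X a φ i)) j = 0 := by
  rw [← eqn_map, eqn_X, map_zero]

theorem finite_charAlg (hfix : ∀ v : A, ∑ k, φ k v • a k = v) : Module.Finite R (CharAlg a φ) := by
  classical
  let V : Submodule R (CharAlg a φ) := Submodule.span R (Set.range (X a φ))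
  have hlin : ∀ c : Fin n → R, ∑ i, X a φ i * algebraMap R _ (c i) ∈ V := fun c =>
    Submodule.sum_mem _ fun i _ => by
      rw [mul_comm, ← Algebra.smul_def]; exact Submodule.smul_mem _ _ (Submodule.subset_span ⟨i, rfl⟩)
  have h1 : (1 : CharAlg a φ) ∈ V := by
    have h := eqn_X a φ (.inr (.inl PUnit.unit))
    simp only [eqn, sub_eq_zero] at h
    rw [← h]; exact hlin _
  have hmul : ∀ k l, X a φ k * X a φ l ∈ V := by
    intro k l
    have h := eqn_X a φ (.inr (.inr (k, l)))
    have hk := eqn_X a φ (.inl k)
    have hl := eqn_X a φ (.inl l)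
    simp only [eqn, sub_eq_zero] at h hk hl
    rw [hk, hl] at h
    rw [← h]; exact hlin _
  have hV : ∀ y : CharAlg a φ, y ∈ V := by
    intro y
    obtain ⟨p, rfl⟩ := Ideal.Quotient.mkₐ_surjective R (eqIdeal a φ φ) y
    induction p using MvPolynomial.induction_on with
    | C r =>
      rw [← MvPolynomial.algebraMap_eq, AlgHom.commutes, Algebra.algebraMap_eq_smul_one]
      exact Submodule.smul_mem _ _ h1
    | add p q hp hq => rw [map_add]; exact add_mem hp hq
    | mul_X p i hp =>
      rw [map_mul]
      change _ * X a φ i ∈ V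
      generalize (Ideal.Quotient.mkₐ R (eqIdeal a φ φ)) p = y at hp
      induction hp using Submodule.span_induction with
      | mem x hx => obtain ⟨k, rfl⟩ := hx; exact hmul k i
      | zero => rw [zero_mul]; exact zero_mem _
      | add x y _ _ hx hy => rw [add_mul]; exact add_mem hx hy
      | smul r x _ hx => rw [smul_mul_assoc]; exact Submodule.smul_mem _ _ hx
  exact ⟨⟨Finset.univ.image (X a φ), eq_top_iff.mpr fun y _ => by simpa [V] using hV y⟩⟩

theorem etale_charAlg (hA : HasSplitting R A) [Module.Flat R A] (hfix : ∀ v : A, ∑ k, φ k v • a k = v) :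
    Algebra.Etale R (CharAlg a φ) := by
  classical
  have hΔ : ∀ i, ∑ k, ∑ l, bil (φ k) (φ l) (CoalgebraStruct.comul (R := R) (a i)) • (a k ⊗ₜ[R] a l) =
      CoalgebraStruct.comul (R := R) (a i) := fun i => bil_hyps a φ hfix _
  have hAA : ∀ i j, ∑ k, ∑ l, (φ k (a i) * φ l (a j)) • (a k ⊗ₜ[R] a l) = a i ⊗ₜ[R] a j := fun i j => by
    refine Eq.trans ?_ (bil_hyps a φ hfix _)
    simp [bil]
  haveI : Algebra.FinitePresentation R (CharAlg a φ) :=
    Algebra.FinitePresentation.quotient (by
      rw [eqIdeal]; exact ⟨(Set.finite_range _).toFinset, by rw [Set.Finite.coe_toFinset]⟩)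
  refine Algebra.etaleLocus_eq_univ_iff_etale.mp (Set.eq_univ_of_forall fun x => ?_)
  let κ := x.asIdeal.ResidueField
  let q : CharAlg a φ →ₐ[R] κ := IsScalarTower.toAlgHom R _ κ
  let g : GroupLike κ (κ ⊗[R] A) := ⟨_, isGroupLike_elt a φ a φ hΔ hAA _ (eqn_hom a φ q)⟩
  obtain ⟨L, _, _, _, N, _, D, i, hD, hf, hl⟩ := exists_local_frame hA κ
  obtain ⟨m₀, hm₀⟩ := frame_surjective D hD (glMap i g)
  let F := IsLocalRing.ResidueField L
  let ψF : L →ₐ[R] F := IsScalarTower.toAlgHom R L F
  haveI : Module.Flat R L → True := fun _ => trivial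
  let ψ : CharAlg a φ →ₐ[R] F := (ψF.comp i).comp q
  obtain ⟨ι, _, T, _, _, hff, hd⟩ := id hA
  haveI := hff
  obtain ⟨j, hj⟩ : ∃ j, Nontrivial (F ⊗[R] T j) := by
    by_contra hcon
    haveI : ∀ i, Subsingleton (F ⊗[R] T i) := fun i => not_nontrivial_iff_subsingleton.mp (not_exists.mp hcon i)
    haveI : Subsingleton (F ⊗[R] (∀ i, T i)) := (TensorProduct.piRight R R F T).toEquiv.subsingleton
    obtain ⟨q', -⟩ := PrimeSpectrum.comap_surjective_of_faithfullyFlat (B := F ⊗[R] (∀ i, T i))
      (⟨⊥, inferInstance⟩ : PrimeSpectrum F)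
    exact q'.isPrime.ne_top (Subsingleton.elim _ _)
  haveI := hj
  obtain ⟨mx, hmx⟩ := Ideal.exists_maximal (F ⊗[R] T j)
  letI := Ideal.Quotient.field mx
  let F' := (F ⊗[R] T j) ⧸ mx
  let η : F →ₐ[R] F' := (Ideal.Quotient.mkₐ R mx).comp Algebra.TensorProduct.includeLeft
  let ψT : T j →ₐ[R] F' := (Ideal.Quotient.mkₐ R mx).comp Algebra.TensorProduct.includeRight
  haveI : Module.Flat R (T j) := by
    haveI : Module.Flat R (∀ i, T i) := inferInstance
    exact Module.Flat.of_retract (LinearMap.single R T j) (LinearMap.proj j) (by ext; simp)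
  obtain ⟨Nj, _, ⟨e⟩⟩ := hd j
  obtain ⟨k, hk⟩ := frame_surjective _ (frame_map (diagHom e) (theta_diagHom_bijective e) ψT)
    (glMap ((η.comp ψF).comp i) g)
  let ψ' : CharAlg a φ →ₐ[R] F' := ((η.comp ψF).comp i).comp q
  have hker : RingHom.ker ψ'.toRingHom = x.asIdeal := by
    ext c
    show ((η.comp ψF).comp i) (algebraMap _ κ c) = 0 ↔ c ∈ x.asIdeal
    rw [_root_.map_eq_zero, Ideal.algebraMap_residueField_eq_zero]
  haveI : (RingHom.ker ψ'.toRingHom).IsPrime := RingHom.ker_isPrime _
  have := isEtaleAt a φ a φ hΔ hAA hA (diagHom e) (theta_diagHom_bijective e) ψ' ψT k (elt_all a φ hfix _) (by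
    have h := congrArg GroupLike.val hk
    show elt a F' _ = bc ψT (diagHom e k).val
    refine Eq.trans ?_ h.symm
    show _ = bc ((η.comp ψF).comp i) (elt a κ fun i => q (X a φ i))
    rw [bc_elt]
    rfl)
  rw [Algebra.mem_etaleLocus_iff]
  convert! this using 2
  exact hker.symm

end Chars

section Main

lemma glMap_comp_glBC {T X : Type u} [CommRing T] [CommRing X] [HopfAlgebra T X] (B : Type u) [CommRing B]
    [Algebra T B] : (glMap (A := X) (IsScalarTower.toAlgHom T T B)).comp (glBC X T) = glBC X B :=
  MonoidHom.ext fun g => GroupLike.val_injective (by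
    show bc _ ((1 : T) ⊗ₜ[T] g.val) = (1 : B) ⊗ₜ[T] g.val
    rw [bc_tmul, map_one])

lemma split_baseChange {R T T' C : Type u} [CommRing R] [CommRing T] [CommRing T'] [CommRing C] [Algebra R T]
    [Algebra R T'] [Algebra R C] [Algebra T T'] [IsScalarTower R T T'] (h : Algebra.IsFiniteSplit T (T ⊗[R] C)) :
    Algebra.IsFiniteSplit T' (T' ⊗[R] C) := by
  haveI := h
  haveI : Algebra.IsFiniteSplit T' (T' ⊗[T] (T ⊗[R] C)) := inferInstance
  exact Algebra.IsFiniteSplit.of_algEquiv (Algebra.TensorProduct.cancelBaseChange R T T' T' C)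

variable {R : Type u} [CommRing R] {A : Type u} [CommRing A] [HopfAlgebra R A]

/-- A family of characters bijective after localisation at every maximal ideal is a frame. -/
theorem bijective_of_lTensor_local {T X : Type u} [CommRing T] [CommRing X] [HopfAlgebra T X] (hX : HasSplitting T X)
    {M : Type u} [CommGroup M] (G : M →* GroupLike T X)
    (h : ∀ m : Ideal T, ∀ [m.IsMaximal], Function.Bijective
      ((theta G : MonoidAlgebra T M →ₐ[T] X).toLinearMap.lTensor (Localization.AtPrime m))) :
    Function.Bijective (theta G) := by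
  have hb : Function.Bijective (theta ((glBC X T).comp G)) := by
    refine H8MultHensel.bijective_of_local hX _ fun mm hmm => ?_
    rw [← MonoidHom.comp_assoc, glMap_comp_glBC]
    exact (theta_baseChange_bijective_iff _ G).mpr (h mm)
  exact (Module.FaithfullyFlat.lTensor_bijective_iff_bijective T T _).mp ((theta_baseChange_bijective_iff T G).mp hb)

/-- A bijection onto the characters over a field is a frame. -/
theorem bijective_of_bijective_field {F : Type u} [Field F] [Algebra R F] {N : Type u} [CommGroup N]
    (D : N →* GroupLike F (F ⊗[R] A)) (hD : Function.Bijective (theta D)) {M : Type u} [CommGroup M]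
    (γ : M →* GroupLike F (F ⊗[R] A)) (hγ : Function.Bijective γ) : Function.Bijective (theta γ) := by
  let DN : N ≃* GroupLike F (F ⊗[R] A) :=
    MulEquiv.ofBijective D ⟨frame_injective _ hD, frame_surjective _ hD⟩
  rw [show γ = D.comp (DN.symm.toMonoidHom.comp γ) from MonoidHom.ext fun m => (DN.apply_symm_apply (γ m)).symm,
    frame_comp_iff _ hD]
  exact DN.symm.bijective.comp hγ

set_option synthInstance.maxHeartbeats 400000 in
set_option maxHeartbeats 1600000 in
/-- A group of multiplicative type whose characters do not change at field points is diagonalisable. -/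
theorem isDiag_of_points (hA : HasSplitting R A) {T : Type u} [CommRing T] [Algebra R T]
    (hgl : ∀ (S : Type u) [CommRing S] [Algebra R S] [Nontrivial S],
      (∀ x : S, IsIdempotentElem x → x = 0 ∨ x = 1) → ∀ ψ : T →ₐ[R] S, Function.Bijective (glMap (A := A) ψ)) :
    SGA3b.IsDiag T (T ⊗[R] A) := by
  classical
  haveI := flat_of_splitting hA
  let G : GroupLike T (T ⊗[R] A) →* GroupLike T (T ⊗[R] A) := MonoidHom.id _
  refine isDiag_of_bijective G (bijective_of_lTensor_local (hA.baseChange T) G fun mm hmm => ?_)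
  let B := Localization.AtPrime mm
  let iB : T →ₐ[R] B := IsScalarTower.toAlgHom R T B
  refine (theta_glMap_bijective_iff G iB fun t => rfl).mp ?_
  obtain ⟨L, _, _, _, N, _, D, i, hD, hf, hl⟩ := exists_local_frame hA B
  let F := IsLocalRing.ResidueField L
  let χ : B →ₐ[R] F := (IsScalarTower.toAlgHom R L F).comp i
  refine bijective_of_residue hA χ (fun x hx => Ideal.Quotient.eq_zero_iff_mem.mpr fun hu => hx (hl.map_nonunit x hu)) _ ?_
  rw [← MonoidHom.comp_assoc, show (glMap χ).comp (glMap (A := A) iB) = glMap (χ.comp iB) from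
    MonoidHom.ext fun g => glMap_glMap _ _ g]
  exact bijective_of_bijective_field _ (frame_map D hD (IsScalarTower.toAlgHom R L F)) _
    (hgl F (fun x hx => IsIdempotentElem.iff_eq_zero_or_one.mp hx) _)

/-- The points of a totally split algebra. -/
theorem split_points {C T : Type u} [CommRing C] [Algebra R C] [CommRing T] [Algebra R T] {d' : ℕ}
    (e : T ⊗[R] C ≃ₐ[T] Fin d' → T) (S : Type u) [CommRing S] [Algebra R S] [Nontrivial S]
    (hS : ∀ x : S, IsIdempotentElem x → x = 0 ∨ x = 1) (ψ : T →ₐ[R] S) :
    Function.Bijective (fun j => ψ.comp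
      ((((Pi.evalAlgHom T (fun _ : Fin d' => T) j).comp e.toAlgHom).restrictScalars R).comp
        (Algebra.TensorProduct.includeRight : C →ₐ[R] T ⊗[R] C))) := by
  refine ⟨fun j k hjk => ?_, fun F => ?_⟩
  · by_contra hne
    have hΨ : ∀ z : T ⊗[R] C, ψ (e z j) = ψ (e z k) := by
      intro z
      induction z using TensorProduct.induction_on with
      | zero => simp
      | tmul t c =>
        rw [show (t ⊗ₜ[R] c : T ⊗[R] C) = t • ((1 : T) ⊗ₜ[R] c) by simp [smul_tmul'], map_smul]
        simp only [Pi.smul_apply, smul_eq_mul, map_mul]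
        congr 1
        exact AlgHom.congr_fun hjk c
      | add u v hu hv => simp only [map_add, Pi.add_apply, hu, hv]
    have := hΨ (e.symm (Pi.single j (1 : T)))
    simp [Ne.symm hne] at this
  · letI := ψ.toRingHom.toAlgebra
    haveI : IsScalarTower R T S := IsScalarTower.of_algebraMap_eq fun r => (ψ.commutes r).symm
    let Φ : (Fin d' → T) →ₐ[T] S := (Algebra.TensorProduct.lift (Algebra.ofId T S) F fun _ _ => Commute.all _ _).comp
      e.symm.toAlgHom
    have hid : ∀ j, Φ (Pi.single j (1 : T)) = 0 ∨ Φ (Pi.single j (1 : T)) = 1 := fun j =>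
      hS _ (IsIdempotentElem.map (by
        show (Pi.single j (1 : T) : Fin d' → T) * Pi.single j (1 : T) = Pi.single j (1 : T)
        rw [← Pi.single_mul, mul_one]) Φ)
    obtain ⟨j, hj⟩ : ∃ j, Φ (Pi.single j (1 : T)) = 1 := by
      by_contra hcon
      push Not at hcon
      have : Φ 1 = 0 := by
        rw [show (1 : Fin d' → T) = ∑ j, Pi.single j (1 : T) from (Finset.univ_sum_single 1).symm, map_sum]
        exact Finset.sum_eq_zero fun j _ => (hid j).resolve_right (hcon j)
      rw [map_one] at this
      exact one_ne_zero this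
    have hΦ : ∀ v, Φ v = ψ (v j) := by
      intro v
      calc Φ v = Φ (v * Pi.single j (1 : T)) := by rw [map_mul, hj, mul_one]
        _ = Φ (v j • Pi.single j (1 : T)) := by
          congr 1; funext k
          by_cases h : k = j
          · subst h; simp
          · simp [h]
        _ = ψ (v j) := by rw [map_smul, hj, Algebra.smul_def, mul_one]; rfl
    refine ⟨j, AlgHom.ext fun c => ?_⟩
    show ψ (e ((1 : T) ⊗ₜ[R] c) j) = F c
    rw [← hΦ]
    show Algebra.TensorProduct.lift (Algebra.ofId T S) F (fun _ _ => Commute.all _ _) (e.symm (e ((1 : T) ⊗ₜ[R] c))) = F c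
    rw [e.symm_apply_apply, Algebra.TensorProduct.lift_tmul, map_one, one_mul]

set_option maxHeartbeats 600000 in
set_option synthInstance.maxHeartbeats 400000 in
/-- A finite group of multiplicative type over a connected base is isotrivial. -/
theorem isotrivial_of_finite_connected [ConnectedSpace (PrimeSpectrum R)] [Module.Finite R A]
    (hA : HasSplitting R A) : SGA3b.IsIsotrivial R A := by
  classical
  haveI : Nontrivial R := PrimeSpectrum.nonempty_iff_nontrivial.mp inferInstance
  haveI := flat_of_splitting hA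
  obtain ⟨s, hs⟩ := (inferInstance : Module.Finite R A).fg_top
  obtain ⟨n, a, φ, hsfix⟩ := exists_proj hA s
  have hfix : ∀ v : A, ∑ k, φ k v • a k = v := by
    intro v
    have hv : v ∈ Submodule.span R (s : Set A) := hs ▸ trivial
    induction hv using Submodule.span_induction with
    | mem x hx => exact hsfix x hx
    | zero => simp
    | add x y _ _ hx hy => simp only [map_add, add_smul, Finset.sum_add_distrib, hx, hy]
    | smul r x _ hx => simp only [map_smul, smul_assoc, ← Finset.smul_sum, hx]
  have hΔ : ∀ i, ∑ k, ∑ l, bil (φ k) (φ l) (CoalgebraStruct.comul (R := R) (a i)) • (a k ⊗ₜ[R] a l) =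
      CoalgebraStruct.comul (R := R) (a i) := fun i => bil_hyps a φ hfix _
  have hAA : ∀ i j, ∑ k, ∑ l, (φ k (a i) * φ l (a j)) • (a k ⊗ₜ[R] a l) = a i ⊗ₜ[R] a j := fun i j => by
    refine Eq.trans ?_ (bil_hyps a φ hfix _)
    simp [bil]
  let C := CharAlg a φ
  haveI : Module.Finite R C := finite_charAlg a φ hfix
  haveI : Algebra.Etale R C := etale_charAlg a φ hA hfix
  haveI : Module.FinitePresentation R C := Module.FinitePresentation.of_finite_of_finitePresentation R C
  haveI : Module.Projective R C := Module.Flat.projective_of_finitePresentation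
  obtain ⟨d, hd⟩ := rank_const (R := R) C
  obtain ⟨T₀, _, _, hff₀, _, _, hsplit⟩ := Algebra.IsFiniteSplit.exists_tensorProduct_of_etale hd
  haveI : Nontrivial T₀ := by
    by_contra hcon
    haveI := not_nontrivial_iff_subsingleton.mp hcon
    obtain ⟨q, -⟩ := PrimeSpectrum.comap_surjective_of_faithfullyFlat (B := T₀) (Classical.arbitrary (PrimeSpectrum R))
    exact q.isPrime.ne_top (Subsingleton.elim _ _)
  let P : ∀ (T : Type u) [CommRing T] [Algebra R T], Prop := fun T _ _ =>
    Algebra.IsFiniteSplit T (T ⊗[R] C)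
  obtain ⟨T, _, _, het, hTfin, hTff, hTnt, hidem, hTsplit⟩ := exists_connected_cover (R := R) P
    (fun T T' _ _ _ _ f h => by
      haveI : Algebra.IsFiniteSplit T (T ⊗[R] C) := h
      letI := f.toRingHom.toAlgebra
      haveI : IsScalarTower R T T' := IsScalarTower.of_algebraMap_eq fun r => (f.commutes r).symm
      exact split_baseChange h) T₀ hsplit
  haveI := hTfin
  haveI := hTnt
  have hTsplit' : Algebra.IsFiniteSplit T (T ⊗[R] C) := hTsplit
  obtain ⟨d', ⟨e⟩⟩ := hTsplit'.nonempty_algEquiv_fun
  let p : Fin d' → (C →ₐ[R] T) := fun j =>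
    (((Pi.evalAlgHom T (fun _ : Fin d' => T) j).comp e.toAlgHom).restrictScalars R).comp
      Algebra.TensorProduct.includeRight
  have hpts := fun (S : Type u) [CommRing S] [Algebra R S] [Nontrivial S] hS ψ => split_points e S hS ψ
  let toG : ∀ (S : Type u) [CommRing S] [Algebra R S], (C →ₐ[R] S) → GroupLike S (S ⊗[R] A) :=
    fun S _ _ F => ⟨_, isGroupLike_elt a φ a φ hΔ hAA _ (eqn_hom a φ F)⟩
  have htoG : ∀ (S : Type u) [CommRing S] [Algebra R S], Function.Bijective (toG S) := by
    intro S _ _
    refine ⟨fun F F' h => Ideal.Quotient.algHom_ext R (MvPolynomial.algHom_ext fun i => ?_), fun g => ?_⟩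
    · show F (X a φ i) = F' (X a φ i)
      rw [← ev_elt_eq a φ φ _ (eqn_hom a φ F) i, ← ev_elt_eq a φ φ _ (eqn_hom a φ F') i]
      exact congrArg (fun g => ev S (φ i) g.val) h
    · have hE := eqn_of_fixed a φ φ g (elt_all a φ hfix _)
      refine ⟨Ideal.Quotient.liftₐ (eqIdeal a φ φ) (MvPolynomial.aeval fun i => ev S (φ i) g.val) (fun p hp => by
        induction hp using Submodule.span_induction with
        | mem p hp =>
          obtain ⟨j, rfl⟩ := hp
          rw [eqn_map]
          simp only [MvPolynomial.aeval_X]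
          exact hE j
        | zero => simp
        | add u v _ _ hu hv => simp [hu, hv]
        | smul u v _ hv => simp [hv]), GroupLike.val_injective ?_⟩
      refine Eq.trans ?_ (elt_all a φ hfix g.val)
      show elt a S _ = elt a S _
      congr 1; funext i
      exact MvPolynomial.aeval_X _ i
  have hnat : ∀ (S : Type u) [CommRing S] [Algebra R S] (ψ : T →ₐ[R] S) (j : Fin d'),
      toG S (ψ.comp (p j)) = glMap ψ (toG T (p j)) := fun S _ _ ψ j =>
    GroupLike.val_injective (by
      show _ = bc ψ (elt a T _)
      rw [bc_elt]; rfl)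
  have hsurjT : Function.Bijective (fun j => toG T (p j)) := by
    have := (htoG T).comp (hpts T hidem (AlgHom.id R T))
    simpa [Function.comp_def] using this
  have hgl : ∀ (S : Type u) [CommRing S] [Algebra R S] [Nontrivial S],
      (∀ x : S, IsIdempotentElem x → x = 0 ∨ x = 1) → ∀ ψ : T →ₐ[R] S, Function.Bijective (glMap (A := A) ψ) := by
    intro S _ _ _ hS ψ
    have h1 := (htoG S).comp (hpts S hS ψ)
    have h2 : (toG S ∘ fun j => ψ.comp (p j)) = glMap ψ ∘ fun j => toG T (p j) := funext fun j => hnat S ψ j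
    rw [h2] at h1
    exact (Function.Bijective.of_comp_iff _ hsurjT).mp h1
  exact ⟨T, inferInstance, inferInstance, het, hTfin, hTff, isDiag_of_points hA hgl⟩

end Main

end Groth.Agent.H8MultFinite
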