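import Mathlib
import Groth.Prelude.Def_Red
import Groth.Agent.Lib.H8TraceEtale
import Groth.Agent.Lib.H8EtaleFibre

/-!
# Finite group schemes of invertible order are étale
-/

set_option autoImplicit false

universe u

open CategoryTheory Limits AlgebraicGeometry

namespace Groth.Agent.H8GrpEtale

set_option backward.isDefEq.respectTransparency false in
/-- A finite group scheme of invertible order over a field is étale. -/
theorem etale_field (K : CommRingCat.{u}) (hK : IsField K) (G : Over (Spec K)) [GrpObj G]
    [IsFinite G.hom] (x : Spec K) (h : (G.hom.finrank x : K) ≠ 0) : Etale G.hom := by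
  let : Field K := hK.toField
  letI : G.left.Over (Spec K) := ⟨G.hom⟩
  letI : GrpObj (G.left.asOver (Spec K)) := ‹GrpObj G›
  have : IsAffine G.left := isAffine_of_isAffineHom G.hom
  let A : CommRingCat.{u} := Γ(G.left, ⊤)
  let φ : K ⟶ A := CommRingCat.ofHom (algebraMap K Γ(G.left, ⊤))
  have e1 : Spec.map φ = G.left.isoSpec.inv ≫ G.hom :=
    Spec.fullyFaithful.map_preimage _
  have e : G.hom = G.left.isoSpec.hom ≫ Spec.map φ := by rw [e1, Iso.hom_inv_id_assoc]
  have hfin : IsFinite (Spec.map φ) := by rw [e1]; infer_instance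
  have hfin' : φ.hom.Finite := (IsFinite.SpecMap_iff φ).mp hfin
  have hflat : φ.hom.Flat := RingHom.flat_algebraMap_iff.mpr
    (inferInstance : Module.Flat K Γ(G.left, ⊤))
  have : Module.Finite K Γ(G.left, ⊤) := RingHom.finite_algebraMap.mp hfin'
  have hr : G.hom.finrank x = Module.finrank K Γ(G.left, ⊤) := by
    have : Flat (Spec.map φ) := Flat.SpecMap_iff.mpr hflat
    rw [e, Scheme.Hom.finrank_comp_left_of_isIso,
      Scheme.Hom.finrank_SpecMap_algebraMap K Γ(G.left, ⊤),
      Module.rankAtStalk_eq_finrank_of_free]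
    rfl
  rw [hr] at h
  have : Algebra.FormallyUnramified K Γ(G.left, ⊤) :=
    H8TraceEtale.formallyUnramified K Γ(G.left, ⊤) h
  have : Algebra.FinitePresentation K Γ(G.left, ⊤) :=
    (Algebra.FinitePresentation.of_finiteType).mp inferInstance
  have : Algebra.Etale K Γ(G.left, ⊤) := Algebra.Etale.of_formallyUnramified_of_flat
  rw [e]
  have : Etale (Spec.map φ) := by
    rw [HasRingHomProperty.Spec_iff (P := @Etale)]
    exact RingHom.etale_algebraMap.mpr this
  infer_instance

end Groth.Agent.H8GrpEtale
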