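import Mathlib
import Groth.Prelude.Def_SGA3b
import Groth.Agent.S0527
import Groth.Agent.Lib.H8MultCore
import Groth.Agent.Lib.H8Mult
import Groth.Agent.Lib.H8MultGL
import Groth.Agent.Lib.H8CharFrame
import Groth.Agent.Lib.H8CharQuasi
import Groth.Agent.Lib.H8MultHensel
import Groth.Agent.Lib.H8MultHom
import Groth.Agent.Lib.H8MultIso

/-!
# Homomorphisms of groups of multiplicative type lift along nil ideals
-/

set_option autoImplicit false
set_option linter.all false

universe u

open TensorProduct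

namespace Groth.Agent.H8MultHomLift

open H8MultCore H8Mult H8MultGL H8CharFrame H8CharQuasi H8MultHensel H8MultHom H8MultIso

variable {R : Type u} [CommRing R] {B : Type u} [CommRing B] [HopfAlgebra R B]
  {C : Type u} [CommRing C] [HopfAlgebra R C]

/-- Characters congruent modulo an ideal in the radical are equal, in flat form. -/
theorem gl_eq_jac (hB : HasSplitting R B) {T : Type u} [CommRing T] [Algebra R T] (J : Ideal T)
    (hJ : J ≤ Ideal.jacobson ⊥) (g g' : GroupLike T (T ⊗[R] B))
    (h : bc (Ideal.Quotient.mkₐ R J) g.val = bc (Ideal.Quotient.mkₐ R J) g'.val) : g = g' := by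
  refine GroupLike.val_injective (sub_eq_zero.mp ?_)
  by_contra hd
  let ann : Ideal T := LinearMap.ker (LinearMap.toSpanSingleton T (T ⊗[R] B) (g.val - g'.val))
  obtain ⟨m, hm, hle⟩ := ann.exists_le_maximal fun htop => hd (by
    have : (1 : T) ∈ ann := htop ▸ Submodule.mem_top
    simpa [ann] using this)
  haveI := hm
  let Tm := Localization.AtPrime m
  let i : T →ₐ[R] Tm := IsScalarTower.toAlgHom R T Tm
  have hJm : J ≤ m := hJ.trans (sInf_le ⟨bot_le, hm⟩)
  let F := IsLocalRing.ResidueField Tm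
  let χ : Tm →ₐ[R] F := IsScalarTower.toAlgHom R Tm F
  let jF : T ⧸ J →ₐ[R] F := Ideal.Quotient.liftₐ J (χ.comp i) fun r hr =>
    Ideal.Quotient.eq_zero_iff_mem.mpr ((IsLocalization.AtPrime.to_map_mem_maximal_iff Tm m r).mpr (hJm hr))
  have e : χ.comp i = jF.comp (Ideal.Quotient.mkₐ R J) := AlgHom.ext fun x => rfl
  have heq : glMap i g = glMap i g' := eq_of_residue hB χ (fun x hx => Ideal.Quotient.eq_zero_iff_mem.mpr hx) _ _
    (GroupLike.val_injective (by
      show bc χ (bc i g.val) = bc χ (bc i g'.val)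
      rw [bc_bc, bc_bc, e, ← bc_bc, ← bc_bc, h]))
  obtain ⟨s, hs, hs0⟩ := exists_smul_eq_zero m.primeCompl (Sx := Tm) (g.val - g'.val) (by
    rw [map_sub, sub_eq_zero]; exact congrArg GroupLike.val heq)
  exact hs (hle (by simpa [ann] using hs0))

set_option synthInstance.maxHeartbeats 400000 in
/-- A homomorphism lifts over a henselian piece carrying a frame of the source. -/
theorem lift_piece (hB : HasSplitting R B) {T : Type u} [CommRing T] [Algebra R T] (J : Ideal T) [HenselianRing T J]
    {N : Type u} [CommGroup N] (E : N →* GroupLike T (T ⊗[R] C)) (hE : Function.Bijective (theta E))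
    (f₀ : (T ⧸ J) ⊗[R] C →ₐc[T ⧸ J] (T ⧸ J) ⊗[R] B) :
    ∃ f : T ⊗[R] C →ₐc[T] T ⊗[R] B,
      ∀ z, bc (Ideal.Quotient.mkₐ R J) (f z) = f₀ (bc (Ideal.Quotient.mkₐ R J) z) := by
  classical
  let L := T ⧸ J
  let π : T →ₐ[R] L := Ideal.Quotient.mkₐ R J
  let ε := cancelBialg (R := R) B T L
  let g : N → GroupLike L (L ⊗[T] (T ⊗[R] B)) := fun n =>
    ⟨_, map_groupLike (ε : _ →ₐc[L] _) ⟨_, map_groupLike f₀ (glMap π (E n))⟩⟩
  choose G hG using fun n => exists_groupLike_lift (hB.baseChange T) J (g n)
  let H : N → GroupLike T (T ⊗[R] B) := fun n =>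
    ⟨_, map_groupLike (Bialgebra.TensorProduct.lid T (T ⊗[R] B) : _ →ₐc[T] _) (G n)⟩
  have hH : ∀ n, bc π (H n).val = f₀ (bc π (E n).val) := by
    intro n
    have h1 : ∀ w : T ⊗[T] (T ⊗[R] B), bc π (Bialgebra.TensorProduct.lid T (T ⊗[R] B) w) =
        Algebra.TensorProduct.cancelBaseChange R T L L B (bc (R := T) (Algebra.ofId T L) w) := by
      intro w
      induction w using TensorProduct.induction_on with
      | zero => simp
      | tmul s x =>
        induction x using TensorProduct.induction_on with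
        | zero => simp
        | tmul t b =>
          rw [bc_tmul]
          show bc π (s • (t ⊗ₜ[R] b)) = _
          rw [bc_smul, bc_tmul, Algebra.TensorProduct.cancelBaseChange_tmul, TensorProduct.smul_tmul', Algebra.smul_def t]
          simp [π, L, mul_comm, Algebra.ofId_apply, Ideal.Quotient.algebraMap_eq]
        | add p q hp hq => simp only [tmul_add, map_add, hp, hq]
      | add p q hp hq => simp only [map_add, hp, hq]
    show bc π (Bialgebra.TensorProduct.lid T (T ⊗[R] B) (G n).val) = _
    rw [h1, show bc (R := T) (Algebra.ofId T L) (G n).val = (g n).val from congrArg GroupLike.val (hG n)]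
    exact (Algebra.TensorProduct.cancelBaseChange R T L L B).apply_symm_apply _
  have hjac : J ≤ Ideal.jacobson ⊥ := HenselianRing.jac
  let Hh : N →* GroupLike T (T ⊗[R] B) :=
    { toFun := H
      map_one' := gl_eq_jac hB J hjac _ _ (by
        show bc π (H 1).val = bc π (1 : GroupLike T (T ⊗[R] B)).val
        rw [hH, map_one, GroupLike.val_one, GroupLike.val_one, map_one, map_one, map_one])
      map_mul' := fun a b => gl_eq_jac hB J hjac _ _ (by
        show bc π (H (a * b)).val = bc π (H a * H b).val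
        rw [hH, map_mul, GroupLike.val_mul, GroupLike.val_mul, map_mul, map_mul, map_mul, hH, hH]) }
  refine ⟨(theta Hh).comp ((BialgEquiv.ofBijective (theta E) hE).symm : _ →ₐc[T] _), fun z => ?_⟩
  obtain ⟨x, rfl⟩ := hE.2 z
  show bc π (theta Hh ((BialgEquiv.ofBijective (theta E) hE).symm (theta E x))) = _
  rw [show (BialgEquiv.ofBijective (theta E) hE).symm (theta E x) = x from
    (BialgEquiv.ofBijective (theta E) hE).symm_apply_apply x]
  induction x using MonoidAlgebra.induction_linear with
  | zero => simp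
  | add p q hp hq => simp only [map_add, hp, hq]
  | single n r =>
    rw [theta_single, theta_single, bc_smul, bc_smul, map_smul]
    show π r • bc π (H n).val = _
    rw [hH]

/-- Homomorphisms on a covering family which agree on overlaps descend. -/
theorem descend_family {ι : Type u} [Fintype ι] (T : ι → Type u) [∀ i, CommRing (T i)] [∀ i, Algebra R (T i)]
    [Module.FaithfullyFlat R (∀ i, T i)] (f : ∀ i, T i ⊗[R] C →ₐc[T i] T i ⊗[R] B)
    (h : ∀ i j c, bc (Algebra.TensorProduct.includeLeft : T i →ₐ[R] T i ⊗[R] T j) (f i ((1 : T i) ⊗ₜ c)) =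
      bc (Algebra.TensorProduct.includeRight : T j →ₐ[R] T i ⊗[R] T j) (f j ((1 : T j) ⊗ₜ c))) :
    ∃ φ : C →ₐc[R] B, ∀ i c, f i ((1 : T i) ⊗ₜ c) = (1 : T i) ⊗ₜ φ c := by
  classical
  let S := ∀ i, T i
  have h1S : ∀ i, (1 : S) i = 1 := fun i => rfl
  have hd : ∀ c : C, ∃ b : B, ∀ i, (1 : T i) ⊗ₜ[R] b = f i ((1 : T i) ⊗ₜ c) := by
    intro c
    let z : S ⊗[R] B := ∑ i, (LinearMap.single R T i).rTensor B (f i ((1 : T i) ⊗ₜ c))
    have hzi : ∀ i, (LinearMap.proj (R := R) (φ := T) i).rTensor B z = f i ((1 : T i) ⊗ₜ c) := by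
      intro i
      rw [map_sum, Finset.sum_eq_single i]
      · rw [← LinearMap.comp_apply, ← LinearMap.rTensor_comp, LinearMap.proj_comp_single_same,
          LinearMap.rTensor_id, LinearMap.id_apply]
      · intro j _ hji
        rw [← LinearMap.comp_apply, ← LinearMap.rTensor_comp,
          show (LinearMap.proj i : S →ₗ[R] T i) ∘ₗ LinearMap.single R T j = 0 from
            LinearMap.ext fun x => by simp [hji.symm],
          LinearMap.rTensor_zero, LinearMap.zero_apply]
      · simp
    obtain ⟨b, hb⟩ := descend (R := R) (T := S) z (by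
      refine piTensor_injective T fun i => ?_
      let L : T i ⊗[R] (S ⊗[R] B) ≃ₗ[R] S ⊗[R] (T i ⊗[R] B) := TensorProduct.leftComm R (T i) S B
      apply L.injective
      refine piTensor_injective T fun j => ?_
      let Φ : T j ⊗[R] (T i ⊗[R] B) ≃ₗ[R] (T i ⊗[R] T j) ⊗[R] B :=
        (TensorProduct.leftComm R (T j) (T i) B).trans (TensorProduct.assoc R (T i) (T j) B).symm
      apply Φ.injective
      have e1 : ∀ w : S ⊗[R] B, Φ ((LinearMap.proj (R := R) (φ := T) j).rTensor _
          (L ((LinearMap.proj (R := R) (φ := T) i).rTensor _ ((1 : S) ⊗ₜ[R] w)))) =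
          bc (Algebra.TensorProduct.includeRight : T j →ₐ[R] T i ⊗[R] T j)
            ((LinearMap.proj (R := R) (φ := T) j).rTensor B w) := by
        intro w
        induction w using TensorProduct.induction_on with
        | zero => simp
        | tmul s x => simp [Φ, L, bc_tmul, h1S]
        | add p q hp hq => simp only [tmul_add, map_add, hp, hq]
      have e2 : ∀ w : S ⊗[R] B, Φ ((LinearMap.proj (R := R) (φ := T) j).rTensor _
          (L ((LinearMap.proj (R := R) (φ := T) i).rTensor _ ((TensorProduct.mk R S B 1).lTensor S w)))) =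
          bc (Algebra.TensorProduct.includeLeft : T i →ₐ[R] T i ⊗[R] T j)
            ((LinearMap.proj (R := R) (φ := T) i).rTensor B w) := by
        intro w
        induction w using TensorProduct.induction_on with
        | zero => simp
        | tmul s x => simp [Φ, L, bc_tmul, h1S]
        | add p q hp hq => simp only [map_add, hp, hq]
      rw [e1, e2, hzi, hzi, h i j c])
    exact ⟨b, fun i => by rw [← hzi i, ← hb]; simp [h1S]⟩
  choose φ hφ using hd
  have inj : ∀ b b' : B, (∀ i, (1 : T i) ⊗ₜ[R] b = (1 : T i) ⊗ₜ[R] b') → b = b' := fun b b' hbb =>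
    Module.FaithfullyFlat.tensorProduct_mk_injective (A := R) (B := S) B (piTensor_injective T fun i => by
      simpa [h1S] using hbb i)
  have inj2 : ∀ x y : B ⊗[R] B, (∀ i, sq (R := R) (T i) B x = sq (R := R) (T i) B y) → x = y := by
    intro x y hxy
    refine Module.FaithfullyFlat.tensorProduct_mk_injective (A := R) (B := S) (B ⊗[R] B) (piTensor_injective T fun i => ?_)
    apply (TensorProduct.AlgebraTensorModule.distribBaseChange R (T i) B B).injective
    have key : ∀ y : B ⊗[R] B, TensorProduct.AlgebraTensorModule.distribBaseChange R (T i) B B ((1 : T i) ⊗ₜ[R] y) =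
        sq (R := R) (T i) B y := by
      intro y
      induction y using TensorProduct.induction_on with
      | zero => simp
      | tmul a b => rfl
      | add p q hp hq => simp only [tmul_add, map_add, hp, hq]
    simp only [TensorProduct.mk_apply, LinearMap.rTensor_tmul, LinearMap.proj_apply, h1S, key]
    exact hxy i
  let φa : C →ₐ[R] B :=
    { toFun := φ
      map_one' := inj _ _ fun i => by
        rw [hφ, ← Algebra.TensorProduct.one_def, map_one, ← Algebra.TensorProduct.one_def]
      map_mul' := fun a b => inj _ _ fun i => by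
        rw [show (1 : T i) ⊗ₜ[R] (φ a * φ b) = ((1 : T i) ⊗ₜ[R] φ a) * ((1 : T i) ⊗ₜ[R] φ b) by simp, hφ, hφ, hφ,
          ← map_mul (f i)]
        simp
      map_zero' := inj _ _ fun i => by simp [hφ]
      map_add' := fun a b => inj _ _ fun i => by simp [hφ, tmul_add]
      commutes' := fun r => inj _ _ fun i => by
        rw [hφ, Algebra.algebraMap_eq_smul_one, Algebra.algebraMap_eq_smul_one, tmul_smul, tmul_smul,
          ← algebraMap_smul (T i), map_smul, algebraMap_smul, ← Algebra.TensorProduct.one_def, map_one,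
          ← Algebra.TensorProduct.one_def] }
  refine ⟨BialgHom.ofAlgHom φa (AlgHom.ext fun c => ?_) (AlgHom.ext fun c => ?_), fun i c => (hφ c i).symm⟩
  · show CoalgebraStruct.counit (R := R) (φ c) = CoalgebraStruct.counit (R := R) c
    refine FaithfulSMul.algebraMap_injective R S (funext fun i => ?_)
    show algebraMap R (T i) _ = algebraMap R (T i) _
    have h1 : ∀ {X : Type u} [CommRing X] [HopfAlgebra R X] (x : X),
        CoalgebraStruct.counit (R := T i) ((1 : T i) ⊗ₜ[R] x) = algebraMap R (T i) (CoalgebraStruct.counit (R := R) x) :=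
      fun x => by simp [Algebra.algebraMap_eq_smul_one]
    rw [← h1, hφ, CoalgHomClass.counit_comp_apply (f i), h1]
  · show TensorProduct.map φa.toLinearMap φa.toLinearMap (CoalgebraStruct.comul (R := R) c) =
      CoalgebraStruct.comul (R := R) (φ c)
    refine inj2 _ _ fun i => ?_
    rw [← comul_one_tmul, hφ, ← CoalgHomClass.map_comp_comul_apply (f i), comul_one_tmul]
    generalize CoalgebraStruct.comul (R := R) c = z
    induction z using TensorProduct.induction_on with
    | zero => simp
    | tmul x y =>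
      rw [TensorProduct.map_tmul, sq_tmul, sq_tmul, TensorProduct.map_tmul]
      show ((1 : T i) ⊗ₜ[R] φ x) ⊗ₜ[T i] ((1 : T i) ⊗ₜ[R] φ y) = _
      rw [hφ, hφ]
      rfl
    | add p q hp hq => simp only [map_add, hp, hq]

set_option synthInstance.maxHeartbeats 400000 in
/-- Homomorphisms of groups of multiplicative type lift along nil ideals. -/
theorem exists_hom_lift_nil (hB : HasSplitting R B) (hC : HasSplitting R C) (I : Ideal R)
    (hI : ∀ x ∈ I, IsNilpotent x) (φ₀ : (R ⧸ I) ⊗[R] C →ₐc[R ⧸ I] (R ⧸ I) ⊗[R] B) :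
    ∃ φ : C →ₐc[R] B, ∀ c, φ₀ ((1 : R ⧸ I) ⊗ₜ[R] c) = (1 : R ⧸ I) ⊗ₜ[R] φ c := by
  classical
  haveI := flat_of_splitting hB
  obtain ⟨ι, _, T, _, _, hff, hd⟩ := id hC
  haveI := hff
  choose N hN e using hd
  letI : ∀ i, CommGroup (N i) := hN
  let J : ∀ i, Ideal (T i) := fun i => I.map (algebraMap R (T i))
  have hJ : ∀ i, ∀ x ∈ J i, IsNilpotent x := fun i x hx =>
    mem_nilradical.mp ((Ideal.map_le_iff_le_comap (f := algebraMap R (T i)) (K := nilradical (T i))).mpr (fun r hr =>
      mem_nilradical.mpr ((hI r hr).map (algebraMap R (T i)))) hx)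
  haveI : ∀ i, HenselianRing (T i) (J i) := fun i => S0527.result (T i) (J i) (hJ i)
  let j : ∀ i, R ⧸ I →ₐ[R] T i ⧸ J i := fun i =>
    Ideal.Quotient.liftₐ I (Algebra.ofId R _) fun r hr =>
      Ideal.Quotient.eq_zero_iff_mem.mpr (Ideal.mem_map_of_mem _ hr)
  choose f hf using fun i => lift_piece hB (J i) (diagHom (e i).some) (theta_diagHom_bijective _) (homBC (j i) φ₀)
  have hov : ∀ i k, homBC (Algebra.TensorProduct.includeLeft : T i →ₐ[R] T i ⊗[R] T k) (f i) =
      homBC (Algebra.TensorProduct.includeRight : T k →ₐ[R] T i ⊗[R] T k) (f k) := by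
    intro i k
    refine hom_eq_of_congr_max (hB.baseChange _) (hC.baseChange _) _ _ fun n hn c => mem_smul_top_of_bc n _ ?_
    haveI := hn
    rw [map_sub, sub_eq_zero]
    let q : T i ⊗[R] T k →ₐ[R] (T i ⊗[R] T k) ⧸ n := Ideal.Quotient.mkₐ R n
    have hval : ∀ (l : ι) (iv : T l →ₐ[R] T i ⊗[R] T k), ∃ τ : R ⧸ I →ₐ[R] (T i ⊗[R] T k) ⧸ n, ∀ a : C,
        bc q (homBC iv (f l) ((1 : T i ⊗[R] T k) ⊗ₜ a)) = bc τ (φ₀ ((1 : R ⧸ I) ⊗ₜ a)) := by
      intro l iv
      have hkill : ∀ x ∈ J l, q (iv x) = 0 := fun x hx =>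
        Ideal.Quotient.eq_zero_iff_mem.mpr (by
          obtain ⟨m, hm⟩ := ((hJ l) x hx).map iv
          exact hn.isPrime.mem_of_pow_mem m (by rw [hm]; exact zero_mem n))
      let t : T l ⧸ J l →ₐ[R] (T i ⊗[R] T k) ⧸ n := Ideal.Quotient.liftₐ (J l) (q.comp iv) hkill
      have e : q.comp iv = t.comp (Ideal.Quotient.mkₐ R (J l)) := AlgHom.ext fun x => rfl
      refine ⟨t.comp (j l), fun a => ?_⟩
      rw [homBC_one_tmul, bc_bc]
      refine (congrArg (fun g => bc g (f l ((1 : T l) ⊗ₜ a))) e).trans ?_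
      generalize t = t'
      rw [← bc_bc, hf, bc_tmul, map_one, homBC_one_tmul, bc_bc]
    induction c using TensorProduct.induction_on with
    | zero => simp
    | tmul v a =>
      obtain ⟨τ₁, h₁⟩ := hval i Algebra.TensorProduct.includeLeft
      obtain ⟨τ₂, h₂⟩ := hval k Algebra.TensorProduct.includeRight
      have hτ : τ₁ = τ₂ := AlgHom.ext fun x => by
        obtain ⟨r, rfl⟩ := Ideal.Quotient.mk_surjective x
        exact (AlgHom.commutes τ₁ r).trans (AlgHom.commutes τ₂ r).symm
      rw [tmul_eq_smul v a, map_smul (homBC _ (f i)), map_smul (homBC _ (f k)), bc_smul, bc_smul, h₁, h₂, hτ]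
    | add p q hp hq => simp only [map_add, hp, hq]
  obtain ⟨φ, hφ⟩ := descend_family T f fun i k c => by
    rw [← homBC_one_tmul, ← homBC_one_tmul, hov i k]
  refine ⟨φ, fun c => ?_⟩
  refine Module.FaithfullyFlat.tensorProduct_mk_injective (A := R) (B := ∀ i, T i) ((R ⧸ I) ⊗[R] B) ?_
  refine piTensor_injective T fun i => ?_
  simp only [TensorProduct.mk_apply, LinearMap.rTensor_tmul, LinearMap.proj_apply, Pi.one_apply]
  let Ψ : (T i ⧸ J i) ⊗[R] B ≃ₗ[R] T i ⊗[R] ((R ⧸ I) ⊗[R] B) :=
    ((TensorProduct.congr (((Algebra.TensorProduct.quotIdealMapEquivTensorQuot (T i) I).toLinearEquiv.restrictScalars R))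
      (LinearEquiv.refl R B)).trans (TensorProduct.assoc R (T i) (R ⧸ I) B))
  have hΨ : ∀ w : (R ⧸ I) ⊗[R] B, Ψ (bc (j i) w) = (1 : T i) ⊗ₜ[R] w := by
    intro w
    induction w using TensorProduct.induction_on with
    | zero => simp
    | tmul r b =>
      obtain ⟨r, rfl⟩ := Ideal.Quotient.mk_surjective r
      have hq : (Algebra.TensorProduct.quotIdealMapEquivTensorQuot (T i) I) (j i (Ideal.Quotient.mk I r)) =
          (1 : T i) ⊗ₜ[R] Ideal.Quotient.mk I r := by
        show (Algebra.TensorProduct.quotIdealMapEquivTensorQuot (T i) I) (Ideal.Quotient.mk (J i) (algebraMap R (T i) r)) = _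
        simp [Algebra.algebraMap_eq_smul_one, smul_tmul, J]
        rw [← TensorProduct.tmul_smul, ← Algebra.algebraMap_eq_smul_one]; rfl
      simp [Ψ, bc_tmul, hq]
    | add p q hp hq => simp only [map_add, tmul_add, hp, hq]
  rw [← hΨ, ← hΨ]
  congr 1
  rw [← homBC_one_tmul, show ((1 : T i ⧸ J i) ⊗ₜ[R] c) = bc (Ideal.Quotient.mkₐ R (J i)) ((1 : T i) ⊗ₜ[R] c) by
    rw [bc_tmul, map_one], ← hf, hφ, bc_tmul, bc_tmul, map_one, map_one]

end Groth.Agent.H8MultHomLift
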