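import Mathlib
import Groth.Prelude.Def_EtGm

/-! The power map on units is locally surjective for the étale topology. -/

set_option autoImplicit false
universe u
open CategoryTheory Category Limits Opposite AlgebraicGeometry

noncomputable section

namespace Groth.Agent.H8Kummer

theorem exists_root {R : Type u} [CommRing R] (n : ℕ) (hn : IsUnit (n : R)) (a : Rˣ) :
    ∃ (R' : Type u) (_ : CommRing R') (_ : Algebra R R'), Algebra.Etale R R' ∧
      Function.Surjective (PrimeSpectrum.comap (algebraMap R R')) ∧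
      ∃ x : R'ˣ, x ^ n = Units.map (algebraMap R R').toMonoidHom a := by
  rcases Nat.eq_zero_or_pos n with rfl | hpos
  · haveI : Subsingleton R := by
      rw [Nat.cast_zero, isUnit_zero_iff] at hn
      exact subsingleton_of_zero_eq_one hn
    refine ⟨R, inferInstance, inferInstance, inferInstance, fun p => ⟨p, ?_⟩, 1, Units.ext (Subsingleton.elim _ _)⟩
    exact (inferInstance : IsEmpty (PrimeSpectrum R)).false p |>.elim
  let F : Polynomial R := Polynomial.X ^ n - Polynomial.C (a : R)
  obtain ⟨c, hc⟩ : ∃ c : R, (n : R) * (a : R) * c = 1 := isUnit_iff_exists_inv.mp (hn.mul a.isUnit)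
  let P : StandardEtalePair R := ⟨F, Polynomial.monic_X_pow_sub_C _ hpos.ne', 1,
    Polynomial.X * Polynomial.C c, -(Polynomial.C ((n : R) * c)), 0, by
      obtain ⟨m, rfl⟩ : ∃ m, n = m + 1 := ⟨n - 1, by omega⟩
      simp only [F, Polynomial.derivative_sub, Polynomial.derivative_X_pow, Polynomial.derivative_C, sub_zero,
        Nat.add_sub_cancel, map_mul, pow_zero]
      have : Polynomial.C ((m + 1 : ℕ) : R) * Polynomial.C (a : R) * Polynomial.C c = 1 := by
        rw [← map_mul, ← map_mul, hc, map_one]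
      linear_combination this⟩
  have hpow : (P.X : P.Ring) ^ n = algebraMap R P.Ring (a : R) := by
    have h := P.hasMap_X.1
    simpa [P, F, sub_eq_zero] using h
  refine ⟨P.Ring, inferInstance, inferInstance, inferInstance, fun p => ?_, ?_⟩
  · let K := AlgebraicClosure p.asIdeal.ResidueField
    obtain ⟨z, hz⟩ := IsAlgClosed.exists_pow_nat_eq (algebraMap R K (a : R)) hpos
    let L := P.lift z ⟨by simp [P, F, hz], by simp [P]⟩
    refine ⟨⟨RingHom.ker L, RingHom.ker_isPrime _⟩, PrimeSpectrum.ext (Ideal.ext fun r => ?_)⟩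
    show algebraMap R P.Ring r ∈ RingHom.ker L ↔ r ∈ p.asIdeal
    rw [RingHom.mem_ker, AlgHom.commutes, IsScalarTower.algebraMap_apply R p.asIdeal.ResidueField K,
      map_eq_zero, Ideal.algebraMap_residueField_eq_zero]
  · have hu : IsUnit (P.X : P.Ring) := by
      refine (isUnit_pow_iff hpos.ne').mp ?_
      rw [hpow]
      exact (a.isUnit).map _
    exact ⟨hu.unit, Units.ext (by simpa using hpow)⟩

set_option backward.isDefEq.respectTransparency false in
theorem powMap_epi (S : Scheme.{u}) (n : ℕ) (hn : IsUnit (n : Γ(S, ⊤))) : Epi (EtCoh.powMap S n) := by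
  have : Sheaf.IsLocallySurjective (EtCoh.powMap S n) := by
    constructor
    intro W s
    let a : Γ(W.left, ⊤)ˣ := Additive.toMul s.down
    have key : ∀ w : W.left, ∃ (V : S.Etale) (g : V ⟶ W), w ∈ Set.range g.left.base ∧
        ∃ x : Γ(V.left, ⊤)ˣ, x ^ n = Units.map g.left.appTop.hom.toMonoidHom a := by
      intro w
      obtain ⟨_, ⟨U, hU, rfl⟩, hwU, -⟩ := W.left.isBasis_affineOpens.exists_subset_of_mem_open (Set.mem_univ w) isOpen_univ
      obtain ⟨p, hp⟩ : w ∈ Set.range hU.fromSpec.base := by rwa [hU.range_fromSpec]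
      let R : CommRingCat := Γ(Spec Γ(W.left, U), ⊤)
      let e : Γ(W.left, U) ≅ R := (Scheme.ΓSpecIso _).symm
      let res : Γ(W.left, ⊤) →+* Γ(W.left, U) := (hU.fromSpec.appTop ≫ (Scheme.ΓSpecIso _).hom).hom
      have hn' : IsUnit (n : Γ(W.left, U)) := by
        have h := hn.map (res.comp W.hom.appTop.hom)
        rwa [map_natCast] at h
      obtain ⟨R', _, _, hR', hsurj, x, hx⟩ := exists_root n hn' (Units.map res.toMonoidHom a)
      let α : Γ(W.left, U) ⟶ CommRingCat.of R' := CommRingCat.ofHom (algebraMap Γ(W.left, U) R')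
      haveI : Etale (Spec.map α) := (HasRingHomProperty.Spec_iff (P := @Etale)).mpr
        (RingHom.etale_algebraMap.mpr hR')
      haveI : Etale W.hom := W.prop
      let g₀ : Spec (CommRingCat.of R') ⟶ W.left := Spec.map α ≫ hU.fromSpec
      haveI : Etale (g₀ ≫ W.hom) := inferInstance
      let V : S.Etale := MorphismProperty.Over.mk ⊤ (g₀ ≫ W.hom) (inferInstanceAs (Etale (g₀ ≫ W.hom)))
      let g : V ⟶ W := MorphismProperty.Over.homMk g₀ rfl trivial
      obtain ⟨q, hq⟩ := hsurj p
      refine ⟨V, g, ⟨q, ?_⟩, Units.map (Scheme.ΓSpecIso (CommRingCat.of R')).inv.hom.toMonoidHom x, ?_⟩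
      · show hU.fromSpec.base ((Spec.map α).base q) = w
        rw [← hp]
        exact congrArg hU.fromSpec.base hq
      · refine (map_pow _ _ _).symm.trans ?_
        rw [hx]
        ext
        show (Scheme.ΓSpecIso (CommRingCat.of R')).inv (α (res (a : Γ(W.left, ⊤)))) = g₀.appTop (a : Γ(W.left, ⊤))
        simp only [g₀, Scheme.Hom.comp_appTop, CommRingCat.comp_apply]
        rw [← CommRingCat.comp_apply α, Scheme.ΓSpecIso_inv_naturality]
        simp only [res, CommRingCat.comp_apply, CommRingCat.hom_comp, RingHom.comp_apply, Iso.hom_inv_id_apply]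
    choose V g hw x hx using key
    refine GrothendieckTopology.superset_covering _ ?_
      ((Scheme.ofArrows_mem_smallEtaleTopology_iff g).mpr (Set.eq_univ_of_forall fun w => Set.mem_iUnion.mpr ⟨w, hw w⟩))
    rw [Sieve.ofArrows, Sieve.generate_le_iff]
    rintro _ _ ⟨w⟩
    refine ⟨ULift.up (Additive.ofMul (x w)), ?_⟩
    have e : ∀ (m : ℕ) (t), (m • 𝟙 (EtCoh.Gm S)).hom.app (op (V w)) t = m • t := by
      intro m t
      induction m with
      | zero => simp
      | succ m ih => simp [succ_nsmul, ih]
    refine (e n _).trans ?_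
    apply ULift.ext
    show n • Additive.ofMul (x w) = Additive.ofMul (Units.map (g w).left.appTop.hom.toMonoidHom a)
    rw [← ofMul_pow, hx]
  exact (Sheaf.isLocallySurjective_iff_epi' (C := S.Etale) (J := S.smallEtaleTopology) AddCommGrpCat.{u + 1} _).1 this

end Groth.Agent.H8Kummer
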