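import Mathlib
import Groth.Prelude.Def_DDual2
import Groth.Agent.Lib.H5DTen

/-! Derived base change is left adjoint to restriction of scalars. -/

set_option autoImplicit false
universe u v₁ v₂ u₁ u₂
open CategoryTheory Category Limits
attribute [local instance] HasDerivedCategory.standard

noncomputable section

namespace Groth.Agent.H8LBaseAdj

section res
variable {A B : Type u} [CommRing A] [CommRing B] (φ : A →+* B)

theorem lResolving_Qh : H5DTen.LResolving (DerivedCategory.Qh (C := ModuleCat.{u} A))
    (fun X : HomotopyCategory (ModuleCat.{u} A) (ComplexShape.up ℤ) => CochainComplex.IsKProjective X.as) where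
  surj I X hI ψ := by
    obtain ⟨K, rfl⟩ := HomotopyCategory.quotient_obj_surjective I
    have : CochainComplex.IsKProjective K := hI
    exact (CochainComplex.IsKProjective.Qh_map_bijective K X).surjective ψ
  ess Y := by
    obtain ⟨K, f, hK, hf⟩ := H5KFlat.exists_nice_resolution (DerivedCategory.Q.objPreimage Y)
    exact ⟨(HomotopyCategory.quotient _ _).obj K, hK.kproj,
      ⟨(DerivedCategory.quotientCompQhIso _).app K ≪≫ asIso (DerivedCategory.Q.map f) ≪≫
        DerivedCategory.Q.objObjPreimageIso Y⟩⟩

theorem lCompat_baseChange : H5DTen.LCompat (DerivedCategory.Qh (C := ModuleCat.{u} A))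
    (fun X : HomotopyCategory (ModuleCat.{u} A) (ComplexShape.up ℤ) => CochainComplex.IsKProjective X.as)
    (DRing.baseChangeKh φ) := by
  intro I X hI f g h
  obtain ⟨K, rfl⟩ := HomotopyCategory.quotient_obj_surjective I
  have : CochainComplex.IsKProjective K := hI
  rw [(CochainComplex.IsKProjective.Qh_map_bijective K X).injective h]
end res

/-- an adjunction on homotopy categories -/
def adjKh {A : Type u₁} [Category.{v₁} A] [Preadditive A] {B : Type u₂} [Category.{v₂} B] [Preadditive B]
    {L : A ⥤ B} {R : B ⥤ A} (adj : L ⊣ R) [L.Additive] [R.Additive] :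
    L.mapHomotopyCategory (.up ℤ) ⊣ R.mapHomotopyCategory (.up ℤ) :=
  Adjunction.mkOfUnitCounit
    { unit :=
        { app := fun X => (NatTrans.mapHomotopyCategory adj.unit (.up ℤ)).app X
          naturality := fun X Y f => by
            obtain ⟨K⟩ := X
            obtain ⟨K'⟩ := Y
            obtain ⟨g, rfl⟩ := (HomotopyCategory.quotient A _).map_surjective f
            change (HomotopyCategory.quotient A _).map g ≫
                (HomotopyCategory.quotient A _).map ((NatTrans.mapHomologicalComplex adj.unit _).app K') =
              (HomotopyCategory.quotient A _).map ((NatTrans.mapHomologicalComplex adj.unit _).app K) ≫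
                (HomotopyCategory.quotient A _).map ((R.mapHomologicalComplex _).map ((L.mapHomologicalComplex _).map g))
            rw [← Functor.map_comp, ← Functor.map_comp]
            congr 1
            ext i
            exact adj.unit.naturality (g.f i) }
      counit :=
        { app := fun X => (NatTrans.mapHomotopyCategory adj.counit (.up ℤ)).app X
          naturality := fun X Y f => by
            obtain ⟨K⟩ := X
            obtain ⟨K'⟩ := Y
            obtain ⟨g, rfl⟩ := (HomotopyCategory.quotient B _).map_surjective f
            change (HomotopyCategory.quotient B _).map ((L.mapHomologicalComplex _).map ((R.mapHomologicalComplex _).map g)) ≫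
                (HomotopyCategory.quotient B _).map ((NatTrans.mapHomologicalComplex adj.counit _).app K') =
              (HomotopyCategory.quotient B _).map ((NatTrans.mapHomologicalComplex adj.counit _).app K) ≫
                (HomotopyCategory.quotient B _).map g
            rw [← Functor.map_comp, ← Functor.map_comp]
            congr 1
            ext i
            exact adj.counit.naturality (g.f i) }
      left_triangle := by
        apply NatTrans.ext; funext X
        obtain ⟨K⟩ := X
        simp only [NatTrans.comp_app, Functor.whiskerRight_app, Functor.whiskerLeft_app, Functor.associator_hom_app,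
          Category.id_comp, NatTrans.id_app]
        change (HomotopyCategory.quotient B _).map ((L.mapHomologicalComplex _).map
            ((NatTrans.mapHomologicalComplex adj.unit _).app K)) ≫
          (HomotopyCategory.quotient B _).map ((NatTrans.mapHomologicalComplex adj.counit _).app
            ((L.mapHomologicalComplex _).obj K)) = (HomotopyCategory.quotient B _).map (𝟙 ((L.mapHomologicalComplex _).obj K))
        rw [← Functor.map_comp]
        congr 1
        ext i
        exact adj.left_triangle_components (K.X i)
      right_triangle := by
        apply NatTrans.ext; funext X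
        obtain ⟨K⟩ := X
        simp only [NatTrans.comp_app, Functor.whiskerRight_app, Functor.whiskerLeft_app, Functor.associator_inv_app,
          Category.id_comp, NatTrans.id_app]
        change (HomotopyCategory.quotient A _).map ((NatTrans.mapHomologicalComplex adj.unit _).app
            ((R.mapHomologicalComplex _).obj K)) ≫
          (HomotopyCategory.quotient A _).map ((R.mapHomologicalComplex _).map
            ((NatTrans.mapHomologicalComplex adj.counit _).app K)) = (HomotopyCategory.quotient A _).map (𝟙 ((R.mapHomologicalComplex _).obj K))
        rw [← Functor.map_comp]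
        congr 1
        ext i
        exact adj.right_triangle_components (K.X i) }

theorem result {R A : Type u} [CommRing R] [CommRing A] (φ : R →+* A) [DRing.HasLBaseChange φ] :
    Nonempty (DRing.LBaseChange φ ⊣ DRing.restrictD φ) := by
  let W₁ := HomotopyCategory.quasiIso (ModuleCat.{u} R) (ComplexShape.up ℤ)
  let W₂ := HomotopyCategory.quasiIso (ModuleCat.{u} A) (ComplexShape.up ℤ)
  let Q₁ := DerivedCategory.Qh (C := ModuleCat.{u} R)
  let Q₂ := DerivedCategory.Qh (C := ModuleCat.{u} A)
  let G' := DRing.LBaseChange φ
  let F' := DRing.restrictD φ
  let α := (DRing.baseChangeKh φ).totalLeftDerivedCounit DerivedCategory.Qh W₁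
  let e := (ModuleCat.restrictScalars.{u} φ).mapDerivedCategoryFactorsh
  let β := e.inv
  haveI : F'.IsRightDerivedFunctor β W₂ := Functor.isRightDerivedFunctor_of_inverts W₂ F' e
  haveI : (F' ⋙ G').IsRightDerivedFunctor (Functor.whiskerRight β G' ≫ (Functor.associator _ _ _).hom) W₂ :=
    Functor.isRightDerivedFunctor_of_inverts W₂ (F' ⋙ G')
      ((Functor.associator _ _ _).symm ≪≫ Functor.isoWhiskerRight e G')
  haveI : (G' ⋙ F').IsLeftDerivedFunctor ((Functor.associator _ _ _).inv ≫ Functor.whiskerRight α F') W₁ := by
    have R₁ := lResolving_Qh (A := R)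
    have hC := lCompat_baseChange φ
    have hC' : H5DTen.LCompat Q₁ (fun X => CochainComplex.IsKProjective X.as) (DRing.baseChangeKh φ ⋙ F') :=
      fun I X hI f g h => congrArg F'.map (hC I X hI f g h)
    haveI := R₁.isLeftDerived hC' W₁
    rw [Functor.isLeftDerivedFunctor_iff_isIso_leftDerivedLift (R₁.LF hC') (R₁.counit hC') W₁]
    let τ := (R₁.LF hC').leftDerivedLift (R₁.counit hC') W₁ (G' ⋙ F')
      ((Functor.associator _ _ _).inv ≫ Functor.whiskerRight α F')
    have key : ∀ I : HomotopyCategory (ModuleCat.{u} R) (.up ℤ), CochainComplex.IsKProjective I.as →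
        IsIso (τ.app (Q₁.obj I)) := by
      intro I hI
      haveI := R₁.isIso_counit_app hC' I hI
      haveI : IsIso (α.app I) := R₁.isIso_counit hC W₁ G' α I hI
      haveI : IsIso (((Functor.associator _ _ _).inv ≫ Functor.whiskerRight α F').app I) := by
        simp only [NatTrans.comp_app, Functor.whiskerRight_app, Functor.associator_inv_app]
        infer_instance
      exact IsIso.of_isIso_fac_right ((R₁.LF hC').leftDerived_fac_app (R₁.counit hC') W₁ (G' ⋙ F') _ I)
    haveI : ∀ K, IsIso (τ.app K) := fun K =>
      (NatTrans.isIso_app_iff_of_iso τ (R₁.resIso K)).1 (key _ (R₁.res_mem K))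
    exact NatIso.isIso_of_isIso_app τ
  exact ⟨(adjKh (ModuleCat.extendRestrictScalarsAdj φ)).derived W₁ W₂ α β⟩

end Groth.Agent.H8LBaseAdj
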