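import Mathlib
import Groth.Prelude.Def_W4c4lgringredgrpLG

/-! Projective modules over LG-rings are determined by their ranks. -/

universe u v w

open TensorProduct

namespace Groth.Agent.H8LGRing

variable {R : Type u} [CommRing R]

section Extend

variable {M : Type v} [AddCommGroup M] [Module R M] {n : ℕ}

/-- Extension of an endomorphism of a direct summand by the identity of the complement. -/
def ext0 (π : (Fin n → R) →ₗ[R] M) (ι : M →ₗ[R] Fin n → R) (u : M →ₗ[R] M) : (Fin n → R) →ₗ[R] Fin n → R :=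
  LinearMap.id + ι ∘ₗ (u - LinearMap.id) ∘ₗ π

theorem bijective_of_isUnit_det {π : (Fin n → R) →ₗ[R] M} {ι : M →ₗ[R] Fin n → R} (h : π ∘ₗ ι = LinearMap.id)
    {u : M →ₗ[R] M} (hu : IsUnit (LinearMap.toMatrix' (ext0 π ι u)).det) : Function.Bijective u := by
  have hb : IsUnit (ext0 π ι u) := by
    rw [LinearMap.det_toMatrix'] at hu
    exact (LinearMap.isUnit_iff_isUnit_det _).mpr hu
  have hE : Function.Bijective (ext0 π ι u) := (Module.End.isUnit_iff _).mp hb
  have hπι : ∀ x, π (ι x) = x := fun x => LinearMap.congr_fun h x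
  have h1 : ∀ x, ext0 π ι u (ι x) = ι (u x) := fun x => by simp [ext0, hπι]
  have h2 : ∀ y, π (ext0 π ι u y) = u (π y) := fun y => by simp [ext0, hπι]
  refine ⟨fun x y hxy => ?_, fun x => ?_⟩
  · rw [← hπι x, ← hπι y, hE.1 (a₁ := ι x) (a₂ := ι y) (by rw [h1, h1, hxy])]
  · obtain ⟨y, hy⟩ := hE.2 (ι x)
    exact ⟨π y, by rw [← h2, hy, hπι]⟩

theorem det_mod {π : (Fin n → R) →ₗ[R] M} {ι : M →ₗ[R] Fin n → R} (m : Ideal R) {u : M →ₗ[R] M}
    (hu : ∀ x, (1 : R ⧸ m) ⊗ₜ[R] u x = (1 : R ⧸ m) ⊗ₜ[R] x) :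
    Ideal.Quotient.mk m (LinearMap.toMatrix' (ext0 π ι u)).det = 1 := by
  classical
  rw [RingHom.map_det]
  convert Matrix.det_one (n := Fin n) (R := R ⧸ m)
  refine Matrix.ext fun i j => ?_
  let x : M := π (Pi.single j 1)
  have h1 := congrArg (fun z => TensorProduct.rid R (R ⧸ m) ((LinearMap.proj i ∘ₗ ι).lTensor (R ⧸ m) z)) (hu x)
  simp only [LinearMap.lTensor_tmul, TensorProduct.rid_tmul, LinearMap.comp_apply, LinearMap.proj_apply] at h1
  rw [← Algebra.algebraMap_eq_smul_one, ← Algebra.algebraMap_eq_smul_one] at h1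
  have e : ext0 π ι u (Pi.single j 1) i = (Pi.single j 1 : Fin n → R) i + (ι (u x) i - ι x i) := by simp [ext0, x]
  rw [RingHom.mapMatrix_apply, Matrix.map_apply, LinearMap.toMatrix'_apply, e, map_add, map_sub,
    show Ideal.Quotient.mk m (ι (u x) i) = Ideal.Quotient.mk m (ι x i) from h1, sub_self, add_zero]
  by_cases hij : i = j
  · subst hij; simp
  · simp [Matrix.one_apply_ne hij, Pi.single_eq_of_ne hij]

/-- The determinant of an endomorphism depending bilinearly on parameters, as a polynomial. -/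
theorem exists_det_poly (π : (Fin n → R) →ₗ[R] M) (ι : M →ₗ[R] Fin n → R) {a b : ℕ}
    (B : Fin a → Fin b → (M →ₗ[R] M)) :
    ∃ P : MvPolynomial (Fin (a + b)) R, ∀ s : Fin (a + b) → R,
      MvPolynomial.aeval s P =
        (LinearMap.toMatrix' (ext0 π ι (∑ i, ∑ j, (s (Fin.castAdd b i) * s (Fin.natAdd a j)) • B i j))).det := by
  classical
  let C0 : Matrix (Fin n) (Fin n) R := LinearMap.toMatrix' (LinearMap.id - ι ∘ₗ π)
  let C1 : Fin a → Fin b → Matrix (Fin n) (Fin n) R := fun i j => LinearMap.toMatrix' (ι ∘ₗ B i j ∘ₗ π)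
  refine ⟨(C0.map MvPolynomial.C + ∑ i, ∑ j,
    (MvPolynomial.X (Fin.castAdd b i) * MvPolynomial.X (Fin.natAdd a j) : MvPolynomial (Fin (a + b)) R) •
      (C1 i j).map MvPolynomial.C).det, fun s => ?_⟩
  rw [AlgHom.map_det]
  congr 1
  refine Matrix.ext fun p q => ?_
  simp only [AlgHom.mapMatrix_apply, Matrix.map_apply, Matrix.add_apply, Matrix.sum_apply, Matrix.smul_apply, map_add,
    map_sum, smul_eq_mul, map_mul, MvPolynomial.aeval_X, MvPolynomial.aeval_C, Algebra.algebraMap_self, RingHom.id_apply]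
  simp only [C0, C1, LinearMap.toMatrix'_apply]
  simp only [ext0, LinearMap.sub_apply, LinearMap.comp_apply, LinearMap.id_apply,
    LinearMap.add_apply, LinearMap.sum_apply, LinearMap.smul_apply, map_sub, map_sum, map_smul, Pi.add_apply,
    Pi.sub_apply, Finset.sum_apply, Pi.smul_apply, smul_eq_mul]
  abel

end Extend

theorem exists_lift_equiv {M₁ : Type v} {M₂ : Type w} [AddCommGroup M₁] [Module R M₁] [Module.Projective R M₁]
    [AddCommGroup M₂] [Module R M₂] (m : Ideal R) (e : ((R ⧸ m) ⊗[R] M₁) →ₗ[R ⧸ m] ((R ⧸ m) ⊗[R] M₂)) :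
    ∃ φ : M₁ →ₗ[R] M₂, ∀ x, (1 : R ⧸ m) ⊗ₜ[R] φ x = e ((1 : R ⧸ m) ⊗ₜ[R] x) := by
  have hs : Function.Surjective (TensorProduct.mk R (R ⧸ m) M₂ 1) := by
    intro z
    induction z using TensorProduct.induction_on with
    | zero => exact ⟨0, by simp⟩
    | tmul c y =>
      obtain ⟨r, rfl⟩ := Ideal.Quotient.mk_surjective c
      refine ⟨r • y, ?_⟩
      rw [TensorProduct.mk_apply, ← TensorProduct.smul_tmul, ← Algebra.algebraMap_eq_smul_one]
      rfl
    | add a b ha hb =>
      obtain ⟨a, rfl⟩ := ha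
      obtain ⟨b, rfl⟩ := hb
      exact ⟨a + b, map_add _ _ _⟩
  obtain ⟨φ, hφ⟩ := Module.projective_lifting_property (TensorProduct.mk R (R ⧸ m) M₂ 1)
    (e.restrictScalars R ∘ₗ TensorProduct.mk R (R ⧸ m) M₁ 1) hs
  exact ⟨φ, fun x => LinearMap.congr_fun hφ x⟩

theorem finrank_quotient_tensor (M : Type v) [AddCommGroup M] [Module R M] [Module.Finite R M] [Module.Projective R M]
    (m : Ideal R) [hm : m.IsMaximal] :
    Module.finrank (R ⧸ m) ((R ⧸ m) ⊗[R] M) = Module.rankAtStalk M ⟨m, hm.isPrime⟩ := by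
  letI := Ideal.Quotient.field m
  have h := Module.rankAtStalk_baseChange (R := R) (M := M) (S := R ⧸ m) ⟨⊥, Ideal.bot_prime⟩
  rw [Module.rankAtStalk_eq_finrank_of_free] at h
  refine h.trans (congrArg _ ?_)
  refine PrimeSpectrum.ext ?_
  show Ideal.comap (algebraMap R (R ⧸ m)) ⊥ = m
  exact Ideal.mk_ker

/-- Over an LG-ring, finite projective modules with the same rank at closed points are isomorphic. -/
theorem nonempty_equiv_of_rank (hR : LGRing.IsLGRing R) (M₁ : Type v) (M₂ : Type w) [AddCommGroup M₁] [Module R M₁]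
    [Module.Finite R M₁] [Module.Projective R M₁] [AddCommGroup M₂] [Module R M₂] [Module.Finite R M₂]
    [Module.Projective R M₂]
    (h : ∀ (m : Ideal R) (hm : m.IsMaximal),
      Module.rankAtStalk M₁ ⟨m, hm.isPrime⟩ = Module.rankAtStalk M₂ ⟨m, hm.isPrime⟩) :
    Nonempty (M₁ ≃ₗ[R] M₂) := by
  classical
  obtain ⟨n₁, π₁, ι₁, -, -, h₁⟩ := Module.Finite.exists_comp_eq_id_of_projective R M₁
  obtain ⟨n₂, π₂, ι₂, -, -, h₂⟩ := Module.Finite.exists_comp_eq_id_of_projective R M₂
  haveI : Module.Finite R (M₁ →ₗ[R] M₂) :=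
    Module.Finite.of_surjective (LinearMap.lcomp R M₂ ι₁ ∘ₗ ((Pi.basisFun R (Fin n₁)).constr R).toLinearMap)
      fun φ => ⟨fun i => φ (π₁ (Pi.single i 1)), by
        refine LinearMap.ext fun x => ?_
        have hx : ((Pi.basisFun R (Fin n₁)).constr R) (fun i => φ (π₁ (Pi.single i 1))) = φ ∘ₗ π₁ :=
          (Pi.basisFun R (Fin n₁)).ext fun i => by simp
        show ((Pi.basisFun R (Fin n₁)).constr R) (fun i => φ (π₁ (Pi.single i 1))) (ι₁ x) = φ x
        rw [hx]; exact congrArg φ (LinearMap.congr_fun h₁ x)⟩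
  haveI : Module.Finite R (M₂ →ₗ[R] M₁) :=
    Module.Finite.of_surjective (LinearMap.lcomp R M₁ ι₂ ∘ₗ ((Pi.basisFun R (Fin n₂)).constr R).toLinearMap)
      fun φ => ⟨fun i => φ (π₂ (Pi.single i 1)), by
        refine LinearMap.ext fun x => ?_
        have hx : ((Pi.basisFun R (Fin n₂)).constr R) (fun i => φ (π₂ (Pi.single i 1))) = φ ∘ₗ π₂ :=
          (Pi.basisFun R (Fin n₂)).ext fun i => by simp
        show ((Pi.basisFun R (Fin n₂)).constr R) (fun i => φ (π₂ (Pi.single i 1))) (ι₂ x) = φ x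
        rw [hx]; exact congrArg φ (LinearMap.congr_fun h₂ x)⟩
  obtain ⟨a, f, hf⟩ := Module.Finite.exists_fin' R (M₁ →ₗ[R] M₂)
  obtain ⟨b, g, hg⟩ := Module.Finite.exists_fin' R (M₂ →ₗ[R] M₁)
  let fi : Fin a → (M₁ →ₗ[R] M₂) := fun i => f (Pi.single i 1)
  let gj : Fin b → (M₂ →ₗ[R] M₁) := fun j => g (Pi.single j 1)
  have hfs : ∀ c : Fin a → R, f c = ∑ i, c i • fi i := fun c => by
    conv_lhs => rw [show c = ∑ i, c i • Pi.single i (1 : R) by ext t; simp [Pi.single_apply]]
    simp [fi]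
  have hgs : ∀ c : Fin b → R, g c = ∑ i, c i • gj i := fun c => by
    conv_lhs => rw [show c = ∑ i, c i • Pi.single i (1 : R) by ext t; simp [Pi.single_apply]]
    simp [gj]
  obtain ⟨P₁, hP₁⟩ := exists_det_poly π₁ ι₁ fun i j => gj j ∘ₗ fi i
  obtain ⟨P₂, hP₂⟩ := exists_det_poly π₂ ι₂ fun i j => fi i ∘ₗ gj j
  have hsum1 : ∀ c : Fin (a + b) → R, (∑ i, ∑ j, (c (Fin.castAdd b i) * c (Fin.natAdd a j)) • (gj j ∘ₗ fi i)) =
      g (fun j => c (Fin.natAdd a j)) ∘ₗ f (fun i => c (Fin.castAdd b i)) := fun c => by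
    rw [hfs, hgs]
    ext x
    simp only [LinearMap.sum_apply, LinearMap.smul_apply, LinearMap.comp_apply, map_sum, map_smul, Finset.smul_sum,
      smul_smul, mul_comm (c (Fin.natAdd a _))]
  have hsum2 : ∀ c : Fin (a + b) → R, (∑ i, ∑ j, (c (Fin.castAdd b i) * c (Fin.natAdd a j)) • (fi i ∘ₗ gj j)) =
      f (fun i => c (Fin.castAdd b i)) ∘ₗ g (fun j => c (Fin.natAdd a j)) := fun c => by
    rw [hfs, hgs]
    ext x
    simp only [LinearMap.sum_apply, LinearMap.smul_apply, LinearMap.comp_apply, map_sum, map_smul, Finset.smul_sum,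
      smul_smul]
    exact Finset.sum_comm.trans (Finset.sum_congr rfl fun j _ => Finset.sum_congr rfl fun i _ => by rw [mul_comm])
  obtain ⟨s, hs⟩ := hR (a + b) (P₁ * P₂) fun m hm => by
    letI := Ideal.Quotient.field m
    obtain ⟨e⟩ : Nonempty (((R ⧸ m) ⊗[R] M₁) ≃ₗ[R ⧸ m] ((R ⧸ m) ⊗[R] M₂)) :=
      FiniteDimensional.nonempty_linearEquiv_of_finrank_eq
        (by rw [finrank_quotient_tensor, finrank_quotient_tensor, h m hm])
    obtain ⟨φ, hφ⟩ := exists_lift_equiv m e.toLinearMap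
    obtain ⟨ψ, hψ⟩ := exists_lift_equiv m e.symm.toLinearMap
    obtain ⟨cf, rfl⟩ := hf φ
    obtain ⟨cg, rfl⟩ := hg ψ
    let c : Fin (a + b) → R := Fin.addCases cf cg
    have hcf : (fun i => c (Fin.castAdd b i)) = cf := funext fun i => by simp [c]
    have hcg : (fun j => c (Fin.natAdd a j)) = cg := funext fun j => by simp [c]
    refine ⟨algebraMap R (R ⧸ m) ∘ c, ?_⟩
    rw [MvPolynomial.aeval_algebraMap_apply, map_mul, map_mul, hP₁, hP₂, hsum1, hsum2, hcf, hcg,
      Ideal.Quotient.algebraMap_eq,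
      det_mod m fun x => by simp [hψ, hφ], det_mod m fun x => by simp [hψ, hφ]]
    simp
  rw [map_mul, IsUnit.mul_iff, hP₁, hP₂, hsum1, hsum2] at hs
  have b1 := bijective_of_isUnit_det h₁ hs.1
  have b2 := bijective_of_isUnit_det h₂ hs.2
  refine ⟨LinearEquiv.ofBijective (f fun i => s (Fin.castAdd b i)) ⟨?_, ?_⟩⟩
  · exact Function.Injective.of_comp b1.1
  · exact Function.Surjective.of_comp b2.2

/-- A finite projective faithful module over any ring has full trace ideal; over an LG-ring a unimodular vector. -/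
theorem exists_unimodular (hR : LGRing.IsLGRing R) (M : Type v) [AddCommGroup M] [Module R M] [Module.Finite R M]
    [Module.Projective R M] [FaithfulSMul R M] : ∃ (x : M) (f : Module.Dual R M), f x = 1 := by
  classical
  obtain ⟨n, π, ι, -, -, h⟩ := Module.Finite.exists_comp_eq_id_of_projective R M
  let P : MvPolynomial (Fin (n + n)) R := ∑ i, ∑ j,
    MvPolynomial.C (ι (π (Pi.single i 1)) j) * (MvPolynomial.X (Fin.castAdd n i) * MvPolynomial.X (Fin.natAdd n j))
  let τ : Ideal R := Ideal.span (Set.range fun p : Fin n × Fin n => ι (π (Pi.single p.1 1)) p.2)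
  have hτ : ∀ x : M, x ∈ τ • (⊤ : Submodule R M) := by
    intro x
    have hd : ∀ y : M, y = ∑ i, ι y i • π (Pi.single i 1) := fun y => by
      conv_lhs => rw [← show π (ι y) = y from LinearMap.congr_fun h y,
        show ι y = ∑ i, ι y i • Pi.single i (1 : R) by ext t; simp [Pi.single_apply]]
      simp
    rw [hd x]
    refine Submodule.sum_mem _ fun i _ => Submodule.smul_mem _ _ ?_
    rw [hd (π (Pi.single i 1))]
    exact Submodule.sum_mem _ fun j _ => Submodule.smul_mem_smul (Ideal.subset_span ⟨(i, j), rfl⟩) trivial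
  obtain ⟨s, hs⟩ := hR (n + n) P fun m hm => by
    have hne : ¬ τ ≤ m := fun hle => by
      obtain ⟨r, hr, hr0⟩ := Submodule.exists_sub_one_mem_and_smul_eq_zero_of_fg_of_le_smul τ
        (⊤ : Submodule R M) Module.Finite.fg_top fun x _ => hτ x
      have : r = 0 := FaithfulSMul.eq_of_smul_eq_smul (α := M) fun x => by rw [hr0 x trivial, zero_smul]
      subst this
      have h1 := hle hr
      rw [zero_sub] at h1
      exact hm.ne_top (m.eq_top_of_isUnit_mem h1 isUnit_one.neg)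
    obtain ⟨⟨i, j⟩, hij⟩ : ∃ p : Fin n × Fin n, ι (π (Pi.single p.1 1)) p.2 ∉ m := by
      by_contra hcon
      push Not at hcon
      exact hne (Ideal.span_le.mpr (by rintro _ ⟨p, rfl⟩; exact hcon p))
    let c : Fin (n + n) → R := Fin.addCases (Pi.single i 1) (Pi.single j 1)
    refine ⟨algebraMap R (R ⧸ m) ∘ c, ?_⟩
    have hc : MvPolynomial.aeval c P = ι (π (Pi.single i 1)) j := by
      have hl : ∀ i', c (Fin.castAdd n i') = (Pi.single i 1 : Fin n → R) i' := fun i' => by simp only [c, Fin.addCases_left]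
      have hr : ∀ j', c (Fin.natAdd n j') = (Pi.single j 1 : Fin n → R) j' := fun j' => by simp only [c, Fin.addCases_right]
      simp only [P, map_sum, map_mul, MvPolynomial.aeval_C, MvPolynomial.aeval_X, hl, hr]
      simp [Pi.single_apply]
    rw [MvPolynomial.aeval_algebraMap_apply, hc]
    letI := Ideal.Quotient.field m
    exact isUnit_iff_ne_zero.mpr fun h0 => hij (Ideal.Quotient.eq_zero_iff_mem.mp h0)
  obtain ⟨u, hu⟩ := hs
  let x : M := ∑ i, s (Fin.castAdd n i) • π (Pi.single i 1)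
  let f : Module.Dual R M := ∑ j, s (Fin.natAdd n j) • (LinearMap.proj j ∘ₗ ι)
  refine ⟨x, (↑u⁻¹ : R) • f, ?_⟩
  have hfx : f x = MvPolynomial.aeval s P := by
    simp only [f, x, P, map_sum, map_mul, map_smul, LinearMap.sum_apply, LinearMap.smul_apply, LinearMap.comp_apply,
      LinearMap.proj_apply, MvPolynomial.aeval_C, MvPolynomial.aeval_X, Algebra.algebraMap_self, RingHom.id_apply,
      smul_eq_mul]
    simp only [Finset.sum_apply, Pi.smul_apply, smul_eq_mul, Finset.mul_sum]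
    refine Finset.sum_congr rfl fun i _ => Finset.sum_congr rfl fun j _ => ?_
    ring
  rw [LinearMap.smul_apply, hfx, ← hu, smul_eq_mul, Units.inv_mul]

end Groth.Agent.H8LGRing
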