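import Mathlib
import Groth.Prelude.Def_SGA3b
import Groth.Agent.Lib.H8MultCore
import Groth.Agent.Lib.H8Mult
import Groth.Agent.Lib.H8MultAdic

/-!
# Homomorphisms from diagonalisable groups: images and kernels
-/

set_option autoImplicit false

universe u

open TensorProduct WithConv

namespace Groth.Agent.H8MultKer

open H8MultCore H8Mult H8MultAdic

section Antipode

variable {R : Type u} [CommRing R] {C A : Type u} [CommRing C] [HopfAlgebra R C] [CommRing A] [HopfAlgebra R A]

lemma convMul_comp (φ : C →ₐc[R] A) {S : Type u} [CommRing S] [Algebra R S] (f g : WithConv (A →ₐ[R] S)) :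
    toConv ((f * g).ofConv.comp (φ : C →ₐ[R] A)) =
      toConv (f.ofConv.comp (φ : C →ₐ[R] A)) * toConv (g.ofConv.comp (φ : C →ₐ[R] A)) := by
  refine WithConv.ofConv_injective (AlgHom.ext fun c => ?_)
  show Algebra.TensorProduct.lmul' R (Algebra.TensorProduct.map f.ofConv g.ofConv
      (CoalgebraStruct.comul (R := R) (φ c))) =
    Algebra.TensorProduct.lmul' R (Algebra.TensorProduct.map (f.ofConv.comp (φ : C →ₐ[R] A))
      (g.ofConv.comp (φ : C →ₐ[R] A)) (CoalgebraStruct.comul (R := R) c))
  rw [← CoalgHomClass.map_comp_comul_apply φ]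
  generalize CoalgebraStruct.comul (R := R) c = z
  induction z using TensorProduct.induction_on with
  | zero => simp
  | tmul a b => simp
  | add a b ha hb => simp only [map_add, ha, hb]

/-- A homomorphism of Hopf algebras commutes with the antipodes. -/
lemma map_antipode (φ : C →ₐc[R] A) (c : C) :
    φ (HopfAlgebraStruct.antipode R c) = HopfAlgebraStruct.antipode R (φ c) := by
  let f : WithConv (C →ₐ[R] A) := toConv (φ : C →ₐ[R] A)
  let Y : WithConv (C →ₐ[R] A) := toConv ((cinv (toConv (AlgHom.id R A))).ofConv.comp (φ : C →ₐ[R] A))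
  have h1 : cinv f * f = 1 := cinv_mul f
  have h2 : f * Y = 1 := by
    have h := convMul_comp φ (toConv (AlgHom.id R A)) (cinv (toConv (AlgHom.id R A)))
    rw [mul_cinv] at h
    refine Eq.trans h.symm (WithConv.ofConv_injective (AlgHom.ext fun x => ?_))
    show algebraMap R A (CoalgebraStruct.counit (R := R) (φ x)) = algebraMap R A (CoalgebraStruct.counit (R := R) x)
    rw [CoalgHomClass.counit_comp_apply φ]
  have h3 : cinv f = Y := left_inv_eq_right_inv h1 h2
  exact congrArg (fun g : WithConv (C →ₐ[R] A) => g.ofConv c) h3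

end Antipode

section Coeff

variable {T : Type u} [CommRing T] {N : Type u} [CommGroup N] {C : Type u} [CommRing C] [HopfAlgebra T C]
  (φ : C →ₐc[T] MonoidAlgebra T N)

/-- The `n`-th coefficient of a homomorphism into a group algebra. -/
noncomputable def coef (n : N) : C →ₗ[T] T := co n ∘ₗ (φ : C →ₗ[T] MonoidAlgebra T N)

lemma coef_apply (n : N) (c : C) : coef φ n c = (φ c).coeff n := rfl

/-- The component of `c` of degree `n`. -/
noncomputable def comp' (n : N) (c : C) : C := P (coef φ n) (CoalgebraStruct.comul (R := T) c)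

lemma map_comp' (n : N) (c : C) : φ (comp' φ n c) = MonoidAlgebra.single n (coef φ n c) := by
  classical
  have key : ∀ z : C ⊗[T] C, φ (P (coef φ n) z) =
      P (co n) (TensorProduct.map (φ : C →ₗ[T] MonoidAlgebra T N) (φ : C →ₗ[T] MonoidAlgebra T N) z) := by
    intro z
    induction z using TensorProduct.induction_on with
    | zero => simp
    | tmul a b => simp [coef]
    | add a b ha hb => simp only [map_add, ha, hb]
  rw [comp', key, CoalgHomClass.map_comp_comul_apply]
  show P (co n) (CoalgebraStruct.comul (R := T) (φ c)) = MonoidAlgebra.single n (co n (φ c))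
  induction φ c using MonoidAlgebra.induction_linear with
  | zero => simp
  | add p q hp hq => simp only [map_add, hp, hq, MonoidAlgebra.single_add]
  | single m r =>
    rw [MonoidAlgebra.comul_single, CommSemiring.comul_apply, TensorProduct.map_tmul, P_tmul]
    simp only [MonoidAlgebra.lsingle_apply, co_single]
    by_cases h : m = n
    · subst h; simp
    · simp [h]

lemma counit_comp' (n : N) (c : C) : CoalgebraStruct.counit (R := T) (comp' φ n c) = coef φ n c := by
  rw [← CoalgHomClass.counit_comp_apply φ, map_comp']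
  simp

lemma exists_mul (a b : N) (c d : C) : ∃ e : C, coef φ (a * b) e = coef φ a c * coef φ b d := by
  refine ⟨comp' φ a c * comp' φ b d, ?_⟩
  show (φ (comp' φ a c * comp' φ b d)).coeff (a * b) = _
  rw [map_mul φ, map_comp', map_comp', MonoidAlgebra.single_mul_single]
  simp

lemma exists_inv (a : N) (c : C) : ∃ e : C, coef φ a⁻¹ e = coef φ a c := by
  refine ⟨HopfAlgebraStruct.antipode T (comp' φ a c), ?_⟩
  show (φ _).coeff a⁻¹ = _
  rw [map_antipode, map_comp', MonoidAlgebra.antipode_single]
  simp

lemma coef_one : coef φ 1 1 = 1 := by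
  show (φ 1).coeff 1 = 1
  rw [map_one φ, MonoidAlgebra.one_def]; simp

/-- The characters whose coefficient ideal is everything. -/
def fullSubgroup : Subgroup N where
  carrier := {n | ∃ c, coef φ n c = 1}
  one_mem' := ⟨1, coef_one φ⟩
  mul_mem' := fun {a b} ⟨c, hc⟩ ⟨d, hd⟩ => by
    obtain ⟨e, he⟩ := exists_mul φ a b c d
    exact ⟨e, by rw [he, hc, hd, one_mul]⟩
  inv_mem' := fun {a} ⟨c, hc⟩ => by
    obtain ⟨e, he⟩ := exists_inv φ a c
    exact ⟨e, by rw [he, hc]⟩

lemma mem_fullSubgroup {n : N} : n ∈ fullSubgroup φ ↔ ∃ c, coef φ n c = 1 := Iff.rfl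

lemma mem_range_of_full {n : N} (h : n ∈ fullSubgroup φ) : MonoidAlgebra.single n (1 : T) ∈ Set.range φ := by
  obtain ⟨c, hc⟩ := h
  exact ⟨comp' φ n c, by rw [map_comp', hc]⟩

/-- Over a local ring, every character meeting the image off the full subgroup is killed. -/
theorem coef_eq_zero_of_notMem [IsLocalRing T] (hft : Algebra.FiniteType T C) {n : N}
    (hn : n ∉ fullSubgroup φ) (c : C) : coef φ n c = 0 := by
  classical
  obtain ⟨s, hs⟩ := hft.out
  let bad : Finset T := s.biUnion fun c => ((φ c).coeff.support.filter fun m => m ∉ fullSubgroup φ).image (φ c).coeff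
  let K : Ideal T := Ideal.span (bad : Set T)
  have hgen : ∀ c ∈ s, ∀ m, m ∉ fullSubgroup φ → coef φ m c ∈ K := by
    intro c hc m hm
    by_cases hms : m ∈ (φ c).coeff.support
    · exact Ideal.subset_span (Finset.mem_biUnion.mpr ⟨c, hc, Finset.mem_image_of_mem _
        (Finset.mem_filter.mpr ⟨hms, hm⟩)⟩)
    · rw [coef_apply, Finsupp.notMem_support_iff.mp hms]; exact zero_mem K
  have hK : ∀ c : C, ∀ m, m ∉ fullSubgroup φ → coef φ m c ∈ K := by
    intro c
    have hc : c ∈ Algebra.adjoin T (s : Set C) := hs ▸ Algebra.mem_top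
    induction hc using Algebra.adjoin_induction with
    | mem x hx => exact hgen x hx
    | algebraMap r =>
      intro m hm
      rw [coef_apply, Algebra.algebraMap_eq_smul_one, map_smul, map_one, MonoidAlgebra.one_def]
      rw [show (r • MonoidAlgebra.single (1 : N) (1 : T)).coeff m = 0 from by
        simp [Finsupp.single_apply, show (1 : N) ≠ m from fun h => hm (h ▸ (fullSubgroup φ).one_mem)]]
      exact zero_mem K
    | add x y _ _ hx hy => intro m hm; rw [map_add]; exact add_mem (hx m hm) (hy m hm)
    | mul x y _ _ hx hy =>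
      intro m hm
      rw [coef_apply, map_mul, MonoidAlgebra.coeff_mul]
      simp only [Finsupp.sum]
      refine Ideal.sum_mem _ fun a _ => Ideal.sum_mem _ fun b _ => ?_
      split_ifs with hab
      · by_cases ha : a ∈ fullSubgroup φ
        · refine Ideal.mul_mem_left _ _ (hy b fun hb => hm ?_)
          exact hab ▸ (fullSubgroup φ).mul_mem ha hb
        · exact Ideal.mul_mem_right _ _ (hx a ha)
      · exact zero_mem K
  have hsq : K ≤ K * K := by
    rw [show K = Ideal.span (bad : Set T) from rfl, Ideal.span_le]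
    intro t ht
    obtain ⟨c, -, hc⟩ := Finset.mem_biUnion.mp ht
    obtain ⟨m, hm, rfl⟩ := Finset.mem_image.mp hc
    have hm' : m ∉ fullSubgroup φ := (Finset.mem_filter.mp hm).2
    obtain ⟨z, hz⟩ := TensorProduct.exists_finset (CoalgebraStruct.comul (R := T) c)
    have h1 : coef φ m (comp' φ m c) = coef φ m c := by rw [coef_apply, map_comp']; simp
    show coef φ m c ∈ K * K
    rw [← h1, comp', hz, map_sum, map_sum]
    refine Ideal.sum_mem _ fun p _ => ?_
    rw [P_tmul, map_smul, smul_eq_mul]
    exact Ideal.mul_mem_mul (hK _ m hm') (hK _ m hm')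
  have hne : K ≤ IsLocalRing.maximalIdeal T := by
    rw [show K = Ideal.span (bad : Set T) from rfl, Ideal.span_le]
    intro t ht hu
    obtain ⟨c, -, hc⟩ := Finset.mem_biUnion.mp ht
    obtain ⟨m, hm, rfl⟩ := Finset.mem_image.mp hc
    obtain ⟨w, hw⟩ := (hu : IsUnit ((φ c).coeff m))
    exact (Finset.mem_filter.mp hm).2 ⟨(↑w⁻¹ : T) • c, by
      rw [map_smul, coef_apply, ← hw, smul_eq_mul, Units.inv_mul]⟩
  have h0 : K = ⊥ := Submodule.eq_bot_of_le_smul_of_le_jacobson_bot K K
    (Submodule.fg_span bad.finite_toSet) (by rwa [smul_eq_mul])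
    (hne.trans (IsLocalRing.maximalIdeal_le_jacobson _))
  exact (Submodule.mem_bot T).mp (h0 ▸ hK c n hn)

end Coeff

end Groth.Agent.H8MultKer
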