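import Mathlib
import Groth.Agent.Lib.H8Reductive
import Groth.Agent.Lib.H8HopfFF
import Groth.Agent.Lib.H8MultKer

/-!
# Linear reductivity in exact sequences
-/

set_option autoImplicit false

universe u

open TensorProduct WithConv

namespace Groth.Agent.H8LRExact

open H8Comod

variable {k : Type u} [Field k] {AQ AG AK : Type u} [CommRing AQ] [HopfAlgebra k AQ]
  [CommRing AG] [HopfAlgebra k AG] [CommRing AK] [HopfAlgebra k AK]
  (φ : AQ →ₐc[k] AG) (ψ : AG →ₐc[k] AK)

/-- `(ψ ⊗ id) ∘ Δ` -/
noncomputable def lco : AG →ₐ[k] AK ⊗[k] AG :=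
  (Algebra.TensorProduct.map (ψ : AG →ₐ[k] AK) (AlgHom.id k AG)).comp (Bialgebra.comulAlgHom k AG)

/-- `(id ⊗ ψ) ∘ Δ` -/
noncomputable def rco : AG →ₐ[k] AG ⊗[k] AK :=
  (Algebra.TensorProduct.map (AlgHom.id k AG) (ψ : AG →ₐ[k] AK)).comp (Bialgebra.comulAlgHom k AG)

lemma comul_map (q : AQ) :
    CoalgebraStruct.comul (R := k) (φ q) =
      Algebra.TensorProduct.map (φ : AQ →ₐ[k] AG) (φ : AQ →ₐ[k] AG) (CoalgebraStruct.comul (R := k) q) := by
  rw [← CoalgHomClass.map_comp_comul_apply φ]
  rfl

variable {φ ψ} in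
lemma rco_map (hψφ : ∀ q, ψ (φ q) = algebraMap k AK (CoalgebraStruct.counit (R := k) q)) (q : AQ) :
    rco ψ (φ q) = φ q ⊗ₜ 1 ∧ lco ψ (φ q) = 1 ⊗ₜ φ q := by
  constructor
  · show Algebra.TensorProduct.map (AlgHom.id k AG) (ψ : AG →ₐ[k] AK) (CoalgebraStruct.comul (R := k) (φ q)) = _
    rw [comul_map]
    have key : ∀ z : AQ ⊗[k] AQ, Algebra.TensorProduct.map (AlgHom.id k AG) (ψ : AG →ₐ[k] AK)
        (Algebra.TensorProduct.map (φ : AQ →ₐ[k] AG) (φ : AQ →ₐ[k] AG) z) =
        φ (TensorProduct.rid k AQ (LinearMap.lTensor AQ (CoalgebraStruct.counit (R := k) (A := AQ)) z)) ⊗ₜ[k] (1 : AK) := by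
      intro z
      induction z using TensorProduct.induction_on with
      | zero => simp
      | add x y hx hy => simp only [map_add, hx, hy, add_tmul]
      | tmul a b => simp [hψφ, Algebra.algebraMap_eq_smul_one, smul_tmul]
    rw [key, Coalgebra.lTensor_counit_comul]
    simp
  · show Algebra.TensorProduct.map (ψ : AG →ₐ[k] AK) (AlgHom.id k AG) (CoalgebraStruct.comul (R := k) (φ q)) = _
    rw [comul_map]
    have key : ∀ z : AQ ⊗[k] AQ, Algebra.TensorProduct.map (ψ : AG →ₐ[k] AK) (AlgHom.id k AG)
        (Algebra.TensorProduct.map (φ : AQ →ₐ[k] AG) (φ : AQ →ₐ[k] AG) z) =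
        (1 : AK) ⊗ₜ[k] φ (TensorProduct.lid k AQ (LinearMap.rTensor AQ (CoalgebraStruct.counit (R := k) (A := AQ)) z)) := by
      intro z
      induction z using TensorProduct.induction_on with
      | zero => simp
      | add x y hx hy => simp only [map_add, hx, hy, tmul_add]
      | tmul a b => simp [hψφ, Algebra.algebraMap_eq_smul_one, smul_tmul]
    rw [key, Coalgebra.rTensor_counit_comul]
    simp

variable [Algebra.FiniteType k AQ]

variable {φ ψ} in
/-- Invariants of the kernel, on either side, come from the quotient. -/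
theorem mem_range_of_invariant (hφ : Function.Injective φ) (hψ : Function.Surjective ψ)
    (hker : RingHom.ker (ψ : AG →ₐ[k] AK) =
      Ideal.map (φ : AQ →ₐ[k] AG) (RingHom.ker (Bialgebra.counitAlgHom k AQ)))
    (x : AG) (hx : rco ψ x = x ⊗ₜ 1 ∨ lco ψ x = 1 ⊗ₜ x) : ∃ q, φ q = x := by
  haveI : IsNoetherianRing AQ := Algebra.FiniteType.isNoetherianRing k AQ
  letI : Algebra AQ AG := (φ : AQ →ₐ[k] AG).toRingHom.toAlgebra
  haveI : IsScalarTower k AQ AG :=
    IsScalarTower.of_algebraMap_eq fun c => ((φ : AQ →ₐ[k] AG).commutes c).symm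
  haveI : Module.FaithfullyFlat AQ AG :=
    (RingHom.faithfullyFlat_algebraMap_iff).mp (H8HopfFF.faithfullyFlat φ hφ)
  let iL : AG →ₐ[k] AG ⊗[AQ] AG := Algebra.TensorProduct.includeLeft
  let iR : AG →ₐ[k] AG ⊗[AQ] AG :=
    (Algebra.TensorProduct.includeRight : AG →ₐ[AQ] AG ⊗[AQ] AG).restrictScalars k
  have hLR : iL.comp (φ : AQ →ₐ[k] AG) = iR.comp (φ : AQ →ₐ[k] AG) := AlgHom.ext fun q => by
    show algebraMap AQ AG q ⊗ₜ[AQ] (1 : AG) = (1 : AG) ⊗ₜ[AQ] algebraMap AQ AG q
    rw [← Algebra.TensorProduct.tmul_one_eq_one_tmul]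
  -- a homomorphism out of the kernel for either pairing
  let S := HopfAlgebra.antipodeAlgHom k AG
  let g₁ : WithConv (AG →ₐ[k] AG ⊗[AQ] AG) := toConv (iL.comp S) * toConv iR
  let g₂ : WithConv (AG →ₐ[k] AG ⊗[AQ] AG) := toConv iR * toConv (iL.comp S)
  have hS : (S : AG →ₐ[k] AG).comp (φ : AQ →ₐ[k] AG) =
      (φ : AQ →ₐ[k] AG).comp (HopfAlgebra.antipodeAlgHom k AQ) :=
    AlgHom.ext fun q => (H8MultKer.map_antipode φ q).symm
  have hg : ∀ g ∈ [g₁, g₂], ∀ y ∈ RingHom.ker (ψ : AG →ₐ[k] AK), g.ofConv y = 0 := by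
    intro g hg y hy
    have hq : ∀ q, g.ofConv (φ q) = algebraMap k _ (CoalgebraStruct.counit (R := k) q) := by
      intro q
      have h1 : toConv (g.ofConv.comp (φ : AQ →ₐ[k] AG)) = 1 := by
        rcases List.mem_pair.mp hg with rfl | rfl
        · rw [H8MultKer.convMul_comp φ, WithConv.ofConv_toConv, WithConv.ofConv_toConv, AlgHom.comp_assoc, hS,
            ← AlgHom.comp_assoc, ← hLR]
          exact H8HopfFF.antipode_mul_cancel (iL.comp (φ : AQ →ₐ[k] AG))
        · rw [H8MultKer.convMul_comp φ, WithConv.ofConv_toConv, WithConv.ofConv_toConv, AlgHom.comp_assoc, hS,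
            ← AlgHom.comp_assoc, ← hLR]
          exact H8HopfFF.mul_antipode_cancel (iL.comp (φ : AQ →ₐ[k] AG))
      have h2 := AlgHom.congr_fun (congrArg WithConv.ofConv h1) q
      rw [AlgHom.convOne_apply] at h2
      exact h2
    rw [hker] at hy
    refine Submodule.span_induction (fun z hz => ?_) (map_zero _) (fun a b _ _ ha hb => ?_) (fun r a _ ha => ?_) hy
    · obtain ⟨q, hq0, rfl⟩ := hz
      refine (hq q).trans ?_
      rw [show CoalgebraStruct.counit (R := k) q = 0 from hq0, map_zero]
    · rw [map_add, ha, hb, add_zero]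
    · rw [smul_eq_mul, map_mul, ha, mul_zero]
  let h₁ : AK →ₐ[k] AG ⊗[AQ] AG :=
    AlgHom.liftOfSurjective (ψ : AG →ₐ[k] AK) hψ g₁.ofConv fun y hy => hg g₁ (by simp) y hy
  let h₂ : AK →ₐ[k] AG ⊗[AQ] AG :=
    AlgHom.liftOfSurjective (ψ : AG →ₐ[k] AK) hψ g₂.ofConv fun y hy => hg g₂ (by simp) y hy
  have hh₁ : ∀ y, h₁ (ψ y) = g₁.ofConv y := fun y => AlgHom.liftOfSurjective_apply _ _ _ _ y
  have hh₂ : ∀ y, h₂ (ψ y) = g₂.ofConv y := fun y => AlgHom.liftOfSurjective_apply _ _ _ _ y
  have heq : iL x = iR x := by
    rcases hx with hx | hx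
    · let Θ : AG ⊗[k] AK →ₐ[k] AG ⊗[AQ] AG := Algebra.TensorProduct.lift iL h₁ fun _ _ => Commute.all _ _
      have e1 : ∀ z : AG ⊗[k] AG, Θ (Algebra.TensorProduct.map (AlgHom.id k AG) (ψ : AG →ₐ[k] AK) z) =
          Algebra.TensorProduct.lmul' k (Algebra.TensorProduct.map iL g₁.ofConv z) := fun z => by
        induction z using TensorProduct.induction_on with
        | zero => simp
        | add a b ha hb => simp only [map_add, ha, hb]
        | tmul a b => simp [Θ, hh₁]
      have e2 : (toConv iL * g₁).ofConv x = iR x := by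
        show (toConv iL * (toConv (iL.comp S) * toConv iR)).ofConv x = _
        rw [← mul_assoc, H8HopfFF.mul_antipode_cancel, one_mul]
      rw [← e2]
      calc iL x = Θ (x ⊗ₜ (1 : AK)) := by simp [Θ]
        _ = Θ (rco ψ x) := by rw [hx]
        _ = (toConv iL * g₁).ofConv x := e1 _
    · let Θ : AK ⊗[k] AG →ₐ[k] AG ⊗[AQ] AG := Algebra.TensorProduct.lift h₂ iL fun _ _ => Commute.all _ _
      have e1 : ∀ z : AG ⊗[k] AG, Θ (Algebra.TensorProduct.map (ψ : AG →ₐ[k] AK) (AlgHom.id k AG) z) =
          Algebra.TensorProduct.lmul' k (Algebra.TensorProduct.map g₂.ofConv iL z) := fun z => by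
        induction z using TensorProduct.induction_on with
        | zero => simp
        | add a b ha hb => simp only [map_add, ha, hb]
        | tmul a b => simp [Θ, hh₂]
      have e2 : (g₂ * toConv iL).ofConv x = iR x := by
        show (toConv iR * toConv (iL.comp S) * toConv iL).ofConv x = _
        rw [mul_assoc, H8HopfFF.antipode_mul_cancel, mul_one]
      rw [← e2]
      calc iL x = Θ ((1 : AK) ⊗ₜ x) := by simp [Θ]
        _ = Θ (lco ψ x) := by rw [hx]
        _ = (g₂ * toConv iL).ofConv x := e1 _
  have hmem : x ∈ Set.range (algebraMap AQ AG) := by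
    rw [← Algebra.IsEffective.eqLocus_includeLeft_includeRight (Algebra.IsEffective.of_faithfullyFlat AQ AG)]
    exact heq
  exact hmem

open H8Integral in
/-- The quotient inherits a normalised integral. -/
theorem integral_quot (hφ : Function.Injective φ) (α : AG →ₗ[k] k) (hα : IsIntegral α) (h1 : α 1 = 1) :
    ∃ β : AQ →ₗ[k] k, IsIntegral β ∧ β 1 = 1 := by
  refine ⟨α ∘ₗ (φ : AQ →ₐ[k] AG).toLinearMap, fun q => hφ ?_, by simp [h1]⟩
  have h := hα (φ q)
  rw [comul_map] at h
  rw [map_smul, map_one]
  refine Eq.trans ?_ h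
  generalize CoalgebraStruct.comul (R := k) q = z
  induction z using TensorProduct.induction_on with
  | zero => simp
  | add a b ha hb => simp only [map_add, ha, hb]
  | tmul a b => simp

variable {φ ψ} in
open H8Integral in
/-- An extension of linearly reductive groups is linearly reductive. -/
theorem integral_ext (hφ : Function.Injective φ) (hψ : Function.Surjective ψ)
    (hker : RingHom.ker (ψ : AG →ₐ[k] AK) =
      Ideal.map (φ : AQ →ₐ[k] AG) (RingHom.ker (Bialgebra.counitAlgHom k AQ)))
    (α : AK →ₗ[k] k) (hα : IsIntegral α) (h1 : α 1 = 1)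
    (β : AQ →ₗ[k] k) (hβ : IsIntegral β) (hb1 : β 1 = 1) :
    ∃ γ : AG →ₗ[k] k, IsIntegral γ ∧ γ 1 = 1 := by
  let aψ : AG →ₗ[k] k := α ∘ₗ (ψ : AG →ₐ[k] AK).toLinearMap
  let E : AG →ₗ[k] AG :=
    (TensorProduct.lid k AG).toLinearMap ∘ₗ aψ.rTensor AG ∘ₗ CoalgebraStruct.comul (R := k)
  have hE : ∀ y, E y = TensorProduct.lid k AG (α.rTensor AG (lco ψ y)) := fun y => by
    show TensorProduct.lid k AG (aψ.rTensor AG (CoalgebraStruct.comul (R := k) y)) =
      TensorProduct.lid k AG (α.rTensor AG
        (Algebra.TensorProduct.map (ψ : AG →ₐ[k] AK) (AlgHom.id k AG) (CoalgebraStruct.comul (R := k) y)))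
    generalize CoalgebraStruct.comul (R := k) y = z
    induction z using TensorProduct.induction_on with
    | zero => simp
    | add a b ha hb => simp only [map_add, ha, hb]
    | tmul a b => simp [aψ]
  -- `E` is a morphism of right comodules
  have hco : ∀ y, CoalgebraStruct.comul (R := k) (E y) =
      E.rTensor AG (CoalgebraStruct.comul (R := k) y) := by
    intro y
    have hc := congrArg (fun z => (TensorProduct.lid k (AG ⊗[k] AG)) (aψ.rTensor (AG ⊗[k] AG) z))
      (Coalgebra.coassoc_apply (R := k) y)
    refine Eq.trans ?_ (Eq.trans hc.symm ?_)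
    · show CoalgebraStruct.comul (R := k) (TensorProduct.lid k AG (aψ.rTensor AG (CoalgebraStruct.comul (R := k) y))) = _
      generalize CoalgebraStruct.comul (R := k) y = z
      induction z using TensorProduct.induction_on with
      | zero => simp
      | add a b ha hb => simp only [map_add, ha, hb]
      | tmul a b => simp
    · generalize CoalgebraStruct.comul (R := k) y = z
      induction z using TensorProduct.induction_on with
      | zero => simp
      | add a b ha hb => simp only [map_add, ha, hb]
      | tmul a b =>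
        simp only [LinearMap.rTensor_tmul, E, LinearMap.comp_apply, LinearEquiv.coe_coe]
        generalize CoalgebraStruct.comul (R := k) a = w
        induction w using TensorProduct.induction_on with
        | zero => simp
        | add c d hc hd => simp only [map_add, add_tmul, hc, hd]
        | tmul c d => simp [smul_tmul']
  -- its image is the quotient
  have hmem : ∀ y, ∃ q, φ q = E y := by
    intro y
    refine mem_range_of_invariant hφ hψ hker _ (Or.inr ?_)
    show Algebra.TensorProduct.map (ψ : AG →ₐ[k] AK) (AlgHom.id k AG) (CoalgebraStruct.comul (R := k) (E y)) = _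
    rw [hco]
    have key : ∀ z : AG ⊗[k] AG, Algebra.TensorProduct.map (ψ : AG →ₐ[k] AK) (AlgHom.id k AG) (E.rTensor AG z) =
        (1 : AK) ⊗ₜ[k] TensorProduct.lid k AG (aψ.rTensor AG z) := by
      intro z
      induction z using TensorProduct.induction_on with
      | zero => simp
      | add a b ha hb => simp only [map_add, ha, hb, tmul_add]
      | tmul a b =>
        have hψE : ψ (E a) = aψ a • (1 : AK) := by
          refine Eq.trans ?_ (hα (ψ a))
          rw [← CoalgHomClass.map_comp_comul_apply ψ]
          show ψ (TensorProduct.lid k AG (aψ.rTensor AG (CoalgebraStruct.comul (R := k) a))) = _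
          generalize CoalgebraStruct.comul (R := k) a = w
          induction w using TensorProduct.induction_on with
          | zero => simp
          | add c d hc hd => simp only [map_add, hc, hd]
          | tmul c d => simp [aψ]
        rw [LinearMap.rTensor_tmul, Algebra.TensorProduct.map_tmul, LinearMap.rTensor_tmul, TensorProduct.lid_tmul]
        show ψ (E a) ⊗ₜ[k] b = _
        rw [hψE, TensorProduct.smul_tmul]
    exact key _
  choose e he using hmem
  have eadd : ∀ a b, e (a + b) = e a + e b := fun a b => hφ (by rw [map_add, he, he, he, map_add])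
  have esmul : ∀ (c : k) a, e (c • a) = c • e a := fun c a => hφ (by rw [map_smul, he, he, map_smul])
  let eL : AG →ₗ[k] AQ := { toFun := e, map_add' := eadd, map_smul' := esmul }
  refine ⟨β ∘ₗ eL, fun y => ?_, ?_⟩
  · have hb := congrArg φ (hβ (e y))
    rw [map_smul, map_one] at hb
    refine Eq.trans ?_ hb
    -- compare the two sides through `φ`
    have h2 : Algebra.TensorProduct.map (φ : AQ →ₐ[k] AG) (φ : AQ →ₐ[k] AG)
        (CoalgebraStruct.comul (R := k) (e y)) =
        (φ : AQ →ₐ[k] AG).toLinearMap.rTensor AG (eL.rTensor AG (CoalgebraStruct.comul (R := k) y)) := by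
      rw [← comul_map, he, hco, ← LinearMap.rTensor_comp_apply,
        show E = (φ : AQ →ₐ[k] AG).toLinearMap ∘ₗ eL from LinearMap.ext fun a => (he a).symm]
    obtain ⟨p, hp⟩ := (φ : AQ →ₐ[k] AG).toLinearMap.exists_leftInverse_of_injective (LinearMap.ker_eq_bot.mpr hφ)
    have h3 := congrArg (fun z => TensorProduct.lid k AG ((β ∘ₗ p).rTensor AG z)) h2
    simp only [← LinearMap.rTensor_comp_apply] at h3
    rw [show (β ∘ₗ p) ∘ₗ (φ : AQ →ₐ[k] AG).toLinearMap ∘ₗ eL = β ∘ₗ eL by
      rw [LinearMap.comp_assoc, ← LinearMap.comp_assoc _ _ p, hp, LinearMap.id_comp]] at h3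
    refine h3.symm.trans ?_
    generalize CoalgebraStruct.comul (R := k) (e y) = z
    induction z using TensorProduct.induction_on with
    | zero => simp
    | add a b ha hb => simp only [map_add, ha, hb]
    | tmul a b =>
      simp [show p (φ a) = a from LinearMap.congr_fun hp a]
  · have : e 1 = 1 := hφ (by rw [he, map_one φ, hE, map_one (lco ψ), Algebra.TensorProduct.one_def]; simp [h1])
    show β (e 1) = 1
    rw [this, hb1]

variable {φ ψ} in
/-- A normal subgroup with faithfully flat quotient of a linearly reductive group is linearly reductive. -/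
theorem integral_sub (hφ : Function.Injective φ) (hψ : Function.Surjective ψ)
    (hker : RingHom.ker (ψ : AG →ₐ[k] AK) =
      Ideal.map (φ : AQ →ₐ[k] AG) (RingHom.ker (Bialgebra.counitAlgHom k AQ)))
    (hG : HopfRep.IsLinearlyReductive k AG) : ∃ β : AK →ₗ[k] k, H8Integral.IsIntegral β ∧ β 1 = 1 := by
  have hψφ : ∀ q, ψ (φ q) = algebraMap k AK (CoalgebraStruct.counit (R := k) q) := by
    intro q
    have h1 : φ (q - algebraMap k AQ (CoalgebraStruct.counit (R := k) q)) ∈ RingHom.ker (ψ : AG →ₐ[k] AK) := by
      rw [hker]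
      exact Ideal.mem_map_of_mem (φ : AQ →ₐ[k] AG) (by simp [RingHom.mem_ker])
    rw [RingHom.mem_ker, map_sub, map_sub, sub_eq_zero] at h1
    exact h1.trans (((ψ : AG →ₐ[k] AK).comp (φ : AQ →ₐ[k] AG)).commutes _)
  let R : Submodule k AG := LinearMap.range (φ : AQ →ₐ[k] AG).toLinearMap
  have hR : HopfRep.IsSubcomod (k := k) (A := AG) R := by
    rintro _ ⟨q, rfl⟩
    refine ⟨TensorProduct.map ((φ : AQ →ₐ[k] AG).toLinearMap.rangeRestrict) (φ : AQ →ₐ[k] AG).toLinearMap
      (CoalgebraStruct.comul (R := k) q), ?_⟩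
    show _ = CoalgebraStruct.comul (R := k) (φ q)
    rw [comul_map]
    generalize CoalgebraStruct.comul (R := k) q = z
    induction z using TensorProduct.induction_on with
    | zero => simp
    | add a b ha hb => simp only [map_add, ha, hb]
    | tmul a b => simp [R]
  obtain ⟨W, hW, hc⟩ := H8Reductive.semisimple_of_lr hG AG R hR
  let P : AG →ₗ[k] R := Submodule.projectionOnto R W hc
  let ε : AG →ₗ[k] k := CoalgebraStruct.counit
  let γ : AG →ₗ[k] k := ε ∘ₗ R.subtype ∘ₗ P
  -- `R.subtype ∘ P` is a comodule map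
  have hP : Hoch.IsComodHom AG (R.subtype ∘ₗ P) := by
    refine isComodHom_iff.mpr fun f v => ?_
    obtain ⟨r, hr, w, hw, rfl⟩ := Submodule.mem_sup.mp (hc.2.eq_top ▸ Submodule.mem_top : v ∈ R ⊔ W)
    simp only [map_add, LinearMap.comp_apply, P, Submodule.subtype_apply]
    rw [Submodule.projectionOnto_apply_left hc ⟨r, hr⟩, (Submodule.projectionOnto_apply_eq_zero_iff hc).mpr hw,
      Submodule.projectionOnto_apply_left hc ⟨_, isSubcomod_iff.mp hR f r hr⟩,
      (Submodule.projectionOnto_apply_eq_zero_iff hc).mpr (isSubcomod_iff.mp hW f w hw)]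
    simp
  -- invariance of a functional under the kernel
  let Inv : (AG →ₗ[k] k) → Prop := fun δ => ∀ a, TensorProduct.lid k AK (δ.rTensor AK (rco ψ a)) = δ a • (1 : AK)
  have hγR : ∀ q, γ (φ q) = CoalgebraStruct.counit (R := k) q := fun q => by
    show ε ((P (φ q) : R) : AG) = _
    rw [show P (φ q) = ⟨φ q, q, rfl⟩ from Submodule.projectionOnto_apply_left hc ⟨φ q, q, rfl⟩]
    exact CoalgHomClass.counit_comp_apply φ q
  have hγ : Inv γ := by
    intro a
    obtain ⟨q, hq⟩ := (P a).2
    have h1 := LinearMap.congr_fun hP a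
    simp only [LinearMap.comp_apply] at h1
    have h2 : CoalgebraStruct.comul (R := k) ((P a : R) : AG) =
        (R.subtype ∘ₗ P).rTensor AG (CoalgebraStruct.comul (R := k) a) := h1
    have h3 : ψ ((P a : R) : AG) = TensorProduct.lid k AK (γ.rTensor AK (rco ψ a)) := by
      have h4 := congrArg (fun z => (ψ : AG →ₐ[k] AK) (TensorProduct.lid k AG (ε.rTensor AG z))) h2
      simp only [ε, Coalgebra.rTensor_counit_comul, TensorProduct.lid_tmul, one_smul] at h4
      refine Eq.trans h4 ?_
      show _ = TensorProduct.lid k AK (γ.rTensor AK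
        (Algebra.TensorProduct.map (AlgHom.id k AG) (ψ : AG →ₐ[k] AK) (CoalgebraStruct.comul (R := k) a)))
      generalize CoalgebraStruct.comul (R := k) a = z
      induction z using TensorProduct.induction_on with
      | zero => simp
      | add c d hc hd => simp only [map_add, hc, hd]
      | tmul c d => simp [γ, ε]
    rw [← h3, show γ a = ε ((P a : R) : AG) from rfl, ← hq]
    show ψ (φ q) = CoalgebraStruct.counit (R := k) (φ q) • (1 : AK)
    rw [hψφ, Algebra.algebraMap_eq_smul_one, CoalgHomClass.counit_comp_apply φ q]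
  -- uniqueness
  have huniq : ∀ δ, Inv δ → (∀ q, δ (φ q) = 0) → δ = 0 := by
    intro δ hδ h0
    let F : AG →ₗ[k] AG :=
      (TensorProduct.lid k AG).toLinearMap ∘ₗ δ.rTensor AG ∘ₗ CoalgebraStruct.comul (R := k)
    have hco : ∀ y, CoalgebraStruct.comul (R := k) (F y) =
        F.rTensor AG (CoalgebraStruct.comul (R := k) y) := by
      intro y
      have hc := congrArg (fun z => (TensorProduct.lid k (AG ⊗[k] AG)) (δ.rTensor (AG ⊗[k] AG) z))
        (Coalgebra.coassoc_apply (R := k) y)
      refine Eq.trans ?_ (Eq.trans hc.symm ?_)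
      · show CoalgebraStruct.comul (R := k) (TensorProduct.lid k AG (δ.rTensor AG (CoalgebraStruct.comul (R := k) y))) = _
        generalize CoalgebraStruct.comul (R := k) y = z
        induction z using TensorProduct.induction_on with
        | zero => simp
        | add a b ha hb => simp only [map_add, ha, hb]
        | tmul a b => simp
      · generalize CoalgebraStruct.comul (R := k) y = z
        induction z using TensorProduct.induction_on with
        | zero => simp
        | add a b ha hb => simp only [map_add, ha, hb]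
        | tmul a b =>
          simp only [LinearMap.rTensor_tmul, F, LinearMap.comp_apply, LinearEquiv.coe_coe]
          generalize CoalgebraStruct.comul (R := k) a = w
          induction w using TensorProduct.induction_on with
          | zero => simp
          | add c d hc hd => simp only [map_add, add_tmul, hc, hd]
          | tmul c d => simp [smul_tmul']
    have hFhom : Hoch.IsComodHom AG F := LinearMap.ext hco
    have hFR : ∀ y, F y ∈ R := by
      intro y
      refine mem_range_of_invariant hφ hψ hker _ (Or.inr ?_)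
      show Algebra.TensorProduct.map (ψ : AG →ₐ[k] AK) (AlgHom.id k AG) (CoalgebraStruct.comul (R := k) (F y)) = _
      rw [hco]
      have key : ∀ z : AG ⊗[k] AG, Algebra.TensorProduct.map (ψ : AG →ₐ[k] AK) (AlgHom.id k AG) (F.rTensor AG z) =
          (1 : AK) ⊗ₜ[k] TensorProduct.lid k AG (δ.rTensor AG z) := by
        intro z
        induction z using TensorProduct.induction_on with
        | zero => simp
        | add a b ha hb => simp only [map_add, ha, hb, tmul_add]
        | tmul a b =>
          have hψF : ψ (F a) = δ a • (1 : AK) := by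
            refine Eq.trans ?_ (hδ a)
            show ψ (TensorProduct.lid k AG (δ.rTensor AG (CoalgebraStruct.comul (R := k) a))) =
              TensorProduct.lid k AK (δ.rTensor AK
                (Algebra.TensorProduct.map (AlgHom.id k AG) (ψ : AG →ₐ[k] AK) (CoalgebraStruct.comul (R := k) a)))
            generalize CoalgebraStruct.comul (R := k) a = w
            induction w using TensorProduct.induction_on with
            | zero => simp
            | add c d hc hd => simp only [map_add, hc, hd]
            | tmul c d => simp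
          rw [LinearMap.rTensor_tmul, Algebra.TensorProduct.map_tmul, LinearMap.rTensor_tmul, TensorProduct.lid_tmul]
          show ψ (F a) ⊗ₜ[k] b = _
          rw [hψF, TensorProduct.smul_tmul]
      exact key _
    have hF0 : ∀ q, F (φ q) = 0 := by
      intro q
      show TensorProduct.lid k AG (δ.rTensor AG (CoalgebraStruct.comul (R := k) (φ q))) = 0
      rw [comul_map]
      generalize CoalgebraStruct.comul (R := k) q = z
      induction z using TensorProduct.induction_on with
      | zero => simp
      | add a b ha hb => simp only [map_add, ha, hb, add_zero]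
      | tmul a b => simp [h0]
    -- a complement of the kernel of `F` consists of invariants, hence lies in the quotient
    obtain ⟨U, hU, hUc⟩ := H8Reductive.semisimple_of_lr hG AG _ (isSubcomod_ker hFhom)
    have hinj : ∀ u ∈ U, F u = 0 → u = 0 := fun u hu h =>
      Submodule.disjoint_def.mp hUc.1 u (LinearMap.mem_ker.mpr h) hu
    have hUR : ∀ u ∈ U, u ∈ R := by
      intro u hu
      refine mem_range_of_invariant hφ hψ hker _ (Or.inl ?_)
      obtain ⟨z, hz⟩ := hU u hu
      obtain ⟨q, hq⟩ := hFR u
      have h1 : CoalgebraStruct.comul (R := k) (F u) = F.rTensor AG (CoalgebraStruct.comul (R := k) u) := hco u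
      have hz' : CoalgebraStruct.comul (R := k) u = U.subtype.rTensor AG z := hz.symm
      let FU : U →ₗ[k] AG := F ∘ₗ U.subtype
      have hFU : Function.Injective (FU.rTensor AK) := Module.Flat.rTensor_preserves_injective_linearMap FU
        ((injective_iff_map_eq_zero FU).mpr fun w hw => Subtype.ext (hinj w w.2 hw))
      have e1 : ∀ w : U ⊗[k] AG, Algebra.TensorProduct.map (AlgHom.id k AG) (ψ : AG →ₐ[k] AK) (U.subtype.rTensor AG w) =
          U.subtype.rTensor AK ((ψ : AG →ₐ[k] AK).toLinearMap.lTensor U w) := fun w => by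
        induction w using TensorProduct.induction_on with
        | zero => simp
        | add a b ha hb => simp only [map_add, ha, hb]
        | tmul a b => simp
      have e2 : ∀ w : U ⊗[k] AG, Algebra.TensorProduct.map (AlgHom.id k AG) (ψ : AG →ₐ[k] AK) (F.rTensor AG (U.subtype.rTensor AG w)) =
          FU.rTensor AK ((ψ : AG →ₐ[k] AK).toLinearMap.lTensor U w) := fun w => by
        induction w using TensorProduct.induction_on with
        | zero => simp
        | add a b ha hb => simp only [map_add, ha, hb]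
        | tmul a b => simp [FU]
      have h2 : FU.rTensor AK ((ψ : AG →ₐ[k] AK).toLinearMap.lTensor U z) = FU.rTensor AK (⟨u, hu⟩ ⊗ₜ (1 : AK)) := by
        rw [← e2, ← hz', ← h1, LinearMap.rTensor_tmul]
        have h3 := (rco_map (ψ := ψ) hψφ q).1
        rw [show φ q = F u from hq] at h3
        exact h3
      show Algebra.TensorProduct.map (AlgHom.id k AG) (ψ : AG →ₐ[k] AK) (CoalgebraStruct.comul (R := k) u) = _
      rw [hz', e1, hFU h2]
      simp
    have hFz : F = 0 := by
      refine LinearMap.ext fun y => ?_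
      obtain ⟨a, ha, u, hu, rfl⟩ := Submodule.mem_sup.mp (hUc.2.eq_top ▸ Submodule.mem_top : y ∈ _ ⊔ U)
      obtain ⟨q, rfl⟩ := hUR u hu
      rw [map_add, LinearMap.mem_ker.mp ha, show F ((φ : AQ →ₐ[k] AG).toLinearMap q) = 0 from hF0 q]
      simp
    refine LinearMap.ext fun y => ?_
    have h4 : ε (F y) = δ y := by
      show CoalgebraStruct.counit (R := k) (TensorProduct.lid k AG (δ.rTensor AG (CoalgebraStruct.comul (R := k) y))) = δ y
      have h5 : ∀ z : AG ⊗[k] AG, CoalgebraStruct.counit (R := k) (TensorProduct.lid k AG (δ.rTensor AG z)) =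
          δ (TensorProduct.rid k AG ((CoalgebraStruct.counit (R := k) (A := AG)).lTensor AG z)) := fun z => by
        induction z using TensorProduct.induction_on with
        | zero => simp
        | add a b ha hb => simp only [map_add, ha, hb]
        | tmul a b => simp [mul_comm]
      rw [h5, Coalgebra.lTensor_counit_comul]
      simp
    rw [← h4, hFz]
    simp [ε]
  -- linearity over the quotient
  have hlin : ∀ q a, γ (φ q * a) = CoalgebraStruct.counit (R := k) q * γ a := by
    intro q
    let δ : AG →ₗ[k] k := γ ∘ₗ LinearMap.mulLeft k (φ q) - CoalgebraStruct.counit (R := k) q • γ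
    suffices δ = 0 from fun a => sub_eq_zero.mp (LinearMap.congr_fun this a)
    refine huniq δ (fun a => ?_) fun q' => ?_
    · have h1 := hγ (φ q * a)
      rw [map_mul, (rco_map (ψ := ψ) hψφ q).1] at h1
      have h2 := hγ a
      have key : ∀ z : AG ⊗[k] AK, TensorProduct.lid k AK (δ.rTensor AK z) =
          TensorProduct.lid k AK (γ.rTensor AK (φ q ⊗ₜ (1 : AK) * z)) -
            CoalgebraStruct.counit (R := k) q • TensorProduct.lid k AK (γ.rTensor AK z) := fun z => by
        induction z using TensorProduct.induction_on with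
        | zero => simp
        | add c d hc hd => simp only [map_add, mul_add, smul_add, hc, hd]; abel
        | tmul c d => simp [δ, sub_smul, smul_smul]
      rw [key, h1, h2]
      simp [δ, sub_smul, smul_smul]
    · simp [δ, ← map_mul, hγR, Bialgebra.counit_mul]
  have hvan : LinearMap.ker ((ψ : AG →ₐ[k] AK).toLinearMap) ≤ LinearMap.ker γ := by
    intro y hy
    have hy' : y ∈ RingHom.ker (ψ : AG →ₐ[k] AK) := hy
    rw [hker] at hy'
    suffices ∀ r, γ (r * y) = 0 by simpa using this 1
    refine Submodule.span_induction (fun z hz => ?_) ?_ (fun a b _ _ ha hb => ?_) (fun c a _ ha => ?_) hy'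
    · obtain ⟨q, hq, rfl⟩ := hz
      intro r
      rw [mul_comm]
      exact (hlin q r).trans (by rw [show CoalgebraStruct.counit (R := k) q = 0 from hq, zero_mul])
    · intro r; simp
    · intro r; rw [mul_add, map_add, ha, hb, add_zero]
    · intro r; rw [smul_eq_mul, ← mul_assoc]; exact ha _
  obtain ⟨p, hp⟩ := (ψ : AG →ₐ[k] AK).toLinearMap.exists_rightInverse_of_surjective (LinearMap.range_eq_top.mpr hψ)
  have hfac : ∀ a, (γ ∘ₗ p) (ψ a) = γ a := fun a => by
    refine sub_eq_zero.mp ?_
    rw [LinearMap.comp_apply, ← map_sub]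
    refine hvan (LinearMap.mem_ker.mpr ?_)
    rw [map_sub, show (ψ : AG →ₐ[k] AK).toLinearMap (p (ψ a)) = ψ a from LinearMap.congr_fun hp _]
    exact sub_self _
  refine ⟨γ ∘ₗ p, fun b => ?_, ?_⟩
  · obtain ⟨a, rfl⟩ := hψ b
    rw [hfac, ← hγ a, ← CoalgHomClass.map_comp_comul_apply ψ]
    show _ = TensorProduct.lid k AK (γ.rTensor AK
      (Algebra.TensorProduct.map (AlgHom.id k AG) (ψ : AG →ₐ[k] AK) (CoalgebraStruct.comul (R := k) a)))
    generalize CoalgebraStruct.comul (R := k) a = z
    induction z using TensorProduct.induction_on with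
    | zero => simp
    | add c d hc hd => simp only [map_add, hc, hd]
    | tmul c d => simpa using congrArg (· • ψ d) (hfac c)
  · have := (hfac 1).trans (by simpa using hγR 1)
    simpa using this

variable {φ ψ} in
theorem iff_exact (hφ : Function.Injective φ) (hψ : Function.Surjective ψ)
    (hker : RingHom.ker (ψ : AG →ₐ[k] AK) =
      Ideal.map (φ : AQ →ₐ[k] AG) (RingHom.ker (Bialgebra.counitAlgHom k AQ))) :
    HopfRep.IsLinearlyReductive k AG ↔
      HopfRep.IsLinearlyReductive k AK ∧ HopfRep.IsLinearlyReductive k AQ := by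
  simp only [H8Reductive.lr_iff_integral]
  constructor
  · rintro ⟨α, hα, h1⟩
    exact ⟨integral_sub hφ hψ hker (H8Reductive.lr_iff_integral.mpr ⟨α, hα, h1⟩), integral_quot φ hφ α hα h1⟩
  · rintro ⟨⟨α, hα, h1⟩, ⟨β, hβ, hb1⟩⟩
    exact integral_ext hφ hψ hker α hα h1 β hβ hb1

end Groth.Agent.H8LRExact
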