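import Mathlib
import Groth.Prelude.Def_SGA3x
import Groth.Agent.Lib.H8WeilFF

/-!
# Groups of multiplicative type are locally projective after a faithfully flat base change
-/

set_option autoImplicit false

universe u

open CategoryTheory Limits AlgebraicGeometry MonoidalCategory CartesianMonoidalCategory
open TensorProduct

namespace Groth.Agent.H8MultType

/-- Projectivity is transitive. -/
lemma projective_trans (R A M : Type u) [CommRing R] [CommRing A] [Algebra R A] [AddCommGroup M]
    [Module R M] [Module A M] [IsScalarTower R A M] [Module.Projective R A] [Module.Projective A M] :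
    Module.Projective R M := by
  obtain ⟨s, hs⟩ := (Module.projective_def' (R := A) (P := M)).mp inferInstance
  classical
  have : Module.Projective R (M →₀ A) :=
    Module.Projective.of_equiv (finsuppLequivDFinsupp (ι := M) (M := A) R).symm
  exact Module.Projective.of_split (M := M →₀ A) (s.restrictScalars R)
    ((Finsupp.linearCombination A id).restrictScalars R)
    (LinearMap.ext fun x => LinearMap.congr_fun hs x)

/-- A factor of a product ring is projective over the product. -/
lemma projective_factor {ι : Type u} (R : ι → Type u) [∀ i, CommRing (R i)] (j : ι) :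
    letI := (Pi.evalRingHom R j).toAlgebra; Module.Projective (∀ i, R i) (R j) := by
  classical
  letI := (Pi.evalRingHom R j).toAlgebra
  let sect : R j →ₗ[∀ i, R i] (∀ i, R i) :=
    { toFun := Pi.single j
      map_add' := Pi.single_add j
      map_smul' := fun c x => by
        ext i
        rcases eq_or_ne i j with rfl | h
        · show Pi.single i (c i * x) i = c i * Pi.single i x i
          simp
        · simp [Pi.single_eq_of_ne h] }
  refine Module.Projective.of_split sect (Algebra.linearMap (∀ i, R i) (R j)) ?_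
  ext x
  simp [sect, RingHom.algebraMap_toAlgebra]

variable {S : Scheme.{u}} (H : Over S) [GrpObj H]

set_option backward.isDefEq.respectTransparency false in
/-- Base change of a free affine scheme. -/
lemma exists_piece_aux {U : Scheme.{u}} (Z B₀ R : CommRingCat.{u}) [Algebra Z B₀] [Module.Free Z B₀]
    (σ : Z ⟶ R) (τ : U ⟶ Spec Z) (p : Spec R ⟶ U) (h : p ≫ τ = Spec.map σ) :
    ∃ (B : CommRingCat.{u}) (m : Spec B ⟶ pullback (Spec.map (CommRingCat.ofHom (algebraMap Z B₀))) τ)
      (β : R ⟶ B), IsPullback m (Spec.map β) (pullback.snd _ _) p ∧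
      (letI := β.hom.toAlgebra; Module.Projective R B) := by
  let : Algebra Z R := σ.hom.toAlgebra
  let β : R ⟶ CommRingCat.of (R ⊗[Z] B₀) :=
    CommRingCat.ofHom Algebra.TensorProduct.includeLeftRingHom
  have hP := (H8Weil.isPullback_tensor Z R B₀).flip
  let r : Spec (CommRingCat.of (R ⊗[Z] B₀)) ⟶ Spec B₀ :=
    Spec.map (CommRingCat.ofHom Algebra.TensorProduct.includeRight.toRingHom)
  have hP' : IsPullback r (Spec.map β) (Spec.map (CommRingCat.ofHom (algebraMap Z B₀))) (p ≫ τ) := by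
    rw [h]
    exact hP
  let m : Spec (CommRingCat.of (R ⊗[Z] B₀)) ⟶
      pullback (Spec.map (CommRingCat.ofHom (algebraMap Z B₀))) τ :=
    pullback.lift r (Spec.map β ≫ p) (by rw [hP'.w, Category.assoc])
  have hm : IsPullback m (Spec.map β) (pullback.snd _ _) p := by
    refine IsPullback.of_right ?_ (pullback.lift_snd _ _ _)
      (IsPullback.of_hasPullback (Spec.map (CommRingCat.ofHom (algebraMap Z B₀))) τ)
    rw [show m ≫ pullback.fst _ _ = r from pullback.lift_fst _ _ _]
    exact hP'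
  refine ⟨_, m, β, hm, ?_⟩
  have e' : β.hom.toAlgebra = (Algebra.TensorProduct.leftAlgebra : Algebra R (R ⊗[Z] B₀)) :=
    Algebra.algebra_ext _ _ fun _ => rfl
  rw [e']
  infer_instance

set_option backward.isDefEq.respectTransparency false in
/-- Over an affine mapping into a trivialising open, the group is the spectrum of a free algebra. -/
lemma exists_piece {U : Scheme.{u}} (q : U ⟶ S) (M : Type) [AddCommGroup M]
    (e : Grp.mk (Red.bc q H) ≅ Grp.mk (Red.DS U M)) (R : CommRingCat.{u}) (p : Spec R ⟶ U) :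
    ∃ (B : CommRingCat.{u}) (u : Spec B ⟶ H.left) (β : R ⟶ B),
      IsPullback u (Spec.map β) H.hom (p ≫ q) ∧
      (letI := β.hom.toAlgebra; Module.Projective R B) := by
  let τ : U ⟶ Spec (CommRingCat.of (ULift.{u} ℤ)) := specULiftZIsTerminal.from U
  have : Module.Free (ULift.{u} ℤ) (MonoidAlgebra (ULift.{u} ℤ) (Multiplicative M)) :=
    inferInstance
  obtain ⟨B, m, β, hm, hproj⟩ := exists_piece_aux (CommRingCat.of (ULift.{u} ℤ))
    (CommRingCat.of (MonoidAlgebra (ULift.{u} ℤ) (Multiplicative M))) R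
    (Spec.preimage (p ≫ τ)) τ p (Spec.map_preimage _).symm
  let m' : Spec B ⟶ (Red.DS U M).left := m
  have hm' : IsPullback m' (Spec.map β) (Red.DS U M).hom p := hm
  let ψ : (Red.DS U M) ≅ Red.bc q H := ((Grp.forget _).mapIso e).symm
  have hψ : IsPullback (m' ≫ ψ.hom.left) (Spec.map β) (pullback.snd H.hom q) p := by
    refine hm'.of_iso (Iso.refl _) ((Over.forget U).mapIso ψ) (Iso.refl _) (Iso.refl _) ?_ ?_ ?_ ?_
    · simp
    · simp
    · simpa using (Over.w ψ.hom).symm
    · simp
  exact ⟨_, (m' ≫ ψ.hom.left) ≫ pullback.fst H.hom q, β,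
    hψ.paste_horiz (IsPullback.of_hasPullback H.hom q), hproj⟩

set_option backward.isDefEq.respectTransparency false in
/-- Groups of multiplicative type of finite type are locally projective after a faithfully flat
base change, and quasi-compact. -/
theorem locFF_and_quasiCompact (hH : SGA3x.IsMultTypeFT H) :
    H8WeilFF.LocFF H.hom ∧ QuasiCompact H.hom := by
  obtain ⟨S', f, hf, hfs, hqc, htriv⟩ := hH
  have main : ∀ U : S.affineOpens, ∃ (R' : CommRingCat.{u}) (ρ : Γ(S, U.1) ⟶ R'),
      Flat (Spec.map ρ) ∧ Surjective (Spec.map ρ) ∧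
        H8Weil.ProjCover H.hom (Spec.map ρ ≫ U.2.fromSpec) ∧
        CompactSpace ↥(pullback H.hom (Spec.map ρ ≫ U.2.fromSpec)) := by
    intro U
    obtain ⟨W, hW, hWU⟩ := hqc U.1 U.2
    choose T hT M hM hMfg hiso using htriv
    have hWf : ∀ w ∈ W, w ∈ f ⁻¹ᵁ U.1 := fun w hw => by
      show f w ∈ (U.1 : Set S)
      rw [← hWU]
      exact ⟨w, hw, rfl⟩
    have hc : ∀ w : W, ∃ V : S'.affineOpens, (w : S') ∈ V.1 ∧ V.1 ≤ T w.1 ∧ V.1 ≤ f ⁻¹ᵁ U.1 := by
      intro w
      obtain ⟨_, ⟨V, hV, rfl⟩, hwV, hle⟩ := S'.isBasis_affineOpens.exists_subset_of_mem_open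
        (show (w : S') ∈ T w.1 ⊓ f ⁻¹ᵁ U.1 from ⟨hT _, hWf _ w.2⟩) (T w.1 ⊓ f ⁻¹ᵁ U.1).isOpen
      exact ⟨⟨V, hV⟩, hwV, fun z hz => (hle hz).1, fun z hz => (hle hz).2⟩
    choose V hwV hVT hVU using hc
    obtain ⟨t, ht⟩ := hW.elim_finite_subcover (fun w : W => ((V w).1 : Set S'))
      (fun w => (V w).1.isOpen) fun w hw => Set.mem_iUnion.mpr ⟨⟨w, hw⟩, hwV ⟨w, hw⟩⟩
    let R : ↥t → CommRingCat.{u} := fun j => Γ(S', (V j.1).1)
    let φ : ∀ j : ↥t, Γ(S, U.1) ⟶ R j := fun j => f.appLE U.1 (V j.1).1 (hVU j.1)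
    let R' : CommRingCat.{u} := CommRingCat.of (∀ j, R j)
    let ρ : Γ(S, U.1) ⟶ R' := CommRingCat.ofHom (RingHom.pi fun j => (φ j).hom)
    let ev : ∀ j, R' ⟶ R j := fun j => CommRingCat.ofHom (Pi.evalRingHom _ j)
    have hρ : ∀ j, ρ ≫ ev j = φ j := fun j => by ext x; rfl
    have hφ : ∀ j, Spec.map (φ j) ≫ U.2.fromSpec = (V j.1).2.fromSpec ≫ f := fun j =>
      IsAffineOpen.SpecMap_appLE_fromSpec f U.2 (V j.1).2 (hVU j.1)
    have hcov : ∀ z : Spec R', ∃ (j : _) (z' : Spec (R j)), Spec.map (ev j) z' = z := by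
      intro z
      obtain ⟨w, hw⟩ := (sigmaSpec R).surjective z
      obtain ⟨(j : ↥t), (z' : Spec (R j)), rfl⟩ := (sigmaOpenCover fun j => Spec (R j)).exists_eq w
      exact ⟨j, z', by rw [← hw, ← Scheme.Hom.comp_apply]; exact congrArg (fun r => r z') (ι_sigmaSpec R j).symm⟩
    have hflat : Flat (Spec.map ρ) := by
      rw [← MorphismProperty.cancel_left_of_respectsIso @Flat (sigmaSpec R)]
      refine (IsZariskiLocalAtSource.iff_of_openCover (sigmaOpenCover fun j => Spec (R j))).mpr ?_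
      intro j
      show Flat (Sigma.ι (fun j => Spec (R j)) j ≫ sigmaSpec R ≫ Spec.map ρ)
      rw [← Category.assoc, ι_sigmaSpec, ← Spec.map_comp]
      show Flat (Spec.map (ρ ≫ ev j))
      rw [hρ, HasRingHomProperty.Spec_iff (P := @Flat)]
      exact f.flat_appLE U.2 (V j.1).2 (hVU j.1)
    have hsurj : Surjective (Spec.map ρ) := ⟨fun y => by
      have hy : U.2.fromSpec y ∈ (U.1 : Set S) := by rw [← U.2.range_fromSpec]; exact ⟨y, rfl⟩
      rw [← hWU] at hy
      obtain ⟨w, hw, hwy⟩ := hy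
      obtain ⟨i, hi, hiV⟩ := Set.mem_iUnion₂.mp (ht hw)
      rw [← (V i).2.range_fromSpec] at hiV
      obtain ⟨z, hz⟩ := hiV
      refine ⟨Spec.map (ev ⟨i, hi⟩) z, U.2.fromSpec.isOpenEmbedding.injective ?_⟩
      have e2 : Spec.map (ev ⟨i, hi⟩) ≫ Spec.map ρ ≫ U.2.fromSpec = (V i).2.fromSpec ≫ f := by
        rw [← Spec.map_comp_assoc, hρ]
        exact hφ ⟨i, hi⟩
      show (Spec.map (ev ⟨i, hi⟩) ≫ Spec.map ρ ≫ U.2.fromSpec) z = _
      rw [e2, Scheme.Hom.comp_apply, hz]
      exact hwy⟩
    have hpiece : ∀ j : ↥t, ∃ (B : CommRingCat.{u}) (jB : Spec B ⟶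
        pullback H.hom (Spec.map ρ ≫ U.2.fromSpec)) (β : R j ⟶ B),
        IsPullback jB (Spec.map β) (pullback.snd _ _) (Spec.map (ev j)) ∧
        (letI := β.hom.toAlgebra; Module.Projective (R j) B) := by
      intro j
      have hr : Set.range (V j.1).2.fromSpec ⊆ Set.range (T j.1.1).ι := by
        rw [IsAffineOpen.range_fromSpec, Scheme.Opens.range_ι]
        exact hVT j.1
      let p := IsOpenImmersion.lift (T j.1.1).ι (V j.1).2.fromSpec hr
      obtain ⟨B, u, β, hu, hproj⟩ := @exists_piece S H _ _ ((T j.1.1).ι ≫ f) (M j.1.1)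
        (hM j.1.1) (hiso j.1.1).some (R j) p
      have e : p ≫ (T j.1.1).ι ≫ f = Spec.map (ev j) ≫ Spec.map ρ ≫ U.2.fromSpec := by
        rw [← Category.assoc, IsOpenImmersion.lift_fac, ← hφ, ← hρ, Spec.map_comp, Category.assoc]
      rw [e] at hu
      let jB := pullback.lift (f := H.hom) (g := Spec.map ρ ≫ U.2.fromSpec) u
        (Spec.map β ≫ Spec.map (ev j)) (by rw [hu.w, Category.assoc])
      refine ⟨B, jB, β, IsPullback.of_right ?_ (pullback.lift_snd _ _ _)
        (IsPullback.of_hasPullback H.hom (Spec.map ρ ≫ U.2.fromSpec)), hproj⟩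
      rw [show jB ≫ pullback.fst _ _ = u from pullback.lift_fst _ _ _]
      exact hu
    choose B jB β hjB hproj using hpiece
    have hev : ∀ j, IsOpenImmersion (Spec.map (ev j)) := fun j => by
      rw [← ι_sigmaSpec R j]
      infer_instance
    have hjo : ∀ j, IsOpenImmersion (jB j) := fun j =>
      MorphismProperty.of_isPullback (P := @IsOpenImmersion) (hjB j).flip (hev j)
    have hjc : ∀ y, ∃ j, y ∈ Set.range (jB j) := fun y => by
      obtain ⟨j, z', hz'⟩ := hcov (pullback.snd H.hom (Spec.map ρ ≫ U.2.fromSpec) y)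
      obtain ⟨b, hb, -⟩ := Scheme.exists_preimage_of_isPullback (hjB j) y z' hz'.symm
      exact ⟨j, b, hb⟩
    refine ⟨R', ρ, hflat, hsurj, fun y => ?_, ⟨?_⟩⟩
    · obtain ⟨j, hj⟩ := hjc y
      refine ⟨B j, jB j, ev j ≫ β j, hjo j, hj, ?_, ?_⟩
      · rw [Spec.map_comp]; exact (hjB j).w.symm
      · letI : Algebra R' (B j) := (ev j ≫ β j).hom.toAlgebra
        letI : Algebra (R j) (B j) := (β j).hom.toAlgebra
        letI : Algebra R' (R j) := (ev j).hom.toAlgebra
        haveI : IsScalarTower R' (R j) (B j) := IsScalarTower.of_algebraMap_eq fun _ => rfl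
        haveI : Module.Projective R' (R j) := projective_factor (fun j => R j) j
        haveI : Module.Projective (R j) (B j) := hproj j
        exact projective_trans R' (R j) (B j)
    · rw [show (Set.univ : Set ↥(pullback H.hom (Spec.map ρ ≫ U.2.fromSpec))) =
          ⋃ j, Set.range (jB j) from
        (Set.eq_univ_of_forall fun y => Set.mem_iUnion.mpr (hjc y)).symm]
      exact isCompact_iUnion fun j => isCompact_range (jB j).continuous
  constructor
  · intro s
    obtain ⟨_, ⟨U, hU, rfl⟩, hsU, -⟩ :=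
      S.isBasis_affineOpens.exists_subset_of_mem_open (Set.mem_univ s) isOpen_univ
    obtain ⟨R', ρ, h₁, h₂, h₃, -⟩ := main ⟨U, hU⟩
    exact ⟨_, R', ρ, hU.fromSpec, hU.isOpenImmersion_fromSpec, hU.range_fromSpec.symm ▸ hsU,
      h₁, h₂, h₃⟩
  · refine quasiCompact_iff_forall_isAffineOpen.mpr fun U hU => ?_
    obtain ⟨R', ρ, -, h₂, -, h₄⟩ := main ⟨U, hU⟩
    have e : (H.hom ⁻¹ᵁ U : Set H.left) =
        Set.range (pullback.fst H.hom (Spec.map ρ ≫ hU.fromSpec)) := by
      rw [Scheme.Pullback.range_fst, Scheme.Hom.comp_base, TopCat.coe_comp, Set.range_comp,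
        Set.range_eq_univ.mpr (Spec.map ρ).surjective, Set.image_univ, IsAffineOpen.range_fromSpec]
      rfl
    rw [e]
    exact isCompact_range (Scheme.Hom.continuous (pullback.fst H.hom (Spec.map ρ ≫ hU.fromSpec)))

end Groth.Agent.H8MultType
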