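import Mathlib
import Groth.Prelude.Def_SGA3x
import Groth.Prelude.Def_AlgGrp
import Groth.Agent.Lib.H8CentralDescent
import Groth.Agent.Lib.H8MultLFT
import Groth.Agent.Lib.H8MultType
import Groth.Agent.Lib.FpqcDescent

/-!
# Normal subgroups of multiplicative type of groups with connected fibres are central
-/

set_option autoImplicit false

universe u

open CategoryTheory Limits AlgebraicGeometry MonoidalCategory CartesianMonoidalCategory MonObj

noncomputable section

namespace Groth.Agent.H8MultCentral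

section Comm

set_option backward.isDefEq.respectTransparency false in
lemma comm_pullback {A B : Scheme.{u}} (t : A ⟶ B) {D : Over B} [GrpObj D] [IsCommMonObj D] {T : Over A}
    (g h : T ⟶ Red.bc t D) : g * h = h * g := by
  obtain ⟨w, h1, h2⟩ := H8CentralDescent.exists_pair t g h
  have := congrArg (fun k => w ≫ (Over.pullback t).map k) (mul_comm (fst D D) (snd D D))
  simp only [Functor.map_mul, MonObj.comp_mul, h1, h2] at this
  exact this

attribute [local instance] ULift.algebra' in
lemma comm_DS {U : Scheme.{u}} (M : Type) [AddCommGroup M] {T : Over U} (g h : T ⟶ Red.DS U M) :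
    g * h = h * g :=
  comm_pullback _ g h

set_option backward.isDefEq.respectTransparency false in
lemma comm {S : Scheme.{u}} {H : Over S} [GrpObj H] (hH : SGA3x.IsMultTypeFT H) {T : Over S} (g h : T ⟶ H) :
    g * h = h * g := by
  obtain ⟨S', f, hf, hfs, -, htriv⟩ := hH
  haveI := hf; haveI := hfs
  let pr := pullback.fst T.hom f
  haveI : Epi pr := Flat.epi_of_flat_of_surjective pr
  refine Over.OverMorphism.ext ((cancel_epi pr).mp (Scheme.hom_ext_of_forall _ _ fun z => ?_))
  obtain ⟨U, hU, M, iM, -, ⟨φ⟩⟩ := htriv (pullback.snd T.hom f z)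
  refine ⟨pullback.snd T.hom f ⁻¹ᵁ U, hU, ?_⟩
  let t : Over (U : Scheme.{u}) := Over.mk (pullback.snd T.hom f ∣_ U)
  let m : (Over.map (U.ι ≫ f)).obj t ⟶ T := Over.homMk ((pullback.snd T.hom f ⁻¹ᵁ U).ι ≫ pr) (by
    show ((pullback.snd T.hom f ⁻¹ᵁ U).ι ≫ pr) ≫ T.hom = (pullback.snd T.hom f ∣_ U) ≫ U.ι ≫ f
    rw [Category.assoc, pullback.condition, ← Category.assoc, ← Category.assoc]
    exact congrArg (· ≫ f) (morphismRestrict_ι _ U).symm)
  let e := H8DiagRigid.adjEquiv (U.ι ≫ f) H t
  have h1 : e (m ≫ g) * e (m ≫ h) = e (m ≫ h) * e (m ≫ g) := by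
    have := comm_DS M (e (m ≫ g) ≫ φ.hom.hom.hom) (e (m ≫ h) ≫ φ.hom.hom.hom)
    rw [← MonObj.mul_comp, ← MonObj.mul_comp] at this
    haveI hi : IsIso φ.hom.hom.hom := ⟨φ.inv.hom.hom, congrArg (fun k => k.hom.hom) φ.hom_inv_id,
      congrArg (fun k => k.hom.hom) φ.inv_hom_id⟩
    exact (cancel_mono φ.hom.hom.hom).mp this
  rw [← map_mul, ← map_mul] at h1
  have h2 := congrArg CommaMorphism.left (e.injective h1)
  rw [← MonObj.comp_mul, ← MonObj.comp_mul] at h2
  exact (Category.assoc _ _ _).symm.trans (h2.trans (Category.assoc _ _ _))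

set_option backward.isDefEq.respectTransparency false in
lemma separated {S : Scheme.{u}} {H : Over S} [GrpObj H] (hH : SGA3x.IsMultTypeFT H) : IsSeparated H.hom := by
  obtain ⟨S', f, hf, hfs, hqc, htriv⟩ := hH
  haveI := hf; haveI := hfs
  choose U hU M iM hfg hiso using htriv
  have hsep : IsSeparated (pullback.snd H.hom f) := by
    refine (IsZariskiLocalAtTarget.iff_of_iSup_eq_top (P := @IsSeparated) U
      (top_le_iff.mp fun z _ => TopologicalSpace.Opens.mem_iSup.mpr ⟨z, hU z⟩)).mpr fun z => ?_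
    obtain ⟨φ⟩ := hiso z
    letI := iM z
    let D := Red.diag (ULift.{u} ℤ) (M z)
    haveI : IsSeparated D.hom := inferInstanceAs (IsSeparated (Spec.map _))
    haveI : IsSeparated (Red.DS (U z : Scheme.{u}) (M z)).hom :=
      MorphismProperty.pullback_snd (P := @IsSeparated) _ _ inferInstance
    let ψ : Red.bc ((U z).ι ≫ f) H ≅ Red.DS (U z : Scheme.{u}) (M z) := (Grp.forget _).mapIso φ
    haveI : IsSeparated (Red.bc ((U z).ι ≫ f) H).hom := by
      rw [← Over.w ψ.hom]
      infer_instance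
    haveI : IsSeparated (pullback.snd H.hom ((U z).ι ≫ f)) := ‹IsSeparated (Red.bc ((U z).ι ≫ f) H).hom›
    have hP := (isPullback_morphismRestrict (pullback.snd H.hom f) (U z)).flip.paste_horiz
      (IsPullback.of_hasPullback H.hom f)
    rw [← hP.isoPullback_hom_snd]
    infer_instance
  refine (IsZariskiLocalAtTarget.iff_of_iSup_eq_top (P := @IsSeparated) (fun V : S.affineOpens => V.1)
    (iSup_affineOpens_eq_top S)).mpr fun V => ?_
  obtain ⟨W, hW, hWV⟩ := hqc V.1 V.2
  have hle : W ≤ f ⁻¹ᵁ V.1 := fun w hw => by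
    show f w ∈ (V.1 : Set S)
    rw [← hWV]
    exact ⟨w, hw, rfl⟩
  let ρ : (W : Scheme.{u}) ⟶ (V.1 : Scheme.{u}) := f.resLE V.1 W hle
  haveI : CompactSpace (W : Scheme.{u}) := isCompact_iff_compactSpace.mp hW
  haveI : IsAffine (V.1 : Scheme.{u}) := V.2
  haveI : Surjective ρ := ⟨fun v => by
    obtain ⟨w, hw, e⟩ := hWV.ge v.2
    refine ⟨⟨w, hw⟩, ?_⟩
    apply Subtype.ext
    rw [← e]
    show V.1.ι (ρ ⟨w, hw⟩) = f (W.ι ⟨w, hw⟩)
    rw [← Scheme.Hom.comp_apply, ← Scheme.Hom.comp_apply, Scheme.Hom.resLE_comp_ι]⟩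
  refine MorphismProperty.of_pullback_fst_of_descendsAlong (P := @IsSeparated)
    (Q := @Surjective ⊓ @Flat ⊓ @QuasiCompact) (f := ρ) ⟨⟨inferInstance, inferInstance⟩, inferInstance⟩ ?_
  have hP : IsPullback (pullback.snd ρ (H.hom ∣_ V.1) ≫ (H.hom ⁻¹ᵁ V.1).ι) (pullback.fst ρ (H.hom ∣_ V.1))
      H.hom (W.ι ≫ f) := by
    have := (IsPullback.of_hasPullback ρ (H.hom ∣_ V.1)).flip.paste_horiz (isPullback_morphismRestrict H.hom V.1).flip
    rwa [Scheme.Hom.resLE_comp_ι] at this
  have : IsPullback _ _ (pullback.snd H.hom f) W.ι :=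
    IsPullback.of_right (h₁₁ := pullback.lift (pullback.snd ρ (H.hom ∣_ V.1) ≫ (H.hom ⁻¹ᵁ V.1).ι)
      (pullback.fst ρ (H.hom ∣_ V.1) ≫ W.ι) (by rw [hP.w, Category.assoc]))
      (by rw [pullback.lift_fst]; exact hP) (pullback.lift_snd _ _ _) (IsPullback.of_hasPullback H.hom f)
  exact MorphismProperty.of_isPullback this hsep

end Comm

set_option backward.isDefEq.respectTransparency false in
theorem result {S : Scheme.{u}} (K H : Over S) [GrpObj K] [GrpObj H]
    (hconn : ∀ s : S, ConnectedSpace ↥(Limits.pullback K.hom (S.fromSpecResidueField s)))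
    (i : H ⟶ K) [IsMonHom i] [Mono i] (hH : SGA3x.IsMultTypeFT H) (hn : AlgGrp.IsNormalHom i) :
    ∀ (X : Over S) (k : X ⟶ K) (h : X ⟶ H), k * (h ≫ i) = (h ≫ i) * k := by
  let q := K.hom
  let H' := Red.bc q H
  let e := fun X : Over K.left => H8DiagRigid.adjEquiv q H X
  let κ : ∀ X : Over K.left, (Over.map q).obj X ⟶ K := fun X => Over.homMk X.hom
  obtain ⟨n', hn'⟩ := hn _ (κ H') ((e H').symm (𝟙 H'))
  let a : H' ⟶ H' := e H' n'
  have hnat : ∀ {X Y : Over K.left} (m : X ⟶ Y) (x : (Over.map q).obj Y ⟶ H),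
      e X ((Over.map q).map m ≫ x) = m ≫ e Y x := fun m x =>
    (Over.mapPullbackAdj q).homEquiv_naturality_left m x
  have hnat' : ∀ {X Y : Over K.left} (m : X ⟶ Y) (x : Y ⟶ H'),
      (e X).symm (m ≫ x) = (Over.map q).map m ≫ (e Y).symm x := fun {X Y} m x => by
    apply (e X).injective
    rw [MulEquiv.apply_symm_apply, hnat, MulEquiv.apply_symm_apply]
  have hκ : ∀ {X Y : Over K.left} (m : X ⟶ Y), (Over.map q).map m ≫ κ Y = κ X := fun m =>
    Over.OverMorphism.ext (Over.w m)
  have ha : ∀ (X : Over K.left) (h : X ⟶ H'),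
      (e X).symm (h ≫ a) ≫ i = κ X * ((e X).symm h ≫ i) * (κ X)⁻¹ := by
    intro X h
    rw [hnat', MulEquiv.symm_apply_apply, Category.assoc, ← hn', MonObj.comp_mul, MonObj.comp_mul, GrpObj.comp_inv,
      hκ, ← Category.assoc, ← hnat', Category.comp_id]
  haveI : IsMonHom a :=
    { one_hom := by
        rw [MonObj.one_eq_one]
        apply (e _).symm.injective
        rw [← cancel_mono i, ha, map_one, MonObj.one_comp, _root_.mul_one, mul_inv_cancel]
      mul_hom := by
        have e' : (a ⊗ₘ a) ≫ μ[H'] = (fst H' H' ≫ a) * (snd H' H' ≫ a) := by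
          rw [MonObj.mul_eq_mul, MonObj.comp_mul, tensorHom_fst, tensorHom_snd]
        rw [e', MonObj.mul_eq_mul]
        apply (e _).symm.injective
        rw [← cancel_mono i, ha, map_mul, map_mul, MonObj.mul_comp, MonObj.mul_comp, ha, ha]
        group }
  have hH' := H8CentralDescent.isMultTypeFT_bc q hH
  have hcm : ∀ (X : Over K.left) (g : X ⟶ H') (h : X ⟶ H') (b : H' ⟶ H'), g * (h ≫ b) = (h ≫ b) * g :=
    fun X g h b => comm hH' g (h ≫ b)
  let v : H' ⟶ H' := a * (𝟙 H')⁻¹
  haveI : IsMonHom v := H8CentralDescent.quot_hom a (𝟙 H') (fun X g h => hcm X g h a) (fun X g h => hcm X g h _)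
  haveI := separated hH'
  haveI : LocallyOfFinitePresentation H'.hom := H8MultLFT.lfp hH'
  haveI : QuasiCompact H'.hom := (H8MultType.locFF_and_quasiCompact H' hH').2
  obtain ⟨U, hUc, hUmem, hUv⟩ := H8MultTrivLocus.result v hH' (.inr ⟨inferInstance, inferInstance, inferInstance⟩)
  have hv : ∀ (X : Over K.left) (h : X ⟶ H'), h ≫ v = 1 ↔ h ≫ a = h := fun X h => by
    simp only [v, MonObj.comp_mul, GrpObj.comp_inv, Category.comp_id, mul_inv_eq_one]
  have hη : H8MultTrivLocus.Triv v η[K].left := by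
    intro X p h
    rw [hv]
    apply (e X).symm.injective
    rw [← cancel_mono i, ha]
    have hk : κ X = 1 := by
      apply Over.OverMorphism.ext
      show X.hom = _
      have hp : X.hom = p.left ≫ η[K].left := (Over.w p).symm
      have h2 : ((Over.map q).obj X).hom = p.left := by
        show X.hom ≫ K.hom = p.left
        rw [hp, Category.assoc, Over.w]
        exact Category.comp_id _
      rw [Hom.one_def, Over.comp_left]
      show _ = ((Over.map q).obj X).hom ≫ η[K].left
      rw [h2]; exact hp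
    rw [hk, _root_.one_mul, inv_one, _root_.mul_one]
  have hid : ∀ s : S, η[K].left s ∈ U := by
    intro s
    rw [hUmem, ← H8MultTrivLocus.triv_iff_map_eq_one]
    refine H8MultTrivLocus.triv_descend v (Spec.map (η[K].left.residueFieldMap s)) ?_
    rw [Scheme.Hom.SpecMap_residueFieldMap_fromSpecResidueField]
    exact H8MultTrivLocus.triv_comp v _ hη
  have htop : U = ⊤ := top_le_iff.mp fun x _ => by
    let j := pullback.fst K.hom (S.fromSpecResidueField (K.hom x))
    haveI := hconn (K.hom x)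
    have hrange : ∀ y : K.left, K.hom y = K.hom x → y ∈ Set.range j := fun y hy => by
      rw [Scheme.Pullback.range_fst, Scheme.range_fromSpecResidueField]
      exact hy
    have hclop : IsClopen (j ⁻¹' (U : Set K.left)) := ⟨hUc.preimage j.continuous, U.2.preimage j.continuous⟩
    obtain ⟨x', hx'⟩ := hrange x rfl
    obtain ⟨y', hy'⟩ := hrange (η[K].left (K.hom x)) (by
      rw [← Scheme.Hom.comp_apply, Over.w]; rfl)
    rcases isClopen_iff.mp hclop with h0 | h1
    · exfalso
      have : y' ∈ j ⁻¹' (U : Set K.left) := by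
        show j y' ∈ U
        rw [hy']
        exact hid _
      rw [h0] at this
      exact this
    · have : x' ∈ j ⁻¹' (U : Set K.left) := by rw [h1]; trivial
      rw [← hx']
      exact this
  subst htop
  have h2 := H8MultTrivLocus.triv_comp v K.left.topIso.inv ((H8MultTrivLocus.triv_iff_map_eq_one v _).mpr hUv)
  rw [show K.left.topIso.inv ≫ (⊤ : K.left.Opens).ι = 𝟙 _ from by simp] at h2
  intro X k h
  let X' : Over K.left := Over.mk k.left
  let m : (Over.map q).obj X' ⟶ X := Over.homMk (𝟙 _) (by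
    show 𝟙 _ ≫ X.hom = k.left ≫ K.hom
    rw [Category.id_comp, Over.w])
  let m' : X ⟶ (Over.map q).obj X' := Over.homMk (𝟙 _) (by
    show 𝟙 _ ≫ k.left ≫ K.hom = X.hom
    rw [Category.id_comp, Over.w])
  have hm : m' ≫ m = 𝟙 X := Over.OverMorphism.ext (Category.id_comp _)
  have hk : κ X' = m ≫ k := Over.OverMorphism.ext (Category.id_comp _).symm
  have hav := (hv X' (e X' (m ≫ h))).mp (h2 X' (Over.homMk k.left (Category.comp_id _)) _)
  have := ha X' (e X' (m ≫ h))
  rw [hav, MulEquiv.symm_apply_apply, hk] at this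
  have h3 := congrArg (m' ≫ ·) this
  simp only [MonObj.comp_mul, GrpObj.comp_inv, ← Category.assoc, hm, Category.id_comp] at h3
  conv_rhs => rw [h3]
  group

end Groth.Agent.H8MultCentral

end
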