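import Mathlib
import Groth.Prelude.Def_SGA3x
import Groth.Prelude.Def_Red2
import Groth.Agent.Lib.H8MultCentral

/-!
# The centralising locus of a family of normalising elements is clopen
-/

set_option autoImplicit false

universe u

open CategoryTheory Limits AlgebraicGeometry MonoidalCategory CartesianMonoidalCategory MonObj

noncomputable section

namespace Groth.Agent.H8MultCentral

set_option backward.isDefEq.respectTransparency false in
/-- The points of a normalising family centralising a subgroup of multiplicative type form a clopen subscheme. -/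
theorem locus {S : Scheme.{u}} {K G H : Over S} [GrpObj G] [GrpObj H] (k : K ⟶ G)
    (i : H ⟶ G) [IsMonHom i] [Mono i] (hH : SGA3x.IsMultTypeFT H)
    (hn : ∀ (X : Over S) (x : X ⟶ K) (h : X ⟶ H), ∃ n' : X ⟶ H, (x ≫ k) * (h ≫ i) * (x ≫ k)⁻¹ = n' ≫ i) :
    ∃ U : K.left.Opens, IsClosed (U : Set K.left) ∧ ∀ (X : Over S) (x : X ⟶ K), Set.range x.left ⊆ (U : Set K.left) ↔
      ∀ (X' : Over S) (m : X' ⟶ X) (h : X' ⟶ H), (m ≫ x ≫ k) * (h ≫ i) = (h ≫ i) * (m ≫ x ≫ k) := by
  let q := K.hom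
  let H' := Red.bc q H
  let e := fun X : Over K.left => H8DiagRigid.adjEquiv q H X
  let κ : ∀ X : Over K.left, (Over.map q).obj X ⟶ K := fun X => Over.homMk X.hom
  obtain ⟨n', hn'⟩ := hn _ (κ H') ((e H').symm (𝟙 H'))
  let a : H' ⟶ H' := e H' n'
  have hnat : ∀ {X Y : Over K.left} (m : X ⟶ Y) (x : (Over.map q).obj Y ⟶ H),
      e X ((Over.map q).map m ≫ x) = m ≫ e Y x := fun m x =>
    (Over.mapPullbackAdj q).homEquiv_naturality_left m x
  have hnat' : ∀ {X Y : Over K.left} (m : X ⟶ Y) (x : Y ⟶ H'),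
      (e X).symm (m ≫ x) = (Over.map q).map m ≫ (e Y).symm x := fun {X Y} m x => by
    apply (e X).injective
    rw [MulEquiv.apply_symm_apply, hnat, MulEquiv.apply_symm_apply]
  have hκ : ∀ {X Y : Over K.left} (m : X ⟶ Y), (Over.map q).map m ≫ κ Y = κ X := fun m =>
    Over.OverMorphism.ext (Over.w m)
  have ha : ∀ (X : Over K.left) (h : X ⟶ H'),
      (e X).symm (h ≫ a) ≫ i = (κ X ≫ k) * ((e X).symm h ≫ i) * (κ X ≫ k)⁻¹ := by
    intro X h
    rw [hnat', MulEquiv.symm_apply_apply, Category.assoc, ← hn', MonObj.comp_mul, MonObj.comp_mul, GrpObj.comp_inv,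
      ← Category.assoc, hκ, ← Category.assoc, ← hnat', Category.comp_id]
  haveI : IsMonHom a :=
    { one_hom := by
        rw [MonObj.one_eq_one]
        apply (e _).symm.injective
        rw [← cancel_mono i, ha, map_one, MonObj.one_comp, _root_.mul_one, mul_inv_cancel]
      mul_hom := by
        have e' : (a ⊗ₘ a) ≫ μ[H'] = (fst H' H' ≫ a) * (snd H' H' ≫ a) := by
          rw [MonObj.mul_eq_mul, MonObj.comp_mul, tensorHom_fst, tensorHom_snd]
        rw [e', MonObj.mul_eq_mul]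
        apply (e _).symm.injective
        rw [← cancel_mono i, ha, map_mul, map_mul, MonObj.mul_comp, MonObj.mul_comp, ha, ha]
        group }
  have hH' := H8CentralDescent.isMultTypeFT_bc q hH
  have hcm : ∀ (X : Over K.left) (g : X ⟶ H') (h : X ⟶ H') (b : H' ⟶ H'), g * (h ≫ b) = (h ≫ b) * g :=
    fun X g h b => comm hH' g (h ≫ b)
  let v : H' ⟶ H' := a * (𝟙 H')⁻¹
  haveI : IsMonHom v := H8CentralDescent.quot_hom a (𝟙 H') (fun X g h => hcm X g h a) (fun X g h => hcm X g h _)
  haveI := separated hH'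
  haveI : LocallyOfFinitePresentation H'.hom := H8MultLFT.lfp hH'
  haveI : QuasiCompact H'.hom := (H8MultType.locFF_and_quasiCompact H' hH').2
  obtain ⟨U, hUc, hUmem, hUv⟩ := H8MultTrivLocus.result v hH' (.inr ⟨inferInstance, inferInstance, inferInstance⟩)
  have hv : ∀ (X : Over K.left) (h : X ⟶ H'), h ≫ v = 1 ↔ h ≫ a = h := fun X h => by
    simp only [v, MonObj.comp_mul, GrpObj.comp_inv, Category.comp_id, mul_inv_eq_one]
  have htriv : ∀ (X : Over S) (x : X ⟶ K), H8MultTrivLocus.Triv v x.left ↔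
      ∀ (X' : Over S) (m : X' ⟶ X) (h : X' ⟶ H), (m ≫ x ≫ k) * (h ≫ i) = (h ≫ i) * (m ≫ x ≫ k) := by
    intro X x
    constructor
    · intro ht X' m h
      let X'' : Over K.left := Over.mk (m ≫ x).left
      let m1 : (Over.map q).obj X'' ⟶ X' := Over.homMk (𝟙 _) (by
        show 𝟙 _ ≫ X'.hom = (m ≫ x).left ≫ K.hom
        rw [Category.id_comp, Over.w])
      let m2 : X' ⟶ (Over.map q).obj X'' := Over.homMk (𝟙 _) (by
        show 𝟙 _ ≫ (m ≫ x).left ≫ K.hom = X'.hom
        rw [Category.id_comp, Over.w])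
      have hm : m2 ≫ m1 = 𝟙 X' := Over.OverMorphism.ext (Category.id_comp _)
      have hk : κ X'' ≫ k = m1 ≫ m ≫ x ≫ k := by
        rw [← Category.assoc m x, ← Category.assoc]
        exact congrArg (· ≫ k) (Over.OverMorphism.ext (Category.id_comp _).symm)
      have hav := (hv X'' (e X'' (m1 ≫ h))).mp (ht X'' (Over.homMk m.left rfl) _)
      have := ha X'' (e X'' (m1 ≫ h))
      rw [hav, MulEquiv.symm_apply_apply, hk] at this
      have h3 := congrArg (m2 ≫ ·) this
      simp only [MonObj.comp_mul, GrpObj.comp_inv, ← Category.assoc, hm, Category.id_comp] at h3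
      simp only [← Category.assoc]
      conv_rhs => rw [h3]
      group
    · intro hc Y p h
      rw [hv]
      apply (e Y).symm.injective
      rw [← cancel_mono i, ha]
      let m : (Over.map q).obj Y ⟶ X := Over.homMk p.left (by
        show p.left ≫ X.hom = Y.hom ≫ K.hom
        rw [← Over.w x, ← Category.assoc]
        exact congrArg (· ≫ K.hom) (Over.w p))
      have hk : κ Y ≫ k = m ≫ x ≫ k := by
        rw [← Category.assoc]
        exact congrArg (· ≫ k) (Over.OverMorphism.ext (Over.w p).symm)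
      rw [hk, hc _ m]
      group
  refine ⟨U, hUc, fun X x => ⟨fun hr => ?_, fun hc => ?_⟩⟩
  · refine (htriv X x).mp ?_
    have hl : IsOpenImmersion.lift U.ι x.left (hr.trans (Scheme.Opens.range_ι U).ge) ≫ U.ι = x.left :=
      IsOpenImmersion.lift_fac _ _ _
    rw [← hl]
    exact H8MultTrivLocus.triv_comp v _ ((H8MultTrivLocus.triv_iff_map_eq_one v _).mpr hUv)
  · rintro _ ⟨y, rfl⟩
    show x.left y ∈ U
    rw [hUmem, ← H8MultTrivLocus.triv_iff_map_eq_one]
    refine H8MultTrivLocus.triv_descend v (Spec.map (x.left.residueFieldMap y)) ?_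
    rw [Scheme.Hom.SpecMap_residueFieldMap_fromSpecResidueField]
    exact H8MultTrivLocus.triv_comp v _ ((htriv X x).mpr hc)

set_option backward.isDefEq.respectTransparency false in
theorem centralizer_clopen {S : Scheme.{u}} (H G Z N : Over S) [GrpObj H] [GrpObj G] [GrpObj Z] [GrpObj N]
    (hH : SGA3x.IsMultTypeFT H) (i : H ⟶ G) [IsMonHom i] [Mono i]
    (j : Z ⟶ G) (k : N ⟶ G) (hj : Red.IsCentralizerOf i j) (hk : Red.IsNormalizerOf i k) :
    ∃ f : Z ⟶ N, f ≫ k = j ∧ IsOpenImmersion f.left ∧ IsClosedImmersion f.left := by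
  obtain ⟨hjh, hjm, hju⟩ := hj
  obtain ⟨hkh, hkm, hku⟩ := hk
  haveI := hkm; haveI := hjm
  have hn : ∀ (X : Over S) (x : X ⟶ N) (h : X ⟶ H), ∃ n' : X ⟶ H, (x ≫ k) * (h ≫ i) * (x ≫ k)⁻¹ = n' ≫ i :=
    fun X x h => by
      obtain ⟨h', e⟩ := ((hku X (x ≫ k)).mp ⟨x, rfl⟩ X (𝟙 X) h).1
      rw [Category.id_comp] at e
      exact ⟨h', e⟩
  obtain ⟨U, hUc, hU⟩ := locus k i hH hn
  have hcj : ∀ (X' : Over S) (x : X' ⟶ Z) (h : X' ⟶ H), (x ≫ j) * (h ≫ i) = (h ≫ i) * (x ≫ j) := fun X' x h =>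
    (hju Z j).mp ⟨𝟙 _, Category.id_comp _⟩ X' x h
  obtain ⟨f, hf⟩ := (hku Z j).mpr fun X' x h => by
    refine ⟨⟨h, ?_⟩, ⟨h, ?_⟩⟩
    · rw [hcj, mul_inv_cancel_right]
    · rw [_root_.mul_assoc, ← hcj, inv_mul_cancel_left]
  have hfU : Set.range f.left ⊆ (U : Set N.left) := (hU Z f).mpr fun X' m h => by
    rw [hf]
    exact hcj X' m h
  let W : Over S := Over.mk (U.ι ≫ N.hom)
  let w : W ⟶ N := Over.homMk U.ι
  obtain ⟨z, hz⟩ := (hju W (w ≫ k)).mpr ((hU W w).mp (Scheme.Opens.range_ι U).le)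
  let l : Z ⟶ W := Over.homMk (IsOpenImmersion.lift U.ι f.left (hfU.trans (Scheme.Opens.range_ι U).ge)) (by
    show IsOpenImmersion.lift U.ι f.left _ ≫ U.ι ≫ N.hom = Z.hom
    rw [IsOpenImmersion.lift_fac_assoc]
    exact Over.w f)
  have hl : l ≫ w = f := Over.OverMorphism.ext (IsOpenImmersion.lift_fac _ _ _)
  have hzf : z ≫ f = w := (cancel_mono k).mp (by rw [Category.assoc, hf, hz])
  have hzl : z ≫ l = 𝟙 W := by
    apply Over.OverMorphism.ext
    apply (cancel_mono U.ι).mp
    show (z ≫ l).left ≫ U.ι = _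
    rw [Over.id_left, Category.id_comp]
    show (z.left ≫ l.left) ≫ U.ι = U.ι
    rw [Category.assoc]
    exact (congrArg (z.left ≫ ·) (congrArg CommaMorphism.left hl)).trans (congrArg CommaMorphism.left hzf)
  have hlz : l ≫ z = 𝟙 Z := (cancel_mono j).mp (by
    rw [Category.assoc, hz, ← Category.assoc, hl, hf, Category.id_comp])
  haveI : IsIso l := ⟨z, hlz, hzl⟩
  haveI : IsIso l.left := inferInstanceAs (IsIso ((Over.forget S).map l))
  have hfl : l.left ≫ U.ι = f.left := congrArg CommaMorphism.left hl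
  haveI : IsOpenImmersion f.left := by rw [← hfl]; infer_instance
  refine ⟨f, hf, inferInstance, IsClosedImmersion.of_isPreimmersion f.left ?_⟩
  rw [← hfl, Scheme.Hom.comp_base, TopCat.coe_comp, Set.range_comp, l.left.surjective.range_eq, Set.image_univ,
    ]
  convert hUc using 1
  exact Scheme.Opens.range_ι U

end Groth.Agent.H8MultCentral

end
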