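import Mathlib
import Groth.Prelude.Def_SGA3b
import Groth.Agent.S0526
import Groth.Agent.Lib.H8MultCore
import Groth.Agent.Lib.H8Mult
import Groth.Agent.Lib.H8MultGL
import Groth.Agent.Lib.H8MultHensel
import Groth.Agent.Lib.H8CompleteEtale

/-!
# Isotrivial groups of multiplicative type over complete pairs
-/

set_option autoImplicit false
set_option linter.all false

universe u

open TensorProduct

namespace Groth.Agent.H8MultComplete

open H8MultCore H8Mult H8MultGL H8MultHensel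

variable {R : Type u} [CommRing R] {A : Type u} [CommRing A] [HopfAlgebra R A]

/-- A lift of a faithfully flat algebra along an ideal in the radical is faithfully flat. -/
theorem ff_of_lift (I : Ideal R) (hI : I ≤ Ideal.jacobson ⊥) {B : Type u} [CommRing B] [Algebra R B] [Module.Flat R B]
    {S₀ : Type u} [CommRing S₀] [Algebra (R ⧸ I) S₀] [Module.FaithfullyFlat (R ⧸ I) S₀]
    (e : (R ⧸ I) ⊗[R] B ≃ₐ[R ⧸ I] S₀) : Module.FaithfullyFlat R B := by
  refine ⟨fun {m} hm htop => ?_⟩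
  have hIm : I ≤ m := hI.trans (sInf_le ⟨bot_le, hm⟩)
  let g : B →+* S₀ := (e.toAlgHom.toRingHom).comp
    (Algebra.TensorProduct.includeRight : B →ₐ[R] (R ⧸ I) ⊗[R] B).toRingHom
  haveI : (m.map (Ideal.Quotient.mk I)).IsMaximal :=
    Ideal.IsMaximal.map_of_surjective_of_ker_le Ideal.Quotient.mk_surjective (by rwa [Ideal.mk_ker])
  obtain ⟨q, hq⟩ := PrimeSpectrum.comap_surjective_of_faithfullyFlat (B := S₀)
    (⟨m.map (Ideal.Quotient.mk I), inferInstance⟩ : PrimeSpectrum (R ⧸ I))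
  have hmem : (1 : B) ∈ m • (⊤ : Submodule R B) := by rw [htop]; trivial
  have h1 : g 1 ∈ q.asIdeal := by
    refine Submodule.smul_induction_on hmem (fun r hr b _ => ?_) fun x y hx hy => by rw [map_add]; exact add_mem hx hy
    rw [Algebra.smul_def, map_mul]
    refine Ideal.mul_mem_right _ _ ?_
    have : g (algebraMap R B r) = algebraMap (R ⧸ I) S₀ (Ideal.Quotient.mk I r) := by
      show e ((1 : R ⧸ I) ⊗ₜ[R] algebraMap R B r) = _
      rw [Algebra.algebraMap_eq_smul_one, ← smul_tmul, ← Algebra.algebraMap_eq_smul_one, Ideal.Quotient.algebraMap_eq]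
      exact e.commutes _
    rw [this]
    have h2 : Ideal.Quotient.mk I r ∈ m.map (Ideal.Quotient.mk I) := Ideal.mem_map_of_mem _ hr
    rw [show m.map (Ideal.Quotient.mk I) = q.asIdeal.comap (algebraMap (R ⧸ I) S₀) from
      (congrArg PrimeSpectrum.asIdeal hq).symm] at h2
    exact h2
  rw [map_one] at h1
  exact q.isPrime.ne_top ((Ideal.eq_top_iff_one _).mpr h1)

set_option synthInstance.maxHeartbeats 400000 in
/-- A group of multiplicative type split modulo `I` by a finite étale algebra which lifts is isotrivial. -/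
theorem isotrivial_of_lift (hA : HasSplitting R A) (I : Ideal R) [HenselianRing R I]
    {S₀ : Type u} [CommRing S₀] [Algebra (R ⧸ I) S₀] [Module.FaithfullyFlat (R ⧸ I) S₀]
    (hd : SGA3b.IsDiag S₀ (S₀ ⊗[R ⧸ I] ((R ⧸ I) ⊗[R] A)))
    {B : Type u} [CommRing B] [Algebra R B] [Algebra.Etale R B] [Module.Finite R B]
    (e : (R ⧸ I) ⊗[R] B ≃ₐ[R ⧸ I] S₀) : SGA3b.IsIsotrivial R A := by
  haveI := ff_of_lift I HenselianRing.jac e
  refine ⟨B, inferInstance, inferInstance, inferInstance, inferInstance, inferInstance, ?_⟩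
  let J := I.map (algebraMap R B)
  haveI : HenselianRing B J := S0526.result R I B
  refine isDiag_of_henselian (hA.baseChange B) J ?_
  let ρ : R ⧸ I →ₐ[R] B ⧸ J := Ideal.Quotient.liftₐ I (Algebra.ofId R (B ⧸ J)) fun r hr =>
    Ideal.Quotient.eq_zero_iff_mem.mpr (Ideal.mem_map_of_mem _ hr)
  letI : Algebra (R ⧸ I) (B ⧸ J) := ρ.toRingHom.toAlgebra
  haveI : IsScalarTower R (R ⧸ I) (B ⧸ J) := IsScalarTower.of_algebraMap_eq fun r => (ρ.commutes r).symm
  let κ : S₀ →ₐ[R ⧸ I] B ⧸ J :=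
    (Algebra.TensorProduct.lift (Algebra.ofId (R ⧸ I) (B ⧸ J)) (Ideal.Quotient.mkₐ R J) fun _ _ => Commute.all _ _).comp
      e.symm.toAlgHom
  letI : Algebra S₀ (B ⧸ J) := κ.toRingHom.toAlgebra
  haveI : IsScalarTower (R ⧸ I) S₀ (B ⧸ J) := IsScalarTower.of_algebraMap_eq fun r => (κ.commutes r).symm
  exact isDiag_uncancel (B ⧸ J) B (isDiag_cancel (B ⧸ J) (R ⧸ I) (isDiag_cancel (B ⧸ J) S₀ (isDiag_baseChange _ hd)))

/-- Isotriviality lifts along complete Noetherian pairs. -/
theorem isotrivial_of_complete [IsNoetherianRing R] (I : Ideal R) [IsAdicComplete I R] (hA : HasSplitting R A)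
    (h0 : SGA3b.IsIsotrivial (R ⧸ I) ((R ⧸ I) ⊗[R] A)) : SGA3b.IsIsotrivial R A := by
  obtain ⟨S₀, _, _, het, hfin, hff, hd⟩ := h0
  haveI := het; haveI := hfin; haveI := hff
  obtain ⟨B, _, _, hBfin, hBet, ⟨e⟩⟩ := H8CompleteEtale.exists_finite_etale_lift I S₀
  haveI := hBfin; haveI := hBet
  exact isotrivial_of_lift hA I hd e

end Groth.Agent.H8MultComplete
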