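import Mathlib
import Groth.Agent.Lib.H8ConjRigidRel
import Groth.Agent.Lib.H8GLChar

/-!
# Homomorphisms between groups of multiplicative type lift uniquely along nilpotent ideals
-/

set_option autoImplicit false
set_option linter.all false

universe u

open CategoryTheory Limits AlgebraicGeometry MonoidalCategory CartesianMonoidalCategory MonObj GrpObj

noncomputable section

namespace Groth.Agent.H8MultHomExist

open H8DiagRigid H8ConjRigid H8GLChar

variable {R : Type u} [CommRing R]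

/-- A natural multiplicative family of maps between points over a fixed base ring. -/
structure Fam (H H' : Over (B R)) [GrpObj H] [GrpObj H'] {C : Type u} [CommRing C]
    (t0 : Spec (CommRingCat.of C) ⟶ B R) where
  /-- the maps -/
  F : ∀ {C' : Type u} [CommRing C'] (k : C →+* C') {t : Spec (CommRingCat.of C') ⟶ B R},
    Spec.map (CommRingCat.ofHom k) ≫ t0 = t → (Over.mk t ⟶ H) → (Over.mk t ⟶ H')
  nat : ∀ {C' C'' : Type u} [CommRing C'] [CommRing C''] (k : C →+* C') (f : C' →+* C'') (k' : C →+* C'')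
    {t : Spec (CommRingCat.of C') ⟶ B R} {t' : Spec (CommRingCat.of C'') ⟶ B R}
    (hk : Spec.map (CommRingCat.ofHom k) ≫ t0 = t) (hf : Spec.map (CommRingCat.ofHom f) ≫ t = t')
    (hk' : Spec.map (CommRingCat.ofHom k') ≫ t0 = t') (_ : f.comp k = k') (x : Over.mk t ⟶ H),
    res f hf ≫ F k hk x = F k' hk' (res f hf ≫ x)
  mul : ∀ {C' : Type u} [CommRing C'] (k : C →+* C') {t : Spec (CommRingCat.of C') ⟶ B R}
    (hk : Spec.map (CommRingCat.ofHom k) ≫ t0 = t) (x y : Over.mk t ⟶ H), F k hk (x * y) = F k hk x * F k hk y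

variable {H H' : Over (B R)} [GrpObj H] [GrpObj H']

/-- Extension of characters to monoid algebras. -/
abbrev ext1 {D C : Type u} [CommRing D] [CommRing C] {G : Type} [CommMonoid G] (c : D →+* C) (χ : G →* C) :
    MonoidAlgebra D G →+* C :=
  MonoidAlgebra.liftNCRingHom c χ fun _ _ => Commute.all _ _

lemma ext1_comp_single {D C : Type u} [CommRing D] [CommRing C] {G : Type} [CommMonoid G] (c : D →+* C) (χ : G →* C) :
    (ext1 c χ).comp MonoidAlgebra.singleOneRingHom = c :=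
  RingHom.ext fun d => by simp [ext1]

lemma ext1_comp_of {D C : Type u} [CommRing D] [CommRing C] {G : Type} [CommMonoid G] (c : D →+* C) (χ : G →* C) :
    (ext1 c χ).toMonoidHom.comp (MonoidAlgebra.of D G) = χ :=
  MonoidHom.ext fun m => by simp [ext1]

section Tab

variable {C D : Type u} [CommRing C] [CommRing D] {t0 : Spec (CommRingCat.of C) ⟶ B R}
  (Φ : Fam H H' t0) (P : Piece (⊥ : Ideal R) H D) (Q : Piece (⊥ : Ideal R) H' D) (hPQ : P.t = Q.t)
  (k0 : D →+* C) (h0 : Spec.map (CommRingCat.ofHom k0) ≫ P.t = t0)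

include h0 in
lemma hcomp {C' : Type u} [CommRing C'] (k : C →+* C') {t : Spec (CommRingCat.of C') ⟶ B R}
    (hk : Spec.map (CommRingCat.ofHom k) ≫ t0 = t) : Spec.map (CommRingCat.ofHom (k.comp k0)) ≫ P.t = t := by
  rw [← hk, ← h0, ← Spec.map_comp_assoc]; rfl

include hPQ h0 in
lemma hcomp' {C' : Type u} [CommRing C'] (k : C →+* C') {t : Spec (CommRingCat.of C') ⟶ B R}
    (hk : Spec.map (CommRingCat.ofHom k) ≫ t0 = t) : Spec.map (CommRingCat.ofHom (k.comp k0)) ≫ Q.t = t := by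
  rw [← hPQ]; exact hcomp P k0 h0 k hk

/-- The universal point. -/
def univPt : Over.mk (Spec.map (CommRingCat.ofHom (MonoidAlgebra.singleOneRingHom : C →+* MonoidAlgebra C (Multiplicative P.M))) ≫ t0) ⟶ H :=
  pt P ((MonoidAlgebra.singleOneRingHom : C →+* MonoidAlgebra C (Multiplicative P.M)).comp k0) (hcomp P k0 h0 _ rfl)
    (MonoidAlgebra.of C (Multiplicative P.M))

/-- The table of a family. -/
def tab : Multiplicative Q.M →* MonoidAlgebra C (Multiplicative P.M) :=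
  (pt Q ((MonoidAlgebra.singleOneRingHom : C →+* MonoidAlgebra C (Multiplicative P.M)).comp k0)
    (hcomp' P Q hPQ k0 h0 _ rfl)).symm (Φ.F _ rfl (univPt P k0 h0))

lemma F_push {C' : Type u} [CommRing C'] (f : MonoidAlgebra C (Multiplicative P.M) →+* C') (k : C →+* C')
    {t : Spec (CommRingCat.of C') ⟶ B R} (hk : Spec.map (CommRingCat.ofHom k) ≫ t0 = t)
    (e : f.comp MonoidAlgebra.singleOneRingHom = k) :
    Φ.F k hk (pt P (k.comp k0) (hcomp P k0 h0 k hk) (f.toMonoidHom.comp (MonoidAlgebra.of C (Multiplicative P.M)))) =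
      pt Q (k.comp k0) (hcomp' P Q hPQ k0 h0 k hk) (f.toMonoidHom.comp (tab Φ P Q hPQ k0 h0)) := by
  have hf : Spec.map (CommRingCat.ofHom f) ≫ Spec.map (CommRingCat.ofHom (MonoidAlgebra.singleOneRingHom : C →+* MonoidAlgebra C (Multiplicative P.M))) ≫ t0 = t := by
    rw [← hk, ← e, ← Spec.map_comp_assoc]; rfl
  have e' : f.comp ((MonoidAlgebra.singleOneRingHom : C →+* MonoidAlgebra C (Multiplicative P.M)).comp k0) = k.comp k0 := by
    rw [← RingHom.comp_assoc, e]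
  rw [← pt_nat P _ f (k.comp k0) (hcomp P k0 h0 _ rfl) hf (hcomp P k0 h0 k hk) e' (MonoidAlgebra.of C (Multiplicative P.M)),
    ← pt_nat Q _ f (k.comp k0) (hcomp' P Q hPQ k0 h0 _ rfl) hf (hcomp' P Q hPQ k0 h0 k hk) e' (tab Φ P Q hPQ k0 h0)]
  rw [show pt Q _ (hcomp' P Q hPQ k0 h0 _ rfl) (tab Φ P Q hPQ k0 h0) = Φ.F _ rfl (univPt P k0 h0) from
    MulEquiv.apply_symm_apply _ _]
  exact (Φ.nat _ f k rfl hf hk e (univPt P k0 h0)).symm

lemma tab_spec {C' : Type u} [CommRing C'] (k : C →+* C') {t : Spec (CommRingCat.of C') ⟶ B R}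
    (hk : Spec.map (CommRingCat.ofHom k) ≫ t0 = t) (χ : Multiplicative P.M →* C') :
    Φ.F k hk (pt P (k.comp k0) (hcomp P k0 h0 k hk) χ) =
      pt Q (k.comp k0) (hcomp' P Q hPQ k0 h0 k hk) ((ext1 k χ).toMonoidHom.comp (tab Φ P Q hPQ k0 h0)) := by
  have := F_push Φ P Q hPQ k0 h0 (ext1 k χ) k hk (ext1_comp_single k χ)
  rwa [ext1_comp_of] at this

lemma F_one {C' : Type u} [CommRing C'] (k : C →+* C') {t : Spec (CommRingCat.of C') ⟶ B R}
    (hk : Spec.map (CommRingCat.ofHom k) ≫ t0 = t) : Φ.F k hk 1 = 1 := by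
  have := Φ.mul k hk 1 1
  rw [_root_.one_mul] at this
  exact mul_eq_left.mp this.symm

lemma tab_gl (n : Multiplicative Q.M) : IsGL (tab Φ P Q hPQ k0 h0 n) := by
  let G := Multiplicative P.M
  let k2 : C →+* MonoidAlgebra C (G × G) := MonoidAlgebra.singleOneRingHom
  have hl : (inl (R := C) (G := G)).comp MonoidAlgebra.singleOneRingHom = k2 := RingHom.ext fun c => inl_single 1 c
  have hr : (inr (R := C) (G := G)).comp MonoidAlgebra.singleOneRingHom = k2 := RingHom.ext fun c => inr_single 1 c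
  have hd : (dg (R := C) (G := G)).comp MonoidAlgebra.singleOneRingHom = k2 := RingHom.ext fun c => dg_single 1 c
  have hmul : (dg (R := C) (G := G)).toMonoidHom.comp (MonoidAlgebra.of C G) =
      (inl (R := C) (G := G)).toMonoidHom.comp (MonoidAlgebra.of C G) * (inr (R := C) (G := G)).toMonoidHom.comp (MonoidAlgebra.of C G) :=
    MonoidHom.ext fun m => by
      show dg (MonoidAlgebra.single m (1 : C)) = inl (MonoidAlgebra.single m (1 : C)) * inr (MonoidAlgebra.single m (1 : C))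
      rw [dg_single, inl_single, inr_single, MonoidAlgebra.single_mul_single, Prod.mk_mul_mk, _root_.mul_one, _root_.one_mul, _root_.mul_one]
  have h1 := F_push Φ P Q hPQ k0 h0 (dg (R := C) (G := G)) k2 rfl hd
  rw [hmul, map_mul, Φ.mul, F_push Φ P Q hPQ k0 h0 _ k2 rfl hl, F_push Φ P Q hPQ k0 h0 _ k2 rfl hr, ← map_mul] at h1
  have h2 := DFunLike.congr_fun ((pt Q _ _).injective h1) n
  refine ⟨h2.symm, ?_⟩
  have h3 := F_push Φ P Q hPQ k0 h0 (aug (R := C) (G := G)) (RingHom.id C)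
    (t := t0) (by rw [CommRingCat.ofHom_id, Spec.map_id, Category.id_comp]) (RingHom.ext fun c => aug_single 1 c)
  rw [show (aug (R := C) (G := G)).toMonoidHom.comp (MonoidAlgebra.of C G) = 1 from
    MonoidHom.ext fun m => aug_single m 1, map_one, F_one] at h3
  exact (DFunLike.congr_fun ((pt Q _ _).injective ((map_one _).trans h3)) n).symm

end Tab

variable {J : Ideal R} (hJ : IsNilpotent J)

include hJ in
lemma isNilpotent_idl {C : Type u} [CommRing C] (t : Spec (CommRingCat.of C) ⟶ B R) {x : C} (hx : x ∈ idl J t) :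
    IsNilpotent x := by
  obtain ⟨n, hn⟩ := hJ
  refine ⟨n, ?_⟩
  have h := Ideal.pow_mem_pow hx n
  rw [idl, ← Ideal.map_pow, hn, Ideal.zero_eq_bot, Ideal.map_bot, Ideal.mem_bot] at h
  exact h

lemma idl_eq_bot {C : Type u} [CommRing C] (t : Spec (CommRingCat.of C) ⟶ B R) (p : Over.mk t ⟶ XQ J) : idl J t = ⊥ := by
  obtain ⟨xr, hxr⟩ : ∃ xr : CommRingCat.of (R ⧸ J) ⟶ CommRingCat.of C, Spec.map xr = p.left := ⟨_, Spec.map_preimage _⟩
  have hx' : Spec.map xr ≫ Spec.map (CommRingCat.ofHom (Ideal.Quotient.mk J)) = t := by rw [hxr]; exact Over.w p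
  rw [← idl_map J xr.hom (t := Spec.map (CommRingCat.ofHom (Ideal.Quotient.mk J))) hx', idl, Spec.preimage_map]
  show (J.map (Ideal.Quotient.mk J)).map xr.hom = ⊥
  rw [Ideal.map_quotient_self, Ideal.map_bot]

lemma hom_XQ_ext {X : Over (B R)} (p q : X ⟶ XQ J) : p = q := by
  haveI : IsClosedImmersion (XQ J).hom := IsClosedImmersion.spec_of_surjective _ Ideal.Quotient.mk_surjective
  exact Over.OverMorphism.ext ((cancel_mono (XQ J).hom).mp ((Over.w p).trans (Over.w q).symm))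

section Ext

variable {C D : Type u} [CommRing C] [CommRing D] {t0 : Spec (CommRingCat.of C) ⟶ B R}

include hJ in
/-- Families agreeing modulo the ideal are equal. -/
lemma fam_ext (Φ Φ' : Fam H H' t0) (P : Piece (⊥ : Ideal R) H D) (Q : Piece (⊥ : Ideal R) H' D) (hPQ : P.t = Q.t)
    (k0 : D →+* C) (h0 : Spec.map (CommRingCat.ofHom k0) ≫ P.t = t0)
    (hcong : ∀ {C' : Type u} [CommRing C'] (k : C →+* C') {t : Spec (CommRingCat.of C') ⟶ B R}
      (hk : Spec.map (CommRingCat.ofHom k) ≫ t0 = t) (p : Over.mk t ⟶ XQ J) (x : Over.mk t ⟶ H),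
      Φ.F k hk x = Φ'.F k hk x)
    {C' : Type u} [CommRing C'] (k : C →+* C') {t : Spec (CommRingCat.of C') ⟶ B R}
    (hk : Spec.map (CommRingCat.ofHom k) ≫ t0 = t) (x : Over.mk t ⟶ H) : Φ.F k hk x = Φ'.F k hk x := by
  let G := Multiplicative P.M
  let q := Ideal.Quotient.mk (idl J t0)
  let k1 : C →+* MonoidAlgebra (C ⧸ idl J t0) G := (MonoidAlgebra.singleOneRingHom).comp q
  let f : MonoidAlgebra C G →+* MonoidAlgebra (C ⧸ idl J t0) G := MonoidAlgebra.mapRingHom G q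
  have e : f.comp MonoidAlgebra.singleOneRingHom = k1 := RingHom.ext fun c => by simp [f, k1]
  obtain ⟨p⟩ := exists_of_idl_eq_bot J (Spec.map (CommRingCat.ofHom k1) ≫ t0) (by
    rw [← idl_map J k1 (t := t0) rfl, ← Ideal.map_map, Ideal.map_quotient_self, Ideal.map_bot])
  have h1 := F_push Φ P Q hPQ k0 h0 f k1 rfl e
  rw [hcong k1 rfl p, F_push Φ' P Q hPQ k0 h0 f k1 rfl e] at h1
  have htab : tab Φ P Q hPQ k0 h0 = tab Φ' P Q hPQ k0 h0 := MonoidHom.ext fun n => by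
    refine (tab_gl Φ P Q hPQ k0 h0 n).ext (tab_gl Φ' P Q hPQ k0 h0 n) fun m => isNilpotent_idl hJ t0 ?_
    rw [← Ideal.Quotient.eq]
    have := congrArg (fun a => MonoidAlgebra.coeff a m) (DFunLike.congr_fun ((pt Q _ _).injective h1) n).symm
    exact (MonoidAlgebra.coeff_mapRingHom q _ m).symm.trans (this.trans (MonoidAlgebra.coeff_mapRingHom q _ m))
  obtain ⟨χ, rfl⟩ := (pt P (k.comp k0) (hcomp P k0 h0 k hk)).surjective x
  rw [tab_spec Φ P Q hPQ k0 h0, tab_spec Φ' P Q hPQ k0 h0, htab]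

end Ext

/-- A piece together with a character table. -/
structure Sys (J : Ideal R) (H H' : Over (B R)) [GrpObj H] [GrpObj H'] (ψ : H ⊗ XQ J ⟶ H') (D : Type u) [CommRing D] where
  /-- piece of the source -/
  P : Piece (⊥ : Ideal R) H D
  /-- piece of the target -/
  Q : Piece (⊥ : Ideal R) H' D
  hPQ : P.t = Q.t
  /-- table -/
  θ : Multiplicative Q.M →* MonoidAlgebra D (Multiplicative P.M)
  gl : ∀ n, IsGL (θ n)
  cong : ∀ {C : Type u} [CommRing C] (k : D →+* C) {t : Spec (CommRingCat.of C) ⟶ B R}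
    (hk : Spec.map (CommRingCat.ofHom k) ≫ P.t = t) (hk' : Spec.map (CommRingCat.ofHom k) ≫ Q.t = t)
    (p : Over.mk t ⟶ XQ J) (χ : Multiplicative P.M →* C),
    pt Q k hk' ((ext1 k χ).toMonoidHom.comp θ) = lift (pt P k hk χ) p ≫ ψ

variable {ψ : H ⊗ XQ J ⟶ H'}

/-- The map on points of a system. -/
def Sys.Φ {D : Type u} [CommRing D] (S : Sys J H H' ψ D) {C : Type u} [CommRing C] (k : D →+* C)
    {t : Spec (CommRingCat.of C) ⟶ B R} (hk : Spec.map (CommRingCat.ofHom k) ≫ S.P.t = t) (x : Over.mk t ⟶ H) :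
    Over.mk t ⟶ H' :=
  pt S.Q k (by rw [← S.hPQ]; exact hk) ((ext1 k ((pt S.P k hk).symm x)).toMonoidHom.comp S.θ)

lemma Sys.Φ_nat {D : Type u} [CommRing D] (S : Sys J H H' ψ D) {C C' : Type u} [CommRing C] [CommRing C']
    (k : D →+* C) (f : C →+* C') (k' : D →+* C') {t : Spec (CommRingCat.of C) ⟶ B R} {t' : Spec (CommRingCat.of C') ⟶ B R}
    (hk : Spec.map (CommRingCat.ofHom k) ≫ S.P.t = t) (hf : Spec.map (CommRingCat.ofHom f) ≫ t = t')
    (hk' : Spec.map (CommRingCat.ofHom k') ≫ S.P.t = t') (e : f.comp k = k') (x : Over.mk t ⟶ H) :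
    res f hf ≫ S.Φ k hk x = S.Φ k' hk' (res f hf ≫ x) := by
  obtain ⟨χ, rfl⟩ := (pt S.P k hk).surjective x
  simp only [Sys.Φ]
  rw [MulEquiv.symm_apply_apply, pt_nat S.P k f k' hk hf hk' e, MulEquiv.symm_apply_apply,
    pt_nat S.Q k f k' _ hf (by rw [← S.hPQ]; exact hk') e]
  congr 1
  rw [← MonoidHom.comp_assoc]
  congr 1
  have : f.comp (ext1 k χ) = ext1 k' (f.toMonoidHom.comp χ) := by
    refine MonoidAlgebra.ringHom_ext (fun d => ?_) (fun m => ?_)
    · simp [ext1, ← e]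
    · simp [ext1]
  exact congrArg RingHom.toMonoidHom this

lemma Sys.Φ_mul {D : Type u} [CommRing D] (S : Sys J H H' ψ D) {C : Type u} [CommRing C] (k : D →+* C)
    {t : Spec (CommRingCat.of C) ⟶ B R} (hk : Spec.map (CommRingCat.ofHom k) ≫ S.P.t = t) (x y : Over.mk t ⟶ H) :
    S.Φ k hk (x * y) = S.Φ k hk x * S.Φ k hk y := by
  simp only [Sys.Φ, map_mul]
  rw [← map_mul (pt S.Q k (by rw [← S.hPQ]; exact hk))]
  congr 1
  set χ := (pt S.P k hk).symm x
  set χ' := (pt S.P k hk).symm y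
  refine MonoidHom.ext fun n => ?_
  show ext1 k (χ * χ') (S.θ n) = ext1 k χ (S.θ n) * ext1 k χ' (S.θ n)
  let L : MonoidAlgebra D (Multiplicative S.P.M × Multiplicative S.P.M) →+* C := ext1 k (χ.coprod χ')
  have h1 : L.comp inl = ext1 k χ := MonoidAlgebra.ringHom_ext (fun d => by simp [L, ext1, inl_single]) (fun m => by simp [L, ext1, inl_single])
  have h2 : L.comp inr = ext1 k χ' := MonoidAlgebra.ringHom_ext (fun d => by simp [L, ext1, inr_single]) (fun m => by simp [L, ext1, inr_single])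
  have h3 : L.comp dg = ext1 k (χ * χ') := MonoidAlgebra.ringHom_ext (fun d => by simp [L, ext1, dg_single]) (fun m => by simp [L, ext1, dg_single])
  rw [← h1, ← h2, ← h3, RingHom.comp_apply, RingHom.comp_apply, RingHom.comp_apply, ← map_mul, (S.gl n).dg_eq]

/-- The family of a system over a base. -/
def Sys.fam {D : Type u} [CommRing D] (S : Sys J H H' ψ D) {C : Type u} [CommRing C] (k0 : D →+* C)
    {t0 : Spec (CommRingCat.of C) ⟶ B R} (h0 : Spec.map (CommRingCat.ofHom k0) ≫ S.P.t = t0) : Fam H H' t0 where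
  F := fun k t hk x => S.Φ (k.comp k0) (hcomp S.P k0 h0 k hk) x
  nat := fun k f k' t t' hk hf hk' e x =>
    S.Φ_nat _ f _ _ hf _ (by rw [← RingHom.comp_assoc, e]) x
  mul := fun k t hk x y => S.Φ_mul _ _ x y

include hJ in
/-- Independence of the piece. -/
lemma Sys.indep {D D' : Type u} [CommRing D] [CommRing D'] (S : Sys J H H' ψ D) (S' : Sys J H H' ψ D')
    {C : Type u} [CommRing C] (k : D →+* C) (k' : D' →+* C) {t : Spec (CommRingCat.of C) ⟶ B R}
    (hk : Spec.map (CommRingCat.ofHom k) ≫ S.P.t = t) (hk' : Spec.map (CommRingCat.ofHom k') ≫ S'.P.t = t)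
    (x : Over.mk t ⟶ H) : S.Φ k hk x = S'.Φ k' hk' x := by
  have := fam_ext hJ (S.fam k hk) (S'.fam k' hk') S.P S.Q S.hPQ k hk (fun {C'} _ m t' hm p x => by
    obtain ⟨χ, rfl⟩ := (pt S.P (m.comp k) (hcomp S.P k hk m hm)).surjective x
    show S.Φ _ _ _ = S'.Φ _ _ _
    simp only [Sys.Φ, MulEquiv.symm_apply_apply]
    rw [S.cong (m.comp k) (hcomp S.P k hk m hm) _ p, S'.cong (m.comp k') (hcomp S'.P k' hk' m hm) _ p,
      MulEquiv.apply_symm_apply]) (RingHom.id C) (t := t) (by rw [CommRingCat.ofHom_id, Spec.map_id, Category.id_comp]) x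
  exact this

variable (ψ) in
/-- The family of the given homomorphism modulo the ideal. -/
def famψ (hψ : ∀ (X : Over (B R)) (p : X ⟶ XQ J) (x y : X ⟶ H), lift (x * y) p ≫ ψ = (lift x p ≫ ψ) * (lift y p ≫ ψ))
    {C : Type u} [CommRing C] {t0 : Spec (CommRingCat.of C) ⟶ B R} (p0 : Over.mk t0 ⟶ XQ J) : Fam H H' t0 where
  F := fun k t hk x => lift x (res k hk ≫ p0) ≫ ψ
  nat := fun k f k' t t' hk hf hk' e x => by
    rw [← Category.assoc, comp_lift, ← Category.assoc, res_comp k f k' hk hf hk' e]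
  mul := fun k t hk x y => hψ _ _ x y

include hJ in
lemma exists_sys (hψ : ∀ (X : Over (B R)) (p : X ⟶ XQ J) (x y : X ⟶ H), lift (x * y) p ≫ ψ = (lift x p ≫ ψ) * (lift y p ≫ ψ))
    {D : Type u} [CommRing D] (P : Piece (⊥ : Ideal R) H D) (Q : Piece (⊥ : Ideal R) H' D) (hPQ : P.t = Q.t) :
    ∃ S : Sys J H H' ψ D, S.P = P := by
  let q := Ideal.Quotient.mk (idl J P.t)
  obtain ⟨p0⟩ := exists_of_idl_eq_bot J (Spec.map (CommRingCat.ofHom q) ≫ P.t) (by
    rw [← idl_map J q (t := P.t) rfl, Ideal.map_quotient_self])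
  let Φ := famψ ψ hψ p0
  obtain ⟨θ, hθ, hθ0⟩ := exists_lift_hom q Ideal.Quotient.mk_surjective
    (fun x hx => isNilpotent_idl hJ P.t (by rwa [Ideal.mk_ker] at hx)) (tab Φ P Q hPQ q rfl) (tab_gl Φ P Q hPQ q rfl)
  refine ⟨{ P := P, Q := Q, hPQ := hPQ, θ := θ, gl := hθ, cong := fun {C} _ k t hk hk' p χ => ?_ }, rfl⟩
  have hb := idl_eq_bot t p
  rw [← idl_map J k hk, Ideal.map_eq_bot_iff_le_ker] at hb
  let kb : D ⧸ idl J P.t →+* C := Ideal.Quotient.lift _ k hb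
  have hkb : Spec.map (CommRingCat.ofHom kb) ≫ Spec.map (CommRingCat.ofHom q) ≫ P.t = t := by
    rw [← Spec.map_comp_assoc, ← hk]; rfl
  have h := tab_spec Φ P Q hPQ q rfl kb hkb χ
  have e : (ext1 kb χ).toMonoidHom.comp (tab Φ P Q hPQ q rfl) = (ext1 k χ).toMonoidHom.comp θ := MonoidHom.ext fun n => by
    show ext1 kb χ (tab Φ P Q hPQ q rfl n) = ext1 k χ (θ n)
    rw [← hθ0 n, ← RingHom.comp_apply]
    refine RingHom.congr_fun (MonoidAlgebra.ringHom_ext (fun d => ?_) (fun m => ?_)) _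
    · simp [ext1, q, kb]
    · simp [ext1, q, kb]
  rw [e] at h
  refine Eq.trans ?_ ((congrArg (fun z => lift (pt P k hk χ) z ≫ ψ) (hom_XQ_ext (res kb hkb ≫ p0) p)).trans ?_)
  · exact h.symm
  · rfl

lemma exists_cover {H : Over (B R)} [GrpObj H]
    (hH : TwC.Locally (B R) TwC.Topology.fpqc (fun S' f => ∃ (M : Type) (_ : AddCommGroup M), Nonempty (Grp.mk (Red.bc f H) ≅ Grp.mk (Red.DS S' M)))) :
    ∃ (idx : Type u) (_ : Finite idx) (D : idx → CommRingCat.{u}) (P : ∀ i, Piece (⊥ : Ideal R) H (D i)),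
      (∀ i, Flat (P i).t) ∧ ∀ y : B R, ∃ (i : idx) (z : Spec (D i)), (P i).t z = y := by
  classical
  obtain ⟨S', f, hf, hfs, hqc, htriv⟩ := hH
  haveI := hf
  obtain ⟨W, hW, hWU⟩ := hqc ⊤ (isAffineOpen_top _)
  choose T hT M hM hiso using htriv
  have hc : ∀ w : S', ∃ V : S'.affineOpens, w ∈ V.1 ∧ V.1 ≤ T w := by
    intro w
    obtain ⟨_, ⟨V, hV, rfl⟩, hwV, hle⟩ := S'.isBasis_affineOpens.exists_subset_of_mem_open (hT w) (T w).isOpen
    exact ⟨⟨V, hV⟩, hwV, hle⟩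
  choose V hwV hVT using hc
  obtain ⟨s, hs⟩ := hW.elim_finite_subcover (fun w : S' => ((V w).1 : Set S'))
    (fun w => (V w).1.isOpen) fun w _ => Set.mem_iUnion.mpr ⟨w, hwV w⟩
  let wi : ∀ i : ↥s, Spec Γ(S', (V i.1).1) ⟶ (T i.1 : Scheme.{u}) := fun i => IsOpenImmersion.lift (T i.1).ι (V i.1).2.fromSpec (by
    rw [IsAffineOpen.range_fromSpec, Scheme.Opens.range_ι]; exact hVT i.1)
  let P : ∀ i : ↥s, Piece (⊥ : Ideal R) H Γ(S', (V i.1).1) := fun i =>
    { U := T i.1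
      q := (T i.1).ι ≫ f
      M := M i.1
      inst := hM i.1
      φ := (hiso i.1).some
      w := wi i
      sq := by rw [idl, Ideal.map_bot, pow_two, Ideal.bot_mul] }
  have hPt : ∀ i, (P i).t = (V i.1).2.fromSpec ≫ f := fun i => IsOpenImmersion.lift_fac_assoc _ _ _ _
  refine ⟨↥s, inferInstance, _, P, fun i => by rw [hPt]; infer_instance, fun y => ?_⟩
  have hy : y ∈ ((⊤ : (B R).Opens) : Set (B R)) := trivial
  rw [← hWU] at hy
  obtain ⟨w, hw, hwy⟩ := hy
  obtain ⟨i, hi, hiV⟩ := Set.mem_iUnion₂.mp (hs hw)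
  rw [← (V i).2.range_fromSpec] at hiV
  obtain ⟨z, rfl⟩ := hiV
  exact ⟨⟨i, hi⟩, z, by rw [hPt]; exact hwy⟩

lemma exists_common_cover
    (hH : TwC.Locally (B R) TwC.Topology.fpqc (fun S' f => ∃ (M : Type) (_ : AddCommGroup M), Nonempty (Grp.mk (Red.bc f H) ≅ Grp.mk (Red.DS S' M))))
    (hH' : TwC.Locally (B R) TwC.Topology.fpqc (fun S' f => ∃ (M : Type) (_ : AddCommGroup M), Nonempty (Grp.mk (Red.bc f H') ≅ Grp.mk (Red.DS S' M)))) :
    ∃ (idx : Type u) (_ : Finite idx) (D : idx → CommRingCat.{u}) (P : ∀ i, Piece (⊥ : Ideal R) H (D i)) (Q : ∀ i, Piece (⊥ : Ideal R) H' (D i)),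
      (∀ i, (P i).t = (Q i).t) ∧ (∀ i, Flat (P i).t) ∧ ∀ y : B R, ∃ (i : idx) (z : Spec (D i)), (P i).t z = y := by
  obtain ⟨idx, hidx, D, P, hPf, hPc⟩ := exists_cover hH
  obtain ⟨idx', hidx', D', Q, hQf, hQc⟩ := exists_cover hH'
  haveI := hidx; haveI := hidx'
  let X : idx × idx' → Scheme.{u} := fun i => pullback (P i.1).t (Q i.2).t
  have haff : ∀ i, IsAffine (X i) := fun i => inferInstance
  obtain ⟨a, ha⟩ : ∃ a : ∀ i, D i.1 ⟶ Γ(X i, ⊤), ∀ i, Spec.map (a i) = (X i).isoSpec.inv ≫ pullback.fst _ _ :=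
    ⟨fun i => Spec.preimage _, fun i => Spec.map_preimage _⟩
  obtain ⟨b, hb⟩ : ∃ b : ∀ i, D' i.2 ⟶ Γ(X i, ⊤), ∀ i, Spec.map (b i) = (X i).isoSpec.inv ≫ pullback.snd _ _ :=
    ⟨fun i => Spec.preimage _, fun i => Spec.map_preimage _⟩
  have hP : ∀ i, ((P i.1).bc (a i).hom).t = (X i).isoSpec.inv ≫ pullback.fst _ _ ≫ (P i.1).t := fun i => by
    rw [← (P i.1).bc_t, CommRingCat.ofHom_hom, ha, Category.assoc]
  refine ⟨idx × idx', inferInstance, fun i => Γ(X i, ⊤), fun i => (P i.1).bc (a i).hom, fun i => (Q i.2).bc (b i).hom,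
    fun i => ?_, fun i => ?_, fun y => ?_⟩
  · rw [hP, ← (Q i.2).bc_t, CommRingCat.ofHom_hom, hb, Category.assoc, pullback.condition]
  · rw [hP]
    haveI := hPf i.1; haveI := hQf i.2
    infer_instance
  · obtain ⟨i, z, hz⟩ := hPc y
    obtain ⟨j, z', hz'⟩ := hQc y
    obtain ⟨w, hw, -⟩ := Scheme.Pullback.exists_preimage_pullback z z' (hz.trans hz'.symm)
    refine ⟨(i, j), (X (i, j)).isoSpec.hom w, ?_⟩
    rw [hP, ← Scheme.Hom.comp_apply, Iso.hom_inv_id_assoc, Scheme.Hom.comp_apply, hw, hz]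

/-- Morphisms agreeing on all points over pieces are equal. -/
lemma test {idx : Type u} [Finite idx] (D : idx → CommRingCat.{u}) (P : ∀ i, Piece (⊥ : Ideal R) H (D i))
    (hf : ∀ i, Flat (P i).t) (hc : ∀ y : B R, ∃ (i : idx) (z : Spec (D i)), (P i).t z = y)
    {X Y : Over (B R)} (a b : X ⟶ Y)
    (h : ∀ (i : idx) (C : Type u) [CommRing C] (k : D i →+* C) (x : Over.mk (Spec.map (CommRingCat.ofHom k) ≫ (P i).t) ⟶ X),
      x ≫ a = x ≫ b) : a = b := by
  let p : (∐ fun i => Spec (D i)) ⟶ B R := Sigma.desc fun i => (P i).t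
  haveI : Flat p := by
    refine (IsZariskiLocalAtSource.iff_of_openCover (sigmaOpenCover fun i => Spec (D i))).mpr fun i => ?_
    show Flat (Sigma.ι (fun i => Spec (D i)) i ≫ p)
    rw [Sigma.ι_desc]
    exact hf i
  haveI : Surjective p := ⟨fun y => by
    obtain ⟨i, z, hz⟩ := hc y
    exact ⟨Sigma.ι (fun i => Spec (D i)) i z, by rw [← Scheme.Hom.comp_apply, Sigma.ι_desc, hz]⟩⟩
  haveI : Epi (pullback.fst X.hom p) := Flat.epi_of_flat_of_surjective _
  refine Over.OverMorphism.ext ((cancel_epi (pullback.fst X.hom p)).mp (Scheme.hom_ext_of_forall _ _ fun y => ?_))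
  obtain ⟨i, z, hz⟩ := (sigmaOpenCover fun i => Spec (D i)).exists_eq (pullback.snd X.hom p y)
  obtain ⟨_, ⟨O, hO, rfl⟩, hyO, hle⟩ := (pullback X.hom p).isBasis_affineOpens.exists_subset_of_mem_open
    (show y ∈ pullback.snd X.hom p ⁻¹ᵁ (Sigma.ι (fun i => Spec (D i)) i).opensRange from ⟨z, hz⟩) (pullback.snd X.hom p ⁻¹ᵁ _).2
  replace hO : IsAffineOpen O := hO
  refine ⟨O, hyO, ?_⟩
  obtain ⟨k, hk⟩ : ∃ k : D i ⟶ Γ(pullback X.hom p, O), Spec.map k =
      IsOpenImmersion.lift (Sigma.ι (fun i => Spec (D i)) i) (hO.fromSpec ≫ pullback.snd X.hom p) (by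
        rintro _ ⟨w, rfl⟩
        exact hle (hO.range_fromSpec.le ⟨w, rfl⟩)) := ⟨_, Spec.map_preimage _⟩
  let x : Over.mk (Spec.map (CommRingCat.ofHom k.hom) ≫ (P i).t) ⟶ X := Over.homMk (hO.fromSpec ≫ pullback.fst X.hom p) (by
    show (hO.fromSpec ≫ pullback.fst X.hom p) ≫ X.hom = _
    rw [Category.assoc, pullback.condition, CommRingCat.ofHom_hom, hk]
    refine Eq.trans ?_ (congrArg (_ ≫ ·) (Sigma.ι_desc (fun i => (P i).t) i))
    exact ((Category.assoc _ _ _).symm.trans (congrArg (· ≫ p) (IsOpenImmersion.lift_fac _ _ _).symm)).trans (Category.assoc _ _ _))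
  have := congrArg CommaMorphism.left (h i _ k.hom x)
  rw [← cancel_epi hO.isoSpec.inv, IsAffineOpen.isoSpec_inv_ι_assoc, IsAffineOpen.isoSpec_inv_ι_assoc]
  exact (Category.assoc _ _ _).symm.trans (this.trans (Category.assoc _ _ _))

include hJ in
/-- Homomorphisms between groups of multiplicative type agreeing modulo a nilpotent ideal are equal. -/
theorem hom_eq
    (hH : TwC.Locally (B R) TwC.Topology.fpqc (fun S' f => ∃ (M : Type) (_ : AddCommGroup M), Nonempty (Grp.mk (Red.bc f H) ≅ Grp.mk (Red.DS S' M))))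
    (hH' : TwC.Locally (B R) TwC.Topology.fpqc (fun S' f => ∃ (M : Type) (_ : AddCommGroup M), Nonempty (Grp.mk (Red.bc f H') ≅ Grp.mk (Red.DS S' M))))
    (a b : H ⟶ H') [IsMonHom a] [IsMonHom b]
    (h : ∀ (X : Over (B R)) (p : X ⟶ XQ J) (x : X ⟶ H), x ≫ a = x ≫ b) : a = b := by
  obtain ⟨idx, hidx, D, P, Q, hPQ, hf, hc⟩ := exists_common_cover hH hH'
  haveI := hidx
  refine test D P hf hc a b fun i C _ k x => ?_
  let fa : ∀ (c : H ⟶ H') [IsMonHom c], Fam H H' (Spec.map (CommRingCat.ofHom k) ≫ (P i).t) := fun c _ =>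
    { F := fun m t hm x => x ≫ c
      nat := fun m f m' t t' hm hf hm' e x => (Category.assoc _ _ _).symm
      mul := fun m t hm x y => MonObj.mul_comp x y c }
  exact fam_ext hJ (fa a) (fa b) (P i) (Q i) (hPQ i) k rfl (fun m t hm p x => h _ p x) (RingHom.id C)
    (by rw [CommRingCat.ofHom_id, Spec.map_id, Category.id_comp]) x

set_option maxHeartbeats 800000 in
include hJ in
/-- Homomorphisms between groups of multiplicative type lift along nilpotent ideals. -/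
theorem exists_hom
    (hH : TwC.Locally (B R) TwC.Topology.fpqc (fun S' f => ∃ (M : Type) (_ : AddCommGroup M), Nonempty (Grp.mk (Red.bc f H) ≅ Grp.mk (Red.DS S' M))))
    (hH' : TwC.Locally (B R) TwC.Topology.fpqc (fun S' f => ∃ (M : Type) (_ : AddCommGroup M), Nonempty (Grp.mk (Red.bc f H') ≅ Grp.mk (Red.DS S' M))))
    (ψ : H ⊗ XQ J ⟶ H')
    (hψ : ∀ (X : Over (B R)) (p : X ⟶ XQ J) (x y : X ⟶ H), lift (x * y) p ≫ ψ = (lift x p ≫ ψ) * (lift y p ≫ ψ)) :
    ∃ φ : H ⟶ H', IsMonHom φ ∧ ∀ (X : Over (B R)) (p : X ⟶ XQ J) (x : X ⟶ H), x ≫ φ = lift x p ≫ ψ := by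
  obtain ⟨idx, hidx, D, P, Q, hPQ, hf, hc⟩ := exists_common_cover hH hH'
  haveI := hidx
  choose S hS using fun i => exists_sys (ψ := ψ) hJ hψ (P i) (Q i) (hPQ i)
  have hst : ∀ i, (S i).P.t = (P i).t := fun i => by rw [hS]
  let p : (∐ fun i => Spec (D i)) ⟶ B R := Sigma.desc fun i => (P i).t
  haveI : Flat p := by
    refine (IsZariskiLocalAtSource.iff_of_openCover (sigmaOpenCover fun i => Spec (D i))).mpr fun i => ?_
    show Flat (Sigma.ι (fun i => Spec (D i)) i ≫ p)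
    rw [Sigma.ι_desc]
    exact hf i
  haveI : Surjective p := ⟨fun y => by
    obtain ⟨i, z, hz⟩ := hc y
    exact ⟨Sigma.ι (fun i => Spec (D i)) i z, by rw [← Scheme.Hom.comp_apply, Sigma.ι_desc, hz]⟩⟩
  haveI : QuasiCompact p := inferInstance
  let Z := pullback H.hom p
  let pr : Z ⟶ H.left := pullback.fst H.hom p
  -- the value at a point over a piece
  have hv : ∀ {C : Type u} [CommRing C] (l : Spec (CommRingCat.of C) ⟶ Z) (i : idx) (k : D i →+* C),
      l ≫ pullback.snd H.hom p = Spec.map (CommRingCat.ofHom k) ≫ Sigma.ι (fun i => Spec (D i)) i →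
      Spec.map (CommRingCat.ofHom k) ≫ (S i).P.t = (l ≫ pr) ≫ H.hom := by
    intro C _ l i k hl
    rw [Category.assoc, pullback.condition, ← Category.assoc, hl, Category.assoc, Sigma.ι_desc, hst]
  let val : ∀ {C : Type u} [CommRing C] (l : Spec (CommRingCat.of C) ⟶ Z) (i : idx) (k : D i →+* C)
      (hl : l ≫ pullback.snd H.hom p = Spec.map (CommRingCat.ofHom k) ≫ Sigma.ι (fun i => Spec (D i)) i),
      Spec (CommRingCat.of C) ⟶ H'.left := fun {C} _ l i k hl =>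
    ((S i).Φ k (hv l i k hl) (Over.homMk (l ≫ pr) rfl : Over.mk ((l ≫ pr) ≫ H.hom) ⟶ H)).left
  have indep : ∀ {C : Type u} [CommRing C] (l l' : Spec (CommRingCat.of C) ⟶ Z) (i j : idx) (k : D i →+* C) (k' : D j →+* C)
      (hl : l ≫ pullback.snd H.hom p = Spec.map (CommRingCat.ofHom k) ≫ Sigma.ι (fun i => Spec (D i)) i)
      (hl' : l' ≫ pullback.snd H.hom p = Spec.map (CommRingCat.ofHom k') ≫ Sigma.ι (fun i => Spec (D i)) j),
      l ≫ pr = l' ≫ pr → val l i k hl = val l' j k' hl' := by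
    intro C _ l l' i j k k' hl hl' he
    have key : ∀ (m m' : Spec (CommRingCat.of C) ⟶ H.left) (e : m = m')
        (hm : Spec.map (CommRingCat.ofHom k) ≫ (S i).P.t = m ≫ H.hom)
        (hm' : Spec.map (CommRingCat.ofHom k') ≫ (S j).P.t = m' ≫ H.hom),
        ((S i).Φ k hm (Over.homMk m rfl : Over.mk (m ≫ H.hom) ⟶ H)).left =
          ((S j).Φ k' hm' (Over.homMk m' rfl : Over.mk (m' ≫ H.hom) ⟶ H)).left := by
      rintro m _ rfl hm hm'
      rw [Sys.indep hJ (S i) (S j) k k' hm hm']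
    exact key _ _ he _ _
  have vnat : ∀ {C C' : Type u} [CommRing C] [CommRing C'] (l : Spec (CommRingCat.of C) ⟶ Z) (i : idx) (k : D i →+* C)
      (hl : l ≫ pullback.snd H.hom p = Spec.map (CommRingCat.ofHom k) ≫ Sigma.ι (fun i => Spec (D i)) i)
      (f : C →+* C'), ∃ hl', Spec.map (CommRingCat.ofHom f) ≫ val l i k hl = val (Spec.map (CommRingCat.ofHom f) ≫ l) i (f.comp k) hl' := by
    intro C C' _ _ l i k hl f
    have hl' : (Spec.map (CommRingCat.ofHom f) ≫ l) ≫ pullback.snd H.hom p =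
        Spec.map (CommRingCat.ofHom (f.comp k)) ≫ Sigma.ι (fun i => Spec (D i)) i := by
      rw [Category.assoc, hl, ← Spec.map_comp_assoc]; rfl
    refine ⟨hl', ?_⟩
    have := congrArg CommaMorphism.left ((S i).Φ_nat k f (f.comp k) (hv l i k hl)
      (t' := ((Spec.map (CommRingCat.ofHom f) ≫ l) ≫ pr) ≫ H.hom) (by simp only [Category.assoc]) (hv _ i _ hl') rfl
      (Over.homMk (l ≫ pr) rfl : Over.mk ((l ≫ pr) ≫ H.hom) ⟶ H))
    refine this.trans ?_
    show ((S i).Φ _ _ _).left = ((S i).Φ _ _ _).left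
    congr 2
  -- charts
  have hchart : ∀ z : Z, ∃ (O : Z.affineOpens) (i : idx) (k : D i →+* Γ(Z, O.1)), z ∈ O.1 ∧
      O.2.fromSpec ≫ pullback.snd H.hom p = Spec.map (CommRingCat.ofHom k) ≫ Sigma.ι (fun i => Spec (D i)) i := by
    intro z
    obtain ⟨i, w, hw⟩ := (sigmaOpenCover fun i => Spec (D i)).exists_eq (pullback.snd H.hom p z)
    obtain ⟨_, ⟨O, hO, rfl⟩, hzO, hle⟩ := Z.isBasis_affineOpens.exists_subset_of_mem_open
      (show z ∈ pullback.snd H.hom p ⁻¹ᵁ (Sigma.ι (fun i => Spec (D i)) i).opensRange from ⟨w, hw⟩) (pullback.snd H.hom p ⁻¹ᵁ _).2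
    replace hO : IsAffineOpen O := hO
    obtain ⟨k, hk⟩ : ∃ k : D i ⟶ Γ(Z, O), Spec.map k =
        IsOpenImmersion.lift (Sigma.ι (fun i => Spec (D i)) i) (hO.fromSpec ≫ pullback.snd H.hom p) (by
          rintro _ ⟨w', rfl⟩
          exact hle (hO.range_fromSpec.le ⟨w', rfl⟩)) := ⟨_, Spec.map_preimage _⟩
    exact ⟨⟨O, hO⟩, i, k.hom, hzO, by rw [CommRingCat.ofHom_hom, hk, IsOpenImmersion.lift_fac]⟩
  choose O I K hzO hK using hchart
  let 𝒰 := Z.openCoverOfIsOpenCover (fun z => (O z).1)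
    (top_le_iff.mp fun z _ => TopologicalSpace.Opens.mem_iSup.mpr ⟨z, hzO z⟩)
  let fz : ∀ z, ((O z).1 : Scheme.{u}) ⟶ H'.left := fun z => (O z).2.isoSpec.hom ≫ val _ (I z) (K z) (hK z)
  -- comparison with values
  have hval : ∀ {C : Type u} [CommRing C] (z : Z) (a : Spec (CommRingCat.of C) ⟶ ((O z).1 : Scheme.{u})),
      ∃ (k : D (I z) →+* C) (hl : (a ≫ (O z).1.ι) ≫ pullback.snd H.hom p = Spec.map (CommRingCat.ofHom k) ≫ Sigma.ι (fun i => Spec (D i)) (I z)),
        a ≫ fz z = val (a ≫ (O z).1.ι) (I z) k hl := by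
    intro C _ z a
    obtain ⟨f, hf'⟩ : ∃ f : Γ(Z, (O z).1) ⟶ CommRingCat.of C, Spec.map f = a ≫ (O z).2.isoSpec.hom := ⟨_, Spec.map_preimage _⟩
    obtain ⟨hl', he⟩ := vnat _ (I z) (K z) (hK z) f.hom
    have e : Spec.map (CommRingCat.ofHom f.hom) ≫ (O z).2.fromSpec = a ≫ (O z).1.ι := by
      rw [CommRingCat.ofHom_hom, hf', Category.assoc, IsAffineOpen.isoSpec_hom_fromSpec]
    refine ⟨f.hom.comp (K z), e ▸ hl', ?_⟩
    show a ≫ (O z).2.isoSpec.hom ≫ _ = _
    rw [← Category.assoc, ← hf']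
    refine he.trans ?_
    congr 1
  have agree : ∀ {Y : Scheme.{u}} (z z' : Z) (a : Y ⟶ ((O z).1 : Scheme.{u})) (b : Y ⟶ ((O z').1 : Scheme.{u})),
      (a ≫ (O z).1.ι) ≫ pr = (b ≫ (O z').1.ι) ≫ pr → a ≫ fz z = b ≫ fz z' := by
    intro Y z z' a b he
    refine Scheme.hom_ext_of_forall _ _ fun y => ?_
    obtain ⟨_, ⟨V, hV, rfl⟩, hyV, -⟩ := Y.isBasis_affineOpens.exists_subset_of_mem_open (Set.mem_univ y) isOpen_univ
    replace hV : IsAffineOpen V := hV
    refine ⟨V, hyV, ?_⟩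
    rw [← cancel_epi hV.isoSpec.inv, IsAffineOpen.isoSpec_inv_ι_assoc, IsAffineOpen.isoSpec_inv_ι_assoc]
    obtain ⟨k, hl, e1⟩ := hval z (hV.fromSpec ≫ a)
    obtain ⟨k', hl', e2⟩ := hval z' (hV.fromSpec ≫ b)
    refine (Category.assoc _ _ _).symm.trans (e1.trans ((indep _ _ _ _ _ _ hl hl' ?_).trans (e2.symm.trans (Category.assoc _ _ _))))
    simp only [Category.assoc] at he ⊢
    rw [he]
  let g : Z ⟶ H'.left := 𝒰.glueMorphisms fz fun z z' => agree z z' _ _ (congrArg (· ≫ pr) pullback.condition)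
  have hg : ∀ z, (O z).1.ι ≫ g = fz z := fun z => 𝒰.ι_glueMorphisms _ _ z
  haveI : EffectiveEpi pr := inferInstance
  let d : H.left ⟶ H'.left := EffectiveEpi.desc pr g (by
    intro Y g₁ g₂ he
    refine Scheme.hom_ext_of_forall _ _ fun y => ?_
    let V := g₁ ⁻¹ᵁ (O (g₁ y)).1 ⊓ g₂ ⁻¹ᵁ (O (g₂ y)).1
    refine ⟨V, ⟨hzO _, hzO _⟩, ?_⟩
    let a := IsOpenImmersion.lift (O (g₁ y)).1.ι (V.ι ≫ g₁) (by
      rw [Scheme.Opens.range_ι]; rintro _ ⟨w, rfl⟩; exact w.2.1)
    let b := IsOpenImmersion.lift (O (g₂ y)).1.ι (V.ι ≫ g₂) (by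
      rw [Scheme.Opens.range_ι]; rintro _ ⟨w, rfl⟩; exact w.2.2)
    have ha : a ≫ (O (g₁ y)).1.ι = V.ι ≫ g₁ := IsOpenImmersion.lift_fac _ _ _
    have hb : b ≫ (O (g₂ y)).1.ι = V.ι ≫ g₂ := IsOpenImmersion.lift_fac _ _ _
    rw [← Category.assoc, ← Category.assoc, ← ha, ← hb, Category.assoc, Category.assoc, hg, hg]
    refine agree _ _ a b ?_
    rw [ha, hb, Category.assoc, Category.assoc, he])
  have hd : pr ≫ d = g := EffectiveEpi.fac _ _ _
  have hgl : ∀ {C : Type u} [CommRing C] (l : Spec (CommRingCat.of C) ⟶ Z) (i : idx) (k : D i →+* C)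
      (hl : l ≫ pullback.snd H.hom p = Spec.map (CommRingCat.ofHom k) ≫ Sigma.ι (fun i => Spec (D i)) i),
      l ≫ g = val l i k hl := by
    intro C _ l i k hl
    refine Scheme.hom_ext_of_forall _ _ fun y => ?_
    obtain ⟨_, ⟨V, hV, rfl⟩, hyV, hle⟩ := (Spec (CommRingCat.of C)).isBasis_affineOpens.exists_subset_of_mem_open
      (show y ∈ l ⁻¹ᵁ (O (l y)).1 from hzO _) (l ⁻¹ᵁ _).2
    replace hV : IsAffineOpen V := hV
    refine ⟨V, hyV, ?_⟩
    rw [← cancel_epi hV.isoSpec.inv, IsAffineOpen.isoSpec_inv_ι_assoc, IsAffineOpen.isoSpec_inv_ι_assoc]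
    let a := IsOpenImmersion.lift (O (l y)).1.ι (hV.fromSpec ≫ l) (by
      rw [Scheme.Opens.range_ι]; rintro _ ⟨w, rfl⟩; exact hle (hV.range_fromSpec.le ⟨w, rfl⟩))
    have ha : a ≫ (O (l y)).1.ι = hV.fromSpec ≫ l := IsOpenImmersion.lift_fac _ _ _
    obtain ⟨f, hf'⟩ : ∃ f : CommRingCat.of C ⟶ Γ(Spec (CommRingCat.of C), V), Spec.map f = hV.fromSpec :=
      ⟨_, Spec.map_preimage _⟩
    obtain ⟨k1, hl1, e1⟩ := hval (l y) a
    obtain ⟨hl2, e2⟩ := vnat l i k hl f.hom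
    rw [← Category.assoc, ← ha, Category.assoc, hg]
    refine e1.trans ?_
    rw [← hf', ← CommRingCat.ofHom_hom f]
    refine Eq.trans ?_ e2.symm
    refine indep _ _ _ _ _ _ hl1 hl2 ?_
    refine congrArg (· ≫ pr) (ha.trans ?_)
    rw [CommRingCat.ofHom_hom, hf']
  let φ : H ⟶ H' := Over.homMk d (by
    haveI : Epi pr := Flat.epi_of_flat_of_surjective _
    rw [← cancel_epi pr, ← Category.assoc, hd]
    refine 𝒰.hom_ext _ _ fun z => ?_
    show (O z).1.ι ≫ g ≫ H'.hom = (O z).1.ι ≫ pr ≫ H.hom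
    rw [← Category.assoc, hg]
    show ((O z).2.isoSpec.hom ≫ _) ≫ H'.hom = _
    rw [Category.assoc]
    refine (congrArg ((O z).2.isoSpec.hom ≫ ·) (Over.w ((S (I z)).Φ (K z) (hv _ _ _ (hK z)) (Over.homMk ((O z).2.fromSpec ≫ pr) rfl)))).trans ?_
    simp only [Over.mk_hom, ← Category.assoc, IsAffineOpen.isoSpec_hom_fromSpec])
  have hφ : ∀ (i : idx) (C : Type u) [CommRing C] (k : D i →+* C)
      (x : Over.mk (Spec.map (CommRingCat.ofHom k) ≫ (P i).t) ⟶ H),
      x ≫ φ = (S i).Φ k (by rw [hst]) x := by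
    intro i C _ k x
    let l : Spec (CommRingCat.of C) ⟶ Z := pullback.lift x.left (Spec.map (CommRingCat.ofHom k) ≫ Sigma.ι (fun i => Spec (D i)) i) (by
      rw [Category.assoc, Sigma.ι_desc]; exact Over.w x)
    have hl : l ≫ pullback.snd H.hom p = _ := pullback.lift_snd _ _ _
    have hlx : l ≫ pr = x.left := pullback.lift_fst _ _ _
    apply Over.OverMorphism.ext
    show x.left ≫ d = _
    rw [← hlx, Category.assoc, hd, hgl l i k hl]
    have key : ∀ (t : Spec (CommRingCat.of C) ⟶ B R) (m : Spec (CommRingCat.of C) ⟶ H.left) (hm : m ≫ H.hom = t)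
        (h1 : Spec.map (CommRingCat.ofHom k) ≫ (S i).P.t = m ≫ H.hom) (h2 : Spec.map (CommRingCat.ofHom k) ≫ (S i).P.t = t),
        ((S i).Φ k h1 (Over.homMk m rfl : Over.mk (m ≫ H.hom) ⟶ H)).left = ((S i).Φ k h2 (Over.homMk m hm)).left := by
      intro t m hm h1 h2
      subst hm
      rfl
    refine (key (Spec.map (CommRingCat.ofHom k) ≫ (P i).t) (l ≫ pr) (by rw [hlx]; exact Over.w x) _ (by rw [hst])).trans ?_
    congr 2
    exact Over.OverMorphism.ext hlx
  refine ⟨φ, ⟨?_, ?_⟩, fun X pX x => test D P hf hc _ _ fun i C _ k m => ?_⟩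
  · refine test D P hf hc _ _ fun i C _ k m => ?_
    rw [← Category.assoc, MonObj.one_eq_one, MonObj.comp_one, hφ, MonObj.one_eq_one, MonObj.comp_one]
    have := (S i).Φ_mul k (t := Spec.map (CommRingCat.ofHom k) ≫ (P i).t) (by rw [hst]) 1 1
    rw [_root_.one_mul] at this
    exact mul_eq_left.mp this.symm
  · refine test D P hf hc _ _ fun i C _ k m => ?_
    rw [MonObj.mul_eq_mul, MonObj.mul_eq_mul, MonObj.comp_mul (f := (φ ⊗ₘ φ)), tensorHom_fst, tensorHom_snd, ← Category.assoc,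
      MonObj.comp_mul, hφ, MonObj.comp_mul, ← Category.assoc, ← Category.assoc, hφ, hφ, (S i).Φ_mul]
  · rw [← Category.assoc, hφ, ← Category.assoc, comp_lift]
    obtain ⟨χ, hχ⟩ := (pt (S i).P k (show Spec.map (CommRingCat.ofHom k) ≫ (S i).P.t = Spec.map (CommRingCat.ofHom k) ≫ (P i).t by rw [hst])).surjective (m ≫ x)
    rw [← hχ]
    simp only [Sys.Φ, MulEquiv.symm_apply_apply]
    exact (S i).cong k _ _ (m ≫ pX) χ

end Groth.Agent.H8MultHomExist

end
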