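import Mathlib
import Groth.Prelude.Def_SGA3x
import Groth.Agent.Lib.H8MultHomExist
import Groth.Agent.Lib.H8MultType
import Groth.Agent.Lib.H8CentralDescent
import Groth.Agent.Lib.FpqcDescent

/-!
# Monomorphisms from groups of multiplicative type to affine groups are closed immersions
-/

set_option autoImplicit false
set_option linter.all false

universe u

open CategoryTheory Limits AlgebraicGeometry MonoidalCategory CartesianMonoidalCategory MonObj GrpObj

noncomputable section

namespace Groth.Agent.H8MultMonoClosed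

open H8DiagRigid H8ConjRigid H8MultHomExist H8GLChar

variable {R : Type u} [CommRing R] {H G : Over (B R)} [GrpObj H] [GrpObj G] [IsAffine G.left]
  {D : Type u} [CommRing D] (P : Piece (⊥ : Ideal R) H D) (i : H ⟶ G) [IsMonHom i] [Mono i]

set_option maxHeartbeats 600000 in
theorem piece_closed : IsClosedImmersion
    (pullback.lift (P.h ≫ i).left (Spec.map (CommRingCat.ofHom (MonoidAlgebra.singleOneRingHom : D →+* P.A)))
      (Over.w (P.h ≫ i)) : Spec (CommRingCat.of P.A) ⟶ pullback G.hom P.t) := by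
  classical
  let sg : D →+* P.A := MonoidAlgebra.singleOneRingHom
  obtain ⟨ga, hga⟩ : ∃ ga : CommRingCat.of R ⟶ Γ(G.left, ⊤), Spec.map ga = G.left.isoSpec.inv ≫ G.hom := ⟨_, Spec.map_preimage _⟩
  obtain ⟨φ, hφ⟩ : ∃ φ : Γ(G.left, ⊤) ⟶ CommRingCat.of P.A, Spec.map φ = (P.h ≫ i).left ≫ G.left.isoSpec.hom :=
    ⟨_, Spec.map_preimage _⟩
  have hφ' : Spec.map φ ≫ G.left.isoSpec.inv = (P.h ≫ i).left := by rw [hφ, Category.assoc, Iso.hom_inv_id, Category.comp_id]
  let τ := Spec.preimage P.t
  have hbase : ga ≫ φ = τ ≫ CommRingCat.ofHom sg := by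
    apply Spec.map_injective
    rw [Spec.map_comp, Spec.map_comp, hga, ← Category.assoc, hφ', Over.w, Spec.map_preimage]
    rfl
  let Im : Subring P.A := Subring.closure (Set.range sg ∪ Set.range φ.hom)
  have hsg : ∀ d, sg d ∈ Im := fun d => Subring.subset_closure (Or.inl ⟨d, rfl⟩)
  have hIm : ∀ f, φ.hom f ∈ Im := fun f => Subring.subset_closure (Or.inr ⟨f, rfl⟩)
  -- points with values in a subring
  have key : ∀ {A' : Type u} [CommRing A'] (k : D →+* A') (T : Subring A') (hk : ∀ d, k d ∈ T)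
      (a : Γ(G.left, ⊤) ⟶ CommRingCat.of A') (ha : ∀ f, a.hom f ∈ T) (ha' : ga ≫ a = τ ≫ CommRingCat.ofHom k),
      ∃ x : Over.mk (Spec.map (CommRingCat.ofHom (k.codRestrict T hk)) ≫ P.t) ⟶ G,
        Spec.map (CommRingCat.ofHom T.subtype) ≫ x.left = Spec.map a ≫ G.left.isoSpec.inv := by
    intro A' _ k T hk a ha ha'
    let aT : Γ(G.left, ⊤) ⟶ CommRingCat.of T := CommRingCat.ofHom (a.hom.codRestrict T ha)
    refine ⟨Over.homMk (Spec.map aT ≫ G.left.isoSpec.inv) ?_, ?_⟩
    · show (Spec.map aT ≫ G.left.isoSpec.inv) ≫ G.hom = Spec.map _ ≫ P.t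
      rw [Category.assoc, ← hga, ← Spec.map_preimage P.t, ← Spec.map_comp, ← Spec.map_comp]
      refine congrArg Spec.map (CommRingCat.hom_ext (RingHom.ext fun r => Subtype.ext ?_))
      exact congrArg (fun F : CommRingCat.of R ⟶ CommRingCat.of A' => F.hom r) ha'
    · show Spec.map _ ≫ Spec.map aT ≫ _ = _
      rw [← Spec.map_comp_assoc]
      rfl
  -- values of a product lie in the subring
  have inSub : ∀ {A' : Type u} [CommRing A'] (k : D →+* A') (T : Subring A') (hk : ∀ d, k d ∈ T)
      (x : Over.mk (Spec.map (CommRingCat.ofHom (k.codRestrict T hk)) ≫ P.t) ⟶ G) (a : Γ(G.left, ⊤) ⟶ CommRingCat.of A'),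
      Spec.map (CommRingCat.ofHom T.subtype) ≫ x.left = Spec.map a ≫ G.left.isoSpec.inv → ∀ f, a.hom f ∈ T := by
    intro A' _ k T hk x a he f
    obtain ⟨b, hb⟩ : ∃ b : Γ(G.left, ⊤) ⟶ CommRingCat.of T, Spec.map b = x.left ≫ G.left.isoSpec.hom := ⟨_, Spec.map_preimage _⟩
    have : a = b ≫ CommRingCat.ofHom T.subtype := by
      apply Spec.map_injective
      rw [← cancel_mono G.left.isoSpec.inv, Spec.map_comp, hb, Category.assoc, Category.assoc, Iso.hom_inv_id,
        Category.comp_id, he]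
    rw [this]
    exact (b.hom f).2
  let M := Multiplicative P.M
  let A2 := MonoidAlgebra D (M × M)
  let s2 : D →+* A2 := MonoidAlgebra.singleOneRingHom
  have eF : ∀ {C : Type u} [CommRing C] (F : P.A →+* C) (k : D →+* C) (hF : F.comp sg = k),
      Spec.map (CommRingCat.ofHom F) ≫ P.tA = Spec.map (CommRingCat.ofHom k) ≫ P.t := fun F k hF => by
    rw [Piece.tA, ← Spec.map_comp_assoc, ← hF]
    rfl
  -- inverse
  let σ : P.A →+* P.A := MonoidAlgebra.mapDomainRingHom D (invMonoidHom : M →* M)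
  have hσs : ∀ (m : M) (r : D), σ (MonoidAlgebra.single m r) = MonoidAlgebra.single m⁻¹ r := fun m r => by simp [σ]
  have hσsg : σ.comp sg = sg := RingHom.ext fun d => (hσs 1 d).trans (by rw [inv_one]; rfl)
  have hσIm : ∀ a ∈ Im, σ a ∈ Im := by
    have hσφ : ∀ f, σ (φ.hom f) ∈ Im := by
      obtain ⟨x, hx⟩ := key sg Im hsg φ hIm hbase
      refine inSub sg Im hsg x⁻¹ (φ ≫ CommRingCat.ofHom σ) ?_
      have hinv : res σ (eF σ sg hσsg) ≫ P.h = P.h⁻¹ := by
        rw [P.res_h σ sg (eF σ sg hσsg) rfl hσsg]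
        refine eq_inv_of_mul_eq_one_left ?_
        show pt P sg rfl (σ.toMonoidHom.comp (MonoidAlgebra.of D M)) * pt P sg rfl (MonoidAlgebra.of D M) = 1
        rw [← map_mul, ← map_one (pt P sg rfl)]
        refine congrArg _ (MonoidHom.ext fun m => ?_)
        show σ (MonoidAlgebra.single m 1) * MonoidAlgebra.single m 1 = 1
        rw [hσs, MonoidAlgebra.single_mul_single, inv_mul_cancel, _root_.mul_one]
        rfl
      have hsub : Spec.map (CommRingCat.ofHom Im.subtype) ≫ Spec.map (CommRingCat.ofHom (sg.codRestrict Im hsg)) ≫ P.t = P.tA := by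
        rw [← Spec.map_comp_assoc]; rfl
      let r : Over.mk P.tA ⟶ Over.mk (Spec.map (CommRingCat.ofHom (sg.codRestrict Im hsg)) ≫ P.t) := res Im.subtype hsub
      have hrx : r ≫ x = P.h ≫ i := Over.OverMorphism.ext (hx.trans hφ')
      have : r ≫ x⁻¹ = res σ (eF σ sg hσsg) ≫ P.h ≫ i := by
        rw [GrpObj.comp_inv, hrx, ← Category.assoc, hinv, GrpObj.inv_comp]
      refine (congrArg Over.Hom.left this).trans ?_
      rw [Spec.map_comp, Category.assoc, hφ']
      rfl
    intro a ha
    refine Subring.closure_induction (p := fun a _ => σ a ∈ Im) ?_ ?_ ?_ ?_ ?_ ?_ ha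
    · rintro _ (⟨d, rfl⟩ | ⟨f, rfl⟩)
      · rw [← RingHom.comp_apply, hσsg]; exact hsg d
      · exact hσφ f
    · rw [map_zero]; exact zero_mem _
    · rw [map_one]; exact one_mem _
    · intro x y _ _ hx hy; rw [map_add]; exact add_mem hx hy
    · intro x _ hx; rw [map_neg]; exact neg_mem hx
    · intro x y _ _ hx hy; rw [map_mul]; exact mul_mem hx hy
  -- diagonal
  let gens : Set A2 := {z | ∃ a ∈ Im, ∃ b ∈ Im, z = inl a * inr b}
  let Z := AddSubgroup.closure gens
  let T2 : Subring A2 :=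
    { carrier := Z
      one_mem' := AddSubgroup.subset_closure ⟨1, one_mem _, 1, one_mem _, by simp⟩
      zero_mem' := zero_mem Z
      add_mem' := fun ha hb => add_mem (s := Z) ha hb
      neg_mem' := fun ha => Z.neg_mem ha
      mul_mem' := fun {x y} hx hy => by
        induction hx using AddSubgroup.closure_induction with
        | mem x hx =>
          induction hy using AddSubgroup.closure_induction with
          | mem y hy =>
            obtain ⟨a, ha, b, hb, rfl⟩ := hx
            obtain ⟨a', ha', b', hb', rfl⟩ := hy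
            exact AddSubgroup.subset_closure ⟨a * a', mul_mem ha ha', b * b', mul_mem hb hb', by rw [map_mul, map_mul]; ac_rfl⟩
          | zero => rw [mul_zero]; exact zero_mem Z
          | add y z _ _ h1 h2 => rw [mul_add]; exact add_mem h1 h2
          | neg y _ h1 => rw [mul_neg]; exact neg_mem h1
        | zero => rw [zero_mul]; exact zero_mem Z
        | add x z _ _ h1 h2 => rw [add_mul]; exact add_mem h1 h2
        | neg x _ h1 => rw [neg_mul]; exact neg_mem h1 }
  have hl2 : ∀ a ∈ Im, inl a ∈ T2 := fun a ha => AddSubgroup.subset_closure ⟨a, ha, 1, one_mem _, by simp⟩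
  have hr2 : ∀ b ∈ Im, inr b ∈ T2 := fun b hb => AddSubgroup.subset_closure ⟨1, one_mem _, b, hb, by simp⟩
  have hil : (inl (R := D) (G := M)).comp sg = s2 := RingHom.ext fun d => inl_single 1 d
  have hir : (inr (R := D) (G := M)).comp sg = s2 := RingHom.ext fun d => inr_single 1 d
  have hid : (dg (R := D) (G := M)).comp sg = s2 := RingHom.ext fun d => dg_single 1 d
  have hs2 : ∀ d, s2 d ∈ T2 := fun d => by rw [← hil]; exact hl2 _ (hsg d)
  have hdg : ∀ f, dg (φ.hom f) ∈ T2 := by
    obtain ⟨x, hx⟩ := key s2 T2 hs2 (φ ≫ CommRingCat.ofHom inl) (fun f => hl2 _ (hIm f)) (by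
      rw [← Category.assoc, hbase, Category.assoc, ← CommRingCat.ofHom_comp, hil])
    obtain ⟨y, hy⟩ := key s2 T2 hs2 (φ ≫ CommRingCat.ofHom inr) (fun f => hr2 _ (hIm f)) (by
      rw [← Category.assoc, hbase, Category.assoc, ← CommRingCat.ofHom_comp, hir])
    refine inSub s2 T2 hs2 (x * y) (φ ≫ CommRingCat.ofHom dg) ?_
    let t2 := Spec.map (CommRingCat.ofHom s2) ≫ P.t
    have hsub : Spec.map (CommRingCat.ofHom T2.subtype) ≫ Spec.map (CommRingCat.ofHom (s2.codRestrict T2 hs2)) ≫ P.t = t2 := by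
      rw [← Spec.map_comp_assoc]; rfl
    let r : Over.mk t2 ⟶ Over.mk (Spec.map (CommRingCat.ofHom (s2.codRestrict T2 hs2)) ≫ P.t) := res T2.subtype hsub
    have hxy : res (dg (R := D) (G := M)) (eF _ s2 hid) ≫ P.h =
        (res (inl (R := D) (G := M)) (eF _ s2 hil) ≫ P.h) * (res (inr (R := D) (G := M)) (eF _ s2 hir) ≫ P.h) := by
      rw [P.res_h _ s2 (eF _ s2 hid) rfl hid, P.res_h _ s2 (eF _ s2 hil) rfl hil, P.res_h _ s2 (eF _ s2 hir) rfl hir,
        ← map_mul]
      refine congrArg _ (MonoidHom.ext fun m => ?_)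
      show dg (MonoidAlgebra.single m (1 : D)) = inl (MonoidAlgebra.single m (1 : D)) * inr (MonoidAlgebra.single m (1 : D))
      rw [dg_single, inl_single, inr_single, MonoidAlgebra.single_mul_single, Prod.mk_mul_mk, _root_.mul_one, _root_.one_mul, _root_.mul_one]
    have hrl : r ≫ x = res (inl (R := D) (G := M)) (eF _ s2 hil) ≫ P.h ≫ i := Over.OverMorphism.ext (hx.trans (by
      rw [Spec.map_comp, Category.assoc, hφ']; rfl))
    have hrr : r ≫ y = res (inr (R := D) (G := M)) (eF _ s2 hir) ≫ P.h ≫ i := Over.OverMorphism.ext (hy.trans (by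
      rw [Spec.map_comp, Category.assoc, hφ']; rfl))
    have : r ≫ (x * y) = res (dg (R := D) (G := M)) (eF _ s2 hid) ≫ P.h ≫ i := by
      rw [MonObj.comp_mul, hrl, hrr, ← Category.assoc, ← Category.assoc, ← Category.assoc, hxy, MonObj.mul_comp]
    refine (congrArg Over.Hom.left this).trans ?_
    rw [Spec.map_comp, Category.assoc, hφ']
    rfl
  have hcoef : ∀ f m, MonoidAlgebra.single m ((φ.hom f).coeff m) ∈ Im := by
    intro f m
    have hpred : ∀ z ∈ Z, ∃ a ∈ Im, ∀ p, a.coeff p = z.coeff (p, m) := by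
      intro z hz
      induction hz using AddSubgroup.closure_induction with
      | mem z hz =>
        obtain ⟨a, ha, b, hb, rfl⟩ := hz
        refine ⟨a * sg (b.coeff m), mul_mem ha (hsg _), fun p => ?_⟩
        rw [coeff_inl_mul_inr]
        show (a * MonoidAlgebra.single 1 (b.coeff m)).coeff p = _
        rw [MonoidAlgebra.coeff_mul_single_one]
      | zero => exact ⟨0, zero_mem _, fun p => rfl⟩
      | add x y _ _ hx hy =>
        obtain ⟨a, ha, ha'⟩ := hx
        obtain ⟨b, hb, hb'⟩ := hy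
        exact ⟨a + b, add_mem ha hb, fun p => (congrArg₂ (· + ·) (ha' p) (hb' p) : _)⟩
      | neg x _ hx =>
        obtain ⟨a, ha, ha'⟩ := hx
        exact ⟨-a, neg_mem ha, fun p => (congrArg Neg.neg (ha' p) : _)⟩
    obtain ⟨a, ha, ha'⟩ := hpred _ (hdg f)
    convert ha
    refine MonoidAlgebra.ext (Finsupp.ext fun p => ?_)
    rw [ha', coeff_dg, MonoidAlgebra.coeff_single, Finsupp.single_apply]
    by_cases h : m = p
    · subst h; simp
    · rw [if_neg h, if_neg (Ne.symm h)]
  have hall : ∀ m : M, MonoidAlgebra.single m (1 : D) ∈ Im := by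
    intro m0
    by_contra hm0
    let I : M → Ideal D := fun m =>
      { carrier := {r | MonoidAlgebra.single m r ∈ Im}
        zero_mem' := by simp
        add_mem' := fun {a b} ha hb => by
          show MonoidAlgebra.single m (a + b) ∈ Im
          rw [MonoidAlgebra.single_add]; exact add_mem ha hb
        smul_mem' := fun c r hr => by
          show MonoidAlgebra.single m (c * r) ∈ Im
          have : MonoidAlgebra.single m (c * r) = sg c * MonoidAlgebra.single m r := by
            show _ = MonoidAlgebra.single 1 c * _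
            rw [MonoidAlgebra.single_mul_single, _root_.one_mul]
          rw [this]; exact mul_mem (hsg c) hr }
    obtain ⟨p, hp, hle⟩ := Ideal.exists_le_maximal (I m0) ((Ideal.ne_top_iff_one _).mpr hm0)
    haveI := hp.isPrime
    let L : Subgroup M :=
      { carrier := {m | ¬ I m ≤ p}
        one_mem' := fun h => hp.ne_top ((Ideal.eq_top_iff_one _).mpr (h (hsg 1)))
        mul_mem' := fun {a b} ha hb h => by
          obtain ⟨x, hx, hxp⟩ := SetLike.not_le_iff_exists.mp ha
          obtain ⟨y, hy, hyp⟩ := SetLike.not_le_iff_exists.mp hb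
          have : MonoidAlgebra.single (a * b) (x * y) ∈ Im := by
            rw [← MonoidAlgebra.single_mul_single]; exact mul_mem hx hy
          exact (‹p.IsPrime›.mem_or_mem (h this)).elim hxp hyp
        inv_mem' := fun {a} ha h => by
          obtain ⟨x, hx, hxp⟩ := SetLike.not_le_iff_exists.mp ha
          refine hxp (h ?_)
          show MonoidAlgebra.single a⁻¹ x ∈ Im
          rw [← hσs]; exact hσIm _ hx }
    let k : D →+* MonoidAlgebra (D ⧸ p) (M ⧸ L) := (MonoidAlgebra.singleOneRingHom).comp (Ideal.Quotient.mk p)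
    let χ : M →* MonoidAlgebra (D ⧸ p) (M ⧸ L) := (MonoidAlgebra.of (D ⧸ p) (M ⧸ L)).comp (QuotientGroup.mk' L)
    have hagree : ∀ f, ext1 k χ (φ.hom f) = ext1 k 1 (φ.hom f) := by
      intro f
      rw [← MonoidAlgebra.sum_coeff_single (φ.hom f)]
      simp only [Finsupp.sum, map_sum]
      refine Finset.sum_congr rfl fun n _ => ?_
      simp only [ext1, MonoidAlgebra.liftNCRingHom_single]
      by_cases hn : n ∈ L
      · show k _ * χ n = k _ * 1
        rw [show χ n = 1 from by simp [χ, (QuotientGroup.eq_one_iff n).mpr hn, MonoidAlgebra.one_def]]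
      · have : (φ.hom f).coeff n ∈ p := (not_not.mp hn : I n ≤ p) (hcoef f n)
        show k _ * χ n = k _ * 1
        rw [show k ((φ.hom f).coeff n) = 0 from by simp [k, Ideal.Quotient.eq_zero_iff_mem.mpr this], zero_mul, zero_mul]
    have hpts : ∀ ψ : M →* MonoidAlgebra (D ⧸ p) (M ⧸ L),
        res (ext1 k ψ) (eF (ext1 k ψ) k (ext1_comp_single k ψ)) ≫ P.h =
          pt P k (t' := Spec.map (CommRingCat.ofHom k) ≫ P.t) rfl ψ := fun ψ => by
      rw [P.res_h _ k _ rfl (ext1_comp_single k ψ), ext1_comp_of]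
    have he : pt P k (t' := Spec.map (CommRingCat.ofHom k) ≫ P.t) rfl χ = pt P k rfl 1 := by
      rw [← cancel_mono i, ← hpts, ← hpts, Category.assoc, Category.assoc]
      refine Over.OverMorphism.ext ?_
      show Spec.map _ ≫ (P.h ≫ i).left = Spec.map _ ≫ (P.h ≫ i).left
      rw [← hφ', ← Spec.map_comp_assoc, ← Spec.map_comp_assoc]
      refine congrArg (fun F => Spec.map F ≫ G.left.isoSpec.inv) (CommRingCat.hom_ext (RingHom.ext fun f => hagree f))
    have h1 := DFunLike.congr_fun ((pt P k rfl).injective he) m0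
    have hm : (QuotientGroup.mk' L m0) ≠ 1 := fun h => ((QuotientGroup.eq_one_iff m0).mp h) hle
    haveI : Nontrivial (D ⧸ p) := Ideal.Quotient.nontrivial_iff.mpr hp.ne_top
    refine hm (MonoidAlgebra.of_injective (R := D ⧸ p) ?_)
    rw [map_one]
    exact h1
  let X := pullback G.hom P.t
  haveI : IsAffine X := inferInstance
  obtain ⟨ψ, hψ⟩ : ∃ ψ : Γ(X, ⊤) ⟶ CommRingCat.of P.A, Spec.map ψ =
      pullback.lift (P.h ≫ i).left (Spec.map (CommRingCat.ofHom sg)) (Over.w (P.h ≫ i)) ≫ X.isoSpec.hom := ⟨_, Spec.map_preimage _⟩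
  have hsurj : Function.Surjective ψ.hom := by
    have hle : Im ≤ ψ.hom.range := by
      refine Subring.closure_le.mpr ?_
      rintro _ (⟨d, rfl⟩ | ⟨f, rfl⟩)
      · obtain ⟨b, hb⟩ : ∃ b : CommRingCat.of D ⟶ Γ(X, ⊤), Spec.map b = X.isoSpec.inv ≫ pullback.snd _ _ := ⟨_, Spec.map_preimage _⟩
        have : b ≫ ψ = CommRingCat.ofHom sg := by
          apply Spec.map_injective
          rw [Spec.map_comp, hψ, hb, Category.assoc, Iso.hom_inv_id_assoc, pullback.lift_snd]
        exact ⟨b.hom d, congrArg (fun F : CommRingCat.of D ⟶ CommRingCat.of P.A => F.hom d) this⟩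
      · obtain ⟨b, hb⟩ : ∃ b : Γ(G.left, ⊤) ⟶ Γ(X, ⊤), Spec.map b = X.isoSpec.inv ≫ pullback.fst _ _ ≫ G.left.isoSpec.hom :=
          ⟨_, Spec.map_preimage _⟩
        have : b ≫ ψ = φ := by
          apply Spec.map_injective
          rw [Spec.map_comp, hψ, hb, Category.assoc, Iso.hom_inv_id_assoc, pullback.lift_fst_assoc, hφ]
        exact ⟨b.hom f, congrArg (fun F : Γ(G.left, ⊤) ⟶ CommRingCat.of P.A => F.hom f) this⟩
    intro a
    refine hle (?_ : a ∈ Im)
    induction a using MonoidAlgebra.induction_linear with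
    | zero => exact zero_mem _
    | add x y hx hy => exact add_mem hx hy
    | single m r =>
      have : MonoidAlgebra.single m r = sg r * MonoidAlgebra.single m (1 : D) := by
        show _ = MonoidAlgebra.single 1 r * _
        rw [MonoidAlgebra.single_mul_single, _root_.one_mul, _root_.mul_one]
      rw [this]; exact mul_mem (hsg r) (hall m)
  haveI : IsClosedImmersion (Spec.map ψ) := IsClosedImmersion.spec_of_surjective _ hsurj
  rw [show pullback.lift (P.h ≫ i).left (Spec.map (CommRingCat.ofHom (MonoidAlgebra.singleOneRingHom : D →+* P.A)))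
    (Over.w (P.h ≫ i)) = Spec.map ψ ≫ X.isoSpec.inv from by rw [hψ, Category.assoc, Iso.hom_inv_id, Category.comp_id]]
  infer_instance

omit i in
/-- A piece gives a cartesian square. -/
lemma piece_cart : IsPullback P.h.left (Spec.map (CommRingCat.ofHom (MonoidAlgebra.singleOneRingHom : D →+* P.A))) H.hom P.t := by
  let sg : D →+* P.A := MonoidAlgebra.singleOneRingHom
  obtain ⟨B', u, β, hpb, -⟩ := H8MultType.exists_piece H P.q P.M P.φ (CommRingCat.of D) P.w
  let X := pullback H.hom P.t
  haveI : IsAffine X := IsAffine.of_isIso (hpb.isoPullback).inv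
  let l : Spec (CommRingCat.of P.A) ⟶ X := pullback.lift P.h.left (Spec.map (CommRingCat.ofHom sg)) (Over.w P.h)
  obtain ⟨k, hk⟩ : ∃ k : CommRingCat.of D ⟶ Γ(X, ⊤), Spec.map k = X.isoSpec.inv ≫ pullback.snd _ _ := ⟨_, Spec.map_preimage _⟩
  let x : Over.mk (Spec.map (CommRingCat.ofHom k.hom) ≫ P.t) ⟶ H := Over.homMk (X.isoSpec.inv ≫ pullback.fst _ _) (by
    show (X.isoSpec.inv ≫ pullback.fst _ _) ≫ H.hom = Spec.map _ ≫ P.t
    rw [CommRingCat.ofHom_hom, hk, Category.assoc, Category.assoc, pullback.condition])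
  obtain ⟨χ, hχ⟩ := (pt P k.hom (t' := Spec.map (CommRingCat.ofHom k.hom) ≫ P.t) rfl).surjective x
  let L : P.A →+* Γ(X, ⊤) := ext1 k.hom χ
  have hL : Spec.map (CommRingCat.ofHom L) ≫ P.tA = Spec.map (CommRingCat.ofHom k.hom) ≫ P.t := by
    rw [Piece.tA, ← Spec.map_comp_assoc, ← CommRingCat.ofHom_comp, ext1_comp_single]
  have hLh : res L hL ≫ P.h = x := by rw [P.res_h L k.hom hL rfl (ext1_comp_single _ _), ext1_comp_of, hχ]
  have h1 : Spec.map (CommRingCat.ofHom L) ≫ l = X.isoSpec.inv := by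
    apply pullback.hom_ext
    · rw [Category.assoc, pullback.lift_fst]
      exact congrArg Over.Hom.left hLh
    · rw [Category.assoc, pullback.lift_snd, ← Spec.map_comp, ← CommRingCat.ofHom_comp, ext1_comp_single, CommRingCat.ofHom_hom, hk]
  obtain ⟨b, hb⟩ : ∃ b : Γ(X, ⊤) ⟶ CommRingCat.of P.A, Spec.map b = l ≫ X.isoSpec.hom := ⟨_, Spec.map_preimage _⟩
  let F : P.A →+* P.A := b.hom.comp L
  have hbk : b.hom.comp k.hom = sg := by
    have : k ≫ b = CommRingCat.ofHom sg := by
      apply Spec.map_injective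
      rw [Spec.map_comp, hb, hk, Category.assoc, Iso.hom_inv_id_assoc, pullback.lift_snd]
    exact congrArg CommRingCat.Hom.hom this
  have hFs : F.comp sg = sg := by
    rw [RingHom.comp_assoc, ext1_comp_single]; exact hbk
  have hF : Spec.map (CommRingCat.ofHom F) ≫ P.tA = P.tA := by
    rw [Piece.tA, ← Spec.map_comp_assoc, ← CommRingCat.ofHom_comp, hFs]
  have hFh : res F hF ≫ P.h = P.h := Over.OverMorphism.ext (by
    show Spec.map (CommRingCat.ofHom F) ≫ P.h.left = P.h.left
    have e1 : Spec.map (CommRingCat.ofHom L) ≫ P.h.left = X.isoSpec.inv ≫ pullback.fst _ _ := congrArg Over.Hom.left hLh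
    rw [show CommRingCat.ofHom F = CommRingCat.ofHom L ≫ b from rfl, Spec.map_comp, Category.assoc, e1, hb, Category.assoc,
      Iso.hom_inv_id_assoc, pullback.lift_fst])
  have hFid : F = RingHom.id _ := by
    rw [P.res_h F sg hF rfl hFs] at hFh
    have := (pt P sg rfl).injective hFh
    exact MonoidAlgebra.ringHom_ext (fun d => RingHom.congr_fun hFs d) (fun m => DFunLike.congr_fun this m)
  have hcomp : l ≫ X.isoSpec.hom ≫ Spec.map (CommRingCat.ofHom L) = 𝟙 _ := by
    rw [← Category.assoc, ← hb, ← Spec.map_comp]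
    refine (congrArg Spec.map ?_).trans (Spec.map_id _)
    exact CommRingCat.hom_ext hFid
  haveI : IsIso l := ⟨X.isoSpec.hom ≫ Spec.map (CommRingCat.ofHom L), hcomp, by rw [Category.assoc, h1, Iso.hom_inv_id]⟩
  exact IsPullback.of_iso_pullback ⟨Over.w P.h⟩ (asIso l) (pullback.lift_fst _ _ _) (pullback.lift_snd _ _ _)

omit P in
include i in
theorem affine_base
    (hH : TwC.Locally (B R) TwC.Topology.fpqc (fun S' f => ∃ (M : Type) (_ : AddCommGroup M), Nonempty (Grp.mk (Red.bc f H) ≅ Grp.mk (Red.DS S' M)))) :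
    IsClosedImmersion i.left := by
  obtain ⟨idx, hidx, D', P', hf, hc⟩ := exists_cover hH
  haveI := hidx
  let Y : idx → Scheme.{u} := fun j => pullback G.hom (P' j).t
  let ρ : (∐ Y) ⟶ G.left := Sigma.desc fun j => pullback.fst G.hom (P' j).t
  haveI : IsAffine (∐ Y) := inferInstance
  haveI : Flat ρ := by
    refine (IsZariskiLocalAtSource.iff_of_openCover (sigmaOpenCover Y)).mpr fun j => ?_
    show Flat (Sigma.ι Y j ≫ ρ)
    rw [Sigma.ι_desc]
    haveI := hf j
    infer_instance
  haveI : Surjective ρ := ⟨fun g => by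
    obtain ⟨j, z, hz⟩ := hc (G.hom g)
    obtain ⟨w, hw, -⟩ := Scheme.Pullback.exists_preimage_pullback g z hz.symm
    exact ⟨Sigma.ι Y j w, by rw [← Scheme.Hom.comp_apply, Sigma.ι_desc, hw]⟩⟩
  haveI : QuasiCompact ρ := inferInstance
  refine MorphismProperty.of_pullback_fst_of_descendsAlong (P := @IsClosedImmersion)
    (Q := @Surjective ⊓ @Flat ⊓ @QuasiCompact) (f := ρ) ⟨⟨inferInstance, inferInstance⟩, inferInstance⟩ ?_
  refine (IsZariskiLocalAtTarget.iff_of_openCover (P := @IsClosedImmersion) (sigmaOpenCover Y)).mpr fun j => ?_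
  have h1 := (IsPullback.of_hasPullback (pullback.fst ρ i.left) (Sigma.ι Y j)).paste_horiz
    (IsPullback.of_hasPullback ρ i.left).flip
  rw [Sigma.ι_desc] at h1
  have h2 : IsPullback (P' j).h.left
      (pullback.lift ((P' j).h ≫ i).left (Spec.map (CommRingCat.ofHom (MonoidAlgebra.singleOneRingHom : D' j →+* (P' j).A))) (Over.w ((P' j).h ≫ i)))
      i.left (pullback.fst G.hom (P' j).t) := by
    refine IsPullback.of_bot ?_ (by rw [pullback.lift_fst]; rfl) (IsPullback.of_hasPullback G.hom (P' j).t)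
    rw [pullback.lift_snd, Over.w i]
    exact piece_cart (P' j)
  haveI := piece_closed (P' j) i
  show IsClosedImmersion (pullback.snd (pullback.fst ρ i.left) (Sigma.ι Y j))
  rw [← IsPullback.isoIsPullback_hom_snd _ _ h1 h2]
  infer_instance

end Groth.Agent.H8MultMonoClosed

end
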