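import Mathlib
import Groth.Prelude.Def_SGA3x
import Groth.Agent.Lib.H8MultHomExist
import Groth.Agent.Lib.H8ConjLift

/-!
# Conjugacy of subgroups of multiplicative type along nilpotent thickenings
-/

set_option autoImplicit false

universe u

open CategoryTheory Limits AlgebraicGeometry MonoidalCategory CartesianMonoidalCategory MonObj GrpObj

noncomputable section

namespace Groth.Agent.H8MultSubgroupConj

open H8ConjRigid H8MultHomExist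

variable {R : Type u} [CommRing R] {J : Ideal R} {G H H' : Over (B R)} [GrpObj G] [GrpObj H] [GrpObj H']

lemma mono_of_immersion {X Y : Over (B R)} (i : X ⟶ Y) [IsImmersion i.left] : Mono i := by
  haveI : Mono ((Over.forget _).map i) := inferInstanceAs (Mono i.left)
  exact (Over.forget _).mono_of_mono_map inferInstance

lemma exists_ψ (i : H ⟶ G) [IsMonHom i] (i' : H' ⟶ G) [IsMonHom i'] [Mono i'] (g₀ : XQ J ⟶ G)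
    (h0 : ∀ (X : Over (B R)) (p : X ⟶ XQ J) (h : X ⟶ H), ∃ h' : X ⟶ H', (p ≫ g₀) * (h ≫ i) * (p ≫ g₀)⁻¹ = h' ≫ i') :
    ∃ ψ : H ⊗ XQ J ⟶ H',
      (∀ (X : Over (B R)) (p : X ⟶ XQ J) (x : X ⟶ H), (lift x p ≫ ψ) ≫ i' = (p ≫ g₀) * (x ≫ i) * (p ≫ g₀)⁻¹) ∧
      ∀ (X : Over (B R)) (p : X ⟶ XQ J) (x y : X ⟶ H), lift (x * y) p ≫ ψ = (lift x p ≫ ψ) * (lift y p ≫ ψ) := by
  obtain ⟨ψ, hψ⟩ := h0 _ (snd H (XQ J)) (fst H (XQ J))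
  have h1 : ∀ (X : Over (B R)) (p : X ⟶ XQ J) (x : X ⟶ H),
      (lift x p ≫ ψ) ≫ i' = (p ≫ g₀) * (x ≫ i) * (p ≫ g₀)⁻¹ := fun X p x => by
    rw [Category.assoc, ← hψ]
    simp only [MonObj.comp_mul, GrpObj.comp_inv, lift_fst_assoc, lift_snd_assoc]
  refine ⟨ψ, h1, fun X p x y => ?_⟩
  rw [← cancel_mono i', MonObj.mul_comp, h1, h1, h1, MonObj.mul_comp]
  group

/-- Conjugation modulo the ideal lifts to an isomorphism of the subgroups. -/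
theorem exists_iso (hJ : IsNilpotent J)
    (hH : TwC.Locally (B R) TwC.Topology.fpqc (fun S' f => ∃ (M : Type) (_ : AddCommGroup M), Nonempty (Grp.mk (Red.bc f H) ≅ Grp.mk (Red.DS S' M))))
    (hH' : TwC.Locally (B R) TwC.Topology.fpqc (fun S' f => ∃ (M : Type) (_ : AddCommGroup M), Nonempty (Grp.mk (Red.bc f H') ≅ Grp.mk (Red.DS S' M))))
    (i : H ⟶ G) [IsMonHom i] [Mono i] (i' : H' ⟶ G) [IsMonHom i'] [Mono i'] (g₀ : XQ J ⟶ G)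
    (h0 : ∀ (X : Over (B R)) (p : X ⟶ XQ J),
      (∀ h : X ⟶ H, ∃ h' : X ⟶ H', (p ≫ g₀) * (h ≫ i) * (p ≫ g₀)⁻¹ = h' ≫ i') ∧
      (∀ h' : X ⟶ H', ∃ h : X ⟶ H, (p ≫ g₀)⁻¹ * (h' ≫ i') * (p ≫ g₀) = h ≫ i)) :
    ∃ φ : H ≅ H', IsMonHom φ.hom ∧
      ∀ (X : Over (B R)) (p : X ⟶ XQ J) (h : X ⟶ H), h ≫ φ.hom ≫ i' = (p ≫ g₀) * (h ≫ i) * (p ≫ g₀)⁻¹ := by
  obtain ⟨ψ, hψi, hψm⟩ := exists_ψ i i' g₀ (fun X p h => (h0 X p).1 h)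
  have hinv : ∀ (X : Over (B R)) (p : X ⟶ XQ J), (p ≫ g₀⁻¹)⁻¹ = p ≫ g₀ := fun X p => by
    rw [GrpObj.comp_inv, _root_.inv_inv]
  obtain ⟨ψ', hψi', hψm'⟩ := exists_ψ i' i g₀⁻¹ (fun X p h => by
    obtain ⟨h', e⟩ := (h0 X p).2 h
    exact ⟨h', by rw [hinv, GrpObj.comp_inv]; exact e⟩)
  obtain ⟨φ, hφ, hφψ⟩ := exists_hom hJ hH hH' ψ hψm
  obtain ⟨φ', hφ', hφψ'⟩ := exists_hom hJ hH' hH ψ' hψm'
  haveI := hφ; haveI := hφ'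
  have e1 : φ ≫ φ' = 𝟙 H := hom_eq hJ hH hH _ _ fun X p x => by
    rw [← cancel_mono i, ← Category.assoc x φ φ', hφψ' X p (x ≫ φ), hψi', hφψ X p x, hψi, hinv, GrpObj.comp_inv,
      Category.comp_id]
    group
  have e2 : φ' ≫ φ = 𝟙 H' := hom_eq hJ hH' hH' _ _ fun X p x => by
    rw [← cancel_mono i', ← Category.assoc x φ' φ, hφψ X p (x ≫ φ'), hψi, hφψ' X p x, hψi', hinv, GrpObj.comp_inv,
      Category.comp_id]
    group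
  exact ⟨⟨φ, φ', e1, e2⟩, hφ, fun X p h => by rw [← Category.assoc, hφψ X p h, hψi]⟩

/-- The bundled iso over the closed subscheme, on points. -/
lemma of_bcIso (i : H ⟶ G) (i' : H' ⟶ G)
    (ψ : Red.bc (Spec.map (CommRingCat.ofHom (Ideal.Quotient.mk J))) H ≅ Red.bc (Spec.map (CommRingCat.ofHom (Ideal.Quotient.mk J))) H')
    (hψ : ψ.hom ≫ (Over.pullback (Spec.map (CommRingCat.ofHom (Ideal.Quotient.mk J)))).map i' =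
      (Over.pullback (Spec.map (CommRingCat.ofHom (Ideal.Quotient.mk J)))).map i)
    (X : Over (B R)) (p : X ⟶ XQ J) :
    (∀ h : X ⟶ H, ∃ h' : X ⟶ H', (p ≫ (1 : XQ J ⟶ G)) * (h ≫ i) * (p ≫ (1 : XQ J ⟶ G))⁻¹ = h' ≫ i') ∧
      (∀ h' : X ⟶ H', ∃ h : X ⟶ H, (p ≫ (1 : XQ J ⟶ G))⁻¹ * (h' ≫ i') * (p ≫ (1 : XQ J ⟶ G)) = h ≫ i) := by
  simp only [MonObj.comp_one, inv_one, _root_.mul_one, _root_.one_mul]
  let b := Spec.map (CommRingCat.ofHom (Ideal.Quotient.mk J))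
  let X'' : Over (Spec (CommRingCat.of (R ⧸ J))) := Over.mk p.left
  let m1 : (Over.map b).obj X'' ⟶ X := Over.homMk (𝟙 _) (by
    show 𝟙 _ ≫ X.hom = p.left ≫ b
    rw [Category.id_comp]
    exact (Over.w p).symm)
  let m2 : X ⟶ (Over.map b).obj X'' := Over.homMk (𝟙 _) (by
    show 𝟙 _ ≫ p.left ≫ b = X.hom
    rw [Category.id_comp]
    exact Over.w p)
  have hm : m2 ≫ m1 = 𝟙 X := Over.OverMorphism.ext (Category.id_comp _)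
  have key : ∀ {K K' : Over (B R)} (a : K ⟶ G) (a' : K' ⟶ G) (θ : Red.bc b K ⟶ Red.bc b K'),
      θ ≫ (Over.pullback b).map a' = (Over.pullback b).map a → ∀ h : X ⟶ K, ∃ h' : X ⟶ K', h ≫ a = h' ≫ a' := by
    intro K K' a a' θ hθ h
    let e := (Over.mapPullbackAdj b).homEquiv X''
    refine ⟨m2 ≫ (e K').symm (e K (m1 ≫ h) ≫ θ), ?_⟩
    rw [Category.assoc]
    show h ≫ a = m2 ≫ (e K').symm (e K (m1 ≫ h) ≫ θ) ≫ a'
    rw [← (Over.mapPullbackAdj b).homEquiv_naturality_right_symm, Category.assoc, hθ,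
      (Over.mapPullbackAdj b).homEquiv_naturality_right_symm, Equiv.symm_apply_apply, ← Category.assoc, ← Category.assoc,
      hm, Category.id_comp]
  exact ⟨key i i' ψ.hom hψ, key i' i ψ.inv (by rw [← hψ, Iso.inv_hom_id_assoc])⟩

theorem conj_lifts (hJ : IsNilpotent J) [Smooth G.hom]
    (hH : TwC.Locally (B R) TwC.Topology.fpqc (fun S' f => ∃ (M : Type) (_ : AddCommGroup M), Nonempty (Grp.mk (Red.bc f H) ≅ Grp.mk (Red.DS S' M))))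
    (hH' : TwC.Locally (B R) TwC.Topology.fpqc (fun S' f => ∃ (M : Type) (_ : AddCommGroup M), Nonempty (Grp.mk (Red.bc f H') ≅ Grp.mk (Red.DS S' M))))
    (i : H ⟶ G) [IsMonHom i] [Mono i] (i' : H' ⟶ G) [IsMonHom i'] [Mono i'] (g₀ : XQ J ⟶ G)
    (h0 : ∀ (X : Over (B R)) (p : X ⟶ XQ J),
      (∀ h : X ⟶ H, ∃ h' : X ⟶ H', (p ≫ g₀) * (h ≫ i) * (p ≫ g₀)⁻¹ = h' ≫ i') ∧
      (∀ h' : X ⟶ H', ∃ h : X ⟶ H, (p ≫ g₀)⁻¹ * (h' ≫ i') * (p ≫ g₀) = h ≫ i)) :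
    ∃ g : 𝟙_ (Over (B R)) ⟶ G, toUnit (XQ J) ≫ g = g₀ ∧ ∃ φ : H ≅ H',
      ∀ (X : Over (B R)) (h : X ⟶ H), (toUnit X ≫ g) * (h ≫ i) * (toUnit X ≫ g)⁻¹ = h ≫ φ.hom ≫ i' := by
  obtain ⟨φ, hφ, hφi⟩ := exists_iso hJ hH hH' i i' g₀ h0
  haveI := hφ
  obtain ⟨g, hg, hgu⟩ := H8ConjLift.result J hJ H G hH i (φ.hom ≫ i') g₀ hφi
  exact ⟨g, hg, φ, fun X h => (hgu X h).symm⟩

theorem conj_sq (hJ : J ^ 2 = ⊥)
    (hH : TwC.Locally (B R) TwC.Topology.fpqc (fun S' f => ∃ (M : Type) (_ : AddCommGroup M), Nonempty (Grp.mk (Red.bc f H) ≅ Grp.mk (Red.DS S' M))))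
    (hH' : TwC.Locally (B R) TwC.Topology.fpqc (fun S' f => ∃ (M : Type) (_ : AddCommGroup M), Nonempty (Grp.mk (Red.bc f H') ≅ Grp.mk (Red.DS S' M))))
    (i : H ⟶ G) [IsMonHom i] [Mono i] (i' : H' ⟶ G) [IsMonHom i'] [Mono i']
    (h0 : ∀ (X : Over (B R)) (p : X ⟶ XQ J),
      (∀ h : X ⟶ H, ∃ h' : X ⟶ H', (p ≫ (1 : XQ J ⟶ G)) * (h ≫ i) * (p ≫ (1 : XQ J ⟶ G))⁻¹ = h' ≫ i') ∧
      (∀ h' : X ⟶ H', ∃ h : X ⟶ H, (p ≫ (1 : XQ J ⟶ G))⁻¹ * (h' ≫ i') * (p ≫ (1 : XQ J ⟶ G)) = h ≫ i)) :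
    ∃ g : 𝟙_ (Over (B R)) ⟶ G, toUnit (XQ J) ≫ g = 1 ∧ SGA3x.ConjBy i i' g := by
  obtain ⟨φ, hφ, hφi⟩ := exists_iso ⟨2, hJ⟩ hH hH' i i' 1 h0
  haveI := hφ
  obtain ⟨g, hg, hgu⟩ := H8ConjRigid.result J i (φ.hom ≫ i') hJ (fun X p h => by
    rw [hφi X p h, MonObj.comp_one, inv_one, _root_.mul_one, _root_.one_mul]) hH
  refine ⟨g, hg, φ, ?_⟩
  simpa only [Category.id_comp] using (hgu H (𝟙 H)).symm

theorem central_eq (hJ : IsNilpotent J)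
    (hH : TwC.Locally (B R) TwC.Topology.fpqc (fun S' f => ∃ (M : Type) (_ : AddCommGroup M), Nonempty (Grp.mk (Red.bc f H) ≅ Grp.mk (Red.DS S' M))))
    (hH' : TwC.Locally (B R) TwC.Topology.fpqc (fun S' f => ∃ (M : Type) (_ : AddCommGroup M), Nonempty (Grp.mk (Red.bc f H') ≅ Grp.mk (Red.DS S' M))))
    (i : H ⟶ G) [IsMonHom i] [Mono i] (i' : H' ⟶ G) [IsMonHom i'] [Mono i']
    (hc : ∀ (X : Over (B R)) (g : X ⟶ G) (h : X ⟶ H), g * (h ≫ i) = (h ≫ i) * g)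
    (h0 : ∀ (X : Over (B R)) (p : X ⟶ XQ J),
      (∀ h : X ⟶ H, ∃ h' : X ⟶ H', (p ≫ (1 : XQ J ⟶ G)) * (h ≫ i) * (p ≫ (1 : XQ J ⟶ G))⁻¹ = h' ≫ i') ∧
      (∀ h' : X ⟶ H', ∃ h : X ⟶ H, (p ≫ (1 : XQ J ⟶ G))⁻¹ * (h' ≫ i') * (p ≫ (1 : XQ J ⟶ G)) = h ≫ i)) :
    ∃ φ : H ≅ H', φ.hom ≫ i' = i := by
  obtain ⟨φ, hφ, hφi⟩ := exists_iso hJ hH hH' i i' 1 h0
  haveI := hφ
  refine ⟨φ, ?_⟩
  have main : ∀ m (X : Over (B R)) (p : X ⟶ XQ (J ^ 2 ^ m)) (h : X ⟶ H), h ≫ φ.hom ≫ i' = h ≫ i := by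
    intro m
    induction m with
    | zero =>
      intro X p h
      rw [hφi X (p ≫ H8ConjLift.incl (show J ≤ J ^ 2 ^ 0 by simp)) h, MonObj.comp_one, inv_one, _root_.mul_one,
        _root_.one_mul]
    | succ m ih =>
      obtain ⟨g, -, hg⟩ := result_rel (J ^ 2 ^ m) i (φ.hom ≫ i') (J ^ 2 ^ (m + 1)) (by rw [← pow_mul, ← pow_succ])
        (fun X p h => (ih X p h).symm) hH
      intro X p h
      rw [hg X p h, hc, mul_inv_cancel_right]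
  obtain ⟨n, hn⟩ := hJ
  have hbot : J ^ 2 ^ n ≤ ⊥ := (Ideal.pow_le_pow_right (Nat.lt_two_pow_self.le)).trans hn.le
  let r : R ⧸ J ^ 2 ^ n →+* R := Ideal.Quotient.lift _ (RingHom.id R) fun a ha => hbot ha
  let e : 𝟙_ (Over (B R)) ⟶ XQ (J ^ 2 ^ n) := Over.homMk (Spec.map (CommRingCat.ofHom r)) (by
    show Spec.map _ ≫ Spec.map _ = 𝟙 _
    rw [← Spec.map_comp]
    refine (congrArg Spec.map ?_).trans (Spec.map_id _)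
    exact CommRingCat.hom_ext (RingHom.ext fun a => rfl))
  simpa only [Category.id_comp] using main n H (toUnit H ≫ e) (𝟙 H)

end Groth.Agent.H8MultSubgroupConj

end
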