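import Mathlib
import Groth.Prelude.Def_SGA3x
import Groth.Prelude.Def_Red2
import Groth.Agent.Lib.H8EssFree
import Groth.Agent.Lib.H8MultType
import Groth.Agent.Lib.H8ConjLift
import Groth.Agent.Lib.H8CentralDescent
import Groth.Agent.Lib.H8SubGrp
import Groth.Agent.S1488

/-!
# Transporters of homomorphisms from groups of multiplicative type are smooth
-/

set_option autoImplicit false

universe u

open CategoryTheory Limits AlgebraicGeometry MonoidalCategory CartesianMonoidalCategory MonObj GrpObj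

noncomputable section

namespace Groth.Agent.H8MultTransporter

open H8ConjRigid

set_option maxHeartbeats 1000000 in
set_option backward.isDefEq.respectTransparency false in
theorem transporter {S : Scheme.{u}} (H G : Over S) [GrpObj H] [GrpObj G]
    (hH : SGA3x.IsMultTypeFT H) (hG : Smooth G.hom) (hGa : IsAffineHom G.hom) (u₁ u₂ : H ⟶ G) [IsMonHom u₁] [IsMonHom u₂] :
    ∃ (T : Over S) (j : T ⟶ G), IsClosedImmersion j.left ∧ Smooth T.hom ∧
      ∀ (X : Over S) (g : X ⟶ G), (∃ t : X ⟶ T, t ≫ j = g) ↔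
        ∀ (X' : Over S) (x : X' ⟶ X) (h : X' ⟶ H), (x ≫ g) * (h ≫ u₁) * (x ≫ g)⁻¹ = h ≫ u₂ := by
  haveI := hG; haveI := hGa
  obtain ⟨hff, hqc⟩ := H8MultType.locFF_and_quasiCompact H hH
  obtain ⟨T, j, hj, hT', hfp⟩ := H8EssFree.exists_locus (X := G) (Z := G) hff
    (fst G H * (snd G H ≫ u₁)) ((snd G H ≫ u₂) * fst G H)
  have hT : ∀ (X : Over S) (g : X ⟶ G), (∃ t : X ⟶ T, t ≫ j = g) ↔
      ∀ (X' : Over S) (x : X' ⟶ X) (h : X' ⟶ H), (x ≫ g) * (h ≫ u₁) * (x ≫ g)⁻¹ = h ≫ u₂ := by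
    intro X g
    rw [← hT' X g]
    simp only [MonObj.comp_mul, lift_fst, lift_snd_assoc, mul_inv_eq_iff_eq_mul]
  haveI := hfp hqc inferInstance
  haveI : LocallyOfFinitePresentation T.hom := by rw [← Over.w j]; infer_instance
  refine ⟨T, j, hj, (Groth.Agent.S1488.result T.hom).mpr ⟨inferInstance, fun A _ I hI a b hab => ?_⟩, hT⟩
  let H' := Red.bc b H
  let G' := Red.bc b G
  haveI : Smooth G'.hom := MorphismProperty.pullback_snd (P := @Smooth) _ _ hG
  let eH := fun X : Over (Spec (CommRingCat.of A)) => H8DiagRigid.adjEquiv b H X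
  let eG := fun X : Over (Spec (CommRingCat.of A)) => H8DiagRigid.adjEquiv b G X
  have hu : ∀ (X : Over (Spec (CommRingCat.of A))) (h : X ⟶ H') (u : H ⟶ G),
      (eG X).symm (h ≫ (Over.pullback b).map u) = (eH X).symm h ≫ u := fun X h u =>
    (Over.mapPullbackAdj b).homEquiv_naturality_right_symm h u
  obtain ⟨S', f, hf, hfs, hqc', htriv⟩ := H8CentralDescent.isMultTypeFT_bc b hH
  have hH' : TwC.Locally (Spec (CommRingCat.of A)) TwC.Topology.fpqc
      (fun S' f => ∃ (M : Type) (_ : AddCommGroup M), Nonempty (Grp.mk (Red.bc f H') ≅ Grp.mk (Red.DS S' M))) :=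
    ⟨S', f, hf, hfs, hqc', fun s' => by
      obtain ⟨U, hU, M, iM, -, φ⟩ := htriv s'
      exact ⟨U, hU, M, iM, φ⟩⟩
  let tX : (Over.map b).obj (XQ I) ⟶ T := Over.homMk a hab.symm
  let g₀ : XQ I ⟶ G' := eG (XQ I) (tX ≫ j)
  have hnat : ∀ {X : Over (Spec (CommRingCat.of A))} {Y : Over (Spec (CommRingCat.of A))} (m : X ⟶ Y) (x : Y ⟶ G'),
      (eG X).symm (m ≫ x) = (Over.map b).map m ≫ (eG Y).symm x := fun m x =>
    (Over.mapPullbackAdj b).homEquiv_naturality_left_symm m x
  obtain ⟨g, hg0, hg⟩ := H8ConjLift.result I ⟨2, hI⟩ H' G' hH'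
    ((Over.pullback b).map u₁) ((Over.pullback b).map u₂) g₀ (fun X p h => by
      apply (eG X).symm.injective
      rw [map_mul, map_mul, map_inv, hu, hu, hnat, MulEquiv.symm_apply_apply]
      exact ((hT _ (tX ≫ j)).mp ⟨tX, rfl⟩ _ ((Over.map b).map p) _).symm)
  let O : Over S := Over.mk b
  let m : O ⟶ (Over.map b).obj (𝟙_ (Over (Spec (CommRingCat.of A)))) := Over.homMk (𝟙 _) (by
    show 𝟙 _ ≫ 𝟙 _ ≫ b = b
    rw [Category.id_comp, Category.id_comp])
  let gO : O ⟶ G := m ≫ (eG _).symm g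
  obtain ⟨t, ht⟩ := (hT O gO).mpr fun X' x h => by
    let X'' : Over (Spec (CommRingCat.of A)) := Over.mk x.left
    let m1 : (Over.map b).obj X'' ⟶ X' := Over.homMk (𝟙 _) (by
      show 𝟙 _ ≫ X'.hom = x.left ≫ b
      rw [Category.id_comp]
      exact (Over.w x).symm)
    let m2 : X' ⟶ (Over.map b).obj X'' := Over.homMk (𝟙 _) (by
      show 𝟙 _ ≫ x.left ≫ b = X'.hom
      rw [Category.id_comp]
      exact Over.w x)
    have hm : m2 ≫ m1 = 𝟙 X' := Over.OverMorphism.ext (Category.id_comp _)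
    have h1 := congrArg (eG X'').symm (hg X'' (eH X'' (m1 ≫ h)))
    rw [map_mul, map_mul, map_inv, hu, hu, MulEquiv.symm_apply_apply, hnat] at h1
    have e : (Over.map b).map (toUnit X'') ≫ (eG _).symm g = m1 ≫ x ≫ gO := by
      have : (Over.map b).map (toUnit X'') = m1 ≫ x ≫ m := Over.OverMorphism.ext (by
        show (toUnit X'').left = 𝟙 _ ≫ x.left ≫ 𝟙 _
        rw [Category.id_comp]
        exact ((Category.comp_id _).symm.trans (Over.w (toUnit X''))).trans (Category.comp_id _).symm)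
      rw [this]
      simp only [gO, Category.assoc]
    rw [e] at h1
    have h2 := congrArg (m2 ≫ ·) h1
    simp only [MonObj.comp_mul, GrpObj.comp_inv, ← Category.assoc, hm, Category.id_comp] at h2
    exact h2.symm
  refine ⟨t.left, ?_, Over.w t⟩
  apply (cancel_mono j.left).mp
  rw [Category.assoc, show t.left ≫ j.left = gO.left from congrArg CommaMorphism.left ht]
  have e0 : (Over.map b).map (toUnit (XQ I)) ≫ (eG _).symm g = tX ≫ j := by
    rw [← hnat, hg0, MulEquiv.symm_apply_apply]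
  have e1 := congrArg CommaMorphism.left e0
  refine Eq.trans ?_ e1
  show _ ≫ 𝟙 _ ≫ ((eG _).symm g).left = (toUnit (XQ I)).left ≫ ((eG _).symm g).left
  rw [Category.id_comp]
  refine congrArg (· ≫ ((eG _).symm g).left) ?_
  exact ((Category.comp_id _).symm.trans (Over.w (toUnit (XQ I)))).symm

set_option backward.isDefEq.respectTransparency false in
theorem centralizer {S : Scheme.{u}} (H G : Over S) [GrpObj H] [GrpObj G]
    (hH : SGA3x.IsMultTypeFT H) (hG : Smooth G.hom) (hGa : IsAffineHom G.hom) (u : H ⟶ G) [IsMonHom u] :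
    ∃ (Z : Over S) (_ : GrpObj Z) (j : Z ⟶ G), Red.IsCentralizerOf u j ∧ IsClosedImmersion j.left ∧ Smooth Z.hom := by
  obtain ⟨T, j, hj, hsm, hT⟩ := transporter H G hH hG hGa u u
  haveI := hj
  haveI : Mono ((Over.forget S).map j) := inferInstanceAs (Mono j.left)
  haveI : Mono j := (Over.forget S).mono_of_mono_map inferInstance
  have key : ∀ (X : Over S) (g : X ⟶ G), (∃ z : X ⟶ T, z ≫ j = g) ↔
      ∀ (X' : Over S) (x : X' ⟶ X) (h : X' ⟶ H), (x ≫ g) * (h ≫ u) = (h ≫ u) * (x ≫ g) := fun X g => by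
    rw [hT X g]
    simp only [mul_inv_eq_iff_eq_mul]
  let Sub : ∀ X : Over S, Subgroup (X ⟶ G) := fun X =>
    { carrier := {g | ∀ (X' : Over S) (x : X' ⟶ X) (h : X' ⟶ H), (x ≫ g) * (h ≫ u) = (h ≫ u) * (x ≫ g)}
      one_mem' := fun X' x h => by simp [MonObj.comp_one]
      mul_mem' := fun {a b} ha hb X' x h => by
        rw [MonObj.comp_mul]
        exact Commute.mul_left (ha X' x h) (hb X' x h)
      inv_mem' := fun {a} ha X' x h => by
        rw [GrpObj.comp_inv]
        exact Commute.inv_left (ha X' x h) }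
  obtain ⟨inst, hhom⟩ := H8SubGrp.exists_grpObj j Sub fun X g => key X g
  exact ⟨T, inst, j, ⟨hhom, inferInstance, key⟩, hj, hsm⟩

end Groth.Agent.H8MultTransporter

end
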