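import Mathlib
import Groth.Prelude.Def_SGA3x
import Groth.Prelude.Def_Red2
import Groth.Agent.Lib.H8MultMonoClosed
import Groth.Agent.Lib.H8MultSubgroupConj
import Groth.Agent.Lib.H8MultTransporter

/-!
# Transporters and normalisers of subgroups of multiplicative type are smooth
-/

set_option autoImplicit false

universe u

open CategoryTheory Limits AlgebraicGeometry MonoidalCategory CartesianMonoidalCategory MonObj GrpObj

noncomputable section

namespace Groth.Agent.H8MultSubTransporter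

open H8ConjRigid

lemma locally_of_ft {S : Scheme.{u}} {H : Over S} [GrpObj H] (hH : SGA3x.IsMultTypeFT H) :
    TwC.Locally S TwC.Topology.fpqc (fun S' f => ∃ (M : Type) (_ : AddCommGroup M), Nonempty (Grp.mk (Red.bc f H) ≅ Grp.mk (Red.DS S' M))) := by
  obtain ⟨S', f, hf, hfs, hqc', htriv⟩ := hH
  exact ⟨S', f, hf, hfs, hqc', fun s' => by
    obtain ⟨U, hU, M, iM, -, φ⟩ := htriv s'
    exact ⟨U, hU, M, iM, φ⟩⟩

lemma mono_map {S S' : Scheme.{u}} (b : S' ⟶ S) {H G : Over S} (i : H ⟶ G) [Mono i] : Mono ((Over.pullback b).map i) := by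
  haveI := (Over.mapPullbackAdj b).rightAdjoint_preservesLimits
  infer_instance

set_option backward.isDefEq.respectTransparency false in
theorem closed {S : Scheme.{u}} {H G : Over S} [GrpObj H] [GrpObj G] (hH : SGA3x.IsMultTypeFT H)
    [IsAffineHom G.hom] (i : H ⟶ G) [IsMonHom i] [Mono i] : IsClosedImmersion i.left := by
  refine (IsZariskiLocalAtTarget.iff_of_openCover (P := @IsClosedImmersion) (S.affineOpenCover.openCover.pullback₁ G.hom)).mpr fun n => ?_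
  let b : Spec (CommRingCat.of (S.affineOpenCover.X n)) ⟶ S := S.affineOpenCover.f n
  haveI : IsAffineHom (pullback.snd G.hom b) := MorphismProperty.pullback_snd (P := @IsAffineHom) _ _ inferInstance
  haveI : IsAffine (Red.bc b G).left := isAffine_of_isAffineHom (pullback.snd G.hom b)
  haveI := mono_map b i
  haveI hc : IsClosedImmersion ((Over.pullback b).map i).left :=
    H8MultMonoClosed.affine_base ((Over.pullback b).map i) (locally_of_ft (H8CentralDescent.isMultTypeFT_bc b hH))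
  have h0 : IsPullback (pullback.fst H.hom b) ((Over.pullback b).map i).left i.left (pullback.fst G.hom b) := by
    refine IsPullback.of_bot ?_ (pullback.lift_fst _ _ _).symm (IsPullback.of_hasPullback G.hom b)
    rw [show ((Over.pullback b).map i).left ≫ pullback.snd G.hom b = pullback.snd H.hom b from pullback.lift_snd _ _ _,
      Over.w i]
    exact IsPullback.of_hasPullback H.hom b
  show IsClosedImmersion (pullback.snd i.left (pullback.fst G.hom b))
  rw [← IsPullback.isoIsPullback_hom_snd _ _ (IsPullback.of_hasPullback _ _) h0]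
  infer_instance

set_option maxHeartbeats 1000000 in
set_option backward.isDefEq.respectTransparency false in
theorem transporter {S : Scheme.{u}} (H₁ H₂ G : Over S) [GrpObj H₁] [GrpObj H₂] [GrpObj G]
    (hH₁ : SGA3x.IsMultTypeFT H₁) (hH₂ : SGA3x.IsMultTypeFT H₂) (hG : Smooth G.hom) (hGa : IsAffineHom G.hom)
    (i₁ : H₁ ⟶ G) [IsMonHom i₁] [Mono i₁] (i₂ : H₂ ⟶ G) [IsMonHom i₂] [Mono i₂] :
    ∃ (T : Over S) (j : T ⟶ G), IsClosedImmersion j.left ∧ Smooth T.hom ∧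
      ∀ (X : Over S) (g : X ⟶ G), (∃ t : X ⟶ T, t ≫ j = g) ↔
        ∀ (X' : Over S) (x : X' ⟶ X),
          (∀ h₁ : X' ⟶ H₁, ∃ h₂ : X' ⟶ H₂, (x ≫ g) * (h₁ ≫ i₁) * (x ≫ g)⁻¹ = h₂ ≫ i₂) ∧
          (∀ h₂ : X' ⟶ H₂, ∃ h₁ : X' ⟶ H₁, (x ≫ g)⁻¹ * (h₂ ≫ i₂) * (x ≫ g) = h₁ ≫ i₁) := by
  haveI := hG; haveI := hGa
  obtain ⟨hff₁, hqc₁⟩ := H8MultType.locFF_and_quasiCompact H₁ hH₁
  obtain ⟨hff₂, hqc₂⟩ := H8MultType.locFF_and_quasiCompact H₂ hH₂
  haveI := closed hH₁ i₁
  haveI := closed hH₂ i₂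
  haveI := H8MultLFT.lfp hH₁
  haveI := H8MultLFT.lfp hH₂
  have hl₁ : LocallyOfFinitePresentation i₁.left :=
    H8Transporter.lfp_of_comp (g := G.hom) (by rw [Over.w i₁]; infer_instance) inferInstance
  have hl₂ : LocallyOfFinitePresentation i₂.left :=
    H8Transporter.lfp_of_comp (g := G.hom) (by rw [Over.w i₂]; infer_instance) inferInstance
  obtain ⟨C, c, hc, hC, hfp⟩ := H8EssFree.exists_transporter (X := G) hff₁
    (fst G H₁ * (snd G H₁ ≫ i₁) * (fst G H₁)⁻¹) i₂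
  obtain ⟨T, k, hk, hK, hfp'⟩ := H8EssFree.exists_transporter (X := C) hff₂
    ((fst C H₂ ≫ c)⁻¹ * (snd C H₂ ≫ i₂) * (fst C H₂ ≫ c)) i₁
  let j : T ⟶ G := k ≫ c
  haveI := hc; haveI := hk
  haveI : IsClosedImmersion j.left := inferInstanceAs (IsClosedImmersion (k.left ≫ c.left))
  have hT : ∀ (X : Over S) (g : X ⟶ G), (∃ t : X ⟶ T, t ≫ j = g) ↔
        ∀ (X' : Over S) (x : X' ⟶ X),
          (∀ h₁ : X' ⟶ H₁, ∃ h₂ : X' ⟶ H₂, (x ≫ g) * (h₁ ≫ i₁) * (x ≫ g)⁻¹ = h₂ ≫ i₂) ∧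
          (∀ h₂ : X' ⟶ H₂, ∃ h₁ : X' ⟶ H₁, (x ≫ g)⁻¹ * (h₂ ≫ i₂) * (x ≫ g) = h₁ ≫ i₁) := by
    intro X g
    constructor
    · rintro ⟨t, rfl⟩ X' x
      refine ⟨fun h => ?_, fun h => ?_⟩
      · obtain ⟨w, hw⟩ := (hC X (t ≫ j)).mpr ⟨t ≫ k, Category.assoc _ _ _⟩ X' x h
        refine ⟨w, ?_⟩
        simpa only [MonObj.comp_mul, GrpObj.comp_inv, lift_fst, lift_snd_assoc] using hw
      · obtain ⟨w, hw⟩ := (hK X (t ≫ k)).mpr ⟨t, rfl⟩ X' x h
        refine ⟨w, ?_⟩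
        simpa only [MonObj.comp_mul, GrpObj.comp_inv, lift_fst_assoc, lift_snd_assoc, j, Category.assoc] using hw
    · intro hg
      obtain ⟨z, rfl⟩ := (hC X g).mp fun X' x h => by
        obtain ⟨w, hw⟩ := (hg X' x).1 h
        exact ⟨w, by simpa only [MonObj.comp_mul, GrpObj.comp_inv, lift_fst, lift_snd_assoc] using hw⟩
      obtain ⟨t, rfl⟩ := (hK X z).mp fun X' x h => by
        obtain ⟨w, hw⟩ := (hg X' x).2 h
        exact ⟨w, by simpa only [MonObj.comp_mul, GrpObj.comp_inv, lift_fst_assoc, lift_snd_assoc, Category.assoc] using hw⟩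
      exact ⟨t, (Category.assoc _ _ _).symm⟩
  haveI : LocallyOfFinitePresentation c.left := hfp hqc₁ hl₂
  haveI : LocallyOfFinitePresentation k.left := hfp' hqc₂ hl₁
  haveI : LocallyOfFinitePresentation T.hom := by
    rw [← Over.w j]
    exact inferInstanceAs (LocallyOfFinitePresentation ((k.left ≫ c.left) ≫ G.hom))
  refine ⟨T, j, inferInstance, (Groth.Agent.S1488.result T.hom).mpr ⟨inferInstance, fun A _ I hI a b hab => ?_⟩, hT⟩
  let G' := Red.bc b G
  haveI : Smooth G'.hom := MorphismProperty.pullback_snd (P := @Smooth) _ _ hG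
  haveI := mono_map b i₁
  haveI := mono_map b i₂
  let e₁ := fun X : Over (Spec (CommRingCat.of A)) => H8DiagRigid.adjEquiv b H₁ X
  let e₂ := fun X : Over (Spec (CommRingCat.of A)) => H8DiagRigid.adjEquiv b H₂ X
  let eG := fun X : Over (Spec (CommRingCat.of A)) => H8DiagRigid.adjEquiv b G X
  have hu₁ : ∀ (X : Over (Spec (CommRingCat.of A))) (h : X ⟶ Red.bc b H₁),
      (eG X).symm (h ≫ (Over.pullback b).map i₁) = (e₁ X).symm h ≫ i₁ := fun X h =>
    (Over.mapPullbackAdj b).homEquiv_naturality_right_symm h i₁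
  have hu₂ : ∀ (X : Over (Spec (CommRingCat.of A))) (h : X ⟶ Red.bc b H₂),
      (eG X).symm (h ≫ (Over.pullback b).map i₂) = (e₂ X).symm h ≫ i₂ := fun X h =>
    (Over.mapPullbackAdj b).homEquiv_naturality_right_symm h i₂
  have hnat : ∀ {X : Over (Spec (CommRingCat.of A))} {Y : Over (Spec (CommRingCat.of A))} (m : X ⟶ Y) (x : Y ⟶ G'),
      (eG X).symm (m ≫ x) = (Over.map b).map m ≫ (eG Y).symm x := fun m x =>
    (Over.mapPullbackAdj b).homEquiv_naturality_left_symm m x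
  let tX : (Over.map b).obj (XQ I) ⟶ T := Over.homMk a hab.symm
  obtain ⟨g, hg0, φ, hg⟩ := H8MultSubgroupConj.conj_lifts ⟨2, hI⟩
    (locally_of_ft (H8CentralDescent.isMultTypeFT_bc b hH₁)) (locally_of_ft (H8CentralDescent.isMultTypeFT_bc b hH₂))
    ((Over.pullback b).map i₁) ((Over.pullback b).map i₂) (eG (XQ I) (tX ≫ j)) (fun X p => ⟨fun h => by
      obtain ⟨y, hy⟩ := ((hT _ (tX ≫ j)).mp ⟨tX, rfl⟩ _ ((Over.map b).map p)).1 ((e₁ X).symm h)
      refine ⟨e₂ X y, (eG X).symm.injective ?_⟩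
      rw [map_mul, map_mul, map_inv, hu₁, hu₂, hnat, MulEquiv.symm_apply_apply, MulEquiv.symm_apply_apply]
      exact hy, fun h => by
      obtain ⟨y, hy⟩ := ((hT _ (tX ≫ j)).mp ⟨tX, rfl⟩ _ ((Over.map b).map p)).2 ((e₂ X).symm h)
      refine ⟨e₁ X y, (eG X).symm.injective ?_⟩
      rw [map_mul, map_mul, map_inv, hu₁, hu₂, hnat, MulEquiv.symm_apply_apply, MulEquiv.symm_apply_apply]
      exact hy⟩)
  let O : Over S := Over.mk b
  let m : O ⟶ (Over.map b).obj (𝟙_ (Over (Spec (CommRingCat.of A)))) := Over.homMk (𝟙 _) (by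
    show 𝟙 _ ≫ 𝟙 _ ≫ b = b
    rw [Category.id_comp, Category.id_comp])
  let gO : O ⟶ G := m ≫ (eG _).symm g
  obtain ⟨t, ht⟩ := (hT O gO).mpr fun X' x => by
    let X'' : Over (Spec (CommRingCat.of A)) := Over.mk x.left
    let m1 : (Over.map b).obj X'' ⟶ X' := Over.homMk (𝟙 _) (by
      show 𝟙 _ ≫ X'.hom = x.left ≫ b
      rw [Category.id_comp]
      exact (Over.w x).symm)
    let m2 : X' ⟶ (Over.map b).obj X'' := Over.homMk (𝟙 _) (by
      show 𝟙 _ ≫ x.left ≫ b = X'.hom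
      rw [Category.id_comp]
      exact Over.w x)
    have hm : m2 ≫ m1 = 𝟙 X' := Over.OverMorphism.ext (Category.id_comp _)
    have e : (Over.map b).map (toUnit X'') ≫ (eG _).symm g = m1 ≫ x ≫ gO := by
      have : (Over.map b).map (toUnit X'') = m1 ≫ x ≫ m := Over.OverMorphism.ext (by
        show (toUnit X'').left = 𝟙 _ ≫ x.left ≫ 𝟙 _
        rw [Category.id_comp]
        exact ((Category.comp_id _).symm.trans (Over.w (toUnit X''))).trans (Category.comp_id _).symm)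
      rw [this]
      simp only [gO, Category.assoc]
    have main : ∀ h₁ : X'' ⟶ Red.bc b H₁,
        (x ≫ gO) * (m2 ≫ (e₁ X'').symm h₁ ≫ i₁) * (x ≫ gO)⁻¹ = m2 ≫ (e₂ X'').symm (h₁ ≫ φ.hom) ≫ i₂ := by
      intro h₁
      have h := congrArg (eG X'').symm (hg X'' h₁)
      rw [map_mul, map_mul, map_inv, hu₁, hnat, e, ← Category.assoc h₁, hu₂] at h
      have h2 := congrArg (m2 ≫ ·) h
      simp only [MonObj.comp_mul, GrpObj.comp_inv, ← Category.assoc, hm, Category.id_comp] at h2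
      simp only [← Category.assoc]
      exact h2
    refine ⟨fun h => ⟨m2 ≫ (e₂ X'').symm (e₁ X'' (m1 ≫ h) ≫ φ.hom), ?_⟩,
      fun h => ⟨m2 ≫ (e₁ X'').symm (e₂ X'' (m1 ≫ h) ≫ φ.inv), ?_⟩⟩
    · have h3 := main (e₁ X'' (m1 ≫ h))
      rw [MulEquiv.symm_apply_apply, ← Category.assoc m2 (m1 ≫ h), ← Category.assoc m2 m1 h, hm, Category.id_comp] at h3
      rw [h3, Category.assoc]
    · have h3 := main (e₂ X'' (m1 ≫ h) ≫ φ.inv)
      rw [Category.assoc (e₂ X'' (m1 ≫ h)), φ.inv_hom_id, Category.comp_id, MulEquiv.symm_apply_apply,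
        ← Category.assoc m2 (m1 ≫ h), ← Category.assoc m2 m1 h, hm, Category.id_comp] at h3
      rw [← h3, Category.assoc]
      group
  refine ⟨t.left, ?_, Over.w t⟩
  apply (cancel_mono j.left).mp
  rw [Category.assoc, show t.left ≫ j.left = gO.left from congrArg CommaMorphism.left ht]
  have e0 : (Over.map b).map (toUnit (XQ I)) ≫ (eG _).symm g = tX ≫ j := by
    rw [← hnat, hg0, MulEquiv.symm_apply_apply]
  have e1 := congrArg CommaMorphism.left e0
  refine Eq.trans ?_ e1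
  show _ ≫ 𝟙 _ ≫ ((eG _).symm g).left = (toUnit (XQ I)).left ≫ ((eG _).symm g).left
  rw [Category.id_comp]
  refine congrArg (· ≫ ((eG _).symm g).left) ?_
  exact ((Category.comp_id _).symm.trans (Over.w (toUnit (XQ I)))).symm

set_option backward.isDefEq.respectTransparency false in
theorem normalizer {S : Scheme.{u}} (H G : Over S) [GrpObj H] [GrpObj G]
    (hH : SGA3x.IsMultTypeFT H) (hG : Smooth G.hom) (hGa : IsAffineHom G.hom) (i : H ⟶ G) [IsMonHom i] [Mono i] :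
    ∃ (N : Over S) (_ : GrpObj N) (j : N ⟶ G), Red.IsNormalizerOf i j ∧ IsClosedImmersion j.left ∧ Smooth N.hom := by
  obtain ⟨T, j, hj, hsm, hT⟩ := transporter H H G hH hH hG hGa i i
  haveI := hj
  haveI : Mono ((Over.forget S).map j) := inferInstanceAs (Mono j.left)
  haveI : Mono j := (Over.forget S).mono_of_mono_map inferInstance
  have key : ∀ (X : Over S) (g : X ⟶ G), (∃ z : X ⟶ T, z ≫ j = g) ↔
      ∀ (X' : Over S) (x : X' ⟶ X) (h : X' ⟶ H),
        (∃ h' : X' ⟶ H, (x ≫ g) * (h ≫ i) * (x ≫ g)⁻¹ = h' ≫ i) ∧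
        (∃ h' : X' ⟶ H, (x ≫ g)⁻¹ * (h ≫ i) * (x ≫ g) = h' ≫ i) := fun X g => by
    rw [hT X g]
    exact ⟨fun h X' x a => ⟨(h X' x).1 a, (h X' x).2 a⟩, fun h X' x => ⟨fun a => (h X' x a).1, fun a => (h X' x a).2⟩⟩
  let Sub : ∀ X : Over S, Subgroup (X ⟶ G) := fun X =>
    { carrier := {g | ∀ (X' : Over S) (x : X' ⟶ X) (h : X' ⟶ H),
        (∃ h' : X' ⟶ H, (x ≫ g) * (h ≫ i) * (x ≫ g)⁻¹ = h' ≫ i) ∧
        (∃ h' : X' ⟶ H, (x ≫ g)⁻¹ * (h ≫ i) * (x ≫ g) = h' ≫ i)}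
      one_mem' := fun X' x h => ⟨⟨h, by simp [MonObj.comp_one]⟩, ⟨h, by simp [MonObj.comp_one]⟩⟩
      mul_mem' := fun {a b} ha hb X' x h => by
        obtain ⟨h1, e1⟩ := (hb X' x h).1
        obtain ⟨h2, e2⟩ := (ha X' x h1).1
        obtain ⟨h3, e3⟩ := (ha X' x h).2
        obtain ⟨h4, e4⟩ := (hb X' x h3).2
        refine ⟨⟨h2, ?_⟩, ⟨h4, ?_⟩⟩
        · rw [← e2, ← e1, MonObj.comp_mul]; group
        · rw [← e4, ← e3, MonObj.comp_mul]; group
      inv_mem' := fun {a} ha X' x h => by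
        obtain ⟨h1, e1⟩ := (ha X' x h).1
        obtain ⟨h2, e2⟩ := (ha X' x h).2
        refine ⟨⟨h2, ?_⟩, ⟨h1, ?_⟩⟩
        · rw [← e2, GrpObj.comp_inv]; group
        · rw [← e1, GrpObj.comp_inv]; group }
  obtain ⟨inst, hhom⟩ := H8SubGrp.exists_grpObj j Sub fun X g => key X g
  exact ⟨T, inst, j, ⟨hhom, inferInstance, key⟩, hj, hsm⟩

end Groth.Agent.H8MultSubTransporter

end
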