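import Mathlib
import Groth.Prelude.Def_SGA3x
import Groth.Prelude.Def_TwC
import Groth.Agent.Lib.H8MultTransporter
import Groth.Agent.Lib.H8MultSubTransporter
import Groth.Agent.Lib.H8EtaleSection

/-!
# Étale-local conjugacy for groups of multiplicative type
-/

set_option autoImplicit false

universe u

open CategoryTheory Limits AlgebraicGeometry MonoidalCategory CartesianMonoidalCategory MonObj GrpObj

noncomputable section

namespace Groth.Agent.H8MultEtaleConj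

lemma exists_point {S : Scheme.{u}} {T : Over S} {s : S} (t : Over.mk (Red.geomPt s) ⟶ T) :
    s ∈ Set.range T.hom.base := by
  have e : t.left ≫ T.hom = Red.geomPt s := Over.w t
  let z : Spec (CommRingCat.of (AlgebraicClosure (S.residueField s))) :=
    (⟨⊥, Ideal.isPrime_bot⟩ : PrimeSpectrum (AlgebraicClosure (S.residueField s)))
  refine ⟨t.left.base z, ?_⟩
  rw [← Scheme.Hom.comp_apply, e]
  exact Scheme.fromSpecResidueField_apply s _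

set_option backward.isDefEq.respectTransparency false in
/-- From an S'-valued point of G satisfying a condition functorially, a section of G ×_S S'. -/
lemma exists_section {S S' : Scheme.{u}} (f : S' ⟶ S) (G : Over S) [GrpObj G] (gO : Over.mk f ⟶ G) :
    ∃ g : 𝟙_ (Over S') ⟶ Red.bc f G, ∀ X : Over S', ∃ x : (Over.map f).obj X ⟶ Over.mk f,
      (H8DiagRigid.adjEquiv f G X).symm (toUnit X ≫ g) = x ≫ gO := by
  let m : (Over.map f).obj (𝟙_ (Over S')) ⟶ Over.mk f := Over.homMk (𝟙 _) (by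
    show 𝟙 _ ≫ f = 𝟙 _ ≫ f
    rfl)
  refine ⟨H8DiagRigid.adjEquiv f G _ (m ≫ gO), fun X => ⟨(Over.map f).map (toUnit X) ≫ m, ?_⟩⟩
  rw [Category.assoc]
  refine ((Over.mapPullbackAdj f).homEquiv_naturality_left_symm (toUnit X) _).trans (congrArg _ ?_)
  exact MulEquiv.symm_apply_apply (H8DiagRigid.adjEquiv f G _) _

set_option backward.isDefEq.respectTransparency false in
theorem conj_homs {S : Scheme.{u}} (H G : Over S) [GrpObj H] [GrpObj G]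
    (hH : SGA3x.IsMultTypeFT H) (hG : Smooth G.hom) (hGa : IsAffineHom G.hom) (u₁ u₂ : H ⟶ G) [IsMonHom u₁] [IsMonHom u₂]
    (hgeom : ∀ s : S, ∃ g : Over.mk (Red.geomPt s) ⟶ G, ∀ (X : Over S) (p : X ⟶ Over.mk (Red.geomPt s)) (h : X ⟶ H),
      h ≫ u₂ = (p ≫ g) * (h ≫ u₁) * (p ≫ g)⁻¹) :
    TwC.Locally S TwC.Topology.etale (fun S' f => ∃ g : 𝟙_ (Over S') ⟶ Red.bc f G,
      ∀ (X : Over S') (h : X ⟶ Red.bc f H),
        h ≫ (Over.pullback f).map u₂ = (toUnit X ≫ g) * (h ≫ (Over.pullback f).map u₁) * (toUnit X ≫ g)⁻¹) := by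
  intro s
  obtain ⟨T, j, -, hsm, hT⟩ := H8MultTransporter.transporter H G hH hG hGa u₁ u₂
  haveI := hsm
  obtain ⟨g₀, hg₀⟩ := hgeom s
  obtain ⟨t, -⟩ := (hT _ g₀).mpr fun X p h => (hg₀ X p h).symm
  obtain ⟨S', f, σ, hf, hs, hσ⟩ := H8EtaleSection.exists_etale_section T.hom s (exists_point t)
  let t' : Over.mk f ⟶ T := Over.homMk σ hσ
  refine ⟨S', f, hf, hs, ?_⟩
  obtain ⟨g, hg⟩ := exists_section f G (t' ≫ j)
  refine ⟨g, fun X h => ?_⟩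
  obtain ⟨x, hx⟩ := hg X
  apply (H8DiagRigid.adjEquiv f G X).symm.injective
  have hu : ∀ u : H ⟶ G, (H8DiagRigid.adjEquiv f G X).symm (h ≫ (Over.pullback f).map u) =
      (H8DiagRigid.adjEquiv f H X).symm h ≫ u := fun u =>
    (Over.mapPullbackAdj f).homEquiv_naturality_right_symm h u
  rw [map_mul, map_mul, map_inv, hu, hu, hx]
  exact ((hT _ (t' ≫ j)).mp ⟨t', rfl⟩ _ x _).symm

set_option backward.isDefEq.respectTransparency false in
theorem conj_subgroups_at {S : Scheme.{u}} (H₁ H₂ G : Over S) [GrpObj H₁] [GrpObj H₂] [GrpObj G]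
    (h₁ : SGA3x.IsMultTypeFT H₁) (h₂ : SGA3x.IsMultTypeFT H₂) (hG : Smooth G.hom) (hGa : IsAffineHom G.hom)
    (i₁ : H₁ ⟶ G) [IsMonHom i₁] [Mono i₁] (i₂ : H₂ ⟶ G) [IsMonHom i₂] [Mono i₂]
    (s : S) (hs₀ : ∃ g : Over.mk (Red.geomPt s) ⟶ G, ∀ (X : Over S) (p : X ⟶ Over.mk (Red.geomPt s)),
      (∀ a : X ⟶ H₁, ∃ b : X ⟶ H₂, (p ≫ g) * (a ≫ i₁) * (p ≫ g)⁻¹ = b ≫ i₂) ∧
      (∀ b : X ⟶ H₂, ∃ a : X ⟶ H₁, (p ≫ g)⁻¹ * (b ≫ i₂) * (p ≫ g) = a ≫ i₁)) :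
    ∃ (S' : Scheme.{u}) (f : S' ⟶ S), Etale f ∧ s ∈ Set.range f.base ∧
      ∃ g : 𝟙_ (Over S') ⟶ Red.bc f G, SGA3x.ConjBy ((Over.pullback f).map i₁) ((Over.pullback f).map i₂) g := by
  obtain ⟨T, j, -, hsm, hT⟩ := H8MultSubTransporter.transporter H₁ H₂ G h₁ h₂ hG hGa i₁ i₂
  haveI := hsm
  obtain ⟨g₀, hg₀⟩ := hs₀
  obtain ⟨t, -⟩ := (hT _ g₀).mpr fun X p => hg₀ X p
  obtain ⟨S', f, σ, hf, hs, hσ⟩ := H8EtaleSection.exists_etale_section T.hom s (exists_point t)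
  let t' : Over.mk f ⟶ T := Over.homMk σ hσ
  refine ⟨S', f, hf, hs, ?_⟩
  obtain ⟨g, hg⟩ := exists_section f G (t' ≫ j)
  haveI := H8MultSubTransporter.mono_map f i₁
  haveI := H8MultSubTransporter.mono_map f i₂
  have hu : ∀ {K : Over S} (X : Over S') (h : X ⟶ Red.bc f K) (u : K ⟶ G),
      (H8DiagRigid.adjEquiv f G X).symm (h ≫ (Over.pullback f).map u) =
        ((Over.mapPullbackAdj f).homEquiv X K).symm h ≫ u := fun X h u =>
    (Over.mapPullbackAdj f).homEquiv_naturality_right_symm h u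
  have key : ∀ (X : Over S'),
      (∀ a : X ⟶ Red.bc f H₁, ∃ b : X ⟶ Red.bc f H₂,
        (toUnit X ≫ g) * (a ≫ (Over.pullback f).map i₁) * (toUnit X ≫ g)⁻¹ = b ≫ (Over.pullback f).map i₂) ∧
      (∀ b : X ⟶ Red.bc f H₂, ∃ a : X ⟶ Red.bc f H₁,
        (toUnit X ≫ g)⁻¹ * (b ≫ (Over.pullback f).map i₂) * (toUnit X ≫ g) = a ≫ (Over.pullback f).map i₁) := by
    intro X
    obtain ⟨x, hx⟩ := hg X
    refine ⟨fun a => ?_, fun b => ?_⟩
    · obtain ⟨y, hy⟩ := ((hT _ (t' ≫ j)).mp ⟨t', rfl⟩ _ x).1 (((Over.mapPullbackAdj f).homEquiv X H₁).symm a)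
      refine ⟨(Over.mapPullbackAdj f).homEquiv X H₂ y, (H8DiagRigid.adjEquiv f G X).symm.injective ?_⟩
      rw [map_mul, map_mul, map_inv, hu, hu, hx, Equiv.symm_apply_apply]
      exact hy
    · obtain ⟨y, hy⟩ := ((hT _ (t' ≫ j)).mp ⟨t', rfl⟩ _ x).2 (((Over.mapPullbackAdj f).homEquiv X H₂).symm b)
      refine ⟨(Over.mapPullbackAdj f).homEquiv X H₁ y, (H8DiagRigid.adjEquiv f G X).symm.injective ?_⟩
      rw [map_mul, map_mul, map_inv, hu, hu, hx, Equiv.symm_apply_apply]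
      exact hy
  obtain ⟨b, hb⟩ := (key _).1 (𝟙 (Red.bc f H₁))
  obtain ⟨a, ha⟩ := (key _).2 (𝟙 (Red.bc f H₂))
  rw [Category.id_comp] at hb ha
  refine ⟨g, ⟨b, a, ?_, ?_⟩, hb⟩
  · refine (cancel_mono ((Over.pullback f).map i₁)).mp ?_
    rw [Category.assoc, ← ha, Category.id_comp]
    simp only [MonObj.comp_mul, GrpObj.comp_inv, Category.assoc, comp_toUnit_assoc, ← hb]
    group
  · refine (cancel_mono ((Over.pullback f).map i₂)).mp ?_
    rw [Category.assoc, ← hb, Category.id_comp]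
    simp only [MonObj.comp_mul, GrpObj.comp_inv, Category.assoc, comp_toUnit_assoc, ← ha]
    group

set_option backward.isDefEq.respectTransparency false in
theorem conj_subgroups {S : Scheme.{u}} (H₁ H₂ G : Over S) [GrpObj H₁] [GrpObj H₂] [GrpObj G]
    (h₁ : SGA3x.IsMultTypeFT H₁) (h₂ : SGA3x.IsMultTypeFT H₂) (hG : Smooth G.hom) (hGa : IsAffineHom G.hom)
    (i₁ : H₁ ⟶ G) [IsMonHom i₁] [Mono i₁] (i₂ : H₂ ⟶ G) [IsMonHom i₂] [Mono i₂]
    (hgeom : ∀ s : S, ∃ g : Over.mk (Red.geomPt s) ⟶ G, ∀ (X : Over S) (p : X ⟶ Over.mk (Red.geomPt s)),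
      (∀ a : X ⟶ H₁, ∃ b : X ⟶ H₂, (p ≫ g) * (a ≫ i₁) * (p ≫ g)⁻¹ = b ≫ i₂) ∧
      (∀ b : X ⟶ H₂, ∃ a : X ⟶ H₁, (p ≫ g)⁻¹ * (b ≫ i₂) * (p ≫ g) = a ≫ i₁)) :
    TwC.Locally S TwC.Topology.etale (fun S' f => ∃ g : 𝟙_ (Over S') ⟶ Red.bc f G,
      SGA3x.ConjBy ((Over.pullback f).map i₁) ((Over.pullback f).map i₂) g) :=
  fun s => conj_subgroups_at H₁ H₂ G h₁ h₂ hG hGa i₁ i₂ s (hgeom s)

end Groth.Agent.H8MultEtaleConj
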