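import Mathlib
import Groth.Prelude.Def_SGA3b
import Groth.Agent.Lib.H8MultCore
import Groth.Agent.Lib.H8Mult
import Groth.Agent.Lib.H8MultAdic
import Groth.Agent.Lib.H8MultGL
import Groth.Agent.Lib.H8CharFrame
import Groth.Agent.Lib.H8MultHom
import Groth.Agent.Lib.H8MultIso
import Groth.Agent.Lib.H8MultHomLift
import Groth.Agent.Lib.H8MultLift
import Groth.Agent.S5270

/-!
# Formal homomorphisms into isotrivial groups
-/

set_option autoImplicit false
set_option linter.all false

universe u

open TensorProduct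

namespace Groth.Agent.H8MultFormal

open H8MultCore H8Mult H8MultGL H8CharFrame H8MultHom H8MultIso

variable {A : Type u} [CommRing A]

/-- Injectivity after a base change, computed over the original base. -/
lemma inj_baseChange (R' : Type u) [CommRing R'] [Algebra A R'] (C : Type u) [CommRing C] [Algebra A C]
    {P Q : Type u} [AddCommGroup P] [Module A P] [Module R' P] [IsScalarTower A R' P]
    [AddCommGroup Q] [Module A Q] [Module R' Q] [IsScalarTower A R' Q]
    (f : P →ₗ[R'] Q) (h : Function.Injective ((f.restrictScalars A).rTensor C)) :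
    Function.Injective (f.rTensor (R' ⊗[A] C)) := by
  let κ := TensorProduct.AlgebraTensorModule.cancelBaseChange A R' R' P C
  let κ' := TensorProduct.AlgebraTensorModule.cancelBaseChange A R' R' Q C
  have hcomm : ∀ w, κ' (f.rTensor (R' ⊗[A] C) w) = (f.restrictScalars A).rTensor C (κ w) := by
    intro w
    induction w using TensorProduct.induction_on with
    | zero => simp
    | tmul x y =>
      induction y using TensorProduct.induction_on with
      | zero => simp
      | tmul r c => simp [κ, κ']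
      | add p q hp hq => simp only [tmul_add, map_add, hp, hq]
    | add p q hp hq => simp only [map_add, hp, hq]
  exact fun x y hxy => κ.injective (h (by rw [← hcomm, ← hcomm, hxy]))

/-- An injection of modules killed by a power of `I` stays injective after tensoring with an algebra which is flat at
the points over `I`. -/
lemma inj_of_flat_at (I : Ideal A) (C : Type u) [CommRing C] [Algebra A C]
    (hfl : ∀ (q : Ideal C) [q.IsPrime], Ideal.map (algebraMap A C) I ≤ q → Module.Flat A (Localization.AtPrime q))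
    (m : ℕ) {P Q : Type u} [AddCommGroup P] [Module A P] [AddCommGroup Q] [Module A Q]
    (hkillP : ∀ r ∈ I, ∀ p : P, r ^ m • p = 0) (f : P →ₗ[A] Q) (hf : Function.Injective f) :
    Function.Injective (f.rTensor C) := by
  let g' : C ⊗[A] P →ₗ[C] C ⊗[A] Q := f.baseChange C
  suffices hg' : Function.Injective g' by
    intro x y hxy
    apply (TensorProduct.comm A P C).injective
    apply hg'
    have : ∀ w, g' ((TensorProduct.comm A P C) w) = (TensorProduct.comm A Q C) (f.rTensor C w) := by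
      intro w
      induction w using TensorProduct.induction_on with
      | zero => simp
      | tmul p q => simp [g']
      | add p q hp hq => simp only [map_add, hp, hq]
    rw [this, this, hxy]
  refine (injective_iff_map_eq_zero g').mpr fun x hx => ?_
  by_contra hne
  let ann : Ideal C := LinearMap.ker (LinearMap.toSpanSingleton C (C ⊗[A] P) x)
  obtain ⟨q, hq, hle⟩ := ann.exists_le_maximal fun htop => hne (by
    have : (1 : C) ∈ ann := htop ▸ Submodule.mem_top
    simpa [ann] using this)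
  haveI := hq
  by_cases hI : Ideal.map (algebraMap A C) I ≤ q
  · haveI := hfl q hI
    let Cq := Localization.AtPrime q
    have hsq : ∀ w, f.lTensor Cq ((IsScalarTower.toAlgHom A C Cq).toLinearMap.rTensor P w) =
        (IsScalarTower.toAlgHom A C Cq).toLinearMap.rTensor Q (g' w) := by
      intro w
      induction w using TensorProduct.induction_on with
      | zero => simp
      | tmul p q => simp [g']
      | add p q hp hq => simp only [map_add, hp, hq]
    have hz : (IsScalarTower.toAlgHom A C Cq).toLinearMap.rTensor P x = 0 :=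
      Module.Flat.lTensor_preserves_injective_linearMap (M := Cq) f hf (by rw [hsq, hx, map_zero, map_zero])
    have h1 : (1 : Cq) ⊗ₜ[C] x = 0 := by
      apply (TensorProduct.AlgebraTensorModule.cancelBaseChange A C Cq Cq P).injective
      rw [map_zero]
      refine Eq.trans ?_ hz
      clear hsq hz hx hne ann hle
      induction x using TensorProduct.induction_on with
      | zero => simp
      | tmul t b => simp [Algebra.smul_def]
      | add p q hp hq => simp only [tmul_add, map_add, hp, hq]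
    obtain ⟨s, hs⟩ := (IsLocalizedModule.eq_zero_iff q.primeCompl (TensorProduct.mk C Cq (C ⊗[A] P) 1)).mp h1
    exact s.2 (hle (by simpa [ann, Submonoid.smul_def] using hs))
  · obtain ⟨r, hr, hrq⟩ : ∃ r ∈ I, algebraMap A C r ∉ q := by
      by_contra hcon
      push Not at hcon
      exact hI (Ideal.map_le_iff_le_comap.mpr hcon)
    have hkill : (algebraMap A C r ^ m) • x = 0 := by
      rw [← map_pow, algebraMap_smul]
      clear hx hne ann hle
      induction x using TensorProduct.induction_on with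
      | zero => simp
      | tmul t b => rw [← tmul_smul, hkillP r hr, tmul_zero]
      | add p q hp hq => rw [smul_add, hp, hq, add_zero]
    exact hrq (hq.isPrime.mem_of_pow_mem m (hle (by simpa [ann] using hkill)))

/-- Flatness at the points over `I` gives flatness modulo powers of `I`. -/
theorem flat_quot (I : Ideal A) (C : Type u) [CommRing C] [Algebra A C]
    (hfl : ∀ (q : Ideal C) [q.IsPrime], Ideal.map (algebraMap A C) I ≤ q → Module.Flat A (Localization.AtPrime q))
    (m : ℕ) (K : Ideal A) (hK : I ^ m ≤ K) : Module.Flat (A ⧸ K) ((A ⧸ K) ⊗[A] C) := by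
  rw [Module.Flat.iff_rTensor_injective']
  intro a
  refine inj_baseChange (A ⧸ K) C a.subtype (inj_of_flat_at I C hfl m (fun r hr p => Subtype.ext ?_)
    (a.subtype.restrictScalars A) a.injective_subtype)
  show r ^ m • (p : A ⧸ K) = 0
  rw [Algebra.smul_def, Ideal.Quotient.algebraMap_eq,
    Ideal.Quotient.eq_zero_iff_mem.mpr (hK (Ideal.pow_mem_pow hr m)), zero_mul]

/-- Quasi-isotriviality transports along an isomorphism of bases. -/
theorem quasi_transfer (C : Type u) [CommRing C] [HopfAlgebra A C] (An R' R : Type u) [CommRing An] [CommRing R'] [CommRing R]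
    [Algebra A An] [Algebra A R'] [Algebra A R] [Algebra An R'] [IsScalarTower A An R'] (k : R' →ₐ[A] R)
    (hk : Function.Bijective k) (h : SGA3b.IsQuasiIsotrivial R (R ⊗[A] C)) :
    SGA3b.IsQuasiIsotrivial R' (R' ⊗[An] (An ⊗[A] C)) := by
  obtain ⟨s, hs, hf⟩ := h
  refine ⟨k ⁻¹' s, ?_, fun f hfs => ?_⟩
  · have h1 : (1 : R) ∈ (Ideal.span (k ⁻¹' s)).map k.toRingHom := by
      rw [Ideal.map_span]
      show (1 : R) ∈ Ideal.span (k '' (k ⁻¹' s))
      rw [Set.image_preimage_eq _ hk.2, hs]; trivial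
    obtain ⟨x, hx, hx1⟩ := (Ideal.mem_map_iff_of_surjective k.toRingHom hk.2).mp h1
    exact (Ideal.eq_top_iff_one _).mpr (by rwa [← show x = 1 from hk.1 (hx1.trans (map_one k).symm)])
  · obtain ⟨S, _, _, het, hff, hd⟩ := hf _ hfs
    haveI := het
    haveI := hff
    let L := Localization.Away (k f)
    letI : Algebra R S := ((algebraMap L S).comp (algebraMap R L)).toAlgebra
    haveI : IsScalarTower R L S := IsScalarTower.of_algebraMap_eq' rfl
    haveI : Algebra.Etale R L := Algebra.Etale.of_isLocalizationAway (k f)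
    haveI : Algebra.Etale R S := Algebra.Etale.comp R L S
    letI : Algebra R' R := k.toRingHom.toAlgebra
    haveI : IsScalarTower A R' R := IsScalarTower.of_algebraMap_eq fun r => (k.commutes r).symm
    haveI : Algebra.Etale R' R := Algebra.Etale.of_equiv (AlgEquiv.ofBijective (Algebra.ofId R' R) hk)
    letI : Algebra R' S := ((algebraMap R S).comp k.toRingHom).toAlgebra
    haveI : IsScalarTower R' R S := IsScalarTower.of_algebraMap_eq' rfl
    haveI : Algebra.Etale R' S := Algebra.Etale.comp R' R S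
    letI : Algebra A S := ((algebraMap R S).comp (algebraMap A R)).toAlgebra
    haveI : IsScalarTower A R S := IsScalarTower.of_algebraMap_eq' rfl
    haveI : IsScalarTower A R' S := IsScalarTower.of_algebraMap_eq fun r => by
      show algebraMap R S (algebraMap A R r) = algebraMap R S (k (algebraMap A R' r))
      rw [k.commutes]
    letI : Algebra An S := ((algebraMap R' S).comp (algebraMap An R')).toAlgebra
    haveI : IsScalarTower An R' S := IsScalarTower.of_algebraMap_eq' rfl
    haveI : IsScalarTower A An S := IsScalarTower.of_algebraMap_eq fun r => by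
      show algebraMap A S r = algebraMap R' S (algebraMap An R' (algebraMap A An r))
      rw [← IsScalarTower.algebraMap_apply A An R', ← IsScalarTower.algebraMap_apply A R' S]
    refine H8MultLift.quasiConst_of_etale f S ?_ (fun p hp => ?_) ?_
    · show IsUnit (algebraMap R S (k f))
      rw [IsScalarTower.algebraMap_apply R L S]
      exact (IsLocalization.Away.algebraMap_isUnit (k f)).map _
    · obtain ⟨p₁, rfl⟩ : p ∈ Set.range (PrimeSpectrum.comap k.toRingHom) :=
        ⟨PrimeSpectrum.comap (RingEquiv.ofBijective k.toRingHom hk).symm.toRingHom p, by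
          apply PrimeSpectrum.ext; ext x
          show (RingEquiv.ofBijective k.toRingHom hk).symm (k x) ∈ p.asIdeal ↔ x ∈ p.asIdeal
          rw [show (RingEquiv.ofBijective k.toRingHom hk).symm (k x) = x from
            (RingEquiv.ofBijective k.toRingHom hk).symm_apply_apply x]⟩
      obtain ⟨p₂, rfl⟩ : p₁ ∈ Set.range (PrimeSpectrum.comap (algebraMap R L)) := by
        rw [PrimeSpectrum.localization_away_comap_range L (k f)]
        exact hp
      obtain ⟨q, rfl⟩ := PrimeSpectrum.comap_surjective_of_faithfullyFlat (B := S) p₂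
      exact ⟨q, rfl⟩
    · exact isDiag_uncancel S R' (isDiag_uncancel S An (isDiag_cancel S R (isDiag_cancel S L hd)))

variable [IsNoetherianRing A] (I : Ideal A) [IsAdicComplete I A]
  {B : Type u} [CommRing B] [HopfAlgebra A B] {C : Type u} [CommRing C] [HopfAlgebra A C]

/-- Modulo powers of `I` the source is of multiplicative type. -/
theorem hasSplitting_quot
    (hfl : ∀ (q : Ideal C) [q.IsPrime], Ideal.map (algebraMap A C) I ≤ q → Module.Flat A (Localization.AtPrime q))
    (h0 : SGA3b.IsQuasiIsotrivial (A ⧸ I) ((A ⧸ I) ⊗[A] C)) (n : ℕ) :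
    HasSplitting (A ⧸ I ^ (n + 1)) ((A ⧸ I ^ (n + 1)) ⊗[A] C) := by
  haveI := flat_quot I C hfl (n + 1) (I ^ (n + 1)) le_rfl
  let K := I ^ (n + 1)
  let An := A ⧸ K
  let I' : Ideal An := I.map (Ideal.Quotient.mk K)
  have hI' : IsNilpotent I' := ⟨n + 1, by
    rw [← Ideal.map_pow, Ideal.zero_eq_bot, Ideal.map_quotient_self]⟩
  let k : An ⧸ I' →ₐ[A] A ⧸ I := Ideal.Quotient.liftₐ I'
    (Ideal.Quotient.liftₐ K (Algebra.ofId A (A ⧸ I)) fun r hr =>
      Ideal.Quotient.eq_zero_iff_mem.mpr (Ideal.pow_le_self (Nat.succ_ne_zero n) hr)) fun r hr => by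
        obtain ⟨a, ha, rfl⟩ := (Ideal.mem_map_iff_of_surjective _ Ideal.Quotient.mk_surjective).mp hr
        exact Ideal.Quotient.eq_zero_iff_mem.mpr ha
  have hk : Function.Bijective k := by
    refine ⟨(injective_iff_map_eq_zero k).mpr fun x hx => ?_, fun y => ?_⟩
    · obtain ⟨x, rfl⟩ := Ideal.Quotient.mk_surjective x
      obtain ⟨a, rfl⟩ := Ideal.Quotient.mk_surjective x
      exact Ideal.Quotient.eq_zero_iff_mem.mpr (Ideal.mem_map_of_mem _ (Ideal.Quotient.eq_zero_iff_mem.mp hx))
    · obtain ⟨a, rfl⟩ := Ideal.Quotient.mk_surjective y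
      exact ⟨algebraMap A _ a, k.commutes a⟩
  refine hasSplitting_of_isMultType (H8MultLift.multType_of_quasi (H8MultLift.quasiIsotrivial_of_mod I' (fun x hx => ?_)
    (fun S _ _ _ h => H8MultLift.key_of_flat I' hI' S h) ?_))
  · obtain ⟨m, hm⟩ := hI'
    exact ⟨m, by
      have := Ideal.pow_mem_pow hx m
      rw [hm] at this
      exact this⟩
  · exact quasi_transfer C An (An ⧸ I') (A ⧸ I) k hk h0

include I in
/-- Homomorphisms into an isotrivial group congruent modulo `I` are congruent modulo every power of `I`. -/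
theorem congr_pow (hB : HasSplitting A B)
    (hfl : ∀ (q : Ideal C) [q.IsPrime], Ideal.map (algebraMap A C) I ≤ q → Module.Flat A (Localization.AtPrime q))
    (h0 : SGA3b.IsQuasiIsotrivial (A ⧸ I) ((A ⧸ I) ⊗[A] C)) (n : ℕ)
    (f g : (A ⧸ I ^ (n + 1)) ⊗[A] C →ₐc[A ⧸ I ^ (n + 1)] (A ⧸ I ^ (n + 1)) ⊗[A] B)
    (h : ∀ c, f ((1 : A ⧸ I ^ (n + 1)) ⊗ₜ c) - g ((1 : A ⧸ I ^ (n + 1)) ⊗ₜ c) ∈
      I • (⊤ : Submodule A ((A ⧸ I ^ (n + 1)) ⊗[A] B))) : f = g := by
  let An := A ⧸ I ^ (n + 1)
  refine hom_eq_of_congr_max (hB.baseChange An) (hasSplitting_quot I hfl h0 n) f g fun m hm z => ?_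
  have hle : I.map (algebraMap A An) ≤ m := Ideal.map_le_iff_le_comap.mpr fun r hr =>
    hm.isPrime.mem_of_pow_mem (n + 1) (by
      rw [← map_pow, Ideal.Quotient.algebraMap_eq, Ideal.Quotient.eq_zero_iff_mem.mpr (Ideal.pow_mem_pow hr (n + 1))]
      exact zero_mem m)
  induction z using TensorProduct.induction_on with
  | zero => simp
  | tmul r c =>
    rw [tmul_eq_smul r c, map_smul f, map_smul g, ← smul_sub]
    exact Submodule.smul_mem _ r (smul_top_mono hle ((mem_map_smul_top I _).mpr (h c)))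
  | add p q hp hq =>
    rw [map_add f, map_add g, add_sub_add_comm]
    exact add_mem hp hq

set_option maxHeartbeats 1600000 in
set_option synthInstance.maxHeartbeats 400000 in
/-- Homomorphisms into an isotrivial group correspond to homomorphisms modulo `I`. -/
theorem reduction_bijective (hG : SGA3b.IsIsotrivial A B)
    (hfl : ∀ (q : Ideal C) [q.IsPrime], Ideal.map (algebraMap A C) I ≤ q → Module.Flat A (Localization.AtPrime q))
    (h0 : SGA3b.IsQuasiIsotrivial (A ⧸ I) ((A ⧸ I) ⊗[A] C)) :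
    (∀ φ ψ : C →ₐc[A] B, (∀ c : C, (1 : A ⧸ I) ⊗ₜ[A] (φ c) = (1 : A ⧸ I) ⊗ₜ[A] (ψ c)) → φ = ψ) ∧
    (∀ φ₀ : ((A ⧸ I) ⊗[A] C) →ₐc[A ⧸ I] ((A ⧸ I) ⊗[A] B),
      ∃ φ : C →ₐc[A] B, ∀ c : C, φ₀ ((1 : A ⧸ I) ⊗ₜ[A] c) = (1 : A ⧸ I) ⊗ₜ[A] (φ c)) := by
  classical
  have hB : HasSplitting A B := hasSplitting_of_isMultType (H8MultLift.multType_of_quasi (H8MultLift.quasi_of_isotrivial hG))
  constructor
  · intro φ ψ h
    refine S5270.result A I B hG C φ ψ fun n c => ?_
    let An := A ⧸ I ^ (n + 1)
    have := congr_pow I hB hfl h0 n (Bialgebra.TensorProduct.map (BialgHom.id An An) φ)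
      (Bialgebra.TensorProduct.map (BialgHom.id An An) ψ) fun c => by
        show (1 : An) ⊗ₜ[A] φ c - (1 : An) ⊗ₜ[A] ψ c ∈ _
        rw [← tmul_sub]
        exact map_smul_top_mem I (TensorProduct.mk A An B 1)
          (mem_smul_top_of_one_tmul_eq_zero (by rw [tmul_sub, h c, sub_self]))
    exact congrArg (fun f : An ⊗[A] C →ₐc[An] An ⊗[A] B => f ((1 : An) ⊗ₜ[A] c)) this
  · intro φ₀
    have hstep : ∀ n : ℕ, ∃ F : (A ⧸ I ^ (n + 1)) ⊗[A] C →ₐc[A ⧸ I ^ (n + 1)] (A ⧸ I ^ (n + 1)) ⊗[A] B,
        ∀ c x, F ((1 : A ⧸ I ^ (n + 1)) ⊗ₜ c) = (1 : A ⧸ I ^ (n + 1)) ⊗ₜ x →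
          φ₀ ((1 : A ⧸ I) ⊗ₜ c) = (1 : A ⧸ I) ⊗ₜ x := by
      intro n
      let An := A ⧸ I ^ (n + 1)
      let I' : Ideal An := I.map (Ideal.Quotient.mk (I ^ (n + 1)))
      let L := An ⧸ I'
      let j : A ⧸ I →ₐ[A] L := Ideal.Quotient.liftₐ I (Algebra.ofId A _) fun r hr =>
        Ideal.Quotient.eq_zero_iff_mem.mpr (Ideal.mem_map_of_mem _ hr)
      let k : L →ₐ[A] A ⧸ I := Ideal.Quotient.liftₐ I'
        (Ideal.Quotient.liftₐ (I ^ (n + 1)) (Algebra.ofId A (A ⧸ I)) fun r hr =>
          Ideal.Quotient.eq_zero_iff_mem.mpr (Ideal.pow_le_self (Nat.succ_ne_zero n) hr)) fun r hr => by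
            obtain ⟨a, ha, rfl⟩ := (Ideal.mem_map_iff_of_surjective _ Ideal.Quotient.mk_surjective).mp hr
            exact Ideal.Quotient.eq_zero_iff_mem.mpr ha
      have hkj : k.comp j = AlgHom.id A (A ⧸ I) := AlgHom.ext fun x => by
        obtain ⟨r, rfl⟩ := Ideal.Quotient.mk_surjective x
        exact (AlgHom.commutes _ r).trans (AlgHom.commutes (AlgHom.id A (A ⧸ I)) r).symm
      let εC := cancelBialg (R := A) C An L
      let εB := cancelBialg (R := A) B An L
      let φ₁ : L ⊗[An] (An ⊗[A] C) →ₐc[L] L ⊗[An] (An ⊗[A] B) :=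
        (εB : _ →ₐc[L] _).comp ((homBC j φ₀).comp (εC.symm : _ →ₐc[L] _))
      obtain ⟨F, hF⟩ := H8MultHomLift.exists_hom_lift_nil (hB.baseChange An) (hasSplitting_quot I hfl h0 n) I'
        (fun x hx => ⟨n + 1, by
          have h2 := Ideal.pow_mem_pow hx (n + 1)
          rw [← Ideal.map_pow, Ideal.map_quotient_self] at h2
          exact h2⟩) φ₁
      refine ⟨F, fun c x hx => ?_⟩
      have h1 := hF ((1 : An) ⊗ₜ c)
      rw [hx] at h1
      have hεC : εC ((1 : L) ⊗ₜ[A] c) = (1 : L) ⊗ₜ[An] ((1 : An) ⊗ₜ[A] c) := by simp [εC, cancelBialg]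
      have hεB : εB ((1 : L) ⊗ₜ[A] x) = (1 : L) ⊗ₜ[An] ((1 : An) ⊗ₜ[A] x) := by simp [εB, cancelBialg]
      have h2 : homBC j φ₀ ((1 : L) ⊗ₜ[A] c) = (1 : L) ⊗ₜ[A] x := by
        apply EquivLike.injective εB
        rw [hεB, ← h1]
        show _ = εB (homBC j φ₀ (εC.symm ((1 : L) ⊗ₜ[An] ((1 : An) ⊗ₜ[A] c))))
        rw [← hεC, show εC.symm (εC ((1 : L) ⊗ₜ[A] c)) = (1 : L) ⊗ₜ[A] c from εC.symm_apply_apply _]
      rw [homBC_one_tmul] at h2
      have h3 := congrArg (bc k) h2
      rw [bc_bc, hkj, bc_tmul, map_one] at h3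
      refine Eq.trans ?_ h3
      generalize φ₀ ((1 : A ⧸ I) ⊗ₜ c) = w
      induction w using TensorProduct.induction_on with
      | zero => simp
      | tmul u v => rfl
      | add p q hp hq => simp only [map_add]; rw [← hp, ← hq]
    choose F hF using hstep
    choose b hb using fun n c => H8MultAdic.includeRight_surjective (I ^ (n + 1)) B (F n ((1 : A ⧸ I ^ (n + 1)) ⊗ₜ c))
    simp only at hb
    have hb0 : ∀ n c, φ₀ ((1 : A ⧸ I) ⊗ₜ c) = (1 : A ⧸ I) ⊗ₜ b n c := fun n c => hF n c _ (hb n c).symm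
    have hcomp : ∀ n c, b (n + 1) c - b n c ∈ (I ^ (n + 1)) • (⊤ : Submodule A B) := by
      intro n c
      let p : A ⧸ I ^ (n + 2) →ₐ[A] A ⧸ I ^ (n + 1) :=
        Ideal.Quotient.factorₐ A (Ideal.pow_le_pow_right (Nat.le_succ _))
      have hp : ∀ c, homBC p (F (n + 1)) ((1 : A ⧸ I ^ (n + 1)) ⊗ₜ c) = (1 : A ⧸ I ^ (n + 1)) ⊗ₜ b (n + 1) c := fun c => by
        rw [homBC_one_tmul, ← hb, bc_tmul, map_one]
      have h := congr_pow I hB hfl h0 n (homBC p (F (n + 1))) (F n) fun c => by
        rw [hp, ← hb, ← tmul_sub]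
        exact map_smul_top_mem I (TensorProduct.mk A (A ⧸ I ^ (n + 1)) B 1)
          (mem_smul_top_of_one_tmul_eq_zero (by rw [tmul_sub, ← hb0 (n + 1) c, ← hb0 n c, sub_self]))
      refine mem_smul_top_of_one_tmul_eq_zero ?_
      rw [tmul_sub, sub_eq_zero, ← hp, h, hb]
    obtain ⟨R', _, _, het, hfin, hff, M, _, ⟨e⟩⟩ := hG
    haveI := hfin
    haveI := hff
    obtain ⟨Φ, hΦ⟩ := H8MultAdic.algebraize e I b hcomp
      (fun n c d => mem_smul_top_of_one_tmul_eq_zero (by
        rw [tmul_sub, tmul_add, hb, hb, hb, tmul_add, map_add, sub_self]))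
      (fun n c d => mem_smul_top_of_one_tmul_eq_zero (by
        rw [tmul_sub, hb, show (1 : A ⧸ I ^ (n + 1)) ⊗ₜ[A] (b n c * b n d) =
          ((1 : A ⧸ I ^ (n + 1)) ⊗ₜ[A] b n c) * ((1 : A ⧸ I ^ (n + 1)) ⊗ₜ[A] b n d) by simp, hb, hb,
          ← map_mul (F n), show ((1 : A ⧸ I ^ (n + 1)) ⊗ₜ[A] c) * ((1 : A ⧸ I ^ (n + 1)) ⊗ₜ[A] d) =
          (1 : A ⧸ I ^ (n + 1)) ⊗ₜ[A] (c * d) by simp, sub_self]))
      (fun n a => mem_smul_top_of_one_tmul_eq_zero (by
        rw [tmul_sub, hb, Algebra.algebraMap_eq_smul_one, Algebra.algebraMap_eq_smul_one, tmul_smul, tmul_smul,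
          ← Algebra.TensorProduct.one_def, ← algebraMap_smul (A ⧸ I ^ (n + 1)), map_smul (F n), map_one,
          algebraMap_smul, ← Algebra.TensorProduct.one_def, sub_self]))
      (fun n c s hs => H8Mult.mem_smul_top_of_sq_eq_zero (by
        rw [map_sub, map_sum, ← comul_one_tmul, hb, ← CoalgHomClass.map_comp_comul_apply (F n), comul_one_tmul, hs,
          map_sum, map_sum, sub_eq_zero]
        refine Finset.sum_congr rfl fun p _ => ?_
        rw [sq_tmul, sq_tmul, hb, hb]
        rfl))
    refine ⟨Φ, fun c => ?_⟩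
    rw [hb0 0 c, ← sub_eq_zero, ← tmul_sub, ← neg_sub, tmul_neg, neg_eq_zero]
    refine Submodule.smul_induction_on (hΦ 0 c) (fun r hr v _ => ?_) fun u v hu hv => by rw [tmul_add, hu, hv, add_zero]
    rw [zero_add, pow_one] at hr
    rw [← smul_tmul, ← Algebra.algebraMap_eq_smul_one, Ideal.Quotient.algebraMap_eq,
      Ideal.Quotient.eq_zero_iff_mem.mpr hr, zero_tmul]

end Groth.Agent.H8MultFormal
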