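import Mathlib
import Groth.Prelude.Def_SGA3b
import Groth.Agent.S0526
import Groth.Agent.Lib.H8MultCore
import Groth.Agent.Lib.H8Mult
import Groth.Agent.Lib.H8MultAdic
import Groth.Agent.Lib.H8MultGL
import Groth.Agent.Lib.H8CharFrame
import Groth.Agent.Lib.H8MultKer
import Groth.Agent.Lib.H8MultHom
import Groth.Agent.Lib.H8MultLift
import Groth.Agent.Lib.H8MultComplete
import Groth.Agent.Lib.H8CompleteEtale
import Groth.Agent.Lib.H8MultFormal

/-!
# The open and closed subgroup of multiplicative type over a complete pair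
-/

set_option autoImplicit false
set_option linter.all false

universe u

open TensorProduct WithConv

namespace Groth.Agent.H8MultOpen

open H8MultCore H8Mult H8MultGL H8MultKer H8MultAdic H8CharFrame

lemma mul_cancel_left' {M : Type*} [Monoid M] (a b c : M) (h : a * b = 1) : a * (b * c) = c := by
  rw [← mul_assoc, h, one_mul]

section Core

variable {T : Type u} [CommRing T] {N : Type u} [CommGroup N] {C : Type u} [CommRing C] [HopfAlgebra T C]

/-- A homomorphism from a diagonalisable group which is a closed immersion modulo the radical is a closed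
immersion. -/
theorem surjective_of_mod (f : C →ₐc[T] MonoidAlgebra T N) (I : Ideal T) (hI : I ≤ Ideal.jacobson ⊥)
    (h : ∀ n : N, ∃ c, f c - MonoidAlgebra.single n 1 ∈ I • (⊤ : Submodule T (MonoidAlgebra T N))) :
    Function.Surjective f := by
  classical
  have hn : ∀ n, n ∈ fullSubgroup f := fun n => by
    obtain ⟨c, hc⟩ := h n
    have h1 : coef f n c - 1 ∈ I := by
      have h2 := map_smul_top_mem I (co n) hc
      rw [map_sub, co_single, if_pos rfl, smul_eq_mul, Ideal.mul_top] at h2
      exact h2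
    obtain ⟨w, hw⟩ : IsUnit (coef f n c) := by simpa using Ideal.mem_jacobson_bot.mp (hI h1) 1
    exact ⟨(↑w⁻¹ : T) • c, by rw [map_smul, ← hw, smul_eq_mul, Units.inv_mul]⟩
  intro b
  induction b using MonoidAlgebra.induction_linear with
  | zero => exact ⟨0, map_zero f⟩
  | add p q hp hq =>
    obtain ⟨x, rfl⟩ := hp
    obtain ⟨y, rfl⟩ := hq
    exact ⟨x + y, map_add f x y⟩
  | single m r =>
    obtain ⟨x, hx⟩ := mem_range_of_full f (hn m)
    exact ⟨r • x, by rw [map_smul f, hx, MonoidAlgebra.smul_single', mul_one]⟩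

/-- A closed subgroup of multiplicative type which is everything modulo the radical is open and closed. -/
theorem exists_idem_gen [IsNoetherianRing T] (hft : Algebra.FiniteType T C) (f : C →ₐc[T] MonoidAlgebra T N)
    (hf : Function.Surjective f) (I : Ideal T) (hI : I ≤ Ideal.jacobson ⊥)
    (hker : ∀ c, f c = 0 → c ∈ I • (⊤ : Submodule T C)) :
    ∃ e : C, IsIdempotentElem e ∧ f e = 0 ∧ e ∈ I • (⊤ : Submodule T C) ∧ ∀ x, f x = 0 → e * x = x := by
  haveI := hft
  haveI : IsNoetherianRing C := Algebra.FiniteType.isNoetherianRing T C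
  let B := MonoidAlgebra T N
  let fA : C →ₐ[T] B := (f : C →ₐ[T] B)
  obtain ⟨sec, hsec⟩ := Module.projective_lifting_property fA.toLinearMap LinearMap.id hf
  have hsec' : ∀ b, f (sec b) = b := fun b => LinearMap.congr_fun hsec b
  let K : Ideal C := RingHom.ker fA.toRingHom
  let J : Ideal C := I.map (algebraMap T C)
  have hK : ∀ x, x ∈ K ↔ f x = 0 := fun x => Iff.rfl
  have hIK : K ≤ J • K := by
    intro x hx
    have key : ∀ w, w ∈ I • (⊤ : Submodule T C) → w - sec (f w) ∈ J • K := by
      intro w hw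
      refine Submodule.smul_induction_on hw (fun r hr c _ => ?_) fun p q hp hq => ?_
      · rw [map_smul f, map_smul sec, ← smul_sub, ← algebraMap_smul C r]
        exact Submodule.smul_mem_smul (Ideal.mem_map_of_mem (algebraMap T C) hr)
          ((hK (c - sec (f c))).mpr (by rw [map_sub f, hsec', sub_self]))
      · rw [map_add f, map_add sec, add_sub_add_comm]
        exact add_mem hp hq
    have h1 := key x (hker x ((hK x).mp hx))
    rwa [(hK x).mp hx, map_zero, sub_zero] at h1
  obtain ⟨r, hr, hrK⟩ := Submodule.exists_mem_and_smul_eq_self_of_fg_of_le_smul J K (IsNoetherian.noetherian _) hIK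
  have hεr : CoalgebraStruct.counit (R := T) r ∈ I := by
    have h1 : r ∈ I • (⊤ : Submodule T C) := (mem_map_iff _ _).mp hr
    have h2 := map_smul_top_mem I (CoalgebraStruct.counit (R := T) (A := C)) h1
    rwa [smul_eq_mul, Ideal.mul_top] at h2
  let s : C := 1 - r
  obtain ⟨w, hw⟩ : IsUnit (CoalgebraStruct.counit (R := T) s) := by
    have := Ideal.mem_jacobson_bot.mp (hI hεr) (-1)
    rw [map_sub, Bialgebra.counit_one]
    simpa [add_comm, sub_eq_add_neg] using this
  have hsK : ∀ k, f k = 0 → s * k = 0 := fun k hk => by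
    have := hrK k ((hK k).mpr hk)
    rw [smul_eq_mul] at this
    rw [sub_mul, one_mul, this, sub_self]
  let iL : B →ₐ[T] B ⊗[T] C := Algebra.TensorProduct.includeLeft
  let iR : C →ₐ[T] B ⊗[T] C := Algebra.TensorProduct.includeRight
  let F : WithConv (C →ₐ[T] B ⊗[T] C) := toConv (iL.comp fA)
  let σ : WithConv (C →ₐ[T] B ⊗[T] C) := cinv F * toConv iR
  have hFσ : F * σ = toConv iR := by
    exact mul_cancel_left' F (cinv F) (toConv iR) (mul_cinv F)
  let L : B ⊗[T] C →ₗ[T] C := LinearMap.mul' T C ∘ₗ TensorProduct.map sec LinearMap.id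
  have hL : ∀ z x, L (z * ((1 : B) ⊗ₜ[T] x)) = L z * x := by
    intro z x
    induction z using TensorProduct.induction_on with
    | zero => simp
    | tmul b c => simp [L, mul_assoc]
    | add p q hp hq => simp only [add_mul, map_add, hp, hq]
  let M : B ⊗[T] C →ₐ[T] B := Algebra.TensorProduct.lift (AlgHom.id T B) fA fun _ _ => Commute.all _ _
  have hM : ∀ z, f (L z) = M z := by
    intro z
    induction z using TensorProduct.induction_on with
    | zero => simp
    | tmul b c =>
      show f (sec b * c) = b * fA c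
      rw [map_mul f, hsec']
      rfl
    | add p q hp hq => simp only [map_add, hp, hq]
  have hMσ : M (σ.ofConv s) = algebraMap T B (CoalgebraStruct.counit (R := T) s) := by
    have h1 : toConv (M.comp σ.ofConv) = 1 := by
      rw [comp_convMul, comp_convInv]
      have e1 : M.comp F.ofConv = fA := AlgHom.ext fun c => by
        show M (fA c ⊗ₜ[T] (1 : C)) = fA c
        simp [M]
      have e2 : M.comp (toConv iR).ofConv = fA := AlgHom.ext fun c => by
        show M ((1 : B) ⊗ₜ[T] c) = fA c
        simp [M]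
      rw [e1, e2]
      exact cinv_mul _
    exact congrArg (fun g : WithConv (C →ₐ[T] B) => g.ofConv s) h1
  have hkill : ∀ x, f x = 0 → σ.ofConv s * ((1 : B) ⊗ₜ[T] x) = 0 := by
    intro x hx
    let Φ : B ⊗[T] C →ₐ[T] B ⊗[T] C := Algebra.TensorProduct.lift iL σ.ofConv fun _ _ => Commute.all _ _
    let y : B ⊗[T] C := TensorProduct.map fA.toLinearMap LinearMap.id (CoalgebraStruct.comul (R := T) x)
    have h1 : Φ y = (1 : B) ⊗ₜ[T] x := by
      refine Eq.trans ?_ (congrArg (fun g : WithConv (C →ₐ[T] B ⊗[T] C) => g.ofConv x) hFσ)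
      show Φ y = Algebra.TensorProduct.lmul' T (Algebra.TensorProduct.map F.ofConv σ.ofConv
        (CoalgebraStruct.comul (R := T) x))
      show Φ (TensorProduct.map fA.toLinearMap LinearMap.id (CoalgebraStruct.comul (R := T) x)) = _
      generalize CoalgebraStruct.comul (R := T) x = z
      induction z using TensorProduct.induction_on with
      | zero => simp
      | tmul a b =>
        show Φ (fA a ⊗ₜ[T] b) = _
        simp [Φ, F]
      | add p q hp hq => simp only [map_add, hp, hq]
    have h2 : fA.toLinearMap.lTensor B y = 0 := by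
      refine Eq.trans ?_ ((congrArg (CoalgebraStruct.comul (R := T)) hx).trans (map_zero _))
      rw [← CoalgHomClass.map_comp_comul_apply f]
      show fA.toLinearMap.lTensor B (TensorProduct.map fA.toLinearMap LinearMap.id (CoalgebraStruct.comul (R := T) x)) = _
      generalize CoalgebraStruct.comul (R := T) x = z
      induction z using TensorProduct.induction_on with
      | zero => simp
      | tmul a b => rfl
      | add p q hp hq => simp only [map_add, hp, hq]
    obtain ⟨z, hz⟩ := (lTensor_exact B (LinearMap.exact_subtype_ker_map fA.toLinearMap) hf y).mp h2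
    rw [← h1, ← hz]
    clear hz h1 h2
    induction z using TensorProduct.induction_on with
    | zero => simp
    | tmul b k =>
      show σ.ofConv s * Φ (b ⊗ₜ[T] (k : C)) = 0
      have : Φ (b ⊗ₜ[T] (k : C)) = iL b * σ.ofConv (k : C) := by simp [Φ]
      rw [this, mul_left_comm, ← map_mul, hsK _ (LinearMap.mem_ker.mp k.2), map_zero, mul_zero]
    | add p q hp hq => simp only [map_add, mul_add, hp, hq, add_zero]
  let v : C := (↑w⁻¹ : T) • L (σ.ofConv s)
  have hfv : f v = 1 := by
    rw [map_smul f, hM, hMσ, ← hw, Algebra.algebraMap_eq_smul_one, smul_smul, Units.inv_mul, one_smul]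
  have hv : ∀ x, f x = 0 → v * x = 0 := fun x hx => by
    rw [smul_mul_assoc, ← hL, hkill x hx, map_zero, smul_zero]
  have hfe : f (1 - v) = 0 := by rw [map_sub, map_one, hfv, sub_self]
  have hex : ∀ x, f x = 0 → (1 - v) * x = x := fun x hx => by rw [sub_mul, one_mul, hv x hx, sub_zero]
  exact ⟨1 - v, hex _ hfe, hfe, hker _ hfe, hex⟩

end Core

/-- Flatness at the points over `I` is stable under base change. -/
theorem flat_localization_baseChange {A : Type u} [CommRing A] (I : Ideal A) (C : Type u) [CommRing C] [Algebra A C]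
    (hfl : ∀ (q : Ideal C) [q.IsPrime], Ideal.map (algebraMap A C) I ≤ q → Module.Flat A (Localization.AtPrime q))
    (S : Type u) [CommRing S] [Algebra A S] (q : Ideal (S ⊗[A] C)) [q.IsPrime]
    (hq : (I.map (algebraMap A S)).map (algebraMap S (S ⊗[A] C)) ≤ q) : Module.Flat S (Localization.AtPrime q) := by
  let iC : C →ₐ[A] S ⊗[A] C := Algebra.TensorProduct.includeRight
  let q' : Ideal C := q.comap iC.toRingHom
  haveI := hfl q' (Ideal.map_le_iff_le_comap.mpr fun r hr => by
    show iC (algebraMap A C r) ∈ q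
    rw [iC.commutes, IsScalarTower.algebraMap_apply A S (S ⊗[A] C)]
    exact hq (Ideal.mem_map_of_mem _ (Ideal.mem_map_of_mem _ hr)))
  let R' := S ⊗[A] C
  let Cq := Localization.AtPrime q'
  let L := S ⊗[A] Cq
  let W := Localization.AtPrime q
  let ψ : R' →ₐ[S] L := Algebra.TensorProduct.map (AlgHom.id S S) (IsScalarTower.toAlgHom A C Cq)
  letI : Algebra R' L := ψ.toRingHom.toAlgebra
  haveI : IsScalarTower S R' L := IsScalarTower.of_algebraMap_eq fun r => (ψ.commutes r).symm
  let N : Submonoid R' := q'.primeCompl.map iC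
  haveI : IsLocalization N L := IsLocalization.tensorProduct_tensorProduct_right A S q'.primeCompl Cq
    (RingHom.ext fun c => rfl)
  have hN : N ≤ q.primeCompl := by
    rintro _ ⟨x, hx, rfl⟩
    exact hx
  let v : L →+* W := IsLocalization.lift (M := N) (g := algebraMap R' W) fun y =>
    IsLocalization.map_units W (⟨y.1, hN y.2⟩ : q.primeCompl)
  letI : Algebra L W := v.toAlgebra
  haveI : IsScalarTower R' L W := IsScalarTower.of_algebraMap_eq fun x => (IsLocalization.lift_eq _ x).symm
  haveI : IsScalarTower S L W := IsScalarTower.of_algebraMap_eq fun r =>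
    ((congrArg (algebraMap L W) (IsScalarTower.algebraMap_apply S R' L r)).trans
      ((IsScalarTower.algebraMap_apply R' L W _).symm.trans (IsScalarTower.algebraMap_apply S R' W r).symm)).symm
  haveI : IsLocalization (q.primeCompl.map (algebraMap R' L)) W :=
    IsLocalization.isLocalization_of_submonoid_le L W N q.primeCompl hN
  haveI : Module.Flat L W := IsLocalization.flat W (q.primeCompl.map (algebraMap R' L))
  exact Module.Flat.trans S L W

section Split

variable {A : Type u} [CommRing A] [IsNoetherianRing A]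

/-- Over a complete pair, a group split modulo `I` has a split open and closed subgroup. -/
theorem exists_idem_split (I : Ideal A) [IsAdicComplete I A] (C : Type u) [CommRing C] [HopfAlgebra A C]
    (hft : Algebra.FiniteType A C)
    (hfl : ∀ (q : Ideal C) [q.IsPrime], Ideal.map (algebraMap A C) I ≤ q → Module.Flat A (Localization.AtPrime q))
    (M : Type u) [CommGroup M] (ε₀ : (A ⧸ I) ⊗[A] C ≃ₐc[A ⧸ I] MonoidAlgebra (A ⧸ I) M) :
    ∃ (f : C →ₐc[A] MonoidAlgebra A M), Function.Surjective f ∧
      ∃ e : C, IsIdempotentElem e ∧ f e = 0 ∧ e ∈ I • (⊤ : Submodule A C) ∧ ∀ x, f x = 0 → e * x = x := by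
  classical
  have hB : SGA3b.IsIsotrivial A (MonoidAlgebra A M) :=
    ⟨A, inferInstance, inferInstance, inferInstance, inferInstance, inferInstance,
      isDiag_baseChange _ ⟨M, inferInstance, ⟨BialgEquiv.refl A _⟩⟩⟩
  let G := diagHom (BialgEquiv.refl A (MonoidAlgebra A M))
  have hGbij : Function.Bijective (theta ((glBC (MonoidAlgebra A M) (A ⧸ I)).comp G)) :=
    (theta_baseChange_bijective_iff (A ⧸ I) G).mpr
      ((LinearEquiv.ofBijective _ (theta_diagHom_bijective (BialgEquiv.refl A (MonoidAlgebra A M)))).lTensor (A ⧸ I)).bijective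
  let E := BialgEquiv.ofBijective (theta ((glBC (MonoidAlgebra A M) (A ⧸ I)).comp G)) hGbij
  let φ₀ : (A ⧸ I) ⊗[A] C →ₐc[A ⧸ I] (A ⧸ I) ⊗[A] MonoidAlgebra A M :=
    (E : MonoidAlgebra (A ⧸ I) M →ₐc[A ⧸ I] _).comp (ε₀ : _ →ₐc[A ⧸ I] MonoidAlgebra (A ⧸ I) M)
  have hq : SGA3b.IsQuasiIsotrivial (A ⧸ I) ((A ⧸ I) ⊗[A] C) :=
    H8MultLift.quasi_of_isotrivial ⟨A ⧸ I, inferInstance, inferInstance, inferInstance, inferInstance, inferInstance,
      isDiag_baseChange _ ⟨M, inferInstance, ⟨ε₀⟩⟩⟩
  obtain ⟨f, hf⟩ := (H8MultFormal.reduction_bijective I hB hfl hq).2 φ₀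
  have hφ : Function.Bijective φ₀ := (EquivLike.bijective E).comp (EquivLike.bijective ε₀)
  have hsurj : Function.Surjective f := by
    refine surjective_of_mod f I (IsAdicComplete.le_jacobson_bot I) fun n => ?_
    obtain ⟨z, hz⟩ := hφ.2 ((1 : A ⧸ I) ⊗ₜ[A] MonoidAlgebra.single n 1)
    obtain ⟨c, rfl⟩ := includeRight_surjective I C z
    refine ⟨c, mem_smul_top_of_one_tmul_eq_zero ?_⟩
    rw [tmul_sub, ← hf, sub_eq_zero]
    exact hz
  refine ⟨f, hsurj, exists_idem_gen hft f hsurj I (IsAdicComplete.le_jacobson_bot I) fun c hc => ?_⟩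
  refine mem_smul_top_of_one_tmul_eq_zero (hφ.1 ?_)
  rw [hf, hc, tmul_zero, map_zero]

end Split

section Descent

variable {A : Type u} [CommRing A] [IsNoetherianRing A] (I : Ideal A) [IsAdicComplete I A]

/-- A finite algebra over a complete Noetherian pair is complete. -/
theorem isAdicComplete_of_finite (S : Type u) [CommRing S] [Algebra A S] [Module.Finite A S] :
    IsAdicComplete (I.map (algebraMap A S)) S := by
  have hmem : ∀ (n : ℕ) (x : S), x ∈ (I.map (algebraMap A S)) ^ n • (⊤ : Submodule S S) ↔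
      x ∈ I ^ n • (⊤ : Submodule A S) := fun n x => by
    rw [smul_eq_mul, Ideal.mul_top, ← Ideal.map_pow, mem_map_iff]
  refine { haus' := fun x hx => finite_separated I S x fun n => ?_, prec' := fun {g} hg => ?_ }
  · exact (hmem n x).mp (SModEq.zero.mp (hx n))
  · obtain ⟨L, hL⟩ := finite_complete I S (fun n => g (n + 1)) fun n => by
      have h := hg (n + 1).le_succ
      rw [SModEq.sub_mem] at h
      have := neg_mem ((hmem _ _).mp h)
      rwa [neg_sub] at this
    refine ⟨L, fun n => ?_⟩
    rcases n with _ | n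
    · rw [SModEq.sub_mem, hmem, pow_zero, Ideal.one_eq_top, Submodule.top_smul]
      exact Submodule.mem_top
    · rw [SModEq.sub_mem, hmem]
      exact hL n

variable {S : Type u} [CommRing S] [Algebra A S] {C : Type u} [CommRing C] [HopfAlgebra A C]
  {M : Type u} [CommGroup M]

include I in
/-- The elements killed by every power of `I` lie in the complement of the subgroup. -/
theorem mul_eq_zero_of_separated (f : S ⊗[A] C →ₐc[S] MonoidAlgebra S M) (hfs : Function.Surjective f)
    (e : S ⊗[A] C) (he : ∀ z, f z = 0 → e * z = z) (hfe : f e = 0)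
    (T : Type u) [CommRing T] [Algebra A T] [Algebra S T] [IsScalarTower A S T] [Module.Finite A T]
    (x : T ⊗[A] C) (hx : ∀ n : ℕ, x ∈ I ^ n • (⊤ : Submodule A (T ⊗[A] C))) :
    bc (IsScalarTower.toAlgHom A S T) (1 - e) * x = 0 := by
  classical
  let B := MonoidAlgebra S M
  let fA : S ⊗[A] C →ₗ[S] B := (f : S ⊗[A] C →ₐ[S] B).toLinearMap
  obtain ⟨sec, hsec⟩ := Module.projective_lifting_property fA LinearMap.id hfs
  let sec' : B →ₗ[S] S ⊗[A] C := LinearMap.mulLeft S (1 - e) ∘ₗ sec
  have hsec' : ∀ c, sec' (fA c) = (1 - e) * c := fun c => by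
    have h1 : f (sec (fA c) - c) = 0 := by
      rw [map_sub, sub_eq_zero]
      exact LinearMap.congr_fun hsec (fA c)
    have h2 := he _ h1
    show (1 - e) * sec (fA c) = _
    linear_combination -h2
  let κ := TensorProduct.AlgebraTensorModule.cancelBaseChange A S T T C
  let Θ : T ⊗[A] C →ₗ[T] T ⊗[S] B := fA.baseChange T ∘ₗ κ.symm.toLinearMap
  let G := diagHom (BialgEquiv.refl S B)
  have hGbij : Function.Bijective (theta ((glBC B T).comp G)) :=
    (theta_baseChange_bijective_iff T G).mpr
      ((LinearEquiv.ofBijective _ (theta_diagHom_bijective (BialgEquiv.refl S B))).lTensor T).bijective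
  let E := BialgEquiv.ofBijective (theta ((glBC B T).comp G)) hGbij
  have hzero : Θ x = 0 := by
    obtain ⟨p, hp⟩ := EquivLike.surjective E (Θ x)
    have hp0 : p = 0 := by
      refine MonoidAlgebra.ext (Finsupp.ext fun m => ?_)
      show p.coeff m = (0 : MonoidAlgebra T M).coeff m
      rw [show (0 : MonoidAlgebra T M).coeff m = 0 by simp]
      refine finite_separated I T _ fun n => ?_
      let Λ : T ⊗[A] C →ₗ[T] T := co m ∘ₗ E.toLinearEquiv.symm.toLinearMap ∘ₗ Θ
      have : Λ x = p.coeff m := by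
        show (E.toLinearEquiv.symm (Θ x)).coeff m = _
        rw [← hp]
        exact congrArg (fun q : MonoidAlgebra T M => q.coeff m) (E.toLinearEquiv.symm_apply_apply p)
      rw [← this]
      exact map_smul_top_mem (I ^ n) (Λ.restrictScalars A) (hx n)
    rw [← hp, hp0, map_zero]
  let Sg : T ⊗[S] B →ₗ[T] T ⊗[A] C := κ.toLinearMap ∘ₗ sec'.baseChange T
  have hkey : ∀ z : T ⊗[A] C, Sg (Θ z) = bc (IsScalarTower.toAlgHom A S T) (1 - e) * z := by
    intro z
    induction z using TensorProduct.induction_on with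
    | zero => simp
    | tmul t c =>
      have h1 : κ.symm (t ⊗ₜ[A] c) = t ⊗ₜ[S] ((1 : S) ⊗ₜ[A] c) := by simp [κ]
      show κ (sec'.baseChange T (fA.baseChange T (κ.symm (t ⊗ₜ[A] c)))) = _
      rw [h1, LinearMap.baseChange_tmul, LinearMap.baseChange_tmul, hsec']
      generalize (1 - e) = y
      induction y using TensorProduct.induction_on with
      | zero => simp
      | tmul a b => simp [κ, bc_tmul, Algebra.smul_def, mul_comm]
      | add p q hp hq => simp only [add_mul, tmul_add, map_add, hp, hq]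
    | add p q hp hq => simp only [map_add, mul_add, hp, hq]
  rw [← hkey, hzero, map_zero]

include I in
/-- The same along a chosen map. -/
theorem mul_eq_zero_of_separated' (f : S ⊗[A] C →ₐc[S] MonoidAlgebra S M) (hfs : Function.Surjective f)
    (e : S ⊗[A] C) (he : ∀ z, f z = 0 → e * z = z) (hfe : f e = 0)
    (T : Type u) [CommRing T] [Algebra A T] [Module.Finite A T] (i : S →ₐ[A] T)
    (x : T ⊗[A] C) (hx : ∀ n : ℕ, x ∈ I ^ n • (⊤ : Submodule A (T ⊗[A] C))) :
    bc i (1 - e) * x = 0 := by
  letI : Algebra S T := i.toRingHom.toAlgebra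
  haveI : IsScalarTower A S T := IsScalarTower.of_algebraMap_eq fun r => (i.commutes r).symm
  have := mul_eq_zero_of_separated I f hfs e he hfe T x hx
  rwa [show IsScalarTower.toAlgHom A S T = i from AlgHom.ext fun _ => rfl] at this

set_option maxHeartbeats 1600000 in
set_option synthInstance.maxHeartbeats 400000 in
/-- The open and closed subgroup of multiplicative type over a complete pair. -/
theorem exists_clopen (hft : Algebra.FiniteType A C)
    (hfl : ∀ (q : Ideal C) [q.IsPrime], Ideal.map (algebraMap A C) I ≤ q → Module.Flat A (Localization.AtPrime q))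
    (h0 : SGA3b.IsIsotrivial (A ⧸ I) ((A ⧸ I) ⊗[A] C)) :
    ∃ e : C, IsIdempotentElem e ∧ e ∈ Ideal.map (algebraMap A C) I ∧
      ∃ _ : (Ideal.span {e}).IsHopfIdeal A, SGA3b.IsIsotrivial A (C ⧸ Ideal.span {e}) := by
  classical
  obtain ⟨S₀, _, _, het₀, hfin₀, hff₀, hd⟩ := h0
  haveI := het₀
  haveI := hfin₀
  haveI := hff₀
  obtain ⟨S, _, _, hSfin, hSet, ⟨ε⟩⟩ := H8CompleteEtale.exists_finite_etale_lift I S₀
  haveI := hSfin
  haveI := hSet
  haveI : Module.FaithfullyFlat A S := H8MultComplete.ff_of_lift I (IsAdicComplete.le_jacobson_bot I) ε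
  haveI : IsNoetherianRing S := Algebra.FiniteType.isNoetherianRing A S
  let J := I.map (algebraMap A S)
  haveI : IsAdicComplete J S := isAdicComplete_of_finite I S
  have hdiag : SGA3b.IsDiag (S ⧸ J) ((S ⧸ J) ⊗[S] (S ⊗[A] C)) := by
    let ρ : A ⧸ I →ₐ[A] S ⧸ J := Ideal.Quotient.liftₐ I (Algebra.ofId A (S ⧸ J)) fun r hr =>
      Ideal.Quotient.eq_zero_iff_mem.mpr (Ideal.mem_map_of_mem _ hr)
    letI : Algebra (A ⧸ I) (S ⧸ J) := ρ.toRingHom.toAlgebra
    haveI : IsScalarTower A (A ⧸ I) (S ⧸ J) := IsScalarTower.of_algebraMap_eq fun r => (ρ.commutes r).symm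
    let κ : S₀ →ₐ[A ⧸ I] S ⧸ J :=
      (Algebra.TensorProduct.lift (Algebra.ofId (A ⧸ I) (S ⧸ J)) (Ideal.Quotient.mkₐ A J) fun _ _ => Commute.all _ _).comp
        ε.symm.toAlgHom
    letI : Algebra S₀ (S ⧸ J) := κ.toRingHom.toAlgebra
    haveI : IsScalarTower (A ⧸ I) S₀ (S ⧸ J) := IsScalarTower.of_algebraMap_eq fun r => (κ.commutes r).symm
    exact isDiag_uncancel (S ⧸ J) S (isDiag_cancel (S ⧸ J) (A ⧸ I) (isDiag_cancel (S ⧸ J) S₀ (isDiag_baseChange _ hd)))
  obtain ⟨M, _, ⟨ε₀⟩⟩ := hdiag
  have hflS : ∀ (q : Ideal (S ⊗[A] C)) [q.IsPrime], Ideal.map (algebraMap S (S ⊗[A] C)) J ≤ q →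
      Module.Flat S (Localization.AtPrime q) := by
    intro q _ hq
    exact flat_localization_baseChange I C hfl S q hq
  haveI := hft
  obtain ⟨f, hfs, e, hee, hfe, heI, hex⟩ := exists_idem_split J (S ⊗[A] C) inferInstance hflS M ε₀
  have heI' : e ∈ I • (⊤ : Submodule A (S ⊗[A] C)) := by
    refine (mem_map_iff I e).mp ?_
    rw [IsScalarTower.algebraMap_eq A S (S ⊗[A] C), ← Ideal.map_map]
    exact (mem_map_iff J e).mpr heI
  let T := S ⊗[A] S
  let i1 : S →ₐ[A] T := Algebra.TensorProduct.includeLeft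
  let i2 : S →ₐ[A] T := Algebra.TensorProduct.includeRight
  have hpow : ∀ (i : S →ₐ[A] T) (n : ℕ), bc i e ∈ I ^ n • (⊤ : Submodule A (T ⊗[A] C)) := by
    intro i n
    induction n with
    | zero =>
      rw [pow_zero, Ideal.one_eq_top, Submodule.top_smul]
      exact Submodule.mem_top
    | succ n ih =>
      rw [show bc i e = bc i e * bc i e by rw [← map_mul, hee], pow_succ]
      exact mul_mem_smul_top ih (map_smul_top_mem I (bc i).toLinearMap heI')
  have h12 : ∀ (i i' : S →ₐ[A] T), bc i (1 - e) * bc i' e = 0 := by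
    intro i i'
    haveI : Module.Finite A T := Module.Finite.tensorProduct A S S
    exact mul_eq_zero_of_separated' I f hfs e hex hfe T i (bc i' e) (hpow i')
  have heq : bc i2 e = bc i1 e := by
    have h1 := h12 i1 i2
    have h2 := h12 i2 i1
    rw [map_sub, map_one, sub_mul, one_mul, sub_eq_zero] at h1 h2
    rw [h1]
    refine Eq.trans ?_ h2.symm
    rw [mul_comm]
  obtain ⟨c, hc⟩ := descend e (by
    have key1 : ∀ z : S ⊗[A] C, TensorProduct.assoc A S S C (bc i2 z) = (1 : S) ⊗ₜ[A] z := by
      intro z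
      induction z using TensorProduct.induction_on with
      | zero => simp
      | tmul a b => rfl
      | add p q hp hq => simp only [map_add, tmul_add, hp, hq]
    have key2 : ∀ z : S ⊗[A] C, TensorProduct.assoc A S S C (bc i1 z) = (TensorProduct.mk A S C 1).lTensor S z := by
      intro z
      induction z using TensorProduct.induction_on with
      | zero => simp
      | tmul a b => rfl
      | add p q hp hq => simp only [map_add, hp, hq]
    rw [← key1, ← key2, heq])
  have hinj : ∀ (N : Type u) [AddCommGroup N] [Module A N], Function.Injective fun x : N => (1 : S) ⊗ₜ[A] x :=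
    fun N _ _ => Module.FaithfullyFlat.tensorProduct_mk_injective N
  have hidem : IsIdempotentElem c := hinj C (by
    show (1 : S) ⊗ₜ[A] (c * c) = (1 : S) ⊗ₜ[A] c
    rw [show (1 : S) ⊗ₜ[A] (c * c) = ((1 : S) ⊗ₜ[A] c) * ((1 : S) ⊗ₜ[A] c) by simp, hc, hee])
  have hcI : c ∈ I • (⊤ : Submodule A C) := by
    refine mem_smul_top_of_one_tmul_eq_zero (hinj _ ?_)
    show (1 : S) ⊗ₜ[A] ((1 : A ⧸ I) ⊗ₜ[A] c) = (1 : S) ⊗ₜ[A] (0 : (A ⧸ I) ⊗[A] C)
    rw [tmul_zero, show (1 : S) ⊗ₜ[A] ((1 : A ⧸ I) ⊗ₜ[A] c) =
      (TensorProduct.mk A (A ⧸ I) C 1).lTensor S ((1 : S) ⊗ₜ[A] c) from rfl, hc]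
    refine Submodule.smul_induction_on heI' (fun r hr z _ => ?_) fun p q hp hq => by rw [map_add, hp, hq, add_zero]
    rw [map_smul]
    generalize (TensorProduct.mk A (A ⧸ I) C 1).lTensor S z = y
    induction y using TensorProduct.induction_on with
    | zero => simp
    | tmul a b =>
      rw [← tmul_smul, ← algebraMap_smul (A ⧸ I) r b, Ideal.Quotient.algebraMap_eq,
        Ideal.Quotient.eq_zero_iff_mem.mpr hr, zero_smul, tmul_zero]
    | add p q hp hq => rw [smul_add, hp, hq, add_zero]
  let K : Ideal C := Ideal.span {c}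
  let X := C ⧸ K
  let fc : C →ₐ[A] MonoidAlgebra S M :=
    ((f : S ⊗[A] C →ₐ[S] MonoidAlgebra S M).restrictScalars A).comp Algebra.TensorProduct.includeRight
  let g : X →ₐ[A] MonoidAlgebra S M := Ideal.Quotient.liftₐ K fc fun x hx => by
    obtain ⟨d, rfl⟩ := Ideal.mem_span_singleton'.mp hx
    show f ((1 : S) ⊗ₜ[A] (d * c)) = 0
    rw [show (1 : S) ⊗ₜ[A] (d * c) = ((1 : S) ⊗ₜ[A] d) * ((1 : S) ⊗ₜ[A] c) by simp, hc, map_mul f, hfe, mul_zero]
  let Ψ : S ⊗[A] X →ₐ[S] MonoidAlgebra S M :=
    Algebra.TensorProduct.lift (Algebra.ofId S _) g fun _ _ => Commute.all _ _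
  let π : S ⊗[A] C →ₐ[S] S ⊗[A] X := Algebra.TensorProduct.map (AlgHom.id S S) (Ideal.Quotient.mkₐ A K)
  have hΨπ : ∀ z, Ψ (π z) = f z := by
    intro z
    induction z using TensorProduct.induction_on with
    | zero => simp
    | tmul a b =>
      show Algebra.ofId S (MonoidAlgebra S M) a * f ((1 : S) ⊗ₜ[A] b) = f (a ⊗ₜ[A] b)
      rw [show (a ⊗ₜ[A] b : S ⊗[A] C) = a • ((1 : S) ⊗ₜ[A] b) by simp [smul_tmul'], map_smul f, Algebra.smul_def]
      rfl
    | add p q hp hq => simp only [map_add, hp, hq]
  have hπs : Function.Surjective π := fun w => by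
    induction w using TensorProduct.induction_on with
    | zero => exact ⟨0, map_zero π⟩
    | tmul a b =>
      obtain ⟨b, rfl⟩ := Ideal.Quotient.mk_surjective b
      exact ⟨a ⊗ₜ b, rfl⟩
    | add p q hp hq =>
      obtain ⟨x, rfl⟩ := hp
      obtain ⟨y, rfl⟩ := hq
      exact ⟨x + y, map_add π x y⟩
  have hπ0 : ∀ z, f z = 0 → π z = 0 := fun z hz => by
    have h1 : π e = 0 := by
      rw [← hc]
      show (1 : S) ⊗ₜ[A] (Ideal.Quotient.mk K c) = 0
      rw [Ideal.Quotient.eq_zero_iff_mem.mpr (Ideal.mem_span_singleton_self c), tmul_zero]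
    rw [← hex z hz, map_mul, h1, zero_mul]
  have hΨbij : Function.Bijective Ψ := by
    refine ⟨(injective_iff_map_eq_zero Ψ).mpr fun w hw => ?_, fun b => ?_⟩
    · obtain ⟨z, rfl⟩ := hπs w
      exact hπ0 z (by rw [← hΨπ, hw])
    · obtain ⟨z, rfl⟩ := hfs b
      exact ⟨π z, hΨπ z⟩
  haveI hK : K.IsHopfIdeal A :=
    { counit_eq_zero := fun x hx => by
        obtain ⟨d, rfl⟩ := Ideal.mem_span_singleton'.mp hx
        rw [Bialgebra.counit_mul]
        have h1 : CoalgebraStruct.counit (R := S) e = 0 := by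
          rw [← CoalgHomClass.counit_comp_apply f, hfe, map_zero]
        rw [← hc, TensorProduct.counit_tmul, Bialgebra.counit_one] at h1
        have h2 : CoalgebraStruct.counit (R := A) c = 0 := FaithfulSMul.algebraMap_injective A S (by
          rw [map_zero, Algebra.algebraMap_eq_smul_one]
          simpa using h1)
        rw [h2, mul_zero]
      map_mkQ_comul_eq_zero := fun x hx => by
        obtain ⟨d, rfl⟩ := Ideal.mem_span_singleton'.mp hx
        let q2 : C ⊗[A] C →ₐ[A] X ⊗[A] X :=
          Algebra.TensorProduct.map (Ideal.Quotient.mkₐ A K) (Ideal.Quotient.mkₐ A K)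
        have hq2 : ∀ z, TensorProduct.map (K.restrictScalars A).mkQ (K.restrictScalars A).mkQ z = q2 z := by
          intro z
          induction z using TensorProduct.induction_on with
          | zero => simp; rfl
          | tmul a b => rfl
          | add p q hp hq => simp only [map_add, hp, hq]; rfl
        have hcc : q2 (CoalgebraStruct.comul (R := A) c) = 0 := by
          refine hinj (X ⊗[A] X) ((TensorProduct.AlgebraTensorModule.distribBaseChange A S X X).injective ?_)
          let ΨL : S ⊗[A] X ≃ₗ[S] MonoidAlgebra S M := LinearEquiv.ofBijective Ψ.toLinearMap hΨbij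
          apply (TensorProduct.congr ΨL ΨL).injective
          show TensorProduct.congr ΨL ΨL (TensorProduct.AlgebraTensorModule.distribBaseChange A S X X
            ((1 : S) ⊗ₜ[A] q2 (CoalgebraStruct.comul (R := A) c))) = TensorProduct.congr ΨL ΨL
              (TensorProduct.AlgebraTensorModule.distribBaseChange A S X X ((1 : S) ⊗ₜ[A] (0 : X ⊗[A] X)))
          rw [tmul_zero, map_zero, map_zero]
          have h1 : TensorProduct.map (f : S ⊗[A] C →ₐ[S] MonoidAlgebra S M).toLinearMap
              (f : S ⊗[A] C →ₐ[S] MonoidAlgebra S M).toLinearMap (CoalgebraStruct.comul (R := S) e) = 0 := by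
            refine Eq.trans (CoalgHomClass.map_comp_comul_apply f e) ?_
            rw [hfe, map_zero]
          refine Eq.trans ?_ h1
          rw [← hc, comul_one_tmul]
          generalize CoalgebraStruct.comul (R := A) c = z
          induction z using TensorProduct.induction_on with
          | zero => simp
          | tmul a b =>
            simp only [q2, Algebra.TensorProduct.map_tmul, sq_tmul, TensorProduct.map_tmul,
              TensorProduct.AlgebraTensorModule.distribBaseChange_tmul, TensorProduct.congr_tmul]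
            exact congrArg₂ (· ⊗ₜ[S] ·) (hΨπ ((1 : S) ⊗ₜ[A] a)) (hΨπ ((1 : S) ⊗ₜ[A] b))
          | add p q hp hq => simp only [map_add, tmul_add, hp, hq]
        rw [hq2, Bialgebra.comul_mul, map_mul q2, hcc, mul_zero]
        rfl
      antipode_mem := fun x hx => by
        obtain ⟨d, rfl⟩ := Ideal.mem_span_singleton'.mp hx
        rw [HopfAlgebra.antipode_mul_antidistrib]
        refine Ideal.mul_mem_right _ _ ?_
        refine Ideal.Quotient.eq_zero_iff_mem.mp (hinj X ?_)
        show π ((1 : S) ⊗ₜ[A] HopfAlgebraStruct.antipode A c) = (1 : S) ⊗ₜ[A] (0 : X)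
        rw [tmul_zero]
        refine hπ0 _ ?_
        have h1 : (1 : S) ⊗ₜ[A] HopfAlgebraStruct.antipode A c = HopfAlgebraStruct.antipode S e := by
          rw [← hc]
          simp [TensorProduct.antipode_def]
        rw [h1, map_antipode f, hfe, map_zero] }
  refine ⟨c, hidem, (mem_map_iff I c).mpr hcI, hK, ⟨S, inferInstance, inferInstance, inferInstance, inferInstance,
    inferInstance, M, inferInstance, ?_⟩⟩
  let πB : S ⊗[A] C →ₐc[S] S ⊗[A] X :=
    Bialgebra.TensorProduct.map (BialgHom.id S S) (Bialgebra.Quotient.mkBialgHom K)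
  have hπB : ∀ z, πB z = π z := by
    intro z
    induction z using TensorProduct.induction_on with
    | zero => simp
    | tmul a b => rfl
    | add p q hp hq => simp only [map_add, hp, hq]
  refine ⟨BialgEquiv.ofBijective (BialgHom.ofAlgHom Ψ ?_ ?_) hΨbij⟩
  · refine AlgHom.ext fun w => ?_
    obtain ⟨z, rfl⟩ := hπs w
    show CoalgebraStruct.counit (R := S) (Ψ (π z)) = CoalgebraStruct.counit (R := S) (π z)
    rw [hΨπ, ← hπB, CoalgHomClass.counit_comp_apply πB]
    exact CoalgHomClass.counit_comp_apply f z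
  · refine AlgHom.ext fun w => ?_
    obtain ⟨z, rfl⟩ := hπs w
    show Algebra.TensorProduct.map Ψ Ψ (CoalgebraStruct.comul (R := S) (π z)) = CoalgebraStruct.comul (R := S) (Ψ (π z))
    rw [hΨπ, ← hπB, ← CoalgHomClass.map_comp_comul_apply πB, ← CoalgHomClass.map_comp_comul_apply f]
    generalize CoalgebraStruct.comul (R := S) z = y
    induction y using TensorProduct.induction_on with
    | zero => simp
    | tmul a b =>
      show Algebra.TensorProduct.map Ψ Ψ (πB a ⊗ₜ[S] πB b) = f a ⊗ₜ[S] f b
      rw [Algebra.TensorProduct.map_tmul, hπB, hπB, hΨπ, hΨπ]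
    | add p q hp hq => simp only [map_add, hp, hq]

end Descent

end Groth.Agent.H8MultOpen
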