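import Mathlib
import Groth.Prelude.Def_SGA3b
import Groth.Agent.Lib.H8MultCore
import Groth.Agent.Lib.H8Mult
import Groth.Agent.Lib.H8MultGL
import Groth.Agent.Lib.H8CharFrame
import Groth.Agent.Lib.H8MultIso
import Groth.Agent.Lib.H8MultOpen
import Groth.Agent.Lib.H8MultFinite

/-!
# Connected fibres over complete pairs
-/

set_option autoImplicit false
set_option linter.all false

universe u

open TensorProduct

namespace Groth.Agent.H8MultOpenApps

open H8MultCore H8Mult H8MultGL H8CharFrame H8MultIso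

variable {A : Type u} [CommRing A] {C : Type u} [CommRing C] [HopfAlgebra A C]

/-- An isomorphism of groups gives one of group algebras. -/
noncomputable def congrB (R : Type*) [CommRing R] {M N : Type*} [CommGroup M] [CommGroup N] (μ : M ≃* N) :
    MonoidAlgebra R M ≃ₐc[R] MonoidAlgebra R N :=
  BialgEquiv.ofBijective (MonoidAlgebra.mapDomainBialgHom R (μ : M →* N))
    (Function.bijective_iff_has_inverse.mpr ⟨MonoidAlgebra.mapDomainBialgHom R (μ.symm : N →* M),
      fun x => by
        rw [MonoidAlgebra.mapDomainBialgHom_mapDomainBialgHom,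
          show (μ.symm : N →* M).comp (μ : M →* N) = MonoidHom.id M from MonoidHom.ext μ.symm_apply_apply,
          MonoidAlgebra.mapDomainBialgHom_id]
        rfl,
      fun x => by
        rw [MonoidAlgebra.mapDomainBialgHom_mapDomainBialgHom,
          show (μ : M →* N).comp (μ.symm : N →* M) = MonoidHom.id N from MonoidHom.ext μ.apply_symm_apply,
          MonoidAlgebra.mapDomainBialgHom_id]
        rfl⟩)

/-- An idempotent with vanishing counit is zero when the fibres are connected. -/
theorem eq_zero_of_connected (hconn : ∀ (p : Ideal A) [p.IsPrime], ConnectedSpace (PrimeSpectrum (p.ResidueField ⊗[A] C)))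
    (e : C) (he : IsIdempotentElem e) (hε : CoalgebraStruct.counit (R := A) e = 0) : e = 0 := by
  refine he.eq_zero_of_isNilpotent (mem_nilradical.mp ?_)
  rw [nilradical_eq_sInf]
  refine Submodule.mem_sInf.mpr fun (Q : Ideal C) (hQ : Q.IsPrime) => ?_
  haveI : Q.IsPrime := hQ
  let p := Q.comap (algebraMap A C)
  haveI := hconn p
  let F := p.ResidueField ⊗[A] C
  let ē : F := (1 : p.ResidueField) ⊗ₜ[A] e
  have h0 : ē = 0 := by
    have hid : IsIdempotentElem ē := he.map (Algebra.TensorProduct.includeRight : C →ₐ[A] F)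
    rcases H8MultFinite.idem_of_connected ē hid with h | h
    · exact h
    · exfalso
      have h1 := congrArg (CoalgebraStruct.counit (R := p.ResidueField)) h
      rw [Bialgebra.counit_one, TensorProduct.counit_tmul, hε] at h1
      simp at h1
  let ψ : F →ₐ[A] Q.ResidueField :=
    Algebra.TensorProduct.lift
      (Ideal.ResidueField.mapₐ p Q (Algebra.ofId A C) rfl)
      (IsScalarTower.toAlgHom A C Q.ResidueField) fun _ _ => Commute.all _ _
  have h2 : ψ ē = 0 := by rw [h0, map_zero]
  have h3 : algebraMap C Q.ResidueField e = 0 := by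
    rw [← h2]
    show _ = (Ideal.ResidueField.mapₐ p Q (Algebra.ofId A C) rfl) 1 * algebraMap C Q.ResidueField e
    rw [map_one, one_mul]
  exact Ideal.algebraMap_residueField_eq_zero.mp h3

/-- A quotient by the zero ideal is the group itself. -/
theorem isotrivial_of_span_zero {e : C} (he : e = 0) [(Ideal.span {e}).IsHopfIdeal A]
    (h : SGA3b.IsIsotrivial A (C ⧸ Ideal.span {e})) : SGA3b.IsIsotrivial A C := by
  obtain ⟨R', _, _, het, hfin, hff, M, _, ⟨ε⟩⟩ := h
  refine ⟨R', inferInstance, inferInstance, het, hfin, hff, M, inferInstance, ?_⟩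
  let π := Bialgebra.Quotient.mkBialgHom (R := A) (Ideal.span {e})
  have hπ : Function.Bijective π := ⟨(injective_iff_map_eq_zero π).mpr fun x hx => by
    have := Ideal.Quotient.eq_zero_iff_mem.mp hx
    rwa [he, Ideal.span_singleton_eq_bot.mpr rfl] at this, Ideal.Quotient.mk_surjective⟩
  let P : R' ⊗[A] C →ₐc[R'] R' ⊗[A] (C ⧸ Ideal.span {e}) := Bialgebra.TensorProduct.map (BialgHom.id R' R') π
  have hP : ∀ z, P z = (π : C →ₐ[A] _).toLinearMap.lTensor R' z := by
    intro z
    induction z using TensorProduct.induction_on with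
    | zero => simp
    | tmul a b => rfl
    | add p q hp hq => simp only [map_add, hp, hq]
  have hPb : Function.Bijective P := by
    let πl : C →ₗ[A] C ⧸ Ideal.span {e} := (π : C →ₐ[A] C ⧸ Ideal.span {e}).toLinearMap
    rw [show ⇑P = πl.lTensor R' from funext hP]
    exact ((LinearEquiv.ofBijective πl hπ).lTensor R').bijective
  exact ⟨(BialgEquiv.ofBijective P hPb).trans ε⟩

set_option maxHeartbeats 800000 in
set_option synthInstance.maxHeartbeats 100000 in
/-- An isotrivial group which is a torus modulo an ideal in the radical is a torus. -/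
theorem isTorus_of_mod (I : Ideal A) (hI : I ≤ Ideal.jacobson ⊥) (hiso : SGA3b.IsIsotrivial A C)
    (h0 : SGA3b.IsTorus (A ⧸ I) ((A ⧸ I) ⊗[A] C)) : SGA3b.IsTorus A C := by
  classical
  obtain ⟨R', _, _, het, hfin, hff, M, _, ⟨e₁⟩⟩ := hiso
  haveI := hff
  suffices h : ∃ n : ℕ, Nonempty ((R' ⊗[A] C) ≃ₐc[R'] MonoidAlgebra R' (Multiplicative (Fin n → ℤ))) by
    obtain ⟨n, ⟨e⟩⟩ := h
    refine ⟨{1}, by simp, fun g hg => ?_⟩
    obtain rfl := Set.mem_singleton_iff.mp hg
    let L1 := Localization.Away (1 : A)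
    let b : A ≃ₐ[A] L1 := IsLocalization.atUnits A (Submonoid.powers (1 : A)) (by simp)
    letI : Algebra L1 R' := ((algebraMap A R').comp b.symm.toAlgHom.toRingHom).toAlgebra
    haveI : IsScalarTower A L1 R' := IsScalarTower.of_algebraMap_eq fun r => by
      show algebraMap A R' r = algebraMap A R' (b.symm (algebraMap A L1 r))
      rw [b.symm.commutes]
      rfl
    refine ⟨R', inferInstance, inferInstance, ?_, n, ⟨(cancelBialg (R := A) C L1 R').symm.trans e⟩⟩
    letI : Algebra L1 A := b.symm.toAlgHom.toRingHom.toAlgebra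
    haveI : IsScalarTower L1 A R' := IsScalarTower.of_algebraMap_eq' rfl
    haveI : Module.FaithfullyFlat L1 A :=
      Module.FaithfullyFlat.of_linearEquiv L1 L1
        (AlgEquiv.ofBijective (Algebra.ofId L1 A) b.symm.bijective).toLinearEquiv.symm
    exact Module.FaithfullyFlat.trans L1 A R'
  rcases subsingleton_or_nontrivial A with hA | hA
  · haveI : Subsingleton R' := Module.subsingleton A R'
    haveI : Subsingleton (R' ⊗[A] C) := Module.subsingleton R' _
    haveI : Subsingleton (MonoidAlgebra R' (Multiplicative (Fin 0 → ℤ))) := Module.subsingleton R' _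
    exact ⟨0, ⟨BialgEquiv.ofBijective (Bialgebra.counitBialgHom R' _ |> fun φ =>
      (Bialgebra.unitBialgHom R' (MonoidAlgebra R' (Multiplicative (Fin 0 → ℤ)))).comp φ)
      ⟨fun _ _ _ => Subsingleton.elim _ _, fun y => ⟨0, Subsingleton.elim _ _⟩⟩⟩⟩
  haveI : Nontrivial (A ⧸ I) := Ideal.Quotient.nontrivial_iff.mpr fun htop => by
    have h1 : (1 : A) ∈ Ideal.jacobson ⊥ := hI (htop ▸ Submodule.mem_top)
    have h2 := Ideal.mem_jacobson_bot.mp h1 (-1)
    simp at h2
  obtain ⟨s, hs, hf⟩ := h0
  obtain ⟨g, hg, hgn⟩ : ∃ g ∈ s, ¬ IsNilpotent g := by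
    by_contra hcon
    push Not at hcon
    have h1 : (1 : A ⧸ I) ∈ nilradical (A ⧸ I) := by
      have : Ideal.span s ≤ nilradical (A ⧸ I) := Ideal.span_le.mpr fun x hx => mem_nilradical.mpr (hcon x hx)
      exact this (hs.ge Submodule.mem_top)
    exact not_isNilpotent_one (mem_nilradical.mp h1)
  obtain ⟨R'', _, _, hff'', n, ⟨e₂⟩⟩ := hf g hg
  haveI := hff''
  let L0 := Localization.Away g
  haveI : Nontrivial L0 := by
    by_contra hcon
    rw [not_nontrivial_iff_subsingleton] at hcon
    obtain ⟨k, hk⟩ := (IsLocalization.subsingleton_iff (M := Submonoid.powers g) (S := L0)).mp hcon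
    exact hgn ⟨k, hk⟩
  haveI : Nontrivial R'' := (FaithfulSMul.algebraMap_injective L0 R'').nontrivial
  letI : Algebra (A ⧸ I) R'' := ((algebraMap L0 R'').comp (algebraMap (A ⧸ I) L0)).toAlgebra
  haveI : IsScalarTower (A ⧸ I) L0 R'' := IsScalarTower.of_algebraMap_eq' rfl
  letI : Algebra A R'' := ((algebraMap (A ⧸ I) R'').comp (algebraMap A (A ⧸ I))).toAlgebra
  haveI : IsScalarTower A (A ⧸ I) R'' := IsScalarTower.of_algebraMap_eq' rfl
  let N := ULift.{u} (Multiplicative (Fin n → ℤ))
  let e₂' : R'' ⊗[A] C ≃ₐc[R''] MonoidAlgebra R'' N :=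
    (((cancelBialg (R := A) C (A ⧸ I) R'').trans (cancelBialg (R := A ⧸ I) ((A ⧸ I) ⊗[A] C) L0 R'')).trans e₂).trans
      (congrB R'' MulEquiv.ulift.symm)
  let T := R' ⊗[A] R''
  haveI : Nontrivial T :=
    (Module.FaithfullyFlat.tensorProduct_mk_injective (A := A) (B := R') R'').nontrivial
  obtain ⟨𝔪, h𝔪⟩ := Ideal.exists_maximal T
  haveI := h𝔪
  letI : Field (T ⧸ 𝔪) := Ideal.Quotient.field 𝔪
  let L := T ⧸ 𝔪
  let i1 : R' →ₐ[A] L := (Ideal.Quotient.mkₐ A 𝔪).comp Algebra.TensorProduct.includeLeft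
  let i2 : R'' →ₐ[A] L := (Ideal.Quotient.mkₐ A 𝔪).comp Algebra.TensorProduct.includeRight
  let D1 : M →* GroupLike L (L ⊗[A] C) := (glMap i1).comp (diagHom e₁)
  let D2 : N →* GroupLike L (L ⊗[A] C) := (glMap i2).comp (diagHom e₂')
  have hD1 : Function.Bijective (theta D1) := frame_map _ (theta_diagHom_bijective e₁) i1
  have hD2 : Function.Bijective (theta D2) := frame_map _ (theta_diagHom_bijective e₂') i2
  choose f hf using fun m => frame_surjective D1 hD1 (D2 m)
  let F : N →* M :=
    { toFun := f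
      map_one' := frame_injective D1 hD1 (by rw [hf, map_one, map_one])
      map_mul' := fun a b => frame_injective D1 hD1 (by rw [hf, map_mul, map_mul, hf, hf]) }
  have hF : Function.Bijective F := (frame_comp_iff D1 hD1 F).mp (by
    rw [show D1.comp F = D2 from MonoidHom.ext hf]
    exact hD2)
  let μ : N ≃* M := MulEquiv.ofBijective F hF
  exact ⟨n, ⟨e₁.trans (congrB R' (μ.symm.trans MulEquiv.ulift))⟩⟩

end Groth.Agent.H8MultOpenApps
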