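import Mathlib
import Groth.Prelude.Def_SGA3b
import Groth.Agent.Lib.H8MultCore
import Groth.Agent.Lib.H8Mult
import Groth.Agent.Lib.H8MultAdic
import Groth.Agent.Lib.H8MultGL
import Groth.Agent.Lib.H8CharFrame
import Groth.Agent.Lib.H8CharQuasi
import Groth.Agent.Lib.H8MultLift
import Groth.Agent.Lib.H8MultKer

/-!
# Monomorphisms and kernels of homomorphisms of groups of multiplicative type
-/

set_option autoImplicit false

universe u

open TensorProduct

namespace Groth.Agent.H8MultMono

open H8MultCore H8Mult H8MultAdic H8MultGL H8MultKer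

variable {R : Type u} [CommRing R] {A : Type u} [CommRing A] [HopfAlgebra R A] {C : Type u} [CommRing C]
  [HopfAlgebra R C]

/-- A homomorphism after base change, in the coordinates of a diagonalisation. -/
noncomputable def phiT (φ : C →ₐc[R] A) {T : Type u} [CommRing T] [Algebra R T] {N : Type u} [CommGroup N]
    (e : T ⊗[R] A ≃ₐc[T] MonoidAlgebra T N) : T ⊗[R] C →ₐc[T] MonoidAlgebra T N :=
  (e : T ⊗[R] A →ₐc[T] MonoidAlgebra T N).comp (Bialgebra.TensorProduct.map (BialgHom.id T T) φ)

lemma phiT_tmul (φ : C →ₐc[R] A) {T : Type u} [CommRing T] [Algebra R T] {N : Type u} [CommGroup N]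
    (e : T ⊗[R] A ≃ₐc[T] MonoidAlgebra T N) (t : T) (c : C) : phiT φ e (t ⊗ₜ c) = e (t ⊗ₜ φ c) := rfl

/-- A monomorphism from a diagonalisable group: all characters are full. -/
theorem phiT_surjective (φ : C →ₐc[R] A)
    (hmono : ∀ (T : Type u) [CommRing T] [Algebra R T],
      Function.Injective (fun x : A →ₐ[R] T => x.comp (φ : C →ₐ[R] A)))
    {T : Type u} [CommRing T] [Algebra R T] {N : Type u} [CommGroup N]
    (e : T ⊗[R] A ≃ₐc[T] MonoidAlgebra T N) : Function.Surjective (phiT φ e) := by
  classical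
  have hfull : ∀ n, n ∈ fullSubgroup (phiT φ e) := by
    intro n
    by_contra hn
    have htop : LinearMap.range (coef (phiT φ e) n) ≠ (⊤ : Ideal T) := fun h => hn (by
      obtain ⟨c, hc⟩ : (1 : T) ∈ LinearMap.range (coef (phiT φ e) n) := by rw [h]; trivial
      exact ⟨c, hc⟩)
    obtain ⟨mx, hmx, hle⟩ := Ideal.exists_le_maximal _ htop
    let N' : Subgroup N :=
      { carrier := {k | ∃ c, coef (phiT φ e) k c ∉ mx}
        one_mem' := ⟨1, by rw [coef_one]; exact (Ideal.ne_top_iff_one mx).mp hmx.ne_top⟩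
        mul_mem' := fun {a b} ⟨c, hc⟩ ⟨d, hd⟩ => by
          obtain ⟨x, hx⟩ := exists_mul (phiT φ e) a b c d
          exact ⟨x, by rw [hx]; exact fun h => (hmx.isPrime.mem_or_mem h).elim hc hd⟩
        inv_mem' := fun {a} ⟨c, hc⟩ => by
          obtain ⟨x, hx⟩ := exists_inv (phiT φ e) a c
          exact ⟨x, by rw [hx]; exact hc⟩ }
    let S := MonoidAlgebra (T ⧸ mx) (N ⧸ N')
    let x : MonoidAlgebra T N →ₐ[T] S :=
      MonoidAlgebra.lift T S N ((MonoidAlgebra.of (T ⧸ mx) (N ⧸ N')).comp (QuotientGroup.mk' N'))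
    let y : MonoidAlgebra T N →ₐ[T] S := MonoidAlgebra.lift T S N 1
    have hxy : ∀ c, x (phiT φ e c) = y (phiT φ e c) := by
      intro c
      simp only [x, y, MonoidAlgebra.lift_apply]
      refine Finset.sum_congr rfl fun k _ => ?_
      simp only [MonoidHom.comp_apply, MonoidHom.one_apply, QuotientGroup.mk'_apply]
      by_cases hk : k ∈ N'
      · congr 1
        rw [(QuotientGroup.eq_one_iff k).mpr hk, map_one]
      · have h0 : (Ideal.Quotient.mk mx) ((phiT φ e c).coeff k) = 0 :=
          Ideal.Quotient.eq_zero_iff_mem.mpr (not_not.mp fun h => hk ⟨c, h⟩)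
        rw [← algebraMap_smul (T ⧸ mx) ((phiT φ e c).coeff k), ← algebraMap_smul (T ⧸ mx) ((phiT φ e c).coeff k),
          Ideal.Quotient.algebraMap_eq, h0, zero_smul, zero_smul]
    let ι : A →ₐ[R] MonoidAlgebra T N :=
      ((e : T ⊗[R] A →ₐc[T] MonoidAlgebra T N) : T ⊗[R] A →ₐ[T] MonoidAlgebra T N).restrictScalars R |>.comp
        Algebra.TensorProduct.includeRight
    have heq : (x.restrictScalars R).comp ι = (y.restrictScalars R).comp ι :=
      hmono S (AlgHom.ext fun c => hxy ((1 : T) ⊗ₜ c))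
    have heq2 : ∀ z : T ⊗[R] A, x (e z) = y (e z) := by
      intro z
      induction z using TensorProduct.induction_on with
      | zero => simp
      | tmul t a =>
        rw [show (t ⊗ₜ[R] a : T ⊗[R] A) = t • ((1 : T) ⊗ₜ[R] a) by simp [smul_tmul'], map_smul, map_smul, map_smul]
        congr 1
        exact AlgHom.congr_fun heq a
      | add p q hp hq => simp only [map_add, hp, hq]
    obtain ⟨z, hz⟩ := EquivLike.surjective e (MonoidAlgebra.single n (1 : T))
    have h1 := heq2 z
    rw [hz] at h1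
    simp [x, y] at h1
    have h2 : ((n : N ⧸ N')) = 1 := by
      have h3 := congrArg MonoidAlgebra.coeff h1
      haveI : Nontrivial (T ⧸ mx) := Ideal.Quotient.nontrivial_iff.mpr hmx.ne_top
      rw [show (1 : S) = MonoidAlgebra.single 1 1 from MonoidAlgebra.one_def] at h3
      exact (Finsupp.single_left_injective (one_ne_zero (α := T ⧸ mx))) (by simpa using h3)
    obtain ⟨c, hc⟩ := (QuotientGroup.eq_one_iff n).mp h2
    exact hc (hle ⟨c, rfl⟩)
  intro w
  induction w using MonoidAlgebra.induction_linear with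
  | zero => exact ⟨0, map_zero _⟩
  | add p q hp hq =>
    obtain ⟨a, ha⟩ := hp
    obtain ⟨b, hb⟩ := hq
    exact ⟨a + b, by rw [map_add, ha, hb]⟩
  | single k r =>
    obtain ⟨c, hc⟩ := mem_range_of_full _ (hfull k)
    exact ⟨r • c, by rw [map_smul, hc]; simp⟩

/-- A monomorphism from a group of multiplicative type is a closed immersion. -/
theorem surjective_of_mono (hA : HasSplitting R A) (φ : C →ₐc[R] A)
    (hmono : ∀ (T : Type u) [CommRing T] [Algebra R T],
      Function.Injective (fun x : A →ₐ[R] T => x.comp (φ : C →ₐ[R] A))) : Function.Surjective φ := by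
  classical
  obtain ⟨ι, _, T, _, _, hff, hd⟩ := hA
  haveI := hff
  intro a
  let Q : Submodule R A := LinearMap.range (φ : C →ₗ[R] A)
  suffices h : Q.mkQ a = 0 from (Submodule.Quotient.mk_eq_zero Q).mp h
  refine Module.FaithfullyFlat.tensorProduct_mk_injective (A := R) (B := ∀ i, T i) (A ⧸ Q) ?_
  show (1 : ∀ i, T i) ⊗ₜ[R] Q.mkQ a = (1 : ∀ i, T i) ⊗ₜ[R] (0 : A ⧸ Q)
  rw [tmul_zero]
  refine piTensor_injective T fun i => ?_
  rw [map_zero, LinearMap.rTensor_tmul]
  obtain ⟨M, _, ⟨e⟩⟩ := hd i
  obtain ⟨z, hz⟩ := phiT_surjective φ hmono e (e ((1 : T i) ⊗ₜ[R] a))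
  have key : ∀ z : T i ⊗[R] C, Q.mkQ.lTensor (T i) (Bialgebra.TensorProduct.map (BialgHom.id (T i) (T i)) φ z) = 0 := by
    intro z
    induction z using TensorProduct.induction_on with
    | zero => simp
    | tmul t c =>
      show Q.mkQ.lTensor (T i) (t ⊗ₜ φ c) = 0
      rw [LinearMap.lTensor_tmul, Submodule.mkQ_apply,
        (Submodule.Quotient.mk_eq_zero Q).mpr (show φ c ∈ Q from ⟨c, rfl⟩), tmul_zero]
    | add p q hp hq => rw [map_add, map_add, hp, hq, add_zero]
  have h := key z
  rw [show Bialgebra.TensorProduct.map (BialgHom.id (T i) (T i)) φ z = (1 : T i) ⊗ₜ[R] a from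
    EquivLike.injective e hz] at h
  exact h

/-- The kernel is diagonalisable where every relevant character is full. -/
theorem isDiag_kernel_of_supported (φ : C →ₐc[R] A) (J : Ideal A) [J.IsHopfIdeal R]
    (hJ : J = Ideal.map φ (RingHom.ker (Bialgebra.counitAlgHom R C)))
    {L : Type u} [CommRing L] [Algebra R L] {N : Type u} [CommGroup N] (e : L ⊗[R] A ≃ₐc[L] MonoidAlgebra L N)
    (s : Set C) (hs : Algebra.adjoin R s = ⊤)
    (hsupp : ∀ c ∈ s, ∀ n, n ∉ fullSubgroup (phiT φ e) → coef (phiT φ e) n ((1 : L) ⊗ₜ c) = 0) :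
    SGA3b.IsDiag L (L ⊗[R] (A ⧸ J)) := by
  classical
  let N' := fullSubgroup (phiT φ e)
  let S := MonoidAlgebra L (N ⧸ N')
  let p : MonoidAlgebra L N →ₐ[L] S :=
    MonoidAlgebra.lift L S N ((MonoidAlgebra.of L (N ⧸ N')).comp (QuotientGroup.mk' N'))
  let ε₀ : MonoidAlgebra L N →ₐ[L] S := MonoidAlgebra.lift L S N 1
  have hε₀ : ∀ w, ε₀ w = algebraMap L S (CoalgebraStruct.counit (R := L) w) := by
    intro w
    induction w using MonoidAlgebra.induction_linear with
    | zero => simp
    | add p q hp hq => simp only [map_add, hp, hq]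
    | single k r => simp [ε₀, Algebra.algebraMap_eq_smul_one]
  have hpc : ∀ c : C, p (phiT φ e ((1 : L) ⊗ₜ c)) = algebraMap L S (algebraMap R L (CoalgebraStruct.counit (R := R) c)) := by
    have hgen : ∀ c ∈ s, p (phiT φ e ((1 : L) ⊗ₜ c)) = ε₀ (phiT φ e ((1 : L) ⊗ₜ c)) := by
      intro c hc
      simp only [p, ε₀, MonoidAlgebra.lift_apply]
      refine Finset.sum_congr rfl fun k hk => ?_
      have hkN : k ∈ N' := not_not.mp fun h => (Finsupp.mem_support_iff.mp hk) (hsupp c hc k h)
      simp only [MonoidHom.comp_apply, MonoidHom.one_apply, QuotientGroup.mk'_apply]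
      congr 1
      rw [(QuotientGroup.eq_one_iff k).mpr hkN, map_one]
    let f₁ : C →ₐ[R] S := ((p.comp (phiT φ e : L ⊗[R] C →ₐ[L] MonoidAlgebra L N)).restrictScalars R).comp
      Algebra.TensorProduct.includeRight
    let f₂ : C →ₐ[R] S := ((ε₀.comp (phiT φ e : L ⊗[R] C →ₐ[L] MonoidAlgebra L N)).restrictScalars R).comp
      Algebra.TensorProduct.includeRight
    intro c
    have : f₁ c = f₂ c := by
      have hc : c ∈ Algebra.adjoin R s := hs ▸ Algebra.mem_top
      exact Algebra.adjoin_le (S := AlgHom.equalizer f₁ f₂) (fun x hx => hgen x hx) hc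
    refine this.trans ?_
    show ε₀ (phiT φ e ((1 : L) ⊗ₜ c)) = _
    rw [hε₀, CoalgHomClass.counit_comp_apply (phiT φ e)]
    simp [Algebra.algebraMap_eq_smul_one]
  let pA : A →ₐ[R] S :=
    ((p.comp ((e : L ⊗[R] A →ₐc[L] MonoidAlgebra L N) : L ⊗[R] A →ₐ[L] MonoidAlgebra L N)).restrictScalars R).comp
      Algebra.TensorProduct.includeRight
  have hkill : ∀ a ∈ J, pA a = 0 := by
    intro a ha
    rw [hJ] at ha
    induction ha using Submodule.span_induction with
    | mem x hx =>
      obtain ⟨c, hc, rfl⟩ := hx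
      show p (phiT φ e ((1 : L) ⊗ₜ c)) = 0
      rw [hpc, show CoalgebraStruct.counit (R := R) c = 0 from hc, map_zero, map_zero]
    | zero => simp
    | add x y _ _ hx hy => rw [map_add, hx, hy, add_zero]
    | smul r x _ hx => rw [smul_eq_mul, map_mul, hx, mul_zero]
  let Ψ : L ⊗[R] (A ⧸ J) →ₐ[L] S :=
    Algebra.TensorProduct.lift (Algebra.ofId L S) (Ideal.Quotient.liftₐ J pA hkill) fun _ _ => Commute.all _ _
  let π : L ⊗[R] A →ₐc[L] L ⊗[R] (A ⧸ J) :=
    Bialgebra.TensorProduct.map (BialgHom.id L L) (Bialgebra.Quotient.mkBialgHom J)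
  have hπφ : ∀ z : L ⊗[R] C, π (Bialgebra.TensorProduct.map (BialgHom.id L L) φ z) =
      algebraMap L _ (CoalgebraStruct.counit (R := L) z) := by
    intro z
    induction z using TensorProduct.induction_on with
    | zero => simp
    | tmul t c =>
      show (t ⊗ₜ[R] (Ideal.Quotient.mk J (φ c)) : L ⊗[R] (A ⧸ J)) = _
      have : Ideal.Quotient.mk J (φ c) = CoalgebraStruct.counit (R := R) c • 1 := by
        rw [← sub_eq_zero, ← map_one (Ideal.Quotient.mk J), ← Ideal.Quotient.mkₐ_eq_mk R, ← map_smul, ← map_sub,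
          Ideal.Quotient.mkₐ_eq_mk, Ideal.Quotient.eq_zero_iff_mem, hJ,
          show φ c - CoalgebraStruct.counit (R := R) c • (1 : A) = φ (c - CoalgebraStruct.counit (R := R) c • 1) by
            rw [map_sub, map_smul, map_one]]
        refine Ideal.mem_map_of_mem _ ?_
        show CoalgebraStruct.counit (R := R) (c - CoalgebraStruct.counit (R := R) c • 1) = 0
        rw [map_sub, map_smul, Bialgebra.counit_one, smul_eq_mul, mul_one, sub_self]
      rw [this, tmul_smul, Algebra.TensorProduct.algebraMap_apply, TensorProduct.counit_tmul]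
      simp [smul_tmul', Algebra.smul_def]
    | add p q hp hq => simp only [map_add, hp, hq]
  let G : N →* GroupLike L (L ⊗[R] (A ⧸ J)) :=
    { toFun := fun k => ⟨π (diagHom e k).val, (diagHom e k).2.map π⟩
      map_one' := GroupLike.val_injective (by simp)
      map_mul' := fun a b => GroupLike.val_injective (by simp) }
  have hG : N' ≤ G.ker := by
    intro k hk
    obtain ⟨c, hc⟩ := hk
    refine GroupLike.val_injective ?_
    show π (e.symm (MonoidAlgebra.single k 1)) = 1
    have h1 : phiT φ e (comp' (phiT φ e) k c) = MonoidAlgebra.single k 1 := by rw [map_comp', hc]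
    rw [← h1]
    show π (e.symm (e (Bialgebra.TensorProduct.map (BialgHom.id L L) φ (comp' (phiT φ e) k c)))) = 1
    rw [show e.symm (e (Bialgebra.TensorProduct.map (BialgHom.id L L) φ (comp' (phiT φ e) k c))) = _ from
      EquivLike.left_inv e _, hπφ, counit_comp', hc, map_one]
  let G' : N ⧸ N' →* GroupLike L (L ⊗[R] (A ⧸ J)) := QuotientGroup.lift N' G hG
  have hΨ : ∀ x, Ψ (theta G' x) = x := by
    intro x
    induction x using MonoidAlgebra.induction_linear with
    | zero => simp
    | add u v hu hv => simp only [map_add, hu, hv]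
    | single k r =>
      obtain ⟨k, rfl⟩ := QuotientGroup.mk_surjective k
      rw [theta_single, map_smul]
      have key : ∀ z : L ⊗[R] A, Ψ (π z) = p (e z) := by
        intro z
        induction z using TensorProduct.induction_on with
        | zero => simp
        | tmul t a =>
          show Algebra.ofId L S t * pA a = p (e (t ⊗ₜ a))
          rw [show (t ⊗ₜ[R] a : L ⊗[R] A) = t • ((1 : L) ⊗ₜ[R] a) by simp [smul_tmul'], map_smul, map_smul,
            Algebra.smul_def]
          rfl
        | add u v hu hv => simp only [map_add, hu, hv]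
      show r • Ψ (π (e.symm (MonoidAlgebra.single k 1))) = _
      rw [key, show e (e.symm (MonoidAlgebra.single k 1)) = MonoidAlgebra.single k 1 from EquivLike.right_inv e _]
      simp [p]
      exact (MonoidAlgebra.smul_single' r _ 1).trans (by rw [mul_one])
  refine isDiag_of_bijective G' ⟨fun x y hxy => by rw [← hΨ x, hxy, hΨ y], fun w => ?_⟩
  obtain ⟨a, rfl⟩ : ∃ a, π a = w := by
    induction w using TensorProduct.induction_on with
    | zero => exact ⟨0, map_zero _⟩
    | tmul t q => obtain ⟨a, rfl⟩ := Ideal.Quotient.mk_surjective q; exact ⟨t ⊗ₜ a, rfl⟩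
    | add u v hu hv =>
      obtain ⟨a, ha⟩ := hu
      obtain ⟨b, hb⟩ := hv
      exact ⟨a + b, by rw [map_add, ha, hb]⟩
  obtain ⟨z, rfl⟩ := (theta_diagHom_bijective e).2 a
  induction z using MonoidAlgebra.induction_linear with
  | zero => exact ⟨0, by simp⟩
  | add u v hu hv =>
    obtain ⟨a, ha⟩ := hu
    obtain ⟨b, hb⟩ := hv
    exact ⟨a + b, by simp only [map_add, ha, hb]⟩
  | single k r =>
    refine ⟨MonoidAlgebra.single (QuotientGroup.mk k) r, ?_⟩
    rw [theta_single, theta_single, map_smul]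
    rfl

end Groth.Agent.H8MultMono
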