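import Mathlib
import Groth.Prelude.Def_SGA3b
import Groth.Agent.Lib.H8MultCore
import Groth.Agent.Lib.H8Mult
import Groth.Agent.Lib.H8MultAdic
import Groth.Agent.Lib.H8MultGL
import Groth.Agent.Lib.H8CharFrame
import Groth.Agent.Lib.H8CharQuasi
import Groth.Agent.Lib.H8MultKer
import Groth.Agent.Lib.H8MultMono

/-!
# Kernels of homomorphisms of groups of multiplicative type
-/

set_option autoImplicit false

universe u

open TensorProduct

namespace Groth.Agent.H8MultKernel

open H8MultCore H8Mult H8MultAdic H8MultGL H8MultKer H8MultMono H8CharFrame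

variable {R : Type u} [CommRing R] {A : Type u} [CommRing A] [HopfAlgebra R A] {C : Type u} [CommRing C]
  [HopfAlgebra R C]

/-- The base change of a diagonalisation along an algebra map. -/
noncomputable def eMap {T L : Type u} [CommRing T] [Algebra R T] [CommRing L] [Algebra R L] {N : Type u}
    [CommGroup N] (e : T ⊗[R] A ≃ₐc[T] MonoidAlgebra T N) (i : T →ₐ[R] L) :
    L ⊗[R] A ≃ₐc[L] MonoidAlgebra L N :=
  (BialgEquiv.ofBijective (theta ((glMap i).comp (diagHom e))) (frame_map _ (theta_diagHom_bijective e) i)).symm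

lemma eMap_bc {T L : Type u} [CommRing T] [Algebra R T] [CommRing L] [Algebra R L] {N : Type u} [CommGroup N]
    (e : T ⊗[R] A ≃ₐc[T] MonoidAlgebra T N) (i : T →ₐ[R] L) (z : T ⊗[R] A) :
    eMap e i (bc i z) = MonoidAlgebra.mapAlgHom (M := N) i (e z) := by
  have hmap : ∀ x : MonoidAlgebra T N,
      theta ((glMap i).comp (diagHom e)) (MonoidAlgebra.mapAlgHom (M := N) i x) = bc i (theta (diagHom e) x) := by
    intro x
    induction x using MonoidAlgebra.induction_linear with
    | zero => simp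
    | add p q hp hq => simp only [map_add, hp, hq]
    | single m r => rw [MonoidAlgebra.mapAlgHom_single, theta_single, theta_single, bc_smul]; rfl
  have he : theta (diagHom e) (e z) = z := by
    generalize hx : e z = x
    have hz : z = e.symm x := by rw [← hx]; exact (EquivLike.left_inv e z).symm
    subst hz
    clear hx
    induction x using MonoidAlgebra.induction_linear with
    | zero => simp
    | add p q hp hq => simp only [map_add, hp, hq]
    | single m r =>
      rw [theta_single]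
      show r • e.symm (MonoidAlgebra.single m 1) = _
      rw [← map_smul, MonoidAlgebra.smul_single', mul_one]
  let F := BialgEquiv.ofBijective (theta ((glMap i).comp (diagHom e))) (frame_map _ (theta_diagHom_bijective e) i)
  show F.symm (bc i z) = _
  rw [← he, ← hmap, he]
  exact F.toLinearEquiv.symm_apply_apply _

lemma coef_eMap {T L : Type u} [CommRing T] [Algebra R T] [CommRing L] [Algebra R L] {N : Type u} [CommGroup N]
    (φ : C →ₐc[R] A) (e : T ⊗[R] A ≃ₐc[T] MonoidAlgebra T N) (i : T →ₐ[R] L) (c : C) (n : N) :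
    coef (phiT φ (eMap e i)) n ((1 : L) ⊗ₜ c) = i (coef (phiT φ e) n ((1 : T) ⊗ₜ c)) := by
  rw [coef_apply, coef_apply, phiT_tmul, phiT_tmul,
    show ((1 : L) ⊗ₜ[R] φ c : L ⊗[R] A) = bc i ((1 : T) ⊗ₜ[R] φ c) by simp [bc_tmul], eMap_bc,
    MonoidAlgebra.coeff_mapAlgHom]

lemma exists_isUnit_of_full {L : Type u} [CommRing L] [Algebra R L] [IsLocalRing L] {N : Type u} [CommGroup N]
    (ψ : L ⊗[R] C →ₐc[L] MonoidAlgebra L N) {n : N} (hn : n ∈ fullSubgroup ψ) :
    ∃ c : C, IsUnit (coef ψ n ((1 : L) ⊗ₜ c)) := by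
  obtain ⟨z, hz⟩ := hn
  by_contra hcon
  push Not at hcon
  have : coef ψ n z ∈ IsLocalRing.maximalIdeal L := by
    clear hz
    induction z using TensorProduct.induction_on with
    | zero => rw [map_zero]; exact zero_mem _
    | tmul t c =>
      rw [show (t ⊗ₜ[R] c : L ⊗[R] C) = t • ((1 : L) ⊗ₜ[R] c) by simp [smul_tmul'], map_smul, smul_eq_mul]
      exact Ideal.mul_mem_left _ _ (hcon c)
    | add p q hp hq => rw [map_add]; exact add_mem hp hq
  rw [hz] at this
  exact (IsLocalRing.maximalIdeal.isMaximal L).ne_top ((Ideal.eq_top_iff_one _).mpr this)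

/-- The kernel of a homomorphism is locally diagonalisable on a trivialisation. -/
theorem exists_diag_nbhd (φ : C →ₐc[R] A) (hft : Algebra.FiniteType R C) (J : Ideal A) [J.IsHopfIdeal R]
    (hJ : J = Ideal.map φ (RingHom.ker (Bialgebra.counitAlgHom R C)))
    {T : Type u} [CommRing T] [Algebra R T] {N : Type u} [CommGroup N] (e : T ⊗[R] A ≃ₐc[T] MonoidAlgebra T N)
    (y : PrimeSpectrum T) :
    ∃ h ∉ y.asIdeal, SGA3b.IsDiag (Localization.Away h) (Localization.Away h ⊗[R] (A ⧸ J)) := by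
  classical
  obtain ⟨s, hs⟩ := id hft.out
  let L := Localization.AtPrime y.asIdeal
  let iL : T →ₐ[R] L := IsScalarTower.toAlgHom R T L
  haveI := hft
  let supp : Finset (C × N) := s.biUnion fun c =>
    ((phiT φ e ((1 : T) ⊗ₜ c)).coeff.support).image fun n => (c, n)
  have hkey : ∀ p ∈ supp, ∃ t : T, t ∉ y.asIdeal ∧
      (t * coef (phiT φ e) p.2 ((1 : T) ⊗ₜ p.1) = 0 ∨ ∃ c, coef (phiT φ e) p.2 ((1 : T) ⊗ₜ c) = t) := by
    intro p _
    by_cases hfull : p.2 ∈ fullSubgroup (phiT φ (eMap e iL))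
    · obtain ⟨c, hc⟩ := exists_isUnit_of_full _ hfull
      rw [coef_eMap] at hc
      exact ⟨_, (IsLocalization.AtPrime.isUnit_to_map_iff L y.asIdeal _).mp hc, Or.inr ⟨c, rfl⟩⟩
    · have h0 := coef_eq_zero_of_notMem (phiT φ (eMap e iL)) inferInstance hfull ((1 : L) ⊗ₜ p.1)
      rw [coef_eMap] at h0
      obtain ⟨t, ht⟩ := (IsLocalization.map_eq_zero_iff y.asIdeal.primeCompl L _).mp h0
      exact ⟨t, t.2, Or.inl ht⟩
  choose! t ht ht' using hkey
  refine ⟨∏ p ∈ supp, t p, fun h => ?_, ?_⟩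
  · obtain ⟨p, hp, hpt⟩ := (Ideal.IsPrime.prod_mem_iff).mp h
    exact ht p hp hpt
  · let S := Localization.Away (∏ p ∈ supp, t p)
    let iS : T →ₐ[R] S := IsScalarTower.toAlgHom R T S
    refine isDiag_kernel_of_supported φ J hJ (eMap e iS) (s : Set C) hs fun c hc n hn => ?_
    rw [coef_eMap]
    by_cases hmem : (c, n) ∈ supp
    · have hu : IsUnit (iS (t (c, n))) := by
        refine isUnit_of_dvd_unit (map_dvd iS (Finset.dvd_prod_of_mem t hmem)) ?_
        exact IsLocalization.Away.algebraMap_isUnit _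
      rcases ht' _ hmem with h | ⟨d, hd⟩
      · have h1 := congrArg iS h
        rw [map_mul, map_zero] at h1
        exact (hu.mul_right_eq_zero).mp h1
      · refine absurd ?_ hn
        obtain ⟨w, hw⟩ := hu
        exact ⟨(↑w⁻¹ : S) • ((1 : S) ⊗ₜ d), by rw [map_smul, coef_eMap, hd, ← hw, smul_eq_mul, Units.inv_mul]⟩
    · have : coef (phiT φ e) n ((1 : T) ⊗ₜ c) = 0 := by
        by_contra hne
        exact hmem (Finset.mem_biUnion.mpr ⟨c, hc, Finset.mem_image.mpr ⟨n, Finsupp.mem_support_iff.mpr hne, rfl⟩⟩)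
      rw [this, map_zero]

/-- A splitting that exists locally on the pieces. -/
theorem hasSplitting_of_local {Q : Type u} [CommRing Q] [HopfAlgebra R Q] {ι : Type u} [Fintype ι] (T : ι → Type u)
    [∀ i, CommRing (T i)] [∀ i, Algebra R (T i)] [Module.FaithfullyFlat R (∀ i, T i)]
    (h : ∀ i (y : PrimeSpectrum (T i)),
      ∃ g ∉ y.asIdeal, SGA3b.IsDiag (Localization.Away g) (Localization.Away g ⊗[R] Q)) :
    HasSplitting R Q := by
  classical
  choose g hg hd using h
  have hspan : ∀ i, ∃ s : Finset (PrimeSpectrum (T i)), ∀ q : PrimeSpectrum (T i), ∃ y ∈ s, g i y ∉ q.asIdeal := by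
    intro i
    obtain ⟨s, hs⟩ := isCompact_univ.elim_finite_subcover
      (fun y : PrimeSpectrum (T i) => (PrimeSpectrum.basicOpen (g i y) : Set (PrimeSpectrum (T i))))
      (fun y => PrimeSpectrum.isOpen_basicOpen) (fun q _ => Set.mem_iUnion.mpr ⟨q, hg i q⟩)
    refine ⟨s, fun q => ?_⟩
    obtain ⟨y, hy, hq⟩ := Set.mem_iUnion₂.mp (hs (Set.mem_univ q))
    exact ⟨y, hy, hq⟩
  choose s hs using hspan
  haveI : ∀ i, Module.Flat R (T i) := fun i => by
    haveI : Module.Flat R (∀ i, T i) := inferInstance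
    exact Module.Flat.of_retract (LinearMap.single R T i) (LinearMap.proj i) (by ext; simp)
  let κ := Σ i, ↥(s i)
  let W : κ → Type u := fun k => Localization.Away (g k.1 k.2)
  refine ⟨κ, inferInstance, W, inferInstance, inferInstance, ?_, fun k => hd k.1 k.2⟩
  haveI : ∀ k, Module.Flat R (W k) := fun k => by
    haveI : Module.Flat (T k.1) (W k) := IsLocalization.flat _ (Submonoid.powers (g k.1 k.2))
    exact Module.Flat.trans R (T k.1) (W k)
  haveI : Module.Flat R (∀ k, W k) :=
    Module.Flat.of_linearEquiv (DirectSum.linearEquivFunOnFintype R κ W).symm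
  refine Module.FaithfullyFlat.of_comap_surjective fun p => ?_
  obtain ⟨q, rfl⟩ := PrimeSpectrum.comap_surjective_of_faithfullyFlat (B := ∀ i, T i) p
  obtain ⟨i, hi⟩ : ∃ i, Pi.single i (1 : T i) ∉ q.asIdeal := by
    by_contra hcon
    push Not at hcon
    refine q.isPrime.ne_top ((Ideal.eq_top_iff_one _).mpr ?_)
    rw [← Finset.univ_sum_single (1 : ∀ i, T i)]
    exact Ideal.sum_mem _ fun i _ => hcon i
  obtain ⟨y, rfl, -⟩ := H8CharQuasi.exists_of_single_notMem T i 1 q hi
  obtain ⟨z, hz, hzy⟩ := hs i y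
  obtain ⟨w, rfl⟩ : y ∈ Set.range (PrimeSpectrum.comap (algebraMap (T i) (W ⟨i, ⟨z, hz⟩⟩))) := by
    rw [PrimeSpectrum.localization_away_comap_range (W ⟨i, ⟨z, hz⟩⟩) (g i z)]
    exact hzy
  exact ⟨PrimeSpectrum.comap (Pi.evalRingHom W ⟨i, ⟨z, hz⟩⟩) w, rfl⟩

/-- The kernel of a homomorphism from a group of multiplicative type of finite type. -/
theorem kernel_isMultType (hA : HasSplitting R A) (hAft : Algebra.FiniteType R A) (hft : Algebra.FiniteType R C)
    (φ : C →ₐc[R] A) (J : Ideal A) [J.IsHopfIdeal R]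
    (hJ : J = Ideal.map φ (RingHom.ker (Bialgebra.counitAlgHom R C))) : SGA3b.IsMultType R (A ⧸ J) := by
  obtain ⟨ι, _, T, _, _, hff, hd⟩ := hA
  haveI := hff
  haveI := hAft
  refine H8MultLift.multType_of_quasi (H8CharQuasi.quasiIsotrivial_of_splitting ?_ inferInstance)
  refine hasSplitting_of_local T fun i y => ?_
  obtain ⟨N, _, ⟨e⟩⟩ := hd i
  exact exists_diag_nbhd φ hft J hJ e y

end Groth.Agent.H8MultKernel
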