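import Mathlib
import Groth.Prelude.Def_SGA3b
import Groth.Agent.Lib.H8MultCore
import Groth.Agent.Lib.H8Mult
import Groth.Agent.Lib.H8MultAdic
import Groth.Agent.Lib.H8MultGL
import Groth.Agent.Lib.H8CharFrame
import Groth.Agent.Lib.H8CharLocus
import Groth.Agent.Lib.H8CharQuasi
import Groth.Agent.Lib.H8MultKer
import Groth.Agent.Lib.H8MultMono
import Groth.Agent.Lib.H8MultKernel

/-!
# Rigidity over local rings; finiteness of groups of multiplicative type
-/

set_option autoImplicit false

universe u

open TensorProduct WithConv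

namespace Groth.Agent.H8MultRigid

open H8MultCore H8Mult H8MultAdic H8MultGL H8MultKer H8MultMono H8CharFrame H8CharQuasi H8MultKernel

variable {R : Type u} [CommRing R] {A : Type u} [CommRing A] [HopfAlgebra R A]

section Local

variable [IsLocalRing R] {C : Type u} [CommRing C] [HopfAlgebra R C]

/-- Over a local ring a homomorphism trivial on the closed fibre is trivial: target of finite type. -/
theorem eq_trivial_of_finiteType (hA : HasSplitting R A) (hC : Algebra.FiniteType R C) (φ : C →ₐc[R] A)
    (hs : ∀ c, φ c - algebraMap R A (CoalgebraStruct.counit (R := R) c) ∈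
      IsLocalRing.maximalIdeal R • (⊤ : Submodule R A)) (c : C) :
    φ c = algebraMap R A (CoalgebraStruct.counit (R := R) c) := by
  classical
  haveI := flat_of_splitting hA
  haveI := hC
  obtain ⟨L, _, _, _, N, _, D, i, hD, hf, hl⟩ := exists_local_frame hA R
  let e : L ⊗[R] A ≃ₐc[L] MonoidAlgebra L N := (BialgEquiv.ofBijective (theta D) hD).symm
  have hmL : ∀ x ∈ IsLocalRing.maximalIdeal R, algebraMap R L x ∈ IsLocalRing.maximalIdeal L := fun x hx hu => by
    rw [← i.commutes] at hu
    exact hx (hl.map_nonunit x hu)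
  have hnf : ∀ n : N, n ≠ 1 → n ∉ fullSubgroup (phiT φ e) := by
    intro n hn hfull
    obtain ⟨d, hd⟩ := exists_isUnit_of_full _ hfull
    let g : A →ₗ[R] L :=
      ((co n ∘ₗ (e : L ⊗[R] A →ₐc[L] MonoidAlgebra L N).toLinearMap).restrictScalars R) ∘ₗ TensorProduct.mk R L A 1
    have h1 := map_smul_top_mem _ g (hs d)
    have h2 : g (φ d - algebraMap R A (CoalgebraStruct.counit (R := R) d)) = coef (phiT φ e) n ((1 : L) ⊗ₜ d) := by
      have h3 : g (algebraMap R A (CoalgebraStruct.counit (R := R) d)) = 0 := by
        rw [Algebra.algebraMap_eq_smul_one, map_smul]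
        show _ • co n (e ((1 : L) ⊗ₜ[R] (1 : A))) = 0
        rw [← Algebra.TensorProduct.one_def, map_one, MonoidAlgebra.one_def, co_single, if_neg (Ne.symm hn), smul_zero]
      rw [map_sub, h3, sub_zero]
      rfl
    rw [h2] at h1
    refine (?_ : coef (phiT φ e) n ((1 : L) ⊗ₜ d) ∈ IsLocalRing.maximalIdeal L) hd
    refine Submodule.smul_induction_on h1 (fun x hx y _ => ?_) fun p q hp hq => add_mem hp hq
    rw [Algebra.smul_def]
    exact Ideal.mul_mem_right _ _ (hmL x hx)
  have hzero : ∀ n : N, n ≠ 1 → coef (phiT φ e) n ((1 : L) ⊗ₜ c) = 0 := fun n hn =>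
    coef_eq_zero_of_notMem _ inferInstance (hnf n hn) _
  have hval : phiT φ e ((1 : L) ⊗ₜ c) =
      MonoidAlgebra.single 1 (algebraMap R L (CoalgebraStruct.counit (R := R) c)) := by
    have h1 : phiT φ e ((1 : L) ⊗ₜ c) = MonoidAlgebra.single 1 (coef (phiT φ e) 1 ((1 : L) ⊗ₜ c)) := by
      refine MonoidAlgebra.coeff_injective (Finsupp.ext fun n => ?_)
      by_cases hn : n = 1
      · subst hn; simp [coef_apply]
      · rw [show (phiT φ e ((1 : L) ⊗ₜ c)).coeff n = 0 from hzero n hn]
        simp [Ne.symm hn]
    have h2 : CoalgebraStruct.counit (R := L) (phiT φ e ((1 : L) ⊗ₜ c)) =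
        algebraMap R L (CoalgebraStruct.counit (R := R) c) := by
      rw [CoalgHomClass.counit_comp_apply (phiT φ e)]; simp [Algebra.algebraMap_eq_smul_one]
    rw [h1] at h2 ⊢
    simp at h2
    rw [h2]
  refine bc_injective (T := R) i (injective_of_flat_local i.toRingHom hf hl) ?_ |> fun h =>
    (Algebra.TensorProduct.lid R A).symm.injective h
  show bc i ((1 : R) ⊗ₜ φ c) = bc i ((1 : R) ⊗ₜ algebraMap R A (CoalgebraStruct.counit (R := R) c))
  rw [bc_tmul, bc_tmul, map_one]
  apply EquivLike.injective e
  rw [← phiT_tmul φ e, hval, Algebra.algebraMap_eq_smul_one (CoalgebraStruct.counit (R := R) c) (A := A),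
    TensorProduct.tmul_smul, ← algebraMap_smul L, map_smul, ← Algebra.TensorProduct.one_def, map_one,
    MonoidAlgebra.one_def, MonoidAlgebra.smul_single', mul_one]

/-- Over a Noetherian local ring a homomorphism trivial on the closed fibre is trivial. -/
theorem eq_trivial_of_noetherian [IsNoetherianRing R] (hA : HasSplitting R A) (φ : C →ₐc[R] A)
    (hs : ∀ c, φ c - algebraMap R A (CoalgebraStruct.counit (R := R) c) ∈
      IsLocalRing.maximalIdeal R • (⊤ : Submodule R A)) (c : C) :
    φ c = algebraMap R A (CoalgebraStruct.counit (R := R) c) := by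
  classical
  set m := IsLocalRing.maximalIdeal R
  set a := φ c - algebraMap R A (CoalgebraStruct.counit (R := R) c) with ha
  have hk : ∀ k : ℕ, a ∈ (m ^ k) • (⊤ : Submodule R A) := by
    intro k
    let S := R ⧸ m ^ k
    let I : Ideal S := m.map (algebraMap R S)
    have hI : IsNilpotent I := ⟨k, by
      rw [← Ideal.map_pow, Ideal.zero_eq_bot, Ideal.Quotient.algebraMap_eq, Ideal.map_quotient_self]⟩
    obtain ⟨J, hJ1, hJ⟩ := (hA.baseChange S).exists_haar
    have h := eq_trivial J hJ1 I hI (fun z => by rw [hJ, sub_self]; exact zero_mem _)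
      (Bialgebra.TensorProduct.map (BialgHom.id S S) φ) (fun z => by
        induction z using TensorProduct.induction_on with
        | zero => simp
        | tmul s d =>
          have e1 : (Bialgebra.TensorProduct.map (BialgHom.id S S) φ) (s ⊗ₜ d) -
              algebraMap S (S ⊗[R] A) (CoalgebraStruct.counit (R := S) (s ⊗ₜ[R] d)) =
              s • ((1 : S) ⊗ₜ[R] (φ d - algebraMap R A (CoalgebraStruct.counit (R := R) d))) := by
            show s ⊗ₜ[R] φ d - _ = _
            rw [TensorProduct.counit_tmul, Algebra.TensorProduct.algebraMap_apply, CommSemiring.counit_apply,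
              tmul_sub, smul_sub, smul_tmul', smul_tmul', smul_eq_mul, mul_one, Algebra.algebraMap_eq_smul_one
              (CoalgebraStruct.counit (R := R) d) (A := A), tmul_smul, smul_tmul', Algebra.algebraMap_self,
              RingHom.id_apply, Algebra.smul_def]
          rw [e1]
          refine Submodule.smul_mem _ s ((mem_map_smul_top m _).mpr ?_)
          exact map_smul_top_mem m (TensorProduct.mk R S A 1) (hs d)
        | add p q hp hq => simp only [map_add, add_sub_add_comm]; exact add_mem hp hq) ((1 : S) ⊗ₜ c)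
    refine H8Mult.mem_smul_top_of_one_tmul_eq_zero ?_
    rw [ha, tmul_sub, sub_eq_zero]
    refine h.trans ?_
    rw [TensorProduct.counit_tmul, CommSemiring.counit_apply, ← Algebra.algebraMap_eq_smul_one,
      ← IsScalarTower.algebraMap_apply, Algebra.algebraMap_eq_smul_one, Algebra.algebraMap_eq_smul_one,
      tmul_smul, ← Algebra.TensorProduct.one_def]
  obtain ⟨n, b, ψ, hb⟩ := H8CharLocus.exists_proj hA {a}
  have h0 : ∀ i, ψ i a = 0 := fun i => by
    have : ψ i a ∈ ⨅ k : ℕ, m ^ k := Ideal.mem_iInf.mpr fun k => by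
      have := map_smul_top_mem _ (ψ i) (hk k)
      rwa [smul_eq_mul, Ideal.mul_top] at this
    rw [Ideal.iInf_pow_eq_bot_of_isLocalRing m (IsLocalRing.maximalIdeal.isMaximal R).ne_top] at this
    exact this
  have : a = 0 := by
    rw [← hb a (Finset.mem_singleton_self a)]
    simp [h0]
  exact sub_eq_zero.mp this

/-- Over a local ring homomorphisms to a commutative group agreeing on the closed fibre agree. -/
theorem eq_of_congr_local [Coalgebra.IsCocomm R C] (hA : HasSplitting R A) (hC : Algebra.FiniteType R C)
    (φ ψ : C →ₐc[R] A) (h0 : ∀ c, φ c - ψ c ∈ IsLocalRing.maximalIdeal R • (⊤ : Submodule R A)) : φ = ψ := by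
  set I := IsLocalRing.maximalIdeal R
  let S : C →ₐc[R] C := BialgHom.ofAlgHom (HopfAlgebra.antipodeAlgHom R C)
    (AlgHom.ext fun c => HopfAlgebra.counit_antipode (R := R) c)
    (AlgHom.ext fun c => by
      show TensorProduct.map (HopfAlgebra.antipode R) (HopfAlgebra.antipode R) (CoalgebraStruct.comul (R := R) c) =
        CoalgebraStruct.comul (R := R) (HopfAlgebra.antipode R c)
      rw [H8Hopf.comul_antipode, Coalgebra.comm_comul])
  let χ : WithConv (C →ₐc[R] A) := toConv φ * toConv (ψ.comp S)
  let q := Ideal.Quotient.mkₐ R (I.map (algebraMap R A))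
  have hq : toConv (q.comp (φ : C →ₐ[R] A)) = toConv (q.comp (ψ : C →ₐ[R] A)) := by
    refine WithConv.ofConv_injective (AlgHom.ext fun c => ?_)
    exact Ideal.Quotient.eq.mpr ((mem_map_iff I _).mpr (h0 c))
  have hχ : toConv (q.comp (χ.ofConv : C →ₐ[R] A)) = 1 := by
    show toConv (q.comp (toConv (φ : C →ₐ[R] A) * cinv (toConv (ψ : C →ₐ[R] A))).ofConv) = 1
    rw [comp_convMul, comp_convInv, ofConv_toConv, ofConv_toConv, hq, mul_cinv]
  have h1 : χ = 1 := by
    refine WithConv.ofConv_injective (BialgHom.ext fun c => ?_)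
    refine eq_trivial_of_finiteType hA hC χ.ofConv (fun c => ?_) c
    exact (mem_map_iff I _).mp (Ideal.Quotient.eq.mp
      ((congrArg (fun f => f.ofConv c) hχ).trans (q.commutes _).symm))
  have h2 : toConv (φ : C →ₐ[R] A) * cinv (toConv (ψ : C →ₐ[R] A)) = 1 :=
    congrArg (fun f : WithConv (C →ₐc[R] A) => toConv (f.ofConv : C →ₐ[R] A)) h1
  have h3 : toConv (φ : C →ₐ[R] A) = toConv (ψ : C →ₐ[R] A) := by
    have := congrArg (fun x => x * toConv (ψ : C →ₐ[R] A)) h2
    exact (mul_one _).symm.trans ((congrArg _ (cinv_mul _).symm).trans ((mul_assoc _ _ _).symm.trans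
      (this.trans (one_mul _))))
  exact BialgHom.ext fun c => AlgHom.congr_fun (WithConv.toConv_injective h3) c

end Local

section Torsion

lemma powConv_succ (n : ℕ) (a : A) : SGA3b.powConv R A (n + 1) a =
    Algebra.TensorProduct.lmul' R
      (Algebra.TensorProduct.map (SGA3b.powConv R A n) (AlgHom.id R A) (CoalgebraStruct.comul (R := R) a)) := by
  simp only [SGA3b.powConv, pow_succ]
  rfl

lemma powConv_zero (a : A) : SGA3b.powConv R A 0 a = algebraMap R A (CoalgebraStruct.counit (R := R) a) := by
  simp only [SGA3b.powConv, pow_zero]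
  rfl

lemma powConv_bc {T : Type u} [CommRing T] [Algebra R T] (n : ℕ) (a : A) :
    SGA3b.powConv T (T ⊗[R] A) n ((1 : T) ⊗ₜ[R] a) = (1 : T) ⊗ₜ[R] SGA3b.powConv R A n a := by
  induction n generalizing a with
  | zero =>
    rw [powConv_zero, powConv_zero, TensorProduct.counit_tmul, CommSemiring.counit_apply,
      Algebra.algebraMap_eq_smul_one, Algebra.algebraMap_eq_smul_one (A := A), tmul_smul, smul_assoc, one_smul,
      ← Algebra.TensorProduct.one_def]
  | succ n ih =>
    rw [powConv_succ, powConv_succ, comul_one_tmul]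
    generalize CoalgebraStruct.comul (R := R) a = z
    induction z using TensorProduct.induction_on with
    | zero => simp
    | tmul x y =>
      rw [H8Mult.sq_tmul]
      simp [ih]
    | add p q hp hq => simp only [map_add, tmul_add, hp, hq]

lemma powConv_groupLike (n : ℕ) (g : GroupLike R A) : SGA3b.powConv R A n g.val = g.val ^ n := by
  induction n with
  | zero => rw [powConv_zero, g.2.counit_eq_one, map_one, pow_zero]
  | succ n ih => rw [powConv_succ, g.2.comul_eq_tmul_self, Algebra.TensorProduct.map_tmul,
      Algebra.TensorProduct.lmul'_apply_tmul, ih, pow_succ]; rfl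

lemma torsion_eq_bot_iff (n : ℕ) : SGA3b.torsionIdeal R A n = ⊥ ↔
    ∀ a, SGA3b.powConv R A n a = algebraMap R A (CoalgebraStruct.counit (R := R) a) := by
  rw [SGA3b.torsionIdeal, Ideal.map_eq_bot_iff_le_ker]
  constructor
  · intro h a
    have h1 : a - algebraMap R A (CoalgebraStruct.counit (R := R) a) ∈ RingHom.ker (Bialgebra.counitAlgHom R A) := by
      show CoalgebraStruct.counit (R := R) (a - algebraMap R A (CoalgebraStruct.counit (R := R) a)) = 0
      simp
    have h2 : SGA3b.powConv R A n (a - algebraMap R A (CoalgebraStruct.counit (R := R) a)) = 0 := h h1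
    rwa [map_sub, AlgHom.commutes, sub_eq_zero] at h2
  · intro h x hx
    show SGA3b.powConv R A n x = 0
    rw [h, show CoalgebraStruct.counit (R := R) x = 0 from hx, map_zero]

/-- Finite iff killed by an integer. -/
theorem finite_iff_torsion (hft : Algebra.FiniteType R A) (hA : HasSplitting R A) :
    Module.Finite R A ↔ ∃ n : ℕ, 0 < n ∧ SGA3b.torsionIdeal R A n = ⊥ := by
  classical
  haveI := hft
  simp only [torsion_eq_bot_iff]
  obtain ⟨ι, _, T, _, _, hff, hd⟩ := hA
  haveI := hff
  choose M hMg e using hd
  letI : ∀ i, CommGroup (M i) := hMg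
  have heq : ∀ i (n : ℕ) (m : M i), SGA3b.powConv (T i) (T i ⊗[R] A) n (diagHom (e i).some m).val =
      (diagHom (e i).some (m ^ n)).val := fun i n m => by rw [powConv_groupLike, map_pow, GroupLike.val_pow]
  constructor
  · intro hfin
    have hMfin : ∀ i, ∃ n : ℕ, 0 < n ∧ (Nontrivial (T i) → ∀ m : M i, m ^ n = 1) := by
      intro i
      by_cases hnt : Nontrivial (T i)
      · haveI := hnt
        haveI : Module.Finite (T i) (MonoidAlgebra (T i) (M i)) := Module.Finite.equiv
          (BialgEquiv.toAlgEquiv (e i).some).toLinearEquiv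
        haveI : Finite (M i) := Module.Finite.finite_basis
          (Module.Basis.ofRepr (MonoidAlgebra.coeffLinearEquiv (T i) : MonoidAlgebra (T i) (M i) ≃ₗ[T i] (M i →₀ T i)))
        exact ⟨Nat.card (M i), Nat.card_pos, fun _ m => pow_card_eq_one'⟩
      · exact ⟨1, one_pos, fun h => absurd h hnt⟩
    choose n hn0 hn using hMfin
    refine ⟨∏ i, n i, Finset.prod_pos fun i _ => hn0 i, fun a => sub_eq_zero.mp ?_⟩
    refine Module.FaithfullyFlat.tensorProduct_mk_injective (A := R) (B := ∀ i, T i) A ?_
    show (1 : ∀ i, T i) ⊗ₜ[R] _ = (1 : ∀ i, T i) ⊗ₜ[R] (0 : A)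
    rw [tmul_zero]
    refine piTensor_injective T fun i => ?_
    rw [map_zero, LinearMap.rTensor_tmul]
    show (1 : T i) ⊗ₜ[R] (SGA3b.powConv R A (∏ i, n i) a - algebraMap R A (CoalgebraStruct.counit (R := R) a)) = 0
    cases subsingleton_or_nontrivial (T i) with
    | inl hs =>
      haveI := Module.subsingleton (T i) (T i ⊗[R] A)
      exact Subsingleton.elim _ _
    | inr hnt =>
    rw [tmul_sub, ← powConv_bc, sub_eq_zero]
    have hall : ∀ z : T i ⊗[R] A, SGA3b.powConv (T i) (T i ⊗[R] A) (∏ i, n i) z =
        algebraMap (T i) _ (CoalgebraStruct.counit (R := T i) z) := by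
      intro z
      obtain ⟨x, rfl⟩ := (theta_diagHom_bijective (e i).some).2 z
      induction x using MonoidAlgebra.induction_linear with
      | zero => simp
      | add p q hp hq => simp only [map_add, hp, hq]
      | single m r =>
        obtain ⟨k, hk⟩ := Finset.dvd_prod_of_mem n (Finset.mem_univ i)
        rw [theta_single, map_smul, heq, hk, pow_mul, hn i hnt, one_pow, map_one, GroupLike.val_one, map_smul,
          (diagHom (e i).some m).2.counit_eq_one, smul_eq_mul, mul_one, Algebra.algebraMap_eq_smul_one]
    rw [hall, TensorProduct.counit_tmul, CommSemiring.counit_apply, Algebra.algebraMap_eq_smul_one (A := A),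
      tmul_smul, Algebra.algebraMap_eq_smul_one, smul_assoc, one_smul, ← Algebra.TensorProduct.one_def]
  · rintro ⟨n, hn0, hn⟩
    haveI : ∀ i, Module.Finite (T i) (T i ⊗[R] A) := by
      intro i
      cases subsingleton_or_nontrivial (T i) with
      | inl hs =>
        haveI := Module.subsingleton (T i) (T i ⊗[R] A)
        infer_instance
      | inr hnt =>
      have htor : ∀ m : M i, m ^ n = 1 := by
        intro m
        refine frame_injective _ (theta_diagHom_bijective (e i).some) (GroupLike.val_injective ?_)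
        rw [map_one, GroupLike.val_one, ← heq]
        have hz : ∀ z : T i ⊗[R] A, SGA3b.powConv (T i) (T i ⊗[R] A) n z =
            algebraMap (T i) _ (CoalgebraStruct.counit (R := T i) z) := by
          intro z
          induction z using TensorProduct.induction_on with
          | zero => simp
          | tmul t a =>
            rw [show (t ⊗ₜ[R] a : T i ⊗[R] A) = t • ((1 : T i) ⊗ₜ[R] a) by simp [smul_tmul'], map_smul, map_smul,
              powConv_bc, hn, Algebra.algebraMap_eq_smul_one (A := A), tmul_smul, TensorProduct.counit_tmul,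
              CommSemiring.counit_apply, Algebra.algebraMap_eq_smul_one, ← Algebra.TensorProduct.one_def,
              smul_assoc, smul_assoc, one_smul]
          | add p q hp hq => simp only [map_add, hp, hq]
        rw [hz, (diagHom (e i).some m).2.counit_eq_one, map_one]
      haveI : Algebra.FiniteType (T i) (MonoidAlgebra (T i) (M i)) :=
        Algebra.FiniteType.equiv (inferInstance : Algebra.FiniteType (T i) (T i ⊗[R] A))
          (BialgEquiv.toAlgEquiv (e i).some)
      haveI : Group.FG (M i) :=
        Group.fg_iff_monoid_fg.mpr ((MonoidAlgebra.finiteType_iff_fg (R := T i)).mp inferInstance)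
      haveI : Finite (M i) := CommGroup.finite_of_fg_torsion (M i) fun m =>
        isOfFinOrder_iff_pow_eq_one.mpr ⟨n, hn0, htor m⟩
      haveI : Module.Finite (T i) (MonoidAlgebra (T i) (M i)) :=
        Module.Finite.equiv (MonoidAlgebra.coeffLinearEquiv (T i) : MonoidAlgebra (T i) (M i) ≃ₗ[T i] (M i →₀ T i)).symm
      exact Module.Finite.equiv (BialgEquiv.toAlgEquiv (e i).some).toLinearEquiv.symm
    haveI : Module.Finite (∀ i, T i) ((∀ i, T i) ⊗[R] A) := by
      have : ∀ i, ∃ s : Finset A, Submodule.span (T i) ((fun a => (1 : T i) ⊗ₜ[R] a) '' (s : Set A)) = ⊤ := by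
        intro i
        obtain ⟨s, hs⟩ := Module.Finite.fg_top (R := T i) (M := T i ⊗[R] A)
        choose w hw using fun z : T i ⊗[R] A => TensorProduct.exists_finset z
        refine ⟨s.biUnion fun z => (w z).image Prod.snd, eq_top_iff.mpr ?_⟩
        rw [← hs, Submodule.span_le]
        intro z hz
        rw [hw z]
        refine Submodule.sum_mem _ fun p hp => ?_
        rw [show (p.1 ⊗ₜ[R] p.2 : T i ⊗[R] A) = p.1 • ((1 : T i) ⊗ₜ[R] p.2) by simp [smul_tmul']]
        refine Submodule.smul_mem _ _ (Submodule.subset_span ⟨p.2, ?_, rfl⟩)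
        exact Finset.mem_biUnion.mpr ⟨z, hz, Finset.mem_image_of_mem _ hp⟩
      choose s hs using this
      let S : Finset A := Finset.univ.biUnion s
      refine ⟨⟨S.image fun a => (1 : ∀ i, T i) ⊗ₜ[R] a, eq_top_iff.mpr fun z _ => ?_⟩⟩
      let Q : Submodule R A := Submodule.span R (S : Set A)
      have h0 : Q.mkQ.lTensor (∀ i, T i) z = 0 := piTensor_injective T fun i => by
        rw [map_zero, ← LinearMap.comp_apply, LinearMap.rTensor_comp_lTensor, ← LinearMap.lTensor_comp_rTensor,
          LinearMap.comp_apply]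
        generalize (LinearMap.proj i : (∀ i, T i) →ₗ[R] T i).rTensor A z = w
        have hw : w ∈ Submodule.span (T i) ((fun a => (1 : T i) ⊗ₜ[R] a) '' (s i : Set A)) := by
          rw [hs i]; trivial
        induction hw using Submodule.span_induction with
        | mem x hx =>
          obtain ⟨a, ha, rfl⟩ := hx
          rw [LinearMap.lTensor_tmul, Submodule.mkQ_apply, (Submodule.Quotient.mk_eq_zero Q).mpr
            (Submodule.subset_span (Finset.mem_biUnion.mpr ⟨i, Finset.mem_univ i, ha⟩)), tmul_zero]
        | zero => simp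
        | add p q _ _ hp hq => rw [map_add, hp, hq, add_zero]
        | smul t p _ hp =>
          rw [show Q.mkQ.lTensor (T i) (t • p) = t • Q.mkQ.lTensor (T i) p from
            (Q.mkQ.baseChange (T i)).map_smul t p, hp, smul_zero]
      obtain ⟨y, rfl⟩ := ((lTensor_exact (∀ i, T i) (LinearMap.exact_subtype_mkQ Q) Q.mkQ_surjective) z).mp h0
      suffices ∀ y, Q.subtype.lTensor (∀ i, T i) y ∈ _ from this y
      intro y
      induction y using TensorProduct.induction_on with
      | zero => simp
      | tmul t q =>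
        rw [LinearMap.lTensor_tmul, show (t ⊗ₜ[R] (Q.subtype q) : (∀ i, T i) ⊗[R] A) = t • ((1 : ∀ i, T i) ⊗ₜ[R] (q : A)) by
          simp [smul_tmul']]
        refine Submodule.smul_mem _ _ ?_
        have hq := q.2
        generalize (q : A) = a at hq ⊢
        induction hq using Submodule.span_induction with
        | mem x hx => exact Submodule.subset_span (Finset.mem_image_of_mem _ hx)
        | zero => simp
        | add p q _ _ hp hq => rw [tmul_add]; exact add_mem hp hq
        | smul r p _ hp => rw [tmul_smul, ← algebraMap_smul (∀ i, T i)]; exact Submodule.smul_mem _ _ hp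
      | add p q hp hq => rw [map_add]; exact add_mem hp hq
    exact Module.Finite.of_finite_tensorProduct_of_faithfullyFlat (∀ i, T i)

end Torsion

end Groth.Agent.H8MultRigid
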