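import Mathlib
import Groth.Prelude.Def_SGA3b
import Groth.Agent.Lib.H8MultCore
import Groth.Agent.Lib.H8Mult
import Groth.Agent.Lib.H8MultGL
import Groth.Agent.Lib.H8MultFinite
import Groth.Agent.Lib.H8MultAdic
import Groth.Agent.Lib.H8MultRigid
import Groth.Agent.Lib.H8MultOpen

/-!
# An open and closed subgroup of multiplicative type containing all torsion
-/

set_option autoImplicit false
set_option linter.all false

universe u

open TensorProduct WithConv

namespace Groth.Agent.H8MultTorsionPts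

open H8MultCore H8Mult H8MultGL

/-- Idempotents of a Noetherian ring are finite in number. -/
lemma finite_idem (R : Type u) [CommRing R] [IsNoetherianRing R] : {e : R | IsIdempotentElem e}.Finite := by
  refine Set.Finite.of_finite_image (f := fun e : R => {Q ∈ minimalPrimes R | e ∈ Q}) ?_ ?_
  · refine Set.Finite.subset (Set.Finite.finite_subsets (minimalPrimes.finite_of_isNoetherianRing R)) ?_
    rintro _ ⟨e, -, rfl⟩
    exact fun Q hQ => hQ.1
  · intro a ha b hb hab
    refine PrimeSpectrum.basicOpen_injOn_isIdempotentElem ha hb (SetLike.ext fun P => ?_)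
    obtain ⟨Q, hQ, hQP⟩ := Ideal.exists_minimalPrimes_le (I := ⊥) (J := P.asIdeal) bot_le
    have key : ∀ c : R, IsIdempotentElem c → (c ∈ P.asIdeal ↔ c ∈ Q) := by
      intro c hc
      refine ⟨fun h => ?_, fun h => hQP h⟩
      haveI : Q.IsPrime := hQ.1.1
      rcases (inferInstance : Q.IsPrime).mem_or_mem
        (show c * (1 - c) ∈ Q by rw [mul_sub, mul_one, hc.eq, sub_self]; exact Q.zero_mem) with h1 | h1
      · exact h1
      · exfalso
        exact P.isPrime.ne_top ((Ideal.eq_top_iff_one _).mpr (by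
          simpa using P.asIdeal.add_mem (hQP h1) h))
    have h1 : (a ∈ Q ↔ b ∈ Q) := by
      have h2 := congrArg (fun s : Set (Ideal R) => Q ∈ s) hab
      have hQ' : Q ∈ minimalPrimes R := hQ
      simp only [Set.mem_setOf_eq, eq_iff_iff] at h2
      exact ⟨fun h => (h2.mp ⟨hQ', h⟩).2, fun h => (h2.mpr ⟨hQ', h⟩).2⟩
    show a ∉ P.asIdeal ↔ b ∉ P.asIdeal
    rw [key a ha, key b hb, h1]

/-- Roots of characters of a finitely generated group. -/
lemma exists_root_hom (k : Type u) [Field k] [IsAlgClosed k] {M : Type u} [CommGroup M] (hM : Monoid.FG M)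
    (χ : M →* k) (d : ℕ) (hd : 0 < d) : ∃ (t : ℕ) (χ' : M →* k), 0 < t ∧ χ' ^ (d * t) = χ ^ t := by
  classical
  haveI : DivisibleBy (Additive kˣ) ℤ :=
    AddCommGroup.divisibleByIntOfSMulTopEqTop _ fun {n} hn => by
      refine eq_top_iff.mpr fun x _ => ?_
      obtain ⟨z, hz⟩ := IsAlgClosed.exists_pow_nat_eq ((Additive.toMul x : kˣ) : k) (n := n.natAbs)
        (Int.natAbs_pos.mpr hn)
      have hz0 : z ≠ 0 := fun h => by
        rw [h, zero_pow (Int.natAbs_ne_zero.mpr hn)] at hz
        exact (Additive.toMul x : kˣ).ne_zero hz.symm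
      rcases Int.natAbs_eq n with h | h
      · refine ⟨Additive.ofMul (Units.mk0 z hz0), trivial, ?_⟩
        show n • Additive.ofMul (Units.mk0 z hz0) = x
        rw [h, natCast_zsmul]
        exact Additive.toMul.injective (Units.ext (by rw [toMul_nsmul, Units.val_pow_eq_pow_val]; exact hz))
      · refine ⟨Additive.ofMul (Units.mk0 z hz0)⁻¹, trivial, ?_⟩
        show n • Additive.ofMul (Units.mk0 z hz0)⁻¹ = x
        rw [h, neg_zsmul, natCast_zsmul, ofMul_inv,
          show ∀ w : Additive kˣ, -(n.natAbs • -w) = n.natAbs • w from fun w => by simp]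
        exact Additive.toMul.injective (Units.ext (by rw [toMul_nsmul, Units.val_pow_eq_pow_val]; exact hz))
  let V := Additive M
  haveI : Module.Finite ℤ V := Module.Finite.iff_addGroup_fg.mpr (by
    rw [AddGroup.fg_iff_addMonoid_fg]
    exact Monoid.fg_iff_add_fg.mp hM)
  let f : V →ₗ[ℤ] Additive kˣ :=
    ((MonoidHom.toAdditive χ.toHomUnits) : V →+ Additive kˣ).toIntLinearMap
  haveI : IsNoetherian ℤ V := isNoetherian_of_isNoetherianRing_of_finite ℤ V
  obtain ⟨S, hS⟩ := IsNoetherian.noetherian (Submodule.torsion ℤ V)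
  have htor : ∀ v ∈ S, ∃ a : ℕ, 0 < a ∧ a • v = 0 := fun v hv => by
    have : v ∈ Submodule.torsion ℤ V := hS ▸ Submodule.subset_span hv
    obtain ⟨⟨a, ha⟩, hav⟩ := this
    refine ⟨a.natAbs, Int.natAbs_pos.mpr (nonZeroDivisors.ne_zero ha), ?_⟩
    have hav' : a • v = 0 := hav
    rcases Int.natAbs_eq a with h | h
    · rw [h, natCast_zsmul] at hav'
      exact hav'
    · rw [h, neg_zsmul, natCast_zsmul, neg_eq_zero] at hav'
      exact hav'
  choose! a ha hav using htor
  let t := ∏ v ∈ S, a v
  have ht : 0 < t := Finset.prod_pos ha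
  have hkill : ∀ v ∈ Submodule.torsion ℤ V, (t : ℤ) • v = 0 := by
    intro v hv
    rw [← hS] at hv
    induction hv using Submodule.span_induction with
    | mem w hw =>
      obtain ⟨c, hc⟩ := Finset.dvd_prod_of_mem a hw
      rw [natCast_zsmul]
      show t • w = 0
      rw [show t = c * a w by rw [mul_comm]; exact hc, mul_nsmul', hav w hw, smul_zero]
    | zero => simp
    | add p q _ _ hp hq => rw [smul_add, hp, hq, add_zero]
    | smul c p _ hp => rw [smul_comm, hp, smul_zero]
  let N : ℤ := ((d * t : ℕ) : ℤ)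
  let μ : V →ₗ[ℤ] V := N • LinearMap.id
  let K := LinearMap.ker μ
  let ι : V ⧸ K →ₗ[ℤ] V := K.liftQ μ le_rfl
  have hι : Function.Injective ι := LinearMap.ker_eq_bot.mp (Submodule.ker_liftQ_eq_bot _ _ _ le_rfl)
  let g : V ⧸ K →ₗ[ℤ] Additive kˣ := K.liftQ ((t : ℤ) • f) fun v hv => by
    have h1 : v ∈ Submodule.torsion ℤ V :=
      ⟨⟨N, mem_nonZeroDivisors_of_ne_zero (by
        simp only [N, ne_eq, Int.natCast_eq_zero]
        exact (Nat.mul_pos hd ht).ne')⟩, hv⟩
    rw [LinearMap.mem_ker, LinearMap.smul_apply, ← map_smul, hkill v h1, map_zero]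
  obtain ⟨h, hh⟩ := (Module.Baer.of_divisible (Additive kˣ)).extension_property ι hι g
  let χ' : M →* k := (Units.coeHom k).comp (MonoidHom.toAdditive.symm h.toAddMonoidHom)
  refine ⟨t, χ', ht, MonoidHom.ext fun m => ?_⟩
  have h1 : h (N • Additive.ofMul m) = (t : ℤ) • f (Additive.ofMul m) :=
    LinearMap.congr_fun hh (Submodule.Quotient.mk (Additive.ofMul m))
  rw [map_zsmul, natCast_zsmul, natCast_zsmul] at h1
  have h2 := congrArg (fun z : Additive kˣ => ((Additive.toMul z : kˣ) : k)) h1
  simp only [toMul_nsmul, Units.val_pow_eq_pow_val] at h2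
  show χ' m ^ (d * t) = χ m ^ t
  exact h2

variable {A : Type u} [CommRing A] {C : Type u} [CommRing C] [HopfAlgebra A C]

/-- Points commute with the power maps. -/
lemma pt_powConv {k : Type u} [CommRing k] [Algebra A k] (y : WithConv (C →ₐ[A] k)) (n : ℕ) (c : C) :
    y.ofConv (SGA3b.powConv A C n c) = (y ^ n).ofConv c := by
  show ((y.ofConv).comp ((toConv (AlgHom.id A C)) ^ n).ofConv) c = _
  revert c
  suffices h : toConv ((y.ofConv).comp ((toConv (AlgHom.id A C)) ^ n).ofConv) = y ^ n from fun c =>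
    congrArg (fun z : WithConv (C →ₐ[A] k) => z.ofConv c) h
  induction n with
  | zero =>
    rw [pow_zero, pow_zero]
    refine WithConv.ofConv_injective (AlgHom.ext fun c => ?_)
    show y.ofConv (algebraMap A C (CoalgebraStruct.counit (R := A) c)) = algebraMap A k _
    rw [y.ofConv.commutes]
    rfl
  | succ n ih =>
    rw [pow_succ, pow_succ, comp_convMul, ih]
    rfl

set_option maxHeartbeats 800000 in
/-- An idempotent cutting out a subgroup of multiplicative type vanishes at every point if it is killed on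
all torsion subgroups. -/
theorem point_eq_zero [Coalgebra.IsCocomm A C] (hft : Algebra.FiniteType A C) (e : C) (he : IsIdempotentElem e)
    [(Ideal.span {e}).IsHopfIdeal A] (hiso : SGA3b.IsIsotrivial A (C ⧸ Ideal.span {e}))
    (hJ : ∀ n : ℕ, 0 < n → e ∈ SGA3b.torsionIdeal A C n)
    (k : Type u) [Field k] [IsAlgClosed k] [Algebra A k] (x₀ : C →ₐ[A] k) : x₀ e = 0 := by
  classical
  let X := C ⧸ Ideal.span {e}
  haveI : IsNoetherianRing (k ⊗[A] C) := by
    haveI := hft
    exact Algebra.FiniteType.isNoetherianRing k (k ⊗[A] C)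
  obtain ⟨R', _, _, -, hfin, hff, M, _, ⟨e₁⟩⟩ := hiso
  haveI := hfin
  haveI := hff
  haveI : Nontrivial (k ⊗[A] R') :=
    (Module.FaithfullyFlat.tensorProduct_mk_injective (A := A) (B := R') k).comp
      (Function.Injective.of_comp (f := id) Function.injective_id) |> fun h =>
      ((TensorProduct.comm A R' k).injective.comp h).nontrivial
  obtain ⟨𝔪, h𝔪⟩ := Ideal.exists_maximal (k ⊗[A] R')
  haveI := h𝔪
  haveI : IsDomain ((k ⊗[A] R') ⧸ 𝔪) := Ideal.Quotient.isDomain 𝔪
  let ν : k ≃ₐ[A] (k ⊗[A] R') ⧸ 𝔪 := AlgEquiv.ofBijective (IsScalarTower.toAlgHom A k _)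
    (IsAlgClosed.algebraMap_bijective_of_isIntegral (k := k))
  let φ : R' →ₐ[A] k := ν.symm.toAlgHom.comp
    ((Ideal.Quotient.mkₐ A 𝔪).comp Algebra.TensorProduct.includeRight)
  letI : Algebra R' k := φ.toRingHom.toAlgebra
  haveI : IsScalarTower A R' k := IsScalarTower.of_algebraMap_eq fun r => (φ.commutes r).symm
  have hMfg : Monoid.FG M := by
    haveI : Nontrivial R' := φ.toRingHom.domain_nontrivial
    refine MonoidAlgebra.finiteType_iff_fg (R := R').mp ?_
    haveI := hft
    haveI : Algebra.FiniteType A X := Algebra.FiniteType.of_surjective (Ideal.Quotient.mkₐ A _) Ideal.Quotient.mk_surjective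
    exact (inferInstance : Algebra.FiniteType R' (R' ⊗[A] X)).equiv (e₁ : R' ⊗[A] X ≃ₐ[R'] MonoidAlgebra R' M)
  let π := Bialgebra.Quotient.mkBialgHom (R := A) (Ideal.span {e})
  let ev : (M →* k) → MonoidAlgebra R' M →ₐ[R'] k := fun χ => MonoidAlgebra.lift R' k M χ
  let P : (M →* k) → WithConv (C →ₐ[A] k) := fun χ =>
    toConv (((((ev χ).comp (e₁ : R' ⊗[A] X →ₐ[R'] MonoidAlgebra R' M)).restrictScalars A).comp
      Algebra.TensorProduct.includeRight).comp (π : C →ₐ[A] X))
  have hPe : ∀ χ, (P χ).ofConv e = 0 := fun χ => by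
    show (((ev χ).comp (e₁ : R' ⊗[A] X →ₐ[R'] MonoidAlgebra R' M)).restrictScalars A)
      ((1 : R') ⊗ₜ[A] Ideal.Quotient.mk (Ideal.span {e}) e) = 0
    rw [Ideal.Quotient.eq_zero_iff_mem.mpr (Ideal.mem_span_singleton_self e), tmul_zero, map_zero]
  have hPmul : ∀ χ ψ, P (χ * ψ) = P χ * P ψ := by
    intro χ ψ
    refine WithConv.ofConv_injective (AlgHom.ext fun c => ?_)
    let Lχψ : MonoidAlgebra R' M ⊗[R'] MonoidAlgebra R' M →ₐ[R'] k :=
      Algebra.TensorProduct.lift (ev χ) (ev ψ) fun _ _ => Commute.all _ _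
    have h1 : ∀ q, Lχψ (CoalgebraStruct.comul (R := R') q) = ev (χ * ψ) q := by
      intro q
      induction q using MonoidAlgebra.induction_linear with
      | zero => simp
      | add p q hp hq => simp only [map_add, hp, hq]
      | single m r =>
        simp [Lχψ, ev, MonoidAlgebra.comul_single, MonoidAlgebra.lift_single, Algebra.smul_def]
        ring
    show ev (χ * ψ) (e₁ ((1 : R') ⊗ₜ[A] π c)) = _
    rw [← h1, ← CoalgHomClass.map_comp_comul_apply e₁, comul_one_tmul, ← CoalgHomClass.map_comp_comul_apply π]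
    show _ = Algebra.TensorProduct.lmul' A (Algebra.TensorProduct.map (P χ).ofConv (P ψ).ofConv
      (CoalgebraStruct.comul (R := A) c))
    generalize CoalgebraStruct.comul (R := A) c = z
    induction z using TensorProduct.induction_on with
    | zero => simp
    | tmul a b =>
      simp [Lχψ, P]
    | add p q hp hq => simp only [map_add, hp, hq]
  have hP1 : P 1 = 1 := by
    refine WithConv.ofConv_injective (AlgHom.ext fun c => ?_)
    have h1 : ∀ q, ev 1 q = algebraMap R' k (CoalgebraStruct.counit (R := R') q) := by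
      intro q
      induction q using MonoidAlgebra.induction_linear with
      | zero => simp
      | add p q hp hq => simp only [map_add, hp, hq]
      | single m r => simp [ev, MonoidAlgebra.lift_single, Algebra.smul_def]
    show ev 1 (e₁ ((1 : R') ⊗ₜ[A] π c)) = algebraMap A k (CoalgebraStruct.counit (R := A) c)
    rw [h1, CoalgHomClass.counit_comp_apply e₁, TensorProduct.counit_tmul, Bialgebra.counit_one,
      CoalgHomClass.counit_comp_apply π, Algebra.smul_def, mul_one, ← IsScalarTower.algebraMap_apply A R' k]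
  have hPpow : ∀ χ (n : ℕ), P (χ ^ n) = P χ ^ n := by
    intro χ n
    induction n with
    | zero => rw [pow_zero, pow_zero, hP1]
    | succ n ih => rw [pow_succ, pow_succ, hPmul, ih]
  have hsub : ∀ y : WithConv (C →ₐ[A] k), y.ofConv e = 0 → ∃ χ, y = P χ := by
    intro y hy
    let g : X →ₐ[A] k := Ideal.Quotient.liftₐ _ y.ofConv fun a ha => by
      obtain ⟨b, rfl⟩ := Ideal.mem_span_singleton'.mp ha
      rw [map_mul, hy, mul_zero]
    let G : R' ⊗[A] X →ₐ[R'] k := Algebra.TensorProduct.lift (Algebra.ofId R' k) g fun _ _ => Commute.all _ _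
    let χ : M →* k :=
      { toFun := fun m => G (e₁.symm (MonoidAlgebra.single m 1))
        map_one' := by rw [← MonoidAlgebra.one_def, map_one, map_one]
        map_mul' := fun a b => by rw [← map_mul, ← map_mul, MonoidAlgebra.single_mul_single, one_mul] }
    refine ⟨χ, WithConv.ofConv_injective (AlgHom.ext fun c => ?_)⟩
    have h1 : ∀ q, ev χ q = G (e₁.symm q) := by
      intro q
      induction q using MonoidAlgebra.induction_linear with
      | zero => simp
      | add p q hp hq => simp only [map_add, hp, hq]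
      | single m r =>
        rw [show MonoidAlgebra.single m r = r • MonoidAlgebra.single m (1 : R') by
          rw [MonoidAlgebra.smul_single', mul_one], map_smul (ev χ), map_smul e₁.symm, map_smul G]
        simp [ev, χ, MonoidAlgebra.lift_single]
    show _ = ev χ (e₁ ((1 : R') ⊗ₜ[A] π c))
    rw [h1, show e₁.symm (e₁ ((1 : R') ⊗ₜ[A] π c)) = (1 : R') ⊗ₜ[A] π c from EquivLike.left_inv e₁ _]
    show _ = Algebra.ofId R' k 1 * g (Ideal.Quotient.mk _ c)
    rw [map_one, one_mul]
    rfl
  let x : WithConv (C →ₐ[A] k) := toConv x₀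
  let iL : k →ₐ[A] k ⊗[A] C := Algebra.TensorProduct.includeLeft
  let iR : C →ₐ[A] k ⊗[A] C := Algebra.TensorProduct.includeRight
  let E : ℕ → k ⊗[A] C := fun i => (toConv (iL.comp (x ^ i).ofConv) * toConv iR).ofConv e
  obtain ⟨i, j, hij, hEq⟩ : ∃ i j : ℕ, i < j ∧ E i = E j := by
    obtain ⟨i, -, j, -, hne, hEq⟩ := Set.infinite_univ.exists_ne_map_eq_of_mapsTo (f := E)
      (t := {q | IsIdempotentElem q}) (fun i _ => he.map _) (finite_idem _)
    rcases lt_or_gt_of_ne hne with h | h
    · exact ⟨i, j, h, hEq⟩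
    · exact ⟨j, i, h, hEq.symm⟩
  have hev : ∀ (l : ℕ) (y : WithConv (C →ₐ[A] k)),
      Algebra.TensorProduct.lift (AlgHom.id A k) y.ofConv (fun _ _ => Commute.all _ _) (E l) =
        (x ^ l * y).ofConv e := by
    intro l y
    let L := Algebra.TensorProduct.lift (AlgHom.id A k) y.ofConv fun _ _ => Commute.all _ _
    show (L.comp (toConv (iL.comp (x ^ l).ofConv) * toConv iR).ofConv) e = _
    have e1 : L.comp (toConv (iL.comp (x ^ l).ofConv)).ofConv = (x ^ l).ofConv := AlgHom.ext fun c => by
      show L ((x ^ l).ofConv c ⊗ₜ[A] (1 : C)) = (x ^ l).ofConv c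
      simp [L]
    have e2 : L.comp (toConv iR).ofConv = y.ofConv := AlgHom.ext fun c => by
      show L ((1 : k) ⊗ₜ[A] c) = y.ofConv c
      simp [L]
    have h := comp_convMul L (toConv (iL.comp (x ^ l).ofConv)) (toConv iR)
    rw [e1, e2] at h
    exact congrArg (fun z : WithConv (C →ₐ[A] k) => z.ofConv e) h
  have hε : CoalgebraStruct.counit (R := A) e = 0 :=
    Submodule.IsCoideal.counit_eq_zero (I := (Ideal.span {e}).restrictScalars A) (Ideal.mem_span_singleton_self e)
  let d := j - i
  have hd : 0 < d := Nat.sub_pos_of_lt hij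
  have hxd : (x ^ d).ofConv e = 0 := by
    have h1 := hev i (cinv (x ^ i))
    have h2 := hev j (cinv (x ^ i))
    rw [← hEq, h1] at h2
    rw [mul_cinv, show j = d + i by omega, pow_add, mul_assoc, mul_cinv, mul_one] at h2
    rw [← h2]
    show algebraMap A k (CoalgebraStruct.counit (R := A) e) = 0
    rw [hε, map_zero]
  obtain ⟨χ, hχ⟩ := hsub (x ^ d) hxd
  obtain ⟨t, χ', ht, hχ'⟩ := exists_root_hom k hMfg χ d hd
  let y : WithConv (C →ₐ[A] k) := x * cinv (P χ')
  have hy : y ^ (d * t) = 1 := by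
    rw [mul_pow, pow_mul, hχ, ← hPpow, ← hχ', hPpow, ← mul_pow, mul_cinv, one_pow]
  have hye : y.ofConv e = 0 := by
    have h1 : ∀ c ∈ SGA3b.torsionIdeal A C (d * t), y.ofConv c = 0 := by
      intro c hc
      have : SGA3b.torsionIdeal A C (d * t) ≤ RingHom.ker y.ofConv.toRingHom :=
        Ideal.map_le_iff_le_comap.mpr fun a ha => by
          show y.ofConv (SGA3b.powConv A C (d * t) a) = 0
          rw [pt_powConv, hy]
          show algebraMap A k (CoalgebraStruct.counit (R := A) a) = 0
          rw [show CoalgebraStruct.counit (R := A) a = 0 from ha, map_zero]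
      exact this hc
    exact h1 e (hJ (d * t) (Nat.mul_pos hd ht))
  obtain ⟨ψ, hψ⟩ := hsub y hye
  have hx : x = P (ψ * χ') := by
    rw [hPmul, ← hψ]
    show x = x * cinv (P χ') * P χ'
    rw [mul_assoc, cinv_mul, mul_one]
  show x.ofConv e = 0
  rw [hx]
  exact hPe _

end Groth.Agent.H8MultTorsionPts
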