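import Mathlib
import Groth.Prelude.Def_SGA3b
import Groth.Agent.Lib.CompletionFlat
import Groth.Agent.Lib.H8MultCore
import Groth.Agent.Lib.H8Mult
import Groth.Agent.Lib.H8MultGL
import Groth.Agent.Lib.H8CharFrame
import Groth.Agent.Lib.H8MultField
import Groth.Agent.Lib.H8MultIso
import Groth.Agent.Lib.H8MultQuot
import Groth.Agent.Lib.H8MultOpen
import Groth.Agent.Lib.H8MultOpenApps
import Groth.Agent.Lib.H8MultTorsionPts
import Groth.Agent.Lib.H8GeomConn

/-!
# Groups over local rings with a Noetherian model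
-/

set_option autoImplicit false
set_option linter.all false

universe u

open TensorProduct

namespace Groth.Agent.H8MultLocalModel

open H8MultCore H8Mult H8MultGL H8MultKer H8CharFrame H8MultIso

section Kernel

variable {R : Type u} [CommRing R] {B X : Type u} [CommRing B] [HopfAlgebra R B] [CommRing X] [HopfAlgebra R X]

/-- The kernel of a surjective homomorphism of Hopf algebras is a Hopf ideal. -/
theorem isHopfIdeal_ker (π : B →ₐc[R] X) (hπ : Function.Surjective π) (K : Ideal B) (hK : ∀ x, x ∈ K ↔ π x = 0) :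
    K.IsHopfIdeal R :=
  { counit_eq_zero := fun x hx => by
      rw [← CoalgHomClass.counit_comp_apply π, (hK x).mp hx, map_zero]
    map_mkQ_comul_eq_zero := fun x hx => by
      let ψ : B ⧸ (K.restrictScalars R) →ₗ[R] X := (K.restrictScalars R).liftQ (π : B →ₐ[R] X).toLinearMap
        fun y hy => (hK y).mp hy
      have hψ : Function.Bijective ψ := by
        refine ⟨(injective_iff_map_eq_zero ψ).mpr fun y hy => ?_, fun y => ?_⟩
        · obtain ⟨y, rfl⟩ := Submodule.Quotient.mk_surjective _ y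
          exact (Submodule.Quotient.mk_eq_zero _).mpr ((hK y).mpr hy)
        · obtain ⟨z, rfl⟩ := hπ y
          exact ⟨Submodule.Quotient.mk z, rfl⟩
      let Ψ := LinearEquiv.ofBijective ψ hψ
      apply (TensorProduct.congr Ψ Ψ).injective
      rw [map_zero]
      refine Eq.trans ?_ ((congrArg (CoalgebraStruct.comul (R := R)) ((hK x).mp hx)).trans (map_zero _))
      rw [← CoalgHomClass.map_comp_comul_apply π]
      generalize CoalgebraStruct.comul (R := R) x = z
      induction z using TensorProduct.induction_on with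
      | zero => simp
      | tmul a b => rfl
      | add p q hp hq => simp only [map_add, hp, hq]
    antipode_mem := fun x hx => by
      rw [hK, map_antipode π, (hK x).mp hx, map_zero] }

end Kernel

section Clopen

variable {R : Type u} [CommRing R] {B : Type u} [CommRing B] [HopfAlgebra R B]

/-- Base change of the quotient by an idempotent. -/
theorem ker_baseChange (c : B) (T : Type u) [CommRing T] [Algebra R T] (z : T ⊗[R] B) :
    Algebra.TensorProduct.map (AlgHom.id T T) (Ideal.Quotient.mkₐ R (Ideal.span {c})) z = 0 ↔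
      z ∈ Ideal.span {((1 : T) ⊗ₜ[R] c : T ⊗[R] B)} := by
  constructor
  · intro hz
    have h1 : (Ideal.Quotient.mkₐ R (Ideal.span {c})).toLinearMap.lTensor T z = 0 := by
      refine Eq.trans ?_ hz
      clear hz
      induction z using TensorProduct.induction_on with
      | zero => simp
      | tmul a b => rfl
      | add p q hp hq => simp only [map_add, hp, hq]
    have hex : Function.Exact ((Ideal.span {c}).restrictScalars R).subtype
        (Ideal.Quotient.mkₐ R (Ideal.span {c})).toLinearMap := fun y =>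
      ⟨fun hy => ⟨⟨y, Ideal.Quotient.eq_zero_iff_mem.mp hy⟩, rfl⟩,
        fun ⟨w, hw⟩ => by rw [← hw]; exact Ideal.Quotient.eq_zero_iff_mem.mpr w.2⟩
    obtain ⟨w, rfl⟩ := (lTensor_exact T hex Ideal.Quotient.mk_surjective z).mp h1
    clear hz h1
    induction w using TensorProduct.induction_on with
    | zero => simp
    | tmul a b =>
      obtain ⟨d, hd⟩ := Ideal.mem_span_singleton'.mp b.2
      show a ⊗ₜ[R] (b : B) ∈ _
      rw [← hd, show (a ⊗ₜ[R] (d * c) : T ⊗[R] B) = (a ⊗ₜ[R] d) * ((1 : T) ⊗ₜ[R] c) by simp]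
      exact Ideal.mul_mem_left _ _ (Ideal.mem_span_singleton_self _)
    | add p q hp hq => rw [map_add]; exact add_mem hp hq
  · intro hz
    obtain ⟨y, rfl⟩ := Ideal.mem_span_singleton'.mp hz
    rw [map_mul, show Algebra.TensorProduct.map (AlgHom.id T T) (Ideal.Quotient.mkₐ R (Ideal.span {c}))
      ((1 : T) ⊗ₜ[R] c) = (1 : T) ⊗ₜ[R] Ideal.Quotient.mk _ c from rfl,
      Ideal.Quotient.eq_zero_iff_mem.mpr (Ideal.mem_span_singleton_self c), tmul_zero, mul_zero]

theorem isDiag_equiv {T : Type u} [CommRing T] {P Q : Type u} [CommRing P] [HopfAlgebra T P] [CommRing Q]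
    [HopfAlgebra T Q] (g : P ≃ₐc[T] Q) (h : SGA3b.IsDiag T Q) : SGA3b.IsDiag T P := by
  obtain ⟨M, _, ⟨e⟩⟩ := h
  exact ⟨M, inferInstance, ⟨g.trans e⟩⟩

theorem isIsotrivial_equiv {T : Type u} [CommRing T] {P Q : Type u} [CommRing P] [HopfAlgebra T P] [CommRing Q]
    [HopfAlgebra T Q] (g : P ≃ₐc[T] Q) (h : SGA3b.IsIsotrivial T Q) : SGA3b.IsIsotrivial T P := by
  obtain ⟨R', _, _, het, hfin, hff, hd⟩ := h
  refine ⟨R', inferInstance, inferInstance, het, hfin, hff, isDiag_equiv ?_ hd⟩
  let G : R' ⊗[T] P →ₐc[R'] R' ⊗[T] Q := Bialgebra.TensorProduct.map (BialgHom.id R' R') (g : P →ₐc[T] Q)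
  have hG : ∀ z, G z = (g : P ≃ₐc[T] Q).toLinearEquiv.lTensor R' z := by
    intro z
    induction z using TensorProduct.induction_on with
    | zero => simp
    | tmul a b => rfl
    | add p q hp hq => simp only [map_add, hp, hq]
  exact BialgEquiv.ofBijective G (by
    rw [show ⇑G = (g : P ≃ₐc[T] Q).toLinearEquiv.lTensor R' from funext hG]
    exact (LinearEquiv.bijective _))

/-- Isotriviality is stable under base change. -/
theorem isIsotrivial_baseChange (h : SGA3b.IsIsotrivial R B) (T : Type u) [CommRing T] [Algebra R T] :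
    SGA3b.IsIsotrivial T (T ⊗[R] B) := by
  obtain ⟨R', _, _, het, hfin, hff, hd⟩ := h
  haveI := het
  haveI := hfin
  haveI := hff
  let U := T ⊗[R] R'
  letI : Algebra R' U := Algebra.TensorProduct.rightAlgebra
  refine ⟨U, inferInstance, inferInstance, inferInstance, inferInstance, inferInstance, ?_⟩
  exact isDiag_uncancel U T (isDiag_cancel U R' (isDiag_baseChange _ hd))

/-- The subgroup cut out by an idempotent, after base change. -/
theorem clopen_baseChange (c : B) [(Ideal.span {c}).IsHopfIdeal R] (hiso : SGA3b.IsIsotrivial R (B ⧸ Ideal.span {c}))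
    (T : Type u) [CommRing T] [Algebra R T] :
    ∃ _ : (Ideal.span {((1 : T) ⊗ₜ[R] c : T ⊗[R] B)}).IsHopfIdeal T,
      SGA3b.IsIsotrivial T ((T ⊗[R] B) ⧸ Ideal.span {((1 : T) ⊗ₜ[R] c : T ⊗[R] B)}) := by
  let X := B ⧸ Ideal.span {c}
  let π : T ⊗[R] B →ₐc[T] T ⊗[R] X :=
    Bialgebra.TensorProduct.map (BialgHom.id T T) (Bialgebra.Quotient.mkBialgHom (Ideal.span {c}))
  have hπeq : ∀ z, π z = Algebra.TensorProduct.map (AlgHom.id T T) (Ideal.Quotient.mkₐ R (Ideal.span {c})) z := by
    intro z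
    induction z using TensorProduct.induction_on with
    | zero => simp
    | tmul a b => rfl
    | add p q hp hq => simp only [map_add, hp, hq]
  have hπ : Function.Surjective π := fun w => by
    induction w using TensorProduct.induction_on with
    | zero => exact ⟨0, map_zero π⟩
    | tmul a b =>
      obtain ⟨b, rfl⟩ := Ideal.Quotient.mk_surjective b
      exact ⟨a ⊗ₜ b, rfl⟩
    | add p q hp hq =>
      obtain ⟨x, rfl⟩ := hp
      obtain ⟨y, rfl⟩ := hq
      exact ⟨x + y, map_add π x y⟩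
  let K := Ideal.span {((1 : T) ⊗ₜ[R] c : T ⊗[R] B)}
  have hker : ∀ z, z ∈ K ↔ π z = 0 := fun z => by rw [hπeq]; exact (ker_baseChange c T z).symm
  haveI hH := isHopfIdeal_ker π hπ K hker
  refine ⟨hH, ?_⟩
  let ψ : (T ⊗[R] B) ⧸ K →ₐ[T] T ⊗[R] X := Ideal.Quotient.liftₐ K (π : T ⊗[R] B →ₐ[T] T ⊗[R] X)
    fun z hz => (hker z).mp hz
  have hψ : Function.Bijective ψ := by
    refine ⟨(injective_iff_map_eq_zero ψ).mpr fun y hy => ?_, fun y => ?_⟩
    · obtain ⟨y, rfl⟩ := Ideal.Quotient.mk_surjective y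
      exact Ideal.Quotient.eq_zero_iff_mem.mpr ((hker y).mpr hy)
    · obtain ⟨z, rfl⟩ := hπ y
      exact ⟨Ideal.Quotient.mk K z, rfl⟩
  refine isIsotrivial_equiv (BialgEquiv.ofBijective (BialgHom.ofAlgHom ψ ?_ ?_) hψ) (isIsotrivial_baseChange hiso T)
  · refine AlgHom.ext fun w => ?_
    obtain ⟨z, rfl⟩ := Ideal.Quotient.mk_surjective w
    show CoalgebraStruct.counit (R := T) (π z) = CoalgebraStruct.counit (R := T) (Ideal.Quotient.mk K z)
    rw [CoalgHomClass.counit_comp_apply π, Bialgebra.Quotient.counit_mk]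
  · refine AlgHom.ext fun w => ?_
    obtain ⟨z, rfl⟩ := Ideal.Quotient.mk_surjective w
    show Algebra.TensorProduct.map ψ ψ (CoalgebraStruct.comul (R := T) (Ideal.Quotient.mk K z)) =
      CoalgebraStruct.comul (R := T) (π z)
    rw [Bialgebra.Quotient.comul_mk, ← CoalgHomClass.map_comp_comul_apply π]
    generalize CoalgebraStruct.comul (R := T) z = y
    induction y using TensorProduct.induction_on with
    | zero => simp
    | tmul a b => rfl
    | add p q hp hq => simp only [map_add, hp, hq]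

/-- Transport of the quotient by an idempotent along an isomorphism. -/
theorem clopen_transport {T : Type u} [CommRing T] {P Q : Type u} [CommRing P] [HopfAlgebra T P] [CommRing Q]
    [HopfAlgebra T Q] (ν : P ≃ₐc[T] Q) (c : P) [(Ideal.span {c}).IsHopfIdeal T]
    (hiso : SGA3b.IsIsotrivial T (P ⧸ Ideal.span {c})) :
    ∃ _ : (Ideal.span {ν c}).IsHopfIdeal T, SGA3b.IsIsotrivial T (Q ⧸ Ideal.span {ν c}) := by
  let K := Ideal.span {ν c}
  let K₁ := Ideal.span {c}
  let π := (Bialgebra.Quotient.mkBialgHom (R := T) K₁).comp (ν.symm : Q →ₐc[T] P)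
  have hπ : Function.Surjective π := Ideal.Quotient.mk_surjective.comp (EquivLike.surjective ν.symm)
  have hker : ∀ z, z ∈ K ↔ π z = 0 := fun z => by
    show _ ↔ Ideal.Quotient.mk K₁ (ν.symm z) = 0
    rw [Ideal.Quotient.eq_zero_iff_mem, Ideal.mem_span_singleton', Ideal.mem_span_singleton']
    constructor
    · rintro ⟨y, rfl⟩
      exact ⟨ν.symm y, by rw [map_mul ν.symm, show ν.symm (ν c) = c from
        EquivLike.left_inv ν _]⟩
    · rintro ⟨y, hy⟩
      refine ⟨ν y, ?_⟩
      rw [← map_mul ν, hy]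
      exact EquivLike.right_inv ν z
  haveI hHK := isHopfIdeal_ker π hπ K hker
  refine ⟨hHK, ?_⟩
  let ψ : Q ⧸ K →ₐ[T] P ⧸ K₁ :=
    Ideal.Quotient.liftₐ K (π : Q →ₐ[T] _) fun z hz => (hker z).mp hz
  have hψ : Function.Bijective ψ := by
    refine ⟨(injective_iff_map_eq_zero ψ).mpr fun y hy => ?_, fun y => ?_⟩
    · obtain ⟨y, rfl⟩ := Ideal.Quotient.mk_surjective y
      exact Ideal.Quotient.eq_zero_iff_mem.mpr ((hker y).mpr hy)
    · obtain ⟨z, rfl⟩ := hπ y
      exact ⟨Ideal.Quotient.mk K z, rfl⟩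
  refine isIsotrivial_equiv (BialgEquiv.ofBijective (BialgHom.ofAlgHom ψ ?_ ?_) hψ) hiso
  · refine AlgHom.ext fun w => ?_
    obtain ⟨z, rfl⟩ := Ideal.Quotient.mk_surjective w
    show CoalgebraStruct.counit (R := T) (π z) = CoalgebraStruct.counit (R := T) (Ideal.Quotient.mk K z)
    rw [CoalgHomClass.counit_comp_apply π, Bialgebra.Quotient.counit_mk]
  · refine AlgHom.ext fun w => ?_
    obtain ⟨z, rfl⟩ := Ideal.Quotient.mk_surjective w
    show Algebra.TensorProduct.map ψ ψ (CoalgebraStruct.comul (R := T) (Ideal.Quotient.mk K z)) =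
      CoalgebraStruct.comul (R := T) (π z)
    rw [Bialgebra.Quotient.comul_mk, ← CoalgHomClass.map_comp_comul_apply π]
    generalize CoalgebraStruct.comul (R := T) z = y
    induction y using TensorProduct.induction_on with
    | zero => simp
    | tmul a b => rfl
    | add p q hp hq => simp only [map_add, hp, hq]

end Clopen

set_option maxHeartbeats 800000 in
/-- The subgroup over an extension. -/
theorem clopen_extend {R₀ R A T C₀ : Type u} [CommRing R₀] [CommRing R] [CommRing A] [CommRing T] [IsLocalRing T]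
    [CommRing C₀] [HopfAlgebra R₀ C₀] [Algebra R₀ R] [Algebra R₀ A] [Algebra R₀ T] [Algebra R T] [Algebra A T]
    [IsScalarTower R₀ R T] [IsScalarTower R₀ A T] (mA : Ideal A) (c : A ⊗[R₀] C₀) (hc : IsIdempotentElem c)
    (hcm : c ∈ Ideal.map (algebraMap A (A ⊗[R₀] C₀)) mA) [(Ideal.span {c}).IsHopfIdeal A]
    (hiso : SGA3b.IsIsotrivial A ((A ⊗[R₀] C₀) ⧸ Ideal.span {c}))
    (hmem : ∀ a ∈ mA, algebraMap A T a ∈ IsLocalRing.maximalIdeal T) :
    ∃ e : T ⊗[R] (R ⊗[R₀] C₀), IsIdempotentElem e ∧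
      e ∈ IsLocalRing.maximalIdeal T • (⊤ : Submodule T (T ⊗[R] (R ⊗[R₀] C₀))) ∧
      ∃ _ : (Ideal.span {e}).IsHopfIdeal T, SGA3b.IsIsotrivial T ((T ⊗[R] (R ⊗[R₀] C₀)) ⧸ Ideal.span {e}) := by
  obtain ⟨hH1, hiso1⟩ := clopen_baseChange c hiso T
  haveI := hH1
  let ν : T ⊗[A] (A ⊗[R₀] C₀) ≃ₐc[T] T ⊗[R] (R ⊗[R₀] C₀) :=
    (cancelBialg (R := R₀) C₀ A T).symm.trans (cancelBialg (R := R₀) C₀ R T)
  refine ⟨ν ((1 : T) ⊗ₜ[A] c), ?_, ?_, clopen_transport ν _ hiso1⟩
  · exact (hc.map (Algebra.TensorProduct.includeRight : A ⊗[R₀] C₀ →ₐ[A] T ⊗[A] (A ⊗[R₀] C₀))).map ν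
  · refine Submodule.smul_induction_on ((mem_map_iff mA c).mp hcm) (fun a ha z _ => ?_) fun p q hp hq => by
      rw [tmul_add, map_add ν]
      exact add_mem hp hq
    rw [show (1 : T) ⊗ₜ[A] (a • z) = algebraMap A T a • ((1 : T) ⊗ₜ[A] z) by
      rw [smul_tmul', smul_eq_mul, mul_one, Algebra.algebraMap_eq_smul_one, smul_tmul], map_smul ν]
    exact Submodule.smul_mem_smul (hmem a ha) Submodule.mem_top

set_option maxHeartbeats 1600000 in
set_option synthInstance.maxHeartbeats 200000 in
/-- Over a local ring with a Noetherian model, a group flat at the closed fibre which is of multiplicative type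
there has, after a faithfully flat extension, an open and closed subgroup of multiplicative type containing the
closed fibre. -/
theorem exists_clopen_model {R₀ : Type u} [CommRing R₀] [IsNoetherianRing R₀] [IsLocalRing R₀]
    {R : Type u} [CommRing R] [IsLocalRing R] [Algebra R₀ R] [IsLocalHom (algebraMap R₀ R)]
    (C₀ : Type u) [CommRing C₀] [HopfAlgebra R₀ C₀] (hft : Algebra.FiniteType R₀ C₀)
    (hfl : ∀ (q : Ideal C₀) [q.IsPrime], Ideal.map (algebraMap R₀ C₀) (IsLocalRing.maximalIdeal R₀) ≤ q →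
      Module.Flat R₀ (Localization.AtPrime q))
    (hs : SGA3b.IsMultType (IsLocalRing.ResidueField R₀) (IsLocalRing.ResidueField R₀ ⊗[R₀] C₀)) :
    ∃ (T : Type u) (_ : CommRing T) (_ : Algebra R T) (_ : IsLocalRing T), Module.FaithfullyFlat R T ∧
      ∃ e : T ⊗[R] (R ⊗[R₀] C₀), IsIdempotentElem e ∧
        e ∈ IsLocalRing.maximalIdeal T • (⊤ : Submodule T (T ⊗[R] (R ⊗[R₀] C₀))) ∧
        ∃ _ : (Ideal.span {e}).IsHopfIdeal T, SGA3b.IsIsotrivial T ((T ⊗[R] (R ⊗[R₀] C₀)) ⧸ Ideal.span {e}) := by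
  classical
  let m := IsLocalRing.maximalIdeal R₀
  have hm : m.map (algebraMap R₀ R₀) = m := Ideal.map_id m
  let A := AdicCompletion m R₀
  haveI : IsNoetherianRing A := CplFlat.isNoetherianRing hm
  haveI : IsLocalRing A := CplFlat.isLocalRing hm
  haveI : Module.Flat R₀ A := CplFlat.flat hm
  let mA := m.map (algebraMap R₀ A)
  have hmA : mA = IsLocalRing.maximalIdeal A := CplFlat.map_maximalIdeal hm
  haveI : IsAdicComplete mA A :=
    (IsAdicComplete.map_algebraMap_iff _ _).mpr (AdicCompletion.isAdicComplete (IsNoetherian.noetherian m))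
  let k := IsLocalRing.ResidueField R₀
  let ρ : k →ₐ[R₀] A ⧸ mA := Ideal.Quotient.liftₐ m (Algebra.ofId R₀ (A ⧸ mA)) fun r hr =>
    Ideal.Quotient.eq_zero_iff_mem.mpr (Ideal.mem_map_of_mem _ hr)
  letI : Algebra k (A ⧸ mA) := ρ.toRingHom.toAlgebra
  haveI : IsScalarTower R₀ k (A ⧸ mA) := IsScalarTower.of_algebraMap_eq fun r => (ρ.commutes r).symm
  haveI := hft
  have hiso0 : SGA3b.IsIsotrivial k (k ⊗[R₀] C₀) := by
    obtain ⟨k', _, _, hfin, hsep, M, _, -, hd⟩ := H8MultField.exists_sep_split inferInstance hs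
    haveI := hfin
    haveI := hsep
    haveI : Algebra.FinitePresentation k k' := Algebra.FinitePresentation.of_finiteType.mp inferInstance
    haveI : Algebra.FormallyEtale k k' := Algebra.FormallyEtale.of_isSeparable k k'
    haveI : Algebra.Etale k k' := ⟨inferInstance, inferInstance⟩
    exact ⟨k', inferInstance, inferInstance, inferInstance, hfin, inferInstance, M, inferInstance, hd⟩
  have h0 : SGA3b.IsIsotrivial (A ⧸ mA) ((A ⧸ mA) ⊗[A] (A ⊗[R₀] C₀)) := by
    have h1 := isIsotrivial_baseChange hiso0 (A ⧸ mA)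
    exact isIsotrivial_equiv ((cancelBialg (R := R₀) C₀ A (A ⧸ mA)).symm.trans
      (cancelBialg (R := R₀) C₀ k (A ⧸ mA))) h1
  obtain ⟨c, hc, hcm, hH, hiso⟩ := H8MultOpen.exists_clopen mA (C := A ⊗[R₀] C₀) inferInstance
    (fun q _ hq => H8MultOpen.flat_localization_baseChange m C₀ hfl A q hq) h0
  haveI := hH
  let A' := R ⊗[R₀] A
  obtain ⟨P, hP⟩ : ∃ P : PrimeSpectrum A', PrimeSpectrum.comap (algebraMap R A') P = IsLocalRing.closedPoint R ∧
      mA ≤ P.asIdeal.comap (Algebra.TensorProduct.includeRight : A →ₐ[R₀] A').toRingHom := by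
    haveI : Module.FaithfullyFlat R₀ A := Module.FaithfullyFlat.of_flat_of_isLocalHom
    obtain ⟨P, hP⟩ := PrimeSpectrum.comap_surjective_of_faithfullyFlat (B := A') (IsLocalRing.closedPoint R)
    refine ⟨P, hP, Ideal.map_le_iff_le_comap.mpr fun r hr => ?_⟩
    show (Algebra.TensorProduct.includeRight : A →ₐ[R₀] A') (algebraMap R₀ A r) ∈ P.asIdeal
    rw [AlgHom.commutes, IsScalarTower.algebraMap_apply R₀ R A']
    show algebraMap R₀ R r ∈ (PrimeSpectrum.comap (algebraMap R A') P).asIdeal
    rw [hP]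
    exact map_nonunit (algebraMap R₀ R) r hr
  haveI := P.isPrime
  let T := Localization.AtPrime P.asIdeal
  haveI : Module.Flat R A' := inferInstance
  haveI : Module.Flat R T := Module.Flat.trans R A' T
  haveI : IsLocalHom (algebraMap R T) := by
    refine ⟨fun r hr => ?_⟩
    by_contra hcon
    have h1 : r ∈ (PrimeSpectrum.comap (algebraMap R A') P).asIdeal := by
      rw [hP.1]
      exact hcon
    rw [IsScalarTower.algebraMap_apply R A' T] at hr
    exact (IsLocalization.AtPrime.isUnit_to_map_iff T P.asIdeal _).mp hr h1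
  let iA : A →ₐ[R₀] T := (IsScalarTower.toAlgHom R₀ A' T).comp Algebra.TensorProduct.includeRight
  letI : Algebra A T := iA.toRingHom.toAlgebra
  haveI : IsScalarTower R₀ A T := IsScalarTower.of_algebraMap_eq fun r => (iA.commutes r).symm
  refine ⟨T, inferInstance, inferInstance, inferInstance, Module.FaithfullyFlat.of_flat_of_isLocalHom, ?_⟩
  exact clopen_extend mA c hc hcm hiso fun a ha =>
    (IsLocalization.AtPrime.to_map_mem_maximal_iff T P.asIdeal _).mpr (hP.2 ha)

/-- Connected fibres force the idempotent to vanish. -/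
theorem eq_zero_of_fibres {R : Type u} [CommRing R] {C : Type u} [CommRing C] [HopfAlgebra R C]
    (hconn : ∀ (p : Ideal R) [p.IsPrime], ConnectedSpace (PrimeSpectrum (p.ResidueField ⊗[R] C)))
    {T : Type u} [CommRing T] [Algebra R T] (e : T ⊗[R] C) (he : IsIdempotentElem e)
    (hε : CoalgebraStruct.counit (R := T) e = 0) : e = 0 := by
  refine he.eq_zero_of_isNilpotent (mem_nilradical.mp ?_)
  rw [nilradical_eq_sInf]
  refine Submodule.mem_sInf.mpr fun (Q : Ideal (T ⊗[R] C)) (hQ : Q.IsPrime) => ?_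
  let P := Q.comap (algebraMap T (T ⊗[R] C))
  let p := P.comap (algebraMap R T)
  let k := p.ResidueField
  let K := P.ResidueField
  let j : k →ₐ[R] K := Ideal.ResidueField.mapₐ p P (Algebra.ofId R T) rfl
  letI : Algebra k K := j.toRingHom.toAlgebra
  haveI : IsScalarTower R k K := IsScalarTower.of_algebraMap_eq fun r => (j.commutes r).symm
  haveI := hconn p
  let a : T ⊗[R] C →ₐ[R] K ⊗[k] (k ⊗[R] C) :=
    ((Algebra.TensorProduct.cancelBaseChange R k K K C).symm.toAlgHom.restrictScalars R).comp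
      (bc (IsScalarTower.toAlgHom R T K))
  let εk : k ⊗[R] C →ₐ[k] k := Bialgebra.counitAlgHom k (k ⊗[R] C)
  have h1 : a e = 0 := by
    refine H8GeomConn.eq_zero_of_connected εk K (a e) (he.map a) ?_
    refine Eq.trans ?_ ((congrArg (algebraMap T K) hε).trans (map_zero _))
    generalize e = z
    induction z using TensorProduct.induction_on with
    | zero => simp
    | tmul t c =>
      simp [a, εk, bc_tmul, Algebra.smul_def, ← IsScalarTower.algebraMap_apply R T K,
        ← IsScalarTower.algebraMap_apply R k K, mul_comm]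
    | add x y hx hy => simp only [map_add, hx, hy]
  have h2 : bc (IsScalarTower.toAlgHom R T K) e = 0 := by
    have h3 := congrArg (Algebra.TensorProduct.cancelBaseChange R k K K C) h1
    rw [map_zero] at h3
    rw [← h3]
    exact ((Algebra.TensorProduct.cancelBaseChange R k K K C).apply_symm_apply _).symm
  let ψ : K ⊗[R] C →ₐ[R] Q.ResidueField :=
    Algebra.TensorProduct.lift ((Ideal.ResidueField.mapₐ P Q (Algebra.ofId T (T ⊗[R] C)) rfl).restrictScalars R)
      ((IsScalarTower.toAlgHom R (T ⊗[R] C) Q.ResidueField).comp Algebra.TensorProduct.includeRight)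
      fun _ _ => Commute.all _ _
  have h4 : ψ (bc (IsScalarTower.toAlgHom R T K) e) = algebraMap (T ⊗[R] C) Q.ResidueField e := by
    generalize e = z
    induction z using TensorProduct.induction_on with
    | zero => simp
    | tmul t c =>
      rw [bc_tmul]
      show (Ideal.ResidueField.mapₐ P Q (Algebra.ofId T (T ⊗[R] C)) rfl) (algebraMap T K t) *
        algebraMap (T ⊗[R] C) Q.ResidueField ((1 : T) ⊗ₜ[R] c) = _
      rw [AlgHom.commutes, IsScalarTower.algebraMap_apply T (T ⊗[R] C) Q.ResidueField, ← map_mul]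
      simp
    | add x y hx hy => simp only [map_add, hx, hy]
  rw [h2, map_zero] at h4
  exact Ideal.algebraMap_residueField_eq_zero.mp h4.symm

end Groth.Agent.H8MultLocalModel
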