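import Mathlib
import Groth.Prelude.Def_SGA3b
import Groth.Agent.Lib.H8MultGL
import Groth.Agent.Lib.H8MultIso
import Groth.Agent.Lib.H8MultQuot
import Groth.Agent.Lib.H8MultOpenApps
import Groth.Agent.Lib.H8MultLocalModel
import Groth.Agent.Lib.H8FlatModel
import Groth.Agent.Lib.H8MultRigid
import Groth.Agent.Lib.H8MultTorsionPts

/-!
# Multiplicative type over a local ring from the closed fibre
-/

set_option autoImplicit false
set_option linter.all false
set_option synthInstance.maxHeartbeats 200000

universe u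

open TensorProduct

namespace Groth.Agent.H8MultLocal

open H8MultGL H8MultIso

variable {R : Type u} [CommRing R] {C : Type u} [CommRing C] [HopfAlgebra R C]

set_option maxHeartbeats 1600000 in
/-- After a faithfully flat local extension the closed fibre lies in an open and closed subgroup of multiplicative type. -/
theorem exists_clopen_of [IsLocalRing R] (hfp : Algebra.FinitePresentation R C)
    (hfl : ∀ (q : Ideal C) [q.IsPrime], Ideal.map (algebraMap R C) (IsLocalRing.maximalIdeal R) ≤ q →
      Module.Flat R (Localization.AtPrime q))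
    (hs : SGA3b.IsMultType (IsLocalRing.ResidueField R) (IsLocalRing.ResidueField R ⊗[R] C)) :
    ∃ (T : Type u) (_ : CommRing T) (_ : Algebra R T) (_ : IsLocalRing T), Module.FaithfullyFlat R T ∧
      ∃ e : T ⊗[R] C, IsIdempotentElem e ∧
        e ∈ IsLocalRing.maximalIdeal T • (⊤ : Submodule T (T ⊗[R] C)) ∧
        ∃ _ : (Ideal.span {e}).IsHopfIdeal T, SGA3b.IsIsotrivial T ((T ⊗[R] C) ⧸ Ideal.span {e}) := by
  obtain ⟨R₀, _, hN, hL, _, hLH, C₀, _, _, hft, hfl₀, hs₀, ⟨ν⟩⟩ := H8FlatModel.exists_flat_model R C hfp hfl hs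
  haveI := hN
  haveI := hL
  haveI := hLH
  obtain ⟨T, _, _, hTl, hff, e, he, hem, hH, hiso⟩ :=
    H8MultLocalModel.exists_clopen_model (R := R) C₀ hft hfl₀ hs₀
  let g := H8FlatModel.bcEquiv ν T
  haveI := hH
  refine ⟨T, inferInstance, inferInstance, hTl, hff, g e, he.map g, ?_, H8MultLocalModel.clopen_transport g e hiso⟩
  refine Submodule.smul_induction_on hem (fun a ha z _ => ?_) fun p q hp hq => by
    rw [map_add g]
    exact add_mem hp hq
  rw [map_smul g]
  exact Submodule.smul_mem_smul ha Submodule.mem_top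

/-- The counit kills the idempotent. -/
theorem counit_eq_zero_of_span {e : C} [(Ideal.span {e}).IsHopfIdeal R] : CoalgebraStruct.counit (R := R) e = 0 :=
  (inferInstance : (Ideal.span {e}).IsHopfIdeal R).counit_eq_zero (Ideal.mem_span_singleton_self e)

/-- If the idempotent vanishes the group is of multiplicative type. -/
theorem multType_of_zero (T : Type u) [CommRing T] [Algebra R T] [Module.FaithfullyFlat R T] {e : T ⊗[R] C} (he : e = 0)
    [(Ideal.span {e}).IsHopfIdeal T] (hiso : SGA3b.IsIsotrivial T ((T ⊗[R] C) ⧸ Ideal.span {e})) :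
    SGA3b.IsMultType R C := by
  obtain ⟨S, _, _, -, -, hff, hd⟩ := H8MultOpenApps.isotrivial_of_span_zero he hiso
  haveI := hff
  letI : Algebra R S := ((algebraMap T S).comp (algebraMap R T)).toAlgebra
  haveI : IsScalarTower R T S := IsScalarTower.of_algebraMap_eq fun _ => rfl
  haveI : Module.FaithfullyFlat R S := Module.FaithfullyFlat.trans R T S
  exact H8MultQuot.multType_of_diag_ff S (isDiag_cancel S T hd)

set_option maxHeartbeats 800000 in
/-- The idempotent lies in every torsion ideal with finite quotient. -/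
theorem mem_torsionIdeal {T : Type u} [CommRing T] [IsLocalRing T] [Algebra R T] (e : T ⊗[R] C) (he : IsIdempotentElem e)
    (hem : e ∈ IsLocalRing.maximalIdeal T • (⊤ : Submodule T (T ⊗[R] C))) (n : ℕ)
    (hfin : Module.Finite R (C ⧸ SGA3b.torsionIdeal R C n)) : e ∈ SGA3b.torsionIdeal T (T ⊗[R] C) n := by
  let J := SGA3b.torsionIdeal R C n
  let J' := SGA3b.torsionIdeal T (T ⊗[R] C) n
  let ι : C →ₐ[R] T ⊗[R] C := Algebra.TensorProduct.includeRight
  have hJ : ∀ c ∈ J, ι c ∈ J' := by
    have h : J ≤ J'.comap ι.toRingHom := by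
      refine Ideal.map_le_iff_le_comap.mpr fun x hx => ?_
      show (1 : T) ⊗ₜ[R] SGA3b.powConv R C n x ∈ J'
      rw [← H8MultRigid.powConv_bc]
      refine Ideal.mem_map_of_mem _ ?_
      show CoalgebraStruct.counit (R := T) ((1 : T) ⊗ₜ[R] x) = 0
      rw [TensorProduct.counit_tmul, Bialgebra.counit_one, show CoalgebraStruct.counit (R := R) x = 0 from hx, zero_smul]
    exact fun c hc => h hc
  let Q := (T ⊗[R] C) ⧸ J'
  let f : C ⧸ J →ₐ[R] Q := Ideal.Quotient.liftₐ J ((Ideal.Quotient.mkₐ R J').comp ι) fun c hc =>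
    Ideal.Quotient.eq_zero_iff_mem.mpr (hJ c hc)
  haveI : Module.Finite T Q := by
    obtain ⟨G, hG⟩ := hfin.fg_top
    classical
    refine ⟨⟨G.image f, ?_⟩⟩
    refine eq_top_iff.mpr fun z hz => ?_
    clear hz
    obtain ⟨z, rfl⟩ := Ideal.Quotient.mk_surjective z
    rw [Finset.coe_image]
    induction z using TensorProduct.induction_on with
    | zero => simp
    | tmul t c =>
      have h1 : f (Ideal.Quotient.mk J c) ∈ Submodule.span T (f '' (G : Set (C ⧸ J))) := by
        have h2 : Ideal.Quotient.mk J c ∈ Submodule.span R (G : Set (C ⧸ J)) := hG ▸ Submodule.mem_top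
        exact Submodule.span_le_restrictScalars R T _ (Submodule.apply_mem_span_image_of_mem_span f.toLinearMap h2)
      have h3 : Ideal.Quotient.mk J' (t ⊗ₜ[R] c) = t • f (Ideal.Quotient.mk J c) := by
        rw [show t ⊗ₜ[R] c = t • ((1 : T) ⊗ₜ[R] c) by rw [smul_tmul', smul_eq_mul, mul_one]]
        rfl
      rw [h3]
      exact Submodule.smul_mem _ t h1
    | add p q hp hq => rw [map_add]; exact add_mem hp hq
  let ē : Q := Ideal.Quotient.mk J' e
  have hee : ē * ē = ē := by rw [← map_mul, he.eq]
  let N : Submodule T Q := LinearMap.range (LinearMap.mul T Q ē)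
  have hN : N.FG := by
    rw [show N = Submodule.map (LinearMap.mul T Q ē) ⊤ from (Submodule.map_top _).symm]
    exact (Module.Finite.fg_top).map _
  have hem' : ē ∈ IsLocalRing.maximalIdeal T • (⊤ : Submodule T Q) := by
    refine Submodule.smul_induction_on (p := fun z => Ideal.Quotient.mk J' z ∈ IsLocalRing.maximalIdeal T • (⊤ : Submodule T Q))
      hem (fun a ha z _ => ?_) fun p q hp hq => by
        show Ideal.Quotient.mk J' (p + q) ∈ _
        rw [map_add]
        exact add_mem hp hq
    exact Submodule.smul_mem_smul (n := Ideal.Quotient.mk J' z) ha Submodule.mem_top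
  have hle : N ≤ IsLocalRing.maximalIdeal T • N := by
    rintro _ ⟨q, rfl⟩
    show ē * q ∈ _
    rw [← hee, mul_assoc]
    have h4 : ∀ y ∈ IsLocalRing.maximalIdeal T • (⊤ : Submodule T Q),
        y * (ē * q) ∈ IsLocalRing.maximalIdeal T • N := fun y hy => by
      refine Submodule.smul_induction_on hy (fun a ha z _ => ?_) fun a b ha hb => by rw [add_mul]; exact add_mem ha hb
      rw [smul_mul_assoc]
      exact Submodule.smul_mem_smul ha ⟨z * q, by show ē * (z * q) = _; ring⟩
    exact h4 ē hem'
  have h0 : N = ⊥ := Submodule.eq_bot_of_le_smul_of_le_jacobson_bot _ N hN hle (IsLocalRing.maximalIdeal_le_jacobson _)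
  have h1 : ē ∈ N := ⟨1, mul_one ē⟩
  rw [h0, Submodule.mem_bot] at h1
  exact Ideal.Quotient.eq_zero_iff_mem.mp h1

/-- An idempotent vanishing at every geometric point vanishes. -/
theorem eq_zero_of_points {A : Type u} [CommRing A] {B : Type u} [CommRing B] [Algebra A B] (e : B) (he : IsIdempotentElem e)
    (h : ∀ (k : Type u) [Field k] [IsAlgClosed k] [Algebra A k] (x : B →ₐ[A] k), x e = 0) : e = 0 := by
  refine he.eq_zero_of_isNilpotent (mem_nilradical.mp ?_)
  rw [nilradical_eq_sInf]
  refine Submodule.mem_sInf.mpr fun (Q : Ideal B) (hQ : Q.IsPrime) => ?_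
  haveI : Q.IsPrime := hQ
  let k := AlgebraicClosure Q.ResidueField
  have h1 := h k (IsScalarTower.toAlgHom A B k)
  rw [IsScalarTower.toAlgHom_apply, IsScalarTower.algebraMap_apply B Q.ResidueField k] at h1
  exact Ideal.algebraMap_residueField_eq_zero.mp ((map_eq_zero (algebraMap Q.ResidueField k)).mp h1)

end Groth.Agent.H8MultLocal
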