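import Mathlib
import Groth.Prelude.Def_SGA3b
import Groth.Agent.Lib.H8Mult
import Groth.Agent.Lib.H8MultGL
import Groth.Agent.Lib.H8CharFrame
import Groth.Agent.Lib.H8CharQuasi
import Groth.Agent.Lib.H8MultIso

/-!
# Spreading diagonalisations from local rings to neighbourhoods
-/

set_option autoImplicit false
set_option linter.all false
set_option synthInstance.maxHeartbeats 200000

universe u

open TensorProduct

namespace Groth.Agent.H8MultSpread

open H8MultGL H8CharFrame

section Stages

variable {R W : Type u} [CommRing R] [CommRing W] [Algebra R W] {Sg : Submonoid W}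
  {T : Type u} [CommRing T] [Algebra W T] [Algebra R T] [IsScalarTower R W T] [IsLocalization Sg T]

/-- The map from a stage to the localisation. -/
noncomputable def toT (s : Sg) : Localization.Away (s : W) →ₐ[R] T :=
  IsLocalization.liftAlgHom (M := Submonoid.powers (s : W)) (f := IsScalarTower.toAlgHom R W T) (by
    rintro ⟨_, k, rfl⟩
    show IsUnit (algebraMap W T ((s : W) ^ k))
    rw [map_pow]
    exact (IsLocalization.map_units T s).pow k)

lemma toT_algebraMap (s : Sg) (w : W) : toT (R := R) (T := T) s (algebraMap W _ w) = algebraMap W T w :=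
  IsLocalization.lift_eq _ w

/-- The transition between stages. -/
noncomputable def tr {s s' : Sg} (h : (s : W) ∣ s') : Localization.Away (s : W) →ₐ[R] Localization.Away (s' : W) :=
  IsLocalization.liftAlgHom (M := Submonoid.powers (s : W))
    (f := IsScalarTower.toAlgHom R W (Localization.Away (s' : W))) (by
      rintro ⟨_, k, rfl⟩
      obtain ⟨c, hc⟩ := h
      have hu : IsUnit (algebraMap W (Localization.Away (s' : W)) (s' : W)) :=
        IsLocalization.Away.algebraMap_isUnit _
      have hu' : IsUnit (algebraMap W (Localization.Away (s' : W)) (s : W) * algebraMap W _ c) := by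
        rw [← map_mul, ← hc]; exact hu
      show IsUnit (algebraMap W (Localization.Away (s' : W)) ((s : W) ^ k))
      rw [map_pow]
      exact (isUnit_of_mul_isUnit_left hu').pow k)

lemma tr_algebraMap {s s' : Sg} (h : (s : W) ∣ s') (w : W) :
    tr (R := R) h (algebraMap W _ w) = algebraMap W _ w :=
  IsLocalization.lift_eq _ w

lemma toT_tr {s s' : Sg} (h : (s : W) ∣ s') : (toT (R := R) (T := T) s').comp (tr h) = toT s := by
  have h0 : ((toT (R := R) (T := T) s').comp (tr h)).toRingHom = (toT (R := R) (T := T) s).toRingHom :=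
    IsLocalization.ringHom_ext (Submonoid.powers (s : W)) (RingHom.ext fun w => by
      show toT (R := R) (T := T) s' (tr h (algebraMap W _ w)) = toT s (algebraMap W _ w)
      rw [tr_algebraMap, toT_algebraMap, toT_algebraMap])
  exact AlgHom.ext fun x => RingHom.congr_fun h0 x

lemma tr_tr {s s' s'' : Sg} (h : (s : W) ∣ s') (h' : (s' : W) ∣ s'') :
    (tr (R := R) h').comp (tr h) = tr (h.trans h') := by
  have h0 : ((tr (R := R) h').comp (tr h)).toRingHom = (tr (R := R) (h.trans h')).toRingHom :=
    IsLocalization.ringHom_ext (Submonoid.powers (s : W)) (RingHom.ext fun w => by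
      show tr (R := R) h' (tr h (algebraMap W _ w)) = tr (h.trans h') (algebraMap W _ w)
      rw [tr_algebraMap, tr_algebraMap, tr_algebraMap])
  exact AlgHom.ext fun x => RingHom.congr_fun h0 x

lemma dvd_left (s s' : Sg) : (s : W) ∣ ((s * s' : Sg) : W) := ⟨(s' : W), rfl⟩

lemma dvd_right (s s' : Sg) : (s' : W) ∣ ((s * s' : Sg) : W) := ⟨(s : W), by rw [Submonoid.coe_mul, mul_comm]⟩

/-- Every element comes from a stage. -/
lemma num₀ (z : T) : ∃ (s : Sg) (y : Localization.Away (s : W)), toT (R := R) s y = z := by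
  obtain ⟨⟨w, s⟩, hw⟩ := IsLocalization.surj Sg z
  refine ⟨s, IsLocalization.mk' _ w ⟨(s : W), Submonoid.mem_powers _⟩, ?_⟩
  apply (IsLocalization.map_units T s).mul_left_injective
  show toT (R := R) s _ * algebraMap W T s = z * algebraMap W T s
  rw [hw, ← toT_algebraMap (R := R) (T := T) s (s : W), ← map_mul]
  exact (congrArg (toT (R := R) (T := T) s) (IsLocalization.mk'_spec _ _ _)).trans (toT_algebraMap s _)

/-- An element of a stage vanishing in the localisation vanishes at a later stage. -/
lemma zero₀ (s : Sg) (y : Localization.Away (s : W)) (hy : toT (R := R) (T := T) s y = 0) :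
    ∃ (s' : Sg) (h : (s : W) ∣ s'), tr (R := R) h y = 0 := by
  obtain ⟨⟨w, ⟨_, k, rfl⟩⟩, hw⟩ := IsLocalization.surj (Submonoid.powers (s : W)) y
  have h1 : algebraMap W T w = 0 := by
    have := congrArg (toT (R := R) (T := T) s) hw
    rw [map_mul, hy, zero_mul, toT_algebraMap] at this
    exact this.symm
  obtain ⟨c, hc⟩ := (IsLocalization.map_eq_zero_iff Sg T w).mp h1
  refine ⟨s * c, ⟨c, rfl⟩, ?_⟩
  have h2 := congrArg (tr (R := R) (s := s) (s' := s * c) ⟨c, rfl⟩) hw
  rw [map_mul, tr_algebraMap, tr_algebraMap] at h2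
  have hu : IsUnit (algebraMap W (Localization.Away ((s * c : Sg) : W)) ((s : W) * c)) :=
    IsLocalization.Away.algebraMap_isUnit _
  rw [map_mul] at hu
  have h3 : algebraMap W (Localization.Away ((s * c : Sg) : W)) w = 0 := by
    apply (isUnit_of_mul_isUnit_right hu).mul_right_injective
    show algebraMap W _ (c : W) * _ = algebraMap W _ (c : W) * 0
    rw [← map_mul, hc, map_zero, mul_zero]
  rw [h3, map_pow] at h2
  exact ((isUnit_of_mul_isUnit_left hu).pow k).mul_left_eq_zero.mp h2

variable {B : Type u} [CommRing B] [Algebra R B]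

/-- The map on base changes. -/
noncomputable def mp {S S' : Type u} [CommRing S] [Algebra R S] [CommRing S'] [Algebra R S'] (φ : S →ₐ[R] S') :
    S ⊗[R] B →ₐ[R] S' ⊗[R] B := Algebra.TensorProduct.map φ (AlgHom.id R B)

lemma mp_tmul {S S' : Type u} [CommRing S] [Algebra R S] [CommRing S'] [Algebra R S'] (φ : S →ₐ[R] S') (x : S) (b : B) :
    mp (B := B) φ (x ⊗ₜ[R] b) = φ x ⊗ₜ[R] b := rfl

lemma mp_mp {S S' S'' : Type u} [CommRing S] [Algebra R S] [CommRing S'] [Algebra R S'] [CommRing S'']
    [Algebra R S''] (φ : S →ₐ[R] S') (ψ : S' →ₐ[R] S'') (z : S ⊗[R] B) :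
    mp ψ (mp φ z) = mp (ψ.comp φ) z := by
  induction z using TensorProduct.induction_on with
  | zero => simp
  | tmul a b => rfl
  | add p q hp hq => simp only [map_add, hp, hq]

lemma mp_toT_tr {s s' : Sg} (h : (s : W) ∣ s') (z : Localization.Away (s : W) ⊗[R] B) :
    mp (toT (R := R) (T := T) s') (mp (tr h) z) = mp (toT s) z := by rw [mp_mp, toT_tr]

/-- Every tensor comes from a stage. -/
lemma num (z : T ⊗[R] B) : ∃ (s : Sg) (y : Localization.Away (s : W) ⊗[R] B), mp (toT (R := R) s) y = z := by
  induction z using TensorProduct.induction_on with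
  | zero => exact ⟨1, 0, map_zero _⟩
  | tmul t b =>
    obtain ⟨s, y, rfl⟩ := num₀ (R := R) (Sg := Sg) t
    exact ⟨s, y ⊗ₜ b, rfl⟩
  | add p q hp hq =>
    obtain ⟨s, y, rfl⟩ := hp
    obtain ⟨s', y', rfl⟩ := hq
    exact ⟨s * s', mp (tr (dvd_left s s')) y + mp (tr (dvd_right s s')) y',
      by rw [map_add, mp_toT_tr, mp_toT_tr]⟩

/-- A tensor at a stage vanishing in the localisation vanishes later. -/
lemma zero (s : Sg) (y : Localization.Away (s : W) ⊗[R] B) (hy : mp (toT (R := R) (T := T) s) y = 0) :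
    ∃ (s' : Sg) (h : (s : W) ∣ s'), mp (tr (R := R) h) y = 0 := by
  let S := Localization.Away (s : W)
  letI : Algebra S T := (toT (R := R) (T := T) s).toRingHom.toAlgebra
  haveI : IsScalarTower R S T := IsScalarTower.of_algebraMap_eq fun r => ((toT (R := R) (T := T) s).commutes r).symm
  haveI : IsScalarTower W S T := IsScalarTower.of_algebraMap_eq fun w => (toT_algebraMap s w).symm
  haveI : IsLocalization (Sg.map (algebraMap W S)) T :=
    IsLocalization.isLocalization_of_submonoid_le S T (Submonoid.powers (s : W)) Sg (Submonoid.powers_le.mpr s.2)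
  have h1 : (1 : T) ⊗ₜ[S] y = 0 := by
    apply (Algebra.TensorProduct.cancelBaseChange R S T T B).injective
    rw [map_zero]
    refine Eq.trans ?_ hy
    clear hy
    induction y using TensorProduct.induction_on with
    | zero => simp
    | tmul t a =>
      rw [mp_tmul]
      simp [Algebra.smul_def]
      rfl
    | add p q hp hq => simp only [tmul_add, map_add, hp, hq]
  obtain ⟨⟨_, c, hc, rfl⟩, hcy⟩ :=
    (IsLocalizedModule.eq_zero_iff (Sg.map (algebraMap W S)) (TensorProduct.mk S T (S ⊗[R] B) 1)).mp h1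
  let c' : Sg := ⟨c, hc⟩
  refine ⟨s * c', ⟨c, rfl⟩, ?_⟩
  have hcy' : (algebraMap W S c ⊗ₜ[R] (1 : B)) * y = 0 := by
    refine Eq.trans ?_ hcy
    show _ = algebraMap W S c • y
    clear hy h1 hcy
    induction y using TensorProduct.induction_on with
    | zero => simp
    | tmul t a => simp [smul_tmul', Algebra.smul_def]; rfl
    | add p q hp hq => simp only [mul_add, smul_add, hp, hq]
  have h2 := congrArg (mp (tr (R := R) (s := s) (s' := s * c') ⟨c, rfl⟩)) hcy'
  rw [map_mul, map_zero, mp_tmul, tr_algebraMap] at h2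
  have hu : IsUnit (algebraMap W (Localization.Away ((s * c' : Sg) : W)) ((s : W) * c)) :=
    IsLocalization.Away.algebraMap_isUnit _
  rw [map_mul] at hu
  exact ((isUnit_of_mul_isUnit_right hu).map
    (Algebra.TensorProduct.includeLeft :
      Localization.Away ((s * c' : Sg) : W) →ₐ[R] Localization.Away ((s * c' : Sg) : W) ⊗[R] B)).mul_right_eq_zero.mp h2

/-- Finitely many tensors at a stage vanishing in the localisation vanish later. -/
lemma zero_finset {ι : Type*} (F : Finset ι) (s : Sg) (y : ι → Localization.Away (s : W) ⊗[R] B)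
    (hy : ∀ i ∈ F, mp (toT (R := R) (T := T) s) (y i) = 0) :
    ∃ (s' : Sg) (h : (s : W) ∣ s'), ∀ i ∈ F, mp (tr (R := R) h) (y i) = 0 := by
  classical
  induction F using Finset.induction_on with
  | empty => exact ⟨s, dvd_rfl, by simp⟩
  | insert a F ha ih =>
    obtain ⟨s₁, h₁, hF⟩ := ih fun i hi => hy i (Finset.mem_insert_of_mem hi)
    obtain ⟨s₂, h₂, ha'⟩ := zero (T := T) s₁ (mp (tr h₁) (y a))
      (by rw [mp_toT_tr]; exact hy a (Finset.mem_insert_self _ _))
    refine ⟨s₂, h₁.trans h₂, fun i hi => ?_⟩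
    have hcomp : mp (B := B) (tr (R := R) (h₁.trans h₂)) (y i) = mp (tr h₂) (mp (tr h₁) (y i)) := by
      rw [mp_mp, tr_tr]
    rw [hcomp]
    rcases Finset.mem_insert.mp hi with rfl | hi
    · exact ha'
    · rw [hF i hi, map_zero]

/-- Finitely many elements come from one stage. -/
lemma num_finset {ι : Type*} (F : Finset ι) (z : ι → T ⊗[R] B) :
    ∃ (s : Sg) (y : ι → Localization.Away (s : W) ⊗[R] B), ∀ i ∈ F, mp (toT (R := R) s) (y i) = z i := by
  classical
  induction F using Finset.induction_on with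
  | empty => exact ⟨1, fun _ => 0, by simp⟩
  | insert a F ha ih =>
    obtain ⟨s, y, hy⟩ := ih
    obtain ⟨s', y', hy'⟩ := num (Sg := Sg) (z a)
    refine ⟨s * s', fun i => if i = a then mp (tr (dvd_right s s')) y'
      else mp (tr (dvd_left s s')) (y i), fun i hi => ?_⟩
    rcases Finset.mem_insert.mp hi with rfl | hi
    · simp only [↓reduceIte, mp_toT_tr, hy']
    · have hne : i ≠ a := fun h => ha (h ▸ hi)
      dsimp only
      rw [if_neg hne, mp_toT_tr, hy i hi]

end Stages

section Square

variable {R : Type u} [CommRing R] {A : Type u} [CommRing A] [HopfAlgebra R A]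
variable (S : Type u) [CommRing S] [Algebra R S]

/-- The square of a base change over the base. -/
noncomputable def unsq : (S ⊗[R] A) ⊗[S] (S ⊗[R] A) →ₐ[S] S ⊗[R] (A ⊗[R] A) :=
  Algebra.TensorProduct.lift (Algebra.TensorProduct.map (AlgHom.id S S) Algebra.TensorProduct.includeLeft)
    (Algebra.TensorProduct.map (AlgHom.id S S) Algebra.TensorProduct.includeRight) fun _ _ => Commute.all _ _

lemma unsq_injective : Function.Injective (unsq (R := R) (A := A) S) := by
  let ψ : S ⊗[R] (A ⊗[R] A) →ₐ[S] (S ⊗[R] A) ⊗[S] (S ⊗[R] A) :=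
    Algebra.TensorProduct.lift (Algebra.ofId S _)
      (Algebra.TensorProduct.lift
        (((Algebra.TensorProduct.includeLeft : S ⊗[R] A →ₐ[S] _).restrictScalars R).comp
          (Algebra.TensorProduct.includeRight : A →ₐ[R] S ⊗[R] A))
        (((Algebra.TensorProduct.includeRight : S ⊗[R] A →ₐ[S] _).restrictScalars R).comp
          (Algebra.TensorProduct.includeRight : A →ₐ[R] S ⊗[R] A)) fun _ _ => Commute.all _ _)
      fun _ _ => Commute.all _ _
  refine Function.LeftInverse.injective (g := ψ) fun z => ?_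
  induction z using TensorProduct.induction_on with
  | zero => simp
  | add p q hp hq => simp only [map_add, hp, hq]
  | tmul x y =>
    induction x using TensorProduct.induction_on with
    | zero => simp
    | add p q hp hq => simp only [add_tmul, map_add, hp, hq]
    | tmul t a =>
      induction y using TensorProduct.induction_on with
      | zero => simp
      | add p q hp hq => simp only [tmul_add, map_add, hp, hq]
      | tmul t' b =>
        simp [ψ, unsq, Algebra.TensorProduct.algebraMap_apply, smul_tmul', Algebra.TensorProduct.tmul_mul_tmul]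
        rw [show ((t * t') ⊗ₜ[R] a : S ⊗[R] A) = t' • (t ⊗ₜ[R] a) by rw [smul_tmul', smul_eq_mul, mul_comm],
          show (t' ⊗ₜ[R] b : S ⊗[R] A) = t' • ((1 : S) ⊗ₜ[R] b) by rw [smul_tmul', smul_eq_mul, mul_one]]
        rw [TensorProduct.smul_tmul]

variable {S} {L : Type u} [CommRing L] [Algebra R L]

lemma unsq_bc2 (φ : S →ₐ[R] L) (d : (S ⊗[R] A) ⊗[S] (S ⊗[R] A)) :
    unsq L (bc2 φ d) = mp φ (unsq S d) := by
  induction d using TensorProduct.induction_on with
  | zero => simp
  | add p q hp hq => simp only [map_add, hp, hq]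
  | tmul x y =>
    rw [bc2_tmul]
    induction x using TensorProduct.induction_on with
    | zero => simp
    | add p q hp hq => simp only [map_add, add_tmul, hp, hq]
    | tmul t a =>
      induction y using TensorProduct.induction_on with
      | zero => simp
      | add p q hp hq => simp only [map_add, tmul_add, hp, hq]
      | tmul t' b => simp [unsq, bc_tmul, mp_tmul, Algebra.TensorProduct.tmul_mul_tmul]

lemma bc_eq_mp (φ : S →ₐ[R] L) (z : S ⊗[R] A) : bc φ z = mp φ z := rfl

lemma theta_nat {M : Type u} [CommGroup M] (G : M →* GroupLike S (S ⊗[R] A)) (φ : S →ₐ[R] L)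
    (y : MonoidAlgebra S M) :
    bc φ (theta G y) = theta ((glMap φ).comp G) (MonoidAlgebra.mapRingHom M φ.toRingHom y) := by
  induction y using MonoidAlgebra.induction_linear with
  | zero => simp
  | add p q hp hq => simp only [map_add, hp, hq]
  | single m r =>
    rw [MonoidAlgebra.mapRingHom_single, theta_single, theta_single, bc_smul]
    rfl

end Square

section Main

variable {R : Type u} [CommRing R] {A : Type u} [CommRing A] [HopfAlgebra R A]
variable {W : Type u} [CommRing W] [Algebra R W] {Sg : Submonoid W}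
  {T : Type u} [CommRing T] [Algebra W T] [Algebra R T] [IsScalarTower R W T] [IsLocalization Sg T]
  {M : Type u} [CommGroup M]

set_option maxHeartbeats 1600000 in
/-- A homomorphism into the group-like elements comes from a stage. -/
theorem exists_gl_stage (hM : Monoid.FG M) (G : M →* GroupLike T (T ⊗[R] A)) :
    ∃ (s : Sg) (G' : M →* GroupLike (Localization.Away (s : W)) (Localization.Away (s : W) ⊗[R] A)),
      ∀ m, glMap (toT (R := R) s) (G' m) = G m := by
  classical
  obtain ⟨F, hF⟩ := hM.fg_top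
  obtain ⟨s₀, y₀, hy₀⟩ := num_finset (Sg := Sg) Finset.univ fun i : F => (G i).val
  let π : MvPolynomial F ℤ →ₐ[ℤ] MonoidAlgebra ℤ M := MvPolynomial.aeval fun i => MonoidAlgebra.of ℤ M i
  have hπ : Function.Surjective π := by
    intro z
    induction z using MonoidAlgebra.induction_on with
    | of m =>
      have hm : m ∈ Submonoid.closure (F : Set M) := hF ▸ trivial
      induction hm using Submonoid.closure_induction with
      | mem x hx => exact ⟨MvPolynomial.X ⟨x, hx⟩, MvPolynomial.aeval_X _ _⟩
      | one => exact ⟨1, by rw [map_one, map_one]⟩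
      | mul a b _ _ ha hb =>
        obtain ⟨p, hp⟩ := ha
        obtain ⟨q, hq⟩ := hb
        exact ⟨p * q, by rw [map_mul, hp, hq, map_mul]⟩
    | add p q hp hq =>
      obtain ⟨a, rfl⟩ := hp
      obtain ⟨b, rfl⟩ := hq
      exact ⟨a + b, map_add _ _ _⟩
    | smul r p hp =>
      obtain ⟨a, rfl⟩ := hp
      exact ⟨r • a, map_smul π r a⟩
  obtain ⟨rels, hrels⟩ := IsNoetherian.noetherian (RingHom.ker π.toRingHom)
  let σ₀ : MvPolynomial F ℤ →ₐ[ℤ] Localization.Away (s₀ : W) ⊗[R] A := MvPolynomial.aeval y₀
  let χT : MonoidAlgebra ℤ M →ₐ[ℤ] T ⊗[R] A :=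
    MonoidAlgebra.lift ℤ _ M
      { toFun := fun m => (G m).val, map_one' := by rw [map_one]; rfl, map_mul' := fun a b => by rw [map_mul]; rfl }
  have hσT : ∀ P, mp (toT (R := R) (T := T) s₀) (σ₀ P) = χT (π P) := by
    intro P
    induction P using MvPolynomial.induction_on with
    | C a => simp
    | add p q hp hq => simp only [map_add, hp, hq]
    | mul_X p i hp =>
      rw [map_mul, map_mul, map_mul, map_mul, hp]
      congr 1
      simp [σ₀, π, χT, hy₀ i (Finset.mem_univ _)]
  obtain ⟨s₁, h₁, hs₁⟩ := zero_finset (T := T) rels s₀ σ₀ fun P hP => by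
    rw [hσT, show π P = 0 from (hrels ▸ Submodule.subset_span hP : P ∈ RingHom.ker π.toRingHom), map_zero]
  let σ₁ : MvPolynomial F ℤ →ₐ[ℤ] Localization.Away (s₁ : W) ⊗[R] A :=
    MvPolynomial.aeval fun i => mp (tr (R := R) h₁) (y₀ i)
  have hσ₁ : ∀ P, σ₁ P = mp (tr (R := R) h₁) (σ₀ P) := by
    intro P
    induction P using MvPolynomial.induction_on with
    | C a => simp [σ₁, σ₀]
    | add p q hp hq => simp only [map_add, hp, hq]
    | mul_X p i hp => rw [map_mul, map_mul, map_mul, hp]; simp [σ₁, σ₀]
  let h : MonoidAlgebra ℤ M →ₐ[ℤ] Localization.Away (s₁ : W) ⊗[R] A :=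
    AlgHom.liftOfSurjective π hπ σ₁ fun P hP => by
      have h2 : Submodule.span (MvPolynomial F ℤ) (rels : Set (MvPolynomial F ℤ)) ≤ RingHom.ker σ₁.toRingHom :=
        Submodule.span_le.mpr fun Q hQ => show σ₁ Q = 0 from (hσ₁ Q).trans (hs₁ Q hQ)
      exact h2 (hrels ▸ hP)
  let χ : M →* Localization.Away (s₁ : W) ⊗[R] A := h.toMonoidHom.comp (MonoidAlgebra.of ℤ M)
  have hχ : ∀ m, mp (toT (R := R) (T := T) s₁) (χ m) = (G m).val := by
    intro m
    obtain ⟨P, hP⟩ := hπ (MonoidAlgebra.of ℤ M m)
    show mp (toT (R := R) (T := T) s₁) (h (MonoidAlgebra.of ℤ M m)) = _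
    rw [← hP, show h (π P) = σ₁ P from AlgHom.liftOfSurjective_apply _ _ _ _ _]
    rw [hσ₁]
    rw [mp_toT_tr, hσT, hP]
    simp [χT]
  let d₁ : F → Localization.Away (s₁ : W) ⊗[R] A := fun i =>
    (CoalgebraStruct.counit (R := Localization.Away (s₁ : W)) (χ i) - 1) ⊗ₜ[R] (1 : A)
  let d₂ : F → Localization.Away (s₁ : W) ⊗[R] (A ⊗[R] A) := fun i =>
    unsq (Localization.Away (s₁ : W)) (CoalgebraStruct.comul (R := Localization.Away (s₁ : W)) (χ i) - χ i ⊗ₜ χ i)
  obtain ⟨s₂, h₂, hs₂⟩ := zero_finset (T := T) Finset.univ s₁ d₁ fun i _ => by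
    rw [mp_tmul, map_sub, map_one, ← counit_bc, bc_eq_mp, hχ, (G i).2.counit_eq_one, sub_self, zero_tmul]
  obtain ⟨s₃, h₃, hs₃⟩ := zero_finset (T := T) Finset.univ s₂ (fun i : F => mp (tr h₂) (d₂ i)) fun i _ => by
    rw [mp_toT_tr]
    simp only [d₂]
    rw [← unsq_bc2, AddMonoidHom.map_sub, bc2_tmul, ← comul_bc, bc_eq_mp, hχ, (G i).2.comul_eq_tmul_self,
      sub_self, map_zero]
  let φ : Localization.Away (s₁ : W) →ₐ[R] Localization.Away (s₃ : W) := (tr h₃).comp (tr h₂)
  have hφT : ∀ z : Localization.Away (s₁ : W) ⊗[R] A,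
      mp (toT (R := R) (T := T) s₃) (mp φ z) = mp (toT s₁) z := fun z => by
    rw [show mp φ z = mp (tr h₃) (mp (tr h₂) z) from (mp_mp _ _ z).symm, mp_toT_tr, mp_toT_tr]
  have hgl : ∀ m, IsGroupLikeElem (Localization.Away (s₃ : W)) (mp φ (χ m)) := by
    intro m
    have hm : m ∈ Submonoid.closure (F : Set M) := hF ▸ trivial
    induction hm using Submonoid.closure_induction with
    | one => rw [map_one, map_one]; exact IsGroupLikeElem.one
    | mul a b _ _ ha hb => rw [map_mul, map_mul]; exact ha.mul hb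
    | mem x hx =>
      constructor
      · have h0 := congrArg (mp (tr (R := R) h₃)) (hs₂ ⟨x, hx⟩ (Finset.mem_univ _))
        rw [map_zero, mp_mp, mp_tmul] at h0
        have h0' := congrArg (CoalgebraStruct.counit (R := Localization.Away (s₃ : W))) h0
        rw [map_zero, TensorProduct.counit_tmul, Bialgebra.counit_one, one_smul, CommSemiring.counit_apply, map_sub, map_one, sub_eq_zero] at h0'
        rw [← bc_eq_mp, counit_bc]
        exact h0'
      · have h0 := hs₃ ⟨x, hx⟩ (Finset.mem_univ _)
        simp only [mp_mp] at h0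
        rw [← unsq_bc2, AddMonoidHom.map_sub, bc2_tmul, ← comul_bc] at h0
        exact sub_eq_zero.mp (unsq_injective _ (h0.trans (map_zero _).symm))
  refine ⟨s₃, { toFun := fun m => ⟨mp φ (χ m), hgl m⟩
                map_one' := GroupLike.val_injective (by show mp φ (χ 1) = 1; rw [map_one, map_one])
                map_mul' := fun a b => GroupLike.val_injective (by
                  show mp φ (χ (a * b)) = mp φ (χ a) * mp φ (χ b); rw [map_mul, map_mul]) },
    fun m => GroupLike.val_injective ?_⟩
  exact (hφT _).trans (hχ m)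

/-- Change of stage for a homomorphism. -/
lemma glMap_toT_tr {s s' : Sg} (h : (s : W) ∣ s') (g : GroupLike (Localization.Away (s : W)) (Localization.Away (s : W) ⊗[R] A)) :
    glMap (toT (R := R) (T := T) s') (glMap (tr h) g) = glMap (toT s) g := by
  rw [glMap_glMap, toT_tr]

/-- Elements of the group algebra over the localisation come from stages. -/
lemma num_group (y : MonoidAlgebra T M) : ∃ (s : Sg) (y' : MonoidAlgebra (Localization.Away (s : W)) M),
    MonoidAlgebra.mapRingHom M (toT (R := R) s).toRingHom y' = y := by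
  induction y using MonoidAlgebra.induction_linear with
  | zero => exact ⟨1, 0, map_zero _⟩
  | add p q hp hq =>
    obtain ⟨s, a, rfl⟩ := hp
    obtain ⟨s', b, rfl⟩ := hq
    refine ⟨s * s', MonoidAlgebra.mapRingHom M (tr (R := R) (dvd_left s s')).toRingHom a +
      MonoidAlgebra.mapRingHom M (tr (R := R) (dvd_right s s')).toRingHom b, ?_⟩
    rw [map_add]
    congr 1
    · refine MonoidAlgebra.coeff_injective (Finsupp.ext fun m => ?_)
      simp only [MonoidAlgebra.coeff_mapRingHom]
      exact AlgHom.congr_fun (toT_tr (dvd_left s s')) (a.coeff m)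
    · refine MonoidAlgebra.coeff_injective (Finsupp.ext fun m => ?_)
      simp only [MonoidAlgebra.coeff_mapRingHom]
      exact AlgHom.congr_fun (toT_tr (dvd_right s s')) (b.coeff m)
  | single m r =>
    obtain ⟨s, y, rfl⟩ := num₀ (R := R) (Sg := Sg) r
    exact ⟨s, MonoidAlgebra.single m y, by rw [MonoidAlgebra.mapRingHom_single]; rfl⟩

set_option maxHeartbeats 1600000 in
/-- A frame comes from a stage, surjectively. -/
theorem exists_surjective_stage (hft : Algebra.FiniteType R A) (hM : Monoid.FG M) (G : M →* GroupLike T (T ⊗[R] A))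
    (hG : Function.Bijective (theta G)) :
    ∃ (s : Sg) (G' : M →* GroupLike (Localization.Away (s : W)) (Localization.Away (s : W) ⊗[R] A)),
      (glMap (A := A) (toT (R := R) (T := T) s)).comp G' = G ∧ Function.Surjective (theta G') := by
  classical
  obtain ⟨s₀, G₀, hG₀⟩ := exists_gl_stage (Sg := Sg) hM G
  obtain ⟨X, hX⟩ := hft.out
  suffices H : ∀ F : Finset A, ∃ (s : Sg) (h : (s₀ : W) ∣ s), ∀ a ∈ F,
      ∃ y, theta ((glMap (tr (R := R) h)).comp G₀) y = (1 : Localization.Away (s : W)) ⊗ₜ[R] a by
    obtain ⟨s, h, hs⟩ := H X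
    refine ⟨s, (glMap (tr h)).comp G₀, MonoidHom.ext fun m => ?_, fun z => ?_⟩
    · exact (glMap_toT_tr h _).trans (hG₀ m)
    · let θ : MonoidAlgebra (Localization.Away (s : W)) M →ₐ[Localization.Away (s : W)]
          Localization.Away (s : W) ⊗[R] A := theta ((glMap (tr h)).comp G₀)
      show z ∈ θ.range
      induction z using TensorProduct.induction_on with
      | zero => exact zero_mem _
      | add p q hp hq => exact add_mem hp hq
      | tmul t a =>
        have ha : (1 : Localization.Away (s : W)) ⊗ₜ[R] a ∈ θ.range := by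
          have h1 : a ∈ Algebra.adjoin R (X : Set A) := hX ▸ Algebra.mem_top
          induction h1 using Algebra.adjoin_induction with
          | mem x hx => exact hs x hx
          | algebraMap r =>
            rw [Algebra.algebraMap_eq_smul_one, ← smul_tmul, ← Algebra.algebraMap_eq_smul_one]
            exact θ.range.algebraMap_mem (algebraMap R _ r)
          | add p q _ _ hp hq => rw [tmul_add]; exact add_mem hp hq
          | mul p q _ _ hp hq =>
            rw [show (1 : Localization.Away (s : W)) ⊗ₜ[R] (p * q) = (1 ⊗ₜ p) * (1 ⊗ₜ q) by simp]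
            exact mul_mem hp hq
        rw [show t ⊗ₜ[R] a = t • ((1 : Localization.Away (s : W)) ⊗ₜ[R] a) by simp [smul_tmul']]
        exact θ.range.smul_mem ha t
  intro F
  induction F using Finset.induction_on with
  | empty => exact ⟨s₀, dvd_rfl, by simp⟩
  | insert a F ha ih =>
    obtain ⟨s, h, hs⟩ := ih
    obtain ⟨y, hy⟩ := hG.2 ((1 : T) ⊗ₜ[R] a)
    obtain ⟨s', y', hy'⟩ := num_group (R := R) (Sg := Sg) y
    let s₁ := s * s'
    have h₁ : (s₀ : W) ∣ s₁ := h.trans (dvd_left s s')
    let y₁ := MonoidAlgebra.mapRingHom M (tr (R := R) (s := s') (s' := s₁) (dvd_right s s')).toRingHom y'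
    let d : Localization.Away (s₁ : W) ⊗[R] A := theta ((glMap (tr h₁)).comp G₀) y₁ - 1 ⊗ₜ a
    have hd : mp (toT (R := R) (T := T) s₁) d = 0 := by
      rw [map_sub, ← bc_eq_mp, theta_nat, mp_tmul, map_one, sub_eq_zero, ← hy]
      have eG : (glMap (toT (R := R) (T := T) s₁)).comp ((glMap (tr h₁)).comp G₀) = G :=
        MonoidHom.ext fun m => (glMap_toT_tr h₁ _).trans (hG₀ m)
      have ey : MonoidAlgebra.mapRingHom M (toT (R := R) (T := T) s₁).toRingHom y₁ = y := by
        rw [← hy']
        refine MonoidAlgebra.coeff_injective (Finsupp.ext fun m => ?_)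
        simp only [y₁, MonoidAlgebra.coeff_mapRingHom]
        exact AlgHom.congr_fun (toT_tr (dvd_right s s')) (y'.coeff m)
      rw [eG, ey]
    obtain ⟨s₂, h₂, hd₂⟩ := zero (T := T) s₁ d hd
    refine ⟨s₂, h₁.trans h₂, fun b hb => ?_⟩
    have hglc : ∀ {u v w : Sg} (hu : (u : W) ∣ v) (hv : (v : W) ∣ w) (K : M →* GroupLike (Localization.Away (u : W)) _),
        (glMap (A := A) (tr (R := R) (hu.trans hv))).comp K = (glMap (tr hv)).comp ((glMap (tr hu)).comp K) := by
      intro u v w hu hv K
      refine MonoidHom.ext fun m => ?_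
      show glMap (tr (R := R) (hu.trans hv)) (K m) = glMap (tr hv) (glMap (tr hu) (K m))
      rw [glMap_glMap, tr_tr]
    rcases Finset.mem_insert.mp hb with rfl | hb
    · refine ⟨MonoidAlgebra.mapRingHom M (tr (R := R) h₂).toRingHom y₁, ?_⟩
      rw [hglc h₁ h₂, ← theta_nat]
      rw [map_sub, sub_eq_zero, mp_tmul, map_one] at hd₂
      exact hd₂
    · obtain ⟨z, hz⟩ := hs b hb
      have h₁₂ : (s : W) ∣ s₂ := dvd_trans (dvd_left s s') h₂
      refine ⟨MonoidAlgebra.mapRingHom M (tr (R := R) h₁₂).toRingHom z, ?_⟩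
      rw [show (h₁.trans h₂) = h.trans h₁₂ from rfl, hglc h h₁₂, ← theta_nat, hz, bc_tmul, map_one]

set_option maxHeartbeats 1600000 in
/-- A frame over the localisation comes from a frame at a stage. -/
theorem exists_frame_stage (hfp : Algebra.FinitePresentation R A) (hM : Monoid.FG M) (G : M →* GroupLike T (T ⊗[R] A))
    (hG : Function.Bijective (theta G)) :
    ∃ (s : Sg) (G' : M →* GroupLike (Localization.Away (s : W)) (Localization.Away (s : W) ⊗[R] A)),
      Function.Bijective (theta G') := by
  classical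
  haveI := hfp
  obtain ⟨s, G₁, hGc, hsurj⟩ := exists_surjective_stage (Sg := Sg) inferInstance hM G hG
  let S := Localization.Away (s : W)
  let θ : MonoidAlgebra S M →ₐ[S] S ⊗[R] A := theta G₁
  haveI : Monoid.FG M := hM
  haveI : Algebra.FiniteType S (MonoidAlgebra S M) := MonoidAlgebra.finiteType_of_fg
  have hK : (RingHom.ker θ.toRingHom).FG := by
    obtain ⟨n, f, hf⟩ := Algebra.FiniteType.iff_quotient_mvPolynomial''.mp
      (inferInstance : Algebra.FiniteType S (MonoidAlgebra S M))
    have h1 := Algebra.FinitePresentation.ker_fG_of_surjective (θ.comp f) (hsurj.comp hf)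
    have h2 : RingHom.ker θ.toRingHom = Ideal.map f.toRingHom (RingHom.ker (θ.comp f).toRingHom) := by
      refine le_antisymm (fun x hx => ?_) (Ideal.map_le_iff_le_comap.mpr fun x hx => hx)
      obtain ⟨x, rfl⟩ := hf x
      exact Ideal.mem_map_of_mem _ hx
    rw [h2]
    exact h1.map f.toRingHom
  obtain ⟨gens, hgens⟩ := hK
  have hzero : ∀ k ∈ gens, MonoidAlgebra.mapRingHom M (toT (R := R) (T := T) s).toRingHom k = 0 := fun k hk => by
    refine hG.1 ?_
    rw [map_zero, ← hGc, ← theta_nat,
      show theta G₁ k = 0 from (hgens ▸ Submodule.subset_span hk : k ∈ RingHom.ker θ.toRingHom), map_zero]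
  obtain ⟨s', h, hs'⟩ := zero_finset (T := T) (B := R) (gens.sigma fun k => k.coeff.support) s
    (fun x => x.1.coeff x.2 ⊗ₜ[R] (1 : R)) fun x hx => by
      rw [Finset.mem_sigma] at hx
      have h1 := congrArg (fun z => MonoidAlgebra.coeff z x.2) (hzero x.1 hx.1)
      simp only [MonoidAlgebra.coeff_mapRingHom] at h1
      rw [mp_tmul, show toT (R := R) (T := T) s (x.1.coeff x.2) = 0 from h1.trans (by simp), zero_tmul]
  let S' := Localization.Away (s' : W)
  letI : Algebra S S' := (tr (R := R) h).toRingHom.toAlgebra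
  haveI : IsScalarTower R S S' := IsScalarTower.of_algebraMap_eq fun r => ((tr (R := R) h).commutes r).symm
  have hcoef : ∀ k ∈ gens, ∀ m, algebraMap S S' (k.coeff m) = 0 := fun k hk m => by
    by_cases hm : m ∈ k.coeff.support
    · have h1 := hs' ⟨k, m⟩ (Finset.mem_sigma.mpr ⟨hk, hm⟩)
      rw [mp_tmul] at h1
      have h2 := congrArg (Algebra.TensorProduct.rid R R S') h1
      simpa [RingHom.algebraMap_toAlgebra] using h2
    · rw [Finsupp.notMem_support_iff.mp hm, map_zero]
  have h10 : ∀ k ∈ RingHom.ker θ.toRingHom, (1 : S') ⊗ₜ[S] k = 0 := by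
    intro k hk
    rw [← hgens] at hk
    induction hk using Submodule.span_induction with
    | mem g hg =>
      rw [← MonoidAlgebra.sum_coeff_single g, Finsupp.sum, tmul_sum]
      refine Finset.sum_eq_zero fun m _ => ?_
      rw [show MonoidAlgebra.single m (g.coeff m) = g.coeff m • MonoidAlgebra.single m (1 : S) by
        rw [MonoidAlgebra.smul_single', mul_one], ← smul_tmul, Algebra.smul_def, hcoef g hg m, zero_mul, zero_tmul]
    | zero => rw [tmul_zero]
    | add a b _ _ ha hb => rw [tmul_add, ha, hb, add_zero]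
    | smul c a _ ha =>
      rw [show (1 : S') ⊗ₜ[S] (c • a) = (1 ⊗ₜ c) * (1 ⊗ₜ a) by simp, ha, mul_zero]
  refine ⟨s', (glMap (tr h)).comp G₁, ?_⟩
  refine (theta_glMap_bijective_iff G₁ (tr (R := R) h) fun t => rfl).mpr
    ⟨(injective_iff_map_eq_zero _).mpr fun z hz => ?_, LinearMap.lTensor_surjective _ hsurj⟩
  haveI : Module.Flat S S' := by
    haveI : IsScalarTower W S S' := IsScalarTower.of_algebraMap_eq fun w => (tr_algebraMap h w).symm
    haveI : Module.Flat W S' := IsLocalization.flat S' (Submonoid.powers (s' : W))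
    exact (Module.flat_iff_of_isLocalization (M := S') S (Submonoid.powers (s : W))).mpr inferInstance
  let θl : MonoidAlgebra S M →ₗ[S] S ⊗[R] A := (theta G₁ : MonoidAlgebra S M →ₐ[S] S ⊗[R] A).toLinearMap
  have hex := LinearMap.exact_subtype_ker_map θl
  letI : AddCommGroup (LinearMap.ker θl) := Submodule.addCommGroup _
  obtain ⟨v, rfl⟩ := ((Module.Flat.lTensor_exact (R := S) (N := LinearMap.ker θl) (N' := MonoidAlgebra S M)
    (N'' := S ⊗[R] A) (f := (LinearMap.ker θl).subtype) (g := θl) S') hex z).mp hz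
  clear hz
  induction v using TensorProduct.induction_on with
  | zero => exact map_zero _
  | add a b ha hb => rw [map_add, ha, hb, add_zero]
  | tmul t k =>
    rw [LinearMap.lTensor_tmul, Submodule.subtype_apply,
      show t ⊗ₜ[S] (k : MonoidAlgebra S M) = t • ((1 : S') ⊗ₜ[S] (k : MonoidAlgebra S M)) by simp [smul_tmul'],
      h10 _ k.2, smul_zero]

end Main

end Groth.Agent.H8MultSpread
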