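import Mathlib
import Groth.Prelude.Def_SGA3b
import Groth.Agent.Lib.H8MultGL
import Groth.Agent.Lib.H8CharFrame
import Groth.Agent.Lib.H8CharQuasi
import Groth.Agent.Lib.H8MultIso
import Groth.Agent.Lib.H8MultOpenApps
import Groth.Agent.Lib.H8MultSpread

/-!
# Multiplicative type is local
-/

set_option autoImplicit false
set_option linter.all false
set_option synthInstance.maxHeartbeats 200000

universe u

open TensorProduct

namespace Groth.Agent.H8MultNbhd

open H8MultGL H8CharFrame H8MultSpread H8MultIso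

variable {R : Type u} [CommRing R]

set_option maxHeartbeats 800000 in
/-- A finitely generated subring of a local ring of `R` lifts to a basic open. -/
theorem exists_lift_away (p : Ideal R) [p.IsPrime] (A₀ : Subalgebra ℤ (Localization.AtPrime p)) (hA : A₀.FG) :
    ∃ (f : p.primeCompl) (g : A₀ →+* Localization.Away (f : R)),
      ∀ a : A₀, toT (R := R) (W := R) (T := Localization.AtPrime p) f (g a) = (a : Localization.AtPrime p) := by
  classical
  obtain ⟨F, hF⟩ := hA
  obtain ⟨s₀, y₀, hy₀⟩ := num_finset (R := R) (W := R) (Sg := p.primeCompl) (B := R) Finset.univ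
    fun i : F => ((i : Localization.AtPrime p) ⊗ₜ[R] (1 : R))
  let incl : MvPolynomial F ℤ →ₐ[ℤ] A₀ := MvPolynomial.aeval fun i => ⟨i, hF ▸ Algebra.subset_adjoin i.2⟩
  have hincl : Function.Surjective incl := by
    intro a
    have ha : (a : Localization.AtPrime p) ∈ Algebra.adjoin ℤ (Set.range fun i : F => (i : Localization.AtPrime p)) := by
      rw [Subtype.range_coe_subtype, Finset.setOf_mem, hF]
      exact a.2
    rw [Algebra.adjoin_range_eq_range_aeval] at ha
    obtain ⟨P, hP⟩ := ha
    refine ⟨P, Subtype.ext ?_⟩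
    rw [← hP]
    exact MvPolynomial.comp_aeval_apply _ A₀.val P
  obtain ⟨rels, hrels⟩ := IsNoetherian.noetherian (RingHom.ker incl.toRingHom)
  let rid := Algebra.TensorProduct.rid R R (Localization.Away (s₀ : R))
  let σ₀ : MvPolynomial F ℤ →ₐ[ℤ] Localization.Away (s₀ : R) := MvPolynomial.aeval fun i => rid (y₀ i)
  have hrid : ∀ z : Localization.Away (s₀ : R) ⊗[R] R,
      toT (R := R) (T := Localization.AtPrime p) s₀ (rid z) =
        Algebra.TensorProduct.rid R R (Localization.AtPrime p) (mp (toT s₀) z) := by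
    intro z
    induction z using TensorProduct.induction_on with
    | zero => simp
    | tmul a b => simp [rid, mp_tmul, map_smul]
    | add p q hp hq => simp only [map_add, hp, hq]
  have hσ : ∀ P, toT (R := R) (T := Localization.AtPrime p) s₀ (σ₀ P) = (incl P : Localization.AtPrime p) := by
    intro P
    induction P using MvPolynomial.induction_on with
    | C a => simp [σ₀, incl]
    | add p q hp hq => simp only [map_add, AddMemClass.coe_add, hp, hq]
    | mul_X P i hp =>
      rw [map_mul, map_mul, map_mul, MulMemClass.coe_mul, hp]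
      congr 1
      simp only [σ₀, incl, MvPolynomial.aeval_X, hrid, hy₀ i (Finset.mem_univ _)]
      simp
  obtain ⟨s₁, h₁, hs₁⟩ := zero_finset (T := Localization.AtPrime p) (B := R) rels s₀
    (fun P => σ₀ P ⊗ₜ[R] (1 : R)) fun P hP => by
      rw [mp_tmul, hσ, show incl P = 0 from (hrels ▸ Submodule.subset_span hP : P ∈ RingHom.ker incl.toRingHom),
        ZeroMemClass.coe_zero, zero_tmul]
  let σ₁ : MvPolynomial F ℤ →+* Localization.Away (s₁ : R) := (tr (R := R) h₁).toRingHom.comp σ₀.toRingHom
  have hker : RingHom.ker incl.toRingHom ≤ RingHom.ker σ₁ := by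
    rw [← hrels]
    refine Submodule.span_le.mpr fun P hP => ?_
    have h := congrArg (Algebra.TensorProduct.rid R R (Localization.Away (s₁ : R))) (hs₁ P hP)
    rw [mp_tmul, map_zero, Algebra.TensorProduct.rid_tmul, one_smul] at h
    exact h
  let g : A₀ →+* Localization.Away (s₁ : R) :=
    RingHom.liftOfSurjective incl.toRingHom hincl ⟨σ₁, hker⟩
  refine ⟨s₁, g, fun a => ?_⟩
  obtain ⟨P, rfl⟩ := hincl a
  rw [show g (incl P) = σ₁ P from RingHom.liftOfSurjective_comp_apply _ hincl ⟨σ₁, hker⟩ P]
  show toT (R := R) (T := Localization.AtPrime p) s₁ (tr h₁ (σ₀ P)) = _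
  rw [← AlgHom.comp_apply, toT_tr, hσ]

set_option maxHeartbeats 800000 in
/-- The map from the étale algebra over the local ring to the localisation of its model. -/
theorem nonempty_toLoc (p : Ideal R) [p.IsPrime] {A₀ : Subalgebra ℤ (Localization.AtPrime p)} {f : p.primeCompl}
    (g : A₀ →+* Localization.Away (f : R))
    (hg : ∀ a : A₀, toT (R := R) (W := R) (T := Localization.AtPrime p) f (g a) = (a : Localization.AtPrime p))
    {B₀ : Type u} [CommRing B₀] [Algebra A₀ B₀] {T₀ : Type u} [CommRing T₀] [Algebra (Localization.AtPrime p) T₀]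
    [Algebra R T₀] [IsScalarTower R (Localization.AtPrime p) T₀]
    (e : T₀ ≃ₐ[Localization.AtPrime p] Localization.AtPrime p ⊗[A₀] B₀) :
    letI : Algebra A₀ (Localization.Away (f : R)) := g.toAlgebra
    ∀ (T : Type u) [CommRing T] [Algebra (Localization.Away (f : R) ⊗[A₀] B₀) T] [Algebra R T]
      [IsScalarTower R (Localization.Away (f : R) ⊗[A₀] B₀) T]
      [IsLocalization (p.primeCompl.map (algebraMap R (Localization.Away (f : R) ⊗[A₀] B₀))) T],
      Nonempty (T₀ →ₐ[R] T) := by
  letI : Algebra A₀ (Localization.Away (f : R)) := g.toAlgebra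
  intro T _ _ _ _ _
  let Rp := Localization.AtPrime p
  let L := Localization.Away (f : R)
  let W := L ⊗[A₀] B₀
  let lp : L →ₐ[R] Rp := toT f
  have hunit : ∀ y : p.primeCompl, IsUnit (algebraMap R T y) := fun y => by
    rw [IsScalarTower.algebraMap_apply R W T]
    exact IsLocalization.map_units T
      (⟨algebraMap R W y, ⟨y, y.2, rfl⟩⟩ : p.primeCompl.map (algebraMap R W))
  let rT : Rp →ₐ[R] T := IsLocalization.liftAlgHom (M := p.primeCompl) (f := Algebra.ofId R T) hunit
  let lW : L →ₐ[R] T := (IsScalarTower.toAlgHom R W T).comp (Algebra.TensorProduct.includeLeft : L →ₐ[R] W)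
  have hlW : rT.comp lp = lW := by
    have h0 : (rT.comp lp).toRingHom = lW.toRingHom :=
      IsLocalization.ringHom_ext (Submonoid.powers (f : R)) (RingHom.ext fun r =>
        ((rT.comp lp).commutes r).trans (lW.commutes r).symm)
    exact AlgHom.ext fun x => RingHom.congr_fun h0 x
  letI : Algebra A₀ T := ((algebraMap W T).comp (algebraMap A₀ W)).toAlgebra
  haveI : IsScalarTower A₀ W T := IsScalarTower.of_algebraMap_eq' (R := A₀) (S := W) (A := T) rfl
  let rT' : Rp →ₐ[A₀] T :=
    { rT.toRingHom with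
      commutes' := fun a => by
        show rT (a : Rp) = algebraMap W T (g a ⊗ₜ 1)
        rw [← hg a]
        exact AlgHom.congr_fun hlW (g a) }
  let bT : B₀ →ₐ[A₀] T := (IsScalarTower.toAlgHom A₀ W T).comp Algebra.TensorProduct.includeRight
  let Φ : T₀ →+* T :=
    (Algebra.TensorProduct.lift rT' bT fun _ _ => Commute.all _ _).toRingHom.comp e.toAlgHom.toRingHom
  refine ⟨{ Φ with commutes' := fun r => ?_ }⟩
  show Algebra.TensorProduct.lift rT' bT (fun _ _ => Commute.all _ _) (e (algebraMap R T₀ r)) = algebraMap R T r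
  rw [IsScalarTower.algebraMap_apply R Rp T₀, e.commutes]
  show Algebra.TensorProduct.lift rT' bT (fun _ _ => Commute.all _ _) (algebraMap R Rp r ⊗ₜ (1 : B₀)) = _
  rw [Algebra.TensorProduct.lift_tmul, map_one, mul_one]
  exact rT.commutes r

set_option maxHeartbeats 1600000 in
/-- An étale algebra over a local ring of `R`, with a point over the closed point, maps to a localisation of an
étale algebra over `R` having a point over `p`. -/
theorem exists_etale_point (p : Ideal R) [p.IsPrime] (T₀ : Type u) [CommRing T₀] [Algebra (Localization.AtPrime p) T₀]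
    [Algebra R T₀] [IsScalarTower R (Localization.AtPrime p) T₀] [Algebra.Etale (Localization.AtPrime p) T₀]
    (q : Ideal T₀) [q.IsPrime] (hq : q.comap (algebraMap R T₀) = p) :
    ∃ (W : Type u) (_ : CommRing W) (_ : Algebra R W), Algebra.Etale R W ∧ ∃ qW : Ideal W, qW.IsPrime ∧
      qW.comap (algebraMap R W) = p ∧ Nonempty (T₀ →ₐ[R] Localization (p.primeCompl.map (algebraMap R W))) := by
  classical
  let Rp := Localization.AtPrime p
  obtain ⟨A₀, B₀, _, _, hA₀, hB₀, ⟨e⟩⟩ := Algebra.Etale.exists_subalgebra_fg (R := ℤ) (A := Rp) (B := T₀)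
  obtain ⟨f, g, hg⟩ := exists_lift_away p A₀ hA₀
  let L := Localization.Away (f : R)
  letI : Algebra A₀ L := g.toAlgebra
  let W := L ⊗[A₀] B₀
  haveI : Algebra.Etale L W := inferInstance
  haveI : Algebra.Etale R L := Algebra.Etale.of_isLocalizationAway (f : R)
  haveI : Algebra.Etale R W := Algebra.Etale.comp R L W
  let lp : L →ₐ[R] Rp := toT f
  let lp' : L →ₐ[A₀] Rp := { lp.toRingHom with commutes' := hg }
  let w₀ : W →+* T₀ := e.symm.toAlgHom.toRingHom.comp (Algebra.TensorProduct.map lp' (AlgHom.id A₀ B₀)).toRingHom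
  have hw₀ : ∀ r, w₀ (algebraMap R W r) = algebraMap R T₀ r := by
    intro r
    show e.symm (Algebra.TensorProduct.map lp' (AlgHom.id A₀ B₀) (algebraMap R L r ⊗ₜ 1)) = _
    rw [Algebra.TensorProduct.map_tmul, map_one]
    show e.symm (lp (algebraMap R L r) ⊗ₜ 1) = _
    rw [lp.commutes, IsScalarTower.algebraMap_apply R Rp T₀, ← e.symm.commutes (algebraMap R Rp r)]
    rfl
  refine ⟨W, inferInstance, inferInstance, inferInstance, q.comap w₀, inferInstance, ?_, ?_⟩
  · conv_rhs => rw [← hq]
    ext r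
    show w₀ (algebraMap R W r) ∈ q ↔ algebraMap R T₀ r ∈ q
    rw [hw₀]
  exact nonempty_toLoc p g hg e (Localization (p.primeCompl.map (algebraMap R W)))

variable {A : Type u} [CommRing A] [HopfAlgebra R A]

set_option maxHeartbeats 1600000 in
/-- A frame over an étale neighbourhood in the local ring spreads to a basic open. -/
theorem exists_nbhd (hfp : Algebra.FinitePresentation R A) (p : Ideal R) [p.IsPrime]
    (T₀ : Type u) [CommRing T₀] [Algebra (Localization.AtPrime p) T₀]
    [Algebra R T₀] [IsScalarTower R (Localization.AtPrime p) T₀] [Algebra.Etale (Localization.AtPrime p) T₀]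
    (q : Ideal T₀) [q.IsPrime] (hq : q.comap (algebraMap R T₀) = p)
    {M : Type u} [CommGroup M] (hM : Monoid.FG M) (G : M →* GroupLike T₀ (T₀ ⊗[R] A))
    (hG : Function.Bijective (theta G)) :
    ∃ (f : R) (_ : f ∉ p) (S : Type u) (_ : CommRing S) (_ : Algebra R S) (_ : Algebra (Localization.Away f) S)
      (_ : IsScalarTower R (Localization.Away f) S), Module.FaithfullyFlat (Localization.Away f) S ∧
      ∃ G' : M →* GroupLike S (S ⊗[R] A), Function.Bijective (theta G') := by
  obtain ⟨W, _, _, het, qW, hqW, hqWp, ⟨i⟩⟩ := exists_etale_point p T₀ q hq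
  haveI := hqW
  haveI := het
  let Sg := p.primeCompl.map (algebraMap R W)
  have hGT := frame_map G hG i
  obtain ⟨s, G₁, hG₁⟩ := exists_frame_stage (Sg := Sg) (T := Localization Sg) hfp hM ((glMap i).comp G) hGT
  obtain ⟨c, hc, hcs⟩ := s.2
  let S₁ := Localization.Away (s : W)
  haveI : Algebra.Etale W S₁ := Algebra.Etale.of_isLocalizationAway (s : W)
  haveI : Algebra.Etale R S₁ := Algebra.Etale.comp R W S₁
  let pp : PrimeSpectrum R := ⟨p, inferInstance⟩
  have hmem : pp ∈ Set.range (PrimeSpectrum.comap (algebraMap R S₁)) := by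
    have hns : (s : W) ∉ qW := fun h => hc (by
      rw [← hqWp]
      show algebraMap R W c ∈ qW
      rw [hcs]
      exact h)
    obtain ⟨Q, hQ⟩ : (⟨qW, hqW⟩ : PrimeSpectrum W) ∈ Set.range (PrimeSpectrum.comap (algebraMap W S₁)) := by
      rw [PrimeSpectrum.localization_away_comap_range S₁ (s : W)]
      exact hns
    refine ⟨Q, PrimeSpectrum.ext ?_⟩
    rw [IsScalarTower.algebraMap_eq R W S₁]
    show Ideal.comap _ Q.asIdeal = p
    rw [← Ideal.comap_comap, show Q.asIdeal.comap (algebraMap W S₁) = qW from congrArg PrimeSpectrum.asIdeal hQ, hqWp]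
  obtain ⟨_, ⟨_, ⟨f, rfl⟩, rfl⟩, hpf, hfsub⟩ := PrimeSpectrum.isBasis_basic_opens.exists_subset_of_mem_open hmem
    PrimeSpectrum.isOpenMap_comap_of_hasGoingDown_of_finitePresentation.isOpen_range
  let L := Localization.Away f
  let S := Localization.Away (algebraMap R S₁ f)
  letI : Algebra L S := (IsLocalization.Away.lift (S := L) f (g := algebraMap R S) (by
    rw [IsScalarTower.algebraMap_apply R S₁ S]
    exact IsLocalization.Away.algebraMap_isUnit _)).toAlgebra
  haveI : IsScalarTower R L S := IsScalarTower.of_algebraMap_eq fun r => (IsLocalization.Away.lift_eq _ _ r).symm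
  haveI : Module.Flat S₁ S := IsLocalization.flat S (Submonoid.powers (algebraMap R S₁ f))
  haveI : Module.Flat R S := Module.Flat.trans R S₁ S
  haveI : Module.Flat L S :=
    (Module.flat_iff_of_isLocalization (M := S) L (Submonoid.powers f)).mpr inferInstance
  refine ⟨f, hpf, S, inferInstance, inferInstance, inferInstance, inferInstance, ?_, ?_⟩
  · refine Module.FaithfullyFlat.of_comap_surjective fun P => ?_
    have hP : (PrimeSpectrum.comap (algebraMap R L) P) ∈ (PrimeSpectrum.basicOpen f : Set (PrimeSpectrum R)) := by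
      rw [← PrimeSpectrum.localization_away_comap_range L f]
      exact ⟨P, rfl⟩
    obtain ⟨q₁, hq₁⟩ := hfsub hP
    obtain ⟨q₂, rfl⟩ : q₁ ∈ Set.range (PrimeSpectrum.comap (algebraMap S₁ S)) := by
      rw [PrimeSpectrum.localization_away_comap_range S (algebraMap R S₁ f)]
      show algebraMap R S₁ f ∉ q₁.asIdeal
      intro h
      have h' : f ∈ (PrimeSpectrum.comap (algebraMap R S₁) q₁).asIdeal := h
      rw [hq₁] at h'
      exact hP h'
    refine ⟨q₂, PrimeSpectrum.localization_comap_injective L (Submonoid.powers f) ?_⟩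
    rw [← hq₁]
    show PrimeSpectrum.comap (algebraMap R L) (PrimeSpectrum.comap (algebraMap L S) q₂) =
      PrimeSpectrum.comap (algebraMap R S₁) (PrimeSpectrum.comap (algebraMap S₁ S) q₂)
    rw [← PrimeSpectrum.comap_comp_apply, ← PrimeSpectrum.comap_comp_apply, ← IsScalarTower.algebraMap_eq,
      ← IsScalarTower.algebraMap_eq]
  · exact ⟨(glMap (IsScalarTower.toAlgHom R S₁ S)).comp G₁, frame_map G₁ hG₁ _⟩

/-- A group of multiplicative type over a local ring has a frame at an étale point over the closed point. -/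
theorem exists_point_frame (hft : Algebra.FiniteType R A) (p : Ideal R) [p.IsPrime]
    (h : SGA3b.IsMultType (Localization.AtPrime p) (Localization.AtPrime p ⊗[R] A)) :
    ∃ (T₀ : Type u) (_ : CommRing T₀) (_ : Algebra (Localization.AtPrime p) T₀) (_ : Algebra R T₀)
      (_ : IsScalarTower R (Localization.AtPrime p) T₀) (_ : Algebra.Etale (Localization.AtPrime p) T₀)
      (q : Ideal T₀) (_ : q.IsPrime) (_ : q.comap (algebraMap R T₀) = p) (M : Type u) (_ : CommGroup M),
      Monoid.FG M ∧ ∃ G : M →* GroupLike T₀ (T₀ ⊗[R] A), Function.Bijective (theta G) := by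
  haveI := hft
  let Rp := Localization.AtPrime p
  obtain ⟨s, hs, hf⟩ := H8CharQuasi.quasiIsotrivial_of_splitting (hasSplitting_of_isMultType h) inferInstance
  obtain ⟨g, hg, hgu⟩ : ∃ g ∈ s, IsUnit g := by
    by_contra hcon
    push Not at hcon
    exact (IsLocalRing.maximalIdeal.isMaximal Rp).ne_top (top_le_iff.mp (hs.ge.trans (Ideal.span_le.mpr fun x hx => hcon x hx)))
  let L := Localization.Away g
  obtain ⟨T₀, _, _, het, hff, hd⟩ := hf g hg
  haveI := het
  haveI := hff
  letI : Algebra Rp T₀ := ((algebraMap L T₀).comp (algebraMap Rp L)).toAlgebra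
  haveI : IsScalarTower Rp L T₀ := IsScalarTower.of_algebraMap_eq' (R := Rp) (S := L) (A := T₀) rfl
  letI : Algebra R T₀ := ((algebraMap Rp T₀).comp (algebraMap R Rp)).toAlgebra
  haveI : IsScalarTower R Rp T₀ := IsScalarTower.of_algebraMap_eq' rfl
  haveI : Algebra.Etale Rp L := Algebra.Etale.of_isLocalizationAway g
  haveI : Algebra.Etale Rp T₀ := Algebra.Etale.comp Rp L T₀
  obtain ⟨P, hP⟩ : IsLocalRing.closedPoint Rp ∈ Set.range (PrimeSpectrum.comap (algebraMap Rp L)) := by
    rw [PrimeSpectrum.localization_away_comap_range L g]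
    exact fun h => h hgu
  obtain ⟨Q, hQ⟩ := PrimeSpectrum.comap_surjective_of_faithfullyFlat (B := T₀) P
  have hQp : Q.asIdeal.comap (algebraMap R T₀) = p := by
    rw [IsScalarTower.algebraMap_eq R Rp T₀, IsScalarTower.algebraMap_eq Rp L T₀, ← Ideal.comap_comap,
      ← Ideal.comap_comap]
    show Ideal.comap _ (PrimeSpectrum.comap (algebraMap Rp L) (PrimeSpectrum.comap (algebraMap L T₀) Q)).asIdeal = p
    rw [hQ, hP]
    exact IsLocalization.AtPrime.comap_maximalIdeal Rp p
  have hd' : SGA3b.IsDiag T₀ (T₀ ⊗[R] A) := isDiag_cancel T₀ Rp (isDiag_cancel T₀ L hd)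
  obtain ⟨M, _, ⟨e⟩⟩ := hd'
  haveI : Nontrivial T₀ := ⟨⟨0, 1, fun h01 => Q.isPrime.ne_top
    ((Ideal.eq_top_iff_one _).mpr (h01 ▸ Q.asIdeal.zero_mem))⟩⟩
  have hM : Monoid.FG M := MonoidAlgebra.finiteType_iff_fg.mp
    ((inferInstance : Algebra.FiniteType T₀ (T₀ ⊗[R] A)).equiv (BialgEquiv.toAlgEquiv e))
  exact ⟨T₀, inferInstance, inferInstance, inferInstance, inferInstance, inferInstance, Q.asIdeal, Q.isPrime, hQp,
    M, inferInstance, hM, diagHom e, theta_diagHom_bijective e⟩

/-- Two frames over algebras with a common point have isomorphic groups. -/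
theorem nonempty_mulEquiv {T₁ T₂ : Type u} [CommRing T₁] [CommRing T₂] [Algebra R T₁] [Algebra R T₂]
    {M N : Type u} [CommGroup M] [CommGroup N] (G₁ : M →* GroupLike T₁ (T₁ ⊗[R] A))
    (h₁ : Function.Bijective (theta G₁)) (G₂ : N →* GroupLike T₂ (T₂ ⊗[R] A)) (h₂ : Function.Bijective (theta G₂))
    (K : Type u) [Field K] [Algebra R K] (i₁ : T₁ →ₐ[R] K) (i₂ : T₂ →ₐ[R] K) : Nonempty (N ≃* M) := by
  let D1 : M →* GroupLike K (K ⊗[R] A) := (glMap i₁).comp G₁
  let D2 : N →* GroupLike K (K ⊗[R] A) := (glMap i₂).comp G₂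
  have hD1 : Function.Bijective (theta D1) := frame_map _ h₁ i₁
  have hD2 : Function.Bijective (theta D2) := frame_map _ h₂ i₂
  choose f hf using fun m => frame_surjective D1 hD1 (D2 m)
  let F : N →* M :=
    { toFun := f
      map_one' := frame_injective D1 hD1 (by rw [hf, map_one, map_one])
      map_mul' := fun a b => frame_injective D1 hD1 (by rw [hf, map_mul, map_mul, hf, hf]) }
  have hF : Function.Bijective F := (frame_comp_iff D1 hD1 F).mp (by
    rw [show D1.comp F = D2 from MonoidHom.ext hf]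
    exact hD2)
  exact ⟨MulEquiv.ofBijective F hF⟩

/-- Being of multiplicative type is local. -/
theorem multType_of_local (hfp : Algebra.FinitePresentation R A)
    (h : ∀ (p : Ideal R) [p.IsPrime], SGA3b.IsMultType (Localization.AtPrime p) (Localization.AtPrime p ⊗[R] A)) :
    SGA3b.IsMultType R A := by
  refine ⟨{f : R | SGA3b.IsMultTypeConst (Localization.Away f) (Localization.Away f ⊗[R] A)}, ?_, fun f hf => hf⟩
  by_contra hne
  obtain ⟨p, hp, hle⟩ := Ideal.exists_le_maximal _ hne
  haveI := hp.isPrime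
  haveI := hfp
  obtain ⟨T₀, _, _, _, _, _, q, hq, hqp, M, _, hM, G, hG⟩ := exists_point_frame inferInstance p (h p)
  haveI := hq
  obtain ⟨f, hf, S, _, _, _, _, hff, G', hG'⟩ := exists_nbhd hfp p T₀ q hqp hM G hG
  exact hf (hle (Ideal.subset_span
    ⟨S, inferInstance, inferInstance, hff, isDiag_uncancel S _ (isDiag_of_bijective G' hG')⟩))

set_option maxHeartbeats 800000 in
/-- A group of multiplicative type at all local rings, with toric fibres, is a torus. -/
theorem isTorus_of_local (hfp : Algebra.FinitePresentation R A)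
    (h : ∀ (p : Ideal R) [p.IsPrime], SGA3b.IsMultType (Localization.AtPrime p) (Localization.AtPrime p ⊗[R] A))
    (hfib : ∀ (p : Ideal R) [p.IsPrime], SGA3b.IsTorus p.ResidueField (p.ResidueField ⊗[R] A)) :
    SGA3b.IsTorus R A := by
  refine ⟨{f : R | SGA3b.IsTorusConst (Localization.Away f) (Localization.Away f ⊗[R] A)}, ?_, fun f hf => hf⟩
  by_contra hne
  obtain ⟨p, hp, hle⟩ := Ideal.exists_le_maximal _ hne
  haveI := hp.isPrime
  haveI := hfp
  obtain ⟨T₀, _, _, _, _, _, q, hq, hqp, M, _, hM, G, hG⟩ := exists_point_frame inferInstance p (h p)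
  haveI := hq
  let κ := p.ResidueField
  obtain ⟨s, hs, hfs⟩ := hfib p
  obtain ⟨g, hg, hg0⟩ : ∃ g ∈ s, g ≠ 0 := by
    by_contra hcon
    push Not at hcon
    have : Ideal.span s = ⊥ := Ideal.span_eq_bot.mpr hcon
    rw [hs] at this
    exact top_ne_bot this
  obtain ⟨R'', _, _, hff'', n, ⟨e⟩⟩ := hfs g hg
  haveI := hff''
  let L0 := Localization.Away g
  letI : Algebra κ R'' := ((algebraMap L0 R'').comp (algebraMap κ L0)).toAlgebra
  haveI : IsScalarTower κ L0 R'' := IsScalarTower.of_algebraMap_eq' rfl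
  letI : Algebra R R'' := ((algebraMap κ R'').comp (algebraMap R κ)).toAlgebra
  haveI : IsScalarTower R κ R'' := IsScalarTower.of_algebraMap_eq' rfl
  let N := ULift.{u} (Multiplicative (Fin n → ℤ))
  let e' : R'' ⊗[R] A ≃ₐc[R''] MonoidAlgebra R'' N :=
    (((cancelBialg (R := R) A κ R'').trans (cancelBialg (R := κ) (κ ⊗[R] A) L0 R'')).trans e).trans
      (H8MultOpenApps.congrB R'' MulEquiv.ulift.symm)
  let K := q.ResidueField
  let j : κ →ₐ[R] K := Ideal.ResidueField.mapₐ p q (Algebra.ofId R T₀) hqp.symm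
  letI : Algebra κ K := j.toRingHom.toAlgebra
  haveI : IsScalarTower R κ K := IsScalarTower.of_algebraMap_eq fun r => (j.commutes r).symm
  haveI : Module.FaithfullyFlat κ R'' := by
    haveI : Nontrivial L0 := by
      by_contra hcon
      rw [not_nontrivial_iff_subsingleton] at hcon
      obtain ⟨k, hk⟩ := (IsLocalization.subsingleton_iff (M := Submonoid.powers g) (S := L0)).mp hcon
      exact hg0 (eq_zero_of_pow_eq_zero hk)
    haveI : Nontrivial R'' := (FaithfulSMul.algebraMap_injective L0 R'').nontrivial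
    infer_instance
  let P := K ⊗[κ] R''
  haveI : Nontrivial P :=
    (Module.FaithfullyFlat.tensorProduct_mk_injective (A := κ) (B := R'') K |> fun hi =>
      (TensorProduct.comm κ R'' K).injective.comp hi).nontrivial
  obtain ⟨m, hm⟩ := Ideal.exists_maximal P
  letI : Field (P ⧸ m) := Ideal.Quotient.field m
  let i₁ : T₀ →ₐ[R] P ⧸ m := ((Ideal.Quotient.mkₐ R m).comp
    ((Algebra.TensorProduct.includeLeft : K →ₐ[κ] P).restrictScalars R)).comp (IsScalarTower.toAlgHom R T₀ K)
  let i₂ : R'' →ₐ[R] P ⧸ m := (Ideal.Quotient.mkₐ R m).comp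
    ((Algebra.TensorProduct.includeRight : R'' →ₐ[κ] P).restrictScalars R)
  obtain ⟨μ⟩ := nonempty_mulEquiv G hG (diagHom e') (theta_diagHom_bijective e') (P ⧸ m) i₁ i₂
  obtain ⟨f, hf, S, _, _, _, _, hff, G', hG'⟩ := exists_nbhd hfp p T₀ q hqp hM G hG
  refine hf (hle (Ideal.subset_span ⟨S, inferInstance, inferInstance, hff, n, ⟨?_⟩⟩))
  exact (cancelBialg (R := R) A (Localization.Away f) S).symm.trans
    ((BialgEquiv.ofBijective _ hG').symm.trans (H8MultOpenApps.congrB S (μ.symm.trans MulEquiv.ulift)))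

end Groth.Agent.H8MultNbhd
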