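import Mathlib
import Groth.Prelude.Def_SGA3b
import Groth.Agent.Lib.H8MultGL
import Groth.Agent.Lib.H8CharFrame
import Groth.Agent.Lib.H8MultField
import Groth.Agent.Lib.H8MultIso
import Groth.Agent.Lib.H8MultQuot
import Groth.Agent.Lib.H8MultLocalModel
import Groth.Agent.Lib.H8MultLocal
import Groth.Agent.Lib.H8MultNbhd
import Groth.Agent.Lib.H8FlatModel

/-!
# Multiplicative type from the fibres
-/

set_option autoImplicit false
set_option linter.all false
set_option synthInstance.maxHeartbeats 200000

universe u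

open TensorProduct

namespace Groth.Agent.H8MultFibres

open H8MultGL H8CharFrame H8MultIso

/-- Multiplicative type over a field is invariant under isomorphisms. -/
theorem multType_equiv_field {k : Type u} [Field k] {P Q : Type u} [CommRing P] [HopfAlgebra k P] [CommRing Q]
    [HopfAlgebra k Q] [Algebra.FiniteType k Q] (g : P ≃ₐc[k] Q) (h : SGA3b.IsMultType k Q) : SGA3b.IsMultType k P := by
  obtain ⟨k', _, _, hfin, hsep, M, _, -, ⟨e⟩⟩ := H8MultField.exists_sep_split (A := Q) inferInstance h
  exact H8MultQuot.multType_of_diag_ff k' ⟨M, inferInstance, ⟨(H8FlatModel.bcEquiv g k').trans e⟩⟩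

variable {R : Type u} [CommRing R] {A : Type u} [CommRing A] [HopfAlgebra R A]

set_option maxHeartbeats 1600000 in
/-- At a prime, after a local extension, the fibre lies in an open and closed subgroup, which is everything exactly when
the group is of multiplicative type there. -/
theorem exists_clopen_prime [Module.Flat R A] (hfp : Algebra.FinitePresentation R A) (p : Ideal R) [p.IsPrime]
    (hfib : SGA3b.IsMultType p.ResidueField (p.ResidueField ⊗[R] A)) :
    ∃ (T : Type u) (_ : CommRing T) (_ : Algebra R T) (_ : IsLocalRing T),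
      ∃ e : T ⊗[R] A, IsIdempotentElem e ∧
        e ∈ IsLocalRing.maximalIdeal T • (⊤ : Submodule T (T ⊗[R] A)) ∧
        ∃ _ : (Ideal.span {e}).IsHopfIdeal T, SGA3b.IsIsotrivial T ((T ⊗[R] A) ⧸ Ideal.span {e}) ∧
          (e = 0 → SGA3b.IsMultType (Localization.AtPrime p) (Localization.AtPrime p ⊗[R] A)) := by
  haveI := hfp
  let Rp := Localization.AtPrime p
  let k := IsLocalRing.ResidueField Rp
  have hs : SGA3b.IsMultType k (k ⊗[Rp] (Rp ⊗[R] A)) := by
    haveI : Algebra.FiniteType k (k ⊗[R] A) := inferInstance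
    exact multType_equiv_field (cancelBialg (R := R) A Rp k).symm hfib
  obtain ⟨T, _, _, hTl, hff, e, he, hem, hH, hiso⟩ :=
    H8MultLocal.exists_clopen_of (R := Rp) (C := Rp ⊗[R] A) inferInstance
      (fun q _ _ => Module.Flat.trans Rp (Rp ⊗[R] A) (Localization.AtPrime q)) hs
  haveI := hff
  haveI := hH
  letI : Algebra R T := ((algebraMap Rp T).comp (algebraMap R Rp)).toAlgebra
  haveI : IsScalarTower R Rp T := IsScalarTower.of_algebraMap_eq fun _ => rfl
  let g := (cancelBialg (R := R) A Rp T).symm
  obtain ⟨hH', hiso'⟩ := H8MultLocalModel.clopen_transport g e hiso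
  refine ⟨T, inferInstance, inferInstance, hTl, g e, he.map g, ?_, hH', hiso', fun h0 => ?_⟩
  · refine Submodule.smul_induction_on hem (fun a ha z _ => ?_) fun x y hx hy => by
      rw [map_add g]
      exact add_mem hx hy
    rw [map_smul g]
    exact Submodule.smul_mem_smul ha Submodule.mem_top
  · have he0 : e = 0 := (EquivLike.injective g) (h0.trans (map_zero g).symm)
    exact H8MultLocal.multType_of_zero T he0 hiso

/-- Fibres of multiplicative type which are connected force multiplicative type. -/
theorem multType_local_of_connected [Module.Flat R A] (hfp : Algebra.FinitePresentation R A) (p : Ideal R) [p.IsPrime]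
    (hfib : SGA3b.IsMultType p.ResidueField (p.ResidueField ⊗[R] A))
    (hconn : ∀ (p : Ideal R) [p.IsPrime], ConnectedSpace (PrimeSpectrum (p.ResidueField ⊗[R] A))) :
    SGA3b.IsMultType (Localization.AtPrime p) (Localization.AtPrime p ⊗[R] A) := by
  obtain ⟨T, _, _, _, e, he, hem, hH, hiso, hz⟩ := exists_clopen_prime hfp p hfib
  haveI := hH
  exact hz (H8MultLocalModel.eq_zero_of_fibres hconn e he H8MultLocal.counit_eq_zero_of_span)

/-- Finite torsion subgroups force multiplicative type. -/
theorem multType_local_of_finite [Coalgebra.IsCocomm R A] [Module.Flat R A] (hfp : Algebra.FinitePresentation R A)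
    (p : Ideal R) [p.IsPrime] (hfib : SGA3b.IsMultType p.ResidueField (p.ResidueField ⊗[R] A))
    (hfin : ∀ n : ℕ, 0 < n → Module.Finite R (A ⧸ SGA3b.torsionIdeal R A n)) :
    SGA3b.IsMultType (Localization.AtPrime p) (Localization.AtPrime p ⊗[R] A) := by
  obtain ⟨T, _, _, _, e, he, hem, hH, hiso, hz⟩ := exists_clopen_prime hfp p hfib
  haveI := hH
  haveI := hfp
  refine hz (H8MultLocal.eq_zero_of_points (A := T) e he fun k _ _ _ x => ?_)
  exact H8MultTorsionPts.point_eq_zero inferInstance e he hiso
    (fun n hn => H8MultLocal.mem_torsionIdeal e he hem n (hfin n hn)) k x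

set_option maxHeartbeats 800000 in
/-- A torus over a field is connected and of multiplicative type. -/
theorem torus_field {κ : Type u} [Field κ] {B : Type u} [CommRing B] [HopfAlgebra κ B] (h : SGA3b.IsTorus κ B) :
    SGA3b.IsMultType κ B ∧ ConnectedSpace (PrimeSpectrum B) := by
  obtain ⟨s, hs, hfs⟩ := h
  obtain ⟨g, hg, hg0⟩ : ∃ g ∈ s, g ≠ 0 := by
    by_contra hcon
    push Not at hcon
    have : Ideal.span s = ⊥ := Ideal.span_eq_bot.mpr hcon
    rw [hs] at this
    exact top_ne_bot this
  obtain ⟨R'', _, _, hff'', n, ⟨e⟩⟩ := hfs g hg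
  haveI := hff''
  let L0 := Localization.Away g
  letI : Algebra κ R'' := ((algebraMap L0 R'').comp (algebraMap κ L0)).toAlgebra
  haveI : IsScalarTower κ L0 R'' := IsScalarTower.of_algebraMap_eq' rfl
  let N := ULift.{u} (Multiplicative (Fin n → ℤ))
  let e' : R'' ⊗[κ] B ≃ₐc[R''] MonoidAlgebra R'' N :=
    ((cancelBialg (R := κ) B L0 R'').trans e).trans (H8MultOpenApps.congrB R'' MulEquiv.ulift.symm)
  haveI : Nontrivial L0 := by
    by_contra hcon
    rw [not_nontrivial_iff_subsingleton] at hcon
    obtain ⟨k, hk⟩ := (IsLocalization.subsingleton_iff (M := Submonoid.powers g) (S := L0)).mp hcon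
    exact hg0 (eq_zero_of_pow_eq_zero hk)
  haveI : Nontrivial R'' := (FaithfulSMul.algebraMap_injective L0 R'').nontrivial
  obtain ⟨m, hm⟩ := Ideal.exists_maximal R''
  letI : Field (R'' ⧸ m) := Ideal.Quotient.field m
  let L := R'' ⧸ m
  let D := (glMap (Ideal.Quotient.mkₐ κ m)).comp (diagHom e')
  have hD : Function.Bijective (theta D) := frame_map _ (theta_diagHom_bijective e') _
  let E : MonoidAlgebra L N ≃ₐc[L] L ⊗[κ] B := BialgEquiv.ofBijective (theta D) hD
  refine ⟨H8MultQuot.multType_of_diag_ff L ⟨N, inferInstance, ⟨E.symm⟩⟩, ?_⟩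
  haveI : IsDomain (MonoidAlgebra L (Multiplicative (Fin n → ℤ))) := inferInstance
  let E₂ : L ⊗[κ] B ≃+* MonoidAlgebra L (Multiplicative (Fin n → ℤ)) :=
    (E.symm.trans (H8MultOpenApps.congrB L MulEquiv.ulift)).toAlgEquiv.toRingEquiv
  haveI : IsDomain (L ⊗[κ] B) := E₂.toMulEquiv.isDomain _
  letI : Algebra B (L ⊗[κ] B) := Algebra.TensorProduct.rightAlgebra
  haveI : Module.FaithfullyFlat B (L ⊗[κ] B) :=
    Module.FaithfullyFlat.of_linearEquiv B (B ⊗[κ] L)
      { (Algebra.TensorProduct.comm κ L B).toAddEquiv with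
        map_smul' := fun b z => by
          show Algebra.TensorProduct.comm κ L B (b • z) = b • Algebra.TensorProduct.comm κ L B z
          rw [Algebra.smul_def, Algebra.smul_def, map_mul]
          rfl }
  exact (PrimeSpectrum.comap_surjective_of_faithfullyFlat (A := B) (B := L ⊗[κ] B)).connectedSpace
    (PrimeSpectrum.continuous_comap _)

end Groth.Agent.H8MultFibres
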