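import Mathlib
import Groth.Prelude.Def_SGA3x
import Groth.Prelude.Def_Red2
import Groth.Agent.Lib.H8MultType
import Groth.Agent.Lib.H8MultTransporter

/-!
# Centralisers of groups of multiplicative type, without finiteness
-/

set_option autoImplicit false

universe u

open CategoryTheory Limits AlgebraicGeometry MonoidalCategory CartesianMonoidalCategory MonObj GrpObj
open TensorProduct

noncomputable section

namespace Groth.Agent.H8MultGen

open H8ConjRigid

/-- Of multiplicative type, not necessarily of finite type. -/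
abbrev IsMult {S : Scheme.{u}} (H : Over S) [GrpObj H] : Prop :=
  TwC.Locally S TwC.Topology.fpqc (fun S' f => ∃ (M : Type) (_ : AddCommGroup M), Nonempty (Grp.mk (Red.bc f H) ≅ Grp.mk (Red.DS S' M)))

theorem locFF_and_quasiCompact {S : Scheme.{u}} (H : Over S) [GrpObj H] (hH : IsMult H) :
    H8WeilFF.LocFF H.hom ∧ QuasiCompact H.hom := by
  obtain ⟨S', f, hf, hfs, hqc, htriv⟩ := hH
  have main : ∀ U : S.affineOpens, ∃ (R' : CommRingCat.{u}) (ρ : Γ(S, U.1) ⟶ R'),
      Flat (Spec.map ρ) ∧ Surjective (Spec.map ρ) ∧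
        H8Weil.ProjCover H.hom (Spec.map ρ ≫ U.2.fromSpec) ∧
        CompactSpace ↥(pullback H.hom (Spec.map ρ ≫ U.2.fromSpec)) := by
    intro U
    obtain ⟨W, hW, hWU⟩ := hqc U.1 U.2
    choose T hT M hM hiso using htriv
    have hWf : ∀ w ∈ W, w ∈ f ⁻¹ᵁ U.1 := fun w hw => by
      show f w ∈ (U.1 : Set S)
      rw [← hWU]
      exact ⟨w, hw, rfl⟩
    have hc : ∀ w : W, ∃ V : S'.affineOpens, (w : S') ∈ V.1 ∧ V.1 ≤ T w.1 ∧ V.1 ≤ f ⁻¹ᵁ U.1 := by
      intro w
      obtain ⟨_, ⟨V, hV, rfl⟩, hwV, hle⟩ := S'.isBasis_affineOpens.exists_subset_of_mem_open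
        (show (w : S') ∈ T w.1 ⊓ f ⁻¹ᵁ U.1 from ⟨hT _, hWf _ w.2⟩) (T w.1 ⊓ f ⁻¹ᵁ U.1).isOpen
      exact ⟨⟨V, hV⟩, hwV, fun z hz => (hle hz).1, fun z hz => (hle hz).2⟩
    choose V hwV hVT hVU using hc
    obtain ⟨t, ht⟩ := hW.elim_finite_subcover (fun w : W => ((V w).1 : Set S'))
      (fun w => (V w).1.isOpen) fun w hw => Set.mem_iUnion.mpr ⟨⟨w, hw⟩, hwV ⟨w, hw⟩⟩
    let R : ↥t → CommRingCat.{u} := fun j => Γ(S', (V j.1).1)
    let φ : ∀ j : ↥t, Γ(S, U.1) ⟶ R j := fun j => f.appLE U.1 (V j.1).1 (hVU j.1)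
    let R' : CommRingCat.{u} := CommRingCat.of (∀ j, R j)
    let ρ : Γ(S, U.1) ⟶ R' := CommRingCat.ofHom (RingHom.pi fun j => (φ j).hom)
    let ev : ∀ j, R' ⟶ R j := fun j => CommRingCat.ofHom (Pi.evalRingHom _ j)
    have hρ : ∀ j, ρ ≫ ev j = φ j := fun j => by ext x; rfl
    have hφ : ∀ j, Spec.map (φ j) ≫ U.2.fromSpec = (V j.1).2.fromSpec ≫ f := fun j =>
      IsAffineOpen.SpecMap_appLE_fromSpec f U.2 (V j.1).2 (hVU j.1)
    have hcov : ∀ z : Spec R', ∃ (j : _) (z' : Spec (R j)), Spec.map (ev j) z' = z := by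
      intro z
      obtain ⟨w, hw⟩ := (sigmaSpec R).surjective z
      obtain ⟨(j : ↥t), (z' : Spec (R j)), rfl⟩ := (sigmaOpenCover fun j => Spec (R j)).exists_eq w
      exact ⟨j, z', by rw [← hw, ← Scheme.Hom.comp_apply]; exact congrArg (fun r => r z') (ι_sigmaSpec R j).symm⟩
    have hflat : Flat (Spec.map ρ) := by
      rw [← MorphismProperty.cancel_left_of_respectsIso @Flat (sigmaSpec R)]
      refine (IsZariskiLocalAtSource.iff_of_openCover (sigmaOpenCover fun j => Spec (R j))).mpr ?_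
      intro j
      show Flat (Sigma.ι (fun j => Spec (R j)) j ≫ sigmaSpec R ≫ Spec.map ρ)
      rw [← Category.assoc, ι_sigmaSpec, ← Spec.map_comp]
      show Flat (Spec.map (ρ ≫ ev j))
      rw [hρ, HasRingHomProperty.Spec_iff (P := @Flat)]
      exact f.flat_appLE U.2 (V j.1).2 (hVU j.1)
    have hsurj : Surjective (Spec.map ρ) := ⟨fun y => by
      have hy : U.2.fromSpec y ∈ (U.1 : Set S) := by rw [← U.2.range_fromSpec]; exact ⟨y, rfl⟩
      rw [← hWU] at hy
      obtain ⟨w, hw, hwy⟩ := hy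
      obtain ⟨i, hi, hiV⟩ := Set.mem_iUnion₂.mp (ht hw)
      rw [← (V i).2.range_fromSpec] at hiV
      obtain ⟨z, hz⟩ := hiV
      refine ⟨Spec.map (ev ⟨i, hi⟩) z, U.2.fromSpec.isOpenEmbedding.injective ?_⟩
      have e2 : Spec.map (ev ⟨i, hi⟩) ≫ Spec.map ρ ≫ U.2.fromSpec = (V i).2.fromSpec ≫ f := by
        rw [← Spec.map_comp_assoc, hρ]
        exact hφ ⟨i, hi⟩
      show (Spec.map (ev ⟨i, hi⟩) ≫ Spec.map ρ ≫ U.2.fromSpec) z = _
      rw [e2, Scheme.Hom.comp_apply, hz]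
      exact hwy⟩
    have hpiece : ∀ j : ↥t, ∃ (B : CommRingCat.{u}) (jB : Spec B ⟶
        pullback H.hom (Spec.map ρ ≫ U.2.fromSpec)) (β : R j ⟶ B),
        IsPullback jB (Spec.map β) (pullback.snd _ _) (Spec.map (ev j)) ∧
        (letI := β.hom.toAlgebra; Module.Projective (R j) B) := by
      intro j
      have hr : Set.range (V j.1).2.fromSpec ⊆ Set.range (T j.1.1).ι := by
        rw [IsAffineOpen.range_fromSpec, Scheme.Opens.range_ι]
        exact hVT j.1
      let p := IsOpenImmersion.lift (T j.1.1).ι (V j.1).2.fromSpec hr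
      obtain ⟨B, u, β, hu, hproj⟩ := @H8MultType.exists_piece S H _ _ ((T j.1.1).ι ≫ f) (M j.1.1)
        (hM j.1.1) (hiso j.1.1).some (R j) p
      have e : p ≫ (T j.1.1).ι ≫ f = Spec.map (ev j) ≫ Spec.map ρ ≫ U.2.fromSpec := by
        rw [← Category.assoc, IsOpenImmersion.lift_fac, ← hφ, ← hρ, Spec.map_comp, Category.assoc]
      rw [e] at hu
      let jB := pullback.lift (f := H.hom) (g := Spec.map ρ ≫ U.2.fromSpec) u
        (Spec.map β ≫ Spec.map (ev j)) (by rw [hu.w, Category.assoc])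
      refine ⟨B, jB, β, IsPullback.of_right ?_ (pullback.lift_snd _ _ _)
        (IsPullback.of_hasPullback H.hom (Spec.map ρ ≫ U.2.fromSpec)), hproj⟩
      rw [show jB ≫ pullback.fst _ _ = u from pullback.lift_fst _ _ _]
      exact hu
    choose B jB β hjB hproj using hpiece
    have hev : ∀ j, IsOpenImmersion (Spec.map (ev j)) := fun j => by
      rw [← ι_sigmaSpec R j]
      infer_instance
    have hjo : ∀ j, IsOpenImmersion (jB j) := fun j =>
      MorphismProperty.of_isPullback (P := @IsOpenImmersion) (hjB j).flip (hev j)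
    have hjc : ∀ y, ∃ j, y ∈ Set.range (jB j) := fun y => by
      obtain ⟨j, z', hz'⟩ := hcov (pullback.snd H.hom (Spec.map ρ ≫ U.2.fromSpec) y)
      obtain ⟨b, hb, -⟩ := Scheme.exists_preimage_of_isPullback (hjB j) y z' hz'.symm
      exact ⟨j, b, hb⟩
    refine ⟨R', ρ, hflat, hsurj, fun y => ?_, ⟨?_⟩⟩
    · obtain ⟨j, hj⟩ := hjc y
      refine ⟨B j, jB j, ev j ≫ β j, hjo j, hj, ?_, ?_⟩
      · rw [Spec.map_comp]; exact (hjB j).w.symm
      · letI : Algebra R' (B j) := (ev j ≫ β j).hom.toAlgebra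
        letI : Algebra (R j) (B j) := (β j).hom.toAlgebra
        letI : Algebra R' (R j) := (ev j).hom.toAlgebra
        haveI : IsScalarTower R' (R j) (B j) := IsScalarTower.of_algebraMap_eq fun _ => rfl
        haveI : Module.Projective R' (R j) := H8MultType.projective_factor (fun j => R j) j
        haveI : Module.Projective (R j) (B j) := hproj j
        exact H8MultType.projective_trans R' (R j) (B j)
    · rw [show (Set.univ : Set ↥(pullback H.hom (Spec.map ρ ≫ U.2.fromSpec))) =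
          ⋃ j, Set.range (jB j) from
        (Set.eq_univ_of_forall fun y => Set.mem_iUnion.mpr (hjc y)).symm]
      exact isCompact_iUnion fun j => isCompact_range (jB j).continuous
  constructor
  · intro s
    obtain ⟨_, ⟨U, hU, rfl⟩, hsU, -⟩ :=
      S.isBasis_affineOpens.exists_subset_of_mem_open (Set.mem_univ s) isOpen_univ
    obtain ⟨R', ρ, h₁, h₂, h₃, -⟩ := main ⟨U, hU⟩
    exact ⟨_, R', ρ, hU.fromSpec, hU.isOpenImmersion_fromSpec, hU.range_fromSpec.symm ▸ hsU,
      h₁, h₂, h₃⟩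
  · refine quasiCompact_iff_forall_isAffineOpen.mpr fun U hU => ?_
    obtain ⟨R', ρ, -, h₂, -, h₄⟩ := main ⟨U, hU⟩
    have e : (H.hom ⁻¹ᵁ U : Set H.left) =
        Set.range (pullback.fst H.hom (Spec.map ρ ≫ hU.fromSpec)) := by
      rw [Scheme.Pullback.range_fst, Scheme.Hom.comp_base, TopCat.coe_comp, Set.range_comp,
        Set.range_eq_univ.mpr (Spec.map ρ).surjective, Set.image_univ, IsAffineOpen.range_fromSpec]
      rfl
    rw [e]
    exact isCompact_range (Scheme.Hom.continuous (pullback.fst H.hom (Spec.map ρ ≫ hU.fromSpec)))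


set_option backward.isDefEq.respectTransparency false in
lemma isMult_bc {S T : Scheme.{u}} (t : T ⟶ S) {H : Over S} [GrpObj H]
    (hH : IsMult H) : IsMult (Red.bc t H) := by
  obtain ⟨S', f, hf, hfs, hqc, htriv⟩ := hH
  haveI := hf; haveI := hfs
  let g := pullback.snd t f
  refine ⟨pullback t f, pullback.fst t f, inferInstance, inferInstance, H8CentralDescent.exists_image f t hqc, fun z => ?_⟩
  obtain ⟨U, hU, M, iM, ⟨φ⟩⟩ := htriv (g z)
  let U' : (pullback t f).Opens := g ⁻¹ᵁ U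
  let r : (U' : Scheme.{u}) ⟶ (U : Scheme.{u}) := g ∣_ U
  have hr : r ≫ U.ι ≫ f = (U'.ι ≫ pullback.fst t f) ≫ t := by
    rw [Category.assoc, pullback.condition, ← Category.assoc, ← Category.assoc]
    exact congrArg (· ≫ f) (morphismRestrict_ι g U)
  refine ⟨U', hU, M, iM, ⟨(H8CentralDescent.bcIso (U'.ι ≫ pullback.fst t f) t H).symm ≪≫ H8CentralDescent.bcCongr hr.symm H ≪≫
    H8CentralDescent.bcIso r (U.ι ≫ f) H ≪≫ H8CentralDescent.mapBc r φ ≪≫ ?_⟩⟩
  exact (H8CentralDescent.bcIso r (specULiftZIsTerminal.from (U : Scheme.{u})) (Red.diag (ULift.{u} ℤ) M)).symm ≪≫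
    H8CentralDescent.bcCongr (specULiftZIsTerminal.hom_ext _ _) _


set_option maxHeartbeats 1000000 in
set_option backward.isDefEq.respectTransparency false in
theorem transporter {S : Scheme.{u}} (H G : Over S) [GrpObj H] [GrpObj G]
    (hH : IsMult H) (hG : Smooth G.hom) (hGa : IsAffineHom G.hom) (u₁ u₂ : H ⟶ G) [IsMonHom u₁] [IsMonHom u₂] :
    ∃ (T : Over S) (j : T ⟶ G), IsClosedImmersion j.left ∧ Smooth T.hom ∧
      ∀ (X : Over S) (g : X ⟶ G), (∃ t : X ⟶ T, t ≫ j = g) ↔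
        ∀ (X' : Over S) (x : X' ⟶ X) (h : X' ⟶ H), (x ≫ g) * (h ≫ u₁) * (x ≫ g)⁻¹ = h ≫ u₂ := by
  haveI := hG; haveI := hGa
  obtain ⟨hff, hqc⟩ := locFF_and_quasiCompact H hH
  obtain ⟨T, j, hj, hT', hfp⟩ := H8EssFree.exists_locus (X := G) (Z := G) hff
    (fst G H * (snd G H ≫ u₁)) ((snd G H ≫ u₂) * fst G H)
  have hT : ∀ (X : Over S) (g : X ⟶ G), (∃ t : X ⟶ T, t ≫ j = g) ↔
      ∀ (X' : Over S) (x : X' ⟶ X) (h : X' ⟶ H), (x ≫ g) * (h ≫ u₁) * (x ≫ g)⁻¹ = h ≫ u₂ := by
    intro X g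
    rw [← hT' X g]
    simp only [MonObj.comp_mul, lift_fst, lift_snd_assoc, mul_inv_eq_iff_eq_mul]
  haveI := hfp hqc inferInstance
  haveI : LocallyOfFinitePresentation T.hom := by rw [← Over.w j]; infer_instance
  refine ⟨T, j, hj, (Groth.Agent.S1488.result T.hom).mpr ⟨inferInstance, fun A _ I hI a b hab => ?_⟩, hT⟩
  let H' := Red.bc b H
  let G' := Red.bc b G
  haveI : Smooth G'.hom := MorphismProperty.pullback_snd (P := @Smooth) _ _ hG
  let eH := fun X : Over (Spec (CommRingCat.of A)) => H8DiagRigid.adjEquiv b H X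
  let eG := fun X : Over (Spec (CommRingCat.of A)) => H8DiagRigid.adjEquiv b G X
  have hu : ∀ (X : Over (Spec (CommRingCat.of A))) (h : X ⟶ H') (u : H ⟶ G),
      (eG X).symm (h ≫ (Over.pullback b).map u) = (eH X).symm h ≫ u := fun X h u =>
    (Over.mapPullbackAdj b).homEquiv_naturality_right_symm h u
  have hH' : IsMult H' := isMult_bc b hH
  let tX : (Over.map b).obj (XQ I) ⟶ T := Over.homMk a hab.symm
  let g₀ : XQ I ⟶ G' := eG (XQ I) (tX ≫ j)
  have hnat : ∀ {X : Over (Spec (CommRingCat.of A))} {Y : Over (Spec (CommRingCat.of A))} (m : X ⟶ Y) (x : Y ⟶ G'),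
      (eG X).symm (m ≫ x) = (Over.map b).map m ≫ (eG Y).symm x := fun m x =>
    (Over.mapPullbackAdj b).homEquiv_naturality_left_symm m x
  obtain ⟨g, hg0, hg⟩ := H8ConjLift.result I ⟨2, hI⟩ H' G' hH'
    ((Over.pullback b).map u₁) ((Over.pullback b).map u₂) g₀ (fun X p h => by
      apply (eG X).symm.injective
      rw [map_mul, map_mul, map_inv, hu, hu, hnat, MulEquiv.symm_apply_apply]
      exact ((hT _ (tX ≫ j)).mp ⟨tX, rfl⟩ _ ((Over.map b).map p) _).symm)
  let O : Over S := Over.mk b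
  let m : O ⟶ (Over.map b).obj (𝟙_ (Over (Spec (CommRingCat.of A)))) := Over.homMk (𝟙 _) (by
    show 𝟙 _ ≫ 𝟙 _ ≫ b = b
    rw [Category.id_comp, Category.id_comp])
  let gO : O ⟶ G := m ≫ (eG _).symm g
  obtain ⟨t, ht⟩ := (hT O gO).mpr fun X' x h => by
    let X'' : Over (Spec (CommRingCat.of A)) := Over.mk x.left
    let m1 : (Over.map b).obj X'' ⟶ X' := Over.homMk (𝟙 _) (by
      show 𝟙 _ ≫ X'.hom = x.left ≫ b
      rw [Category.id_comp]
      exact (Over.w x).symm)
    let m2 : X' ⟶ (Over.map b).obj X'' := Over.homMk (𝟙 _) (by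
      show 𝟙 _ ≫ x.left ≫ b = X'.hom
      rw [Category.id_comp]
      exact Over.w x)
    have hm : m2 ≫ m1 = 𝟙 X' := Over.OverMorphism.ext (Category.id_comp _)
    have h1 := congrArg (eG X'').symm (hg X'' (eH X'' (m1 ≫ h)))
    rw [map_mul, map_mul, map_inv, hu, hu, MulEquiv.symm_apply_apply, hnat] at h1
    have e : (Over.map b).map (toUnit X'') ≫ (eG _).symm g = m1 ≫ x ≫ gO := by
      have : (Over.map b).map (toUnit X'') = m1 ≫ x ≫ m := Over.OverMorphism.ext (by
        show (toUnit X'').left = 𝟙 _ ≫ x.left ≫ 𝟙 _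
        rw [Category.id_comp]
        exact ((Category.comp_id _).symm.trans (Over.w (toUnit X''))).trans (Category.comp_id _).symm)
      rw [this]
      simp only [gO, Category.assoc]
    rw [e] at h1
    have h2 := congrArg (m2 ≫ ·) h1
    simp only [MonObj.comp_mul, GrpObj.comp_inv, ← Category.assoc, hm, Category.id_comp] at h2
    exact h2.symm
  refine ⟨t.left, ?_, Over.w t⟩
  apply (cancel_mono j.left).mp
  rw [Category.assoc, show t.left ≫ j.left = gO.left from congrArg CommaMorphism.left ht]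
  have e0 : (Over.map b).map (toUnit (XQ I)) ≫ (eG _).symm g = tX ≫ j := by
    rw [← hnat, hg0, MulEquiv.symm_apply_apply]
  have e1 := congrArg CommaMorphism.left e0
  refine Eq.trans ?_ e1
  show _ ≫ 𝟙 _ ≫ ((eG _).symm g).left = (toUnit (XQ I)).left ≫ ((eG _).symm g).left
  rw [Category.id_comp]
  refine congrArg (· ≫ ((eG _).symm g).left) ?_
  exact ((Category.comp_id _).symm.trans (Over.w (toUnit (XQ I)))).symm


set_option backward.isDefEq.respectTransparency false in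
theorem centralizer {S : Scheme.{u}} (H G : Over S) [GrpObj H] [GrpObj G]
    (hH : IsMult H) (hG : Smooth G.hom) (hGa : IsAffineHom G.hom) (u : H ⟶ G) [IsMonHom u] :
    ∃ (Z : Over S) (_ : GrpObj Z) (j : Z ⟶ G), Red.IsCentralizerOf u j ∧ IsClosedImmersion j.left ∧ Smooth Z.hom := by
  obtain ⟨T, j, hj, hsm, hT⟩ := transporter H G hH hG hGa u u
  haveI := hj
  haveI : Mono ((Over.forget S).map j) := inferInstanceAs (Mono j.left)
  haveI : Mono j := (Over.forget S).mono_of_mono_map inferInstance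
  have key : ∀ (X : Over S) (g : X ⟶ G), (∃ z : X ⟶ T, z ≫ j = g) ↔
      ∀ (X' : Over S) (x : X' ⟶ X) (h : X' ⟶ H), (x ≫ g) * (h ≫ u) = (h ≫ u) * (x ≫ g) := fun X g => by
    rw [hT X g]
    simp only [mul_inv_eq_iff_eq_mul]
  let Sub : ∀ X : Over S, Subgroup (X ⟶ G) := fun X =>
    { carrier := {g | ∀ (X' : Over S) (x : X' ⟶ X) (h : X' ⟶ H), (x ≫ g) * (h ≫ u) = (h ≫ u) * (x ≫ g)}
      one_mem' := fun X' x h => by simp [MonObj.comp_one]
      mul_mem' := fun {a b} ha hb X' x h => by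
        rw [MonObj.comp_mul]
        exact Commute.mul_left (ha X' x h) (hb X' x h)
      inv_mem' := fun {a} ha X' x h => by
        rw [GrpObj.comp_inv]
        exact Commute.inv_left (ha X' x h) }
  obtain ⟨inst, hhom⟩ := H8SubGrp.exists_grpObj j Sub fun X g => key X g
  exact ⟨T, inst, j, ⟨hhom, inferInstance, key⟩, hj, hsm⟩


end Groth.Agent.H8MultGen
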