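import Mathlib
import Groth.Prelude.Def_Red2
import Groth.Prelude.Def_SGA3x
import Groth.Agent.Lib.H8DiagRigid

/-!
# Homomorphisms from groups of multiplicative type to the additive group vanish
-/

set_option autoImplicit false
set_option linter.all false

universe u

open CategoryTheory Limits AlgebraicGeometry MonoidalCategory CartesianMonoidalCategory MonObj GrpObj WithConv TensorProduct

namespace Groth.Agent.H8MultToGa

open H8DiagRigid

attribute [local instance] ULift.algebra'

/-- No nonzero additive functions of characters. -/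
theorem core {R : Type u} [CommRing R] {M : Type} [CommMonoid M]
    (F : ∀ (C : Type u) [CommRing C] [Algebra R C], (M →* C) → C)
    (nat : ∀ (C D : Type u) [CommRing C] [Algebra R C] [CommRing D] [Algebra R D] (f : C →ₐ[R] D) (χ : M →* C),
      f (F C χ) = F D ((f : C →* D).comp χ))
    (add : ∀ (C : Type u) [CommRing C] [Algebra R C] (χ χ' : M →* C), F C (χ * χ') = F C χ + F C χ')
    (C : Type u) [CommRing C] [Algebra R C] (χ : M →* C) : F C χ = 0 := by
  classical
  let f := F (MonoidAlgebra R M) (MonoidAlgebra.of R M)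
  have hF : ∀ (C : Type u) [CommRing C] [Algebra R C] (χ : M →* C), F C χ = MonoidAlgebra.lift R C M χ f := by
    intro C _ _ χ
    rw [nat]
    congr 1
    ext m
    simp
  let χ1 : M →* MonoidAlgebra R (M × M) := (MonoidAlgebra.of R (M × M)).comp (MonoidHom.inl M M)
  let χ2 : M →* MonoidAlgebra R (M × M) := (MonoidAlgebra.of R (M × M)).comp (MonoidHom.inr M M)
  have h := add _ χ1 χ2
  rw [hF, hF, hF] at h
  suffices hf : f = 0 by rw [hF, hf, map_zero]
  refine MonoidAlgebra.coeff_injective (Finsupp.ext fun m => ?_)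
  have h' := congrArg (fun w : MonoidAlgebra R (M × M) => w.coeff (m, m)) h
  have e0 : ∀ w : MonoidAlgebra R M, (MonoidAlgebra.lift R (MonoidAlgebra R (M × M)) M (χ1 * χ2) w).coeff (m, m) = w.coeff m := fun w => by
    induction w using MonoidAlgebra.induction_linear with
    | zero => simp
    | add a b ha hb => simp [map_add, ha, hb]
    | single n c => simp [χ1, χ2, MonoidAlgebra.single_mul_single, Finsupp.single_apply]
  have e1 : ∀ w : MonoidAlgebra R M, (MonoidAlgebra.lift R (MonoidAlgebra R (M × M)) M χ1 w).coeff (m, m) = if m = 1 then w.coeff m else 0 := fun w => by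
    induction w using MonoidAlgebra.induction_linear with
    | zero => simp
    | add a b ha hb => simp [map_add, ha, hb]; split <;> simp
    | single n c =>
      by_cases hm : m = 1
      · simp [χ1, Finsupp.single_apply, hm]
      · simp [χ1, Finsupp.single_apply, hm, Ne.symm hm]
  have e2 : ∀ w : MonoidAlgebra R M, (MonoidAlgebra.lift R (MonoidAlgebra R (M × M)) M χ2 w).coeff (m, m) = if m = 1 then w.coeff m else 0 := fun w => by
    induction w using MonoidAlgebra.induction_linear with
    | zero => simp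
    | add a b ha hb => simp [map_add, ha, hb]; split <;> simp
    | single n c =>
      by_cases hm : m = 1
      · simp [χ2, Finsupp.single_apply, hm]
      · simp [χ2, Finsupp.single_apply, hm, Ne.symm hm]
  simp only [MonoidAlgebra.coeff_add, Finsupp.add_apply, e0, e1, e2] at h'
  by_cases hm : m = 1
  · simpa [hm] using h'
  · simpa [hm] using h'

section GaPts

variable {U : Scheme.{u}} {C : Type u} [CommRing C] (c : Spec (CommRingCat.of C) ⟶ U)

/-- Elements are points of the additive group. -/
noncomputable def gaPts : Multiplicative C ≃* (Over.mk c ⟶ Red.Ga U) :=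
  MulEquiv.trans
    { toEquiv := Multiplicative.toAdd.trans ((LinearMap.ringLmapEquivSelf (ULift.{u} ℤ) ℕ C).symm.toEquiv.trans
        ((SymmetricAlgebra.lift (R := ULift.{u} ℤ) (M := ULift.{u} ℤ)).trans (WithConv.equiv _).symm))
      map_mul' := fun a b => by
        refine WithConv.ofConv_injective (SymmetricAlgebra.algHom_ext (LinearMap.ext_ring ?_))
        simp [AlgHom.convMul_apply, add_smul] } <|
  (Spec.mapMulEquiv (R := ULift.{u} ℤ) (S := SymmetricAlgebra (ULift.{u} ℤ) (ULift.{u} ℤ)) (T := C)).trans <| MulEquiv.trans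
    { toEquiv := (toBase c).homFromEquiv.symm
      map_mul' := fun a b => MonObj.comp_mul _ a b } (adjEquiv (specULiftZIsTerminal.from U) Red.GaZ (Over.mk c))

set_option backward.isDefEq.respectTransparency false in
lemma gaPts_nat {D : Type u} [CommRing D] (f : C →+* D) (c' : Spec (CommRingCat.of D) ⟶ U)
    (hc : Spec.map (CommRingCat.ofHom f) ≫ c = c') (x : C) :
    Spec.map (CommRingCat.ofHom f) ≫ (gaPts c (Multiplicative.ofAdd x)).left = (gaPts c' (Multiplicative.ofAdd (f x))).left := by
  let fA : C →ₐ[ULift.{u} ℤ] D := { toRingHom := f, commutes' := fun z => DFunLike.congr_fun (ulift_int_hom_ext (f.comp (algebraMap _ C)) (algebraMap _ D)) z }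
  have hl : (SymmetricAlgebra.lift ((LinearMap.ringLmapEquivSelf (ULift.{u} ℤ) ℕ D).symm (f x))) =
      fA.comp (SymmetricAlgebra.lift ((LinearMap.ringLmapEquivSelf (ULift.{u} ℤ) ℕ C).symm x)) := by
    refine SymmetricAlgebra.algHom_ext (LinearMap.ext_ring ?_)
    simp [fA]
  apply pullback.hom_ext
  · simp [gaPts, adjEquiv, Over.mapPullbackAdj, toBase, Iso.homFromEquiv, Spec.mapMulEquiv, ← Spec.map_comp]
    exact congrArg Spec.map (congrArg CommRingCat.ofHom (congrArg AlgHom.toRingHom hl.symm))
  · simp [gaPts, adjEquiv, Over.mapPullbackAdj, toBase, Iso.homFromEquiv, hc]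

end GaPts

set_option maxHeartbeats 1000000 in
set_option synthInstance.maxHeartbeats 400000 in
set_option backward.isDefEq.respectTransparency false in
theorem result (S : Scheme.{u}) (H : Over S) [GrpObj H] (hH : SGA3x.IsMultTypeFT H)
    (v : H ⟶ Red.Ga S) [IsMonHom v] : v = 1 := by
  obtain ⟨S', f, hf, hfs, -, htriv⟩ := hH
  haveI := hf; haveI := hfs
  let pr := pullback.fst H.hom f
  haveI : Epi pr := Flat.epi_of_flat_of_surjective pr
  refine Over.OverMorphism.ext ((cancel_epi pr).mp ?_)
  refine Scheme.hom_ext_of_forall _ _ fun z => ?_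
  obtain ⟨U, hsU, M, _, -, ⟨φ⟩⟩ := htriv (pullback.snd H.hom f z)
  obtain ⟨_, ⟨O, hO, rfl⟩, hzO, hleO⟩ := (pullback H.hom f).isBasis_affineOpens.exists_subset_of_mem_open
    (show z ∈ pullback.snd H.hom f ⁻¹ᵁ U from hsU) (pullback.snd H.hom f ⁻¹ᵁ U).2
  replace hO : IsAffineOpen O := hO
  refine ⟨O, hzO, ?_⟩
  rw [← cancel_epi hO.isoSpec.inv, ← Category.assoc, ← Category.assoc, IsAffineOpen.isoSpec_inv_ι]
  let C₀ := Γ(pullback H.hom f, O)
  let c : Spec C₀ ⟶ (U : Scheme.{u}) := IsOpenImmersion.lift U.ι (hO.fromSpec ≫ pullback.snd H.hom f) (by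
    rintro _ ⟨t, rfl⟩
    rw [Scheme.Opens.range_ι]
    exact hleO (hO.range_fromSpec.le ⟨t, rfl⟩))
  let q : (U : Scheme.{u}) ⟶ S := U.ι ≫ f
  let m : (Over.map q).obj (Over.mk c) ⟶ H := Over.homMk (hO.fromSpec ≫ pr) (by
    show (hO.fromSpec ≫ pr) ≫ H.hom = c ≫ U.ι ≫ f
    rw [IsOpenImmersion.lift_fac_assoc, Category.assoc, Category.assoc, pullback.condition])
  suffices key : m ≫ v = 1 by
    have h2 : m ≫ v = m ≫ (1 : H ⟶ Red.Ga S) := key.trans (MonObj.comp_one m).symm
    exact (Category.assoc _ _ _).symm.trans ((congrArg Over.Hom.left h2).trans (Category.assoc _ _ _))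
  let hv : ∀ {T : Over S}, (T ⟶ H) →* (T ⟶ Red.Ga S) := fun {T} =>
    { toFun := fun g => g ≫ v
      map_one' := MonObj.one_comp v
      map_mul' := fun a b => MonObj.mul_comp a b v }
  let tC : ∀ (C : Type u) [CommRing C] [Algebra C₀ C], Spec (CommRingCat.of C) ⟶ (U : Scheme.{u}) := fun C _ _ =>
    Spec.map (CommRingCat.ofHom (algebraMap C₀ C)) ≫ c
  let ga : ∀ (C : Type u) [CommRing C] [Algebra C₀ C],
      Multiplicative C ≃* ((Over.map q).obj (Over.mk (tC C)) ⟶ Red.Ga S) := fun C _ _ => gaPts (U := S) (tC C ≫ q)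
  let F : ∀ (C : Type u) [CommRing C] [Algebra C₀ C], (Multiplicative M →* C) → C := fun C _ _ χ =>
    Multiplicative.toAdd ((ga C).symm (hv (pts q H M φ (tC C) χ)))
  have hF := core (R := C₀) F ?nat ?add
  · have key0 : ∀ c', c' = tC C₀ → ∀ g : (Over.map q).obj (Over.mk c') ⟶ H, g ≫ v = 1 := by
      rintro c' rfl g
      obtain ⟨χ, rfl⟩ := (pts q H M φ (tC C₀)).surjective g
      have h4 : (ga C₀).symm (hv (pts q H M φ (tC C₀) χ)) = 1 := hF C₀ χ
      exact (MulEquiv.map_eq_one_iff _).mp h4
    exact key0 c (by simp [tC]) m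
  case add =>
    intro C _ _ χ χ'
    show Multiplicative.toAdd ((ga C).symm (hv (pts q H M φ (tC C) (χ * χ')))) = _
    rw [map_mul, map_mul, map_mul, toAdd_mul]
  case nat =>
    intro C D _ _ _ _ g χ
    have hg : Spec.map (CommRingCat.ofHom g.toRingHom) ≫ tC C = tC D := by
      show Spec.map _ ≫ Spec.map _ ≫ c = _
      rw [← Spec.map_comp_assoc]
      simp only [← CommRingCat.ofHom_comp, g.toRingHom_eq_coe, g.comp_algebraMap]
      rfl
    refine Multiplicative.ofAdd.injective ((ga D).injective (Over.OverMorphism.ext ?_))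
    have hg2 : Spec.map (CommRingCat.ofHom g.toRingHom) ≫ tC C ≫ q = tC D ≫ q := by rw [← Category.assoc, hg]
    refine (gaPts_nat (tC C ≫ q) g.toRingHom (tC D ≫ q) hg2 _).symm.trans ?_
    simp only [F, ga, ofAdd_toAdd]
    erw [MulEquiv.apply_symm_apply, MulEquiv.apply_symm_apply]
    show Spec.map _ ≫ (pts q H M φ (tC C) χ).left ≫ v.left = (pts q H M φ (tC D) _).left ≫ v.left
    rw [← Category.assoc, pts_nat q H M φ g.toRingHom (tC C) (tC D) hg χ]
    rfl

end Groth.Agent.H8MultToGa
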