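import Mathlib
import Groth.Prelude.Def_SGA3x
import Groth.Prelude.Def_Red2
import Groth.Agent.Lib.H8MultMonoClosed
import Groth.Agent.Lib.H8MultSubgroupConj
import Groth.Agent.Lib.H8MultTransporter
import Groth.Agent.Lib.H8MultSubTransporter

/-!
# One-sided transporters of subgroups of multiplicative type are smooth
-/

set_option autoImplicit false

universe u

open CategoryTheory Limits AlgebraicGeometry MonoidalCategory CartesianMonoidalCategory MonObj GrpObj

noncomputable section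

namespace Groth.Agent.H8MultTransporterLE

open H8ConjRigid H8MultSubTransporter

set_option maxHeartbeats 1000000 in
set_option backward.isDefEq.respectTransparency false in
theorem transporterLE {S : Scheme.{u}} (H₁ H₂ G : Over S) [GrpObj H₁] [GrpObj H₂] [GrpObj G]
    (hH₁ : SGA3x.IsMultTypeFT H₁) (hH₂ : SGA3x.IsMultTypeFT H₂) (hG : Smooth G.hom) (hGa : IsAffineHom G.hom)
    (i₁ : H₁ ⟶ G) [IsMonHom i₁] [Mono i₁] (i₂ : H₂ ⟶ G) [IsMonHom i₂] [Mono i₂] :
    ∃ (T : Over S) (j : T ⟶ G), IsClosedImmersion j.left ∧ Smooth T.hom ∧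
      ∀ (X : Over S) (g : X ⟶ G), (∃ t : X ⟶ T, t ≫ j = g) ↔
        ∀ (X' : Over S) (x : X' ⟶ X) (h : X' ⟶ H₁),
          ∃ h' : X' ⟶ H₂, (x ≫ g) * (h ≫ i₁) * (x ≫ g)⁻¹ = h' ≫ i₂ := by
  haveI := hG; haveI := hGa
  obtain ⟨hff₁, hqc₁⟩ := H8MultType.locFF_and_quasiCompact H₁ hH₁
  obtain ⟨hff₂, hqc₂⟩ := H8MultType.locFF_and_quasiCompact H₂ hH₂
  haveI := closed hH₁ i₁
  haveI := closed hH₂ i₂
  haveI := H8MultLFT.lfp hH₁
  haveI := H8MultLFT.lfp hH₂
  have hl₁ : LocallyOfFinitePresentation i₁.left :=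
    H8Transporter.lfp_of_comp (g := G.hom) (by rw [Over.w i₁]; infer_instance) inferInstance
  have hl₂ : LocallyOfFinitePresentation i₂.left :=
    H8Transporter.lfp_of_comp (g := G.hom) (by rw [Over.w i₂]; infer_instance) inferInstance
  obtain ⟨T, j, hj, hC, hfp⟩ := H8EssFree.exists_transporter (X := G) hff₁
    (fst G H₁ * (snd G H₁ ≫ i₁) * (fst G H₁)⁻¹) i₂
  haveI := hj
  have hT : ∀ (X : Over S) (g : X ⟶ G), (∃ t : X ⟶ T, t ≫ j = g) ↔
      ∀ (X' : Over S) (x : X' ⟶ X) (h : X' ⟶ H₁),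
        ∃ h' : X' ⟶ H₂, (x ≫ g) * (h ≫ i₁) * (x ≫ g)⁻¹ = h' ≫ i₂ := fun X g => by
    rw [← hC X g]
    simp only [MonObj.comp_mul, GrpObj.comp_inv, lift_fst, lift_snd_assoc]
  haveI : LocallyOfFinitePresentation j.left := hfp hqc₁ hl₂
  haveI : LocallyOfFinitePresentation T.hom := by
    rw [← Over.w j]
    infer_instance
  refine ⟨T, j, inferInstance, (Groth.Agent.S1488.result T.hom).mpr ⟨inferInstance, fun A _ I hI a b hab => ?_⟩, hT⟩
  let G' := Red.bc b G
  haveI : Smooth G'.hom := MorphismProperty.pullback_snd (P := @Smooth) _ _ hG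
  haveI := mono_map b i₁
  haveI := mono_map b i₂
  let e₁ := fun X : Over (Spec (CommRingCat.of A)) => H8DiagRigid.adjEquiv b H₁ X
  let e₂ := fun X : Over (Spec (CommRingCat.of A)) => H8DiagRigid.adjEquiv b H₂ X
  let eG := fun X : Over (Spec (CommRingCat.of A)) => H8DiagRigid.adjEquiv b G X
  have hu₁ : ∀ (X : Over (Spec (CommRingCat.of A))) (h : X ⟶ Red.bc b H₁),
      (eG X).symm (h ≫ (Over.pullback b).map i₁) = (e₁ X).symm h ≫ i₁ := fun X h =>
    (Over.mapPullbackAdj b).homEquiv_naturality_right_symm h i₁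
  have hu₂ : ∀ (X : Over (Spec (CommRingCat.of A))) (h : X ⟶ Red.bc b H₂),
      (eG X).symm (h ≫ (Over.pullback b).map i₂) = (e₂ X).symm h ≫ i₂ := fun X h =>
    (Over.mapPullbackAdj b).homEquiv_naturality_right_symm h i₂
  have hnat : ∀ {X : Over (Spec (CommRingCat.of A))} {Y : Over (Spec (CommRingCat.of A))} (m : X ⟶ Y) (x : Y ⟶ G'),
      (eG X).symm (m ≫ x) = (Over.map b).map m ≫ (eG Y).symm x := fun m x =>
    (Over.mapPullbackAdj b).homEquiv_naturality_left_symm m x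
  let tX : (Over.map b).obj (XQ I) ⟶ T := Over.homMk a hab.symm
  obtain ⟨ψ, hψi, hψm⟩ := H8MultSubgroupConj.exists_ψ ((Over.pullback b).map i₁) ((Over.pullback b).map i₂)
    (eG (XQ I) (tX ≫ j)) (fun X p h => by
      obtain ⟨y, hy⟩ := (hT _ (tX ≫ j)).mp ⟨tX, rfl⟩ _ ((Over.map b).map p) ((e₁ X).symm h)
      refine ⟨e₂ X y, (eG X).symm.injective ?_⟩
      rw [map_mul, map_mul, map_inv, hu₁, hu₂, hnat, MulEquiv.symm_apply_apply, MulEquiv.symm_apply_apply]
      exact hy)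
  obtain ⟨φ, hφ, hφψ⟩ := H8MultHomExist.exists_hom ⟨2, hI⟩
    (locally_of_ft (H8CentralDescent.isMultTypeFT_bc b hH₁)) (locally_of_ft (H8CentralDescent.isMultTypeFT_bc b hH₂)) ψ hψm
  haveI := hφ
  obtain ⟨g, hg0, hg'⟩ := H8ConjLift.result I ⟨2, hI⟩ (Red.bc b H₁) G'
    (locally_of_ft (H8CentralDescent.isMultTypeFT_bc b hH₁))
    ((Over.pullback b).map i₁) (φ ≫ (Over.pullback b).map i₂) (eG (XQ I) (tX ≫ j)) (fun X p h => by
      rw [← Category.assoc, hφψ X p h]
      exact hψi X p h)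
  let O : Over S := Over.mk b
  let m : O ⟶ (Over.map b).obj (𝟙_ (Over (Spec (CommRingCat.of A)))) := Over.homMk (𝟙 _) (by
    show 𝟙 _ ≫ 𝟙 _ ≫ b = b
    rw [Category.id_comp, Category.id_comp])
  let gO : O ⟶ G := m ≫ (eG _).symm g
  obtain ⟨t, ht⟩ := (hT O gO).mpr fun X' x h => by
    let X'' : Over (Spec (CommRingCat.of A)) := Over.mk x.left
    let m1 : (Over.map b).obj X'' ⟶ X' := Over.homMk (𝟙 _) (by
      show 𝟙 _ ≫ X'.hom = x.left ≫ b
      rw [Category.id_comp]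
      exact (Over.w x).symm)
    let m2 : X' ⟶ (Over.map b).obj X'' := Over.homMk (𝟙 _) (by
      show 𝟙 _ ≫ x.left ≫ b = X'.hom
      rw [Category.id_comp]
      exact Over.w x)
    have hm : m2 ≫ m1 = 𝟙 X' := Over.OverMorphism.ext (Category.id_comp _)
    have e : (Over.map b).map (toUnit X'') ≫ (eG _).symm g = m1 ≫ x ≫ gO := by
      have : (Over.map b).map (toUnit X'') = m1 ≫ x ≫ m := Over.OverMorphism.ext (by
        show (toUnit X'').left = 𝟙 _ ≫ x.left ≫ 𝟙 _
        rw [Category.id_comp]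
        exact ((Category.comp_id _).symm.trans (Over.w (toUnit X''))).trans (Category.comp_id _).symm)
      rw [this]
      simp only [gO, Category.assoc]
    refine ⟨m2 ≫ (e₂ X'').symm (e₁ X'' (m1 ≫ h) ≫ φ), ?_⟩
    have h1 := congrArg (eG X'').symm (hg' X'' (e₁ X'' (m1 ≫ h))).symm
    rw [map_mul, map_mul, map_inv, hu₁, hnat, e, ← Category.assoc (e₁ X'' (m1 ≫ h)), hu₂, MulEquiv.symm_apply_apply] at h1
    have h2 := congrArg (m2 ≫ ·) h1
    simp only [MonObj.comp_mul, GrpObj.comp_inv, ← Category.assoc, hm, Category.id_comp] at h2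
    exact h2
  refine ⟨t.left, ?_, Over.w t⟩
  apply (cancel_mono j.left).mp
  rw [Category.assoc, show t.left ≫ j.left = gO.left from congrArg CommaMorphism.left ht]
  have e0 : (Over.map b).map (toUnit (XQ I)) ≫ (eG _).symm g = tX ≫ j := by
    rw [← hnat, hg0, MulEquiv.symm_apply_apply]
  have e1 := congrArg CommaMorphism.left e0
  refine Eq.trans ?_ e1
  show _ ≫ 𝟙 _ ≫ ((eG _).symm g).left = (toUnit (XQ I)).left ≫ ((eG _).symm g).left
  rw [Category.id_comp]
  refine congrArg (· ≫ ((eG _).symm g).left) ?_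
  exact ((Category.comp_id _).symm.trans (Over.w (toUnit (XQ I)))).symm

end Groth.Agent.H8MultTransporterLE
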