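import Mathlib
import Groth.Prelude.Def_SGA3b
import Groth.Agent.Lib.H8MultGL
import Groth.Agent.Lib.H8MultKernel
import Groth.Agent.Lib.H8TorsionDense
import Groth.Agent.Lib.H8MultTorsionPts
import Groth.Agent.Lib.H8QFKilled
import Groth.Agent.Lib.H8TorsionTame

/-!
# Torsion is dense in a group with an open subgroup of multiplicative type
-/

set_option autoImplicit false

universe u

open TensorProduct WithConv

namespace Groth.Agent.H8OpenTorsion

open H8MultRigid H8TorsionDense H8QFKilled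

section Translate

variable {K : Type u} [Field K] {C : Type u} [CommRing C] [HopfAlgebra K C] [Coalgebra.IsCocomm K C]

/-- A scalar point as an endomorphism-valued point. -/
noncomputable def cst (t : WithConv (C →ₐ[K] K)) : WithConv (C →ₐ[K] C) :=
  toConv ((Algebra.ofId K C).comp t.ofConv)

lemma cst_mul (s t : WithConv (C →ₐ[K] K)) : cst (s * t) = cst s * cst t :=
  WithConv.ofConv_injective (AlgHom.comp_convMul_distrib (Algebra.ofId K C) s t)

lemma cst_one : cst (1 : WithConv (C →ₐ[K] K)) = 1 :=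
  WithConv.ofConv_injective (AlgHom.ext fun _ => rfl)

lemma cst_pow (t : WithConv (C →ₐ[K] K)) (n : ℕ) : cst (t ^ n) = cst t ^ n := by
  induction n with
  | zero => rw [pow_zero, pow_zero, cst_one]
  | succ n ih => rw [pow_succ, pow_succ, cst_mul, ih]

/-- Translation by a point. -/
noncomputable def transl (t : WithConv (C →ₐ[K] K)) : C →ₐ[K] C :=
  (cst t * toConv (AlgHom.id K C)).ofConv

lemma transl_one (c : C) : transl (1 : WithConv (C →ₐ[K] K)) c = c := by
  simp only [transl, cst_one, one_mul]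
  rfl

lemma transl_comp (s t : WithConv (C →ₐ[K] K)) (c : C) :
    transl s (transl t c) = transl (t * s) c := by
  have h := AlgHom.congr_fun (AlgHom.comp_convMul_distrib (transl s) (cst t) (toConv (AlgHom.id K C))) c
  refine h.trans ?_
  have e1 : toConv ((transl s).comp (cst t).ofConv) = cst t :=
    WithConv.ofConv_injective (AlgHom.ext fun d => (transl s).commutes _)
  have e2 : toConv ((transl s).comp (toConv (AlgHom.id K C)).ofConv) = cst s * toConv (AlgHom.id K C) :=
    WithConv.ofConv_injective (AlgHom.comp_id _)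
  rw [e1, e2, ← mul_assoc, ← cst_mul]
  rfl

lemma point_transl (x t : WithConv (C →ₐ[K] K)) (c : C) :
    x.ofConv (transl t c) = (t * x).ofConv c := by
  have h := AlgHom.congr_fun (AlgHom.comp_convMul_distrib x.ofConv (cst t) (toConv (AlgHom.id K C))) c
  refine h.trans ?_
  have e1 : toConv (x.ofConv.comp (cst t).ofConv) = t :=
    WithConv.ofConv_injective (AlgHom.ext fun d => x.ofConv.commutes _)
  have e2 : toConv (x.ofConv.comp (toConv (AlgHom.id K C)).ofConv) = x :=
    WithConv.ofConv_injective (AlgHom.comp_id _)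
  rw [e1, e2]

lemma transl_powConv {t : WithConv (C →ₐ[K] K)} {n : ℕ} (ht : t ^ n = 1) (c : C) :
    transl t (SGA3b.powConv K C n c) = SGA3b.powConv K C n c := by
  have h := AlgHom.congr_fun (comp_pow (transl t) (toConv (AlgHom.id K C)) n) c
  refine h.trans ?_
  have e2 : toConv ((transl t).comp (toConv (AlgHom.id K C)).ofConv) = cst t * toConv (AlgHom.id K C) :=
    WithConv.ofConv_injective (AlgHom.comp_id _)
  rw [e2, mul_pow, ← cst_pow, ht, cst_one, one_mul]
  rfl

lemma transl_torsion {t : WithConv (C →ₐ[K] K)} {n : ℕ} (ht : t ^ n = 1) {c : C}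
    (hc : c ∈ SGA3b.torsionIdeal K C n) : transl t c ∈ SGA3b.torsionIdeal K C n := by
  refine Ideal.mem_comap.mp ((Ideal.map_le_iff_le_comap (I := RingHom.ker (Bialgebra.counitAlgHom K C))).mpr ?_ hc)
  intro w hw
  show transl t (SGA3b.powConv K C n w) ∈ SGA3b.torsionIdeal K C n
  rw [transl_powConv ht]
  exact Ideal.mem_map_of_mem _ hw

end Translate

section AlgClosed

variable {K : Type u} [Field K] [IsAlgClosed K] {C : Type u} [CommRing C] [HopfAlgebra K C]
  [Coalgebra.IsCocomm K C]

/-- The torsion is dense: algebraically closed base, split subgroup. -/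
theorem dense_of_split [Algebra.FiniteType K C] {M : Type u} [CommGroup M] (π : C →ₐc[K] MonoidAlgebra K M)
    (hπ : Function.Surjective π) (e : C) (he : IsIdempotentElem e) (hker : ∀ c, π c = 0 → c ∈ Ideal.span {e})
    (hπe : π e = 0) (a x : C) (hx : ∀ n : ℕ, 0 < n → ∃ j : ℕ, a ^ j * x ∈ SGA3b.torsionIdeal K C n) :
    ∃ j : ℕ, a ^ j * x = 0 := by
  classical
  haveI : IsNoetherianRing C := Algebra.FiniteType.isNoetherianRing K C
  haveI : Algebra.FiniteType K (MonoidAlgebra K M) := Algebra.FiniteType.of_surjective (π : C →ₐ[K] _) hπ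
  have hM : Group.FG M :=
    Group.fg_iff_monoid_fg.mpr ((MonoidAlgebra.finiteType_iff_fg (R := K)).mp inferInstance)
  have hπJ : ∀ n c, c ∈ SGA3b.torsionIdeal K C n → π c ∈ Jn K M n := by
    intro n c hc
    refine Ideal.mem_comap.mp ((Ideal.map_le_iff_le_comap (I := RingHom.ker (Bialgebra.counitAlgHom K C))).mpr ?_ hc :
      c ∈ (Jn K M n).comap (π : C →ₐ[K] MonoidAlgebra K M))
    intro w hw
    have hw0 : CoalgebraStruct.counit (R := K) w = 0 := hw
    show π (SGA3b.powConv K C n w) ∈ Jn K M n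
    rw [powConv_map π]
    have key : ∀ f : MonoidAlgebra K M, SGA3b.powConv K _ n f -
        MonoidAlgebra.single 1 (CoalgebraStruct.counit (R := K) f) ∈ Jn K M n := by
      intro f
      induction f using MonoidAlgebra.induction_linear with
      | zero => simp
      | add p q hp hq =>
        simp only [map_add, MonoidAlgebra.single_add, add_sub_add_comm]; exact add_mem hp hq
      | single m r =>
        rw [H8TorsionTame.powConv_single]
        have e1 : MonoidAlgebra.single (m ^ n) r -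
            MonoidAlgebra.single 1 (CoalgebraStruct.counit (R := K) (MonoidAlgebra.single m r)) =
            r • (MonoidAlgebra.single (m ^ n) (1 : K) - 1) := by
          rw [smul_sub, MonoidAlgebra.one_def, MonoidAlgebra.smul_single', MonoidAlgebra.smul_single', mul_one]
          simp
        rw [e1]
        exact Submodule.smul_of_tower_mem _ r (Ideal.subset_span ⟨m, rfl⟩)
    have := key (π w)
    rwa [CoalgHomClass.counit_comp_apply, hw0, MonoidAlgebra.single_zero, sub_zero] at this
  -- translated idempotents cover the points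
  have hpiece : ∀ t : WithConv (C →ₐ[K] K), (∃ d, 0 < d ∧ t ^ d = 1) →
      ∃ j : ℕ, (1 - transl t e) * (a ^ j * x) = 0 := by
    rintro t ⟨d, hd, ht⟩
    have ht' : (t ^ (d - 1)) ^ d = 1 := by rw [← pow_mul, mul_comm, pow_mul, ht, one_pow]
    obtain ⟨j, hj⟩ := core hM (π (transl (t ^ (d - 1)) x)) (π (transl (t ^ (d - 1)) a)) fun n hn => by
      obtain ⟨j, hj⟩ := hx (d * n) (Nat.mul_pos hd hn)
      refine ⟨j, ?_⟩
      have h2 := transl_torsion (t := t ^ (d - 1)) (n := d * n) (by rw [pow_mul, ht', one_pow]) hj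
      rw [← map_pow, ← map_pow, ← map_mul, ← map_mul]
      refine (show Jn K M (d * n) ≤ Jn K M n from Ideal.span_le.mpr ?_) (hπJ _ _ h2)
      rintro _ ⟨m, rfl⟩
      exact Ideal.subset_span ⟨m ^ d, by simp only [← pow_mul]⟩
    refine ⟨j, ?_⟩
    rw [← map_pow, ← map_pow, ← map_mul, ← map_mul] at hj
    obtain ⟨b, hb⟩ := Ideal.mem_span_singleton'.mp (hker _ hj)
    have h3 : (1 - e) * transl (t ^ (d - 1)) (a ^ j * x) = 0 := by
      rw [← hb, sub_mul, one_mul, mul_left_comm, he.eq, sub_self]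
    have h4 := congrArg (transl t) h3
    rw [map_mul, map_sub, map_one, map_zero, transl_comp, ← pow_succ, Nat.sub_add_cancel hd, ht, transl_one] at h4
    exact h4
  let P : (M →* K) → WithConv (C →ₐ[K] K) := fun χ =>
    toConv ((MonoidAlgebra.lift K K M χ).comp (π : C →ₐ[K] MonoidAlgebra K M))
  have hPmul : ∀ χ ψ, P (χ * ψ) = P χ * P ψ := by
    intro χ ψ
    have h1 : (toConv (MonoidAlgebra.lift K K M (χ * ψ)) : WithConv (MonoidAlgebra K M →ₐ[K] K)) =
        toConv (MonoidAlgebra.lift K K M χ) * toConv (MonoidAlgebra.lift K K M ψ) := by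
      refine WithConv.ofConv_injective (AlgHom.ext fun q => ?_)
      show MonoidAlgebra.lift K K M (χ * ψ) q = Algebra.TensorProduct.lmul' K (Algebra.TensorProduct.map
        (MonoidAlgebra.lift K K M χ) (MonoidAlgebra.lift K K M ψ) (CoalgebraStruct.comul (R := K) q))
      induction q using MonoidAlgebra.induction_linear with
      | zero => simp
      | add p q hp hq => simp only [map_add, hp, hq]
      | single m r =>
        simp [MonoidAlgebra.comul_single, MonoidAlgebra.lift_single]
        ring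
    refine WithConv.ofConv_injective ?_
    show (toConv (MonoidAlgebra.lift K K M (χ * ψ))).ofConv.comp (π : C →ₐ[K] MonoidAlgebra K M) = _
    rw [h1]
    exact AlgHom.convMul_comp_bialgHom_distrib _ _ π
  have hP1 : P 1 = 1 := by
    refine WithConv.ofConv_injective (AlgHom.ext fun c => ?_)
    have h1 : ∀ q, MonoidAlgebra.lift K K M 1 q = CoalgebraStruct.counit (R := K) q := by
      intro q
      induction q using MonoidAlgebra.induction_linear with
      | zero => simp
      | add p q hp hq => simp only [map_add, hp, hq]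
      | single m r => simp [MonoidAlgebra.lift_single]
    exact (h1 (π c)).trans (CoalgHomClass.counit_comp_apply π c)
  have hPpow : ∀ χ (n : ℕ), P (χ ^ n) = P χ ^ n := by
    intro χ n
    induction n with
    | zero => rw [pow_zero, pow_zero, hP1]
    | succ n ih => rw [pow_succ, pow_succ, hPmul, ih]
  have hsub : ∀ y : WithConv (C →ₐ[K] K), y.ofConv e = 0 → ∃ χ, y = P χ := by
    intro y hy
    choose s hs using hπ
    have hwd : ∀ c c' : C, π c = π c' → y.ofConv c = y.ofConv c' := by
      intro c c' h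
      obtain ⟨b, hb⟩ := Ideal.mem_span_singleton'.mp (hker (c - c') (by rw [map_sub, h, sub_self]))
      rw [← sub_eq_zero, ← map_sub, ← hb, map_mul, hy, mul_zero]
    let χ : M →* K :=
      { toFun := fun m => y.ofConv (s (MonoidAlgebra.single m 1))
        map_one' := (hwd _ 1 (by
          rw [hs]; exact (MonoidAlgebra.one_def).symm.trans (map_one (π : C →ₐ[K] MonoidAlgebra K M)).symm)).trans
          (map_one _)
        map_mul' := fun u v => by
          rw [← map_mul]
          exact hwd _ _ (by rw [hs, map_mul, hs, hs, MonoidAlgebra.single_mul_single, one_mul]) }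
    refine ⟨χ, WithConv.ofConv_injective (AlgHom.ext fun c => ?_)⟩
    have h1 : ∀ q, MonoidAlgebra.lift K K M χ q = y.ofConv (s q) := by
      intro q
      induction q using MonoidAlgebra.induction_linear with
      | zero => rw [map_zero, ← map_zero y.ofConv]; exact hwd _ _ (by rw [hs, map_zero])
      | add p q hp hq =>
        rw [map_add, hp, hq, ← map_add]; exact hwd _ _ (by rw [hs, map_add, hs, hs])
      | single m r =>
        rw [MonoidAlgebra.lift_single]
        show r • y.ofConv (s (MonoidAlgebra.single m 1)) = _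
        rw [← map_smul]
        exact hwd _ _ (by rw [map_smul, hs, hs, MonoidAlgebra.smul_single', mul_one])
    exact ((h1 (π c)).trans (hwd _ _ (hs _))).symm
  have hεe : CoalgebraStruct.counit (R := K) e = 0 := by
    rw [← CoalgHomClass.counit_comp_apply π, hπe, map_zero]
  let 𝔞 : Ideal C := Ideal.span
    {z | ∃ t : WithConv (C →ₐ[K] K), (∃ d, 0 < d ∧ t ^ d = 1) ∧ z = 1 - transl t e}
  have h𝔞 : 𝔞 = ⊤ := by
    by_contra hne
    obtain ⟨𝔪, h𝔪, hle⟩ := Ideal.exists_le_maximal 𝔞 hne
    haveI := h𝔪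
    letI := Ideal.Quotient.field 𝔪
    haveI : Module.Finite K (C ⧸ 𝔪) := finite_of_finite_type_of_isJacobsonRing K (C ⧸ 𝔪)
    let ν : K ≃ₐ[K] C ⧸ 𝔪 := AlgEquiv.ofBijective (Algebra.ofId K _)
      (IsAlgClosed.algebraMap_bijective_of_isIntegral (k := K))
    let x₀ : WithConv (C →ₐ[K] K) := toConv (ν.symm.toAlgHom.comp (Ideal.Quotient.mkₐ K 𝔪))
    have hx₀ : ∀ z ∈ 𝔪, x₀.ofConv z = 0 := fun z hz => by
      show ν.symm (Ideal.Quotient.mk 𝔪 z) = 0
      rw [Ideal.Quotient.eq_zero_iff_mem.mpr hz, map_zero]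
    obtain ⟨i, j, hij, hEq⟩ : ∃ i j : ℕ, i < j ∧ transl (x₀ ^ i) e = transl (x₀ ^ j) e := by
      obtain ⟨i, -, j, -, hne, hEq⟩ := Set.infinite_univ.exists_ne_map_eq_of_mapsTo
        (f := fun i : ℕ => transl (x₀ ^ i) e) (t := {q | IsIdempotentElem q}) (fun i _ => he.map _)
        (H8MultTorsionPts.finite_idem _)
      rcases lt_or_gt_of_ne hne with h | h
      · exact ⟨i, j, h, hEq⟩
      · exact ⟨j, i, h, hEq.symm⟩
    have hxd : (x₀ ^ (j - i)).ofConv e = 0 := by
      have h2 := congrArg (fun z => (x₀ ^ i)⁻¹.ofConv z) hEq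
      simp only [point_transl, mul_inv_cancel] at h2
      rw [show x₀ ^ j = x₀ ^ (j - i) * x₀ ^ i by rw [← pow_add, Nat.sub_add_cancel hij.le], mul_assoc,
        mul_inv_cancel, mul_one] at h2
      rw [← h2]
      show algebraMap K K (CoalgebraStruct.counit (R := K) e) = 0
      rw [hεe, map_zero]
    obtain ⟨χ, hχ⟩ := hsub _ hxd
    obtain ⟨r, χ', hr, hχ'⟩ := H8MultTorsionPts.exists_root_hom K (Group.fg_iff_monoid_fg.mp hM) χ (j - i)
      (Nat.sub_pos_of_lt hij)
    let t : WithConv (C →ₐ[K] K) := P χ' * x₀⁻¹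
    have ht : t ^ ((j - i) * r) = 1 := by
      rw [mul_pow, inv_pow, ← hPpow, hχ', hPpow, ← hχ, ← pow_mul, mul_inv_cancel]
    have hmem : 1 - transl t e ∈ 𝔪 :=
      hle (Ideal.subset_span ⟨t, ⟨_, Nat.mul_pos (Nat.sub_pos_of_lt hij) hr, ht⟩, rfl⟩)
    have h5 := hx₀ _ hmem
    rw [map_sub, map_one, point_transl, inv_mul_cancel_right] at h5
    have h6 : (P χ').ofConv e = 0 := by
      show MonoidAlgebra.lift K K M χ' (π e) = 0
      rw [hπe, map_zero]
    rw [h6, sub_zero] at h5
    exact one_ne_zero h5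
  have hone : (1 : C) ∈ 𝔞 := by rw [h𝔞]; trivial
  suffices H : ∀ z ∈ 𝔞, ∃ j : ℕ, z * (a ^ j * x) = 0 by simpa using H 1 hone
  intro z hz
  induction hz using Submodule.span_induction with
  | mem z hz => obtain ⟨t, ht, rfl⟩ := hz; exact hpiece t ht
  | zero => exact ⟨0, zero_mul _⟩
  | add p q _ _ hp hq =>
    obtain ⟨i, hi⟩ := hp
    obtain ⟨j, hj⟩ := hq
    refine ⟨i + j, ?_⟩
    rw [add_mul, pow_add]
    linear_combination a ^ j * hi + a ^ i * hj
  | smul c p _ hp =>
    obtain ⟨i, hi⟩ := hp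
    exact ⟨i, by rw [smul_eq_mul, mul_assoc, hi, mul_zero]⟩

end AlgClosed

variable {k : Type u} [Field k] {C : Type u} [CommRing C] [HopfAlgebra k C] [Coalgebra.IsCocomm k C]

/-- The torsion of a group with an open subgroup of multiplicative type is schematically dense. -/
theorem iInf_open [Algebra.FiniteType k C] (e : C) (he : IsIdempotentElem e) [(Ideal.span {e}).IsHopfIdeal k]
    (hG : H8MultGL.HasSplitting k (C ⧸ Ideal.span {e})) (a : C) :
    ⨅ n : {n : ℕ // 0 < n}, Ideal.map (algebraMap C (Localization.Away a)) (SGA3b.torsionIdeal k C n.1) = ⊥ := by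
  classical
  refine (Submodule.eq_bot_iff _).mpr fun b hb => ?_
  obtain ⟨x, ⟨s, hs⟩, rfl⟩ := IsLocalization.exists_mk'_eq (Submonoid.powers a) b
  rw [IsLocalization.mk'_eq_zero_iff]
  have hx : ∀ n : ℕ, 0 < n → ∃ j : ℕ, a ^ j * x ∈ SGA3b.torsionIdeal k C n := by
    intro n hn
    have h1 := Ideal.mem_iInf.mp hb ⟨n, hn⟩
    rw [IsLocalization.mk'_mem_map_algebraMap_iff (Submonoid.powers a)] at h1
    obtain ⟨_, ⟨j, rfl⟩, h2⟩ := h1
    exact ⟨j, h2⟩
  obtain ⟨ι, _, T, _, _, hff, hd⟩ := hG
  haveI := hff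
  obtain ⟨qq, -⟩ := PrimeSpectrum.comap_surjective_of_faithfullyFlat (B := ∀ i, T i) (default : PrimeSpectrum k)
  obtain ⟨i, hi⟩ : ∃ i, Pi.single i (1 : T i) ∉ qq.asIdeal := by
    by_contra hcon
    push Not at hcon
    refine qq.isPrime.ne_top ((Ideal.eq_top_iff_one _).mpr ?_)
    rw [← Finset.univ_sum_single (1 : ∀ i, T i)]
    exact Ideal.sum_mem _ fun i _ => hcon i
  obtain ⟨y, -, -⟩ := H8CharQuasi.exists_of_single_notMem T i 1 qq hi
  let K := AlgebraicClosure y.asIdeal.ResidueField
  obtain ⟨M, _, ⟨e₀⟩⟩ := hd i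
  let e' := H8MultKernel.eMap e₀ (IsScalarTower.toAlgHom k (T i) K)
  let π : K ⊗[k] C →ₐc[K] MonoidAlgebra K M :=
    (e' : K ⊗[k] (C ⧸ Ideal.span {e}) →ₐc[K] MonoidAlgebra K M).comp
      (Bialgebra.TensorProduct.map (BialgHom.id K K) (Bialgebra.Quotient.mkBialgHom (Ideal.span {e})))
  have hq : ∀ z : K ⊗[k] C, Bialgebra.TensorProduct.map (BialgHom.id K K)
      (Bialgebra.Quotient.mkBialgHom (R := k) (Ideal.span {e})) z =
      Algebra.TensorProduct.map (AlgHom.id k K) (Ideal.Quotient.mkₐ k (Ideal.span {e})) z := fun z => rfl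
  have hπs : Function.Surjective π := by
    refine (EquivLike.surjective e').comp ?_
    intro z
    obtain ⟨w, hw⟩ := LinearMap.lTensor_surjective K
      (g := (Ideal.Quotient.mkₐ k (Ideal.span {e})).toLinearMap) Ideal.Quotient.mk_surjective z
    exact ⟨w, hw⟩
  have hker : ∀ z, π z = 0 → z ∈ Ideal.span {(1 : K) ⊗ₜ[k] e} := by
    intro z hz
    have h1 : Algebra.TensorProduct.map (AlgHom.id k K) (Ideal.Quotient.mkₐ k (Ideal.span {e})) z = 0 :=
      EquivLike.injective e' (hz.trans (map_zero e').symm)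
    rw [← RingHom.mem_ker] at h1
    have h2 : z ∈ RingHom.ker (Algebra.TensorProduct.map (AlgHom.id k K) (Ideal.Quotient.mkₐ k (Ideal.span {e}))) := h1
    rw [Algebra.TensorProduct.lTensor_ker _ Ideal.Quotient.mk_surjective,
      show RingHom.ker (Ideal.Quotient.mkₐ k (Ideal.span {e})) = Ideal.span {e} from Ideal.mk_ker,
      Ideal.map_span, Set.image_singleton] at h2
    exact h2
  have hπe : π ((1 : K) ⊗ₜ[k] e) = 0 := by
    show e' ((1 : K) ⊗ₜ[k] Ideal.Quotient.mk (Ideal.span {e}) e) = 0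
    rw [Ideal.Quotient.eq_zero_iff_mem.mpr (Ideal.mem_span_singleton_self e), tmul_zero, map_zero]
  let incl : C →ₐ[k] K ⊗[k] C := Algebra.TensorProduct.includeRight
  have htor : ∀ n c, c ∈ SGA3b.torsionIdeal k C n → incl c ∈ SGA3b.torsionIdeal K (K ⊗[k] C) n := by
    intro n c hc
    refine Ideal.mem_comap.mp ((Ideal.map_le_iff_le_comap (I := RingHom.ker (Bialgebra.counitAlgHom k C))).mpr ?_ hc :
      c ∈ (SGA3b.torsionIdeal K (K ⊗[k] C) n).comap incl)
    intro w hw
    have hw0 : CoalgebraStruct.counit (R := k) w = 0 := hw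
    show (1 : K) ⊗ₜ[k] SGA3b.powConv k C n w ∈ SGA3b.torsionIdeal K (K ⊗[k] C) n
    rw [← powConv_bc]
    refine Ideal.mem_map_of_mem _ ?_
    show CoalgebraStruct.counit (R := K) ((1 : K) ⊗ₜ[k] w) = 0
    rw [TensorProduct.counit_tmul, hw0, zero_smul]
  obtain ⟨j, hj⟩ := dense_of_split π hπs (incl e) (he.map incl) hker hπe (incl a) (incl x) fun n hn => by
    obtain ⟨j, hj⟩ := hx n hn
    exact ⟨j, by rw [← map_pow, ← map_mul]; exact htor n _ hj⟩
  refine ⟨⟨a ^ j, j, rfl⟩, ?_⟩
  rw [← map_pow, ← map_mul] at hj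
  refine Module.FaithfullyFlat.tensorProduct_mk_injective (A := k) (B := K) C ?_
  show (1 : K) ⊗ₜ[k] (a ^ j * x) = (1 : K) ⊗ₜ[k] (0 : C)
  rw [tmul_zero]; exact hj

end Groth.Agent.H8OpenTorsion
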