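import Mathlib
import Groth.Agent.Lib.H8Orbit

/-!
# Openness of the locus of finite stabilizers, and the stable locus
-/

universe u

open TensorProduct

noncomputable section

namespace Groth.Agent.H8OrbitOpen

open H8Comod H8Orbit

variable (k : Type u) [Field k] (A : Type u) [CommRing A] [HopfAlgebra k A]
  (R : Type u) [CommRing R] [Algebra k R] [HopfRep.Comod k A R]

/-- The ideal of the stabilizer scheme. -/
def stabIdeal : Ideal (R ⊗[k] A) :=
  Ideal.span (Set.range fun f : R => HopfRep.Comod.coact (k := k) (A := A) f - f ⊗ₜ[k] (1 : A))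

/-- The coordinate ring of the stabilizer scheme. -/
abbrev StabRing : Type u := (R ⊗[k] A) ⧸ stabIdeal k A R

variable {k A R} [GLin.IsCoactAlg k A R]

/-- Evaluation at a pair of points. -/
def ev (x : R →ₐ[k] k) (g : A →ₐ[k] k) : R ⊗[k] A →ₐ[k] k := Algebra.TensorProduct.productMap x g

theorem ev_coact (x : R →ₐ[k] k) (g : A →ₐ[k] k) (f : R) :
    ev x g (HopfRep.Comod.coact (k := k) (A := A) f) = pt x (WithConv.toConv g) f := by
  rw [pt_apply, act_apply]
  generalize HopfRep.Comod.coact (k := k) (A := A) f = z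
  induction z using TensorProduct.induction_on with
  | zero => simp
  | tmul a b => simp [ev, lin, mul_comm]
  | add p q hp hq => simp only [map_add, hp, hq]

theorem ev_stab_iff (x : R →ₐ[k] k) (g : A →ₐ[k] k) :
    stabIdeal k A R ≤ RingHom.ker (ev x g) ↔ pt x (WithConv.toConv g) = x := by
  rw [stabIdeal, Ideal.span_le, Set.range_subset_iff, AlgHom.ext_iff]
  refine forall_congr' fun f => ?_
  simp only [SetLike.mem_coe, RingHom.mem_ker, map_sub, ev_coact, sub_eq_zero]
  simp [ev]

/-- A point of the stabilizer of `x`. -/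
def stabPt (x : R →ₐ[k] k) (g : A →ₐ[k] k) (h : pt x (WithConv.toConv g) = x) :
    StabRing k A R →ₐ[k] k :=
  Ideal.Quotient.liftₐ _ (ev x g) fun _ ha => (ev_stab_iff x g).mpr h ha

theorem stabPt_mk (x : R →ₐ[k] k) (g : A →ₐ[k] k) (h : pt x (WithConv.toConv g) = x) (a : R ⊗[k] A) :
    stabPt x g h (Ideal.Quotient.mk _ a) = ev x g a := rfl

theorem stabPt_algebraMap (x : R →ₐ[k] k) (g : A →ₐ[k] k) (h : pt x (WithConv.toConv g) = x) (r : R) :
    stabPt x g h (algebraMap R (StabRing k A R) r) = x r := by
  show ev x g (algebraMap R (R ⊗[k] A) r) = x r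
  simp [ev, Algebra.TensorProduct.algebraMap_apply]

variable (k A R) in
theorem pt_counit (x : R →ₐ[k] k) : pt x (WithConv.toConv (Bialgebra.counitAlgHom k A)) = x := by
  have h : (WithConv.toConv (Bialgebra.counitAlgHom k A) : WithConv (A →ₐ[k] k)) = 1 := by
    apply WithConv.ofConv_injective
    ext a
    simp [AlgHom.convOne_def, Algebra.ofId_apply]
  rw [h, pt_one]

/-- The identity point of the stabilizer of `x`. -/
def idPt (x : R →ₐ[k] k) : StabRing k A R →ₐ[k] k :=
  stabPt x (Bialgebra.counitAlgHom k A) (pt_counit k A R x)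

/-- Restriction to the base of a point of the stabilizer scheme. -/
def base (p : StabRing k A R →ₐ[k] k) : R →ₐ[k] k :=
  p.comp (IsScalarTower.toAlgHom k R (StabRing k A R))

/-- The group component of a point of the stabilizer scheme. -/
def grp (p : StabRing k A R →ₐ[k] k) : A →ₐ[k] k :=
  p.comp ((Ideal.Quotient.mkₐ k _).comp Algebra.TensorProduct.includeRight)

theorem pt_grp (p : StabRing k A R →ₐ[k] k) :
    pt (base p) (WithConv.toConv (grp p)) = base p := by
  rw [← ev_stab_iff]
  have : ev (base p) (grp p) = p.comp (Ideal.Quotient.mkₐ k _) := by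
    refine Algebra.TensorProduct.ext (AlgHom.ext fun r => ?_) (AlgHom.ext fun a => ?_)
    · simp [ev, base, IsScalarTower.coe_toAlgHom', Algebra.TensorProduct.algebraMap_apply]
      rfl
    · simp [ev, grp]
  intro a ha
  rw [RingHom.mem_ker, this, AlgHom.comp_apply, Ideal.Quotient.mkₐ_eq_mk,
    Ideal.Quotient.eq_zero_iff_mem.mpr ha, map_zero]

theorem pt_ext {p q : StabRing k A R →ₐ[k] k} (h1 : base p = base q) (h2 : grp p = grp q) : p = q := by
  apply AlgHom.cancel_right (Ideal.Quotient.mkₐ_surjective k _) |>.mp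
  refine Algebra.TensorProduct.ext (AlgHom.ext fun r => ?_) (AlgHom.ext fun a => ?_)
  · have := AlgHom.congr_fun h1 r
    simpa [base, IsScalarTower.coe_toAlgHom'] using! this
  · exact AlgHom.congr_fun h2 a

theorem base_stabPt (x : R →ₐ[k] k) (g : A →ₐ[k] k) (h : pt x (WithConv.toConv g) = x) :
    base (stabPt x g h) = x :=
  AlgHom.ext fun r => stabPt_algebraMap x g h r

theorem grp_stabPt (x : R →ₐ[k] k) (g : A →ₐ[k] k) (h : pt x (WithConv.toConv g) = x) :
    grp (stabPt x g h) = g :=
  AlgHom.ext fun a => by simp [grp, stabPt_mk, ev]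

theorem base_eq_of_ker {p : StabRing k A R →ₐ[k] k} {x : R →ₐ[k] k}
    (h : (RingHom.ker p).comap (algebraMap R (StabRing k A R)) = RingHom.ker x) : base p = x := by
  refine AlgHom.ext fun r => ?_
  have h' : r - algebraMap k R (x r) ∈ (RingHom.ker p).comap (algebraMap R (StabRing k A R)) := by
    rw [h]; simp
  rw [Ideal.mem_comap, RingHom.mem_ker] at h'
  have : base p (r - algebraMap k R (x r)) = 0 := h'
  simpa [sub_eq_zero] using this

variable [IsAlgClosed k] [Algebra.FiniteType k A] [Algebra.FiniteType k R]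

instance : Algebra.FiniteType R (StabRing k A R) :=
  Algebra.FiniteType.of_surjective (Ideal.Quotient.mkₐ R _) (Ideal.Quotient.mkₐ_surjective R _)

instance : Algebra.FiniteType k (StabRing k A R) :=
  Algebra.FiniteType.trans (S := R) inferInstance inferInstance

/-- A finite stabilizer makes the stabilizer scheme quasi-finite at the identity. -/
theorem quasiFiniteAt_of_stabFinite {x : R →ₐ[k] k} (h : StabFinite A x) :
    haveI : (RingHom.ker (idPt (A := A) x)).IsPrime := RingHom.ker_isPrime _
    Algebra.QuasiFiniteAt R (RingHom.ker (idPt (A := A) x)) := by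
  classical
  haveI : (RingHom.ker (idPt (A := A) x)).IsPrime := RingHom.ker_isPrime _
  let q : PrimeSpectrum (StabRing k A R) := ⟨RingHom.ker (idPt (A := A) x), inferInstance⟩
  show Algebra.QuasiFiniteAt R q.asIdeal
  rw [Algebra.quasiFiniteAt_iff_isOpen_singleton_fiber]
  have hp : (RingHom.ker (idPt (A := A) x)).comap (algebraMap R (StabRing k A R)) = RingHom.ker x := by
    ext r
    simp only [Ideal.mem_comap, RingHom.mem_ker]
    rw [idPt, stabPt_algebraMap]
  let pS := (RingHom.ker x).map (algebraMap R (StabRing k A R))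
  haveI : Algebra.FiniteType k (StabRing k A R ⧸ pS) :=
    Algebra.FiniteType.of_surjective (Ideal.Quotient.mkₐ k _) (Ideal.Quotient.mkₐ_surjective k _)
  have hbase : ∀ p : StabRing k A R ⧸ pS →ₐ[k] k, base (p.comp (Ideal.Quotient.mkₐ k pS)) = x := by
    intro p
    refine base_eq_of_ker (le_antisymm ?_ ?_)
    · refine ((RingHom.ker_isMaximal_of_surjective x fun r => ⟨algebraMap k R r, x.commutes r⟩).eq_of_le ?_ ?_).ge
      · exact Ideal.comap_ne_top _ (RingHom.ker_ne_top _)
      · intro r hr
        show p (Ideal.Quotient.mk pS _) = 0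
        rw [Ideal.Quotient.eq_zero_iff_mem.mpr (Ideal.mem_map_of_mem _ hr), map_zero]
    · intro r hr
      show p (Ideal.Quotient.mk pS _) = 0
      rw [Ideal.Quotient.eq_zero_iff_mem.mpr (Ideal.mem_map_of_mem _ hr), map_zero]
  haveI : Finite (StabRing k A R ⧸ pS →ₐ[k] k) := by
    rw [stabFinite_iff] at h
    haveI := h.to_subtype
    refine Finite.of_injective (β := {g : WithConv (A →ₐ[k] k) | pt x g = x})
      (fun p => ⟨WithConv.toConv (grp (p.comp (Ideal.Quotient.mkₐ k pS))), ?_⟩) fun p p' hpp => ?_
    · have := pt_grp (p.comp (Ideal.Quotient.mkₐ k pS))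
      rwa [hbase] at this
    · refine AlgHom.cancel_right (Ideal.Quotient.mkₐ_surjective k pS) |>.mp (pt_ext ?_ ?_)
      · rw [hbase, hbase]
      · exact WithConv.toConv_injective (congrArg Subtype.val hpp)
  haveI := H8AffDim.dim_zero_of_finite_points (k := k) (A := StabRing k A R ⧸ pS)
  -- every prime over `x` is the kernel of a point of the fibre
  have hfib : ∀ Q : PrimeSpectrum (StabRing k A R),
      Q.comap (algebraMap R (StabRing k A R)) = q.comap (algebraMap R (StabRing k A R)) →
      Q.asIdeal.IsMaximal ∧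
        ∃ p : StabRing k A R ⧸ pS →ₐ[k] k, Q.asIdeal = RingHom.ker (p.comp (Ideal.Quotient.mkₐ k pS)) := by
    intro Q hQ
    have hle : pS ≤ Q.asIdeal := Ideal.map_le_iff_le_comap.mpr
      (le_of_eq (hp.symm.trans (congrArg PrimeSpectrum.asIdeal hQ).symm))
    haveI : (Q.asIdeal.map (Ideal.Quotient.mk pS)).IsPrime :=
      Ideal.map_isPrime_of_surjective Ideal.Quotient.mk_surjective (by rwa [Ideal.mk_ker])
    haveI hmax : (Q.asIdeal.map (Ideal.Quotient.mk pS)).IsMaximal := Ideal.IsPrime.isMaximal' (I := Q.asIdeal.map (Ideal.Quotient.mk pS)) ‹_›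
    have hQe : (Q.asIdeal.map (Ideal.Quotient.mk pS)).comap (Ideal.Quotient.mk pS) = Q.asIdeal :=
      (Ideal.comap_map_of_surjective _ Ideal.Quotient.mk_surjective _).trans
        (by rw [← RingHom.ker_eq_comap_bot, Ideal.mk_ker]; exact sup_eq_left.mpr hle)
    obtain ⟨p, hp'⟩ := H8AffDim.exists_point (k := k) (Q.asIdeal.map (Ideal.Quotient.mk pS))
    refine ⟨hQe ▸ Ideal.comap_isMaximal_of_surjective _ Ideal.Quotient.mk_surjective, p, ?_⟩
    rw [← hQe, ← hp']
    rfl
  let Fib : Set (PrimeSpectrum (StabRing k A R)) :=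
    PrimeSpectrum.comap (algebraMap R (StabRing k A R)) ⁻¹' {q.comap (algebraMap R (StabRing k A R))}
  haveI : Finite Fib := by
    refine Finite.of_surjective
      (fun p : {p : StabRing k A R ⧸ pS →ₐ[k] k // (⟨RingHom.ker (p.comp (Ideal.Quotient.mkₐ k pS)),
        RingHom.ker_isPrime _⟩ : PrimeSpectrum (StabRing k A R)) ∈ Fib} => (⟨_, p.2⟩ : Fib)) fun Q => ?_
    obtain ⟨-, p, hQp⟩ := hfib Q.1 Q.2
    have hQe : Q.1 = ⟨RingHom.ker (p.comp (Ideal.Quotient.mkₐ k pS)), RingHom.ker_isPrime _⟩ :=
      PrimeSpectrum.ext hQp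
    exact ⟨⟨p, hQe ▸ Q.2⟩, Subtype.ext hQe.symm⟩
  haveI : T1Space Fib := ⟨fun Q => by
    rw [← Set.preimage_image_eq {Q} Subtype.val_injective, Set.image_singleton]
    exact ((PrimeSpectrum.isClosed_singleton_iff_isMaximal _).mpr (hfib Q.1 Q.2).1).preimage
      continuous_subtype_val⟩
  exact isOpen_discrete (α := Fib) _

/-- Quasi-finiteness at the identity bounds the stabilizer. -/
theorem stabFinite_of_quasiFiniteAt {x : R →ₐ[k] k}
    (h : haveI : (RingHom.ker (idPt (A := A) x)).IsPrime := RingHom.ker_isPrime _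
      Algebra.QuasiFiniteAt R (RingHom.ker (idPt (A := A) x))) :
    StabFinite A x := by
  classical
  haveI : (RingHom.ker (idPt (A := A) x)).IsPrime := RingHom.ker_isPrime _
  haveI := h
  haveI : (RingHom.ker x).IsPrime := RingHom.ker_isPrime _
  haveI : (RingHom.ker (idPt (A := A) x)).LiesOver (RingHom.ker x) := ⟨by
    ext r
    simp only [Ideal.under_def, Ideal.mem_comap, RingHom.mem_ker]
    rw [idPt, stabPt_algebraMap]⟩
  obtain ⟨s, hs, hs'⟩ := Ideal.exists_not_mem_forall_mem_of_ne_of_liesOver
    (RingHom.ker x) (RingHom.ker (idPt (A := A) x))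
  obtain ⟨s, rfl⟩ := Ideal.Quotient.mk_surjective s
  let t : A := Algebra.TensorProduct.lid k A (Algebra.TensorProduct.map x (AlgHom.id k A) s)
  have ht : ∀ g : A →ₐ[k] k, g t = ev x g s := by
    intro g
    simp only [t]
    clear hs hs'
    induction s using TensorProduct.induction_on with
    | zero => simp
    | tmul a b => simp [ev]
    | add p q hp hq => simp only [map_add, hp, hq]
  have huniq : ∀ g : WithConv (A →ₐ[k] k), pt x g = x → g.ofConv t ≠ 0 → g = 1 := by
    intro g hg hgt
    have hg' : pt x (WithConv.toConv g.ofConv) = x := by rwa [WithConv.toConv_ofConv]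
    have hkey : RingHom.ker (stabPt x g.ofConv hg') = RingHom.ker (idPt (A := A) x) := by
      by_contra hne
      haveI : (RingHom.ker (stabPt x g.ofConv hg')).IsPrime := RingHom.ker_isPrime _
      have := hs' (RingHom.ker (stabPt x g.ofConv hg')) inferInstance hne ⟨by
        ext r
        simp only [Ideal.under_def, Ideal.mem_comap, RingHom.mem_ker]
        rw [stabPt_algebraMap]⟩
      rw [RingHom.mem_ker, stabPt_mk] at this
      exact hgt ((ht _).trans this)
    have he : stabPt x g.ofConv hg' = idPt (A := A) x := by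
      refine AlgHom.ext fun a => ?_
      have h' : a - algebraMap k _ (idPt (A := A) x a) ∈ RingHom.ker (idPt (A := A) x) := by simp
      rw [← hkey, RingHom.mem_ker, map_sub, AlgHom.commutes, sub_eq_zero] at h'
      exact h'
    have := congrArg grp he
    rw [idPt, grp_stabPt, grp_stabPt] at this
    apply WithConv.ofConv_injective
    rw [this]
    ext a
    simp [AlgHom.convOne_def, Algebra.ofId_apply]
  have h1t : (1 : WithConv (A →ₐ[k] k)).ofConv t ≠ 0 := by
    intro hcon
    refine hs ?_
    rw [RingHom.mem_ker, idPt, stabPt_mk, ← ht]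
    convert hcon using 2
    ext a
    simp [AlgHom.convOne_def, Algebra.ofId_apply]
  rw [stabFinite_iff]
  let St := {g : WithConv (A →ₐ[k] k) | pt x g = x}
  let tr : WithConv (A →ₐ[k] k) → A := fun g =>
    (WithConv.toConv (AlgHom.id k A) * WithConv.toConv ((Algebra.ofId k A).comp g⁻¹.ofConv)).ofConv t
  have htr : ∀ g g' : WithConv (A →ₐ[k] k), g'.ofConv (tr g) = (g' * g⁻¹).ofConv t := by
    intro g g'
    simp only [tr]
    rw [← AlgHom.comp_apply, AlgHom.comp_convMul_distrib, AlgHom.comp_id]
    simp only [WithConv.ofConv_toConv]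
    rw [← AlgHom.comp_assoc,
      show g'.ofConv.comp (Algebra.ofId k A) = AlgHom.id k k from Subsingleton.elim _ _,
      AlgHom.id_comp]
  let Kst : Ideal A := Ideal.span (Set.range fun f : R => orb x f - algebraMap k A (x f))
  have htop : (1 : A) ∈ Kst ⊔ Ideal.span (tr '' St) := by
    rw [← Ideal.eq_top_iff_one]
    by_contra hne
    obtain ⟨M, hM, hle⟩ := Ideal.exists_le_maximal _ hne
    obtain ⟨g, hg⟩ := H8AffDim.exists_point (k := k) M
    have hgst : pt x (WithConv.toConv g) = x := by
      refine AlgHom.ext fun f => ?_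
      have h' : orb x f - algebraMap k A (x f) ∈ RingHom.ker g :=
        hg ▸ hle (Ideal.mem_sup_left (Ideal.subset_span ⟨f, rfl⟩))
      simpa [RingHom.mem_ker, sub_eq_zero] using! h'
    have h' : tr (WithConv.toConv g) ∈ RingHom.ker g :=
      hg ▸ hle (Ideal.mem_sup_right (Ideal.subset_span ⟨_, hgst, rfl⟩))
    rw [RingHom.mem_ker, ← WithConv.ofConv_toConv g, htr, WithConv.toConv_ofConv, mul_inv_cancel] at h'
    exact h1t h'
  obtain ⟨a, ha, b, hb, hab⟩ := Submodule.mem_sup.mp htop
  obtain ⟨T, hTS, hbT⟩ := Submodule.mem_span_finite_of_mem_span hb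
  choose gT hgT hgT' using fun a : T => hTS a.2
  refine (Set.finite_range gT).subset fun g hg => ?_
  by_contra hcon
  have hga : g.ofConv a = 0 := by
    have : Kst ≤ RingHom.ker g.ofConv := Ideal.span_le.mpr (Set.range_subset_iff.mpr fun f => by
      rw [SetLike.mem_coe, RingHom.mem_ker, map_sub, AlgHom.commutes, sub_eq_zero]
      exact AlgHom.congr_fun hg f)
    exact this ha
  have hgb : g.ofConv b = 0 := by
    have : Submodule.span A (T : Set A) ≤ RingHom.ker g.ofConv := Submodule.span_le.mpr fun c hc => by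
      rw [SetLike.mem_coe, RingHom.mem_ker,
        show c = tr (gT ⟨c, hc⟩) from (hgT' ⟨c, hc⟩).symm, htr]
      by_contra hne
      refine hcon ⟨⟨c, hc⟩, (mul_inv_eq_one.mp (huniq _ ?_ hne)).symm⟩
      have hgc : pt x (gT ⟨c, hc⟩) = x := hgT ⟨c, hc⟩
      rw [pt_mul, show pt x g = x from hg]
      conv_lhs => rw [← hgc, pt_inv]
    exact this hbT
  have := congrArg g.ofConv hab
  rw [map_add, hga, hgb, map_one, add_zero] at this
  exact zero_ne_one this

/-- The points with finite stabilizer form an open set. -/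
theorem exists_open_stabFinite {x : R →ₐ[k] k} (h : StabFinite A x) :
    ∃ e : R, x e ≠ 0 ∧ ∀ y : R →ₐ[k] k, y e ≠ 0 → StabFinite A y := by
  haveI : (RingHom.ker (idPt (A := A) x)).IsPrime := RingHom.ker_isPrime _
  haveI := quasiFiniteAt_of_stabFinite h
  obtain ⟨r, hr, hint, hall⟩ := Algebra.zariskisMainProperty_iff.mp
    (Algebra.ZariskisMainProperty.of_finiteType (R := R) (RingHom.ker (idPt (A := A) x)))
  obtain ⟨r, rfl⟩ := Ideal.Quotient.mk_surjective r
  let e : R := Algebra.TensorProduct.rid k k R
    (Algebra.TensorProduct.map (AlgHom.id k R) (Bialgebra.counitAlgHom k A) r)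
  have he : ∀ y : R →ₐ[k] k, y e = ev y (Bialgebra.counitAlgHom k A) r := by
    intro y
    simp only [e]
    clear hr hint hall
    induction r using TensorProduct.induction_on with
    | zero => simp
    | tmul a b => simp [ev, mul_comm]
    | add p q hp hq => simp only [map_add, hp, hq]
  refine ⟨e, fun hcon => hr ?_, fun y hy => ?_⟩
  · rw [RingHom.mem_ker, idPt, stabPt_mk, ← he, hcon]
  · haveI : (RingHom.ker (idPt (A := A) y)).IsPrime := RingHom.ker_isPrime _
    refine stabFinite_of_quasiFiniteAt (Algebra.ZariskisMainProperty.quasiFiniteAt _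
      (Algebra.zariskisMainProperty_iff.mpr ⟨_, fun hcon => hy ?_, hint, hall⟩))
    rwa [RingHom.mem_ker, idPt, stabPt_mk, ← he] at hcon

section Reductive

variable (hG : HopfRep.IsLinearlyReductive k A)

include hG

/-- Invariants separate a stable point from a stable closed set missing it. -/
theorem exists_fixed_mem {x : R →ₐ[k] k} (hc : IsClosedOrbit A x) (hf : StabFinite A x) (I : Ideal R)
    (hI : HopfRep.IsSubcomod (k := k) (A := A) (I.restrictScalars k)) {b : R} (hb : b ∈ I) (hxb : x b ≠ 0) :
    ∃ d ∈ HopfRep.fixedPts k A R, d ∈ I ∧ x d ≠ 0 := by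
  by_contra! hcon
  obtain ⟨z, hzI, hz⟩ := exists_point_over hG I hI (x.comp (GLin.invariants k A R).val)
    fun f hf => hcon _ f.2 hf
  obtain ⟨g, rfl⟩ := eq_pt_of_stable hG hc hf fun f hf => (hz ⟨f, hf⟩).symm
  apply hxb
  rw [← pt_inv x g, pt_apply]
  exact hzI _ (isSubcomod_iff.mp hI _ b hb)

/-- A stable point has an invariant neighbourhood of stable points. -/
theorem exists_stable_nhd {x : R →ₐ[k] k} (hc : IsClosedOrbit A x) (hf : StabFinite A x) :
    ∃ d ∈ HopfRep.fixedPts k A R, x d ≠ 0 ∧
      ∀ y : R →ₐ[k] k, y d ≠ 0 → IsClosedOrbit A y ∧ StabFinite A y := by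
  haveI : IsNoetherianRing A := Algebra.FiniteType.isNoetherianRing k A
  obtain ⟨e, hxe, he⟩ := exists_open_stabFinite hf
  obtain ⟨N, hN⟩ := IsNoetherianRing.isNilpotent_nilradical A
  let I : Ideal R := ⨅ z : {z : R →ₐ[k] k // ¬ StabFinite A z}, RingHom.ker (orb (A := A) z.1)
  have hI : HopfRep.IsSubcomod (k := k) (A := A) (I.restrictScalars k) := by
    refine isSubcomod_iff.mpr fun ψ u hu => Submodule.mem_iInf _ |>.mpr fun z => ?_
    exact isSubcomod_iff.mp (ker_stable z.1) ψ u ((Submodule.mem_iInf _).mp hu z)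
  have heI : e ^ N ∈ I := (Submodule.mem_iInf _).mpr fun z => by
    have hnil : orb (A := A) z.1 e ∈ nilradical A := by
      refine mem_nilradical.mpr (H8AffDim.isNilpotent_of_points (k := k) fun g => ?_)
      by_contra hne
      refine z.2 ?_
      have h' := stabFinite_pt (WithConv.toConv g)⁻¹ (he (pt z.1 (WithConv.toConv g)) hne)
      rwa [pt_inv] at h'
    have h' := Ideal.pow_mem_pow hnil N
    rw [hN] at h'
    rw [RingHom.mem_ker, map_pow]
    exact h'
  obtain ⟨d, hd, hdI, hxd⟩ := exists_fixed_mem hG hc hf I hI heI (by simpa using pow_ne_zero N hxe)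
  refine ⟨d, hd, hxd, fun y hy => (stable_iff hG y).mpr fun z hz => ?_⟩
  by_contra hcon
  have := (Submodule.mem_iInf _).mp hdI ⟨z, hcon⟩
  rw [RingHom.mem_ker, orb_fixed z hd, hz d hd] at this
  have h' := congrArg (Bialgebra.counitAlgHom k A) this
  rw [AlgHom.commutes, map_zero] at h'
  exact hy (by simpa using h')

/-- An invariant fraction is a fraction of invariants. -/
theorem exists_fraction [IsDomain R] {x : R →ₐ[k] k} (hc : IsClosedOrbit A x) (hf : StabFinite A x)
    (a b : R) (hb : b ≠ 0)
    (hab : (a ⊗ₜ[k] (1 : A)) * HopfRep.Comod.coact (k := k) (A := A) b =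
      (b ⊗ₜ[k] (1 : A)) * HopfRep.Comod.coact (k := k) (A := A) a) :
    ∃ c ∈ HopfRep.fixedPts k A R, ∃ d ∈ HopfRep.fixedPts k A R, d ≠ 0 ∧ a * d = b * c := by
  -- the stable ideal of denominators
  let I : Ideal R :=
    { carrier := {r | ∀ ψ : DualAlg k A, b ∣ act R ψ r * a}
      zero_mem' := fun ψ => by simp
      add_mem' := fun {p q} hp hq ψ => by rw [map_add, add_mul]; exact dvd_add (hp ψ) (hq ψ)
      smul_mem' := fun r p hp ψ => by
        simp only [smul_eq_mul, act_apply, GLin.IsCoactAlg.coact_mul]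
        generalize HopfRep.Comod.coact (k := k) (A := A) r = w
        induction w using TensorProduct.induction_on with
        | zero => simp
        | tmul r₁ a₁ =>
          have h := hp (WithConv.toConv (ψ.ofConv ∘ₗ LinearMap.mulLeft k a₁))
          simp only [act_apply, WithConv.ofConv_toConv] at h
          have e : contr R ψ.ofConv (r₁ ⊗ₜ[k] a₁ * HopfRep.Comod.coact (k := k) (A := A) p) =
              r₁ * contr R (ψ.ofConv ∘ₗ LinearMap.mulLeft k a₁) (HopfRep.Comod.coact (k := k) (A := A) p) := by
            generalize HopfRep.Comod.coact (k := k) (A := A) p = z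
            induction z using TensorProduct.induction_on with
            | zero => simp
            | tmul p₁ a₂ => simp
            | add p q hp hq => simp only [map_add, mul_add, hp, hq]
          rw [e, mul_assoc]
          exact dvd_mul_of_dvd_right h _
        | add p q hp hq => simp only [add_mul, map_add]; exact dvd_add hp hq }
  have hI : HopfRep.IsSubcomod (k := k) (A := A) (I.restrictScalars k) :=
    isSubcomod_iff.mpr fun φ u hu ψ => by
      rw [← Module.End.mul_apply, ← act_mul]
      exact hu _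
  have hbI : b ∈ I := fun ψ => by
    refine ⟨act R ψ a, ?_⟩
    have h := congrArg (contr R ψ.ofConv) hab
    have hmul : ∀ (r : R) (z : R ⊗[k] A),
        contr R ψ.ofConv ((r ⊗ₜ[k] (1 : A)) * z) = r * contr R ψ.ofConv z := by
      intro r z
      induction z using TensorProduct.induction_on with
      | zero => simp
      | tmul p q => simp
      | add p q hp hq => simp only [map_add, mul_add, hp, hq]
    rw [hmul, hmul] at h
    rw [act_apply, act_apply, mul_comm]
    exact h
  obtain ⟨d₀, hd₀, hxd₀, hnhd⟩ := exists_stable_nhd hG hc hf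
  obtain ⟨y, hy⟩ : ∃ y : R →ₐ[k] k, y (d₀ * b) ≠ 0 := by
    by_contra! hcon
    exact mul_ne_zero (fun h => hxd₀ (by rw [h, map_zero])) hb (H8AffDim.isNilpotent_of_points hcon).eq_zero
  rw [map_mul, mul_ne_zero_iff] at hy
  obtain ⟨d, hd, hdI, hyd⟩ := exists_fixed_mem hG (hnhd y hy.1).1 (hnhd y hy.1).2 I hI hbI hy.2
  obtain ⟨c, hc'⟩ := hdI 1
  rw [act_one, Module.End.one_apply, mul_comm] at hc'
  refine ⟨c, ?_, d, hd, fun h => hyd (by rw [h, map_zero]), hc'⟩
  -- `c` is fixed
  have hd' : HopfRep.Comod.coact (k := k) (A := A) d = d ⊗ₜ[k] (1 : A) := hd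
  have h1 : HopfRep.Comod.coact (k := k) (A := A) a * (d ⊗ₜ[k] (1 : A)) =
      HopfRep.Comod.coact (k := k) (A := A) b * HopfRep.Comod.coact (k := k) (A := A) c := by
    rw [← hd', ← GLin.IsCoactAlg.coact_mul, hc', GLin.IsCoactAlg.coact_mul]
  have h2 : (b ⊗ₜ[k] (1 : A)) * (c ⊗ₜ[k] (1 : A)) = (a ⊗ₜ[k] (1 : A)) * (d ⊗ₜ[k] (1 : A)) := by
    rw [Algebra.TensorProduct.tmul_mul_tmul, Algebra.TensorProduct.tmul_mul_tmul, hc']
  have h3 : (b ⊗ₜ[k] (1 : A)) * HopfRep.Comod.coact (k := k) (A := A) b *
      (HopfRep.Comod.coact (k := k) (A := A) c - c ⊗ₜ[k] (1 : A)) = 0 := by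
    linear_combination (-(b ⊗ₜ[k] (1 : A))) * h1 -
      HopfRep.Comod.coact (k := k) (A := A) b * h2 - (d ⊗ₜ[k] (1 : A)) * hab
  -- cancel `b ⊗ 1` and then `coact b`
  have hreg : ∀ {r : R}, r ≠ 0 → ∀ z : R ⊗[k] A, (r ⊗ₜ[k] (1 : A)) * z = 0 → z = 0 := by
    intro r hr z hz
    have hinj := Module.Flat.rTensor_preserves_injective_linearMap (M := A) (LinearMap.mulLeft k r)
      (mul_right_injective₀ hr)
    refine hinj ?_
    rw [map_zero, ← hz]
    clear hz
    induction z using TensorProduct.induction_on with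
    | zero => simp
    | tmul p q => simp
    | add p q hp hq => simp only [map_add, mul_add, hp, hq]
  rw [mul_assoc] at h3
  have h4 := hreg hb _ h3
  let σ' : R ⊗[k] A →ₐ[k] R ⊗[k] A := Algebra.TensorProduct.lift
    ((Algebra.TensorProduct.map (AlgHom.id k R) (HopfAlgebra.antipodeAlgHom k A)).comp (GLin.coactAlgHom k A R))
    Algebra.TensorProduct.includeRight (fun _ _ => Commute.all _ _)
  let σ : R ⊗[k] A →ₐ[k] R ⊗[k] A := Algebra.TensorProduct.lift
    (GLin.coactAlgHom k A R) Algebra.TensorProduct.includeRight (fun _ _ => Commute.all _ _)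
  have hσμ : ∀ f : R, σ' (HopfRep.Comod.coact (k := k) (A := A) f) = f ⊗ₜ[k] (1 : A) := by
    intro f
    have hco := LinearMap.congr_fun (HopfRep.Comod.coassoc (k := k) (A := A) (V := R)) f
    simp only [LinearMap.comp_apply, LinearEquiv.coe_coe] at hco
    have hcu := LinearMap.congr_fun (HopfRep.Comod.counit_comp (k := k) (A := A) (V := R)) f
    simp only [LinearMap.comp_apply, LinearMap.flip_apply, TensorProduct.mk_apply] at hcu
    let M : R ⊗[k] (A ⊗[k] A) →ₗ[k] R ⊗[k] A :=
      (LinearMap.mul' k A ∘ₗ (HopfAlgebraStruct.antipode k).rTensor A).lTensor R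
    have e1 : ∀ z : R ⊗[k] A, σ' z = M (TensorProduct.assoc k R A A
        ((HopfRep.Comod.coact (k := k) (A := A) (V := R)).rTensor A z)) := by
      intro z
      induction z using TensorProduct.induction_on with
      | zero => simp
      | tmul p q =>
        simp only [σ', Algebra.TensorProduct.lift_tmul, AlgHom.comp_apply, GLin.coactAlgHom_apply,
          LinearMap.rTensor_tmul, Algebra.TensorProduct.includeRight_apply]
        generalize HopfRep.Comod.coact (k := k) (A := A) p = w
        induction w using TensorProduct.induction_on with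
        | zero => simp
        | tmul r s => simp [M]
        | add p q hp hq => simp only [map_add, add_mul, add_tmul, hp, hq]
      | add p q hp hq => simp only [map_add, hp, hq]
    rw [e1, hco]
    have hid : ∀ a : A, LinearMap.mul' k A ((HopfAlgebraStruct.antipode k).rTensor A
        (CoalgebraStruct.comul (R := k) a)) = algebraMap k A (CoalgebraStruct.counit (R := k) a) :=
      HopfAlgebra.mul_antipode_rTensor_comul_apply
    simp only [M]
    rw [← LinearMap.lTensor_comp_apply]
    have h' := congrArg ((Algebra.linearMap k A).lTensor R) hcu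
    rw [← LinearMap.lTensor_comp_apply, LinearMap.lTensor_tmul, Algebra.linearMap_apply, map_one] at h'
    refine Eq.trans ?_ h'
    congr 2
    exact LinearMap.ext fun a => hid a
  have hσinj : Function.Injective σ' := by
    have hcomp : σ.comp σ' = AlgHom.id k _ := by
      refine Algebra.TensorProduct.ext (AlgHom.ext fun f => ?_) (AlgHom.ext fun q => by
        simp [σ, σ', GLin.IsCoactAlg.coact_one, Algebra.TensorProduct.one_def])
      have hco := LinearMap.congr_fun (HopfRep.Comod.coassoc (k := k) (A := A) (V := R)) f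
      simp only [LinearMap.comp_apply, LinearEquiv.coe_coe] at hco
      have hcu := LinearMap.congr_fun (HopfRep.Comod.counit_comp (k := k) (A := A) (V := R)) f
      simp only [LinearMap.comp_apply, LinearMap.flip_apply, TensorProduct.mk_apply] at hcu
      let M : R ⊗[k] (A ⊗[k] A) →ₗ[k] R ⊗[k] A :=
        (LinearMap.mul' k A ∘ₗ (HopfAlgebraStruct.antipode k).lTensor A).lTensor R
      have e1 : ∀ z : R ⊗[k] A, σ (Algebra.TensorProduct.map (AlgHom.id k R) (HopfAlgebra.antipodeAlgHom k A) z) =
          M (TensorProduct.assoc k R A A ((HopfRep.Comod.coact (k := k) (A := A) (V := R)).rTensor A z)) := by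
        intro z
        induction z using TensorProduct.induction_on with
        | zero => simp
        | tmul p q =>
          simp only [σ, Algebra.TensorProduct.map_tmul, Algebra.TensorProduct.lift_tmul,
            GLin.coactAlgHom_apply, AlgHom.id_apply, LinearMap.rTensor_tmul,
            Algebra.TensorProduct.includeRight_apply]
          generalize HopfRep.Comod.coact (k := k) (A := A) p = w
          induction w using TensorProduct.induction_on with
          | zero => simp
          | tmul r s => simp [M]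
          | add p q hp hq => simp only [map_add, add_mul, add_tmul, hp, hq]
        | add p q hp hq => simp only [map_add, hp, hq]
      have e2 : σ' (f ⊗ₜ[k] (1 : A)) = Algebra.TensorProduct.map (AlgHom.id k R)
          (HopfAlgebra.antipodeAlgHom k A) (HopfRep.Comod.coact (k := k) (A := A) f) := by
        simp [σ', ← Algebra.TensorProduct.one_def]
      simp only [AlgHom.comp_apply, Algebra.TensorProduct.includeLeft_apply, AlgHom.id_apply]
      rw [e2, e1, hco]
      simp only [M]
      rw [← LinearMap.lTensor_comp_apply]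
      have h' := congrArg ((Algebra.linearMap k A).lTensor R) hcu
      rw [← LinearMap.lTensor_comp_apply, LinearMap.lTensor_tmul, Algebra.linearMap_apply, map_one] at h'
      refine Eq.trans ?_ h'
      congr 2
      exact LinearMap.ext fun a => HopfAlgebra.mul_antipode_lTensor_comul_apply a
    exact Function.LeftInverse.injective (g := σ) fun z => AlgHom.congr_fun hcomp z
  have h5 := congrArg σ' h4
  rw [map_mul, hσμ, map_zero] at h5
  have h6 := hreg hb _ h5
  rw [← map_zero σ'] at h6
  exact sub_eq_zero.mp (hσinj h6)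

end Reductive

end Groth.Agent.H8OrbitOpen
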