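import Mathlib
import Groth.Prelude.Def_GLin
import Groth.Agent.Lib.H8OrbitOpen
import Groth.Agent.Lib.H8OrbitTop

/-!
# The dictionary between the orbit library and the affine GIT definitions
-/

universe u

open TensorProduct

noncomputable section

namespace Groth.Agent.H8Orbit

open H8Comod

variable {k : Type u} [Field k] [IsAlgClosed k] {A : Type u} [CommRing A] [HopfAlgebra k A]
  [Algebra.FiniteType k A]
  {R : Type u} [CommRing R] [Algebra k R] [HopfRep.Comod k A R] [GLin.IsCoactAlg k A R]

theorem inOrbitClosure_iff {x z : R →ₐ[k] k} : GLin.InOrbitClosure k A x z ↔ Cl A x z := cl_iff.symm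

theorem hasFiniteStab_iff {x : R →ₐ[k] k} : GLin.HasFiniteStab k A x ↔ StabFinite A x := by
  classical
  set I := GLin.stabIdeal k A x with hI
  have key : ∀ g : A →ₐ[k] k, I ≤ RingHom.ker g ↔ pt x (WithConv.toConv g) = x := by
    intro g
    rw [hI, GLin.stabIdeal, Ideal.map_le_iff_le_comap]
    constructor
    · intro h
      refine AlgHom.ext fun f => ?_
      have h' : g (orb x (f - algebraMap k R (x f))) = 0 :=
        h (show f - algebraMap k R (x f) ∈ RingHom.ker x by simp [RingHom.mem_ker])
      show g (orb x f) = x f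
      simpa [sub_eq_zero] using h'
    · intro h f hf
      show g (orb x f) = 0
      exact (AlgHom.congr_fun h f).trans hf
  rw [stabFinite_iff]
  have hstab : {g : WithConv (A →ₐ[k] k) | pt x g = x} =
      WithConv.ofConv ⁻¹' {g : A →ₐ[k] k | I ≤ RingHom.ker g} := by
    ext g
    rw [Set.mem_preimage, Set.mem_setOf_eq, Set.mem_setOf_eq, key, WithConv.toConv_ofConv]
  rw [hstab, GLin.HasFiniteStab, ← hI]
  let Φ : (A ⧸ I →ₐ[k] k) → (A →ₐ[k] k) := fun h => h.comp (Ideal.Quotient.mkₐ k I)
  have hΦ : Set.range Φ = {g : A →ₐ[k] k | I ≤ RingHom.ker g} := by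
    ext g
    constructor
    · rintro ⟨h, rfl⟩ a ha
      show h (Ideal.Quotient.mk I a) = 0
      rw [Ideal.Quotient.eq_zero_iff_mem.mpr ha, map_zero]
    · exact fun hg => ⟨Ideal.Quotient.liftₐ I g hg, AlgHom.ext fun a => rfl⟩
  have hinj : Function.Injective Φ := fun a b h => by
    refine AlgHom.ext fun q => ?_
    obtain ⟨a', rfl⟩ := Ideal.Quotient.mk_surjective q
    exact AlgHom.congr_fun h a'
  constructor
  · intro hfin
    haveI : IsArtinianRing (A ⧸ I) := IsArtinianRing.of_finite k (A ⧸ I)
    have : Finite (A ⧸ I →ₐ[k] k) := by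
      refine Finite.of_injective
        (fun h => (⟨RingHom.ker h, RingHom.ker_isPrime _⟩ : PrimeSpectrum (A ⧸ I))) fun a b h => ?_
      refine AlgHom.ext fun q => ?_
      have hm : q - algebraMap k (A ⧸ I) (a q) ∈ RingHom.ker a := by simp [RingHom.mem_ker]
      rw [show RingHom.ker a = RingHom.ker b from congrArg PrimeSpectrum.asIdeal h] at hm
      have hm' : b q - a q = 0 := by simpa [RingHom.mem_ker] using hm
      exact (sub_eq_zero.mp hm').symm
    exact (hΦ ▸ Set.finite_range Φ).preimage WithConv.ofConv_injective.injOn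
  · intro hfin
    have h' : {g : A →ₐ[k] k | I ≤ RingHom.ker g}.Finite :=
      hfin.of_preimage fun g => ⟨WithConv.toConv g, WithConv.ofConv_toConv g⟩
    haveI : Finite (A ⧸ I →ₐ[k] k) :=
      (Set.finite_range_iff hinj).mp (hΦ.symm ▸ h')
    haveI : Algebra.FiniteType k (A ⧸ I) :=
      Algebra.FiniteType.of_surjective (Ideal.Quotient.mkₐ k I) (Ideal.Quotient.mkₐ_surjective k I)
    haveI := H8AffDim.dim_zero_of_finite_points (k := k) (A := A ⧸ I)
    haveI : IsNoetherianRing (A ⧸ I) := Algebra.FiniteType.isNoetherianRing k _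
    haveI : IsArtinianRing (A ⧸ I) := isArtinianRing_iff_isNoetherianRing_krullDimLE_zero.mpr ⟨inferInstance, inferInstance⟩
    exact (Module.finite_iff_isArtinianRing k (A ⧸ I)).mpr inferInstance

variable [Algebra.FiniteType k R]

theorem isStablePt_iff {x : R →ₐ[k] k} :
    GLin.IsStablePt k A x ↔ IsClosedOrbit A x ∧ StabFinite A x :=
  and_congr (H8OrbitTop.isClosedOrbit_iff x) hasFiniteStab_iff

end Groth.Agent.H8Orbit

namespace Groth.Agent.H8Orbit

open MvPolynomial

variable {k : Type u} [Field k] {A : Type u} [CommRing A] [HopfAlgebra k A]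
  {ι : Type u} [Fintype ι] [HopfRep.Comod k A (MvPolynomial ι k)] [GLin.IsCoactAlg k A (MvPolynomial ι k)]

theorem aeval_smul_X {G : MvPolynomial ι k} {d : ℕ} (hG : G.IsHomogeneous d) (t : k) :
    aeval (fun i => t • (X i : MvPolynomial ι k)) G = t ^ d • G := by
  conv_lhs => rw [as_sum G]
  conv_rhs => rw [as_sum G, Finset.smul_sum]
  rw [map_sum]
  refine Finset.sum_congr rfl fun e he => ?_
  have hdeg : ∑ i, e i = d := by
    have h := hG (mem_support_iff.mp he)
    rw [Finsupp.weight_apply, Finsupp.sum_fintype _ _ (fun i => by simp)] at h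
    simpa using h
  rw [aeval_monomial, monomial_eq, Finsupp.prod_fintype _ _ (fun i => by simp),
    Finsupp.prod_fintype _ _ (fun i => by simp)]
  simp only [smul_pow, Finset.prod_smul, Finset.prod_pow_eq_pow_sum, hdeg]
  rw [algebraMap_eq, mul_smul_comm]

/-- For a linear action homogeneous components of invariants are invariant. -/
theorem homogeneousComponent_fixed [Infinite k] (hlin : GLin.IsLinear k A ι)
    {F : MvPolynomial ι k} (hF : F ∈ GLin.invariants k A (MvPolynomial ι k)) (d : ℕ) :
    homogeneousComponent d F ∈ GLin.invariants k A (MvPolynomial ι k) := by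
  classical
  let D : MvPolynomial ι k →ₗ[k] MvPolynomial ι k ⊗[k] A :=
    HopfRep.Comod.coact (k := k) (A := A) - (TensorProduct.mk k _ A).flip 1
  let s : k → (MvPolynomial ι k →ₐ[k] MvPolynomial ι k) := fun t => aeval fun i => t • (X i : MvPolynomial ι k)
  have hs : ∀ t, (GLin.coactAlgHom k A (MvPolynomial ι k)).comp (s t) =
      (Algebra.TensorProduct.map (s t) (AlgHom.id k A)).comp (GLin.coactAlgHom k A (MvPolynomial ι k)) := by
    intro t
    refine MvPolynomial.algHom_ext fun i => ?_
    obtain ⟨m, hm⟩ := hlin i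
    simp [s, AlgHom.comp_apply, GLin.coactAlgHom_apply, hm, Finset.smul_sum, TensorProduct.smul_tmul']
  have hD : ∀ t, D (s t F) = 0 := by
    intro t
    have h := AlgHom.congr_fun (hs t) F
    simp only [AlgHom.comp_apply, GLin.coactAlgHom_apply] at h
    rw [show HopfRep.Comod.coact (k := k) (A := A) F = F ⊗ₜ[k] (1 : A) from hF, Algebra.TensorProduct.map_tmul, AlgHom.id_apply] at h
    simp [D, h]
  have hsum : ∀ t : k, s t F = ∑ e ∈ Finset.range (F.totalDegree + 1), t ^ e • homogeneousComponent e F := by
    intro t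
    conv_lhs => rw [← sum_homogeneousComponent (φ := F), map_sum]
    exact Finset.sum_congr rfl fun e _ => aeval_smul_X (homogeneousComponent_isHomogeneous e F) t
  suffices hd : D (homogeneousComponent d F) = 0 by
    show HopfRep.Comod.coact (k := k) (A := A) _ = _ ⊗ₜ[k] (1 : A)
    simpa [D, sub_eq_zero] using hd
  by_cases hdr : d ∈ Finset.range (F.totalDegree + 1)
  swap
  · rw [homogeneousComponent_eq_zero d F (by simpa [Nat.lt_succ_iff] using hdr), map_zero]
  refine (Module.forall_dual_apply_eq_zero_iff k _).mp fun φ => ?_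
  let p : Polynomial k := ∑ e ∈ Finset.range (F.totalDegree + 1),
    Polynomial.C (φ (D (homogeneousComponent e F))) * Polynomial.X ^ e
  have hp : p = 0 := Polynomial.funext fun t => by
    have h := congrArg φ (hD t)
    rw [hsum t, map_zero] at h
    simp only [map_sum, map_smul, smul_eq_mul] at h
    simp only [p, Polynomial.eval_finsetSum, Polynomial.eval_mul, Polynomial.eval_C, Polynomial.eval_pow,
      Polynomial.eval_X, Polynomial.eval_zero]
    rw [← h]
    exact Finset.sum_congr rfl fun e _ => mul_comm _ _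
  have h := congrArg (Polynomial.coeff · d) hp
  simpa [p, Polynomial.finsetSum_coeff, hdr] using h

theorem orb_zero (hlin : GLin.IsLinear k A ι) (F : MvPolynomial ι k) :
    orb (A := A) (GLin.vecPt k ι (fun _ => (0 : k))) F = algebraMap k A (GLin.vecPt k ι (fun _ => (0 : k)) F) := by
  refine AlgHom.congr_fun (MvPolynomial.algHom_ext (f := orb (A := A) (GLin.vecPt k ι (fun _ => (0 : k))))
    (g := (Algebra.ofId k A).comp (GLin.vecPt k ι (fun _ => (0 : k)))) fun i => ?_) F
  obtain ⟨m, hm⟩ := hlin i
  simp [orb, hm]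

end Groth.Agent.H8Orbit
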