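import Mathlib
import Groth.Prelude.Def_SixF1
import Groth.Agent.Lib.H5RPlus

/-! The composition morphism of bounded below derived functors is an isomorphism. -/

set_option autoImplicit false
universe w₁ w₂ w₃ v₁ v₂ v₃ u₁ u₂ u₃
open CategoryTheory Category Limits

noncomputable section

namespace Groth.Agent.H8RPlusDescIso

variable {A : Type u₁} [Category.{v₁} A] [Abelian A]
  {B : Type u₂} [Category.{v₂} B] [Abelian B]
  {C : Type u₃} [Category.{v₃} C] [Abelian C]

lemma isIso_plusNatTrans {F G : A ⥤ B} [F.Additive] [G.Additive] (α : F ⟶ G) [IsIso α] :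
    IsIso (EtSix.plusNatTrans α) := by
  have h : IsIso (Functor.whiskerLeft (HomotopyCategory.Plus.ι A) (NatTrans.mapHomotopyCategory α (ComplexShape.up ℤ))) := by
    haveI : IsIso (NatTrans.mapHomotopyCategory α (ComplexShape.up ℤ)) := by
      refine ⟨NatTrans.mapHomotopyCategory (inv α) (ComplexShape.up ℤ), ?_, ?_⟩ <;>
        simp [← NatTrans.mapHomotopyCategory_comp]
    infer_instance
  let FF := (HomotopyCategory.plus B).fullyFaithfulι.whiskeringRight (HomotopyCategory.Plus A)
  haveI := FF.full
  haveI := FF.faithful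
  haveI : IsIso (((Functor.whiskeringRight (HomotopyCategory.Plus A) _ _).obj (HomotopyCategory.plus B).ι).map
      (EtSix.plusNatTrans α)) := by
    rw [EtSix.plusNatTrans, FF.map_preimage]
    exact h
  exact isIso_of_fully_faithful ((Functor.whiskeringRight (HomotopyCategory.Plus A) _ _).obj (HomotopyCategory.plus B).ι) _

variable [HasDerivedCategory.{w₁} A] [HasDerivedCategory.{w₂} B] [HasDerivedCategory.{w₃} C]
  [EnoughInjectives A] [EnoughInjectives B]

theorem isIso_rPlusDesc₂ {F : A ⥤ B} {G : B ⥤ C} {H : A ⥤ C} [F.Additive] [G.Additive] [H.Additive]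
    (θ : H ⟶ F ⋙ G) [IsIso θ] (hF : ∀ I : A, Injective I → Injective (F.obj I)) :
    IsIso (EtSix.rPlusDesc₂ θ) := by
  let J := (InjectiveObject.ι A).mapHomotopyCategoryPlus
  haveI := isIso_plusNatTrans θ
  have key : ∀ X : HomotopyCategory.Plus (InjectiveObject A),
      IsIso ((EtSix.rPlusDesc₂ θ).app ((DerivedCategory.Plus.Qh).obj (J.obj X))) := by
    intro X
    haveI : IsIso (G.rightDerivedFunctorPlusUnit.app (F.mapHomotopyCategoryPlus.obj (J.obj X))) := by
      haveI : ∀ n : ℤ, Injective ((F.mapHomotopyCategoryPlus.obj (J.obj X)).obj.as.X n) := fun n =>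
        hF _ (X.obj.as.X n).property
      infer_instance
    haveI : IsIso (F.rightDerivedFunctorPlusUnit.app (J.obj X)) := inferInstance
    haveI : IsIso ((EtSix.rPlusUnit₂ θ).app (J.obj X)) := by
      unfold EtSix.rPlusUnit₂
      simp only [NatTrans.comp_app, Functor.whiskerRight_app, Functor.whiskerLeft_app, Functor.associator_hom_app,
        Functor.associator_inv_app]
      infer_instance
    haveI : IsIso (H.rightDerivedFunctorPlusUnit.app (J.obj X)) := inferInstance
    have h := H.rightDerivedFunctorPlus.rightDerived_fac_app H.rightDerivedFunctorPlusUnit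
      (HomotopyCategory.Plus.quasiIso A) (F.rightDerivedFunctorPlus ⋙ G.rightDerivedFunctorPlus)
      (EtSix.rPlusUnit₂ θ) (J.obj X)
    exact IsIso.of_isIso_fac_left h
  haveI : ∀ K, IsIso ((EtSix.rPlusDesc₂ θ).app K) := fun K => by
    exact (NatTrans.isIso_app_iff_of_iso _ ((H5RPlus.eqv A).counitIso.app K)).1
      (key ((H5RPlus.eqv A).inverse.obj K))
  exact NatIso.isIso_of_isIso_app _

end Groth.Agent.H8RPlusDescIso
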