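import Mathlib
import Groth.Agent.Lib.RegularLocalSerre

/-!
# Matrix coefficients of flat Hopf algebras over regular rings of dimension at most two
-/

set_option autoImplicit false
set_option linter.all false

universe u

open TensorProduct CategoryTheory

namespace Groth.Agent.H8ReflexRep

section Dim

variable {R : Type u} [CommRing R]

/-- Over a regular ring of dimension at most two, projective dimensions are at most two. -/
theorem pdLT_three [IsRegularRing R] (hdim : ringKrullDim R ≤ 2) (M : Type u) [AddCommGroup M] [Module R M]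
    [Module.Finite R M] : RegLocal.PdLT R M 3 := by
  refine ((ModuleCat.of R M).hasProjectiveDimensionLE_iff_forall_maximalSpectrum 2).mpr fun m => ?_
  let L := Localization.AtPrime m.1
  haveI : IsRegularLocalRing L := IsRegularRing.isRegularLocalRing_localization m.1
  have hd : (IsLocalRing.maximalIdeal L).spanFinrank ≤ 2 := by
    have h1 : ((IsLocalRing.maximalIdeal L).spanFinrank : WithBot ℕ∞) = ringKrullDim L :=
      IsRegularLocalRing.spanFinrank_maximalIdeal
    have h2 : ringKrullDim L ≤ 2 := ((IsLocalization.AtPrime.ringKrullDim_eq_height m.1 L).le.trans Ideal.height_le_ringKrullDim_of_isPrime).trans hdim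
    rw [← h1] at h2
    exact_mod_cast h2
  exact RegLocal.pdLT_mono (Nat.add_le_add_right hd 1)
    (RegLocal.pdLT_of_regular (R := L) _ rfl ((ModuleCat.of R M).localizedModule m.1.primeCompl))

/-- Over a regular ring of dimension at most two, kernels between projectives are projective. -/
theorem projective_ker [IsRegularRing R] (hdim : ringKrullDim R ≤ 2) {F G : Type u} [AddCommGroup F] [Module R F]
    [AddCommGroup G] [Module R G] [Module.Projective R F] [Module.Projective R G] [Module.Finite R G] (Φ : F →ₗ[R] G) :
    Module.Projective R (LinearMap.ker Φ) := by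
  have h0 : RegLocal.PdLT R (G ⧸ LinearMap.range Φ) 3 := pdLT_three hdim _
  have h1 : RegLocal.PdLT R (LinearMap.ker (LinearMap.range Φ).mkQ) 2 :=
    (RegLocal.pdLT_ker_iff (LinearMap.range Φ).mkQ (Submodule.mkQ_surjective _) 1).mp h0
  have e : LinearMap.ker (LinearMap.range Φ).mkQ = LinearMap.range Φ := Submodule.ker_mkQ _
  rw [e] at h1
  have h2 : RegLocal.PdLT R (LinearMap.ker Φ.rangeRestrict) 1 :=
    (RegLocal.pdLT_ker_iff Φ.rangeRestrict Φ.surjective_rangeRestrict 0).mp h1
  have e2 : LinearMap.ker Φ.rangeRestrict = LinearMap.ker Φ := LinearMap.ker_rangeRestrict Φ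
  rw [e2] at h2
  exact RegLocal.pdLT_one_iff.mp h2

set_option maxHeartbeats 1000000 in
/-- Over a regular ring of dimension at most two, duals of finite modules are projective. -/
theorem projective_dual [IsRegularRing R] (hdim : ringKrullDim R ≤ 2) (M : Type u) [AddCommGroup M] [Module R M]
    [Module.Finite R M] : Module.Projective R (M →ₗ[R] R) := by
  obtain ⟨n, g, hg⟩ := Module.Finite.exists_fin' R M
  obtain ⟨m, f, hf⟩ := Module.Finite.exists_fin' R (LinearMap.ker g)
  let φ : (Fin m → R) →ₗ[R] (Fin n → R) := (LinearMap.ker g).subtype ∘ₗ f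
  let Φ : ((Fin n → R) →ₗ[R] R) →ₗ[R] ((Fin m → R) →ₗ[R] R) := LinearMap.lcomp R R φ
  haveI : Module.Finite R ((Fin m → R) →ₗ[R] R) := Module.Finite.linearMap R R (Fin m → R) R
  have h2 : Module.Projective R (LinearMap.ker Φ) := projective_ker hdim Φ
  let ι : (M →ₗ[R] R) →ₗ[R] LinearMap.ker Φ := (LinearMap.lcomp R R g).codRestrict _ fun ξ =>
    LinearMap.mem_ker.mpr (LinearMap.ext fun x => by
      show ξ (g (f x).1) = 0
      rw [LinearMap.mem_ker.mp (f x).2, map_zero])
  refine Module.Projective.of_equiv (LinearEquiv.ofBijective ι ⟨fun a b h => ?_, fun y => ?_⟩).symm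
  · exact LinearMap.ext fun x => by
      obtain ⟨y, rfl⟩ := hg x
      exact DFunLike.congr_fun (congrArg Subtype.val h) y
  · let e := g.quotKerEquivOfSurjective hg
    have hy : LinearMap.ker g ≤ LinearMap.ker y.1 := fun x hx => by
      obtain ⟨z, hz⟩ := hf ⟨x, hx⟩
      have := DFunLike.congr_fun (LinearMap.mem_ker.mp y.2) z
      rw [show x = φ z from (congrArg Subtype.val hz).symm]
      exact LinearMap.mem_ker.mpr this
    refine ⟨(LinearMap.ker g).liftQ y.1 hy ∘ₗ e.symm.toLinearMap, Subtype.ext (LinearMap.ext fun x => ?_)⟩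
    show (LinearMap.ker g).liftQ y.1 hy (e.symm (g x)) = y.1 x
    rw [LinearMap.quotKerEquivOfSurjective_symm_apply]
    rfl

end Dim

section Eval

variable {R : Type u} [CommRing R] {V B : Type u} [AddCommGroup V] [Module R V] [AddCommGroup B] [Module R B]

lemma dualTensorHom_injective [Module.Finite R V] [Module.Flat R B] :
    Function.Injective (dualTensorHom R V B) := by
  obtain ⟨n, g, hg⟩ := Module.Finite.exists_fin' R V
  let ev : (V →ₗ[R] R) →ₗ[R] (Fin n → R) := LinearMap.pi fun i => LinearMap.applyₗ (g (Pi.single i 1))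
  have hev : Function.Injective ev := fun a b h => LinearMap.ext fun x => by
    obtain ⟨y, rfl⟩ := hg x
    rw [pi_eq_sum_univ y]
    simp only [map_sum, map_smul]
    refine Finset.sum_congr rfl fun i _ => ?_
    have e : (fun j => if i = j then (1 : R) else 0) = Pi.single i 1 := funext fun j => by
      simp [Pi.single_apply, eq_comm]
    rw [e]
    exact congrArg _ (congrFun h i)
  rw [injective_iff_map_eq_zero]
  intro t ht
  refine Module.Flat.rTensor_preserves_injective_linearMap (M := B) ev hev ?_
  rw [map_zero]
  refine (TensorProduct.piScalarRight R R B (Fin n)).injective.comp (TensorProduct.comm R (Fin n → R) B).injective ?_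
  simp only [Function.comp_apply, map_zero]
  funext i
  have key : ∀ t : (V →ₗ[R] R) ⊗[R] B, TensorProduct.piScalarRight R R B (Fin n)
      (TensorProduct.comm R (Fin n → R) B (ev.rTensor B t)) i = dualTensorHom R V B t (g (Pi.single i 1)) := fun t => by
    induction t using TensorProduct.induction_on with
    | zero => simp
    | add x y hx hy => simp only [map_add, Pi.add_apply, LinearMap.add_apply, hx, hy]
    | tmul ξ b => simp [ev]
  rw [key, ht]
  rfl

lemma dualTensorHom_surjective [Module.FinitePresentation R V] [Module.Flat R B] :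
    Function.Surjective (dualTensorHom R V B) := by
  intro f
  obtain ⟨k, h, y, rfl⟩ := Module.Flat.exists_factorization_of_isFinitelyPresented f
  refine ⟨∑ i, (Finsupp.lapply i ∘ₗ h) ⊗ₜ[R] y (Finsupp.single i 1), LinearMap.ext fun v => ?_⟩
  simp only [map_sum, LinearMap.coe_sum, Finset.sum_apply, dualTensorHom_apply, LinearMap.comp_apply,
    Finsupp.lapply_apply]
  conv_rhs => rw [← Finsupp.univ_sum_single (h v), map_sum]
  exact Finset.sum_congr rfl fun i _ => by rw [← map_smul, Finsupp.smul_single', mul_one]

/-- Rewriting a Hom as a tensor with the dual. -/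
lemma exists_coords [Module.FinitePresentation R V] [Module.Flat R B] {n : ℕ} {ξ : Fin n → (V →ₗ[R] R)}
    (hξ : Submodule.span R (Set.range ξ) = ⊤) (f : V →ₗ[R] B) :
    ∃ b : Fin n → B, ∀ v, f v = ∑ j, ξ j v • b j := by
  obtain ⟨t, rfl⟩ := dualTensorHom_surjective f
  induction t using TensorProduct.induction_on with
  | zero => exact ⟨0, fun v => by simp⟩
  | add x y hx hy =>
    obtain ⟨b, hb⟩ := hx
    obtain ⟨c, hc⟩ := hy
    exact ⟨b + c, fun v => by simp [hb, hc, smul_add, Finset.sum_add_distrib]⟩
  | tmul z b =>
    obtain ⟨c, hc⟩ := (Submodule.mem_span_range_iff_exists_fun R).mp (hξ ▸ Submodule.mem_top : z ∈ Submodule.span R (Set.range ξ))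
    exact ⟨fun j => c j • b, fun v => by
      rw [dualTensorHom_apply, ← hc]
      simp [Finset.sum_smul, smul_smul, mul_comm]⟩

/-- Relations among the generators of the dual. -/
lemma coords_relation [Module.Finite R V] [Module.Flat R B] {n : ℕ} {ξ : Fin n → (V →ₗ[R] R)}
    {π : Fin n → ((V →ₗ[R] R) →ₗ[R] R)} {X : Fin n → B} (h : ∀ v, ∑ l, ξ l v • X l = 0) (j : Fin n) :
    ∑ l, π j (ξ l) • X l = 0 := by
  have h0 : (∑ l, ξ l ⊗ₜ[R] X l : (V →ₗ[R] R) ⊗[R] B) = 0 :=
    dualTensorHom_injective (LinearMap.ext fun v => by simpa using h v)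
  have := congrArg ((TensorProduct.lid R B).toLinearMap ∘ₗ (π j).rTensor B) h0
  simpa using this

end Eval

section Hopf

variable {R : Type u} [CommRing R] [IsNoetherianRing R] {A : Type u} [CommRing A] [HopfAlgebra R A] [Module.Flat R A]

/-- Finite sets lie in finite subcomodules. -/
theorem exists_subcomodule (F : Finset A) : ∃ (V : Submodule R A) (ρ : V →ₗ[R] V ⊗[R] A), Module.Finite R V ∧
    (↑F : Set A) ⊆ V ∧ ∀ v : V, V.subtype.rTensor A (ρ v) = CoalgebraStruct.comul (R := R) (v : A) := by
  classical
  choose s hs using fun a : A => TensorProduct.exists_finset (CoalgebraStruct.comul (R := R) a)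
  let W : Submodule R A := Submodule.span R ↑(F.biUnion fun a => (s a).image Prod.fst)
  let q := W.mkQ.rTensor A ∘ₗ CoalgebraStruct.comul (R := R) (A := A)
  let V := LinearMap.ker q
  have hW : Module.Finite R W := Module.Finite.span_of_finite R (Finset.finite_toSet _)
  have hVW : V ≤ W := fun a ha => by
    rw [← Submodule.Quotient.mk_eq_zero]
    have h : ∀ z : A ⊗[R] A, W.mkQ (TensorProduct.rid R A ((CoalgebraStruct.counit (R := R) (A := A)).lTensor A z)) =
        TensorProduct.rid R (A ⧸ W) ((CoalgebraStruct.counit (R := R) (A := A)).lTensor _ (W.mkQ.rTensor A z)) := fun z => by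
      induction z using TensorProduct.induction_on with
      | zero => simp
      | add x y hx hy => simp only [map_add, hx, hy]
      | tmul x y => simp
    have h2 := h (CoalgebraStruct.comul (R := R) a)
    rw [Coalgebra.lTensor_counit_comul, show W.mkQ.rTensor A (CoalgebraStruct.comul (R := R) a) = 0 from ha] at h2
    simpa using h2
  have hF : (↑F : Set A) ⊆ V := fun a ha => by
    show W.mkQ.rTensor A (CoalgebraStruct.comul (R := R) a) = 0
    rw [hs a, map_sum]
    refine Finset.sum_eq_zero fun x hx => ?_
    rw [LinearMap.rTensor_tmul, Submodule.mkQ_apply, (Submodule.Quotient.mk_eq_zero W).mpr (Submodule.subset_span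
      (Finset.mem_biUnion.mpr ⟨a, ha, Finset.mem_image_of_mem _ hx⟩)), zero_tmul]
  have hfin : Module.Finite R V :=
    Module.Finite.of_injective (Submodule.inclusion hVW) (Submodule.inclusion_injective hVW)
  have hmem : ∀ v : V, CoalgebraStruct.comul (R := R) (v : A) ∈ LinearMap.range (V.subtype.rTensor A) := by
    intro v
    have hex : Function.Exact (V.subtype.rTensor A) (q.rTensor A) :=
      Module.Flat.rTensor_exact A (LinearMap.exact_subtype_ker_map q)
    refine (hex _).mp ?_
    show (W.mkQ.rTensor A ∘ₗ _).rTensor A _ = 0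
    rw [LinearMap.rTensor_comp, LinearMap.comp_apply]
    have h := congrArg (TensorProduct.assoc R A A A).symm (Coalgebra.coassoc_apply (R := R) (v : A))
    rw [LinearEquiv.symm_apply_apply] at h
    rw [h]
    have k : ∀ z : A ⊗[R] (A ⊗[R] A), (W.mkQ.rTensor A).rTensor A ((TensorProduct.assoc R A A A).symm z) =
        (TensorProduct.assoc R (A ⧸ W) A A).symm (W.mkQ.rTensor (A ⊗[R] A) z) := fun z => by
      induction z using TensorProduct.induction_on with
      | zero => simp
      | add x y hx hy => simp only [map_add, hx, hy]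
      | tmul x y =>
        induction y using TensorProduct.induction_on with
        | zero => simp
        | add a b ha hb => simp only [tmul_add, map_add, ha, hb]
        | tmul a b => simp
    rw [k, ← LinearMap.comp_apply, ← LinearMap.comp_apply, LinearMap.rTensor_comp_lTensor,
      ← LinearMap.lTensor_comp_rTensor, LinearMap.comp_apply, LinearMap.comp_apply,
      show W.mkQ.rTensor A (CoalgebraStruct.comul (R := R) (v : A)) = 0 from v.2]
    simp
  have hinj : Function.Injective (V.subtype.rTensor A) :=
    Module.Flat.rTensor_preserves_injective_linearMap _ V.injective_subtype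
  let e := LinearEquiv.ofInjective _ hinj
  refine ⟨V, e.symm.toLinearMap ∘ₗ ((CoalgebraStruct.comul (R := R)).comp V.subtype).codRestrict _ hmem, hfin, hF,
    fun v => ?_⟩
  have := congrArg Subtype.val (e.apply_symm_apply ⟨_, hmem v⟩)
  exact this

variable [IsRegularRing R]

theorem result (hdim : ringKrullDim R ≤ 2) (F : Finset A) :
    ∃ (d : ℕ) (a : Matrix (Fin d) (Fin d) A),
      (∀ i j, CoalgebraStruct.comul (R := R) (a i j) = ∑ l, a i l ⊗ₜ[R] a l j) ∧
      (∀ i j, CoalgebraStruct.counit (R := R) (a i j) = if i = j then 1 else 0) ∧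
      ∃ u : A, u * a.det = 1 ∧ (↑F : Set A) ⊆ Algebra.adjoin R (Set.range (fun p : Fin d × Fin d => a p.1 p.2) ∪ {u}) := by
  classical
  obtain ⟨V, ρ, hV, hF, hρ⟩ := exists_subcomodule (R := R) F
  haveI : Module.FinitePresentation R V := Module.finitePresentation_of_finite R V
  haveI := projective_dual hdim V
  haveI : Module.Finite R (V →ₗ[R] R) := by
    obtain ⟨p, w, hw⟩ := Module.Finite.exists_fin' R V
    exact Module.Finite.of_injective (LinearMap.lcomp R R w) fun a b h => LinearMap.ext fun x => by
      obtain ⟨y, rfl⟩ := hw x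
      exact DFunLike.congr_fun h y
  obtain ⟨n, g, hg⟩ := Module.Finite.exists_fin' R (V →ₗ[R] R)
  obtain ⟨s, hs⟩ := Module.projective_lifting_property g LinearMap.id hg
  let ξ : Fin n → (V →ₗ[R] R) := fun i => g (Pi.single i 1)
  let π : Fin n → ((V →ₗ[R] R) →ₗ[R] R) := fun i => LinearMap.proj i ∘ₗ s
  have hexp : ∀ z, z = ∑ i, π i z • ξ i := fun z => by
    conv_lhs => rw [← show g (s z) = z from DFunLike.congr_fun hs z, pi_eq_sum_univ (s z), map_sum]
    refine Finset.sum_congr rfl fun i _ => ?_
    rw [map_smul]
    congr 2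
    funext j
    simp [Pi.single_apply, eq_comm]
  have hspan : Submodule.span R (Set.range ξ) = ⊤ := eq_top_iff.mpr fun z _ => by
    rw [hexp z]
    exact Submodule.sum_mem _ fun i _ => Submodule.smul_mem _ _ (Submodule.subset_span ⟨i, rfl⟩)
  let c : (V →ₗ[R] R) → (V →ₗ[R] A) := fun z => (TensorProduct.lid R A).toLinearMap ∘ₗ z.rTensor A ∘ₗ ρ
  choose m₀ hm₀ using fun i => exists_coords hspan (c (ξ i))
  let e : Fin n → Fin n → R := fun l j => π l (ξ j)
  have he : ∀ l j, ∑ p, e l p * e p j = e l j := fun l j => by
    conv_rhs => rw [show e l j = π l (ξ j) from rfl, hexp (ξ j), map_sum]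
    refine Finset.sum_congr rfl fun p _ => ?_
    simp [e, mul_comm]
  let m : Fin n → Fin n → A := fun i l => ∑ j, e l j • m₀ i j
  have hξe : ∀ v j, ξ j v = ∑ l, e l j * ξ l v := fun v j => by
    conv_lhs => rw [hexp (ξ j)]
    simp [e]
  have hm : ∀ i v, c (ξ i) v = ∑ l, ξ l v • m i l := fun i v => by
    rw [hm₀ i v]
    simp only [m, Finset.smul_sum, smul_smul]
    rw [Finset.sum_comm]
    refine Finset.sum_congr rfl fun j _ => ?_
    rw [← Finset.sum_smul]
    congr 1
    rw [hξe v j]
    exact Finset.sum_congr rfl fun l _ => mul_comm _ _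
  have hem : ∀ i l, ∑ j, e l j • m i j = m i l := fun i l => by
    simp only [m, Finset.smul_sum, smul_smul]
    rw [Finset.sum_comm]
    exact Finset.sum_congr rfl fun j _ => by rw [← Finset.sum_smul, he]
  have hcomul : ∀ i l, CoalgebraStruct.comul (R := R) (m i l) = ∑ j, m i j ⊗ₜ[R] m j l := by
    intro i l
    let X : Fin n → A ⊗[R] A := fun l => CoalgebraStruct.comul (R := R) (m i l) - ∑ j, m i j ⊗ₜ[R] m j l
    have hX : ∀ v, ∑ l, ξ l v • X l = 0 := by
      intro v
      have lhs : CoalgebraStruct.comul (R := R) (c (ξ i) v) =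
          (TensorProduct.lid R (A ⊗[R] A)) ((ξ i).rTensor (A ⊗[R] A)
            ((CoalgebraStruct.comul (R := R)).lTensor V (ρ v))) := by
        show CoalgebraStruct.comul (R := R) (TensorProduct.lid R A ((ξ i).rTensor A (ρ v))) = _
        generalize ρ v = z
        induction z using TensorProduct.induction_on with
        | zero => simp
        | add x y hx hy => simp only [map_add, hx, hy]
        | tmul x y => simp
      have hco : (CoalgebraStruct.comul (R := R)).lTensor V (ρ v) = TensorProduct.assoc R V A A (ρ.rTensor A (ρ v)) := by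
        refine Module.Flat.rTensor_preserves_injective_linearMap (M := A ⊗[R] A) V.subtype V.injective_subtype ?_
        have h1 : ∀ z : V ⊗[R] A, V.subtype.rTensor (A ⊗[R] A) ((CoalgebraStruct.comul (R := R)).lTensor V z) =
            (CoalgebraStruct.comul (R := R)).lTensor A (V.subtype.rTensor A z) := fun z => by
          induction z using TensorProduct.induction_on with
          | zero => simp
          | add x y hx hy => simp only [map_add, hx, hy]
          | tmul x y => simp
        have h2 : ∀ z : V ⊗[R] A, V.subtype.rTensor (A ⊗[R] A) (TensorProduct.assoc R V A A (ρ.rTensor A z)) =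
            TensorProduct.assoc R A A A ((CoalgebraStruct.comul (R := R)).rTensor A (V.subtype.rTensor A z)) := fun z => by
          induction z using TensorProduct.induction_on with
          | zero => simp
          | add x y hx hy => simp only [map_add, hx, hy]
          | tmul x y =>
            simp only [LinearMap.rTensor_tmul, Submodule.coe_subtype, ← hρ x]
            generalize ρ x = w
            induction w using TensorProduct.induction_on with
            | zero => simp
            | add a b ha hb => simp only [map_add, add_tmul, ha, hb]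
            | tmul a b => simp
        rw [h1, h2, hρ, Coalgebra.coassoc_apply]
      have rhs : ∀ z : V ⊗[R] A, TensorProduct.lid R (A ⊗[R] A) ((ξ i).rTensor (A ⊗[R] A)
          (TensorProduct.assoc R V A A (ρ.rTensor A z))) =
          ∑ j, m i j ⊗ₜ[R] TensorProduct.lid R A ((ξ j).rTensor A z) := fun z => by
        induction z using TensorProduct.induction_on with
        | zero => simp
        | add x y hx hy => simp only [map_add, hx, hy, tmul_add, Finset.sum_add_distrib]
        | tmul x y =>
          have : ∀ w : V ⊗[R] A, TensorProduct.lid R (A ⊗[R] A) ((ξ i).rTensor (A ⊗[R] A)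
              (TensorProduct.assoc R V A A (w ⊗ₜ[R] y))) = TensorProduct.lid R A ((ξ i).rTensor A w) ⊗ₜ[R] y := fun w => by
            induction w using TensorProduct.induction_on with
            | zero => simp
            | add a b ha hb => simp only [add_tmul, map_add, ha, hb]
            | tmul a b => simp [smul_tmul']
          rw [LinearMap.rTensor_tmul, this, show TensorProduct.lid R A ((ξ i).rTensor A (ρ x)) = c (ξ i) x from rfl, hm i x,
            sum_tmul]
          refine Finset.sum_congr rfl fun j _ => ?_
          simp [smul_tmul]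
      have h := lhs
      rw [hco, rhs, hm i v, map_sum] at h
      simp only [map_smul] at h
      simp only [X, smul_sub, Finset.sum_sub_distrib, Finset.smul_sum]
      rw [h, sub_eq_zero, Finset.sum_comm (s := Finset.univ) (t := Finset.univ)]
      refine Finset.sum_congr rfl fun j _ => ?_
      rw [show TensorProduct.lid R A ((ξ j).rTensor A (ρ v)) = c (ξ j) v from rfl, hm j v, tmul_sum]
      exact Finset.sum_congr rfl fun p _ => tmul_smul _ _ _
    have h0 := coords_relation (π := π) hX l
    simp only [X, smul_sub, Finset.sum_sub_distrib, sub_eq_zero, ← map_smul, ← map_sum, Finset.smul_sum] at h0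
    rw [show ∑ j, π l (ξ j) • m i j = m i l from hem i l] at h0
    rw [h0, Finset.sum_comm]
    refine Finset.sum_congr rfl fun j _ => ?_
    simp only [← tmul_smul, ← tmul_sum]
    exact congrArg _ (hem j l)
  have hcounit : ∀ i l, CoalgebraStruct.counit (R := R) (m i l) = e l i := by
    intro i l
    have hv : ∀ v, ∑ p, ξ p v • (CoalgebraStruct.counit (R := R) (m i p) - if p = i then 1 else 0) = (0 : R) := fun v => by
      have h := congrArg (CoalgebraStruct.counit (R := R)) (hm i v)
      have k : ∀ z : V ⊗[R] A, CoalgebraStruct.counit (R := R) (TensorProduct.lid R A ((ξ i).rTensor A z)) =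
          ξ i (TensorProduct.rid R V ((CoalgebraStruct.counit (R := R) (A := A)).lTensor V z)) := fun z => by
        induction z using TensorProduct.induction_on with
        | zero => simp
        | add x y hx hy => simp only [map_add, hx, hy]
        | tmul x y => simp [mul_comm]
      have k2 : TensorProduct.rid R V ((CoalgebraStruct.counit (R := R) (A := A)).lTensor V (ρ v)) = v := by
        refine Subtype.ext ?_
        have k3 : ∀ z : V ⊗[R] A, ((TensorProduct.rid R V ((CoalgebraStruct.counit (R := R) (A := A)).lTensor V z) : V) : A) =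
            TensorProduct.rid R A ((CoalgebraStruct.counit (R := R) (A := A)).lTensor A (V.subtype.rTensor A z)) := fun z => by
          induction z using TensorProduct.induction_on with
          | zero => simp
          | add x y hx hy => simp only [map_add, Submodule.coe_add, hx, hy]
          | tmul x y => simp
        rw [k3, hρ, Coalgebra.lTensor_counit_comul]
        simp
      rw [show CoalgebraStruct.counit (R := R) (c (ξ i) v) = _ from k (ρ v), k2, map_sum] at h
      simp only [smul_eq_mul, mul_sub, Finset.sum_sub_distrib, mul_ite, mul_one, mul_zero, Finset.sum_ite_eq',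
        Finset.mem_univ, if_true, sub_eq_zero]
      simpa using h.symm
    have h0 := coords_relation (π := π) hv l
    simp only [smul_sub, Finset.sum_sub_distrib, sub_eq_zero, ← map_smul, ← map_sum] at h0
    rw [show ∑ j, π l (ξ j) • m i j = m i l from hem i l] at h0
    simpa [e] using h0
  have hme : ∀ i l, ∑ j, e j i • m j l = m i l := by
    intro i l
    have h := congrArg (fun z => TensorProduct.lid R A ((CoalgebraStruct.counit (R := R) (A := A)).rTensor A z)) (hcomul i l)
    simp only [Coalgebra.rTensor_counit_comul, map_sum, LinearMap.rTensor_tmul, TensorProduct.lid_tmul, one_smul, hcounit] at h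
    exact h.symm
  let a : Matrix (Fin n) (Fin n) A := fun i l => m i l + algebraMap R A ((if i = l then 1 else 0) - e l i)
  have ha : ∀ i l, CoalgebraStruct.comul (R := R) (a i l) = ∑ j, a i j ⊗ₜ[R] a j l := by
    intro i l
    let f : Fin n → Fin n → R := fun i j => (if i = j then 1 else 0) - e j i
    have hL : ∀ r : R, ∀ x : A, algebraMap R A r ⊗ₜ[R] x = (1 : A) ⊗ₜ[R] (r • x) := fun r x => by
      rw [Algebra.algebraMap_eq_smul_one, smul_tmul]
    have hR : ∀ r : R, ∀ x : A, x ⊗ₜ[R] algebraMap R A r = (r • x) ⊗ₜ[R] (1 : A) := fun r x => by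
      rw [Algebra.algebraMap_eq_smul_one, tmul_smul, smul_tmul']
    have h1 : ∑ j, f i j • m j l = 0 := by
      simp only [f, sub_smul, Finset.sum_sub_distrib, hme, ite_smul, one_smul, zero_smul, Finset.sum_ite_eq,
        Finset.mem_univ, if_true, sub_self]
    have h2 : ∑ j, f j l • m i j = 0 := by
      simp only [f, sub_smul, Finset.sum_sub_distrib, hem, ite_smul, one_smul, zero_smul, Finset.sum_ite_eq',
        Finset.mem_univ, if_true, sub_self]
    have h3 : ∑ j, f i j * f j l = f i l := by
      simp only [f, sub_mul, mul_sub, Finset.sum_sub_distrib]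
      rw [show ∑ j, e j i * e l j = e l i by rw [← he l i]; exact Finset.sum_congr rfl fun j _ => mul_comm _ _]
      simp
    calc CoalgebraStruct.comul (R := R) (a i l)
        = (∑ j, m i j ⊗ₜ[R] m j l) + algebraMap R (A ⊗[R] A) (f i l) := by
          show CoalgebraStruct.comul (R := R) (m i l + algebraMap R A (f i l)) = _
          rw [map_add, hcomul, Bialgebra.comul_algebraMap]
      _ = ∑ j, a i j ⊗ₜ[R] a j l := by
          simp only [show ∀ p q, a p q = m p q + algebraMap R A (f p q) from fun p q => rfl, tmul_add, add_tmul,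
            Finset.sum_add_distrib]
          have e1 : ∑ j, algebraMap R A (f i j) ⊗ₜ[R] m j l = 0 := by simp only [hL, ← tmul_sum, h1, tmul_zero]
          have e2 : ∑ j, m i j ⊗ₜ[R] algebraMap R A (f j l) = 0 := by simp only [hR, ← sum_tmul, h2, zero_tmul]
          have e3 : ∑ j, algebraMap R A (f i j) ⊗ₜ[R] algebraMap R A (f j l) = algebraMap R (A ⊗[R] A) (f i l) := by
            simp only [hL, ← tmul_sum, Algebra.smul_def, ← map_mul, ← map_sum, h3]
            simp only [Algebra.algebraMap_eq_smul_one, mul_one, tmul_smul]
            rfl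
          rw [e1, e2, e3, add_zero, zero_add]
  have haε : ∀ i l, CoalgebraStruct.counit (R := R) (a i l) = if i = l then 1 else 0 := fun i l => by
    show CoalgebraStruct.counit (R := R) (m i l + algebraMap R A _) = _
    rw [map_add, hcounit, Bialgebra.counit_algebraMap]
    ring
  let S := HopfAlgebra.antipode R (A := A)
  have hdet : a * a.map S = 1 := by
    ext i l
    have h := HopfAlgebra.mul_antipode_lTensor_comul_apply (R := R) (a i l)
    rw [ha, map_sum, map_sum, haε] at h
    simp only [LinearMap.lTensor_tmul, LinearMap.mul'_apply] at h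
    rw [Matrix.mul_apply]
    simp only [Matrix.map_apply]
    rw [h, Matrix.one_apply]
    split <;> simp
  refine ⟨n, a, ha, haε, (a.map S).det, ?_, ?_⟩
  · rw [mul_comm, ← Matrix.det_mul, hdet, Matrix.det_one]
  intro x hx
  let ε : V →ₗ[R] R := (CoalgebraStruct.counit (R := R) (A := A)) ∘ₗ V.subtype
  have hcx : c ε ⟨x, hF hx⟩ = x := by
    have k : ∀ z : V ⊗[R] A, TensorProduct.lid R A (ε.rTensor A z) =
        TensorProduct.lid R A ((CoalgebraStruct.counit (R := R) (A := A)).rTensor A (V.subtype.rTensor A z)) := fun z => by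
      induction z using TensorProduct.induction_on with
      | zero => simp
      | add x y hx hy => simp only [map_add, hx, hy]
      | tmul x y => simp [ε]
    show TensorProduct.lid R A (ε.rTensor A (ρ ⟨x, hF hx⟩)) = x
    rw [k, hρ, Coalgebra.rTensor_counit_comul]
    simp
  have hlin : c ε ⟨x, hF hx⟩ = ∑ i, π i ε • c (ξ i) ⟨x, hF hx⟩ := by
    conv_lhs => rw [hexp ε]
    simp only [c, LinearMap.comp_apply, ← LinearMap.coe_rTensorHom, map_sum, map_smul, LinearMap.coe_sum,
      Finset.sum_apply, LinearMap.smul_apply]
  rw [← hcx, hlin]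
  refine sum_mem fun i _ => Subalgebra.smul_mem _ ?_ _
  rw [hm]
  refine sum_mem fun l _ => Subalgebra.smul_mem _ ?_ _
  rw [show m i l = a i l - algebraMap R A ((if i = l then 1 else 0) - e l i) from (add_sub_cancel_right _ _).symm]
  exact sub_mem (Algebra.subset_adjoin (Or.inl ⟨(i, l), rfl⟩)) (Subalgebra.algebraMap_mem _ _)

end Hopf

end Groth.Agent.H8ReflexRep
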