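import Mathlib
import Groth.Agent.Lib.H8NilSection
import Groth.Agent.Lib.H8Rigidity2

/-!
# Rosenlicht's lemma on units of a product

A unit on a product of reduced connected schemes of finite type over an algebraically closed field
which is trivial on both axes is trivial.  For a point `b` of the second factor the restriction
`w_b` takes, at every field-valued point of the first factor, values which are units for every
valuation trivial on `k`, because this condition is open and closed in `b`.
-/

set_option autoImplicit false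

universe u

open CategoryTheory Limits AlgebraicGeometry MonoidalCategory CartesianMonoidalCategory
open scoped TensorProduct

namespace Groth.Agent.H8Rosenlicht

variable {k : Type u} [Field k]

local notation "Ov" => Over (Spec (CommRingCat.of k))

/-- Evaluation of a global function at a rational point. -/
noncomputable def ev {P : Ov} (a : 𝟙_ Ov ⟶ P) : Γ(P.left, ⊤) →+* k :=
  ((a.left.appTop : Γ(P.left, ⊤) ⟶ Γ(Spec (CommRingCat.of k), ⊤)) ≫
    (Scheme.ΓSpecIso (CommRingCat.of k)).hom).hom

lemma ev_comp {P Q : Ov} (a : 𝟙_ Ov ⟶ P) (g : P ⟶ Q) (s : Γ(Q.left, ⊤)) :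
    ev (a ≫ g) s = ev a (g.left.appTop s) := rfl

/-- A constant function. -/
noncomputable def const (P : Ov) (c : k) : Γ(P.left, ⊤) :=
  P.hom.appTop ((Scheme.ΓSpecIso (CommRingCat.of k)).inv c)

lemma ev_const {P : Ov} (a : 𝟙_ Ov ⟶ P) (c : k) : ev a (const P c) = c := by
  show (Scheme.ΓSpecIso (CommRingCat.of k)).hom (a.left.appTop (P.hom.appTop _)) = c
  rw [← CommRingCat.comp_apply P.hom.appTop, ← Scheme.Hom.comp_appTop, Over.w a]
  erw [Scheme.Hom.id_appTop]
  simp

lemma ev_ne_zero_iff {P : Ov} (a : 𝟙_ Ov ⟶ P) (s : Γ(P.left, ⊤)) :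
    ev a s ≠ 0 ↔ a.left (IsLocalRing.closedPoint k) ∈ P.left.basicOpen s := by
  rw [← Scheme.Hom.mem_preimage, Scheme.preimage_basicOpen]
  constructor
  · intro h
    have hu : IsUnit (a.left.appTop s) := by
      have h2 := (isUnit_iff_ne_zero.mpr h).map (Scheme.ΓSpecIso (CommRingCat.of k)).inv.hom
      simpa [ev] using h2
    show _ ∈ Scheme.basicOpen _ (a.left.appTop s)
    rw [Scheme.basicOpen_of_isUnit _ hu]
    trivial
  · intro h h0
    have : a.left.appTop s = 0 := by
      have h2 := congrArg (Scheme.ΓSpecIso (CommRingCat.of k)).inv.hom h0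
      simpa [ev] using h2
    rw [show (a.left.app ⊤) s = 0 from this, Scheme.basicOpen_zero] at h
    exact h

/-- Functions on a reduced scheme vanishing at all rational points vanish. -/
lemma eq_zero_of_ev [IsAlgClosed k] (P : Ov) [LocallyOfFiniteType P.hom] [IsReduced P.left]
    (s : Γ(P.left, ⊤)) (h : ∀ a : 𝟙_ Ov ⟶ P, ev a s = 0) : s = 0 := by
  haveI := LocallyOfFiniteType.jacobsonSpace P.hom
  refine (basicOpen_eq_bot_iff s).mp ?_
  by_contra hne
  obtain ⟨p, hp, hpc⟩ := nonempty_inter_closedPoints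
    (Set.nonempty_iff_ne_empty.mpr fun he => hne (TopologicalSpace.Opens.ext he))
    (P.left.basicOpen s).isOpen.isLocallyClosed
  have := (ev_ne_zero_iff (H8Rigidity2.closedPt P p hpc) s).mpr
    (by rw [H8Rigidity2.closedPt_apply]; exact hp)
  exact this (h _)

lemma eq_closedPt [IsAlgClosed k] {P : Ov} [LocallyOfFiniteType P.hom] (a : 𝟙_ Ov ⟶ P) {p : P.left}
    (hp : IsClosed ({p} : Set P.left)) (h : a.left (IsLocalRing.closedPoint k) = p) :
    a = H8Rigidity2.closedPt P p hp := by
  apply Over.OverMorphism.ext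
  let a' : {g : Spec (CommRingCat.of k) ⟶ P.left // g ≫ P.hom = 𝟙 _} := ⟨a.left, Over.w a⟩
  have : a' = (pointEquivClosedPoint P.hom).symm ⟨p, hp⟩ :=
    (Equiv.eq_symm_apply _).mpr (Subtype.ext h)
  exact congrArg Subtype.val this

/-- The chart of an algebra-valued point. -/
noncomputable def res {P : Ov} {R : Type u} [CommRing R] [Algebra k R]
    (j : Over.mk (Spec.map (CommRingCat.ofHom (algebraMap k R))) ⟶ P) : Γ(P.left, ⊤) →+* R :=
  ((j.left.appTop : Γ(P.left, ⊤) ⟶ Γ(Spec (CommRingCat.of R), ⊤)) ≫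
    (Scheme.ΓSpecIso (CommRingCat.of R)).hom).hom

lemma spec_w {R S : Type u} [CommRing R] [CommRing S] [Algebra k R] [Algebra k S] (φ : R →ₐ[k] S) :
    Spec.map (CommRingCat.ofHom φ.toRingHom) ≫ Spec.map (CommRingCat.ofHom (algebraMap k R)) =
      Spec.map (CommRingCat.ofHom (algebraMap k S)) := by
  rw [← Spec.map_comp]
  congr 1
  ext c
  exact φ.commutes c

/-- The morphism of charts of an algebra map. -/
noncomputable def specOver {R S : Type u} [CommRing R] [CommRing S] [Algebra k R] [Algebra k S]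
    (φ : R →ₐ[k] S) :
    (Over.mk (Spec.map (CommRingCat.ofHom (algebraMap k S))) : Ov) ⟶
      Over.mk (Spec.map (CommRingCat.ofHom (algebraMap k R))) :=
  Over.homMk (Spec.map (CommRingCat.ofHom φ.toRingHom)) (spec_w φ)

/-- The rational point of a character. -/
noncomputable def ptOf {R : Type u} [CommRing R] [Algebra k R] (χ : R →ₐ[k] k) :
    𝟙_ Ov ⟶ Over.mk (Spec.map (CommRingCat.ofHom (algebraMap k R))) :=
  Over.homMk (Spec.map (CommRingCat.ofHom χ.toRingHom)) (by
    show Spec.map _ ≫ Spec.map _ = 𝟙 _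
    rw [← Spec.map_comp, ← Spec.map_id]
    congr 1
    ext c
    exact χ.commutes c)

lemma ev_ptOf {P : Ov} {R : Type u} [CommRing R] [Algebra k R] (χ : R →ₐ[k] k)
    (j : Over.mk (Spec.map (CommRingCat.ofHom (algebraMap k R))) ⟶ P) (s : Γ(P.left, ⊤)) :
    ev (ptOf χ ≫ j) s = χ (res j s) :=
  congrArg (fun f => f.hom (j.left.appTop s))
    (Scheme.ΓSpecIso_naturality (CommRingCat.ofHom χ.toRingHom))

lemma res_specOver {P : Ov} {R S : Type u} [CommRing R] [CommRing S] [Algebra k R] [Algebra k S]
    (φ : R →ₐ[k] S) (j : Over.mk (Spec.map (CommRingCat.ofHom (algebraMap k R))) ⟶ P)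
    (s : Γ(P.left, ⊤)) : res (specOver φ ≫ j) s = φ (res j s) :=
  congrArg (fun f => f.hom (j.left.appTop s))
    (Scheme.ΓSpecIso_naturality (CommRingCat.ofHom φ.toRingHom))

/-- The slice of a function on a product at a rational point of the second factor. -/
noncomputable def slice {X Y : Ov} (b : 𝟙_ Ov ⟶ Y) : Γ((X ⊗ Y).left, ⊤) →+* Γ(X.left, ⊤) :=
  (lift (𝟙 X) (toUnit X ≫ b)).left.appTop.hom

lemma ev_slice {X Y : Ov} (a : 𝟙_ Ov ⟶ X) (b : 𝟙_ Ov ⟶ Y) (w : Γ((X ⊗ Y).left, ⊤)) :
    ev a (slice b w) = ev (lift a b) w := by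
  rw [slice, ← ev_comp, comp_lift, Category.comp_id, ← Category.assoc,
    toUnit_unique (a ≫ toUnit X) (𝟙 _), Category.id_comp]

lemma preconnectedSpace_closedPoints (Y : Type u) [TopologicalSpace Y] [JacobsonSpace Y]
    [PreconnectedSpace Y] (S : Set (closedPoints Y)) (hS : IsClopen S) (h : S.Nonempty) :
    S = Set.univ := by
  obtain ⟨O₁, hO₁, h1⟩ := isOpen_induced_iff.mp hS.isOpen
  obtain ⟨O₂, hO₂, h2⟩ := isOpen_induced_iff.mp hS.compl.isOpen
  have hdis : O₁ ∩ O₂ = ∅ := by
    by_contra hne
    obtain ⟨q, hq, hqc⟩ := nonempty_inter_closedPoints (Set.nonempty_iff_ne_empty.mpr hne)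
      (hO₁.inter hO₂).isLocallyClosed
    have a1 : (⟨q, hqc⟩ : closedPoints Y) ∈ S := h1 ▸ hq.1
    have a2 : (⟨q, hqc⟩ : closedPoints Y) ∈ Sᶜ := h2 ▸ hq.2
    exact a2 a1
  have hcov : O₁ ∪ O₂ = Set.univ := by
    by_contra hne
    obtain ⟨q, hq, hqc⟩ := nonempty_inter_closedPoints (Set.nonempty_compl.mpr hne)
      (hO₁.union hO₂).isClosed_compl.isLocallyClosed
    by_cases hqS : (⟨q, hqc⟩ : closedPoints Y) ∈ S
    · exact hq (Or.inl (h1 ▸ hqS : (⟨q, hqc⟩ : closedPoints Y) ∈ Subtype.val ⁻¹' O₁))
    · exact hq (Or.inr (h2 ▸ hqS : (⟨q, hqc⟩ : closedPoints Y) ∈ Subtype.val ⁻¹' O₂))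
  have hO₁c : IsClopen O₁ := by
    refine ⟨⟨?_⟩, hO₁⟩
    convert hO₂ using 1
    ext q
    constructor
    · intro hq
      exact ((Set.mem_union _ _ _).mp (hcov ▸ Set.mem_univ q)).resolve_left hq
    · intro hq hq1
      exact (hdis ▸ (⟨hq1, hq⟩ : q ∈ O₁ ∩ O₂) : q ∈ (∅ : Set Y))
  obtain ⟨q, hq⟩ := h
  have := hO₁c.eq_univ ⟨q, (h1.symm ▸ hq : q ∈ Subtype.val ⁻¹' O₁)⟩
  rw [← h1, this, Set.preimage_univ]

variable [IsAlgClosed k]

set_option backward.isDefEq.respectTransparency false in
/-- Linear conditions on the values of the slices at a field-valued point are closed. -/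
lemma isClosed_setOf_mem {X Y : Ov} [LocallyOfFiniteType Y.hom] {F : Type u} [Field F] [Algebra k F]
    (jF : Over.mk (Spec.map (CommRingCat.ofHom (algebraMap k F))) ⟶ X)
    (w : Γ((X ⊗ Y).left, ⊤)) (L : Submodule k F) :
    IsClosed {q : closedPoints Y.left |
      res jF (slice (H8Rigidity2.closedPt Y q.1 q.2) w) ∈ L} := by
  haveI := LocallyOfFiniteType.jacobsonSpace Y.hom
  rw [← isOpen_compl_iff, isOpen_iff_forall_mem_open]
  intro q hq
  obtain ⟨_, ⟨V, hV, rfl⟩, hqV, -⟩ :=
    Y.left.isBasis_affineOpens.exists_subset_of_mem_open (Set.mem_univ q.1) isOpen_univ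
  replace hV : IsAffineOpen V := hV
  let B := Γ(Y.left, V)
  letI : Algebra k B := (Spec.preimage (hV.fromSpec ≫ Y.hom)).hom.toAlgebra
  have hB : Spec.map (CommRingCat.ofHom (algebraMap k B)) = hV.fromSpec ≫ Y.hom :=
    Spec.map_preimage (hV.fromSpec ≫ Y.hom)
  haveI : Algebra.FiniteType k B := by
    have h : LocallyOfFiniteType (Spec.map (CommRingCat.ofHom (algebraMap k B))) := by
      rw [hB]; infer_instance
    exact RingHom.finiteType_algebraMap.mp
      ((HasRingHomProperty.Spec_iff (P := @LocallyOfFiniteType)).mp h)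
  let jV : Over.mk (Spec.map (CommRingCat.ofHom (algebraMap k B))) ⟶ Y :=
    Over.homMk hV.fromSpec hB.symm
  let π : Over.mk (Spec.map (CommRingCat.ofHom (algebraMap k (F ⊗[k] B)))) ⟶ X ⊗ Y :=
    lift (specOver Algebra.TensorProduct.includeLeft ≫ jF)
      (specOver Algebra.TensorProduct.includeRight ≫ jV)
  let m : (B →ₐ[k] k) → (F ⊗[k] B →ₐ[k] F) := fun χ =>
    Algebra.TensorProduct.lift (AlgHom.id k F) ((Algebra.ofId k F).comp χ)
      (fun _ _ => Commute.all _ _)
  have hm : ∀ χ, res jF (slice (ptOf χ ≫ jV) w) = m χ (res π w) := fun χ => by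
    rw [← res_specOver]
    show res jF ((lift (𝟙 X) (toUnit X ≫ ptOf χ ≫ jV)).left.appTop w) = _
    have e : specOver (m χ) ≫ π = jF ≫ lift (𝟙 X) (toUnit X ≫ ptOf χ ≫ jV) := by
      apply CartesianMonoidalCategory.hom_ext
      · simp only [π, Category.assoc, lift_fst, Category.comp_id]
        rw [← Category.assoc]
        convert Category.id_comp jF
        apply Over.OverMorphism.ext
        simp only [specOver, Over.comp_left, Over.homMk_left, ← Spec.map_comp,
          ← CommRingCat.ofHom_comp]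
        refine Eq.trans ?_ (Spec.map_id _)
        congr 1
        ext a
        simp [m]
      · simp only [π, Category.assoc, lift_snd]
        rw [← Category.assoc, ← Category.assoc jF, ← Category.assoc]
        congr 1
        apply Over.OverMorphism.ext
        simp only [specOver, ptOf, Over.comp_left, Over.homMk_left, ← Spec.map_comp,
          ← CommRingCat.ofHom_comp, Over.toUnit_left]
        rw [Over.w jF]
        show _ = Spec.map (CommRingCat.ofHom (algebraMap k F)) ≫ _
        rw [← Spec.map_comp, ← CommRingCat.ofHom_comp]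
        congr 2
        ext a
        simp [m]
    rw [e]
    rfl
  obtain ⟨f, hf, hfL⟩ := Submodule.exists_le_ker_of_notMem hq
  let β : B := TensorProduct.lid k B (LinearMap.rTensor B f (res π w))
  have hβ : ∀ χ : B →ₐ[k] k, χ β = f (m χ (res π w)) := fun χ => by
    simp only [β]
    induction res π w using TensorProduct.induction_on with
    | zero => simp
    | tmul a b =>
      simp only [m, LinearMap.rTensor_tmul, TensorProduct.lid_tmul, map_smul,
        Algebra.TensorProduct.lift_tmul, AlgHom.id_apply, AlgHom.comp_apply, Algebra.ofId_apply]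
      rw [← Algebra.commutes, ← Algebra.smul_def, map_smul, smul_eq_mul, smul_eq_mul, mul_comm]
    | add a b ha hb => simp only [map_add, ha, hb]
  haveI : IsOpenImmersion hV.fromSpec := hV.isOpenImmersion_fromSpec
  have hfrom : ∀ q' : closedPoints Y.left, ∀ p : Spec B, hV.fromSpec p = q'.1 →
      ∃ χ : B →ₐ[k] k, (∀ r, χ r = 0 ↔ r ∈ p.asIdeal) ∧
        H8Rigidity2.closedPt Y q'.1 q'.2 = ptOf χ ≫ jV := by
    intro q' p hp
    have hpc : p ∈ closedPoints (Spec B) := by
      rw [← hV.fromSpec.isOpenEmbedding.preimage_closedPoints]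
      show hV.fromSpec p ∈ closedPoints Y.left
      rw [hp]; exact q'.2
    obtain ⟨χ, hχ⟩ := H8NilSection.exists_algHom (k := k) p.asIdeal
      ((PrimeSpectrum.isClosed_singleton_iff_isMaximal p).mp hpc)
    refine ⟨χ, hχ, (eq_closedPt _ q'.2 ?_).symm⟩
    rw [Over.comp_left, Scheme.Hom.comp_apply]
    refine Eq.trans (congrArg hV.fromSpec (PrimeSpectrum.ext ?_)) hp
    ext r
    show χ r ∈ IsLocalRing.maximalIdeal k ↔ _
    rw [IsLocalRing.maximalIdeal_eq_bot, Ideal.mem_bot]
    exact hχ r
  refine ⟨Subtype.val ⁻¹' (hV.fromSpec '' (PrimeSpectrum.basicOpen β).1), ?_,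
    (hV.fromSpec.isOpenEmbedding.isOpenMap _ (PrimeSpectrum.basicOpen β).2).preimage
      continuous_subtype_val, ?_⟩
  · rintro q' ⟨p, hp, hpq⟩ hmem
    obtain ⟨χ, hχ, hpt⟩ := hfrom q' p hpq
    change res jF (slice (H8Rigidity2.closedPt Y q'.1 q'.2) w) ∈ L at hmem
    rw [hpt, hm] at hmem
    exact hp ((hχ β).mp ((hβ χ).trans (LinearMap.mem_ker.mp (hfL hmem))))
  · obtain ⟨p, hp⟩ : q.1 ∈ Set.range hV.fromSpec := by rw [hV.range_fromSpec]; exact hqV
    obtain ⟨χ, hχ, hpt⟩ := hfrom q p hp
    refine ⟨p, fun hpβ => hf ?_, hp⟩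
    show f (res jF (slice (H8Rigidity2.closedPt Y q.1 q.2) w)) = 0
    rw [hpt, hm, ← hβ]
    exact (hχ β).mpr hpβ

set_option backward.isDefEq.respectTransparency false in
/-- Rosenlicht: values of slices of a unit at a field-valued point are constants. -/
lemma exists_eq_algebraMap {X Y : Ov} [LocallyOfFiniteType Y.hom] [ConnectedSpace Y.left]
    {F : Type u} [Field F] [Algebra k F]
    (jF : Over.mk (Spec.map (CommRingCat.ofHom (algebraMap k F))) ⟶ X)
    (w w' : Γ((X ⊗ Y).left, ⊤)) (hw : w * w' = 1) (b₀ : 𝟙_ Ov ⟶ Y) (hb₀ : slice b₀ w = 1)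
    (q : closedPoints Y.left) :
    ∃ c : k, res jF (slice (H8Rigidity2.closedPt Y q.1 q.2) w) = algebraMap k F c := by
  haveI := LocallyOfFiniteType.jacobsonSpace Y.hom
  let t : closedPoints Y.left → F := fun q => res jF (slice (H8Rigidity2.closedPt Y q.1 q.2) w)
  let t' : closedPoints Y.left → F := fun q => res jF (slice (H8Rigidity2.closedPt Y q.1 q.2) w')
  have htt : ∀ q, t q * t' q = 1 := fun q => by
    simp only [t, t', ← map_mul, hw, map_one]
  suffices h : ∀ O : ValuationSubring F, (∀ c, algebraMap k F c ∈ O) → t q ∈ O by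
    have hint : IsIntegral k (t q) := by
      by_contra hni
      let R : Subring F := (integralClosure k F).toSubring
      haveI : IsIntegrallyClosedIn R F :=
        inferInstanceAs (IsIntegrallyClosedIn (integralClosure k F) F)
      obtain ⟨O, hO, hxO⟩ := Subring.exists_le_valuationSubring_of_isIntegrallyClosedIn
        (R := R) (x := t q) hni
      exact hxO (h O fun c => hO (algebraMap_mem (integralClosure k F) c))
    have hdeg := IsAlgClosed.degree_eq_one_of_irreducible k (minpoly.irreducible hint)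
    obtain ⟨c, hc⟩ := minpoly.mem_range_of_degree_eq_one k (t q) hdeg
    exact ⟨c, hc.symm⟩
  intro O hO
  let v := O.valuation
  have hc : ∀ c, v (algebraMap k F c) ≤ 1 := fun c => (O.valuation_le_one_iff _).mpr (hO c)
  let L₀ : Submodule k F :=
    { carrier := {x | v x ≤ 1}
      add_mem' := fun {x y} hx hy =>
        show v (x + y) ≤ 1 from (v.map_add x y).trans (max_le hx hy)
      zero_mem' := by simp
      smul_mem' := fun c x hx => by
        show v (c • x) ≤ 1
        rw [Algebra.smul_def, map_mul]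
        exact mul_le_one₀ (hc c) zero_le hx }
  let L₁ : Submodule k F :=
    { carrier := {x | v x < 1}
      add_mem' := fun {x y} hx hy => v.map_add_lt hx hy
      zero_mem' := by simp
      smul_mem' := fun c x hx => by
        show v (c • x) < 1
        rw [Algebra.smul_def, map_mul]
        exact (mul_le_of_le_one_left zero_le (hc c)).trans_lt hx }
  have hvv : ∀ q, v (t q) * v (t' q) = 1 := fun q => by rw [← map_mul, htt, map_one]
  let G : Set (closedPoints Y.left) := {q | v (t q) = 1}
  have hG1 : G = {q | t q ∈ L₀} ∩ {q | t' q ∈ L₀} := by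
    ext q
    constructor
    · intro h
      refine ⟨show v (t q) ≤ 1 from le_of_eq h, show v (t' q) ≤ 1 from le_of_eq ?_⟩
      have := hvv q
      rwa [show v (t q) = 1 from h, one_mul] at this
    · rintro ⟨h1, h2⟩
      refine le_antisymm h1 (not_lt.mp fun hlt => ?_)
      exact ((mul_lt_one_of_nonneg_of_lt_one_left zero_le hlt h2).ne (hvv q))
  have hG2 : Gᶜ = {q | t q ∈ L₁} ∪ {q | t' q ∈ L₁} := by
    ext q
    constructor
    · intro h
      rcases lt_or_gt_of_ne (show v (t q) ≠ 1 from h) with h1 | h1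
      · exact Or.inl h1
      · refine Or.inr (lt_of_not_ge fun h2 : 1 ≤ v (t' q) => ?_)
        have := hvv q
        exact (lt_irrefl (1 : _)) (this ▸ h1.trans_le (le_mul_of_one_le_right zero_le h2))
    · rintro (h | h) (hq : v (t q) = 1)
      · exact (show v (t q) < 1 from h).ne hq
      · have := hvv q
        rw [hq, one_mul] at this
        exact (show v (t' q) < 1 from h).ne this
  have hclop : IsClopen G := by
    refine ⟨?_, ?_⟩
    · rw [hG1]
      exact (isClosed_setOf_mem jF w L₀).inter (isClosed_setOf_mem jF w' L₀)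
    · rw [← isClosed_compl_iff, hG2]
      exact (isClosed_setOf_mem jF w L₁).union (isClosed_setOf_mem jF w' L₁)
  let q₀ : closedPoints Y.left :=
    ⟨b₀.left (IsLocalRing.closedPoint k), H8Rigidity2.isClosed_pt Y b₀⟩
  have hne : q₀ ∈ G := by
    show v (t q₀) = 1
    simp only [t, ← eq_closedPt b₀ q₀.2 rfl, hb₀, map_one]
  have := preconnectedSpace_closedPoints Y.left G hclop ⟨q₀, hne⟩
  exact (O.valuation_le_one_iff _).mp (le_of_eq (this ▸ Set.mem_univ q : q ∈ G))

set_option backward.isDefEq.respectTransparency false in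
/-- Rosenlicht's lemma over an algebraically closed field. -/
theorem eq_one_of_isAlgClosed (X Y : Ov) [LocallyOfFiniteType X.hom] [LocallyOfFiniteType Y.hom]
    [CompactSpace X.left] [ConnectedSpace X.left] [ConnectedSpace Y.left]
    [IsReduced (X ⊗ Y).left] (a₀ : 𝟙_ Ov ⟶ X) (b₀ : 𝟙_ Ov ⟶ Y)
    (w w' : Γ((X ⊗ Y).left, ⊤)) (hw : w * w' = 1)
    (hX : slice b₀ w = 1) (hY : (lift (toUnit Y ≫ a₀) (𝟙 Y)).left.appTop w = 1) : w = 1 := by
  haveI := LocallyOfFiniteType.jacobsonSpace X.hom
  haveI := LocallyOfFiniteType.jacobsonSpace Y.hom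
  haveI : IsLocallyNoetherian X.left := LocallyOfFiniteType.isLocallyNoetherian X.hom
  haveI : IsNoetherian X.left := { }
  haveI : LocallyOfFiniteType (X ⊗ Y).hom :=
    inferInstanceAs (LocallyOfFiniteType (pullback.fst X.hom Y.hom ≫ X.hom))
  rw [← sub_eq_zero]
  refine eq_zero_of_ev (X ⊗ Y) _ fun p => ?_
  rw [map_sub, map_one, sub_eq_zero]
  set a := p ≫ fst X Y
  set b := p ≫ snd X Y
  rw [show p = lift a b by simp [a, b, lift_fst_snd, ← comp_lift], ← ev_slice]
  let q : closedPoints Y.left := ⟨b.left (IsLocalRing.closedPoint k), H8Rigidity2.isClosed_pt Y b⟩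
  set s := slice b w with hs
  let Γ₁ : Set (closedPoints X.left) :=
    {r | ev (H8Rigidity2.closedPt X r.1 r.2) s = 1}
  -- level sets
  have hlev : ∀ c : k, IsClosed {r : closedPoints X.left |
      ev (H8Rigidity2.closedPt X r.1 r.2) s = c} := fun c => by
    rw [← isOpen_compl_iff]
    convert (X.left.basicOpen (s - const X c)).isOpen.preimage continuous_subtype_val using 1
    ext r
    have e := ev_ne_zero_iff (H8Rigidity2.closedPt X r.1 r.2) (s - const X c)
    rw [H8Rigidity2.closedPt_apply, map_sub, ev_const, sub_ne_zero] at e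
    exact e
  -- values at generic points
  have hgen : ∀ z : X.left, ∃ c : k, ∀ r : closedPoints X.left, z ⤳ r.1 →
      ev (H8Rigidity2.closedPt X r.1 r.2) s = c := by
    intro z
    let F := X.left.residueField z
    letI : Algebra k F := (Spec.preimage (X.left.fromSpecResidueField z ≫ X.hom)).hom.toAlgebra
    have hF : Spec.map (CommRingCat.ofHom (algebraMap k F)) =
        X.left.fromSpecResidueField z ≫ X.hom :=
      Spec.map_preimage (X.left.fromSpecResidueField z ≫ X.hom)
    let jF : Over.mk (Spec.map (CommRingCat.ofHom (algebraMap k F))) ⟶ X :=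
      Over.homMk (X.left.fromSpecResidueField z) hF.symm
    obtain ⟨c, hc⟩ := exists_eq_algebraMap jF w w' hw b₀ hX q
    rw [← eq_closedPt b q.2 rfl, ← hs] at hc
    refine ⟨c, fun r hr => ?_⟩
    by_contra hne
    have hr' : r.1 ∈ X.left.basicOpen (s - const X c) := by
      have e := ev_ne_zero_iff (H8Rigidity2.closedPt X r.1 r.2) (s - const X c)
      rw [H8Rigidity2.closedPt_apply, map_sub, ev_const, sub_ne_zero] at e
      exact e.mp hne
    have hz : z ∈ X.left.basicOpen (s - const X c) :=
      hr.mem_open (X.left.basicOpen _).isOpen hr'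
    have h0 : jF.left.appTop (s - const X c) = 0 := by
      have hcst : res jF (const X c) = algebraMap k F c := by
        show (Scheme.ΓSpecIso (CommRingCat.of F)).hom (jF.left.appTop (X.hom.appTop _)) = _
        rw [← CommRingCat.comp_apply X.hom.appTop, ← Scheme.Hom.comp_appTop, Over.w jF]
        refine (congrArg (fun f => f.hom ((Scheme.ΓSpecIso (CommRingCat.of k)).inv c))
          (Scheme.ΓSpecIso_naturality (CommRingCat.ofHom (algebraMap k F)))).trans ?_
        simp
      have h1 : res jF (s - const X c) = 0 := by rw [map_sub, hc, hcst, sub_self]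
      have h2 := congrArg (Scheme.ΓSpecIso (CommRingCat.of F)).inv.hom h1
      rw [map_sub]
      simpa [res] using h2
    have hmem : (IsLocalRing.closedPoint F : Spec (CommRingCat.of F)) ∈
        jF.left ⁻¹ᵁ X.left.basicOpen (s - const X c) := by
      show X.left.fromSpecResidueField z _ ∈ X.left.basicOpen _
      rw [Scheme.fromSpecResidueField_apply]
      exact hz
    rw [Scheme.preimage_basicOpen] at hmem
    change _ ∈ Scheme.basicOpen _ (jF.left.appTop (s - const X c)) at hmem
    rw [h0, Scheme.basicOpen_zero] at hmem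
    exact hmem
  choose cz hcz using hgen
  have hfin := TopologicalSpace.NoetherianSpace.finite_irreducibleComponents (α := X.left)
  have hclop : IsClopen Γ₁ := by
    refine ⟨hlev 1, ?_⟩
    rw [← isClosed_compl_iff]
    let gens : Set X.left := {z | closure {z} ∈ irreducibleComponents X.left}
    have hgfin : gens.Finite :=
      Set.Finite.of_finite_image (hfin.subset (by rintro _ ⟨z, hz, rfl⟩; exact hz))
        (fun x _ y _ h => ((show IsGenericPoint x (closure {y}) from h).eq
          (show IsGenericPoint y (closure {y}) from rfl)))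
    have : Γ₁ᶜ = ⋃ c ∈ (cz '' gens) \ {1}, {r : closedPoints X.left |
        ev (H8Rigidity2.closedPt X r.1 r.2) s = c} := by
      ext r
      constructor
      · intro hr
        have hC := irreducibleComponent_mem_irreducibleComponents r.1
        have hg := hC.1.isGenericPoint_genericPoint (isClosed_of_mem_irreducibleComponents _ hC)
        have hzg : hC.1.genericPoint ∈ gens := by
          show closure {hC.1.genericPoint} ∈ irreducibleComponents X.left
          rw [hg.def]; exact hC
        have hval := hcz _ r (hg.specializes mem_irreducibleComponent)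
        exact Set.mem_biUnion (x := cz hC.1.genericPoint)
          ⟨⟨_, hzg, rfl⟩, fun h => hr (hval.trans h)⟩ hval
      · rintro hr h1
        obtain ⟨c, ⟨-, hc1⟩, hrc⟩ := Set.mem_iUnion₂.mp hr
        exact hc1 ((show _ = c from hrc).symm.trans h1)
    rw [this]
    exact ((hgfin.image cz).subset Set.sdiff_subset).isClosed_biUnion fun c _ => hlev c
  let r₀ : closedPoints X.left := ⟨a₀.left (IsLocalRing.closedPoint k), H8Rigidity2.isClosed_pt X a₀⟩
  have hne : r₀ ∈ Γ₁ := by
    show ev _ s = 1
    rw [← eq_closedPt a₀ r₀.2 rfl, hs, ev_slice]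
    have h2 := congrArg (ev b) hY
    rw [← ev_comp, comp_lift, Category.comp_id, ← Category.assoc,
      toUnit_unique (b ≫ toUnit Y) (𝟙 _), Category.id_comp, map_one] at h2
    exact h2
  have := preconnectedSpace_closedPoints X.left Γ₁ hclop ⟨r₀, hne⟩
  have h3 : (⟨a.left (IsLocalRing.closedPoint k), H8Rigidity2.isClosed_pt X a⟩ :
      closedPoints X.left) ∈ Γ₁ := this ▸ Set.mem_univ _
  change ev _ s = 1 at h3
  rwa [← eq_closedPt a _ rfl] at h3

end Groth.Agent.H8Rosenlicht
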