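import Mathlib
import Groth.Prelude.Def_Red
import Groth.Agent.Lib.H8Rosenlicht
import Groth.Agent.Lib.H8AntiAffine2

/-!
# Rosenlicht's lemma over an arbitrary field
-/

set_option autoImplicit false

universe u

open CategoryTheory Limits AlgebraicGeometry MonoidalCategory CartesianMonoidalCategory

namespace Groth.Agent.H8RosenlichtBC

variable {k : Type u} [Field k]

local notation "Ov" => Over (Spec (CommRingCat.of k))

set_option backward.isDefEq.respectTransparency false in
/-- A unit on a product of geometrically reduced and geometrically connected schemes of finite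
type which is trivial on the axes is trivial. -/
theorem eq_one (X Y : Ov) [LocallyOfFiniteType X.hom] [CompactSpace X.left]
    [GeometricallyReduced X.hom] [GeometricallyConnected X.hom]
    [LocallyOfFiniteType Y.hom] [CompactSpace Y.left]
    [GeometricallyReduced Y.hom] [GeometricallyConnected Y.hom]
    (eX : 𝟙_ Ov ⟶ X) (eY : 𝟙_ Ov ⟶ Y) (w w' : Γ((X ⊗ Y).left, ⊤)) (hw : w * w' = 1)
    (hX : (lift (𝟙 X) (toUnit X ≫ eY)).left.appTop w = 1)
    (hY : (lift (toUnit Y ≫ eX) (𝟙 Y)).left.appTop w = 1) : w = 1 := by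
  let K := AlgebraicClosure k
  let s : Spec (CommRingCat.of K) ⟶ Spec (CommRingCat.of k) :=
    Spec.map (CommRingCat.ofHom (algebraMap k K))
  haveI : Flat s := inferInstance
  haveI : Surjective s := inferInstance
  let F := Over.pullback s
  let X' := F.obj X
  let Y' := F.obj Y
  haveI : IsIso (toUnit (F.obj (𝟙_ Ov))) := by
    have : IsIso (toUnit (F.obj (𝟙_ Ov))).left := by
      rw [show (toUnit (F.obj (𝟙_ Ov))).left = (F.obj (𝟙_ Ov)).hom from
        (Category.comp_id _).symm.trans (Over.w (toUnit (F.obj (𝟙_ Ov))))]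
      exact inferInstanceAs (IsIso (pullback.snd (𝟙 (Spec (CommRingCat.of k))) s))
    exact @isIso_of_reflects_iso _ _ _ _ _ _ _ (Over.forget _) this _
  let eX' := inv (toUnit (F.obj (𝟙_ Ov))) ≫ F.map eX
  let eY' := inv (toUnit (F.obj (𝟙_ Ov))) ≫ F.map eY
  let c : F.obj (X ⊗ Y) ⟶ X' ⊗ Y' := lift (F.map (fst X Y)) (F.map (snd X Y))
  haveI : IsIso c := inferInstanceAs (IsIso (CartesianMonoidalCategory.prodComparison F X Y))
  let p : (X' ⊗ Y').left ⟶ (X ⊗ Y).left := (inv c).left ≫ pullback.fst (X ⊗ Y).hom s
  haveI : IsIso (inv c).left := ((Over.forget _).mapIso (asIso (inv c))).isIso_hom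
  haveI : Flat p := inferInstance
  haveI : Surjective p := inferInstance
  haveI : LocallyOfFiniteType X'.hom := inferInstanceAs (LocallyOfFiniteType (pullback.snd X.hom s))
  haveI : LocallyOfFiniteType Y'.hom := inferInstanceAs (LocallyOfFiniteType (pullback.snd Y.hom s))
  haveI : CompactSpace X'.left := by
    haveI : QuasiCompact X.hom := (HasAffineProperty.iff_of_isAffine (P := @QuasiCompact)).mpr ‹_›
    exact inferInstanceAs (CompactSpace ↥(pullback X.hom s))
  haveI : ConnectedSpace X'.left := by
    have h := GeometricallyConnected.geometrically_connectedSpace (f := X.hom)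
    exact pullback_of_geometrically h K s
  haveI : ConnectedSpace Y'.left := by
    have h := GeometricallyConnected.geometrically_connectedSpace (f := Y.hom)
    exact pullback_of_geometrically h K s
  haveI : IsReduced (X' ⊗ Y').left := by
    haveI : GeometricallyReduced X'.hom :=
      inferInstanceAs (GeometricallyReduced (pullback.snd X.hom s))
    haveI : GeometricallyReduced Y'.hom :=
      inferInstanceAs (GeometricallyReduced (pullback.snd Y.hom s))
    haveI : IsLocallyNoetherian X'.left := LocallyOfFiniteType.isLocallyNoetherian X'.hom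
    haveI : IsReduced X'.left :=
      GeometricallyReduced.isReduced_of_flat_of_isLocallyNoetherian X'.hom
    exact inferInstanceAs (IsReduced (pullback X'.hom Y'.hom))
  have hc1 : c ≫ fst X' Y' = F.map (fst X Y) := lift_fst _ _
  have hc2 : c ≫ snd X' Y' = F.map (snd X Y) := lift_snd _ _
  have hp1 : lift (𝟙 X') (toUnit X' ≫ eY') = F.map (lift (𝟙 X) (toUnit X ≫ eY)) ≫ c := by
    apply CartesianMonoidalCategory.hom_ext
    · rw [lift_fst, Category.assoc, hc1, ← F.map_comp, lift_fst, F.map_id]
    · rw [lift_snd, Category.assoc, hc2, ← F.map_comp, lift_snd, F.map_comp]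
      show toUnit X' ≫ inv _ ≫ F.map eY = _
      rw [← Category.assoc]
      congr 1
      rw [IsIso.comp_inv_eq]
      exact toUnit_unique _ _
  have hp2 : lift (toUnit Y' ≫ eX') (𝟙 Y') = F.map (lift (toUnit Y ≫ eX) (𝟙 Y)) ≫ c := by
    apply CartesianMonoidalCategory.hom_ext
    · rw [lift_fst, Category.assoc, hc1, ← F.map_comp, lift_fst, F.map_comp]
      show toUnit Y' ≫ inv _ ≫ F.map eX = _
      rw [← Category.assoc]
      congr 1
      rw [IsIso.comp_inv_eq]
      exact toUnit_unique _ _
    · rw [lift_snd, Category.assoc, hc2, ← F.map_comp, lift_snd, F.map_id]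
  have hq1 : (lift (𝟙 X') (toUnit X' ≫ eY')).left ≫ p =
      pullback.fst X.hom s ≫ (lift (𝟙 X) (toUnit X ≫ eY)).left := by
    rw [hp1, Over.comp_left, Category.assoc]
    simp only [p, ← Over.comp_left_assoc, IsIso.hom_inv_id, Over.id_left, Category.id_comp]
    exact pullback.lift_fst _ _ _
  have hq2 : (lift (toUnit Y' ≫ eX') (𝟙 Y')).left ≫ p =
      pullback.fst Y.hom s ≫ (lift (toUnit Y ≫ eX) (𝟙 Y)).left := by
    rw [hp2, Over.comp_left, Category.assoc]
    simp only [p, ← Over.comp_left_assoc, IsIso.hom_inv_id, Over.id_left, Category.id_comp]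
    exact pullback.lift_fst _ _ _
  have h := H8Rosenlicht.eq_one_of_isAlgClosed X' Y' eX' eY' (p.appTop w) (p.appTop w')
    (by rw [← map_mul, hw, map_one]) (by
      show (lift (𝟙 X') (toUnit X' ≫ eY')).left.appTop (p.appTop w) = 1
      rw [← CommRingCat.comp_apply, ← Scheme.Hom.comp_appTop, hq1, Scheme.Hom.comp_appTop,
        CommRingCat.comp_apply, hX, map_one]) (by
      rw [← CommRingCat.comp_apply, ← Scheme.Hom.comp_appTop, hq2, Scheme.Hom.comp_appTop,
        CommRingCat.comp_apply, hY, map_one])
  exact H8AntiAffine2.injective_appTop_of_flat p (h.trans (map_one _).symm)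

end Groth.Agent.H8RosenlichtBC
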