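import Mathlib

/-!
# Symmetric polynomial `2`-cocycles in characteristic `p`

Additive symmetric cocycles over `ZMod p` are combinations of coboundaries and of the
`p`-power iterates of the reduced `((x+y)^p - x^p - y^p)/p`; and multiplicative ones over a
ring of characteristic `p` with surjective Frobenius split.
-/

open MvPolynomial

universe u

namespace H8SymCoc

section General

variable {K : Type*} [CommRing K]

/-- The coboundary of a one-variable polynomial. -/
noncomputable def cobd (F : Polynomial K) : MvPolynomial (Fin 2) K :=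
  Polynomial.aeval (X 0 + X 1 : MvPolynomial (Fin 2) K) F
    - Polynomial.aeval (X 0 : MvPolynomial (Fin 2) K) F
    - Polynomial.aeval (X 1 : MvPolynomial (Fin 2) K) F

/-- Normalised symmetric additive cocycles. -/
structure IsCoc (a : MvPolynomial (Fin 2) K) : Prop where
  zero_right : aeval ![(X 0 : MvPolynomial (Fin 2) K), 0] a = 0
  symm : aeval ![(X 1 : MvPolynomial (Fin 2) K), X 0] a = a
  cocyc : aeval ![(X 1 : MvPolynomial (Fin 3) K), X 2] a +
      aeval ![(X 0 : MvPolynomial (Fin 3) K), X 1 + X 2] a =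
    aeval ![(X 0 + X 1 : MvPolynomial (Fin 3) K), X 2] a +
      aeval ![(X 0 : MvPolynomial (Fin 3) K), X 1] a

theorem IsCoc.add {a b : MvPolynomial (Fin 2) K} (ha : IsCoc a) (hb : IsCoc b) :
    IsCoc (a + b) where
  zero_right := by rw [map_add, ha.zero_right, hb.zero_right, add_zero]
  symm := by rw [map_add, ha.symm, hb.symm]
  cocyc := by simp only [map_add]; linear_combination ha.cocyc + hb.cocyc

theorem IsCoc.smul (c : K) {a : MvPolynomial (Fin 2) K} (ha : IsCoc a) :
    IsCoc (c • a) where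
  zero_right := by rw [map_smul, ha.zero_right, smul_zero]
  symm := by rw [map_smul, ha.symm]
  cocyc := by simp only [map_smul, ← smul_add, ha.cocyc]

theorem IsCoc.sub {a b : MvPolynomial (Fin 2) K} (ha : IsCoc a) (hb : IsCoc b) :
    IsCoc (a - b) where
  zero_right := by rw [map_sub, ha.zero_right, hb.zero_right, sub_zero]
  symm := by rw [map_sub, ha.symm, hb.symm]
  cocyc := by simp only [map_sub]; linear_combination ha.cocyc - hb.cocyc

theorem cobd_isCoc (F : Polynomial K) (h0 : F.coeff 0 = 0) : IsCoc (cobd F) := by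
  refine ⟨?_, ?_, ?_⟩
  · simp only [cobd, map_sub, ← Polynomial.aeval_algHom_apply, map_add, MvPolynomial.aeval_X,
      Matrix.cons_val_zero, Matrix.cons_val_one]
    rw [add_zero, sub_self, zero_sub, ← Polynomial.coeff_zero_eq_aeval_zero',
      h0, map_zero, neg_zero]
  · simp only [cobd, map_sub, ← Polynomial.aeval_algHom_apply, map_add, MvPolynomial.aeval_X,
      Matrix.cons_val_zero, Matrix.cons_val_one]
    rw [add_comm (X 1) (X 0)]
    ring
  · simp only [cobd, map_sub, ← Polynomial.aeval_algHom_apply, map_add, MvPolynomial.aeval_X,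
      Matrix.cons_val_zero, Matrix.cons_val_one]
    rw [show (X 0 + (X 1 + X 2) : MvPolynomial (Fin 3) K) = X 0 + X 1 + X 2 by ring]
    ring

theorem pderiv_one_cobd (F : Polynomial K) :
    pderiv 1 (cobd F) =
      Polynomial.aeval (X 0 + X 1 : MvPolynomial (Fin 2) K) (Polynomial.derivative F)
        - Polynomial.aeval (X 1 : MvPolynomial (Fin 2) K) (Polynomial.derivative F) := by
  simp [cobd, Derivation.map_aeval, map_sub, pderiv_X, Pi.single_apply]

theorem pderiv_zero_cobd (F : Polynomial K) :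
    pderiv 0 (cobd F) =
      Polynomial.aeval (X 0 + X 1 : MvPolynomial (Fin 2) K) (Polynomial.derivative F)
        - Polynomial.aeval (X 0 : MvPolynomial (Fin 2) K) (Polynomial.derivative F) := by
  simp [cobd, Derivation.map_aeval, map_sub, pderiv_X, Pi.single_apply]

theorem map_aeval_comm {L : Type*} [CommRing L] {σ τ : Type*} (φ : K →+* L)
    (v : σ → MvPolynomial τ K) (a : MvPolynomial σ K) :
    map φ (aeval v a) = aeval (fun i => map φ (v i)) (map φ a) := by
  induction a using MvPolynomial.induction_on with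
  | C r => simp [algebraMap_eq]
  | add f g hf hg => simp only [map_add, hf, hg]
  | mul_X f i hf => simp only [map_mul, aeval_X, map_X, hf]

theorem chain_pderiv {σ τ : Type*} [Fintype σ] (v : σ → MvPolynomial τ K) (i : τ)
    (a : MvPolynomial σ K) :
    pderiv i (aeval v a) = ∑ j, aeval v (pderiv j a) * pderiv i (v j) := by
  classical
  induction a using MvPolynomial.induction_on with
  | C r => simp [algebraMap_eq]
  | add f g hf hg => simp only [map_add, hf, hg, add_mul, Finset.sum_add_distrib]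
  | mul_X f k hf =>
    simp only [map_mul, aeval_X, pderiv_mul, hf, map_add, pderiv_X, add_mul,
      Finset.sum_add_distrib]
    congr 1
    · rw [Finset.sum_mul]
      exact Finset.sum_congr rfl fun j _ => by ring
    · rw [Finset.sum_eq_single k]
      · simp
      · intro j _ hj
        simp [Pi.single_apply, Ne.symm hj]
      · simp

theorem aeval_comp {σ τ : Type*} {A : Type*} [CommRing A] [Algebra K A]
    (w : τ → A) (v : σ → MvPolynomial τ K) (a : MvPolynomial σ K) :
    aeval w (aeval v a) = aeval (fun i => aeval w (v i)) a := by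
  rw [← AlgHom.comp_apply, MvPolynomial.comp_aeval]

/-- The one-variable polynomial attached to the normal derivative. -/
noncomputable def gOf (a : MvPolynomial (Fin 2) K) : Polynomial K :=
  aeval ![(Polynomial.X : Polynomial K), 0] (pderiv 1 a)

theorem pderiv_one_eq {a : MvPolynomial (Fin 2) K} (ha : IsCoc a) :
    pderiv 1 a = Polynomial.aeval (X 0 + X 1 : MvPolynomial (Fin 2) K) (gOf a)
      - Polynomial.aeval (X 1 : MvPolynomial (Fin 2) K) (gOf a) := by
  have hg : ∀ t : MvPolynomial (Fin 2) K,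
      Polynomial.aeval t (gOf a) = aeval ![t, 0] (pderiv 1 a) := by
    intro t
    rw [gOf, ← AlgHom.comp_apply, MvPolynomial.comp_aeval]
    congr 2
    funext i
    fin_cases i <;> simp
  have h := congrArg (fun q => aeval ![(X 0 : MvPolynomial (Fin 2) K), X 1, 0] (pderiv 2 q))
    ha.cocyc
  simp only [map_add, chain_pderiv, Fin.sum_univ_two, Matrix.cons_val_zero, Matrix.cons_val_one,
    pderiv_X, Pi.single_apply, Fin.reduceEq, if_false, if_true, mul_zero, mul_one, zero_add,
    add_zero, map_zero, aeval_comp] at h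
  have e0 : ∀ (P Q : MvPolynomial (Fin 3) K),
      (fun i : Fin 2 => aeval ![(X 0 : MvPolynomial (Fin 2) K), X 1, 0] (![P, Q] i)) =
      ![aeval ![(X 0 : MvPolynomial (Fin 2) K), X 1, 0] P,
        aeval ![(X 0 : MvPolynomial (Fin 2) K), X 1, 0] Q] := by
    intro P Q
    funext i
    fin_cases i <;> simp
  simp only [e0, map_add, aeval_X, Matrix.cons_val_zero, Matrix.cons_val_one, Matrix.cons_val,
    add_zero] at h
  have hid : (![(X 0 : MvPolynomial (Fin 2) K), X 1]) = X := by
    funext i
    fin_cases i <;> simp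
  rw [hid, aeval_X_left_apply] at h
  rw [hg, hg]
  linear_combination h

theorem aeval_X_zero_monomial (d : Fin 2 →₀ ℕ) (r : K) (n : ℕ) :
    (aeval ![(Polynomial.X : Polynomial K), 0] (monomial d r)).coeff n =
      if d 0 = n ∧ d 1 = 0 then r else 0 := by
  rw [aeval_monomial, Finsupp.prod_fintype _ _ (fun i => pow_zero _), Fin.prod_univ_two,
    Polynomial.algebraMap_eq]
  simp only [Matrix.cons_val_zero, Matrix.cons_val_one]
  by_cases h1 : d 1 = 0
  · simp [h1, Polynomial.coeff_X_pow, eq_comm]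
  · simp [h1]

theorem gOf_coeff (a : MvPolynomial (Fin 2) K) (n : ℕ) :
    (gOf a).coeff n = coeff (Finsupp.single 0 n + Finsupp.single 1 1) a := by
  have key : ∀ b : MvPolynomial (Fin 2) K,
      (aeval ![(Polynomial.X : Polynomial K), 0] b).coeff n = coeff (Finsupp.single 0 n) b := by
    intro b
    induction b using MvPolynomial.induction_on' with
    | monomial d r =>
      rw [aeval_X_zero_monomial, coeff_monomial]
      refine if_congr ?_ rfl rfl
      constructor
      · rintro ⟨h, h'⟩
        ext i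
        fin_cases i <;> simp [h, h']
      · rintro rfl
        simp
    | add f g hf hg => simp [hf, hg]
  rw [gOf, key, coeff_pderiv]
  simp

theorem gOf_coeff_eq_zero (a : MvPolynomial (Fin 2) K) {n : ℕ} (hn : a.totalDegree ≤ n) :
    (gOf a).coeff n = 0 := by
  rw [gOf_coeff]
  by_contra h
  have := le_totalDegree (mem_support_iff.mpr h)
  rw [Finsupp.sum_fintype _ _ (fun _ => rfl), Fin.sum_univ_two] at this
  simp at this
  omega

theorem coeff_X_add_X_pow (n : ℕ) (d : Fin 2 →₀ ℕ) :
    coeff d ((X 0 + X 1 : MvPolynomial (Fin 2) K) ^ n) =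
      if d 0 + d 1 = n then (n.choose (d 0) : K) else 0 := by
  classical
  rw [(Commute.all _ _).add_pow, coeff_sum]
  have : ∀ m ∈ Finset.range (n + 1),
      coeff d ((X 0 : MvPolynomial (Fin 2) K) ^ m * X 1 ^ (n - m) * (n.choose m : MvPolynomial (Fin 2) K))
        = if d 0 = m ∧ d 1 = n - m then (n.choose m : K) else 0 := by
    intro m _
    rw [X_pow_eq_monomial, X_pow_eq_monomial, monomial_mul,
      ← map_natCast (C : K →+* MvPolynomial (Fin 2) K), mul_comm, C_mul_monomial, coeff_monomial]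
    simp only [mul_one]
    refine if_congr ?_ rfl rfl
    constructor
    · rintro rfl
      simp
    · rintro ⟨h, h'⟩
      ext i
      fin_cases i <;> simp [h, h']
  rw [Finset.sum_congr rfl this]
  by_cases h : d 0 + d 1 = n
  · rw [if_pos h, Finset.sum_eq_single (d 0)]
    · rw [if_pos ⟨rfl, by omega⟩]
    · intro m _ hm
      rw [if_neg (fun hh => hm hh.1.symm)]
    · intro hh
      simp at hh
      omega
  · rw [if_neg h]
    refine Finset.sum_eq_zero fun m hm => ?_
    simp at hm
    rw [if_neg]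
    rintro ⟨rfl, h'⟩
    omega

theorem coeff_aeval_add (g : Polynomial K) (d : Fin 2 →₀ ℕ) :
    coeff d (Polynomial.aeval (X 0 + X 1 : MvPolynomial (Fin 2) K) g) =
      g.coeff (d 0 + d 1) * ((d 0 + d 1).choose (d 0) : K) := by
  induction g using Polynomial.induction_on' with
  | add p q hp hq => simp [hp, hq, add_mul]
  | monomial n r =>
    rw [Polynomial.aeval_monomial, algebraMap_eq, coeff_C_mul, coeff_X_add_X_pow,
      Polynomial.coeff_monomial]
    by_cases h : d 0 + d 1 = n
    · simp [h]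
    · simp [h, Ne.symm h]

theorem coeff_aeval_X_one (g : Polynomial K) (d : Fin 2 →₀ ℕ) (hd : d 0 ≠ 0) :
    coeff d (Polynomial.aeval (X 1 : MvPolynomial (Fin 2) K) g) = 0 := by
  classical
  induction g using Polynomial.induction_on' with
  | add p q hp hq => simp [hp, hq]
  | monomial n r =>
    rw [Polynomial.aeval_monomial, algebraMap_eq, coeff_C_mul, X_pow_eq_monomial, coeff_monomial,
      if_neg, mul_zero]
    intro h
    rw [← h] at hd
    simp at hd

theorem totalDegree_cobd_le (F : Polynomial K) :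
    (cobd F).totalDegree ≤ F.natDegree := by
  classical
  have key : ∀ t : MvPolynomial (Fin 2) K, t.totalDegree ≤ 1 →
      (Polynomial.aeval t F).totalDegree ≤ F.natDegree := by
    intro t ht
    rw [Polynomial.aeval_eq_sum_range]
    refine (totalDegree_finset_sum _ _).trans (Finset.sup_le fun i hi => ?_)
    refine (totalDegree_smul_le _ _).trans ((totalDegree_pow _ _).trans ?_)
    simp at hi
    calc i * t.totalDegree ≤ i * 1 := Nat.mul_le_mul_left _ ht
      _ ≤ _ := by omega
  have hX : ∀ i, (X i : MvPolynomial (Fin 2) K).totalDegree ≤ 1 := fun i => by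
    rcases subsingleton_or_nontrivial K with h | h
    · simp [Subsingleton.elim (X i : MvPolynomial (Fin 2) K) 0]
    · simp
  refine (totalDegree_sub _ _).trans (max_le ((totalDegree_sub _ _).trans
    (max_le (key _ ?_) (key _ (hX 0)))) (key _ (hX 1)))
  exact (totalDegree_add _ _).trans (max_le (hX 0) (hX 1))

end General

section IntC

variable (p : ℕ) [hp : Fact p.Prime]

theorem exists_C0 : ∃ c : MvPolynomial (Fin 2) ℤ,
    C (p : ℤ) * c = cobd ((Polynomial.X : Polynomial ℤ) ^ p) := by
  have h : C (p : ℤ) ∣ cobd ((Polynomial.X : Polynomial ℤ) ^ p) := by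
    rw [C_dvd_iff_map_hom_eq_zero (Int.castRingHom (ZMod p)) _
      (fun r => by
        rw [eq_intCast]
        exact ZMod.intCast_zmod_eq_zero_iff_dvd r p)]
    simp [cobd, add_pow_char]
  obtain ⟨c, hc⟩ := h
  exact ⟨c, hc.symm⟩

/-- The integral polynomial `((x+y)^p - x^p - y^p)/p`. -/
noncomputable def C0 : MvPolynomial (Fin 2) ℤ := (exists_C0 p).choose

theorem C0_spec : C (p : ℤ) * C0 p = cobd ((Polynomial.X : Polynomial ℤ) ^ p) :=
  (exists_C0 p).choose_spec

theorem Cp_ne_zero {σ : Type*} : (C (p : ℤ) : MvPolynomial σ ℤ) ≠ 0 := by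
  rw [ne_eq, C_eq_zero]
  exact_mod_cast hp.out.ne_zero

theorem C0_isCoc : IsCoc (C0 p) := by
  have hc : IsCoc (cobd ((Polynomial.X : Polynomial ℤ) ^ p)) :=
    cobd_isCoc _ (by simp [Polynomial.coeff_X_pow, hp.out.ne_zero.symm])
  rw [← C0_spec] at hc
  refine ⟨?_, ?_, ?_⟩
  · have h := hc.zero_right
    rw [map_mul, aeval_C, algebraMap_eq] at h
    exact (mul_eq_zero.mp h).resolve_left (Cp_ne_zero p)
  · have h := hc.symm
    rw [map_mul, aeval_C, algebraMap_eq] at h
    exact mul_left_cancel₀ (Cp_ne_zero p) h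
  · have h := hc.cocyc
    simp only [map_mul, aeval_C, algebraMap_eq, ← mul_add] at h
    exact mul_left_cancel₀ (Cp_ne_zero p) h

theorem pderiv_one_C0 : pderiv 1 (C0 p) = (X 0 + X 1) ^ (p - 1) - X 1 ^ (p - 1) := by
  have h := congrArg (pderiv (1 : Fin 2)) (C0_spec p)
  rw [pderiv_C_mul, pderiv_one_cobd, Polynomial.derivative_X_pow, map_mul, map_mul,
    Polynomial.aeval_C, Polynomial.aeval_C, ← mul_sub, algebraMap_eq] at h
  simpa using mul_left_cancel₀ (Cp_ne_zero p) h

theorem pderiv_zero_C0 : pderiv 0 (C0 p) = (X 0 + X 1) ^ (p - 1) - X 0 ^ (p - 1) := by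
  have h := congrArg (pderiv (0 : Fin 2)) (C0_spec p)
  rw [pderiv_C_mul, pderiv_zero_cobd, Polynomial.derivative_X_pow, map_mul, map_mul,
    Polynomial.aeval_C, Polynomial.aeval_C, ← mul_sub, algebraMap_eq] at h
  simpa using mul_left_cancel₀ (Cp_ne_zero p) h

theorem C0_homogeneous : (C0 p).IsHomogeneous p := by
  intro d hd
  have h : coeff d (cobd ((Polynomial.X : Polynomial ℤ) ^ p)) ≠ 0 := by
    rw [← C0_spec, coeff_C_mul]
    exact mul_ne_zero (by exact_mod_cast hp.out.ne_zero) hd
  have hh : (cobd ((Polynomial.X : Polynomial ℤ) ^ p)).IsHomogeneous p := by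
    simp only [cobd, map_pow, Polynomial.aeval_X]
    refine ((?_ : ((X 0 + X 1 : MvPolynomial (Fin 2) ℤ) ^ p).IsHomogeneous p).sub
      (isHomogeneous_X_pow _ _)).sub (isHomogeneous_X_pow _ _)
    simpa using ((isHomogeneous_X ℤ (0 : Fin 2)).add (isHomogeneous_X ℤ (1 : Fin 2))).pow p
  exact hh h

/-- Its image over any ring. -/
noncomputable def Cp (K : Type*) [CommRing K] : MvPolynomial (Fin 2) K :=
  map (Int.castRingHom K) (C0 p)

variable (K : Type*) [CommRing K]

theorem Cp_map {L : Type*} [CommRing L] (φ : K →+* L) : map φ (Cp p K) = Cp p L := by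
  rw [Cp, Cp, map_map, RingHom.ext_int (φ.comp (Int.castRingHom K)) (Int.castRingHom L)]

theorem Cp_isCoc : IsCoc (Cp p K) := by
  have h := C0_isCoc p
  have h1 := congrArg (map (Int.castRingHom K)) h.zero_right
  have h2 := congrArg (map (Int.castRingHom K)) h.symm
  have h3 := congrArg (map (Int.castRingHom K)) h.cocyc
  have e : ∀ {τ : Type} (P Q : MvPolynomial τ ℤ),
      (fun i : Fin 2 => map (Int.castRingHom K) (![P, Q] i)) =
        ![map (Int.castRingHom K) P, map (Int.castRingHom K) Q] := by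
    intro τ P Q
    funext i
    fin_cases i <;> simp
  simp only [map_aeval_comm, map_add, map_zero, e, map_X] at h1 h2 h3
  exact ⟨h1, h2, h3⟩

theorem pderiv_one_Cp : pderiv 1 (Cp p K) = (X 0 + X 1) ^ (p - 1) - X 1 ^ (p - 1) := by
  rw [Cp, pderiv_map, pderiv_one_C0]
  simp

theorem pderiv_zero_Cp : pderiv 0 (Cp p K) = (X 0 + X 1) ^ (p - 1) - X 0 ^ (p - 1) := by
  rw [Cp, pderiv_map, pderiv_zero_C0]
  simp

theorem Cp_mem_pow : Cp p K ∈ idealOfVars (Fin 2) K ^ p := by
  rw [mem_pow_idealOfVars_iff']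
  intro d hd
  rw [Cp, coeff_map, (C0_homogeneous p).coeff_eq_zero (by omega), map_zero]

theorem totalDegree_Cp_le : (Cp p K).totalDegree ≤ p :=
  ((C0_homogeneous p).map (Int.castRingHom K)).totalDegree_le

end IntC

section Classify

variable (p : ℕ) [hp : Fact p.Prime]

/-- The span of the elementary cocycles. -/
noncomputable def elem : Submodule (ZMod p) (MvPolynomial (Fin 2) (ZMod p)) :=
  Submodule.span (ZMod p) ({a | ∃ F : Polynomial (ZMod p), F.coeff 0 = 0 ∧ a = cobd F} ∪
    {a | ∃ i : ℕ, a = Cp p (ZMod p) ^ p ^ i})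

theorem pow_mem_elem {a : MvPolynomial (Fin 2) (ZMod p)} (ha : a ∈ elem p) :
    a ^ p ∈ elem p := by
  induction ha using Submodule.span_induction with
  | mem x hx =>
    rcases hx with ⟨F, hF, rfl⟩ | ⟨i, rfl⟩
    · refine Submodule.subset_span (Or.inl ⟨F ^ p, ?_, ?_⟩)
      · rw [Polynomial.coeff_zero_eq_eval_zero] at hF ⊢
        simp [hF, hp.out.ne_zero]
      · simp only [cobd, map_pow, sub_pow_char]
    · exact Submodule.subset_span (Or.inr ⟨i + 1, by rw [← pow_mul, ← pow_succ]⟩)
  | zero => rw [zero_pow hp.out.ne_zero]; exact zero_mem _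
  | add x y _ _ hx hy => rw [add_pow_char]; exact add_mem hx hy
  | smul c x _ hx => rw [smul_pow, ZMod.pow_card]; exact Submodule.smul_mem _ _ hx

theorem choose_sub_one (m : ℕ) (hm : 1 ≤ m) :
    (((m * p - 1).choose (p - 1) : ℕ) : ZMod p) = 1 := by
  have h := Choose.choose_modEq_choose_mod_mul_choose_div_nat (p := p) (n := m * p - 1)
    (k := p - 1)
  have hp2 := hp.out.two_le
  have e1 : (m * p - 1) % p = p - 1 := by
    obtain ⟨m', rfl⟩ : ∃ m', m = m' + 1 := ⟨m - 1, by omega⟩
    rw [show (m' + 1) * p - 1 = (p - 1) + p * m' by rw [Nat.add_mul, Nat.mul_comm m' p]; omega,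
      Nat.add_mul_mod_self_left, Nat.mod_eq_of_lt (by omega)]
  rw [e1, Nat.mod_eq_of_lt (by omega : p - 1 < p), Nat.choose_self,
    Nat.div_eq_of_lt (by omega : p - 1 < p), Nat.choose_zero_right, mul_one] at h
  have := (ZMod.natCast_eq_natCast_iff _ _ p).mpr h
  simpa using this

theorem mem_elem : ∀ (N : ℕ) (a : MvPolynomial (Fin 2) (ZMod p)),
    a.totalDegree ≤ N → IsCoc a → a ∈ elem p := by
  intro N
  induction N using Nat.strong_induction_on with
  | _ N ih =>
  intro a hN ha
  classical
  have hp2 := hp.out.two_le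
  rcases Nat.eq_zero_or_pos a.totalDegree with h0 | hpos
  · obtain ⟨c, rfl⟩ : ∃ c, a = C c := ⟨_, totalDegree_eq_zero_iff_eq_C.mp h0⟩
    have h := ha.zero_right
    rw [aeval_C, algebraMap_eq] at h
    rw [h]
    exact zero_mem _
  set B := a.totalDegree with hB
  set g := gOf a with hg
  set F : Polynomial (ZMod p) :=
    ∑ n ∈ Finset.range B, Polynomial.monomial (n + 1) (g.coeff n / (n + 1 : ℕ)) with hFdef
  have hF0 : F.coeff 0 = 0 := by
    simp [hFdef, Polynomial.finset_sum_coeff, Polynomial.coeff_monomial]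
  have hFdeg : F.natDegree ≤ B := by
    refine Polynomial.natDegree_sum_le_of_forall_le _ _ fun n hn => ?_
    refine (Polynomial.natDegree_monomial_le _).trans ?_
    simp at hn
    omega
  have hF' : ∀ n, (Polynomial.derivative F).coeff n =
      if p ∣ n + 1 then 0 else g.coeff n := by
    intro n
    rw [Polynomial.coeff_derivative, hFdef, Polynomial.finset_sum_coeff]
    simp only [Polynomial.coeff_monomial]
    by_cases hn : n < B
    · rw [Finset.sum_eq_single n (fun m _ hm => if_neg (by omega))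
        (fun h => absurd (Finset.mem_range.mpr hn) h), if_pos rfl]
      by_cases hd : p ∣ n + 1
      · rw [if_pos hd]
        have : ((n + 1 : ℕ) : ZMod p) = 0 := (ZMod.natCast_eq_zero_iff _ _).mpr hd
        rw [show ((n : ZMod p) + 1) = ((n + 1 : ℕ) : ZMod p) by push_cast; ring, this, mul_zero]
      · rw [if_neg hd]
        have : ((n + 1 : ℕ) : ZMod p) ≠ 0 := fun h => hd ((ZMod.natCast_eq_zero_iff _ _).mp h)
        rw [show ((n : ZMod p) + 1) = ((n + 1 : ℕ) : ZMod p) by push_cast; ring,
          div_mul_cancel₀ _ this]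
    · rw [Finset.sum_eq_zero (fun m hm => if_neg (by simp at hm; omega)), zero_mul,
        gOf_coeff_eq_zero a (by omega), ite_self]
  set a1 := a - cobd F with ha1
  set g1 := g - Polynomial.derivative F with hg1
  have hd1 : pderiv 1 a1 = Polynomial.aeval (X 0 + X 1 : MvPolynomial (Fin 2) (ZMod p)) g1
      - Polynomial.aeval (X 1 : MvPolynomial (Fin 2) (ZMod p)) g1 := by
    rw [ha1, map_sub, pderiv_one_eq ha, pderiv_one_cobd, hg1, map_sub, map_sub]
    ring
  set α := g.coeff (p - 1) with hα
  have hg1_eq : g1 = Polynomial.C α * Polynomial.X ^ (p - 1) := by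
    ext n
    rw [Polynomial.coeff_C_mul_X_pow, hg1, Polynomial.coeff_sub, hF']
    by_cases hd : p ∣ n + 1
    · rw [if_pos hd, sub_zero]
      by_cases hn : n = p - 1
      · rw [if_pos hn, hn]
      rw [if_neg hn]
      obtain ⟨m, hm⟩ := hd
      have hm2 : 2 ≤ m := by
        rcases m with _ | _ | m
        · omega
        · omega
        · omega
      have hmp : 2 * p ≤ m * p := Nat.mul_le_mul_right p hm2
      rw [Nat.mul_comm] at hm
      let d : Fin 2 →₀ ℕ := Finsupp.single 0 (n - (p - 1)) + Finsupp.single 1 (p - 1)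
      have hd0 : d 0 = n - (p - 1) := by simp [d]
      have hd1' : d 1 = p - 1 := by simp [d]
      have h1 : coeff d (pderiv 1 a1) = 0 := by
        rw [coeff_pderiv, hd1']
        have : ((p - 1 : ℕ) : ZMod p) + 1 = 0 := by
          rw [Nat.cast_sub (by omega : 1 ≤ p)]
          simp
        rw [this, mul_zero]
      rw [hd1, coeff_sub, coeff_aeval_add, coeff_aeval_X_one _ _ (by rw [hd0]; omega), sub_zero,
        hd0, hd1', Nat.sub_add_cancel (by omega), Nat.choose_symm (by omega),
        show n = m * p - 1 by omega, choose_sub_one p m (by omega), mul_one, hg1,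
        Polynomial.coeff_sub, hF', if_pos (by
          rw [Nat.sub_add_cancel (by omega)]; exact dvd_mul_left p m), sub_zero] at h1
      rw [show n = m * p - 1 by omega]
      exact h1
    · rw [if_neg hd, sub_self, if_neg]
      rintro rfl
      exact hd ⟨1, by omega⟩
  set a2 := a1 - α • Cp p (ZMod p) with ha2
  have hc1 : IsCoc a1 := ha.sub (cobd_isCoc F hF0)
  have hc2 : IsCoc a2 := hc1.sub ((Cp_isCoc p _).smul α)
  have hd2 : pderiv 1 a2 = 0 := by
    rw [ha2, map_sub, hd1, Derivation.map_smul, pderiv_one_Cp, hg1_eq]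
    simp [smul_eq_C_mul, mul_sub, algebraMap_eq]
  have hd2' : pderiv 0 a2 = 0 := by
    have h := congrArg (pderiv (0 : Fin 2)) hc2.symm
    simp only [chain_pderiv, Fin.sum_univ_two, Matrix.cons_val_zero, Matrix.cons_val_one,
      pderiv_X, Pi.single_apply, Fin.reduceEq, if_false, if_true, mul_zero, mul_one, zero_add,
      add_zero, hd2, map_zero] at h
    exact h.symm
  have hdeg2 : a2.totalDegree ≤ B := by
    rw [ha2, ha1]
    refine (totalDegree_sub _ _).trans (max_le ((totalDegree_sub _ _).trans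
      (max_le le_rfl ((totalDegree_cobd_le F).trans hFdeg))) ?_)
    by_cases hα0 : α = 0
    · simp [hα0]
    · refine (totalDegree_smul_le _ _).trans ((totalDegree_Cp_le p _).trans ?_)
      by_contra hlt
      exact hα0 (gOf_coeff_eq_zero a (by omega))
  have hdiv : ∀ d ∈ a2.support, ∀ i, p ∣ d i := by
    intro d hd i
    by_contra hi
    have hne : d i ≠ 0 := fun h => hi (h ▸ dvd_zero p)
    have hd' : d - Finsupp.single i 1 + Finsupp.single i 1 = d := by
      ext j
      by_cases hj : j = i
      · subst hj; simp; omega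
      · simp [Ne.symm hj]
    have h : coeff (d - Finsupp.single i 1) (pderiv i a2) = 0 := by
      fin_cases i <;> simp [hd2, hd2']
    rw [coeff_pderiv, hd'] at h
    have e : (((d - Finsupp.single i 1 : Fin 2 →₀ ℕ) i : ℕ) : ZMod p) + 1 = (d i : ℕ) := by
      have hv : (d - Finsupp.single i 1 : Fin 2 →₀ ℕ) i + 1 = d i := by simp; omega
      exact_mod_cast congrArg (Nat.cast : ℕ → ZMod p) hv
    rw [e] at h
    rcases mul_eq_zero.mp h with h | h
    · exact mem_support_iff.mp hd h
    · exact hi ((ZMod.natCast_eq_zero_iff _ _).mp h)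
  set a' : MvPolynomial (Fin 2) (ZMod p) :=
    ∑ d ∈ a2.support, monomial (d.mapRange (fun e => e / p) (Nat.zero_div p)) (coeff d a2) with ha'
  have hpow : a' ^ p = a2 := by
    rw [ha', sum_pow_char]
    conv_rhs => rw [← support_sum_monomial_coeff a2]
    refine Finset.sum_congr rfl fun d hd => ?_
    rw [monomial_pow, ZMod.pow_card]
    congr 2
    ext i
    simp [Nat.mul_div_cancel' (hdiv d hd i)]
  have hinj : ∀ {σ : Type} {x y : MvPolynomial σ (ZMod p)}, x ^ p = y ^ p → x = y := by
    intro σ x y h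
    exact frobenius_inj (MvPolynomial σ (ZMod p)) p h
  have hc' : IsCoc a' := by
    refine ⟨hinj ?_, hinj ?_, hinj ?_⟩
    · rw [← map_pow, hpow, hc2.zero_right, zero_pow hp.out.ne_zero]
    · rw [← map_pow, hpow, hc2.symm]
    · rw [add_pow_char, add_pow_char, ← map_pow, ← map_pow, ← map_pow, ← map_pow, hpow,
        hc2.cocyc]
  have hdeg' : a'.totalDegree ≤ B / p := by
    refine (totalDegree_finset_sum _ _).trans (Finset.sup_le fun d hd => ?_)
    refine (totalDegree_monomial_le _ _).trans ?_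
    have h := (le_totalDegree hd).trans hdeg2
    rw [Finsupp.sum_fintype _ _ (fun _ => rfl), Fin.sum_univ_two] at h
    rw [Finsupp.sum_fintype _ _ (fun _ => rfl), Fin.sum_univ_two]
    simp only [Finsupp.mapRange_apply]
    exact (Nat.div_add_div_le_add_div).trans (Nat.div_le_div_right h)
  have hlt : B / p < N := (Nat.div_lt_self hpos hp2).trans_le hN
  have hmem : a2 ∈ elem p := hpow ▸ pow_mem_elem p (ih _ hlt a' hdeg' hc')
  have e : a = cobd F + α • Cp p (ZMod p) + a2 := by rw [ha2, ha1]; ring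
  rw [e]
  refine add_mem (add_mem (Submodule.subset_span (Or.inl ⟨F, hF0, rfl⟩)) ?_) hmem
  exact Submodule.smul_mem _ _ (Submodule.subset_span (Or.inr ⟨0, by simp⟩))

end Classify

section Exp

variable (p : ℕ) [hp : Fact p.Prime]

/-- Coefficients of a truncated exponential with defect only in degrees `p` and `≥ 2p`. -/
noncomputable def ec : ℕ → ZMod p
  | 0 => 1
  | n + 1 =>
    if p ∣ n + 1 then 0
    else ((n + 1 : ℕ) : ZMod p)⁻¹ * (ec n + if h : p ≤ n + 1 then ec (n + 1 - p) else 0)
  termination_by n => n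
  decreasing_by
  · omega
  · have := hp.out.pos
    omega

theorem ec_factorial : ∀ n, n < p → (n.factorial : ZMod p) * ec p n = 1 := by
  intro n
  induction n with
  | zero => intro _; rw [ec]; simp
  | succ n ihn =>
    intro h
    rw [ec, if_neg (Nat.not_dvd_of_pos_of_lt (Nat.succ_pos n) h), dif_neg (by omega), add_zero]
    have hne : ((n + 1 : ℕ) : ZMod p) ≠ 0 := fun h0 =>
      Nat.not_dvd_of_pos_of_lt (Nat.succ_pos n) h ((ZMod.natCast_eq_zero_iff _ _).mp h0)
    rw [Nat.factorial_succ, Nat.cast_mul]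
    rw [show ((n + 1 : ℕ) : ZMod p) * (n.factorial : ZMod p) *
      (((n + 1 : ℕ) : ZMod p)⁻¹ * ec p n) =
      (((n + 1 : ℕ) : ZMod p) * ((n + 1 : ℕ) : ZMod p)⁻¹) * ((n.factorial : ZMod p) * ec p n) by
        ring, mul_inv_cancel₀ hne, one_mul]
    exact ihn (by omega)

theorem ec_rec (n : ℕ) (h : n + 1 < 2 * p) :
    ((n + 1 : ℕ) : ZMod p) * ec p (n + 1) =
      ec p n + if p ≤ n + 1 then ec p (n + 1 - p) else 0 := by
  have hp2 := hp.out.two_le
  by_cases hd : p ∣ n + 1
  · have e : n + 1 = p := by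
      obtain ⟨m, hm⟩ := hd
      rcases m with _ | _ | m
      · omega
      · omega
      · rw [Nat.mul_add, Nat.mul_add] at hm
        omega
    rw [(ZMod.natCast_eq_zero_iff _ _).mpr hd, zero_mul, if_pos e.ge, e, Nat.sub_self]
    have h1 := ec_factorial p n (by omega)
    rw [show n = p - 1 by omega, ZMod.wilsons_lemma, neg_one_mul] at h1
    rw [show n = p - 1 by omega, show ec p 0 = 1 by rw [ec]]
    linear_combination h1
  · conv_lhs => rw [ec, if_neg hd]
    rw [← mul_assoc, mul_inv_cancel₀ (fun h0 => hd ((ZMod.natCast_eq_zero_iff _ _).mp h0)),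
      one_mul]
    simp [dite_eq_ite]

/-- The truncated exponential. -/
noncomputable def Ep : Polynomial (ZMod p) :=
  ∑ n ∈ Finset.range (2 * p), Polynomial.monomial n (ec p n)

theorem Ep_coeff (n : ℕ) : (Ep p).coeff n = if n < 2 * p then ec p n else 0 := by
  simp [Ep, Polynomial.finset_sum_coeff, Polynomial.coeff_monomial]

theorem Ep_deriv_coeff (n : ℕ) (h : n + 1 < 2 * p) :
    (Polynomial.derivative (Ep p) - (1 + Polynomial.X ^ (p - 1)) * Ep p).coeff n = 0 := by
  have hp2 := hp.out.two_le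
  rw [Polynomial.coeff_sub, Polynomial.coeff_derivative, add_mul, one_mul, Polynomial.coeff_add,
    Polynomial.coeff_X_pow_mul', Ep_coeff, if_pos h, Ep_coeff, if_pos (by omega : n < 2 * p),
    sub_eq_zero]
  have h' := ec_rec p n h
  push_cast at h'
  rw [mul_comm] at h'
  rw [h']
  by_cases hn : p ≤ n + 1
  · rw [if_pos hn, if_pos (by omega), Ep_coeff, if_pos (by omega),
      show n - (p - 1) = n + 1 - p by omega]
  · rw [if_neg hn, if_neg (by omega)]

theorem Ep_zero : (Ep p).coeff 0 = 1 := by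
  rw [Ep_coeff, if_pos (by have := hp.out.pos; omega), ec]

theorem Ep_p : (Ep p).coeff p = 0 := by
  have hp2 := hp.out.two_le
  obtain ⟨m, hm⟩ : ∃ m, p = m + 1 := ⟨p - 1, by omega⟩
  rw [Ep_coeff, if_pos (by omega)]
  have h2 : ∀ k, k + 1 = p → ec p (k + 1) = 0 := fun k hk => by
    rw [ec, if_pos (by rw [hk])]
  calc ec p p = ec p (m + 1) := by congr 1
    _ = 0 := h2 m hm.symm

theorem aeval_mem_pow {σ : Type*} (t : MvPolynomial σ (ZMod p))
    (ht : t ∈ idealOfVars σ (ZMod p)) (Q : Polynomial (ZMod p)) (k : ℕ)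
    (hQ : ∀ n < k, Q.coeff n = 0) :
    Polynomial.aeval t Q ∈ idealOfVars σ (ZMod p) ^ k := by
  rw [Polynomial.aeval_eq_sum_range]
  refine Ideal.sum_mem _ fun i _ => ?_
  by_cases hi : i < k
  · rw [hQ i hi, zero_smul]
    exact zero_mem _
  · rw [smul_eq_C_mul]
    exact Ideal.mul_mem_left _ _
      (Ideal.pow_le_pow_right (Nat.le_of_not_lt hi) (Ideal.pow_mem_pow ht i))

/-- The defect of the truncated exponential. -/
noncomputable def Gp : MvPolynomial (Fin 2) (ZMod p) :=
  Polynomial.aeval (X 0 : MvPolynomial (Fin 2) (ZMod p)) (Ep p) *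
      Polynomial.aeval (X 1 : MvPolynomial (Fin 2) (ZMod p)) (Ep p) -
    Polynomial.aeval (X 0 + X 1 : MvPolynomial (Fin 2) (ZMod p)) (Ep p) * (1 - Cp p (ZMod p))

theorem pderiv_Gp (i : Fin 2) :
    pderiv i (Gp p) - (1 + X i ^ (p - 1)) * Gp p ∈
      idealOfVars (Fin 2) (ZMod p) ^ (2 * p - 1) := by
  have hp2 := hp.out.two_le
  set R := Polynomial.derivative (Ep p) - (1 + Polynomial.X ^ (p - 1)) * Ep p with hR
  have hX : ∀ j, (X j : MvPolynomial (Fin 2) (ZMod p)) ∈ idealOfVars (Fin 2) (ZMod p) :=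
    fun j => Ideal.subset_span ⟨j, rfl⟩
  have hS : (X 0 + X 1 : MvPolynomial (Fin 2) (ZMod p)) ∈ idealOfVars (Fin 2) (ZMod p) :=
    add_mem (hX 0) (hX 1)
  have hRm : ∀ t : MvPolynomial (Fin 2) (ZMod p), t ∈ idealOfVars (Fin 2) (ZMod p) →
      Polynomial.aeval t R ∈ idealOfVars (Fin 2) (ZMod p) ^ (2 * p - 1) := fun t ht =>
    aeval_mem_pow p t ht R _ fun n hn => Ep_deriv_coeff p n (by omega)
  have hD : ∀ t : MvPolynomial (Fin 2) (ZMod p), Polynomial.aeval t (Polynomial.derivative (Ep p))
      = Polynomial.aeval t R + (1 + t ^ (p - 1)) * Polynomial.aeval t (Ep p) := by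
    intro t
    simp [hR, map_sub]
  have hC : ∀ j, ((X 0 + X 1) ^ (p - 1) - X j ^ (p - 1) : MvPolynomial (Fin 2) (ZMod p)) *
      Cp p (ZMod p) ∈ idealOfVars (Fin 2) (ZMod p) ^ (2 * p - 1) := by
    intro j
    rw [show 2 * p - 1 = (p - 1) + p by omega, pow_add]
    exact Ideal.mul_mem_mul (sub_mem (Ideal.pow_mem_pow hS _) (Ideal.pow_mem_pow (hX j) _))
      (Cp_mem_pow p _)
  fin_cases i
  · show pderiv 0 (Gp p) - (1 + X 0 ^ (p - 1)) * Gp p ∈ _
    have e : pderiv 0 (Gp p) - (1 + X 0 ^ (p - 1)) * Gp p =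
        Polynomial.aeval (X 0 : MvPolynomial (Fin 2) (ZMod p)) R *
            Polynomial.aeval (X 1 : MvPolynomial (Fin 2) (ZMod p)) (Ep p)
        - Polynomial.aeval (X 0 + X 1 : MvPolynomial (Fin 2) (ZMod p)) R * (1 - Cp p (ZMod p))
        + Polynomial.aeval (X 0 + X 1 : MvPolynomial (Fin 2) (ZMod p)) (Ep p) *
            (((X 0 + X 1) ^ (p - 1) - X 0 ^ (p - 1)) * Cp p (ZMod p)) := by
      simp only [Gp, map_sub, pderiv_mul, Derivation.map_aeval, map_add, pderiv_X,
        Pi.single_apply, Fin.reduceEq, if_true, if_false, smul_eq_mul, mul_one, mul_zero,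
        add_zero, zero_add, pderiv_zero_Cp, hD, pderiv_one]
      ring
    rw [e]
    exact add_mem (sub_mem (Ideal.mul_mem_right _ _ (hRm _ (hX 0)))
      (Ideal.mul_mem_right _ _ (hRm _ hS))) (Ideal.mul_mem_left _ _ (hC 0))
  · show pderiv 1 (Gp p) - (1 + X 1 ^ (p - 1)) * Gp p ∈ _
    have e : pderiv 1 (Gp p) - (1 + X 1 ^ (p - 1)) * Gp p =
        Polynomial.aeval (X 0 : MvPolynomial (Fin 2) (ZMod p)) (Ep p) *
            Polynomial.aeval (X 1 : MvPolynomial (Fin 2) (ZMod p)) R
        - Polynomial.aeval (X 0 + X 1 : MvPolynomial (Fin 2) (ZMod p)) R * (1 - Cp p (ZMod p))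
        + Polynomial.aeval (X 0 + X 1 : MvPolynomial (Fin 2) (ZMod p)) (Ep p) *
            (((X 0 + X 1) ^ (p - 1) - X 1 ^ (p - 1)) * Cp p (ZMod p)) := by
      simp only [Gp, map_sub, pderiv_mul, Derivation.map_aeval, map_add, pderiv_X,
        Pi.single_apply, Fin.reduceEq, if_true, if_false, smul_eq_mul, mul_one, mul_zero,
        add_zero, zero_add, pderiv_one_Cp, hD, pderiv_one]
      ring
    rw [e]
    exact add_mem (sub_mem (Ideal.mul_mem_left _ _ (hRm _ (hX 1)))
      (Ideal.mul_mem_right _ _ (hRm _ hS))) (Ideal.mul_mem_left _ _ (hC 1))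

theorem Gp_at_zero : aeval ![(Polynomial.X : Polynomial (ZMod p)), 0] (Gp p) = 0 ∧
    aeval ![(0 : Polynomial (ZMod p)), Polynomial.X] (Gp p) = 0 := by
  have hCp := Cp_isCoc p (ZMod p)
  have h1 := congrArg (aeval ![(Polynomial.X : Polynomial (ZMod p)), 0]) hCp.zero_right
  rw [aeval_comp, map_zero] at h1
  have e : (fun i : Fin 2 => aeval ![(Polynomial.X : Polynomial (ZMod p)), 0]
      (![(X 0 : MvPolynomial (Fin 2) (ZMod p)), 0] i)) = ![Polynomial.X, 0] := by
    funext i; fin_cases i <;> simp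
  rw [e] at h1
  have h2 := congrArg (aeval ![(Polynomial.X : Polynomial (ZMod p)), 0]) hCp.symm
  rw [aeval_comp, h1] at h2
  have e' : (fun i : Fin 2 => aeval ![(Polynomial.X : Polynomial (ZMod p)), 0]
      (![(X 1 : MvPolynomial (Fin 2) (ZMod p)), X 0] i)) = ![0, Polynomial.X] := by
    funext i; fin_cases i <;> simp
  rw [e'] at h2
  have hE : Polynomial.aeval (0 : Polynomial (ZMod p)) (Ep p) = 1 := by
    rw [← Polynomial.coeff_zero_eq_aeval_zero', Ep_zero, map_one]
  constructor <;>
    simp only [Gp, map_sub, map_mul, map_one, ← Polynomial.aeval_algHom_apply, map_add,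
      MvPolynomial.aeval_X, Matrix.cons_val_zero, Matrix.cons_val_one, add_zero, zero_add,
      h1, h2, hE, sub_zero, mul_one, one_mul, sub_self]

theorem Gp_mem : Gp p ∈ idealOfVars (Fin 2) (ZMod p) ^ (2 * p) := by
  classical
  have hp2 := hp.out.two_le
  rw [mem_pow_idealOfVars_iff']
  suffices H : ∀ N (d : Fin 2 →₀ ℕ), d.degree = N → N < 2 * p → coeff d (Gp p) = 0 from
    fun d hd => H _ d rfl hd
  intro N
  induction N using Nat.strong_induction_on with
  | _ N ihN =>
  intro d hd hN
  have key : ∀ i, ¬ p ∣ d i → coeff d (Gp p) = 0 := by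
    intro i hi
    have hne : d i ≠ 0 := fun h => hi (h ▸ dvd_zero p)
    let d' : Fin 2 →₀ ℕ := d - Finsupp.single i 1
    have hd' : d' + Finsupp.single i 1 = d := by
      ext j
      by_cases hj : j = i
      · subst hj; simp [d']; omega
      · simp [d', Ne.symm hj]
    have hdeg : d'.degree + 1 = N := by
      rw [← hd]
      conv_rhs => rw [← hd']
      simp
    have h := (mem_pow_idealOfVars_iff' _ _).mp (pderiv_Gp p i) d' (by omega)
    rw [coeff_sub, coeff_pderiv, hd', add_mul, one_mul, coeff_add, X_pow_eq_monomial,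
      coeff_monomial_mul', one_mul] at h
    have z1 : coeff d' (Gp p) = 0 := ihN _ (by omega) d' rfl (by omega)
    have z2 : (if Finsupp.single i (p - 1) ≤ d' then
        coeff (d' - Finsupp.single i (p - 1)) (Gp p) else 0) = 0 := by
      by_cases hle : Finsupp.single i (p - 1) ≤ d'
      · rw [if_pos hle]
        have : (d' - Finsupp.single i (p - 1)).degree + (p - 1) = d'.degree := by
          conv_rhs => rw [← tsub_add_cancel_of_le hle]
          rw [map_add, Finsupp.degree_single]
        exact ihN _ (by omega) _ rfl (by omega)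
      · rw [if_neg hle]
    rw [z1, z2, add_zero, sub_zero] at h
    have e : ((d' i : ℕ) : ZMod p) + 1 = (d i : ℕ) := by
      have hv : d' i + 1 = d i := by simp [d']; omega
      exact_mod_cast congrArg (Nat.cast : ℕ → ZMod p) hv
    rw [e] at h
    exact (mul_eq_zero.mp h).resolve_right fun h => hi ((ZMod.natCast_eq_zero_iff _ _).mp h)
  by_contra hc
  have h0 : p ∣ d 0 := by_contra fun h => hc (key 0 h)
  have h1 : p ∣ d 1 := by_contra fun h => hc (key 1 h)
  rw [Finsupp.degree_eq_sum, Fin.sum_univ_two] at hd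
  have hz : d 0 = 0 ∨ d 1 = 0 := by
    by_contra hh
    have a0 := Nat.le_of_dvd (by omega) h0
    have a1 := Nat.le_of_dvd (by omega) h1
    omega
  rcases hz with hz | hz
  · have h := congrArg (fun q => Polynomial.coeff q (d 1)) (Gp_at_zero p).2
    simp only [Polynomial.coeff_zero] at h
    refine hc ?_
    rw [← h]
    conv_rhs => rw [as_sum (Gp p), map_sum, Polynomial.finset_sum_coeff]
    by_cases hs : d ∈ (Gp p).support
    · rw [Finset.sum_eq_single d]
      · rw [aeval_monomial, Finsupp.prod_fintype _ _ (fun i => pow_zero _), Fin.prod_univ_two]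
        simp [hz, Polynomial.coeff_X_pow]
      · intro e _ he
        rw [aeval_monomial, Finsupp.prod_fintype _ _ (fun i => pow_zero _), Fin.prod_univ_two]
        by_cases he0 : e 0 = 0
        · have : e 1 ≠ d 1 := fun h => he (by ext j; fin_cases j <;> simp [he0, hz, h])
          simp [he0, Polynomial.coeff_X_pow, Ne.symm this]
        · simp [he0]
      · exact fun h => absurd hs h
    · exact absurd (notMem_support_iff.mp hs) hc
  · have h := congrArg (fun q => Polynomial.coeff q (d 0)) (Gp_at_zero p).1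
    simp only [Polynomial.coeff_zero] at h
    refine hc ?_
    rw [← h]
    conv_rhs => rw [as_sum (Gp p), map_sum, Polynomial.finset_sum_coeff]
    by_cases hs : d ∈ (Gp p).support
    · rw [Finset.sum_eq_single d]
      · rw [aeval_X_zero_monomial, if_pos ⟨rfl, hz⟩]
      · intro e _ he
        rw [aeval_X_zero_monomial, if_neg]
        rintro ⟨a0, a1⟩
        exact he (by ext j; fin_cases j <;> simp [a0, a1, hz])
      · exact fun h => absurd hs h
    · exact absurd (notMem_support_iff.mp hs) hc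

end Exp

section Split

variable {R : Type*} [CommRing R]

/-- `h` is the coboundary of a normalised invertible polynomial. -/
def Spl (h : MvPolynomial (Fin 2) R) : Prop :=
  ∃ f : Polynomial R, IsUnit f ∧ f.coeff 0 = 1 ∧
    Polynomial.aeval (X 0 + X 1 : MvPolynomial (Fin 2) R) f =
      Polynomial.aeval (X 0 : MvPolynomial (Fin 2) R) f *
        Polynomial.aeval (X 1 : MvPolynomial (Fin 2) R) f * h

/-- Normalised symmetric multiplicative cocycles. -/
structure IsMCoc (h : MvPolynomial (Fin 2) R) : Prop where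
  zero_right : aeval ![(X 0 : MvPolynomial (Fin 2) R), 0] h = 1
  symm : aeval ![(X 1 : MvPolynomial (Fin 2) R), X 0] h = h
  cocyc : aeval ![(X 1 : MvPolynomial (Fin 3) R), X 2] h *
      aeval ![(X 0 : MvPolynomial (Fin 3) R), X 1 + X 2] h =
    aeval ![(X 0 + X 1 : MvPolynomial (Fin 3) R), X 2] h *
      aeval ![(X 0 : MvPolynomial (Fin 3) R), X 1] h

theorem IsMCoc.mul {a b : MvPolynomial (Fin 2) R} (ha : IsMCoc a) (hb : IsMCoc b) :
    IsMCoc (a * b) where
  zero_right := by rw [map_mul, ha.zero_right, hb.zero_right, mul_one]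
  symm := by rw [map_mul, ha.symm, hb.symm]
  cocyc := by
    simp only [map_mul]
    rw [mul_mul_mul_comm, mul_mul_mul_comm (aeval ![X 0 + X 1, X 2] a), ha.cocyc, hb.cocyc]

theorem IsMCoc.inv {a b : MvPolynomial (Fin 2) R} (ha : IsMCoc a) (hab : a * b = 1) :
    IsMCoc b where
  zero_right := by
    have h := congrArg (aeval ![(X 0 : MvPolynomial (Fin 2) R), 0]) hab
    rwa [map_mul, ha.zero_right, one_mul, map_one] at h
  symm := by
    have h := congrArg (aeval ![(X 1 : MvPolynomial (Fin 2) R), X 0]) hab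
    rw [map_mul, ha.symm, map_one] at h
    exact (inv_unique h hab)
  cocyc := by
    have e : ∀ v : Fin 2 → MvPolynomial (Fin 3) R, aeval v a * aeval v b = 1 := fun v => by
      rw [← map_mul, hab, map_one]
    refine inv_unique (x := aeval ![(X 1 : MvPolynomial (Fin 3) R), X 2] a *
      aeval ![(X 0 : MvPolynomial (Fin 3) R), X 1 + X 2] a) ?_ ?_
    · rw [mul_mul_mul_comm, e, e, mul_one]
    · rw [ha.cocyc, mul_mul_mul_comm, e, e, mul_one]

theorem isUnit_aeval {f : Polynomial R} (hf : IsUnit f) {σ : Type*} (t : MvPolynomial σ R) :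
    IsUnit (Polynomial.aeval t f) :=
  hf.map (Polynomial.aeval t)

theorem Spl.isMCoc {h : MvPolynomial (Fin 2) R} (hs : Spl h) : IsMCoc h := by
  obtain ⟨f, hf, hf0, he⟩ := hs
  refine ⟨?_, ?_, ?_⟩
  · have h1 := congrArg (aeval ![(X 0 : MvPolynomial (Fin 2) R), 0]) he
    simp only [map_mul, ← Polynomial.aeval_algHom_apply, map_add, MvPolynomial.aeval_X,
      Matrix.cons_val_zero, Matrix.cons_val_one, add_zero] at h1
    rw [← Polynomial.coeff_zero_eq_aeval_zero' (p := f), hf0, map_one, mul_one] at h1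
    exact (isUnit_aeval hf _).mul_left_cancel (h1.symm.trans (mul_one _).symm)
  · have h1 := congrArg (aeval ![(X 1 : MvPolynomial (Fin 2) R), X 0]) he
    simp only [map_mul, ← Polynomial.aeval_algHom_apply, map_add, MvPolynomial.aeval_X,
      Matrix.cons_val_zero, Matrix.cons_val_one] at h1
    rw [add_comm (X 1 : MvPolynomial (Fin 2) R) (X 0), he,
      mul_comm (Polynomial.aeval (X 1 : MvPolynomial (Fin 2) R) f)] at h1
    exact (((isUnit_aeval hf _).mul (isUnit_aeval hf _)).mul_left_cancel h1).symm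
  · have key : ∀ v : Fin 2 → MvPolynomial (Fin 3) R,
        Polynomial.aeval (v 0 + v 1) f =
          Polynomial.aeval (v 0) f * Polynomial.aeval (v 1) f * aeval v h := by
      intro v
      have h1 := congrArg (aeval v) he
      simpa only [map_mul, ← Polynomial.aeval_algHom_apply, map_add, MvPolynomial.aeval_X] using h1
    have k1 := key ![X 1, X 2]
    have k2 := key ![X 0, X 1 + X 2]
    have k3 := key ![X 0 + X 1, X 2]
    have k4 := key ![X 0, X 1]
    simp only [Matrix.cons_val_zero, Matrix.cons_val_one] at k1 k2 k3 k4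
    rw [← add_assoc, k1] at k2
    rw [k4] at k3
    refine ((((isUnit_aeval hf (X 0)).mul (isUnit_aeval hf (X 1))).mul
      (isUnit_aeval hf (X 2))).mul_left_cancel ?_)
    linear_combination k3 - k2

theorem Spl.one : Spl (1 : MvPolynomial (Fin 2) R) :=
  ⟨1, isUnit_one, Polynomial.coeff_one_zero, by simp⟩

theorem Spl.mul {a b : MvPolynomial (Fin 2) R} (ha : Spl a) (hb : Spl b) : Spl (a * b) := by
  obtain ⟨f, hf, hf0, he⟩ := ha
  obtain ⟨g, hg, hg0, he'⟩ := hb
  refine ⟨f * g, hf.mul hg, by rw [Polynomial.mul_coeff_zero, hf0, hg0, mul_one], ?_⟩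
  simp only [map_mul, he, he']
  ring

/-- The defect polynomial of a unit `f`. -/
theorem exists_spl (f : Polynomial R) (hf : IsUnit f) (hf0 : f.coeff 0 = 1) :
    ∃ h inv : MvPolynomial (Fin 2) R, Spl h ∧
      Polynomial.aeval (X 0 : MvPolynomial (Fin 2) R) f *
        Polynomial.aeval (X 1 : MvPolynomial (Fin 2) R) f * inv = 1 ∧
      h = Polynomial.aeval (X 0 + X 1 : MvPolynomial (Fin 2) R) f * inv := by
  obtain ⟨inv, hi⟩ := ((isUnit_aeval hf (X 0 : MvPolynomial (Fin 2) R)).mul
    (isUnit_aeval hf (X 1 : MvPolynomial (Fin 2) R))).exists_right_inv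
  refine ⟨_, inv, ⟨f, hf, hf0, ?_⟩, hi, rfl⟩
  rw [mul_left_comm, hi, mul_one]

variable (p : ℕ) [hp : Fact p.Prime] [Algebra (ZMod p) R]

theorem isUnit_of_nil (f : Polynomial R) (h0 : f.coeff 0 = 1)
    (h : ∀ n, n ≠ 0 → IsNilpotent (f.coeff n)) : IsUnit f :=
  Polynomial.isUnit_iff_coeff_isUnit_isNilpotent.mpr ⟨by rw [h0]; exact isUnit_one, h⟩

/-- Splitting of `c * cobd F`, to second order. -/
theorem split_cobd {J : Ideal R} (hJ : ∀ x ∈ J, IsNilpotent x) {b : R} (hb : b ∈ J)
    (F : Polynomial (ZMod p)) (hF : F.coeff 0 = 0) :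
    ∃ h : MvPolynomial (Fin 2) R, Spl h ∧
      h - 1 - C b * map (algebraMap (ZMod p) R) (cobd F) ∈ Ideal.map C (J * J) := by
  set F' := F.map (algebraMap (ZMod p) R) with hF'
  set f : Polynomial R := 1 + Polynomial.C b * F' with hfdef
  have hf0 : f.coeff 0 = 1 := by simp [hfdef, hF', hF]
  have hf : IsUnit f := isUnit_of_nil f hf0 fun n hn => by
    simp only [hfdef, Polynomial.coeff_add, Polynomial.coeff_one, if_neg hn, zero_add,
      Polynomial.coeff_C_mul]
    exact (Commute.all _ _).isNilpotent_mul_right (hJ b hb)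
  obtain ⟨h, inv, hs, hinv, rfl⟩ := exists_spl f hf hf0
  refine ⟨_, hs, ?_⟩
  have hmapC : map (algebraMap (ZMod p) R) (cobd F) =
      Polynomial.aeval (X 0 + X 1 : MvPolynomial (Fin 2) R) F'
      - Polynomial.aeval (X 0 : MvPolynomial (Fin 2) R) F'
      - Polynomial.aeval (X 1 : MvPolynomial (Fin 2) R) F' := by
    have e : ∀ t : MvPolynomial (Fin 2) (ZMod p),
        map (algebraMap (ZMod p) R) (Polynomial.aeval t F) =
          Polynomial.aeval (map (algebraMap (ZMod p) R) t) F' := by
      intro t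
      rw [hF', Polynomial.aeval_map_algebraMap]
      simp only [Polynomial.aeval_def, Polynomial.hom_eval₂]
      congr 1
      ext r
      simp [algebraMap_eq, IsScalarTower.algebraMap_apply (ZMod p) R (MvPolynomial (Fin 2) R)]
    simp [cobd, map_sub, e]
  rw [hmapC]
  set A := Polynomial.aeval (X 0 : MvPolynomial (Fin 2) R) F'
  set B := Polynomial.aeval (X 1 : MvPolynomial (Fin 2) R) F'
  set S := Polynomial.aeval (X 0 + X 1 : MvPolynomial (Fin 2) R) F'
  have e : ∀ t : MvPolynomial (Fin 2) R,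
      Polynomial.aeval t f = 1 + C b * Polynomial.aeval t F' := by
    intro t
    simp [hfdef, algebraMap_eq]
  rw [e, e] at hinv
  rw [e]
  have : (1 + C b * S) * inv - 1 - C b * (S - A - B) =
      C b * C b * (-(A * B) - (A + B + C b * A * B) * (S - A - B)) * inv := by
    linear_combination (1 + C b * (S - A - B)) * hinv
  rw [this, ← map_mul]
  exact Ideal.mul_mem_right _ _
    (Ideal.mul_mem_right _ _ (Ideal.mem_map_of_mem _ (Ideal.mul_mem_mul hb hb)))

/-- Splitting of `c * Cp^(p^i)`, to second order. -/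
theorem split_Cp [CharP R p] (hFr : Function.Surjective (frobenius R p)) {J : Ideal R}
    (hJ : ∀ x ∈ J, IsNilpotent x) {b : R} (hb : b ∈ J) (i : ℕ) :
    ∃ h : MvPolynomial (Fin 2) R, Spl h ∧
      h - 1 - C b * map (algebraMap (ZMod p) R) (Cp p (ZMod p) ^ p ^ i) ∈
        Ideal.map C (J * J) := by
  obtain ⟨u, hu⟩ := hFr b
  rw [frobenius_def] at hu
  have hun : IsNilpotent u := by
    obtain ⟨n, hn⟩ := hJ b hb
    exact ⟨p * n, by rw [pow_mul, hu, hn]⟩
  set q := p ^ i with hq
  set s : Polynomial R := Polynomial.C u * Polynomial.X ^ q with hs'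
  set f : Polynomial R := Polynomial.aeval s (Ep p) with hfdef
  have hqpos : 0 < q := pow_pos hp.out.pos i
  have hcoeff : ∀ n, f.coeff n =
      if q ∣ n then algebraMap (ZMod p) R ((Ep p).coeff (n / q)) * u ^ (n / q) else 0 := by
    intro n
    rw [hfdef]
    induction (Ep p) using Polynomial.induction_on' with
    | add a c ha hc => simp only [map_add, Polynomial.coeff_add, ha, hc]; split_ifs <;> ring
    | monomial m r =>
      rw [Polynomial.aeval_monomial, hs', mul_pow, ← map_pow, ← pow_mul,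
        IsScalarTower.algebraMap_apply (ZMod p) R (Polynomial R), Polynomial.algebraMap_eq,
        ← mul_assoc, ← map_mul, Polynomial.coeff_C_mul_X_pow, Polynomial.coeff_monomial]
      by_cases hn : n = q * m
      · subst hn
        rw [if_pos rfl, if_pos (dvd_mul_right q m), Nat.mul_div_cancel_left m hqpos, if_pos rfl]
      · rw [if_neg hn]
        split_ifs with hd hm
        · exact absurd (by rw [hm, Nat.mul_div_cancel' hd]) hn
        · simp
        · rfl
  have hf0 : f.coeff 0 = 1 := by rw [hcoeff]; simp [Ep_zero]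
  have hf : IsUnit f := isUnit_of_nil f hf0 fun n hn => by
    rw [hcoeff]
    split_ifs with hd
    · refine (Commute.all _ _).isNilpotent_mul_left ?_
      refine hun.pow_of_pos ?_
      exact (Nat.div_pos (Nat.le_of_dvd (Nat.pos_of_ne_zero hn) hd) hqpos).ne'
    · exact IsNilpotent.zero
  obtain ⟨h, inv, hs, hinv, rfl⟩ := exists_spl f hf hf0
  refine ⟨_, hs, ?_⟩
  let v : Fin 2 → MvPolynomial (Fin 2) R := ![C u * X 0 ^ q, C u * X 1 ^ q]
  have hv : ∀ j, v j ∈ Ideal.span {(C u : MvPolynomial (Fin 2) R)} := by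
    intro j
    fin_cases j <;> exact Ideal.mul_mem_right _ _ (Ideal.mem_span_singleton_self _)
  let φ : MvPolynomial (Fin 2) (ZMod p) →ₐ[ZMod p] MvPolynomial (Fin 2) R := aeval v
  have hmap : Ideal.map φ (idealOfVars (Fin 2) (ZMod p)) ≤
      Ideal.span {(C u : MvPolynomial (Fin 2) R)} := by
    rw [idealOfVars, Ideal.map_span, Ideal.span_le]
    rintro _ ⟨_, ⟨j, rfl⟩, rfl⟩
    simpa [φ] using hv j
  have hG : φ (Gp p) ∈ Ideal.span {(C (b * b) : MvPolynomial (Fin 2) R)} := by
    have h1 := Ideal.mem_map_of_mem φ (Gp_mem p)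
    rw [Ideal.map_pow] at h1
    have h2 := Ideal.pow_right_mono hmap (2 * p) h1
    rwa [Ideal.span_singleton_pow, ← map_pow, show u ^ (2 * p) = b * b by
      rw [← hu]; ring] at h2
  obtain ⟨z, hz⟩ := Ideal.mem_span_singleton'.mp hG
  have haev : ∀ t : MvPolynomial (Fin 2) R,
      Polynomial.aeval t f = Polynomial.aeval (C u * t ^ q) (Ep p) := by
    intro t
    have hst : Polynomial.aeval t s = C u * t ^ q := by simp [hs', algebraMap_eq]
    rw [hfdef, ← hst]
    exact (Polynomial.aeval_algHom_apply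
      ((Polynomial.aeval t : Polynomial R →ₐ[R] MvPolynomial (Fin 2) R).restrictScalars (ZMod p))
      s (Ep p)).symm
  have hCval : φ (Cp p (ZMod p)) =
      C b * map (algebraMap (ZMod p) R) (Cp p (ZMod p) ^ q) := by
    have hhom : (Cp p (ZMod p)).IsHomogeneous p := (C0_homogeneous p).map _
    have hpow : ∀ P : MvPolynomial (Fin 2) (ZMod p), map (algebraMap (ZMod p) R) (P ^ q) =
        aeval (fun j : Fin 2 => (X j : MvPolynomial (Fin 2) R) ^ q) P := by
      intro P
      induction P using MvPolynomial.induction_on with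
      | C r =>
        rw [← map_pow, hq, ZMod.pow_card_pow, map_C, aeval_C,
          IsScalarTower.algebraMap_apply (ZMod p) R (MvPolynomial (Fin 2) R), algebraMap_eq]
      | add a c ha hc => rw [hq, add_pow_char_pow, map_add, map_add, ← hq, ha, hc]
      | mul_X a j ha => rw [mul_pow, map_mul, ha, map_mul, aeval_X, map_pow, map_X]
    rw [hpow, ← hu, map_pow]
    have hvj : v = fun j => C u * (X j : MvPolynomial (Fin 2) R) ^ q := by
      funext j
      fin_cases j <;> rfl
    simp only [φ, hvj, aeval_def, eval₂_eq, Finset.mul_sum]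
    refine Finset.sum_congr rfl fun d hd => ?_
    have hdeg : ∑ j ∈ d.support, d j = p := by
      rw [← Finsupp.degree_apply, Finsupp.degree_eq_weight_one]
      exact hhom (mem_support_iff.mp hd)
    simp only [mul_pow, Finset.prod_mul_distrib, Finset.prod_pow_eq_pow_sum, hdeg]
    ring
  have hφE : ∀ t : MvPolynomial (Fin 2) (ZMod p),
      φ (Polynomial.aeval t (Ep p)) = Polynomial.aeval (φ t) (Ep p) := fun t =>
    (Polynomial.aeval_algHom_apply φ t (Ep p)).symm
  have hkey : Polynomial.aeval (X 0 : MvPolynomial (Fin 2) R) f *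
        Polynomial.aeval (X 1 : MvPolynomial (Fin 2) R) f -
      Polynomial.aeval (X 0 + X 1 : MvPolynomial (Fin 2) R) f *
        (1 - C b * map (algebraMap (ZMod p) R) (Cp p (ZMod p) ^ q)) = z * C (b * b) := by
    rw [hz, ← hCval, haev, haev, haev]
    simp only [Gp, map_sub, map_mul, map_one, hφE, map_add, φ, aeval_X, v, Matrix.cons_val_zero,
      Matrix.cons_val_one]
    rw [hq, add_pow_char_pow, mul_add]
  set A := Polynomial.aeval (X 0 : MvPolynomial (Fin 2) R) f
  set B := Polynomial.aeval (X 1 : MvPolynomial (Fin 2) R) f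
  set S := Polynomial.aeval (X 0 + X 1 : MvPolynomial (Fin 2) R) f
  set D := map (algebraMap (ZMod p) R) (Cp p (ZMod p) ^ q)
  have : S * inv - 1 - C b * D = C (b * b) * ((S * D * D) - z * (1 + C b * D)) * inv := by
    rw [map_mul] at hkey ⊢
    linear_combination (1 + C b * D) * hinv - inv * (1 + C b * D) * hkey
  rw [this]
  exact Ideal.mul_mem_right _ _
    (Ideal.mul_mem_right _ _ (Ideal.mem_map_of_mem _ (Ideal.mul_mem_mul hb hb)))

/-- Every first-order elementary cocycle is split to second order. -/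
theorem split_elem [CharP R p] (hFr : Function.Surjective (frobenius R p)) {J : Ideal R}
    (hJ : ∀ x ∈ J, IsNilpotent x) {a : MvPolynomial (Fin 2) (ZMod p)} (ha : a ∈ elem p) :
    ∀ b ∈ J, ∃ h : MvPolynomial (Fin 2) R, Spl h ∧
      h - 1 - C b * map (algebraMap (ZMod p) R) a ∈ Ideal.map C (J * J) := by
  induction ha using Submodule.span_induction with
  | mem x hx =>
    intro b hb
    rcases hx with ⟨F, hF, rfl⟩ | ⟨i, rfl⟩
    · exact split_cobd p hJ hb F hF
    · exact split_Cp p hFr hJ hb i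
  | zero => exact fun b _ => ⟨1, Spl.one, by simp⟩
  | add x y _ _ hx hy =>
    intro b hb
    obtain ⟨h, hs, hm⟩ := hx b hb
    obtain ⟨g, gs, gm⟩ := hy b hb
    refine ⟨h * g, hs.mul gs, ?_⟩
    have hbb : C b * map (algebraMap (ZMod p) R) x * (C b * map (algebraMap (ZMod p) R) y) ∈
        (Ideal.map C (J * J) : Ideal (MvPolynomial (Fin 2) R)) := by
      rw [mul_mul_mul_comm, ← map_mul C]
      exact Ideal.mul_mem_right _ _ (Ideal.mem_map_of_mem _ (Ideal.mul_mem_mul hb hb))
    have e : h * g - 1 - C b * map (algebraMap (ZMod p) R) (x + y) =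
        (h - 1 - C b * map (algebraMap (ZMod p) R) x) * g
        + (1 + C b * map (algebraMap (ZMod p) R) x) *
            (g - 1 - C b * map (algebraMap (ZMod p) R) y)
        + C b * map (algebraMap (ZMod p) R) x * (C b * map (algebraMap (ZMod p) R) y) := by
      rw [map_add]; ring
    rw [e]
    exact add_mem (add_mem (Ideal.mul_mem_right _ _ hm) (Ideal.mul_mem_left _ _ gm)) hbb
  | smul c x _ hx =>
    intro b hb
    obtain ⟨h, hs, hm⟩ := hx (algebraMap (ZMod p) R c * b) (J.mul_mem_left _ hb)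
    refine ⟨h, hs, ?_⟩
    rwa [smul_eq_C_mul, map_mul, map_C, ← mul_assoc, ← map_mul, mul_comm b]

theorem map_aeval_algebraMap {σ τ : Type*} (w : σ → MvPolynomial τ (ZMod p))
    (a : MvPolynomial σ (ZMod p)) :
    map (algebraMap (ZMod p) R) (aeval w a) =
      aeval (fun i => map (algebraMap (ZMod p) R) (w i)) (map (algebraMap (ZMod p) R) a) :=
  map_aeval_comm _ _ _

/-- Coefficientwise application of a linear functional. -/
noncomputable def coeffMap {M : Type*} [CommRing M] [Algebra (ZMod p) M]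
    (φ : M →ₗ[ZMod p] ZMod p) {σ : Type*} (a : MvPolynomial σ M) :
    MvPolynomial σ (ZMod p) :=
  ∑ d ∈ a.support, monomial d (φ (coeff d a))

theorem coeff_coeffMap {M : Type*} [CommRing M] [Algebra (ZMod p) M]
    (φ : M →ₗ[ZMod p] ZMod p) {σ : Type*} (a : MvPolynomial σ M) (d : σ →₀ ℕ) :
    coeff d (coeffMap p φ a) = φ (coeff d a) := by
  classical
  simp only [coeffMap, coeff_sum, coeff_monomial, Finset.sum_ite_eq']
  split_ifs with h
  · rfl
  · rw [notMem_support_iff.mp h, map_zero]

theorem coeffMap_add {M : Type*} [CommRing M] [Algebra (ZMod p) M]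
    (φ : M →ₗ[ZMod p] ZMod p) {σ : Type*} (a b : MvPolynomial σ M) :
    coeffMap p φ (a + b) = coeffMap p φ a + coeffMap p φ b := by
  ext d
  simp [coeff_coeffMap]

theorem coeffMap_C_mul {M : Type*} [CommRing M] [Algebra (ZMod p) M]
    (φ : M →ₗ[ZMod p] ZMod p) {σ : Type*} (r : M) (a : MvPolynomial σ (ZMod p)) :
    coeffMap p φ (C r * map (algebraMap (ZMod p) M) a) = C (φ r) * a := by
  ext d
  rw [coeff_coeffMap, coeff_C_mul, coeff_map, ← Algebra.commutes, ← Algebra.smul_def, map_smul,
    smul_eq_mul, coeff_C_mul, mul_comm]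

theorem coeffMap_aeval {M : Type*} [CommRing M] [Algebra (ZMod p) M]
    (φ : M →ₗ[ZMod p] ZMod p) {σ τ : Type*} (w : σ → MvPolynomial τ (ZMod p))
    (v : σ → MvPolynomial τ M) (hv : ∀ i, map (algebraMap (ZMod p) M) (w i) = v i)
    (a : MvPolynomial σ M) :
    coeffMap p φ (aeval v a) = aeval w (coeffMap p φ a) := by
  induction a using MvPolynomial.induction_on' with
  | add f g hf hg => rw [map_add, coeffMap_add, coeffMap_add, map_add, hf, hg]
  | monomial d r =>
    classical
    have e1 : aeval v (monomial d r) = C r * map (algebraMap (ZMod p) M) (aeval w (monomial d (1 : ZMod p))) := by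
      simp only [aeval_monomial, Finsupp.prod, map_prod, map_mul, map_pow, hv, map_one, one_mul,
        algebraMap_eq]
    rw [e1, coeffMap_C_mul]
    have e2 : coeffMap p φ (monomial d r) = C (φ r) * monomial d (1 : ZMod p) := by
      ext e
      rw [coeff_coeffMap, coeff_C_mul, coeff_monomial, coeff_monomial]
      split_ifs <;> simp
    rw [e2, map_mul, aeval_C, algebraMap_eq]

theorem map_nilpotent_ideal {σ : Type*} {J : Ideal R} {a : MvPolynomial σ R} {τ : Type*}
    (v : σ → MvPolynomial τ R) (ha : a ∈ Ideal.map C J) : aeval v a ∈ Ideal.map C J := by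
  have h := Ideal.mem_map_of_mem (aeval v : MvPolynomial σ R →ₐ[R] MvPolynomial τ R) ha
  refine (Ideal.map_le_iff_le_comap.mpr ?_) h
  refine Ideal.map_le_iff_le_comap.mpr fun r hr => ?_
  simp only [Ideal.mem_comap, aeval_C, algebraMap_eq]
  exact Ideal.mem_map_of_mem _ hr

/-- One step: kill the part of a multiplicative cocycle of order `j`. -/
theorem step [CharP R p] (hFr : Function.Surjective (frobenius R p)) {J L : Ideal R}
    (hJ : ∀ x ∈ J, IsNilpotent x) (hJL : J * J ≤ L) {h : MvPolynomial (Fin 2) R}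
    (hc : IsMCoc h) (hh : h - 1 ∈ Ideal.map C J) :
    ∃ h0 : MvPolynomial (Fin 2) R, Spl h0 ∧ h - h0 ∈ Ideal.map C L := by
  classical
  set a := h - 1 with ha
  set Q := Ideal.Quotient.mk L with hQ
  set abar := map Q a with habar
  have hker : ∀ {σ : Type} (P : MvPolynomial σ R), P ∈ Ideal.map C L ↔ map Q P = 0 := by
    intro σ P
    rw [← RingHom.mem_ker, ker_map, hQ, Ideal.mk_ker]
  have hmapL : Ideal.map C (J * J) ≤ (Ideal.map C L : Ideal (MvPolynomial (Fin 2) R)) :=
    Ideal.map_mono hJL
  -- the first order cocycle equations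
  have z1 : aeval ![(X 0 : MvPolynomial (Fin 2) (R ⧸ L)), 0] abar = 0 := by
    have h1 : aeval ![(X 0 : MvPolynomial (Fin 2) R), 0] a = 0 := by
      rw [ha, map_sub, hc.zero_right, map_one, sub_self]
    have h2 := congrArg (map Q) h1
    rw [map_aeval_comm, map_zero] at h2
    rw [show (fun i => map Q (![(X 0 : MvPolynomial (Fin 2) R), 0] i)) =
        ![(X 0 : MvPolynomial (Fin 2) (R ⧸ L)), 0] by funext i; fin_cases i <;> simp] at h2
    exact h2
  have z2 : aeval ![(X 1 : MvPolynomial (Fin 2) (R ⧸ L)), X 0] abar = abar := by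
    have h1 : aeval ![(X 1 : MvPolynomial (Fin 2) R), X 0] a = a := by
      rw [ha, map_sub, hc.symm, map_one]
    have h2 := congrArg (map Q) h1
    rw [map_aeval_comm] at h2
    rw [habar]
    conv_rhs => rw [← h2]
    congr 2
    funext i; fin_cases i <;> simp
  have z3 : aeval ![(X 1 : MvPolynomial (Fin 3) (R ⧸ L)), X 2] abar +
      aeval ![(X 0 : MvPolynomial (Fin 3) (R ⧸ L)), X 1 + X 2] abar =
    aeval ![(X 0 + X 1 : MvPolynomial (Fin 3) (R ⧸ L)), X 2] abar +
      aeval ![(X 0 : MvPolynomial (Fin 3) (R ⧸ L)), X 1] abar := by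
    set a1 := aeval ![(X 1 : MvPolynomial (Fin 3) R), X 2] a with h1'
    set a2 := aeval ![(X 0 : MvPolynomial (Fin 3) R), X 1 + X 2] a with h2'
    set a3 := aeval ![(X 0 + X 1 : MvPolynomial (Fin 3) R), X 2] a with h3'
    set a4 := aeval ![(X 0 : MvPolynomial (Fin 3) R), X 1] a with h4'
    have e : h = 1 + a := by rw [ha]; ring
    have hco := hc.cocyc
    rw [e] at hco
    simp only [map_add, map_one, ← h1', ← h2', ← h3', ← h4'] at hco
    have hm : ∀ v : Fin 2 → MvPolynomial (Fin 3) R, aeval v a ∈ Ideal.map C J := fun v =>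
      map_nilpotent_ideal v hh
    have hJJ : ∀ x y : MvPolynomial (Fin 3) R, x ∈ Ideal.map C J → y ∈ Ideal.map C J →
        x * y ∈ Ideal.map C L := fun x y hx hy => by
      refine Ideal.map_mono hJL ?_
      rw [Ideal.map_mul]
      exact Ideal.mul_mem_mul hx hy
    have hd : a1 + a2 - (a3 + a4) ∈ (Ideal.map C L : Ideal (MvPolynomial (Fin 3) R)) := by
      rw [show a1 + a2 - (a3 + a4) = a3 * a4 - a1 * a2 by linear_combination hco]
      exact sub_mem (hJJ _ _ (hm _) (hm _)) (hJJ _ _ (hm _) (hm _))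
    rw [hker, map_sub, map_add, map_add, sub_eq_zero] at hd
    simp only [h1', h2', h3', h4', map_aeval_comm] at hd
    have e' : ∀ (x y : MvPolynomial (Fin 3) R), (fun i : Fin 2 => map Q (![x, y] i)) =
        ![map Q x, map Q y] := by
      intro x y; funext i; fin_cases i <;> simp
    simp only [e', map_add, map_X] at hd
    exact hd
  -- decompose over the span of the coefficients
  let V : Submodule (ZMod p) (R ⧸ L) :=
    Submodule.span (ZMod p) ↑(abar.support.image fun d => coeff d abar)
  have hVfin : Module.Finite (ZMod p) V :=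
    Module.Finite.iff_fg.mpr (Submodule.fg_span (Finset.finite_toSet _))
  have hmemV : ∀ d, coeff d abar ∈ V := fun d => by
    by_cases hd : d ∈ abar.support
    · exact Submodule.subset_span (Finset.mem_image_of_mem _ hd)
    · rw [notMem_support_iff.mp hd]; exact zero_mem _
  let bs := Module.finBasis (ZMod p) V
  have hJV : ∀ x : V, ∃ r ∈ J, Q r = (x : R ⧸ L) := by
    rintro ⟨x, hx⟩
    induction hx using Submodule.span_induction with
    | mem x hx =>
      obtain ⟨d, _, rfl⟩ := Finset.mem_image.mp hx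
      exact ⟨coeff d a, mem_map_C_iff.mp hh d, (coeff_map _ _ _).symm⟩
    | zero => exact ⟨0, zero_mem _, map_zero _⟩
    | add x y _ _ hx hy =>
      obtain ⟨r, hr, hr'⟩ := hx
      obtain ⟨s, hs, hs'⟩ := hy
      exact ⟨r + s, add_mem hr hs, by rw [map_add, hr', hs']⟩
    | smul c x _ hx =>
      obtain ⟨r, hr, hr'⟩ := hx
      refine ⟨algebraMap (ZMod p) R c * r, J.mul_mem_left _ hr, ?_⟩
      rw [map_mul, hr']
      exact (Algebra.smul_def c x).symm
  choose r hrJ hrQ using fun k => hJV (bs k)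
  have hext : ∀ k, ∃ φ : (R ⧸ L) →ₗ[ZMod p] ZMod p, φ.comp V.subtype = bs.coord k := fun k =>
    LinearMap.exists_extend _
  choose φ hφ using hext
  have hcoc : ∀ k, IsCoc (coeffMap p (φ k) abar) := by
    intro k
    refine ⟨?_, ?_, ?_⟩
    · rw [← coeffMap_aeval p (φ k) _ ![(X 0 : MvPolynomial (Fin 2) (R ⧸ L)), 0]
        (fun i => by fin_cases i <;> simp), z1]
      simp [coeffMap]
    · rw [← coeffMap_aeval p (φ k) _ ![(X 1 : MvPolynomial (Fin 2) (R ⧸ L)), X 0]
        (fun i => by fin_cases i <;> simp), z2]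
    · rw [← coeffMap_aeval p (φ k) _ ![(X 1 : MvPolynomial (Fin 3) (R ⧸ L)), X 2]
          (fun i => by fin_cases i <;> simp),
        ← coeffMap_aeval p (φ k) _ ![(X 0 : MvPolynomial (Fin 3) (R ⧸ L)), X 1 + X 2]
          (fun i => by fin_cases i <;> simp),
        ← coeffMap_aeval p (φ k) _ ![(X 0 + X 1 : MvPolynomial (Fin 3) (R ⧸ L)), X 2]
          (fun i => by fin_cases i <;> simp),
        ← coeffMap_aeval p (φ k) _ ![(X 0 : MvPolynomial (Fin 3) (R ⧸ L)), X 1]
          (fun i => by fin_cases i <;> simp),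
        ← coeffMap_add, ← coeffMap_add, z3]
  choose g hg1 hg2 using fun k =>
    split_elem p hFr hJ (mem_elem p _ _ le_rfl (hcoc k)) (r k) (hrJ k)
  refine ⟨∏ k, g k, ?_, ?_⟩
  · exact Finset.prod_induction g Spl (fun _ _ => Spl.mul) Spl.one (fun k _ => hg1 k)
  · rw [hker, map_sub, map_prod, sub_eq_zero]
    have hgk : ∀ k, map Q (g k) =
        1 + C (bs k : R ⧸ L) * map (algebraMap (ZMod p) (R ⧸ L)) (coeffMap p (φ k) abar) := by
      intro k
      have := (hker _).mp (hmapL (hg2 k))
      rw [map_sub, map_sub, map_one, map_mul, map_C, hrQ, map_map, sub_eq_zero,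
        sub_eq_iff_eq_add'] at this
      rw [this, hQ, ← Ideal.Quotient.algebraMap_eq L, ← IsScalarTower.algebraMap_eq]
    have hsq : ∀ (x y : V), (x : R ⧸ L) * y = 0 := fun x y => by
      obtain ⟨s, hs, hs'⟩ := hJV x
      obtain ⟨s', hs1, hs1'⟩ := hJV y
      rw [← hs', ← hs1', ← map_mul, Ideal.Quotient.eq_zero_iff_mem]
      exact hJL (Ideal.mul_mem_mul hs hs1)
    have hprod : ∀ T : Finset (Fin (Module.finrank (ZMod p) V)), ∏ k ∈ T, map Q (g k) =
        1 + ∑ k ∈ T,
          C (bs k : R ⧸ L) * map (algebraMap (ZMod p) (R ⧸ L)) (coeffMap p (φ k) abar) := by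
      intro T
      induction T using Finset.induction_on with
      | empty => simp
      | @insert k T hk ihT =>
        rw [Finset.prod_insert hk, ihT, Finset.sum_insert hk, hgk, mul_add, mul_one, add_mul,
          one_mul, Finset.mul_sum T _ (C _ * _)]
        have : ∀ l ∈ T, C (bs k : R ⧸ L) *
            map (algebraMap (ZMod p) (R ⧸ L)) (coeffMap p (φ k) abar) *
            (C (bs l : R ⧸ L) * map (algebraMap (ZMod p) (R ⧸ L)) (coeffMap p (φ l) abar)) = 0 := by
          intro l _
          rw [mul_mul_mul_comm, ← map_mul C, hsq, map_zero, zero_mul]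
        rw [Finset.sum_eq_zero this]
        ring
    rw [hprod Finset.univ, show map Q h = 1 + abar by rw [habar, ha, map_sub, map_one]; ring]
    congr 1
    ext d
    rw [coeff_sum]
    have hd := congrArg (fun x : V => (x : R ⧸ L)) (bs.sum_repr ⟨coeff d abar, hmemV d⟩).symm
    simp only [Submodule.coe_sum, Submodule.coe_smul] at hd
    refine hd.trans (Finset.sum_congr rfl fun k _ => ?_)
    rw [coeff_C_mul, coeff_map (algebraMap (ZMod p) (R ⧸ L)) (coeffMap p (φ k) abar) d,
      coeff_coeffMap]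
    refine (Algebra.smul_def _ _).trans ((mul_comm _ _).trans ?_)
    congr 2
    exact (LinearMap.congr_fun (hφ k) ⟨coeff d abar, hmemV d⟩).symm

/-- Multiplicative cocycles split. -/
theorem spl_of_isMCoc [CharP R p] (hFr : Function.Surjective (frobenius R p))
    {h : MvPolynomial (Fin 2) R} (hu : IsUnit h) (hc : IsMCoc h) : Spl h := by
  classical
  have hcoef : ∀ d, IsNilpotent (coeff d (h - 1)) := by
    have hz : coeff 0 h = 1 := by
      have h2 := congrArg (aeval (fun _ => (0 : R))) hc.zero_right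
      rw [aeval_comp, map_one] at h2
      have e : (fun i : Fin 2 => aeval (fun _ => (0 : R))
          (![(X 0 : MvPolynomial (Fin 2) R), 0] i)) = 0 := by
        funext i; fin_cases i <;> simp
      rw [e] at h2
      simpa [← constantCoeff_eq] using h2
    intro d
    rw [coeff_sub, coeff_one]
    by_cases hd : (0 : Fin 2 →₀ ℕ) = d
    · subst hd; simp [hz]
    · rw [if_neg hd, sub_zero]
      exact (MvPolynomial.isUnit_iff.mp hu).2 d (Ne.symm hd)
  let I : Ideal R := Ideal.span ((fun d => coeff d (h - 1)) '' ↑(h - 1).support)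
  have hI : I ≤ nilradical R := by
    rw [Ideal.span_le]
    rintro _ ⟨d, _, rfl⟩
    exact mem_nilradical.mpr (hcoef d)
  obtain ⟨N, hN⟩ := (Ideal.FG.isNilpotent_iff_le_nilradical
    (Submodule.fg_span ((Finset.finite_toSet _).image _))).mpr hI
  suffices H : ∀ m j, N ≤ j + m → 1 ≤ j → ∀ h : MvPolynomial (Fin 2) R, IsMCoc h →
      h - 1 ∈ Ideal.map C (I ^ j) → Spl h by
    refine H N 1 (by omega) le_rfl h hc ?_
    rw [pow_one, mem_map_C_iff]
    intro d
    by_cases hd : d ∈ (h - 1).support
    · exact Ideal.subset_span ⟨d, hd, rfl⟩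
    · rw [notMem_support_iff.mp hd]; exact zero_mem _
  intro m
  induction m with
  | zero =>
    intro j hj _ h _ hh
    have : I ^ j = ⊥ := by
      rw [eq_bot_iff]
      exact (Ideal.pow_le_pow_right (by omega)).trans hN.le
    rw [this, Ideal.map_bot, Ideal.mem_bot, sub_eq_zero] at hh
    exact hh ▸ Spl.one
  | succ m ihm =>
    intro j hj h1 h hc hh
    obtain ⟨h0, hs0, hd⟩ := step p hFr (J := I ^ j) (L := I ^ (j + 1))
      (fun x hx => mem_nilradical.mp (hI (Ideal.pow_le_self (by omega) hx)))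
      (by rw [← pow_add]; exact Ideal.pow_le_pow_right (by omega)) hc hh
    obtain ⟨f, hf, hf0, hfe⟩ := id hs0
    have hu0 : IsUnit h0 := by
      have := isUnit_aeval hf (X 0 + X 1 : MvPolynomial (Fin 2) R)
      rw [hfe] at this
      exact isUnit_of_mul_isUnit_right this
    obtain ⟨i0, hi0⟩ := hu0.exists_right_inv
    have key : Spl (h * i0) := by
      refine ihm (j + 1) (by omega) (by omega) _ (hc.mul (hs0.isMCoc.inv hi0)) ?_
      rw [show h * i0 - 1 = (h - h0) * i0 by rw [sub_mul, hi0]]
      exact Ideal.mul_mem_right _ _ hd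
    have e : h = h0 * (h * i0) := by rw [mul_left_comm, hi0, mul_one]
    rw [e]
    exact hs0.mul key

end Split

end H8SymCoc
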