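import Groth.Agent.Lib.H8SymCocycle

/-!
# Classification of symmetric additive cocycles over a ring of characteristic `p`
-/

open MvPolynomial

namespace H8SymCoc

variable (p : ℕ) [hp : Fact p.Prime] {R : Type*} [CommRing R] [CharP R p]

/-- The explicit reduced polynomial. -/
noncomputable def Sexp (R : Type*) [CommRing R] : MvPolynomial (Fin 2) R :=
  ∑ j ∈ Finset.Ioo 0 p, C ((p.choose j / p : ℕ) : R) * X 0 ^ j * X 1 ^ (p - j)

theorem Sexp_int : (Sexp p ℤ) = C0 p := by
  classical
  refine mul_left_cancel₀ (Cp_ne_zero p (σ := Fin 2)) ?_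
  rw [C0_spec, Sexp, Finset.mul_sum]
  simp only [cobd, map_pow, Polynomial.aeval_X]
  rw [add_pow, show Finset.range (p + 1) = insert 0 (insert p (Finset.Ioo 0 p)) by
    ext x; simp; omega, Finset.sum_insert (by simp; exact hp.out.ne_zero.symm),
    Finset.sum_insert (by simp)]
  simp only [pow_zero, Nat.sub_zero, one_mul, Nat.choose_zero_right, Nat.cast_one, mul_one,
    Nat.sub_self, Nat.choose_self]
  rw [show (X 1 ^ p + (X 0 ^ p + ∑ x ∈ Finset.Ioo 0 p,
      X 0 ^ x * X 1 ^ (p - x) * (p.choose x : MvPolynomial (Fin 2) ℤ)) - X 0 ^ p - X 1 ^ p) =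
      ∑ x ∈ Finset.Ioo 0 p,
        X 0 ^ x * X 1 ^ (p - x) * (p.choose x : MvPolynomial (Fin 2) ℤ) by ring]
  refine Finset.sum_congr rfl fun j hj => ?_
  simp at hj
  have h : p * (p.choose j / p) = p.choose j :=
    Nat.mul_div_cancel' (hp.out.dvd_choose_self (by omega) hj.2)
  rw [← map_natCast (C : ℤ →+* MvPolynomial (Fin 2) ℤ) (p.choose j)]
  conv_rhs => rw [← h]
  push_cast
  rw [map_mul]
  ring

theorem Sexp_eq : Sexp p R = Cp p R := by
  rw [Cp, ← Sexp_int, Sexp, Sexp, map_sum]
  refine Finset.sum_congr rfl fun j _ => ?_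
  simp only [map_mul, map_natCast, map_pow, map_X]

theorem aeval_pow_Cp (i : ℕ) :
    aeval ![(X 0 : MvPolynomial (Fin 2) R) ^ p ^ i, X 1 ^ p ^ i] (Sexp p R) =
      Cp p R ^ p ^ i := by
  rw [Sexp_eq]
  have key : ∀ P : MvPolynomial (Fin 2) (ZMod p),
      map (ZMod.castHom dvd_rfl R) (P ^ p ^ i) =
        aeval ![(X 0 : MvPolynomial (Fin 2) R) ^ p ^ i, X 1 ^ p ^ i]
          (map (ZMod.castHom dvd_rfl R) P) := by
    intro P
    induction P using MvPolynomial.induction_on with
    | C r => rw [← map_pow, ZMod.pow_card_pow, map_C, aeval_C, algebraMap_eq]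
    | add a c ha hc => rw [add_pow_char_pow, map_add, map_add, map_add, ha, hc]
    | mul_X a j ha =>
      rw [mul_pow, map_mul, map_mul, map_mul, ha, map_pow, map_X, aeval_X]
      fin_cases j <;> rfl
  rw [← Cp_map p (ZMod p) (ZMod.castHom dvd_rfl R), ← key, map_pow, Cp_map]

/-- The predicate of the classification. -/
def Standard (F : MvPolynomial (Fin 2) R) : Prop :=
  ∃ (G : Polynomial R) (N : ℕ) (r : ℕ → R),
    F = cobd G + ∑ i ∈ Finset.range N, C (r i) * Cp p R ^ p ^ i

omit hp [CharP R p] in
theorem cobd_add (F G : Polynomial R) : cobd (F + G) = cobd F + cobd G := by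
  simp [cobd, map_add]; ring

omit hp [CharP R p] in
theorem cobd_C_mul (c : R) (F : Polynomial R) : cobd (Polynomial.C c * F) = C c * cobd F := by
  simp [cobd, map_mul, algebraMap_eq]; ring

omit [CharP R p] in
theorem Standard.zero : Standard p (0 : MvPolynomial (Fin 2) R) :=
  ⟨0, 0, fun _ => 0, by simp [cobd]⟩

omit [CharP R p] in
theorem Standard.add {F F' : MvPolynomial (Fin 2) R} (h : Standard p F) (h' : Standard p F') :
    Standard p (F + F') := by
  obtain ⟨G, N, r, rfl⟩ := h
  obtain ⟨G', N', r', rfl⟩ := h'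
  refine ⟨G + G', max N N', fun i => (if i < N then r i else 0) + if i < N' then r' i else 0, ?_⟩
  simp only [map_add, add_mul, Finset.sum_add_distrib, cobd_add]
  have e : ∀ (M : ℕ) (s : ℕ → R), M ≤ max N N' → ∑ i ∈ Finset.range (max N N'),
      C (if i < M then s i else 0) * Cp p R ^ p ^ i =
      ∑ i ∈ Finset.range M, C (s i) * Cp p R ^ p ^ i := by
    intro M s hM
    rw [← Finset.sum_subset (Finset.range_mono hM) (fun i _ hi => by
      simp at hi; rw [if_neg (by omega)]; simp)]
    refine Finset.sum_congr rfl fun i hi => ?_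
    simp at hi
    rw [if_pos hi]
  rw [e N r (le_max_left _ _), e N' r' (le_max_right _ _)]
  ring

omit [CharP R p] in
theorem Standard.C_mul {F : MvPolynomial (Fin 2) R} (h : Standard p F) (c : R) :
    Standard p (C c * F) := by
  obtain ⟨G, N, r, rfl⟩ := h
  refine ⟨Polynomial.C c * G, N, fun i => c * r i, ?_⟩
  rw [cobd_C_mul, mul_add, Finset.mul_sum]
  congr 1
  exact Finset.sum_congr rfl fun i _ => by rw [map_mul, mul_assoc]

theorem standard_of_elem [Algebra (ZMod p) R] {a : MvPolynomial (Fin 2) (ZMod p)}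
    (ha : a ∈ elem p) : Standard p (map (algebraMap (ZMod p) R) a) := by
  induction ha using Submodule.span_induction with
  | mem x hx =>
    rcases hx with ⟨F, -, rfl⟩ | ⟨i, rfl⟩
    · refine ⟨F.map (algebraMap (ZMod p) R), 0, fun _ => 0, ?_⟩
      rw [Finset.range_zero, Finset.sum_empty, add_zero]
      induction F using Polynomial.induction_on' with
      | add f g hf hg => rw [cobd_add, map_add, Polynomial.map_add, cobd_add, hf, hg]
      | monomial n r => simp [cobd, map_sub, Polynomial.aeval_monomial, algebraMap_eq]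
    · refine ⟨0, i + 1, fun j => if j = i then 1 else 0, ?_⟩
      rw [Finset.sum_eq_single i (fun j _ hj => by simp [hj]) (fun h => by simp at h)]
      simp only [if_pos, map_one, one_mul, map_pow, Cp_map]
      simp [cobd]
  | zero => rw [map_zero]; exact Standard.zero p
  | add x y _ _ hx hy => rw [map_add]; exact hx.add p hy
  | smul c x _ hx =>
    rw [smul_eq_C_mul, map_mul, map_C]
    exact hx.C_mul p _

theorem standard_of_isCoc {F : MvPolynomial (Fin 2) R} (hF : IsCoc F) : Standard p F := by
  classical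
  letI := ZMod.algebra R p
  let V : Submodule (ZMod p) R :=
    Submodule.span (ZMod p) ↑(F.support.image fun d => coeff d F)
  have hVfin : Module.Finite (ZMod p) V :=
    Module.Finite.iff_fg.mpr (Submodule.fg_span (Finset.finite_toSet _))
  have hmemV : ∀ d, coeff d F ∈ V := fun d => by
    by_cases hd : d ∈ F.support
    · exact Submodule.subset_span (Finset.mem_image_of_mem _ hd)
    · rw [notMem_support_iff.mp hd]; exact zero_mem _
  let bs := Module.finBasis (ZMod p) V
  have hext : ∀ k, ∃ φ : R →ₗ[ZMod p] ZMod p, φ.comp V.subtype = bs.coord k := fun k =>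
    LinearMap.exists_extend _
  choose φ hφ using hext
  have hcoc : ∀ k, IsCoc (coeffMap p (φ k) F) := by
    intro k
    refine ⟨?_, ?_, ?_⟩
    · rw [← coeffMap_aeval p (φ k) _ ![(X 0 : MvPolynomial (Fin 2) R), 0]
        (fun i => by fin_cases i <;> simp), hF.zero_right]
      simp [coeffMap]
    · rw [← coeffMap_aeval p (φ k) _ ![(X 1 : MvPolynomial (Fin 2) R), X 0]
        (fun i => by fin_cases i <;> simp), hF.symm]
    · rw [← coeffMap_aeval p (φ k) _ ![(X 1 : MvPolynomial (Fin 3) R), X 2]
          (fun i => by fin_cases i <;> simp),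
        ← coeffMap_aeval p (φ k) _ ![(X 0 : MvPolynomial (Fin 3) R), X 1 + X 2]
          (fun i => by fin_cases i <;> simp),
        ← coeffMap_aeval p (φ k) _ ![(X 0 + X 1 : MvPolynomial (Fin 3) R), X 2]
          (fun i => by fin_cases i <;> simp),
        ← coeffMap_aeval p (φ k) _ ![(X 0 : MvPolynomial (Fin 3) R), X 1]
          (fun i => by fin_cases i <;> simp),
        ← coeffMap_add, ← coeffMap_add, hF.cocyc]
  have e : F = ∑ k, C (bs k : R) * map (algebraMap (ZMod p) R) (coeffMap p (φ k) F) := by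
    ext d
    rw [coeff_sum]
    have hd := congrArg (fun x : V => (x : R)) (bs.sum_repr ⟨coeff d F, hmemV d⟩).symm
    simp only [Submodule.coe_sum, Submodule.coe_smul] at hd
    refine hd.trans (Finset.sum_congr rfl fun k _ => ?_)
    rw [coeff_C_mul, coeff_map (algebraMap (ZMod p) R) (coeffMap p (φ k) F) d, coeff_coeffMap]
    refine (Algebra.smul_def _ _).trans ((mul_comm _ _).trans ?_)
    congr 2
    exact (LinearMap.congr_fun (hφ k) ⟨coeff d F, hmemV d⟩).symm
  rw [e]
  exact Finset.sum_induction _ (Standard p) (fun _ _ h h' => h.add p h') (Standard.zero p)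
    fun k _ => (standard_of_elem p (mem_elem p _ _ le_rfl (hcoc k))).C_mul p _

end H8SymCoc
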