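import Mathlib
import Groth.Agent.Lib.H8HeightOne
import Groth.Agent.Lib.H8LineChar

/-!
# Truncated polynomial algebras and height one group schemes
-/

set_option autoImplicit false

universe u v

open TensorProduct MvPolynomial

noncomputable section

namespace Groth.Agent.H8Trunc

section Trunc

variable {R : Type u} [CommRing R] {A : Type v} [CommRing A] [Algebra R A] {p : ℕ} {d : ℕ}

/-- The truncation ideal. -/
def truncIdeal (R : Type u) [CommRing R] (p d : ℕ) : Ideal (MvPolynomial (Fin d) R) :=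
  Ideal.span (Set.range fun i : Fin d => (X i : MvPolynomial (Fin d) R) ^ p)

/-- An algebra with a basis of truncated monomials is a truncated polynomial algebra. -/
theorem nonempty_algEquiv (x : Fin d → A) (hx : ∀ i, x i ^ p = 0)
    (hli : LinearIndependent R fun a : Fin d → Fin p => ∏ i, x i ^ (a i : ℕ))
    (hsp : Submodule.span R (Set.range fun a : Fin d → Fin p => ∏ i, x i ^ (a i : ℕ)) = ⊤) :
    Nonempty (A ≃ₐ[R] (MvPolynomial (Fin d) R ⧸ truncIdeal R p d)) := by
  classical
  set J := truncIdeal R p d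
  let q : (MvPolynomial (Fin d) R ⧸ J) →ₐ[R] A := Ideal.Quotient.liftₐ J (aeval x) fun a ha => by
    suffices J ≤ RingHom.ker (aeval x) from this ha
    rw [show J = truncIdeal R p d from rfl, truncIdeal, Ideal.span_le]
    rintro _ ⟨i, rfl⟩
    simp [hx]
  let μ : (Fin d → Fin p) → MvPolynomial (Fin d) R ⧸ J := fun a => Ideal.Quotient.mk J (∏ i, X i ^ (a i : ℕ))
  have hq : ∀ a, q (μ a) = ∏ i, x i ^ (a i : ℕ) := fun a => by
    show aeval x (∏ i, X i ^ (a i : ℕ)) = _
    simp
  have hgen : ∀ z, z ∈ Submodule.span R (Set.range μ) := by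
    intro z
    obtain ⟨P, rfl⟩ := Ideal.Quotient.mk_surjective z
    induction P using MvPolynomial.induction_on' with
    | monomial a c =>
      rw [monomial_eq, Finsupp.prod_fintype _ _ (by simp), map_mul]
      by_cases h : ∀ i, a i < p
      · rw [show Ideal.Quotient.mk J (C c) = algebraMap R _ c from rfl, ← Algebra.smul_def]
        exact Submodule.smul_mem _ _ (Submodule.subset_span ⟨fun i => ⟨a i, h i⟩, rfl⟩)
      · simp only [not_forall, not_lt] at h
        obtain ⟨i, hi⟩ := h
        have h0 : Ideal.Quotient.mk J (X i ^ a i) = 0 := by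
          rw [← Nat.sub_add_cancel hi, pow_add, map_mul,
            Ideal.Quotient.eq_zero_iff_mem.mpr (show (X i : MvPolynomial (Fin d) R) ^ p ∈ J from Ideal.subset_span ⟨i, rfl⟩),
            mul_zero]
        rw [map_prod, Finset.prod_eq_zero (Finset.mem_univ i) h0, mul_zero]
        exact zero_mem _
    | add P Q hP hQ => rw [map_add]; exact add_mem hP hQ
  refine ⟨(AlgEquiv.ofBijective q ⟨?_, ?_⟩).symm⟩
  · intro z z' h
    obtain ⟨c, rfl⟩ := (Submodule.mem_span_range_iff_exists_fun R).mp (hgen z)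
    obtain ⟨c', rfl⟩ := (Submodule.mem_span_range_iff_exists_fun R).mp (hgen z')
    simp only [map_sum, map_smul, hq] at h
    have hcc : c = c' := funext fun a => sub_eq_zero.mp
      (Fintype.linearIndependent_iff.mp hli (fun a => c a - c' a)
        (by simp only [sub_smul, Finset.sum_sub_distrib, h, sub_self]) a)
    rw [hcc]
  · intro y
    obtain ⟨c, hc⟩ := (Submodule.mem_span_range_iff_exists_fun R).mp (hsp ▸ Submodule.mem_top : y ∈ Submodule.span R (Set.range fun a : Fin d → Fin p => ∏ i, x i ^ (a i : ℕ)))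
    exact ⟨∑ a, c a • μ a, by simp only [map_sum, map_smul, hq, hc]⟩

end Trunc

section Field

open H8HeightOne

/-- Truncated monomials in lifts of a basis of the cotangent space form a basis. -/
theorem monomials_basis {k : Type u} [Field k] {A : Type v} [CommRing A] [HopfAlgebra k A] [Module.Finite k A]
    (p : ℕ) [Fact p.Prime] [CharP k p]
    (h1 : ∀ f : A, Bialgebra.counitAlgHom k A f = 0 → f ^ p = 0) {d : ℕ}
    (b : Module.Basis (Fin d) k (M k A).Cotangent)
    (x : Fin d → A) (hxM : ∀ i, x i ∈ M k A) (hx : ∀ i, toCot k A (x i) = b i) :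
    LinearIndependent k (fun a : Fin d → Fin p => ∏ i, x i ^ (a i : ℕ)) ∧
      Submodule.span k (Set.range fun a : Fin d → Fin p => ∏ i, x i ^ (a i : ℕ)) = ⊤ := by
  classical
  have hli : LinearIndependent k (fun a : Fin d → Fin p => ∏ i, x i ^ (a i : ℕ)) := by
    rw [Fintype.linearIndependent_iff]
    intro g hg a
    let φ : (Fin d → Fin p) → (Fin d →₀ ℕ) := fun c => Finsupp.equivFunOnFinite.symm fun i => (c i : ℕ)
    have hφ : Function.Injective φ := fun c c' h => funext fun i => Fin.ext (DFunLike.congr_fun h i)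
    have hP0 := eq_zero_of_aeval_eq_zero k A p b x hxM hx (∑ c, monomial (φ c) (g c))
      (fun c hc i => ?_) ?_
    · have := congrArg (coeff (φ a)) hP0
      rw [coeff_sum, Finset.sum_eq_single a, coeff_monomial, if_pos rfl, coeff_zero] at this
      · exact this
      · intro c _ hc; rw [coeff_monomial, if_neg (hφ.ne hc)]
      · simp
    · obtain ⟨c', -, hc'⟩ := Finset.mem_biUnion.mp (support_sum hc)
      have := Finset.mem_singleton.mp (support_monomial_subset hc')
      rw [this]
      exact (c' i).2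
    · rw [map_sum, ← hg]
      refine Finset.sum_congr rfl fun c _ => ?_
      rw [aeval_monomial, Algebra.smul_def, Finsupp.prod_fintype _ _ (by simp)]
      rfl
  refine ⟨hli, ?_⟩
  by_cases he : Nonempty (Fin d → Fin p)
  · refine hli.span_eq_top_of_card_eq_finrank ?_
    rw [finrank_eq k A p h1, Fintype.card_fun, Fintype.card_fin, Fintype.card_fin,
      Module.finrank_eq_card_basis b, Fintype.card_fin]
  · exact absurd ⟨fun _ => ⟨0, (Fact.out : p.Prime).pos⟩⟩ he

theorem exists_lifts {k : Type u} [Field k] {A : Type v} [CommRing A] [HopfAlgebra k A] {d : ℕ}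
    (b : Module.Basis (Fin d) k (M k A).Cotangent) :
    ∃ x : Fin d → A, (∀ i, x i ∈ M k A) ∧ ∀ i, toCot k A (x i) = b i := by
  choose y hy using fun i => (M k A).toCotangent_surjective (b i)
  exact ⟨fun i => (y i : A), fun i => (y i).2, fun i => (toCot_of_mem k A (y i).2).trans (hy i)⟩

end Field

section Local

/-- Height one finite flat group schemes over local rings. -/
theorem exists_truncated (p : ℕ) [Fact p.Prime] (R : Type u) [CommRing R]
    [IsLocalRing R] [CharP R p] (A : Type u) [CommRing A] [HopfAlgebra R A]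
    [Algebra.FinitePresentation R A] [Module.Flat R A]
    (h1 : ∀ a : A, Bialgebra.counitAlgHom R A a = 0 → a ^ p = 0) :
    ∃ n : ℕ, Nonempty (A ≃ₐ[R] (MvPolynomial (Fin n) R ⧸ truncIdeal R p n)) := by
  classical
  have hp0 : p ≠ 0 := (Fact.out : p.Prime).ne_zero
  have hsub : ∀ a : A, (a - algebraMap R A (Bialgebra.counitAlgHom R A a)) ^ p = 0 := fun a =>
    h1 _ (by rw [map_sub, AlgHom.commutes]; exact sub_self _)
  haveI : Algebra.IsIntegral R A := ⟨fun a => by
    have h : IsIntegral R (a - algebraMap R A (Bialgebra.counitAlgHom R A a)) :=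
      IsIntegral.of_pow (Nat.pos_of_ne_zero hp0) (by rw [hsub a]; exact isIntegral_zero)
    simpa using h.add (isIntegral_algebraMap (x := Bialgebra.counitAlgHom R A a))⟩
  haveI : Algebra.FiniteType R A := inferInstance
  haveI : Module.Finite R A := Algebra.IsIntegral.finite
  haveI : Module.Free R A := Module.free_of_flat_of_isLocalRing
  let K := IsLocalRing.ResidueField R
  haveI : CharP K p := (CharP.charP_iff_prime_eq_zero (Fact.out : p.Prime)).mpr (by
    rw [← map_natCast (IsLocalRing.residue R), CharP.cast_eq_zero R p, map_zero])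
  have hsurj : ∀ z : K ⊗[R] A, ∃ a : A, z = (1 : K) ⊗ₜ[R] a := by
    intro z
    induction z using TensorProduct.induction_on with
    | zero => exact ⟨0, (TensorProduct.tmul_zero _ _).symm⟩
    | tmul c a =>
      obtain ⟨r, rfl⟩ := IsLocalRing.residue_surjective c
      exact ⟨r • a, by rw [← TensorProduct.smul_tmul, Algebra.smul_def, mul_one]; rfl⟩
    | add y w hy hw =>
      obtain ⟨a, rfl⟩ := hy
      obtain ⟨b, rfl⟩ := hw
      exact ⟨a + b, (TensorProduct.tmul_add _ _ _).symm⟩
  have hlift : ∀ z : K ⊗[R] A, Bialgebra.counitAlgHom K (K ⊗[R] A) z = 0 →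
      ∃ a : A, Bialgebra.counitAlgHom R A a = 0 ∧ z = (1 : K) ⊗ₜ[R] a := by
    intro z hz
    obtain ⟨a, rfl⟩ := hsurj z
    refine ⟨a - algebraMap R A (Bialgebra.counitAlgHom R A a), by rw [map_sub, AlgHom.commutes]; exact sub_self _, ?_⟩
    rw [TensorProduct.tmul_sub, Algebra.algebraMap_eq_smul_one, ← TensorProduct.smul_tmul]
    have hz' : Bialgebra.counitAlgHom R A a • (1 : K) = 0 := by simpa using hz
    rw [hz', TensorProduct.zero_tmul, sub_zero]
  have h1K : ∀ f : K ⊗[R] A, Bialgebra.counitAlgHom K (K ⊗[R] A) f = 0 → f ^ p = 0 := by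
    intro f hf
    obtain ⟨a, ha, rfl⟩ := hlift f hf
    rw [Algebra.TensorProduct.tmul_pow, one_pow, h1 a ha, TensorProduct.tmul_zero]
  haveI : IsNoetherianRing (K ⊗[R] A) := IsNoetherianRing.of_finite K _
  haveI : Module.Finite K (H8HeightOne.M K (K ⊗[R] A)).Cotangent := by
    refine Module.Finite.of_surjective (H8HeightOne.toCot K (K ⊗[R] A)) fun c => ?_
    obtain ⟨⟨a, ha⟩, rfl⟩ := (H8HeightOne.M K (K ⊗[R] A)).toCotangent_surjective c
    exact ⟨a, H8HeightOne.toCot_of_mem K _ ha⟩
  obtain ⟨xb, hxM, hx⟩ := exists_lifts (Module.finBasis K (H8HeightOne.M K (K ⊗[R] A)).Cotangent)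
  choose x hx0 hxe using fun i => hlift (xb i) (hxM i)
  obtain ⟨hli, hsp⟩ := monomials_basis p h1K _ xb hxM hx
  refine ⟨_, nonempty_algEquiv x (fun i => h1 _ (hx0 i)) ?_ ?_⟩
  all_goals
    have hmono : ∀ a : Fin _ → Fin p, ∏ i, xb i ^ (a i : ℕ) = (1 : K) ⊗ₜ[R] (∏ i, x i ^ (a i : ℕ)) := by
      intro a
      simp only [hxe, ← Algebra.TensorProduct.includeRight_apply, ← map_pow, ← map_prod]
    have htop : Submodule.span R (Set.range fun a : Fin _ → Fin p => ∏ i, x i ^ (a i : ℕ)) = ⊤ := by
      refine IsLocalRing.map_tensorProduct_mk_eq_top.mp ?_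
      rw [eq_top_iff]
      rintro z -
      obtain ⟨c, hc⟩ := (Submodule.mem_span_range_iff_exists_fun K).mp
        (hsp ▸ Submodule.mem_top : z ∈ Submodule.span K (Set.range _))
      rw [← hc]
      refine Submodule.sum_mem _ fun a _ => ?_
      obtain ⟨r, hr⟩ := IsLocalRing.residue_surjective (c a)
      rw [hmono a, ← hr]
      refine ⟨r • ∏ i, x i ^ (a i : ℕ), Submodule.smul_mem _ _ (Submodule.subset_span ⟨a, rfl⟩), ?_⟩
      show (1 : K) ⊗ₜ[R] (r • _) = _
      rw [← TensorProduct.smul_tmul, TensorProduct.smul_tmul', Algebra.smul_def, mul_one, smul_eq_mul, mul_one]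
      rfl
  · refine linearIndependent_of_top_le_span_of_card_eq_finrank htop.ge ?_
    exact (Module.finrank_eq_card_basis (Module.Basis.mk hli hsp.ge)).symm.trans Module.finrank_baseChange
  · exact htop

end Local

section FrobeniusKernel

open H8HeightOne

variable (k : Type u) [Field k] (p : ℕ) [Fact p.Prime] [CharP k p] (A : Type u) [CommRing A] [HopfAlgebra k A]

/-- The ideal of the Frobenius kernel. -/
abbrev frobIdeal : Ideal A :=
  Ideal.span ((fun a : A => a ^ p) '' (RingHom.ker (Bialgebra.counitAlgHom k A).toRingHom : Set A))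

theorem frobIdeal_le : frobIdeal k p A ≤ M k A ^ 2 := by
  rw [Ideal.span_le]
  rintro _ ⟨a, ha, rfl⟩
  exact Ideal.pow_le_pow_right (Fact.out : p.Prime).two_le (Ideal.pow_mem_pow ha p)

theorem isHopfIdeal_frobIdeal : (frobIdeal k p A).IsHopfIdeal k := by
  haveI : Nontrivial A := (Bialgebra.counitAlgHom k A).toRingHom.domain_nontrivial
  set J := frobIdeal k p A with hJ
  let S : A →ₐ[k] A := HopfAlgebra.antipodeAlgHom k A
  have hcounit : ∀ x ∈ J, Bialgebra.counitAlgHom k A x = 0 := fun x hx =>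
    Ideal.pow_le_self (by norm_num : (2:ℕ) ≠ 0) (frobIdeal_le k p A hx)
  let q := Ideal.Quotient.mkₐ k J
  have hne : Nontrivial ((A ⧸ J) ⊗[k] (A ⧸ J)) :=
    (Algebra.TensorProduct.lift (Ideal.Quotient.liftₐ J (Bialgebra.counitAlgHom k A) hcounit)
      (Ideal.Quotient.liftₐ J (Bialgebra.counitAlgHom k A) hcounit) fun _ _ => mul_comm _ _).toRingHom.domain_nontrivial
  haveI : CharP ((A ⧸ J) ⊗[k] (A ⧸ J)) p :=
    charP_of_injective_algebraMap (algebraMap k ((A ⧸ J) ⊗[k] (A ⧸ J))).injective p
  have hq : ∀ b : A, q (b ^ p) = algebraMap k _ (Bialgebra.counitAlgHom k A b ^ p) := by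
    intro b
    haveI : CharP A p := charP_of_injective_algebraMap (algebraMap k A).injective p
    have hmem : (b - algebraMap k A (Bialgebra.counitAlgHom k A b)) ^ p ∈ J :=
      Ideal.subset_span ⟨_, sub_counit_mem k A b, rfl⟩
    rw [sub_pow_char, ← map_pow] at hmem
    exact (Ideal.Quotient.eq.mpr hmem).trans rfl
  have hpow : ∀ z : A ⊗[k] A, (Algebra.TensorProduct.map q q z) ^ p =
      algebraMap k _ ((Bialgebra.counitAlgHom k A (TensorProduct.rid k A
        ((CoalgebraStruct.counit (R := k) (A := A)).lTensor A z))) ^ p) := by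
    intro z
    induction z using TensorProduct.induction_on with
    | zero => simp [(Fact.out : p.Prime).ne_zero]
    | tmul a b =>
      rw [Algebra.TensorProduct.map_tmul, Algebra.TensorProduct.tmul_pow, ← map_pow, ← map_pow, hq, hq,
        LinearMap.lTensor_tmul, TensorProduct.rid_tmul, map_smul, smul_eq_mul, mul_pow,
        Bialgebra.counitAlgHom_apply, Bialgebra.counitAlgHom_apply]
      simp only [Algebra.algebraMap_eq_smul_one, TensorProduct.smul_tmul_smul, Algebra.TensorProduct.one_def,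
        Bialgebra.counitAlgHom_apply]
      rw [mul_comm]
    | add y w hy hw => simp only [map_add, add_pow_char, hy, hw]
  refine { toIsCoideal := H8Line.isCoideal_of_map J hcounit fun x hx => ?_, antipode_mem := fun x hx => ?_ }
  · suffices J ≤ RingHom.ker ((Algebra.TensorProduct.map q q).comp (Bialgebra.comulAlgHom k A)) from this hx
    refine Ideal.span_le.mpr ?_
    rintro _ ⟨a, ha, rfl⟩
    show (Algebra.TensorProduct.map q q) (Bialgebra.comulAlgHom k A (a ^ p)) = 0
    rw [map_pow, map_pow, hpow, Bialgebra.comulAlgHom_apply, Coalgebra.lTensor_counit_comul, TensorProduct.rid_tmul,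
      one_smul, show Bialgebra.counitAlgHom k A a = 0 from ha, zero_pow (Fact.out : p.Prime).ne_zero, map_zero]
  · suffices J ≤ J.comap S from this hx
    refine Ideal.span_le.mpr ?_
    rintro _ ⟨a, ha, rfl⟩
    show S (a ^ p) ∈ J
    rw [map_pow]
    refine Ideal.subset_span ⟨S a, ?_, rfl⟩
    show Bialgebra.counitAlgHom k A (S a) = 0
    exact (HopfAlgebra.counit_antipode a).trans ha

theorem exists_frobeniusKernel [FiniteDimensional k A] (d : ℕ)
    (hd : Module.finrank k (RingHom.ker (Bialgebra.counitAlgHom k A).toRingHom).Cotangent = d) :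
    Nonempty ((A ⧸ frobIdeal k p A) ≃ₐ[k] (MvPolynomial (Fin d) k ⧸ truncIdeal k p d)) := by
  set J := frobIdeal k p A with hJ
  haveI : J.IsHopfIdeal k := isHopfIdeal_frobIdeal k p A
  have h1 : ∀ f : A ⧸ J, Bialgebra.counitAlgHom k (A ⧸ J) f = 0 → f ^ p = 0 := by
    intro f hf
    obtain ⟨a, rfl⟩ := Ideal.Quotient.mk_surjective f
    rw [← map_pow]
    exact Ideal.Quotient.eq_zero_iff_mem.mpr (Ideal.subset_span ⟨a, hf, rfl⟩)
  have hM : M k A ≤ (M k (A ⧸ J)).comap (Ideal.Quotient.mkₐ k J) := fun a ha => ha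
  let Φ := Ideal.mapCotangent (M k A) (M k (A ⧸ J)) (Ideal.Quotient.mkₐ k J) hM
  have hΦ : Function.Bijective Φ := by
    constructor
    · rw [injective_iff_map_eq_zero]
      intro c hc
      obtain ⟨⟨a, ha⟩, rfl⟩ := (M k A).toCotangent_surjective c
      rw [show Φ ((M k A).toCotangent ⟨a, ha⟩) = (M k (A ⧸ J)).toCotangent ⟨Ideal.Quotient.mk J a, hM ha⟩ from rfl,
        Ideal.toCotangent_eq_zero] at hc
      rw [Ideal.toCotangent_eq_zero]
      show a ∈ M k A ^ 2
      have hmap : M k (A ⧸ J) ≤ (M k A).map (Ideal.Quotient.mk J) := fun y hy => by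
        obtain ⟨b, rfl⟩ := Ideal.Quotient.mk_surjective y
        exact Ideal.mem_map_of_mem _ hy
      have h2 : Ideal.Quotient.mk J a ∈ (M k A ^ 2).map (Ideal.Quotient.mk J) := by
        rw [Ideal.map_pow]
        exact Ideal.pow_right_mono hmap 2 hc
      rwa [Ideal.mem_quotient_iff_mem (frobIdeal_le k p A)] at h2
    · intro c
      obtain ⟨⟨y, hy⟩, rfl⟩ := (M k (A ⧸ J)).toCotangent_surjective c
      obtain ⟨a, rfl⟩ := Ideal.Quotient.mk_surjective y
      exact ⟨(M k A).toCotangent ⟨a, hy⟩, rfl⟩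
  haveI : Module.Finite k (A ⧸ J) := Module.Finite.of_surjective (Ideal.Quotient.mkₐ k J).toLinearMap
    (Ideal.Quotient.mkₐ_surjective k J)
  haveI : Module.Finite k (M k A).Cotangent := Module.Finite.of_surjective (toCot k A) fun c => by
    obtain ⟨⟨a, ha⟩, rfl⟩ := (M k A).toCotangent_surjective c
    exact ⟨a, toCot_of_mem k A ha⟩
  let b0 : Module.Basis (Fin d) k (M k A).Cotangent := Module.finBasisOfFinrankEq k _ hd
  obtain ⟨x, hxM, hx⟩ := exists_lifts (b0.map (LinearEquiv.ofBijective Φ hΦ))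
  obtain ⟨hli, hsp⟩ := monomials_basis p h1 _ x hxM hx
  exact nonempty_algEquiv x (fun i => h1 _ (hxM i)) hli hsp

end FrobeniusKernel

end Groth.Agent.H8Trunc
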