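import Groth.Agent.Lib.H8SymCocycle

/-!
# Characters of the additive group in characteristic `p`: products of truncated exponentials
-/

open MvPolynomial

universe u

namespace H8TruncExp

variable (p : ℕ) [hp : Fact p.Prime] {A : Type u} [CommRing A] [Algebra (ZMod p) A]

/-- The truncated exponential of `c X`. -/
noncomputable def expP (c : A) : Polynomial A :=
  ∑ j ∈ Finset.range p, Polynomial.C (algebraMap (ZMod p) A (H8SymCoc.ec p j) * c ^ j) *
    Polynomial.X ^ j

theorem coeff_expP (c : A) (n : ℕ) :
    (expP p c).coeff n = if n < p then algebraMap (ZMod p) A (H8SymCoc.ec p n) * c ^ n else 0 := by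
  simp only [expP, Polynomial.finset_sum_coeff, Polynomial.coeff_C_mul_X_pow]
  rw [Finset.sum_ite_eq]
  simp

theorem coeff_expP_zero (c : A) : (expP p c).coeff 0 = 1 := by
  rw [coeff_expP, if_pos hp.out.pos, H8SymCoc.ec]; simp

theorem coeff_expP_one (c : A) : (expP p c).coeff 1 = c := by
  have h := H8SymCoc.ec_factorial p 1 hp.out.one_lt
  rw [Nat.factorial_one, Nat.cast_one, one_mul] at h
  rw [coeff_expP, if_pos hp.out.one_lt, h]
  simp

theorem inverse_factorial (j : ℕ) (hj : j < p) :
    Ring.inverse (j.factorial : A) = algebraMap (ZMod p) A (H8SymCoc.ec p j) := by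
  have h := congrArg (algebraMap (ZMod p) A) (H8SymCoc.ec_factorial p j hj)
  rw [map_mul, map_natCast, map_one] at h
  calc Ring.inverse (j.factorial : A)
      = Ring.inverse (j.factorial : A) * ((j.factorial : A) * algebraMap (ZMod p) A (H8SymCoc.ec p j)) := by
        rw [h, mul_one]
    _ = _ := by rw [← mul_assoc, Ring.inverse_mul_cancel _ (IsUnit.of_mul_eq_one _ h), one_mul]

/-- The factor in the statements. -/
theorem factor_eq (c : A) (n : ℕ) :
    ∑ j ∈ Finset.range p,
      Polynomial.C (Ring.inverse (j.factorial : A) * c ^ j) * Polynomial.X ^ (j * p ^ n) =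
    Polynomial.expand A (p ^ n) (expP p c) := by
  rw [expP, map_sum]
  refine Finset.sum_congr rfl fun j hj => ?_
  rw [inverse_factorial p j (Finset.mem_range.mp hj)]
  simp only [map_mul, map_pow, Polynomial.expand_C, Polynomial.expand_X]
  rw [← pow_mul, mul_comm j]

theorem aeval_expP {S : Type*} [CommRing S] [Algebra A S] (c : A) (t : S) :
    Polynomial.aeval t (expP p c) =
      ∑ j ∈ Finset.range p,
        algebraMap A S (algebraMap (ZMod p) A (H8SymCoc.ec p j)) * (algebraMap A S c * t) ^ j := by
  rw [expP, map_sum]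
  refine Finset.sum_congr rfl fun j _ => ?_
  simp [mul_pow]
  ring

theorem expP_two (c : A) (hc : c ^ p = 0) :
    Polynomial.aeval (X 0 + X 1 : MvPolynomial (Fin 2) A) (expP p c) =
      Polynomial.aeval (X 0 : MvPolynomial (Fin 2) A) (expP p c) *
        Polynomial.aeval (X 1 : MvPolynomial (Fin 2) A) (expP p c) := by
  classical
  let φ : MvPolynomial (Fin 2) (ZMod p) →ₐ[ZMod p] MvPolynomial (Fin 2) A :=
    aeval ![C c * X 0, C c * X 1]
  have hmap : Ideal.map φ (idealOfVars (Fin 2) (ZMod p)) ≤
      Ideal.span {(C c : MvPolynomial (Fin 2) A)} := by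
    rw [idealOfVars, Ideal.map_span, Ideal.span_le]
    rintro _ ⟨_, ⟨j, rfl⟩, rfl⟩
    fin_cases j <;>
      simpa [φ] using Ideal.mul_mem_right _ _ (Ideal.mem_span_singleton_self (C c))
  have hpow : ∀ P ∈ idealOfVars (Fin 2) (ZMod p) ^ p, φ P = 0 := by
    intro P hP
    have h1 := Ideal.mem_map_of_mem φ hP
    rw [Ideal.map_pow] at h1
    have h2 := Ideal.pow_right_mono hmap p h1
    rw [Ideal.span_singleton_pow, ← map_pow, hc, map_zero, Ideal.span_singleton_eq_bot.mpr rfl,
      Ideal.mem_bot] at h2
    exact h2
  have h0 : φ (H8SymCoc.Gp p) = 0 :=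
    hpow _ (Ideal.pow_le_pow_right (by omega) (H8SymCoc.Gp_mem p))
  have hC : φ (H8SymCoc.Cp p (ZMod p)) = 0 := hpow _ (H8SymCoc.Cp_mem_pow p _)
  simp only [H8SymCoc.Gp, map_sub, map_mul, map_one, hC, sub_zero, mul_one, sub_eq_zero,
    ← Polynomial.aeval_algHom_apply, map_add, φ, aeval_X, Matrix.cons_val_zero,
    Matrix.cons_val_one] at h0
  have hev : ∀ t : MvPolynomial (Fin 2) A,
      Polynomial.aeval (C c * t) (H8SymCoc.Ep p) = Polynomial.aeval t (expP p c) := by
    intro t
    rw [H8SymCoc.Ep, map_sum, aeval_expP]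
    rw [← Finset.sum_subset (Finset.range_mono (by omega : p ≤ 2 * p)) (fun j _ hj => ?_)]
    · refine Finset.sum_congr rfl fun j _ => ?_
      rw [Polynomial.aeval_monomial, algebraMap_eq,
        IsScalarTower.algebraMap_apply (ZMod p) A (MvPolynomial (Fin 2) A), algebraMap_eq]
    · simp at hj
      rw [Polynomial.aeval_monomial, mul_pow, ← map_pow,
        pow_eq_zero_of_le hj hc, map_zero, zero_mul, mul_zero]
  rw [hev, hev, ← mul_add, hev] at h0
  exact h0.symm

omit hp [Algebra (ZMod p) A] in
theorem general_add {f : Polynomial A}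
    (h : Polynomial.aeval (X 0 + X 1 : MvPolynomial (Fin 2) A) f =
      Polynomial.aeval (X 0 : MvPolynomial (Fin 2) A) f *
        Polynomial.aeval (X 1 : MvPolynomial (Fin 2) A) f)
    {S : Type*} [CommRing S] [Algebra A S] (s t : S) :
    Polynomial.aeval (s + t) f = Polynomial.aeval s f * Polynomial.aeval t f := by
  have h' := congrArg (aeval ![s, t]) h
  simpa only [map_mul, ← Polynomial.aeval_algHom_apply, map_add, aeval_X, Matrix.cons_val_zero,
    Matrix.cons_val_one] using h'

theorem expP_mul_neg (c : A) (hc : c ^ p = 0) : expP p c * expP p (-c) = 1 := by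
  have hn : (-c) ^ p = 0 := by rw [neg_pow, hc, mul_zero]
  have h := general_add (expP_two p c hc) (Polynomial.X : Polynomial A) (-Polynomial.X)
  rw [add_neg_cancel, Polynomial.aeval_X_left_apply, ← Polynomial.coeff_zero_eq_aeval_zero',
    coeff_expP_zero, map_one] at h
  have e : Polynomial.aeval (-Polynomial.X : Polynomial A) (expP p c) = expP p (-c) := by
    rw [aeval_expP, expP]
    refine Finset.sum_congr rfl fun j _ => ?_
    rw [Polynomial.algebraMap_eq, map_mul, map_pow, map_neg, mul_neg, ← neg_mul, mul_pow]
    ring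
  rw [e] at h
  exact h.symm

omit hp [Algebra (ZMod p) A] in
/-- The monomials outside the box `[0,N) × [0,N)`. -/
theorem mem_box_iff (N : ℕ) (P : MvPolynomial (Fin 2) A) :
    P ∈ Ideal.span {(X 0 ^ N : MvPolynomial (Fin 2) A), X 1 ^ N} ↔
      ∀ d : Fin 2 →₀ ℕ, d 0 < N → d 1 < N → coeff d P = 0 := by
  classical
  have e : ({(X 0 ^ N : MvPolynomial (Fin 2) A), X 1 ^ N} : Set (MvPolynomial (Fin 2) A)) =
      (fun s => monomial s (1 : A)) ''
        ({Finsupp.single 0 N, Finsupp.single 1 N} : Set (Fin 2 →₀ ℕ)) := by
    rw [Set.image_pair]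
    simp [X_pow_eq_monomial]
  rw [e, mem_ideal_span_monomial_image]
  constructor
  · intro h d h0 h1
    by_contra hd
    obtain ⟨s, hs, hle⟩ := h d (mem_support_iff.mpr hd)
    rcases hs with rfl | rfl
    · have := hle 0; simp at this; omega
    · have := hle 1; simp at this; omega
  · intro h d hd
    by_contra hne
    push_neg at hne
    refine mem_support_iff.mp hd (h d ?_ ?_)
    · by_contra hh
      exact hne _ (Or.inl rfl) (Finsupp.single_le_iff.mpr (by omega))
    · by_contra hh
      exact hne _ (Or.inr rfl) (Finsupp.single_le_iff.mpr (by omega))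

omit hp [Algebra (ZMod p) A] in
theorem coeff_aeval_single (f : Polynomial A) (i : Fin 2) (n : ℕ) :
    coeff (Finsupp.single i n) (Polynomial.aeval (X i : MvPolynomial (Fin 2) A) f) = f.coeff n := by
  classical
  induction f using Polynomial.induction_on' with
  | add a b ha hb => simp [ha, hb]
  | monomial m r =>
    rw [Polynomial.aeval_monomial, algebraMap_eq, coeff_C_mul, X_pow_eq_monomial, coeff_monomial,
      Polynomial.coeff_monomial]
    by_cases h : m = n
    · simp [h]
    · have : Finsupp.single i m ≠ Finsupp.single i n := fun hh => h (Finsupp.single_injective i hh)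
      simp [h, this]

omit hp [Algebra (ZMod p) A] in
theorem coeff_aeval_X_zero (g : Polynomial A) (d : Fin 2 →₀ ℕ) (hd : d 1 ≠ 0) :
    coeff d (Polynomial.aeval (X 0 : MvPolynomial (Fin 2) A) g) = 0 := by
  classical
  induction g using Polynomial.induction_on' with
  | add u v hu hv => simp [hu, hv]
  | monomial m r =>
    rw [Polynomial.aeval_monomial, algebraMap_eq, coeff_C_mul, X_pow_eq_monomial,
      coeff_monomial, if_neg, mul_zero]
    intro hh
    rw [← hh] at hd
    simp at hd

/-- The derivative of a truncated character. -/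
theorem deriv_eq {f : Polynomial A} (N : ℕ) (hN : 1 < N) (hdiv : p ∣ N) (hdeg : f.natDegree < N)
    (h0 : f.coeff 0 = 1)
    (hmul : Polynomial.aeval (X 0 + X 1 : MvPolynomial (Fin 2) A) f -
      Polynomial.aeval (X 0 : MvPolynomial (Fin 2) A) f *
        Polynomial.aeval (X 1 : MvPolynomial (Fin 2) A) f ∈
          Ideal.span {(X 0 ^ N : MvPolynomial (Fin 2) A), X 1 ^ N}) (n : ℕ) :
    ((n + 1 : ℕ) : A) * f.coeff (n + 1) = f.coeff 1 * f.coeff n := by
  classical
  by_cases hn : n < N
  · have h := (mem_box_iff N _).mp hmul (Finsupp.single 0 n + Finsupp.single 1 1)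
      (by simp [hn]) (by simp [hN])
    rw [coeff_sub, H8SymCoc.coeff_aeval_add, sub_eq_zero] at h
    simp only [Finsupp.add_apply, Finsupp.single_eq_same, Finsupp.single_apply, Fin.reduceEq,
      if_false, add_zero, zero_add] at h
    rw [Nat.choose_succ_self_right] at h
    have e : coeff (Finsupp.single 0 n + Finsupp.single 1 1)
        (Polynomial.aeval (X 0 : MvPolynomial (Fin 2) A) f *
          Polynomial.aeval (X 1 : MvPolynomial (Fin 2) A) f) = f.coeff n * f.coeff 1 := by
      rw [coeff_mul, Finset.sum_eq_single (Finsupp.single 0 n, Finsupp.single 1 1)]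
      · rw [coeff_aeval_single, coeff_aeval_single]
      · rintro ⟨a, b⟩ hab hne
        rw [Finset.HasAntidiagonal.mem_antidiagonal] at hab
        dsimp only at hab ⊢
        by_cases ha : a 1 = 0
        · by_cases hb : b 0 = 0
          · refine absurd ?_ hne
            have e0 := DFunLike.congr_fun hab 0
            have e1 := DFunLike.congr_fun hab 1
            simp [hb] at e0
            simp [ha] at e1
            refine Prod.ext ?_ ?_ <;> ext i <;> fin_cases i <;> simp [ha, hb, e0, e1]
          · rw [H8SymCoc.coeff_aeval_X_one f b hb, mul_zero]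
        · have : coeff a (Polynomial.aeval (X 0 : MvPolynomial (Fin 2) A) f) = 0 :=
            coeff_aeval_X_zero f a ha
          rw [this, zero_mul]
      · intro hh
        simp [Finset.HasAntidiagonal.mem_antidiagonal] at hh
    rw [e] at h
    rw [mul_comm, h, mul_comm]
  · rw [Polynomial.coeff_eq_zero_of_natDegree_lt (by omega),
      Polynomial.coeff_eq_zero_of_natDegree_lt (p := f) (n := n) (by omega), mul_zero, mul_zero]

theorem isUnit_natCast {n : ℕ} (h : ¬ p ∣ n) : IsUnit ((n : ℕ) : A) := by
  have : IsUnit ((n : ℕ) : ZMod p) :=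
    isUnit_iff_ne_zero.mpr fun h0 => h ((ZMod.natCast_eq_zero_iff _ _).mp h0)
  simpa using this.map (algebraMap (ZMod p) A)

omit hp [Algebra (ZMod p) A] in
theorem natDegree_contract_le (f : Polynomial A) (hp0 : p ≠ 0) :
    (Polynomial.contract p f).natDegree ≤ f.natDegree / p := by
  refine Polynomial.natDegree_le_iff_coeff_eq_zero.mpr fun m hm => ?_
  rw [Polynomial.coeff_contract hp0]
  refine Polynomial.coeff_eq_zero_of_natDegree_lt ?_
  exact (Nat.div_lt_iff_lt_mul (Nat.pos_of_ne_zero hp0)).mp hm

/-- Truncated characters are products of truncated exponentials. -/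
theorem char_eq_prod : ∀ (n : ℕ) (f : Polynomial A), f.natDegree < p ^ n → f.coeff 0 = 1 →
    (Polynomial.aeval (X 0 + X 1 : MvPolynomial (Fin 2) A) f -
      Polynomial.aeval (X 0 : MvPolynomial (Fin 2) A) f *
        Polynomial.aeval (X 1 : MvPolynomial (Fin 2) A) f ∈
          Ideal.span {(X 0 ^ p ^ n : MvPolynomial (Fin 2) A), X 1 ^ p ^ n}) →
    (∀ i < n, f.coeff (p ^ i) ^ p = 0) ∧
      f = ∏ i ∈ Finset.range n, Polynomial.expand A (p ^ i) (expP p (f.coeff (p ^ i))) := by
  classical
  intro n
  induction n with
  | zero =>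
    intro f hdeg h0 _
    rw [pow_zero] at hdeg
    refine ⟨fun i hi => absurd hi (Nat.not_lt_zero i), ?_⟩
    rw [Finset.range_zero, Finset.prod_empty, Polynomial.eq_C_of_natDegree_le_zero
      (Nat.lt_one_iff.mp hdeg).le, h0, map_one]
  | succ n ihn =>
    intro f hdeg h0 hmul
    have hp2 := hp.out.two_le
    have hN : 1 < p ^ (n + 1) := Nat.one_lt_pow (Nat.succ_ne_zero n) hp.out.one_lt
    have hrec := deriv_eq p (p ^ (n + 1)) hN (dvd_pow_self p (Nat.succ_ne_zero n)) hdeg h0 hmul
    set c := f.coeff 1 with hc
    -- the coefficients on blocks of length `p`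
    have hblock : ∀ m j, j < p → f.coeff (m * p + j) =
        f.coeff (m * p) * (algebraMap (ZMod p) A (H8SymCoc.ec p j) * c ^ j) := by
      intro m j
      induction j with
      | zero => intro _; simp [H8SymCoc.ec]
      | succ j ihj =>
        intro hj
        have h := hrec (m * p + j)
        rw [ihj (by omega)] at h
        have hd : ¬ p ∣ (m * p + j + 1) := fun hh => by
          have : p ∣ j + 1 := (Nat.dvd_add_right (dvd_mul_left p m)).mp (by rwa [add_assoc] at hh)
          exact absurd (Nat.le_of_dvd (by omega) this) (by omega)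
        refine (isUnit_natCast p (A := A) hd).mul_left_cancel ?_
        rw [show m * p + (j + 1) = m * p + j + 1 by ring, h]
        have he := congrArg (algebraMap (ZMod p) A) (H8SymCoc.ec_rec p j (by omega))
        rw [if_neg (by omega), add_zero, map_mul, map_natCast] at he
        have hcast : ((m * p + j + 1 : ℕ) : A) = ((j + 1 : ℕ) : A) := by
          have : (p : A) = 0 := by
            have := congrArg (algebraMap (ZMod p) A) (ZMod.natCast_self p)
            rwa [map_natCast, map_zero] at this
          push_cast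
          rw [this]; ring
        rw [hcast, pow_succ]
        linear_combination (-(f.coeff (m * p) * c ^ j * c)) * he
    have hcp : c ^ p = 0 := by
      have h := hrec (p - 1)
      rw [Nat.sub_add_cancel (by omega)] at h
      have hp0 : ((p : ℕ) : A) = 0 := by
        have := congrArg (algebraMap (ZMod p) A) (ZMod.natCast_self p)
        rwa [map_natCast, map_zero] at this
      have hb := hblock 0 (p - 1) (by omega)
      rw [zero_mul, zero_add, h0, one_mul] at hb
      rw [hp0, zero_mul, hb, mul_left_comm, ← pow_succ', Nat.sub_add_cancel (by omega)] at h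
      have hu := congrArg (algebraMap (ZMod p) A) (H8SymCoc.ec_factorial p (p - 1) (by omega))
      rw [map_mul, map_one] at hu
      linear_combination (-(algebraMap (ZMod p) A ((p - 1).factorial : ZMod p))) * h - c ^ p * hu
    set f1 := Polynomial.contract p f with hf1
    have hfeq : f = Polynomial.expand A p f1 * expP p c := by
      ext k
      rw [Polynomial.coeff_mul, Finset.sum_eq_single (k / p * p, k % p)]
      · rw [Polynomial.coeff_expand_mul hp.out.pos, hf1, Polynomial.coeff_contract (by omega),
          coeff_expP, if_pos (Nat.mod_lt _ (by omega)), ← hblock (k / p) (k % p) (Nat.mod_lt _ (by omega))]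
        rw [Nat.div_add_mod']
      · rintro ⟨a, b⟩ hab hne
        rw [Finset.HasAntidiagonal.mem_antidiagonal] at hab
        dsimp only at hab ⊢
        rw [Polynomial.coeff_expand hp.out.pos, coeff_expP]
        split_ifs with h1 h2
        · refine absurd ?_ hne
          obtain ⟨q, rfl⟩ := h1
          have hb : k % p = b := by rw [← hab, Nat.mul_add_mod, Nat.mod_eq_of_lt h2]
          have hq : k / p = q := by
            rw [← hab, Nat.mul_add_div hp.out.pos, Nat.div_eq_of_lt h2, add_zero]
          rw [hb, hq, mul_comm]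
        · rw [mul_zero]
        · rw [zero_mul]
        · rw [zero_mul]
      · intro hh
        exact absurd (Finset.HasAntidiagonal.mem_antidiagonal.mpr (Nat.div_add_mod' k p)) hh
    have hf10 : f1.coeff 0 = 1 := by rw [hf1, Polynomial.coeff_contract (by omega), zero_mul, h0]
    have hdeg1 : f1.natDegree < p ^ n := by
      refine (natDegree_contract_le p f (by omega)).trans_lt ?_
      rw [Nat.div_lt_iff_lt_mul hp.out.pos, ← pow_succ]
      exact hdeg
    have hmul1 : Polynomial.aeval (X 0 + X 1 : MvPolynomial (Fin 2) A) f1 -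
        Polynomial.aeval (X 0 : MvPolynomial (Fin 2) A) f1 *
          Polynomial.aeval (X 1 : MvPolynomial (Fin 2) A) f1 ∈
            Ideal.span {(X 0 ^ p ^ n : MvPolynomial (Fin 2) A), X 1 ^ p ^ n} := by
      set P := Polynomial.aeval (X 0 + X 1 : MvPolynomial (Fin 2) A) f1 -
        Polynomial.aeval (X 0 : MvPolynomial (Fin 2) A) f1 *
          Polynomial.aeval (X 1 : MvPolynomial (Fin 2) A) f1 with hP
      have hch : CharP (MvPolynomial (Fin 2) A) p ∨ Subsingleton A := by
        rcases subsingleton_or_nontrivial A with h | h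
        · exact Or.inr h
        · have := charP_of_injective_algebraMap (algebraMap (ZMod p) A).injective p
          exact Or.inl inferInstance
      rcases hch with hch | hss
      swap
      · rw [Subsingleton.elim P 0]; exact zero_mem _
      have hexp : MvPolynomial.expand p P *
          (Polynomial.aeval (X 0 + X 1 : MvPolynomial (Fin 2) A) (expP p c)) ∈
          Ideal.span {(X 0 ^ p ^ (n + 1) : MvPolynomial (Fin 2) A), X 1 ^ p ^ (n + 1)} := by
        have hx : ∀ t : MvPolynomial (Fin 2) A, MvPolynomial.expand p (Polynomial.aeval t f1) =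
            Polynomial.aeval (MvPolynomial.expand p t) f1 := fun t =>
          (Polynomial.aeval_algHom_apply _ t f1).symm
        have hy : ∀ t : MvPolynomial (Fin 2) A, Polynomial.aeval t (Polynomial.expand A p f1) =
            Polynomial.aeval (t ^ p) f1 := fun t => Polynomial.expand_aeval p f1 t
        convert hmul using 1
        conv_rhs => rw [hfeq]
        simp only [hP, map_sub, map_mul, hx, hy, map_add, expand_X, add_pow_char]
        rw [expP_two p c hcp]
        ring
      have hexp2 : MvPolynomial.expand p P ∈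
          Ideal.span {(X 0 ^ p ^ (n + 1) : MvPolynomial (Fin 2) A), X 1 ^ p ^ (n + 1)} := by
        have hu : Polynomial.aeval (X 0 + X 1 : MvPolynomial (Fin 2) A) (expP p c) *
            Polynomial.aeval (X 0 + X 1 : MvPolynomial (Fin 2) A) (expP p (-c)) = 1 := by
          rw [← map_mul, expP_mul_neg p c hcp, map_one]
        have := Ideal.mul_mem_right
          (Polynomial.aeval (X 0 + X 1 : MvPolynomial (Fin 2) A) (expP p (-c))) _ hexp
        rwa [mul_assoc, hu, mul_one] at this
      rw [mem_box_iff] at hexp2 ⊢
      intro d hd0 hd1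
      have h := hexp2 (p • d) (by
        rw [Finsupp.smul_apply, smul_eq_mul, pow_succ']
        exact Nat.mul_lt_mul_of_pos_left hd0 hp.out.pos) (by
        rw [Finsupp.smul_apply, smul_eq_mul, pow_succ']
        exact Nat.mul_lt_mul_of_pos_left hd1 hp.out.pos)
      rwa [MvPolynomial.coeff_expand_smul _ hp.out.ne_zero] at h
    obtain ⟨hz, hprod⟩ := ihn f1 hdeg1 hf10 hmul1
    have hco : ∀ i, f1.coeff (p ^ i) = f.coeff (p ^ (i + 1)) := fun i => by
      rw [hf1, Polynomial.coeff_contract (by omega), ← pow_succ]
    refine ⟨fun i hi => ?_, ?_⟩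
    · rcases i with _ | i
      · rw [pow_zero]; exact hcp
      · rw [← hco]; exact hz i (by omega)
    · rw [Finset.prod_range_succ']
      simp only [← hco, pow_zero, Polynomial.expand_one]
      rw [← hc]
      conv_lhs => rw [hfeq, hprod, map_prod]
      congr 1
      refine Finset.prod_congr rfl fun i _ => ?_
      rw [← Polynomial.expand_mul, ← pow_succ']

/-- Products of truncated exponentials are characters. -/
theorem prod_isChar [CharP A p] (n : ℕ) (a : ℕ → A) (ha : ∀ i, a i ^ p = 0) :
    (∏ i ∈ Finset.range n, Polynomial.expand A (p ^ i) (expP p (a i))).coeff 0 = 1 ∧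
      Polynomial.aeval (X 0 + X 1 : MvPolynomial (Fin 2) A)
          (∏ i ∈ Finset.range n, Polynomial.expand A (p ^ i) (expP p (a i))) =
        Polynomial.aeval (X 0 : MvPolynomial (Fin 2) A)
            (∏ i ∈ Finset.range n, Polynomial.expand A (p ^ i) (expP p (a i))) *
          Polynomial.aeval (X 1 : MvPolynomial (Fin 2) A)
            (∏ i ∈ Finset.range n, Polynomial.expand A (p ^ i) (expP p (a i))) := by
  refine Finset.prod_induction _ (fun g : Polynomial A => g.coeff 0 = 1 ∧
    Polynomial.aeval (X 0 + X 1 : MvPolynomial (Fin 2) A) g =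
      Polynomial.aeval (X 0 : MvPolynomial (Fin 2) A) g *
        Polynomial.aeval (X 1 : MvPolynomial (Fin 2) A) g) ?_ ?_ ?_
  · rintro g h ⟨g0, g1⟩ ⟨h0, h1⟩
    refine ⟨by rw [Polynomial.mul_coeff_zero, g0, h0, mul_one], ?_⟩
    rw [map_mul, map_mul, map_mul, g1, h1]; ring
  · exact ⟨Polynomial.coeff_one_zero, by simp⟩
  · intro i _
    refine ⟨?_, ?_⟩
    · rw [Polynomial.coeff_expand (pow_pos hp.out.pos i), if_pos (dvd_zero _), Nat.zero_div,
        coeff_expP_zero]
    · rw [Polynomial.expand_aeval, Polynomial.expand_aeval, Polynomial.expand_aeval,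
        add_pow_char_pow, general_add (expP_two p _ (ha i))]

end H8TruncExp
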