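import Mathlib

/-!
# Weitzenböck's theorem: kernels of nilpotent linear derivations of polynomial rings are finitely generated
-/

set_option autoImplicit false

universe u

open MvPolynomial

noncomputable section

namespace Groth.Agent.H8Weitz

section Jordan

open Polynomial in
/-- A nilpotent endomorphism has a basis of chains. -/
theorem exists_chain_basis {k : Type u} [Field k] {V : Type u} [AddCommGroup V] [Module k V]
    [Module.Finite k V] (T : Module.End k V) (hT : IsNilpotent T) :
    ∃ (d : ℕ) (e : Fin d → ℕ) (b : Module.Basis (Σ i : Fin d, Fin (e i)) k V),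
      ∀ c : Σ i : Fin d, Fin (e i),
        T (b c) = if h : (c.2 : ℕ) + 1 < e c.1 then b ⟨c.1, ⟨_, h⟩⟩ else 0 := by
  classical
  obtain ⟨N, hN⟩ := hT
  let M := Module.AEval' T
  have htor : Module.IsTorsion' M (Submonoid.powers (Polynomial.X : k[X])) := fun {m} => by
    refine ⟨⟨Polynomial.X ^ N, N, rfl⟩, ?_⟩
    obtain ⟨v, rfl⟩ := (Module.AEval'.of T).surjective m
    show (Polynomial.X ^ N : k[X]) • Module.AEval'.of T v = 0
    rw [Module.AEval'.X_pow_smul_of, hN]
    simp
  obtain ⟨d, e, ⟨Φ⟩⟩ := Module.torsion_by_prime_power_decomposition (p := (Polynomial.X : k[X]))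
    Polynomial.irreducible_X htor
  let Q := fun i : Fin d => k[X] ⧸ k[X] ∙ (Polynomial.X : k[X]) ^ e i
  let Ψ : M ≃ₗ[k[X]] ((i : Fin d) → Q i) := Φ ≪≫ₗ DirectSum.linearEquivFunOnFintype k[X] (Fin d) Q
  let pb : ∀ i, Module.Basis (Fin (e i)) k (Q i) := fun i =>
    ((AdjoinRoot.powerBasis' (monic_X_pow (R := k) (e i))).basis.reindex
      (finCongr (by simp [AdjoinRoot.powerBasis'] : _ = e i)) : Module.Basis (Fin (e i)) k (AdjoinRoot ((X : k[X]) ^ e i)))
  have hpb : ∀ i j, pb i j = Submodule.Quotient.mk ((X : k[X]) ^ (j : ℕ)) := by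
    intro i j
    show ((AdjoinRoot.powerBasis' (monic_X_pow (R := k) (e i))).basis.reindex
      (finCongr (by simp [AdjoinRoot.powerBasis'] : _ = e i))) j = AdjoinRoot.mk ((X : k[X]) ^ e i) ((X : k[X]) ^ (j : ℕ))
    rw [Module.Basis.reindex_apply, PowerBasis.basis_eq_pow, AdjoinRoot.powerBasis'_gen, ← AdjoinRoot.mk_X, ← map_pow]
    rfl
  let bp : Module.Basis (Σ i : Fin d, Fin (e i)) k ((i : Fin d) → Q i) := Pi.basis pb
  let bM : Module.Basis (Σ i : Fin d, Fin (e i)) k M := bp.map (Ψ.restrictScalars k).symm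
  refine ⟨d, e, bM.map (Module.AEval'.of T).symm, fun c => ?_⟩
  obtain ⟨i, j⟩ := c
  simp only [Module.Basis.map_apply]
  rw [← Module.AEval'.of_symm_X_smul]
  have hb : ∀ c, bM c = Ψ.symm (Pi.single c.1 (pb c.1 c.2)) := fun c => by
    simp [bM, bp, Pi.basis_apply]
  have hX : (X : k[X]) • bM ⟨i, j⟩ = Ψ.symm (Pi.single i (Submodule.Quotient.mk ((X : k[X]) ^ ((j : ℕ) + 1)))) := by
    rw [hb, ← map_smul, ← Pi.single_smul]
    congr 2
    rw [hpb, ← Submodule.Quotient.mk_smul, smul_eq_mul, ← pow_succ']
  rw [hX]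
  by_cases h : (j : ℕ) + 1 < e i
  · rw [dif_pos h]
    show (Module.AEval'.of T).symm _ = (Module.AEval'.of T).symm (bM ⟨i, ⟨_, h⟩⟩)
    rw [hb, hpb]
  · rw [dif_neg h]
    have hq : (Submodule.Quotient.mk ((X : k[X]) ^ ((j : ℕ) + 1)) : Q i) = 0 := by
      refine (Submodule.Quotient.mk_eq_zero _).mpr ?_
      rw [show (j : ℕ) + 1 = e i by have := j.2; omega]
      exact Submodule.mem_span_singleton_self _
    rw [hq, Pi.single_zero, map_zero, map_zero]

end Jordan

section Ops

variable {κ : Type} (e : κ → ℕ)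

/-- The variables of a system of chains. -/
abbrev Idx := Σ i : κ, Fin (e i)

variable (k : Type u) [CommRing k]

/-- The lowering derivation. -/
def D : Derivation k (MvPolynomial (Idx e) k) (MvPolynomial (Idx e) k) :=
  mkDerivation k fun c => if h : (c.2 : ℕ) + 1 < e c.1 then X ⟨c.1, ⟨_, h⟩⟩ else 0

/-- The raising derivation. -/
def U : Derivation k (MvPolynomial (Idx e) k) (MvPolynomial (Idx e) k) :=
  mkDerivation k fun c =>
    C (((c.2 : ℕ) * (e c.1 - c.2) : ℕ) : k) *
      (if 0 < (c.2 : ℕ) then X ⟨c.1, ⟨(c.2 : ℕ) - 1, (Nat.sub_le _ _).trans_lt c.2.2⟩⟩ else 0)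

/-- The weight derivation. -/
def H : Derivation k (MvPolynomial (Idx e) k) (MvPolynomial (Idx e) k) :=
  mkDerivation k fun c => C ((e c.1 : k) - 1 - 2 * (c.2 : ℕ)) * X c

theorem bracket_UD : ⁅U e k, D e k⁆ = H e k := by
  refine derivation_ext fun c => ?_
  obtain ⟨i, ⟨j, hj⟩⟩ := c
  simp only [Derivation.commutator_apply, H, mkDerivation_X]
  simp only [U, D, mkDerivation_X]
  rcases Nat.eq_zero_or_pos j with rfl | hpos
  · by_cases h : 1 < e i
    · rw [dif_pos h, mkDerivation_X]
      simp [h, Nat.cast_sub (le_of_lt h)]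
    · have : e i = 1 := by omega
      simp [this]
  · by_cases h : j + 1 < e i
    · rw [dif_pos h, mkDerivation_X, if_pos hpos, if_pos (Nat.succ_pos j), Derivation.leibniz, derivation_C,
        mkDerivation_X]
      rw [dif_pos (show j - 1 + 1 < e i by omega)]
      have e1 : (⟨i, ⟨j + 1 - 1, (Nat.sub_le _ _).trans_lt h⟩⟩ : Idx e) = ⟨i, ⟨j, hj⟩⟩ :=
        congrArg (Sigma.mk i) (Fin.ext (by simp))
      have e2 : (⟨i, ⟨j - 1 + 1, by omega⟩⟩ : Idx e) = ⟨i, ⟨j, hj⟩⟩ :=
        congrArg (Sigma.mk i) (Fin.ext (by simp; omega))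
      rw [e1, e2]
      simp only [Nat.cast_mul, Nat.cast_sub (le_of_lt h), Nat.cast_sub (le_of_lt hj), smul_zero, add_zero,
        smul_eq_mul, Nat.cast_add, Nat.cast_one, map_mul, map_sub, map_add, map_one, map_natCast, map_ofNat]
      ring
    · rw [dif_neg h, map_zero, if_pos hpos, Derivation.leibniz, derivation_C, mkDerivation_X,
        dif_pos (show j - 1 + 1 < e i by omega)]
      have he : e i = j + 1 := by omega
      have e2 : (⟨i, ⟨j - 1 + 1, by omega⟩⟩ : Idx e) = ⟨i, ⟨j, hj⟩⟩ :=
        congrArg (Sigma.mk i) (Fin.ext (by simp; omega))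
      rw [e2]
      simp only [he, Nat.add_sub_cancel_left, smul_zero, add_zero, smul_eq_mul, Nat.cast_add, Nat.cast_one,
        mul_one, map_sub, map_add, map_one, map_natCast, map_mul, map_ofNat]
      ring

theorem bracket_HD : ⁅H e k, D e k⁆ = (-2 : k) • D e k := by
  refine derivation_ext fun c => ?_
  simp only [Derivation.commutator_apply, Derivation.smul_apply, H, D, mkDerivation_X, Derivation.leibniz,
    derivation_C, smul_zero, add_zero, smul_eq_mul]
  split_ifs with h
  · rw [mkDerivation_X, smul_eq_C_mul]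
    simp only [Nat.cast_add, Nat.cast_one, map_sub, map_mul, map_add, map_one, map_natCast, map_ofNat, map_neg]
    ring
  · simp

theorem D_U_apply (f : MvPolynomial (Idx e) k) : D e k (U e k f) = U e k (D e k f) - H e k f := by
  rw [← bracket_UD, Derivation.commutator_apply]
  abel

theorem D_H_apply (f : MvPolynomial (Idx e) k) : D e k (H e k f) = H e k (D e k f) + (2 : k) • D e k f := by
  have h := Derivation.congr_fun (bracket_HD e k) f
  rw [Derivation.commutator_apply, Derivation.smul_apply, neg_smul, sub_eq_iff_eq_add] at h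
  rw [h]
  abel

/-- The invariants. -/
def inv : Subalgebra k (MvPolynomial (Idx e) k) where
  carrier := {f | D e k f = 0 ∧ U e k f = 0}
  mul_mem' {f g} hf hg := ⟨by simp [Derivation.leibniz, hf.1, hg.1], by simp [Derivation.leibniz, hf.2, hg.2]⟩
  add_mem' {f g} hf hg := ⟨by simp [hf.1, hg.1], by simp [hf.2, hg.2]⟩
  algebraMap_mem' c := ⟨Derivation.map_algebraMap _ _, Derivation.map_algebraMap _ _⟩

/-- The Casimir-type operator. -/
def Ω : Module.End k (MvPolynomial (Idx e) k) :=
  (D e k).toLinearMap ∘ₗ (U e k).toLinearMap + (U e k).toLinearMap ∘ₗ (D e k).toLinearMap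

variable [Fintype κ]

theorem isHomogeneous_mkDerivation (g : Idx e → MvPolynomial (Idx e) k) (hg : ∀ c, (g c).IsHomogeneous 1)
    {f : MvPolynomial (Idx e) k} {n : ℕ} (hf : f.IsHomogeneous n) : (mkDerivation k g f).IsHomogeneous n := by
  classical
  have hd : ∀ f, mkDerivation k g f = ∑ c, pderiv c f * g c := by
    intro f
    induction f using MvPolynomial.induction_on with
    | C a => simp
    | add p q hp hq => simp only [map_add, hp, hq, add_mul, Finset.sum_add_distrib]
    | mul_X p c hp =>
      simp only [Derivation.leibniz, mkDerivation_X, pderiv_X, hp, smul_eq_mul, Finset.mul_sum, add_mul,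
        Finset.sum_add_distrib]
      congr 1
      · rw [Finset.sum_eq_single c]
        · simp
        · intro x _ hx; simp [hx]
        · simp
      · exact Finset.sum_congr rfl fun x _ => by ring
  rw [hd]
  refine IsHomogeneous.sum _ _ _ fun c _ => ?_
  rcases Nat.eq_zero_or_pos n with rfl | hn
  · rw [(totalDegree_eq_zero_iff_eq_C.mp ((totalDegree_zero_iff_isHomogeneous _).mpr hf))]
    simp [isHomogeneous_zero]
  · have := hf.pderiv (i := c) |>.mul (hg c)
    rwa [Nat.sub_add_cancel hn] at this

theorem isHomogeneous_D {f : MvPolynomial (Idx e) k} {n : ℕ} (hf : f.IsHomogeneous n) :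
    (D e k f).IsHomogeneous n := by
  refine isHomogeneous_mkDerivation e k _ (fun c => ?_) hf
  split_ifs
  · exact isHomogeneous_X _ _
  · exact isHomogeneous_zero _ _ _

theorem isHomogeneous_U {f : MvPolynomial (Idx e) k} {n : ℕ} (hf : f.IsHomogeneous n) :
    (U e k f).IsHomogeneous n := by
  refine isHomogeneous_mkDerivation e k _ (fun c => ?_) hf
  refine IsHomogeneous.C_mul ?_ _
  split_ifs
  · exact isHomogeneous_X _ _
  · exact isHomogeneous_zero _ _ _

theorem isHomogeneous_Ω {f : MvPolynomial (Idx e) k} {n : ℕ} (hf : f.IsHomogeneous n) :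
    (Ω e k f).IsHomogeneous n :=
  (isHomogeneous_D e k (isHomogeneous_U e k hf)).add (isHomogeneous_U e k (isHomogeneous_D e k hf))

theorem isHomogeneous_aeval_Ω (q : Polynomial k) {f : MvPolynomial (Idx e) k} {n : ℕ} (hf : f.IsHomogeneous n) :
    (Polynomial.aeval (Ω e k) q f).IsHomogeneous n := by
  induction q using Polynomial.induction_on' with
  | add p q hp hq => rw [map_add, LinearMap.add_apply]; exact hp.add hq
  | monomial j c =>
    rw [Polynomial.aeval_monomial, Module.End.mul_apply, Module.algebraMap_end_apply]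
    refine Submodule.smul_mem (homogeneousSubmodule (Idx e) k n) c ?_
    induction j with
    | zero => exact hf
    | succ j ih => rw [pow_succ', Module.End.mul_apply]; exact isHomogeneous_Ω e k ih

omit [Fintype κ] in
theorem Ω_mul {s : MvPolynomial (Idx e) k} (hs : s ∈ inv e k) (f : MvPolynomial (Idx e) k) :
    Ω e k (s * f) = s * Ω e k f := by
  simp [Ω, Derivation.leibniz, hs.1, hs.2, mul_add]

omit [Fintype κ] in
theorem aeval_Ω_mul (q : Polynomial k) {s : MvPolynomial (Idx e) k} (hs : s ∈ inv e k)
    (f : MvPolynomial (Idx e) k) : Polynomial.aeval (Ω e k) q (s * f) = s * Polynomial.aeval (Ω e k) q f := by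
  induction q using Polynomial.induction_on' with
  | add p q hp hq => simp only [map_add, LinearMap.add_apply, hp, hq, mul_add]
  | monomial j c =>
    simp only [Polynomial.aeval_monomial, Module.End.mul_apply, Module.algebraMap_end_apply]
    rw [mul_smul_comm]
    congr 1
    induction j with
    | zero => rfl
    | succ j ih => rw [pow_succ', Module.End.mul_apply, ih, Ω_mul e k hs, Module.End.mul_apply]

omit [Fintype κ] in
theorem aeval_Ω_fixed (q : Polynomial k) {h : MvPolynomial (Idx e) k} (hh : h ∈ inv e k) :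
    Polynomial.aeval (Ω e k) q h = q.coeff 0 • h := by
  have h0 : Ω e k h = 0 := by simp [Ω, hh.1, hh.2]
  conv_lhs => rw [← Polynomial.X_mul_divX_add q]
  rw [mul_comm, map_add, map_mul, Polynomial.aeval_X, Polynomial.aeval_C, LinearMap.add_apply, Module.End.mul_apply,
    h0, map_zero, zero_add, Module.algebraMap_end_apply]

end Ops

section Rat

variable {κ : Type} (e : κ → ℕ)

/-- The norm of a variable. -/
def wgt (c : Idx e) : ℚ := ∏ s ∈ Finset.range (c.2 : ℕ), ((s : ℚ) + 1) * ((e c.1 : ℚ) - s - 1)

theorem wgt_pos (c : Idx e) : 0 < wgt e c := by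
  refine Finset.prod_pos fun s hs => mul_pos (by positivity) ?_
  have h1 : s + 2 ≤ e c.1 := by have := Finset.mem_range.mp hs; have := c.2.2; omega
  have : (s : ℚ) + 2 ≤ (e c.1 : ℚ) := by exact_mod_cast h1
  linarith

/-- The norm of a monomial. -/
def nrm (a : Idx e →₀ ℕ) : ℚ := a.prod fun c n => (n.factorial : ℚ) * wgt e c ^ n

theorem nrm_pos (a : Idx e →₀ ℕ) : 0 < nrm e a :=
  Finset.prod_pos fun c _ => mul_pos (by exact_mod_cast Nat.factorial_pos _) (pow_pos (wgt_pos e c) _)

/-- The invariant bilinear form. -/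
def B (f g : MvPolynomial (Idx e) ℚ) : ℚ := (Finsupp.sum (AddMonoidAlgebra.coeff f) fun a x => x * (nrm e a * coeff a g))

theorem B_monomial (a : Idx e →₀ ℕ) (x : ℚ) (g : MvPolynomial (Idx e) ℚ) :
    B e (monomial a x) g = x * (nrm e a * coeff a g) := by
  rw [B]
  exact Finsupp.sum_single_index (zero_mul _)

theorem B_add_left (f f' g : MvPolynomial (Idx e) ℚ) : B e (f + f') g = B e f g + B e f' g := by
  rw [B, B, B, AddMonoidAlgebra.coeff_add]
  exact Finsupp.sum_add_index' (fun _ => zero_mul _) fun _ _ _ => add_mul _ _ _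

theorem B_eq_sum (f g : MvPolynomial (Idx e) ℚ) : B e f g = ∑ a ∈ f.support, coeff a f * (nrm e a * coeff a g) :=
  rfl

theorem B_add_right (f g g' : MvPolynomial (Idx e) ℚ) : B e f (g + g') = B e f g + B e f g' := by
  simp only [B_eq_sum, coeff_add, mul_add, Finset.sum_add_distrib]

theorem B_smul_right (f g : MvPolynomial (Idx e) ℚ) (x : ℚ) : B e f (x • g) = x * B e f g := by
  simp only [B_eq_sum, coeff_smul, smul_eq_mul, Finset.mul_sum]
  exact Finset.sum_congr rfl fun a _ => by ring

theorem B_comm (f g : MvPolynomial (Idx e) ℚ) : B e f g = B e g f := by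
  classical
  have h : ∀ f g : MvPolynomial (Idx e) ℚ, B e f g = ∑ a ∈ f.support ∪ g.support, coeff a f * (nrm e a * coeff a g) :=
    fun f g => (B_eq_sum e f g).trans (Finset.sum_subset Finset.subset_union_left fun a _ ha => by
      rw [notMem_support_iff.mp ha, zero_mul])
  rw [h, h, Finset.union_comm]
  exact Finset.sum_congr rfl fun a _ => by ring

theorem B_self_eq_zero {f : MvPolynomial (Idx e) ℚ} (h : B e f f = 0) : f = 0 := by
  rw [B_eq_sum, Finset.sum_eq_zero_iff_of_nonneg fun a _ => by
    rw [show coeff a f * (nrm e a * coeff a f) = nrm e a * (coeff a f) ^ 2 by ring]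
    exact mul_nonneg (nrm_pos e a).le (sq_nonneg _)] at h
  refine MvPolynomial.ext _ _ fun a => ?_
  rw [coeff_zero]
  by_contra hne
  have := h a (mem_support_iff.mpr hne)
  simp [hne, (nrm_pos e a).ne'] at this

theorem B_self_nonneg (f : MvPolynomial (Idx e) ℚ) : 0 ≤ B e f f := by
  rw [B_eq_sum]
  refine Finset.sum_nonneg fun a _ => ?_
  rw [show coeff a f * (nrm e a * coeff a f) = nrm e a * (coeff a f) ^ 2 by ring]
  exact mul_nonneg (nrm_pos e a).le (sq_nonneg _)

theorem nrm_add_single (a : Idx e →₀ ℕ) (c : Idx e) :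
    nrm e (a + Finsupp.single c 1) = ((a c : ℚ) + 1) * wgt e c * nrm e a := by
  classical
  have h : ∀ b : Idx e →₀ ℕ, nrm e b = (((b c).factorial : ℚ) * wgt e c ^ b c) *
      (b.erase c).prod (fun c n => (n.factorial : ℚ) * wgt e c ^ n) := fun b =>
    (Finsupp.mul_prod_erase' b c _ fun _ => by simp).symm
  rw [h, h a, Finsupp.erase_add, Finsupp.erase_single, add_zero, Finsupp.add_apply, Finsupp.single_eq_same,
    Nat.factorial_succ, pow_succ]
  push_cast
  ring

theorem B_X_mul (c : Idx e) (f g : MvPolynomial (Idx e) ℚ) :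
    B e (X c * f) g = wgt e c * B e f (pderiv c g) := by
  induction f using MvPolynomial.induction_on' with
  | monomial a x =>
    rw [X, monomial_mul, one_mul, B_monomial, B_monomial, coeff_pderiv, add_comm (Finsupp.single c 1) a,
      nrm_add_single]
    ring
  | add p q hp hq => rw [mul_add, B_add_left, B_add_left, hp, hq, mul_add]

theorem B_mkDerivation [Fintype κ] (A : Idx e → Idx e → ℚ) (A' : Idx e → Idx e → ℚ)
    (hA : ∀ r c, A r c * wgt e r = A' c r * wgt e c) (f g : MvPolynomial (Idx e) ℚ) :
    B e (mkDerivation ℚ (fun c => ∑ r, A r c • X r) f) g = B e f (mkDerivation ℚ (fun r => ∑ c, A' c r • X c) g) := by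
  classical
  have hd : ∀ (A : Idx e → Idx e → ℚ) (f : MvPolynomial (Idx e) ℚ),
      mkDerivation ℚ (fun c => ∑ r, A r c • X r) f = ∑ c, ∑ r, A r c • (X r * pderiv c f) := by
    intro A f
    induction f using MvPolynomial.induction_on with
    | C a => simp
    | add p q hp hq => simp only [map_add, hp, hq, mul_add, smul_add, Finset.sum_add_distrib]
    | mul_X p x hp =>
      simp only [Derivation.leibniz, mkDerivation_X, pderiv_X, hp, smul_eq_mul, Finset.mul_sum, mul_add, smul_add,
        Finset.sum_add_distrib]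
      congr 1
      · symm
        rw [Finset.sum_eq_single x]
        · refine Finset.sum_congr rfl fun r _ => ?_
          simp [mul_comm p (X r)]
        · intro c _ hc; simp [hc]
        · simp
      · exact Finset.sum_congr rfl fun c _ => Finset.sum_congr rfl fun r _ => by
          rw [mul_smul_comm]
          congr 1
          ring
  rw [hd A, hd (fun c r => A' c r)]
  let Bl : MvPolynomial (Idx e) ℚ →ₗ[ℚ] MvPolynomial (Idx e) ℚ →ₗ[ℚ] ℚ :=
    LinearMap.mk₂ ℚ (B e) (B_add_left e) (fun x f g => by
      rw [B_comm, B_smul_right, B_comm]; rfl) (B_add_right e) (fun x f g => B_smul_right e f g x)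
  show Bl _ g = Bl f _
  simp only [map_sum, map_smul, LinearMap.sum_apply, LinearMap.smul_apply, smul_eq_mul]
  rw [Finset.sum_comm]
  refine Finset.sum_congr rfl fun r _ => Finset.sum_congr rfl fun c _ => ?_
  show A r c * B e (X r * pderiv c f) g = A' c r * B e f (X c * pderiv r g)
  rw [B_X_mul, B_comm e f, B_X_mul, B_comm e (pderiv r g), ← mul_assoc, ← mul_assoc, hA]

theorem B_D [Fintype κ] (f g : MvPolynomial (Idx e) ℚ) : B e (D e ℚ f) g = B e f (U e ℚ g) := by
  classical
  let A : Idx e → Idx e → ℚ := fun r c => if r.1 = c.1 ∧ (r.2 : ℕ) = c.2 + 1 then 1 else 0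
  let A' : Idx e → Idx e → ℚ := fun c r =>
    if r.1 = c.1 ∧ (r.2 : ℕ) = c.2 + 1 then (((r.2 : ℕ) * (e r.1 - r.2) : ℕ) : ℚ) else 0
  have key : ∀ (c : Idx e) (n : ℕ) (h : n < e c.1) (r : Idx e),
      (r.1 = c.1 ∧ (r.2 : ℕ) = n) ↔ r = ⟨c.1, ⟨n, h⟩⟩ := by
    rintro ⟨ci, cj⟩ n h ⟨ri, rj⟩
    constructor
    · rintro ⟨rfl : ri = ci, h2⟩
      exact congrArg (Sigma.mk ri) (Fin.ext h2)
    · rintro ⟨⟩
      exact ⟨rfl, rfl⟩
  have hD : D e ℚ = mkDerivation ℚ fun c => ∑ r, A r c • (X r : MvPolynomial (Idx e) ℚ) := by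
    refine derivation_ext fun c => ?_
    rw [D, mkDerivation_X, mkDerivation_X]
    split_ifs with h
    · rw [Finset.sum_eq_single (⟨c.1, ⟨_, h⟩⟩ : Idx e)]
      · simp [A]
      · intro r _ hr
        simp only [A]
        rw [if_neg (fun hh => hr ((key c _ h r).mp hh)), zero_smul]
      · simp
    · symm
      refine Finset.sum_eq_zero fun r _ => ?_
      simp only [A]
      rw [if_neg, zero_smul]
      rintro ⟨h1, h2⟩
      have := r.2.2
      exact h (by rw [← h2, ← h1]; exact this)
  have hU : U e ℚ = mkDerivation ℚ fun r => ∑ c, A' c r • (X c : MvPolynomial (Idx e) ℚ) := by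
    refine derivation_ext fun r => ?_
    rw [U, mkDerivation_X, mkDerivation_X]
    split_ifs with h
    · rw [Finset.sum_eq_single (⟨r.1, ⟨(r.2 : ℕ) - 1, (Nat.sub_le _ _).trans_lt r.2.2⟩⟩ : Idx e)]
      · simp [A', smul_eq_C_mul, Nat.sub_add_cancel h]
      · intro c _ hc
        simp only [A']
        rw [if_neg, zero_smul]
        rintro ⟨h1, h2⟩
        exact hc ((key r _ ((Nat.sub_le _ _).trans_lt r.2.2) c).mp ⟨h1.symm, by omega⟩)
      · simp
    · rw [mul_zero]
      symm
      refine Finset.sum_eq_zero fun c _ => ?_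
      simp only [A']
      rw [if_neg (by rintro ⟨h1, h2⟩; omega), zero_smul]
  rw [hD, hU]
  refine B_mkDerivation e A A' (fun r c => ?_) f g
  simp only [A, A']
  split_ifs with h
  · obtain ⟨ri, rj⟩ := r
    obtain ⟨ci, cj⟩ := c
    obtain ⟨h1, h2⟩ := h
    dsimp only at h1 h2 ⊢
    subst h1
    have h3 : (rj : ℕ) + 1 ≤ e ri := rj.2
    simp only [wgt, h2]
    rw [Finset.prod_range_succ, Nat.cast_mul, Nat.cast_sub (by omega)]
    push_cast
    ring
  · simp

theorem exists_kill [Fintype κ] (n : ℕ) :
    ∃ p : Polynomial ℚ, p.coeff 0 = 1 ∧ ∀ f : MvPolynomial (Idx e) ℚ, f.IsHomogeneous n →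
      Polynomial.aeval (Ω e ℚ) p f ∈ inv e ℚ := by
  classical
  let Vn := homogeneousSubmodule (Idx e) ℚ n
  haveI : Module.Finite ℚ Vn :=
    Submodule.finiteDimensional_of_le (S₂ := restrictTotalDegree (Idx e) ℚ n) fun f hf =>
      (mem_restrictTotalDegree _ _ _).mpr (IsHomogeneous.totalDegree_le hf)
  let T : Module.End ℚ Vn := (Ω e ℚ).restrict fun f hf => isHomogeneous_Ω e ℚ hf
  have hne : minpoly ℚ T ≠ 0 := minpoly.ne_zero (Algebra.IsIntegral.isIntegral T)
  obtain ⟨v, q, hq, hmul⟩ : ∃ v q, q.coeff 0 ≠ 0 ∧ minpoly ℚ T = Polynomial.X ^ v * q := by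
    obtain ⟨q, hq, hd⟩ := Polynomial.exists_eq_pow_rootMultiplicity_mul_and_not_dvd (minpoly ℚ T) hne 0
    rw [map_zero, sub_zero] at hq hd
    exact ⟨_, q, fun h => hd (Polynomial.X_dvd_iff.mpr h), hq⟩
  refine ⟨Polynomial.C (q.coeff 0)⁻¹ * q, by simp [hq], fun f hf => ?_⟩
  set g := Polynomial.aeval (Ω e ℚ) (Polynomial.C (q.coeff 0)⁻¹ * q) f
  have hv : ∀ (p : Polynomial ℚ) (x : Vn), ((Polynomial.aeval T p x : Vn) : MvPolynomial (Idx e) ℚ) =
      Polynomial.aeval (Ω e ℚ) p (x : MvPolynomial (Idx e) ℚ) := by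
    intro p
    induction p using Polynomial.induction_on' with
    | add p q hp hq => intro x; simp [hp, hq]
    | monomial j c =>
      intro x
      simp only [Polynomial.aeval_monomial, Module.End.mul_apply, Module.algebraMap_end_apply, Submodule.coe_smul]
      congr 1
      induction j with
      | zero => rfl
      | succ j ih => rw [pow_succ', Module.End.mul_apply, pow_succ', Module.End.mul_apply, ← ih]; rfl
  have hzero : ((Ω e ℚ) ^ v) g = 0 := by
    have h1 : Polynomial.aeval (Ω e ℚ) (minpoly ℚ T) f = 0 := by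
      rw [← hv (minpoly ℚ T) ⟨f, hf⟩, minpoly.aeval ℚ T]; rfl
    rw [hmul, map_mul, map_pow, Polynomial.aeval_X, Module.End.mul_apply] at h1
    show ((Ω e ℚ) ^ v) (Polynomial.aeval (Ω e ℚ) (Polynomial.C (q.coeff 0)⁻¹ * q) f) = 0
    rw [map_mul, Polynomial.aeval_C, Module.End.mul_apply, Module.algebraMap_end_apply, map_smul, h1, smul_zero]
  have hadj : ∀ a b, B e (Ω e ℚ a) b = B e a (Ω e ℚ b) := by
    intro a b
    simp only [Ω, LinearMap.add_apply, LinearMap.comp_apply, Derivation.coeFn_coe, B_add_left, B_add_right]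
    have hU' : ∀ a b, B e (U e ℚ a) b = B e a (D e ℚ b) := fun a b => by rw [B_comm, ← B_D, B_comm]
    rw [B_D, hU', hU', B_D]
  have hker : ∀ (v : ℕ) x, ((Ω e ℚ) ^ v) x = 0 → Ω e ℚ x = 0 := by
    intro v
    induction v with
    | zero => intro x hx; rw [pow_zero, Module.End.one_apply] at hx; rw [hx, map_zero]
    | succ v ih =>
      intro x hx
      rw [pow_succ, Module.End.mul_apply] at hx
      have h2 := ih _ hx
      refine B_self_eq_zero e ?_
      rw [hadj, h2]
      simp [B_eq_sum]
  have hΩ := hker v g hzero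
  have hU' : ∀ a b, B e (U e ℚ a) b = B e a (D e ℚ b) := fun a b => by rw [B_comm, ← B_D, B_comm]
  have hsum : B e (U e ℚ g) (U e ℚ g) + B e (D e ℚ g) (D e ℚ g) = 0 := by
    have h0 : B e (Ω e ℚ g) g = 0 := by rw [hΩ]; simp [B_eq_sum]
    simp only [Ω, LinearMap.add_apply, LinearMap.comp_apply, Derivation.coeFn_coe, B_add_left] at h0
    rw [B_D e (U e ℚ g) g, hU' (D e ℚ g) g] at h0
    exact h0
  obtain ⟨h1, h2⟩ := (add_eq_zero_iff_of_nonneg (B_self_nonneg e _) (B_self_nonneg e _)).mp hsum
  exact ⟨B_self_eq_zero e h2, B_self_eq_zero e h1⟩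

end Rat

section Invariants

variable {k : Type u} [Field k] [CharZero k] {κ : Type} [Fintype κ] (e : κ → ℕ)

theorem map_D (f : MvPolynomial (Idx e) ℚ) :
    map (algebraMap ℚ k) (D e ℚ f) = D e k (map (algebraMap ℚ k) f) := by
  induction f using MvPolynomial.induction_on with
  | C a => simp
  | add p q hp hq => simp only [map_add, hp, hq]
  | mul_X p c hp =>
    simp only [Derivation.leibniz, smul_eq_mul, map_mul, map_add, map_X, hp]
    simp only [D, mkDerivation_X]
    split_ifs <;> simp

theorem map_U (f : MvPolynomial (Idx e) ℚ) :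
    map (algebraMap ℚ k) (U e ℚ f) = U e k (map (algebraMap ℚ k) f) := by
  induction f using MvPolynomial.induction_on with
  | C a => simp
  | add p q hp hq => simp only [map_add, hp, hq]
  | mul_X p c hp =>
    simp only [Derivation.leibniz, smul_eq_mul, map_mul, map_add, map_X, hp]
    simp only [U, mkDerivation_X, map_mul, map_C, map_natCast]
    split_ifs <;> simp

variable (k) in
theorem exists_reynolds (n : ℕ) :
    ∃ p : Polynomial k, p.coeff 0 = 1 ∧ ∀ f : MvPolynomial (Idx e) k, f.IsHomogeneous n →
      Polynomial.aeval (Ω e k) p f ∈ inv e k := by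
  classical
  obtain ⟨p, hp0, hp⟩ := exists_kill e n
  refine ⟨p.map (algebraMap ℚ k), by simp [hp0], fun f hf => ?_⟩
  have hcomm : ∀ g : MvPolynomial (Idx e) ℚ, Polynomial.aeval (Ω e k) (p.map (algebraMap ℚ k)) (map (algebraMap ℚ k) g) =
      map (algebraMap ℚ k) (Polynomial.aeval (Ω e ℚ) p g) := by
    intro g
    clear hp hp0
    induction p using Polynomial.induction_on' with
    | add p q hp hq => simp only [Polynomial.map_add, map_add, LinearMap.add_apply, hp, hq]
    | monomial j c =>
      simp only [Polynomial.map_monomial, Polynomial.aeval_monomial, Module.End.mul_apply,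
        Module.algebraMap_end_apply, smul_eq_C_mul, map_mul, map_C]
      congr 1
      induction j with
      | zero => rfl
      | succ j ih =>
        rw [pow_succ', Module.End.mul_apply, ih, pow_succ', Module.End.mul_apply]
        simp [Ω, map_D, map_U]
  rw [as_sum f, map_sum]
  refine Subalgebra.sum_mem _ fun a ha => ?_
  have hm : monomial a (coeff a f) = coeff a f • map (algebraMap ℚ k) (monomial a (1 : ℚ)) := by
    rw [map_monomial, map_one, smul_monomial, smul_eq_mul, mul_one]
  rw [hm, map_smul, hcomm]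
  refine Subalgebra.smul_mem _ ?_ _
  have hhom : (monomial a (1 : ℚ)).IsHomogeneous n := isHomogeneous_monomial _ (by
    have := hf (mem_support_iff.mp ha)
    rwa [Finsupp.degree_eq_weight_one])
  obtain ⟨h1, h2⟩ := hp _ hhom
  exact ⟨by rw [← map_D, h1, map_zero], by rw [← map_U, h2, map_zero]⟩

omit [CharZero k] in
theorem homogeneousComponent_comm (L : MvPolynomial (Idx e) k →ₗ[k] MvPolynomial (Idx e) k) (j : ℕ)
    (hL : ∀ f d, IsHomogeneous f d → (L f).IsHomogeneous (d + j)) (f : MvPolynomial (Idx e) k) (n : ℕ) :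
    homogeneousComponent (n + j) (L f) = L (homogeneousComponent n f) := by
  classical
  conv_lhs => rw [← sum_homogeneousComponent (φ := f)]
  rw [map_sum, map_sum]
  rw [Finset.sum_eq_single n]
  · rw [homogeneousComponent_of_mem (hL _ _ (homogeneousComponent_isHomogeneous n f)), if_pos rfl]
  · intro d _ hd
    rw [homogeneousComponent_of_mem (hL _ _ (homogeneousComponent_isHomogeneous d f)), if_neg (by omega)]
  · intro hn
    rw [homogeneousComponent_eq_zero n f (by simpa [Nat.lt_succ_iff] using hn), map_zero, map_zero]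

theorem inv_fg : (inv e k).FG := by
  classical
  haveI : IsNoetherianRing (MvPolynomial (Idx e) k) := MvPolynomial.isNoetherianRing
  let S : Set (MvPolynomial (Idx e) k) := {h | h ∈ inv e k ∧ ∃ d, 0 < d ∧ h.IsHomogeneous d}
  obtain ⟨T, hT, hspan⟩ := (Submodule.fg_span_iff_fg_span_finset_subset (R := MvPolynomial (Idx e) k) S).mp
    (IsNoetherian.noetherian _)
  refine ⟨T, le_antisymm (Algebra.adjoin_le fun t ht => (hT ht).1) fun f hf => ?_⟩
  suffices h : ∀ n (h : MvPolynomial (Idx e) k), h ∈ inv e k → h.IsHomogeneous n → h ∈ Algebra.adjoin k (T : Set _) by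
    rw [← sum_homogeneousComponent (φ := f)]
    refine Subalgebra.sum_mem _ fun n _ => h n _ ⟨?_, ?_⟩ (homogeneousComponent_isHomogeneous n f)
    · have h1 := homogeneousComponent_comm e (D e k).toLinearMap 0 (fun f d hfd => isHomogeneous_D e k hfd) f n
      exact h1.symm.trans (by simp [hf.1])
    · have h1 := homogeneousComponent_comm e (U e k).toLinearMap 0 (fun f d hfd => isHomogeneous_U e k hfd) f n
      exact h1.symm.trans (by simp [hf.2])
  intro n
  induction n using Nat.strong_induction_on with
  | _ n ih =>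
    intro h hh hhom
    rcases Nat.eq_zero_or_pos n with rfl | hn
    · rw [totalDegree_eq_zero_iff_eq_C.mp ((totalDegree_zero_iff_isHomogeneous _).mpr hhom)]
      exact Subalgebra.algebraMap_mem _ _
    have hmem : h ∈ Submodule.span (MvPolynomial (Idx e) k) (T : Set _) :=
      hspan ▸ Submodule.subset_span ⟨hh, n, hn, hhom⟩
    obtain ⟨g, -, hg⟩ := Submodule.mem_span_finset.mp hmem
    choose deg hdeg0 hdeg using fun t : T => (hT t.2).2
    choose p hp0 hp using exists_reynolds k e
    let q := p n * ∏ t ∈ T.attach, p (n - deg t)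
    have hq0 : q.coeff 0 = 1 := by simp [q, Polynomial.mul_coeff_zero, Polynomial.coeff_zero_prod, hp0]
    have h1 : h = ∑ t ∈ T.attach, homogeneousComponent n (g t * (t : MvPolynomial (Idx e) k)) := by
      rw [← map_sum, Finset.sum_attach T (fun t => g t * t)]
      simp only [smul_eq_mul] at hg
      rw [hg, homogeneousComponent_of_mem hhom, if_pos rfl]
    have h2 : h = ∑ t ∈ T.attach, Polynomial.aeval (Ω e k) q (homogeneousComponent n (g t * (t : MvPolynomial (Idx e) k))) := by
      rw [← map_sum, ← h1, aeval_Ω_fixed e k q hh, hq0, one_smul]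
    rw [h2]
    refine Subalgebra.sum_mem _ fun t ht => ?_
    by_cases hle : deg t ≤ n
    · have h3 := homogeneousComponent_comm e (LinearMap.mulRight k (t : MvPolynomial (Idx e) k)) (deg t)
        (fun f d hfd => hfd.mul (hdeg t)) (g t) (n - deg t)
      rw [Nat.sub_add_cancel hle] at h3
      simp only [LinearMap.mulRight_apply] at h3
      rw [h3, mul_comm, aeval_Ω_mul e k q (hT t.2).1]
      refine mul_mem (Algebra.subset_adjoin t.2) ?_
      have hhc := homogeneousComponent_isHomogeneous (n - deg t) (g (t : MvPolynomial (Idx e) k))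
      refine ih (n - deg t) (by have := hdeg0 t; omega) _ ?_ (isHomogeneous_aeval_Ω e k q hhc)
      obtain ⟨r, hr⟩ : p (n - deg t) ∣ q := (Finset.dvd_prod_of_mem (fun t => p (n - deg t)) ht).mul_left _
      rw [hr, map_mul, Module.End.mul_apply]
      exact hp _ _ (isHomogeneous_aeval_Ω e k r hhc)
    · have : homogeneousComponent n (g (t : MvPolynomial (Idx e) k) * (t : MvPolynomial (Idx e) k)) = 0 := by
        rw [← sum_homogeneousComponent (φ := g (t : MvPolynomial (Idx e) k)), Finset.sum_mul, map_sum]
        refine Finset.sum_eq_zero fun d _ => ?_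
        rw [homogeneousComponent_of_mem ((homogeneousComponent_isHomogeneous d _).mul (hdeg t)), if_neg (by omega)]
      rw [this, map_zero]
      exact zero_mem _

end Invariants

section Seshadri

variable {k : Type u} [Field k] [CharZero k] {d : ℕ} (e : Fin d → ℕ)

/-- The enlarged system with one more chain of length two. -/
def ext : Option (Fin d) → ℕ := fun o => o.elim 2 e

/-- The specialisation. -/
def spec : MvPolynomial (Idx (ext e)) k →ₐ[k] MvPolynomial (Idx e) k :=
  aeval fun c => match c with
    | ⟨none, j⟩ => if (j : ℕ) = 0 then 1 else 0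
    | ⟨some i, j⟩ => X ⟨i, j⟩

/-- The inclusion. -/
def incl : MvPolynomial (Idx e) k →ₐ[k] MvPolynomial (Idx (ext e)) k :=
  rename fun c => (⟨some c.1, c.2⟩ : Idx (ext e))

omit [CharZero k] in
theorem spec_incl (f : MvPolynomial (Idx e) k) : spec e (incl e f) = f := by
  rw [spec, incl, aeval_rename]
  exact aeval_X_left_apply f

omit [CharZero k] in
theorem spec_D (h : MvPolynomial (Idx (ext e)) k) : spec e (D (ext e) k h) = D e k (spec e h) := by
  induction h using MvPolynomial.induction_on with
  | C a => simp [spec]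
  | add p q hp hq => simp only [map_add, hp, hq]
  | mul_X p c hp =>
    simp only [Derivation.leibniz, smul_eq_mul, map_add, map_mul, hp]
    congr 2
    obtain ⟨_ | i, j⟩ := c
    · simp only [D, mkDerivation_X]
      split_ifs with h1
      · simp only [spec, aeval_X]
        rw [if_neg (by simp)]
        split_ifs <;> simp
      · simp only [spec, aeval_X, map_zero]
        split_ifs <;> simp
    · have hs : spec e (X ⟨some i, j⟩ : MvPolynomial (Idx (ext e)) k) = X ⟨i, j⟩ := by simp [spec]
      rw [hs]
      simp only [D, mkDerivation_X]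
      split_ifs with h1 h2 h2
      · simp [spec]
        rfl
      · exact absurd h1 h2
      · exact absurd h2 h1
      · simp

omit [CharZero k] in
theorem incl_D (f : MvPolynomial (Idx e) k) : incl e (D e k f) = D (ext e) k (incl e f) := by
  induction f using MvPolynomial.induction_on with
  | C a => simp [incl]
  | add p q hp hq => simp only [map_add, hp, hq]
  | mul_X p c hp =>
    simp only [Derivation.leibniz, smul_eq_mul, map_add, map_mul, hp]
    congr 2
    simp only [incl, rename_X, D, mkDerivation_X]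
    split_ifs with h1 h2 h2
    · rw [rename_X]; rfl
    · exact absurd h1 h2
    · exact absurd h2 h1
    · simp

omit [CharZero k] in
theorem incl_U (f : MvPolynomial (Idx e) k) : incl e (U e k f) = U (ext e) k (incl e f) := by
  induction f using MvPolynomial.induction_on with
  | C a => simp [incl]
  | add p q hp hq => simp only [map_add, hp, hq]
  | mul_X p c hp =>
    simp only [Derivation.leibniz, smul_eq_mul, map_add, map_mul, hp]
    congr 2
    simp only [incl, rename_X, U, mkDerivation_X, map_mul, rename_C]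
    split_ifs
    · rw [rename_X]; rfl
    · simp

theorem H_monomial (a : Idx e →₀ ℕ) :
    ∃ w : k, ∀ x : k, H e k (monomial a x) = w • monomial a x := by
  classical
  induction a using Finsupp.induction_linear with
  | zero => exact ⟨0, fun x => by rw [zero_smul, monomial_zero']; exact derivation_C _ _⟩
  | add a b ha hb =>
    obtain ⟨w, hw⟩ := ha
    obtain ⟨w', hw'⟩ := hb
    refine ⟨w + w', fun x => ?_⟩
    rw [show monomial (a + b) x = monomial a x * monomial b (1 : k) by rw [monomial_mul, mul_one],
      Derivation.leibniz, hw, hw', smul_eq_mul, smul_eq_mul, smul_eq_C_mul, smul_eq_C_mul, smul_eq_C_mul, map_add]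
    ring
  | single c n =>
    refine ⟨(n : k) * ((e c.1 : k) - 1 - 2 * (c.2 : ℕ)), fun x => ?_⟩
    rw [show monomial (Finsupp.single c n) x = C x * X c ^ n by rw [C_mul_X_pow_eq_monomial], Derivation.leibniz,
      derivation_C, Derivation.leibniz_pow, smul_zero, add_zero]
    simp only [H, mkDerivation_X, smul_eq_mul, nsmul_eq_mul, smul_eq_C_mul, map_mul, map_natCast]
    rcases n with _ | n
    · simp
    · simp only [Nat.add_sub_cancel, Nat.cast_succ, pow_succ]
      ring

theorem U_locally_nilpotent (f : MvPolynomial (Idx e) k) : ∃ N : ℕ, ((U e k).toLinearMap ^ N) f = 0 := by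
  classical
  let L : (Idx e →₀ ℕ) → ℕ := fun a => a.sum fun c n => n * (c.2 : ℕ)
  have key : ∀ (N : ℕ) (a : Idx e →₀ ℕ), L a < N → ∀ x, ((U e k).toLinearMap ^ N) (monomial a x) = 0 := by
    intro N
    induction N with
    | zero => intro a h; exact absurd h (Nat.not_lt_zero _)
    | succ N ih =>
      intro a ha x
      rw [pow_succ, Module.End.mul_apply, Derivation.coeFn_coe, U, mkDerivation_monomial, Finsupp.sum, Finset.smul_sum, map_sum]
      refine Finset.sum_eq_zero fun c hc => ?_
      simp only [smul_eq_mul]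
      by_cases hpos : 0 < (c.2 : ℕ)
      · rw [if_pos hpos, X, C_mul_monomial, monomial_mul, smul_monomial]
        refine ih _ ?_ _
        have hLadd : ∀ u v, L (u + v) = L u + L v := fun u v =>
          Finsupp.sum_add_index' (fun _ => zero_mul _) (fun _ _ _ => add_mul _ _ _)
        have hLs : ∀ (c : Idx e) n, L (Finsupp.single c n) = n * (c.2 : ℕ) := fun c n =>
          Finsupp.sum_single_index (zero_mul _)
        have h1 : a - Finsupp.single c 1 + Finsupp.single c 1 = a :=
          tsub_add_cancel_of_le (Finsupp.single_le_iff.mpr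
            (Nat.one_le_iff_ne_zero.mpr (Finsupp.mem_support_iff.mp hc)))
        have h2 := congrArg L h1
        rw [hLadd, hLs] at h2
        rw [hLadd, hLs]
        simp only [one_mul] at h2 ⊢
        omega
      · rw [if_neg hpos, mul_zero, mul_zero, smul_zero, map_zero]
  refine ⟨f.support.sup L + 1, ?_⟩
  rw [as_sum f, map_sum]
  refine Finset.sum_eq_zero fun a ha => key _ a (Nat.lt_succ_iff.mpr ?_) _
  rw [← as_sum f] at *
  exact Finset.le_sup ha

theorem mem_image_of_eigen {f : MvPolynomial (Idx e) k} (hf : D e k f = 0) (μ : k) (hH : H e k f = -μ • f) :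
    ∃ h ∈ inv (ext e) k, spec e h = f := by
  classical
  rcases eq_or_ne f 0 with rfl | hne
  · exact ⟨0, zero_mem _, map_zero _⟩
  set Ul := (U e k).toLinearMap with hUl
  have hHU : ∀ g, H e k (U e k g) = U e k (H e k g) + (2 : k) • U e k g := by
    have h : ⁅H e k, U e k⁆ = (2 : k) • U e k := by
      refine derivation_ext fun c => ?_
      simp only [Derivation.commutator_apply, Derivation.smul_apply, H, U, mkDerivation_X, Derivation.leibniz,
        derivation_C, smul_zero, add_zero, smul_eq_mul, smul_eq_C_mul]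
      split_ifs with h
      · simp only [mkDerivation_X, Nat.cast_sub (Nat.one_le_iff_ne_zero.mpr h.ne'), Nat.cast_one, map_sub, map_mul,
          map_one, map_natCast, map_ofNat]
        ring
      · simp
    intro g
    have := Derivation.congr_fun h g
    rw [Derivation.commutator_apply, Derivation.smul_apply, sub_eq_iff_eq_add] at this
    rw [this, add_comm]
  have hHs : ∀ s : ℕ, H e k ((Ul ^ s) f) = (-μ + 2 * (s : k)) • (Ul ^ s) f := by
    intro s
    induction s with
    | zero => simp [hH]
    | succ s ih =>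
      rw [pow_succ', Module.End.mul_apply, show Ul ((Ul ^ s) f) = U e k ((Ul ^ s) f) from rfl, hHU, ih,
        Derivation.map_smul, ← add_smul]
      congr 1
      push_cast
      ring
  have hDs : ∀ s : ℕ, D e k ((Ul ^ (s + 1)) f) = (((s : k) + 1) * (μ - s)) • (Ul ^ s) f := by
    intro s
    induction s with
    | zero =>
      rw [pow_one, show Ul f = U e k f from rfl, D_U_apply, hf, map_zero, hH]
      simp
    | succ s ih =>
      rw [pow_succ' Ul (s + 1), Module.End.mul_apply, show Ul ((Ul ^ (s + 1)) f) = U e k ((Ul ^ (s + 1)) f) from rfl,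
        D_U_apply, ih, Derivation.map_smul, hHs, show U e k ((Ul ^ s) f) = (Ul ^ (s + 1)) f by
          rw [pow_succ', Module.End.mul_apply]; rfl, ← sub_smul]
      congr 1
      push_cast
      ring
  have hex := U_locally_nilpotent e f
  obtain ⟨m, hm⟩ : ∃ m, Nat.find hex = m + 1 := by
    refine Nat.exists_eq_add_one.mpr (Nat.pos_of_ne_zero fun h0 => hne ?_)
    have := Nat.find_spec hex
    rw [h0, pow_zero, Module.End.one_apply] at this
    exact this
  have hzero : (Ul ^ (m + 1)) f = 0 := by rw [← hm]; exact Nat.find_spec hex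
  have hnz : (Ul ^ m) f ≠ 0 := Nat.find_min hex (by omega)
  have hμ : μ = m := by
    have := hDs m
    rw [hzero, map_zero, eq_comm, smul_eq_zero] at this
    rcases this with h | h
    · rcases mul_eq_zero.mp h with h' | h'
      · exact absurd h' (Nat.cast_add_one_ne_zero m)
      · exact sub_eq_zero.mp h'
    · exact absurd h hnz
  subst hμ
  let y0 : MvPolynomial (Idx (ext e)) k := X ⟨none, (⟨0, by norm_num⟩ : Fin 2)⟩
  let y1 : MvPolynomial (Idx (ext e)) k := X ⟨none, (⟨1, by norm_num⟩ : Fin 2)⟩
  have hDy0 : D (ext e) k y0 = y1 := by simp [D, y0, y1, ext]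
  have hDy1 : D (ext e) k y1 = 0 := by simp [D, y1, ext]
  have hUy0 : U (ext e) k y0 = 0 := by simp [U, y0]
  have hUy1 : U (ext e) k y1 = y0 := by simp [U, y0, y1, ext] <;> norm_num
  let F : ℕ → MvPolynomial (Idx (ext e)) k := fun s => incl e ((Ul ^ s) f)
  let c : ℕ → k := fun s => (-1) ^ s / (s.factorial : k)
  have hc : ∀ s : ℕ, c (s + 1) * ((s : k) + 1) = -c s := by
    intro s
    simp only [c, Nat.factorial_succ, Nat.cast_mul, Nat.cast_succ, pow_succ]
    have h1 : ((s.factorial : ℕ) : k) ≠ 0 := Nat.cast_ne_zero.mpr (Nat.factorial_ne_zero _)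
    have h2 : (s : k) + 1 ≠ 0 := Nat.cast_add_one_ne_zero s
    field_simp
  have hUF : ∀ s, U (ext e) k (F s) = F (s + 1) := fun s => by
    simp only [F, ← incl_U, pow_succ', Module.End.mul_apply]
    rfl
  have hDF : ∀ s, D (ext e) k (F (s + 1)) = C (((s : k) + 1) * ((m : k) - s)) * F s := fun s => by
    simp only [F, ← incl_D, hDs, smul_eq_C_mul, map_mul]
    simp [incl]
  have hDF0 : D (ext e) k (F 0) = 0 := by simp [F, ← incl_D, hf]
  have hlast : F (m + 1) = 0 := by simp [F, hzero]
  refine ⟨∑ s ∈ Finset.range (m + 1), C (c s) * (y0 ^ (m - s) * y1 ^ s * F s), ⟨?_, ?_⟩, ?_⟩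
  · rw [map_sum]
    have hterm : ∀ s ∈ Finset.range (m + 1), D (ext e) k (C (c s) * (y0 ^ (m - s) * y1 ^ s * F s)) =
        (fun s => C (c s * ((m : k) - s)) * (y0 ^ (m - s - 1) * y1 ^ (s + 1) * F s)) s -
          (fun s => if s = 0 then 0 else C (c (s - 1) * ((m : k) - (s - 1 : ℕ))) *
            (y0 ^ (m - (s - 1) - 1) * y1 ^ (s - 1 + 1) * F (s - 1))) s := by
      intro s hs
      have hsm : s ≤ m := Nat.lt_succ_iff.mp (Finset.mem_range.mp hs)
      simp only [Derivation.leibniz, Derivation.leibniz_pow, derivation_C, hDy0, hDy1, smul_eq_mul, nsmul_eq_mul,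
        mul_zero, add_zero]
      rcases s with _ | t
      · simp only [hDF0, mul_zero, zero_add, if_true, sub_zero, Nat.sub_zero, pow_zero, map_mul, map_sub,
          map_natCast, Nat.cast_zero, map_zero, pow_one, mul_one]
        ring
      · rw [if_neg (Nat.succ_ne_zero t), hDF]
        simp only [Nat.add_sub_cancel]
        rw [show c t = -(c (t + 1) * ((t : k) + 1)) by rw [hc, neg_neg], Nat.cast_sub hsm,
          show m - t - 1 = m - (t + 1) by omega]
        simp only [Nat.cast_add, Nat.cast_one, map_mul, map_sub, map_add, map_neg, map_one, map_natCast]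
        ring
    rw [Finset.sum_congr rfl hterm, Finset.sum_sub_distrib, Finset.sum_range_succ _ m, Finset.sum_range_succ' _ m]
    simp
  · rw [map_sum]
    have hterm : ∀ s ∈ Finset.range (m + 1), U (ext e) k (C (c s) * (y0 ^ (m - s) * y1 ^ s * F s)) =
        (fun s => C (c s) * (y0 ^ (m - s) * y1 ^ s * F (s + 1))) s -
          (fun s => if s = 0 then 0 else C (c (s - 1)) * (y0 ^ (m - (s - 1)) * y1 ^ (s - 1) * F (s - 1 + 1))) s := by
      intro s hs
      have hsm : s ≤ m := Nat.lt_succ_iff.mp (Finset.mem_range.mp hs)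
      simp only [Derivation.leibniz, Derivation.leibniz_pow, derivation_C, hUy0, hUy1, hUF, smul_eq_mul,
        nsmul_eq_mul, mul_zero, add_zero]
      rcases s with _ | t
      · simp
      · rw [if_neg (Nat.succ_ne_zero t)]
        simp only [Nat.add_sub_cancel]
        rw [show c t = -(c (t + 1) * ((t : k) + 1)) by rw [hc, neg_neg], show m - t = (m - (t + 1)) + 1 by omega,
          pow_succ y0]
        simp only [Nat.cast_add, Nat.cast_one, map_mul, map_add, map_neg, map_one, map_natCast]
        ring
    rw [Finset.sum_congr rfl hterm, Finset.sum_sub_distrib, Finset.sum_range_succ _ m, Finset.sum_range_succ' _ m]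
    simp [hlast]
  · rw [map_sum, Finset.sum_eq_single 0]
    · simp [c, F, spec_incl, y0, y1, spec]
      exact spec_incl e f
    · intro s _ hs
      have : spec e y1 = 0 := by simp [spec, y1]
      simp [this, hs]
    · simp

theorem mem_image {f : MvPolynomial (Idx e) k} (hf : D e k f = 0) : f ∈ (inv (ext e) k).map (spec e) := by
  classical
  choose w hw using H_monomial (k := k) e
  let W := f.support.image w
  let Hl := (H e k).toLinearMap
  let p : k → Polynomial k := fun v => Lagrange.basis W id v
  have hpoly : ∀ (q : Polynomial k) a x, Polynomial.aeval Hl q (monomial a x) = q.eval (w a) • monomial a x := by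
    intro q a x
    induction q using Polynomial.induction_on' with
    | add q r hq hr => simp only [map_add, LinearMap.add_apply, hq, hr, Polynomial.eval_add, add_smul]
    | monomial j c =>
      simp only [Polynomial.aeval_monomial, Module.End.mul_apply, Module.algebraMap_end_apply,
        Polynomial.eval_monomial, mul_smul]
      congr 1
      induction j with
      | zero => simp
      | succ j ih =>
        rw [pow_succ', Module.End.mul_apply, ih, map_smul, show Hl (monomial a x) = w a • monomial a x from hw a x,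
          smul_smul, pow_succ]
  have hcomp : ∀ v ∈ W, Polynomial.aeval Hl (p v) f = ∑ a ∈ f.support.filter (fun a => w a = v), monomial a (coeff a f) := by
    intro v hv
    conv_lhs => rw [as_sum f]
    rw [map_sum, Finset.sum_filter]
    refine Finset.sum_congr rfl fun a ha => ?_
    rw [hpoly]
    split_ifs with h
    · have := Lagrange.eval_basis_self (v := id) Function.injective_id.injOn hv
      simp only [id] at this
      rw [h, show (p v).eval v = 1 from this, one_smul]
    · have := Lagrange.eval_basis_of_ne (v := id) (s := W) (Ne.symm h) (Finset.mem_image_of_mem w ha)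
      simp only [id] at this
      rw [show (p v).eval (w a) = 0 from this, zero_smul]
  have hsum : f = ∑ v ∈ W, Polynomial.aeval Hl (p v) f := by
    rw [Finset.sum_congr rfl hcomp, Finset.sum_fiberwise_of_maps_to fun a ha => Finset.mem_image_of_mem w ha]
    exact as_sum f
  have hD : ∀ q : Polynomial k, D e k (Polynomial.aeval Hl q f) = 0 := by
    intro q
    induction q using Polynomial.induction_on' with
    | add q r hq hr => simp only [map_add, LinearMap.add_apply, hq, hr, add_zero]
    | monomial j c =>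
      rw [Polynomial.aeval_monomial, Module.End.mul_apply, Module.algebraMap_end_apply, Derivation.map_smul]
      have : D e k ((Hl ^ j) f) = 0 := by
        induction j with
        | zero => exact hf
        | succ j ih =>
          rw [pow_succ', Module.End.mul_apply, show Hl ((Hl ^ j) f) = H e k ((Hl ^ j) f) from rfl, D_H_apply, ih,
            map_zero, smul_zero, add_zero]
      rw [this, smul_zero]
  rw [hsum]
  refine Subalgebra.sum_mem _ fun v hv => ?_
  have hH : H e k (Polynomial.aeval Hl (p v) f) = -(-v) • Polynomial.aeval Hl (p v) f := by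
    rw [neg_neg, hcomp v hv, map_sum, Finset.smul_sum]
    exact Finset.sum_congr rfl fun a ha => by rw [hw, (Finset.mem_filter.mp ha).2]
  obtain ⟨h, hh, hhe⟩ := mem_image_of_eigen e (hD (p v)) (-v) hH
  exact ⟨h, hh, hhe⟩

/-- The kernel of the lowering derivation is finitely generated. -/
theorem exists_fg_ker : ∃ S : Subalgebra k (MvPolynomial (Idx e) k), S.FG ∧ ∀ f, f ∈ S ↔ D e k f = 0 := by
  refine ⟨(inv (ext e) k).map (spec e), (inv_fg (ext e)).map _, fun f => ⟨?_, mem_image e⟩⟩
  rintro ⟨h, hh, rfl⟩
  show D e k (spec e h) = 0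
  rw [← spec_D, hh.1, map_zero]

end Seshadri

/-- Weitzenböck's theorem. -/
theorem exists_fg {k : Type u} [Field k] [CharZero k] (n : ℕ) (M : Matrix (Fin n) (Fin n) k) (hM : IsNilpotent M) :
    ∃ S : Subalgebra k (MvPolynomial (Fin n) k), S.FG ∧
      ∀ f : MvPolynomial (Fin n) k, f ∈ S ↔
        MvPolynomial.mkDerivation k (fun j : Fin n => ∑ i : Fin n, M i j • (MvPolynomial.X i : MvPolynomial (Fin n) k)) f = 0 := by
  classical
  obtain ⟨d, e, b, hb⟩ := exists_chain_basis (Matrix.toLinAlgEquiv' M) (hM.map _)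
  let L : (Fin n → k) →ₗ[k] MvPolynomial (Fin n) k := ∑ i, (LinearMap.proj i).smulRight (X i)
  have hL : ∀ v, L v = ∑ i, v i • X i := fun v => by simp [L, LinearMap.sum_apply]
  set δ := mkDerivation k fun j : Fin n => ∑ i : Fin n, M i j • (X i : MvPolynomial (Fin n) k) with hδ
  let φ : MvPolynomial (Idx e) k →ₐ[k] MvPolynomial (Fin n) k := aeval fun c => L (b c)
  let ψ : MvPolynomial (Fin n) k →ₐ[k] MvPolynomial (Idx e) k :=
    aeval fun i => ∑ c, b.repr (Pi.single i 1) c • X c
  have hL1 : ∀ i, L (Pi.single i 1) = X i := fun i => by simp [hL, Pi.single_apply]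
  have hφψ : ∀ f, φ (ψ f) = f := by
    intro f
    suffices φ.comp ψ = AlgHom.id k _ from AlgHom.congr_fun this f
    refine algHom_ext fun i => ?_
    simp only [AlgHom.comp_apply, ψ, aeval_X, φ, map_sum, map_smul]
    rw [← hL1 i]
    conv_rhs => rw [AlgHom.id_apply, ← b.sum_repr (Pi.single i 1)]
    simp only [map_sum, map_smul]
  have hψφ : ∀ f, ψ (φ f) = f := by
    intro f
    suffices ψ.comp φ = AlgHom.id k _ from AlgHom.congr_fun this f
    refine algHom_ext fun c => ?_
    simp only [AlgHom.comp_apply, φ, aeval_X, hL, map_sum, map_smul, ψ, Finset.smul_sum, smul_smul, AlgHom.id_apply]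
    rw [Finset.sum_comm]
    have hrepr : ∀ c', ∑ i, b c i * b.repr (Pi.single i 1) c' = if c = c' then 1 else 0 := by
      intro c'
      have h := congrArg (fun v => b.repr v c') (pi_eq_sum_univ' (b c)).symm
      simp only [map_sum, map_smul, Finsupp.coe_finsetSum, Finset.sum_apply, Finsupp.coe_smul, Pi.smul_apply,
        smul_eq_mul, Module.Basis.repr_self, Finsupp.single_apply] at h
      exact h
    simp only [← Finset.sum_smul, hrepr, ite_smul, one_smul, zero_smul, Finset.sum_ite_eq, Finset.mem_univ, if_true]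
  have hδφ : ∀ f, δ (φ f) = φ (D e k f) := by
    intro f
    induction f using MvPolynomial.induction_on with
    | C a => simp [φ]
    | add p q hp hq => simp only [map_add, hp, hq]
    | mul_X p c hp =>
      simp only [Derivation.leibniz, smul_eq_mul, map_mul, map_add, hp]
      congr 2
      have hδL : ∀ v, δ (L v) = L (Matrix.toLinAlgEquiv' M v) := by
        intro v
        simp only [hL, map_sum, Derivation.map_smul, hδ, mkDerivation_X, Finset.smul_sum, smul_smul,
          Matrix.toLinAlgEquiv'_apply, Matrix.mulVec, dotProduct, Finset.sum_smul]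
        rw [Finset.sum_comm]
        exact Finset.sum_congr rfl fun i _ => Finset.sum_congr rfl fun j _ => by rw [mul_comm]
      rw [show φ (X c) = L (b c) from aeval_X _ c, hδL, hb]
      simp only [D, mkDerivation_X]
      split_ifs
      · exact (aeval_X (fun c => L (b c)) _).symm
      · simp
  obtain ⟨S, hS, hmem⟩ := exists_fg_ker (k := k) e
  refine ⟨S.map φ, hS.map φ, fun f => ⟨?_, fun hf => ?_⟩⟩
  · rintro ⟨g, hg, rfl⟩
    show δ (φ g) = 0
    rw [hδφ, (hmem g).mp hg, map_zero]
  · refine ⟨ψ f, (hmem _).mpr ?_, hφψ f⟩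
    have h : φ (D e k (ψ f)) = 0 := by rw [← hδφ, hφψ]; exact hf
    have := congrArg ψ h
    rwa [hψφ, map_zero] at this

end Groth.Agent.H8Weitz
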