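import Groth.Agent.Lib.H9TopQuot
import Groth.Agent.Lib.AlgSpCharts
import Groth.Agent.Lib.AlgSpRepBy
/-! The points of a quasi-compact quasi-separated algebraic space form a spectral space. -/

set_option autoImplicit false
set_option backward.isDefEq.respectTransparency.types false

universe u

open CategoryTheory CategoryTheory.Limits AlgebraicGeometry Opposite

noncomputable section

namespace Groth.Agent.ASp

open _root_.AlgSp

variable {S : Scheme.{u}}

theorem spectral_of_affine (X : Scheme.{u}) [IsAffine X] : SpectralSpace X := { }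

theorem isSpectralMap_of_qc {X Y : Scheme.{u}} (f : X ⟶ Y) [QuasiCompact f] : IsSpectralMap f :=
  ⟨f.continuous, fun _ ho hc => QuasiCompact.isCompact_preimage (f := f) _ ho hc⟩

theorem spectralSpace_range {F : Sp S} (hqs : IsQuasiSeparatedSp F) {U : Over S} [IsAffine U.left]
    [CompactSpace ↥(pullback U.hom U.hom)] {a : (yon S).obj U ⟶ F} (hae : RepWith @Etale a) :
    SpectralSpace ↥(Set.range (Points.ofPt a)) := by
  let P : Over S := Over.mk (pullback.fst U.hom U.hom ≫ U.hom)
  let p₁ : P ⟶ U := Over.homMk (pullback.fst U.hom U.hom) rfl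
  let p₂ : P ⟶ U := Over.homMk (pullback.snd U.hom U.hom) pullback.condition.symm
  haveI : CompactSpace P.left := inferInstanceAs (CompactSpace ↥(pullback U.hom U.hom))
  obtain ⟨V, fst, snd, sq, hqc⟩ := exists_sq_prop (P := @QuasiCompact) hqs
    (prod.lift ((yon S).map p₁ ≫ a) ((yon S).map p₂ ≫ a))
  haveI : QuasiCompact snd.left := hqc
  haveI : CompactSpace V.left := QuasiCompact.compactSpace_of_compactSpace snd.left
  obtain ⟨R', g, hg⟩ := compactSpace_iff_exists.mp (inferInstance : CompactSpace V.left)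
  let s : Spec R' ⟶ U.left := g ≫ snd.left ≫ pullback.fst U.hom U.hom
  let t : Spec R' ⟶ U.left := g ≫ snd.left ≫ pullback.snd U.hom U.hom
  haveI := spectral_of_affine U.left
  haveI := spectral_of_affine (Spec R')
  refine H9Top.spectralSpace_of_open_quotient (π := Set.rangeFactorization (Points.ofPt a)) (s := s) (t := t)
    ((Points.continuous_ofPt a).rangeFactorization) ((isOpenMap_ofPt_of_etale hae).subtype_mk _)
    Set.rangeFactorization_surjective (isSpectralMap_of_qc s) (isSpectralMap_of_qc t)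
    fun x y => Subtype.ext_iff.trans ⟨fun h => ?_, ?_⟩
  · obtain ⟨W, w₁, w₂, sqa⟩ := exists_sq hae.rep a
    obtain ⟨w₁, rfl⟩ := (yon S).map_surjective w₁
    obtain ⟨w, hw₁, hw₂⟩ := (ofPt_eq_ofPt_iff_of_sq sqa x y).1 h
    let q : W ⟶ P := Over.homMk (pullback.lift w₁.left w₂.left (by rw [Over.w w₁, Over.w w₂]))
      (by show _ ≫ pullback.fst U.hom U.hom ≫ U.hom = W.hom; rw [pullback.lift_fst_assoc, Over.w w₁])
    have hq₁ : q ≫ p₁ = w₁ := Over.OverMorphism.ext (pullback.lift_fst _ _ _)
    have hq₂ : q ≫ p₂ = w₂ := Over.OverMorphism.ext (pullback.lift_snd _ _ _)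
    obtain ⟨l, hl⟩ := (yon S).map_surjective (sq.lift ((yon S).map w₁ ≫ a) ((yon S).map q)
      (comp_diag_eq (by rw [Category.assoc, prod.lift_fst, ← Category.assoc, ← (yon S).map_comp, hq₁])
        (by rw [Category.assoc, prod.lift_snd, ← Category.assoc, ← (yon S).map_comp, hq₂]; exact sqa.w)))
    have hls : l ≫ snd = q := map_cancel (by rw [Functor.map_comp, hl, sq.lift_snd])
    obtain ⟨r, hr⟩ := hg (l.left w)
    refine ⟨r, ?_, ?_⟩
    · rw [← hw₁, ← hq₁, ← hls]
      show (snd.left ≫ pullback.fst _ _) (g r) = _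
      rw [hr]; rfl
    · rw [← hw₂, ← hq₂, ← hls]
      show (snd.left ≫ pullback.snd _ _) (g r) = _
      rw [hr]; rfl
  · rintro ⟨r, rfl, rfl⟩
    obtain ⟨h₁, h₂⟩ := eq_of_comp_diag sq.w
    rw [prod.lift_fst] at h₁
    rw [prod.lift_snd] at h₂
    show Points.ofPt a ((snd ≫ p₁).left (g r)) = Points.ofPt a ((snd ≫ p₂).left (g r))
    rw [← ofPt_yon_map_comp, ← ofPt_yon_map_comp, Functor.map_comp, Functor.map_comp, Category.assoc, Category.assoc,
      ← h₁, ← h₂]

theorem spectralSpace_points {F : Sp S} (hF : IsAlgSpace F) [QuasiSeparatedSpace S] [CompactSpace (Points F)]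
    (hqs : IsQuasiSeparatedSp F) : SpectralSpace (Points F) := by
  obtain ⟨U, a, hU, hae, has⟩ := exists_affine_chart_of_compact hF
  haveI : IsAffine U.left := hU
  haveI := spectralSpace_range hqs hae
  let e := ((Homeomorph.setCongr (surjective_ofPt_of_repWith has).range_eq).trans (Homeomorph.Set.univ _)).symm
  exact e.isOpenEmbedding.spectralSpace

/-- Every point of a quasi-separated algebraic space has an open spectral neighbourhood. -/
theorem exists_spectral_nhd {F : Sp S} (hF : IsAlgSpace F) (hqs : IsQuasiSeparatedSp F) (x : Points F) :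
    ∃ W : Set (Points F), IsOpen W ∧ x ∈ W ∧ SpectralSpace ↥W := by
  obtain ⟨U, p, hpe, hps⟩ := hF.atlas
  obtain ⟨u, rfl⟩ := surjective_ofPt_of_repWith hps x
  obtain ⟨S₀, hS₀, huS, -⟩ := exists_isAffineOpen_mem_and_subset (X := S) (x := U.hom u) (U := ⊤) trivial
  obtain ⟨V, hV, huV, hVS⟩ := exists_isAffineOpen_mem_and_subset (X := U.left) (x := u) (U := U.hom ⁻¹ᵁ S₀) huS
  let U' : Over S := Over.mk (V.ι ≫ U.hom)
  let c : U' ⟶ U := Over.homMk V.ι rfl
  haveI : IsAffine U'.left := hV
  haveI : IsAffine (S₀ : Scheme.{u}) := hS₀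
  haveI : IsAffine (V : Scheme.{u}) := hV
  have hrange : Set.range (V.ι ≫ U.hom) ⊆ Set.range S₀.ι := by
    rintro _ ⟨v, rfl⟩
    rw [Scheme.Opens.range_ι]
    exact hVS v.2
  let k : (V : Scheme.{u}) ⟶ S₀ := IsOpenImmersion.lift S₀.ι (V.ι ≫ U.hom) hrange
  have hk : k ≫ S₀.ι = V.ι ≫ U.hom := IsOpenImmersion.lift_fac _ _ _
  haveI : CompactSpace ↥(pullback U'.hom U'.hom) := by
    let m : pullback k k ⟶ pullback (V.ι ≫ U.hom) (V.ι ≫ U.hom) :=
      pullback.lift (pullback.fst k k) (pullback.snd k k) (by rw [← hk, pullback.condition_assoc])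
    let n : pullback (V.ι ≫ U.hom) (V.ι ≫ U.hom) ⟶ pullback k k :=
      pullback.lift (pullback.fst _ _) (pullback.snd _ _) (by
        rw [← cancel_mono S₀.ι, Category.assoc, Category.assoc, hk, pullback.condition])
    have hnm : n ≫ m = 𝟙 _ := pullback.hom_ext
      (by rw [Category.assoc, Category.id_comp]; simp only [m]; rw [pullback.lift_fst]; exact pullback.lift_fst _ _ _)
      (by rw [Category.assoc, Category.id_comp]; simp only [m]; rw [pullback.lift_snd]; exact pullback.lift_snd _ _ _)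
    exact Function.Surjective.compactSpace m.continuous (f := m)
      (fun z => ⟨n z, by rw [← Scheme.Hom.comp_apply, hnm]; rfl⟩)
  have he : RepWith @Etale ((yon S).map c ≫ p) :=
    repWith_yon_comp c (inferInstanceAs (Etale V.ι)) hpe
  refine ⟨Set.range (Points.ofPt ((yon S).map c ≫ p)), (isOpenMap_ofPt_of_etale he).isOpen_range, ⟨⟨u, huV⟩, ?_⟩,
    spectralSpace_range hqs he⟩
  rw [ofPt_yon_map_comp]; rfl

end Groth.Agent.ASp
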