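import Mathlib

/-! Generalization-lifting maps without specializations in fibres preserve codimension. -/

set_option autoImplicit false
set_option backward.isDefEq.respectTransparency.types false

universe v w

open Topology TopologicalSpace

namespace Groth.Agent.H9Top

attribute [local instance] specializationPreorder

variable {α : Type v} {β : Type w} [TopologicalSpace α] [TopologicalSpace β]

theorem coheight_map_le {f : α → β} (hf : Continuous f) (h : GeneralizingMap f) (a : α) :
    Order.coheight (f a) ≤ Order.coheight a := by
  refine Order.coheight_le fun p hp => ?_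
  suffices H : ∃ q : LTSeries α, q.head = a ∧ q.length = p.length ∧ f q.last = p.last by
    obtain ⟨q, hq, hl, -⟩ := H
    rw [← hl, ← hq]
    exact Order.length_le_coheight_head
  induction p using RelSeries.inductionOn' with
  | singleton x => exact ⟨RelSeries.singleton _ a, rfl, rfl, hp.symm⟩
  | snoc p y hy ih =>
    have hy' : p.last < y := hy
    obtain ⟨q, hq, hl, hql⟩ := ih (by simpa using hp)
    obtain ⟨b, hb, rfl⟩ := h (show y ⤳ f q.last from hql ▸ hy'.le)
    have hlt : q.last < b := lt_of_le_not_ge (show b ⤳ q.last from hb) fun e =>
      hy'.not_ge (by rw [← hql]; exact (show q.last ⤳ b from e).map hf)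
    exact ⟨q.snoc b hlt, by simpa using hq, by simp [RelSeries.snoc, RelSeries.append, hl], by simp⟩

theorem strictMono_of_no_spec_in_fibres [T0Space β] {f : α → β} (hf : Continuous f)
    (h : ∀ x y, x ⤳ y → f x = f y → x = y) : StrictMono f := fun a b hab => by
  refine lt_of_le_not_ge ((show b ⤳ a from hab.le).map hf) fun hge => hab.not_ge ?_
  have e := h b a hab.le (((show b ⤳ a from hab.le).map hf).antisymm hge).eq
  exact e ▸ (le_refl a)

theorem coheight_map_eq [T0Space β] {f : α → β} (hf : Continuous f) (hg : GeneralizingMap f)
    (h : ∀ x y, x ⤳ y → f x = f y → x = y) (a : α) : Order.coheight (f a) = Order.coheight a :=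
  (coheight_map_le hf hg a).antisymm
    (Order.coheight_le_coheight_apply_of_strictMono f (strictMono_of_no_spec_in_fibres hf h) a)

theorem isMax_iff_exists_component [QuasiSober α] (x : α) :
    (∃ T ∈ irreducibleComponents α, IsGenericPoint x T) ↔ IsMax x := by
  constructor
  · rintro ⟨T, hT, hx⟩ y hy
    have h1 : T ⊆ closure {y} := hx.def ▸ specializes_iff_closure_subset.1 (show y ⤳ x from hy)
    have h2 := hT.2 isIrreducible_singleton.closure h1
    exact specializes_iff_mem_closure.2 (hx.def.symm ▸ h2 (subset_closure rfl))
  · intro hx
    refine ⟨closure {x}, ⟨isIrreducible_singleton.closure, fun Z hZ hxZ => ?_⟩, rfl⟩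
    obtain ⟨η, hη⟩ := QuasiSober.sober hZ.closure isClosed_closure
    have hηx : η ⤳ x := hη.specializes (subset_closure (hxZ (subset_closure rfl)))
    have : x ⤳ η := hx (show x ≤ η from hηx)
    exact subset_closure.trans (hη.def ▸ specializes_iff_closure_subset.1 this)

theorem coheight_irreducibleCloseds [QuasiSober α] [T0Space α] (T : IrreducibleCloseds α) (ξ : α)
    (h : IsGenericPoint ξ (T : Set α)) : Order.coheight T = Order.coheight ξ := by
  letI := specializationOrder α
  let e : IrreducibleCloseds α ≃o α := irreducibleSetEquivPoints
  rw [← Order.coheight_orderIso e T]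
  congr 1
  exact (T.isIrreducible.isGenericPoint_genericPoint T.isClosed).eq h

end Groth.Agent.H9Top
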