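import Mathlib.Topology.Spectral.Basic

/-! An irreducible closed set met by an open map from a spectral space with finite fibres has a generic point. -/

set_option autoImplicit false
set_option backward.isDefEq.respectTransparency.types false

open Topology TopologicalSpace Filter Set

namespace Groth.Agent.H9Top

universe v w

variable {U : Type v} [TopologicalSpace U] [SpectralSpace U] {X : Type w} [TopologicalSpace X]

theorem exists_mem_iInter_of_antitone {Z : Set U} (hZ : IsClosed Z) (V : ℕ → Set U) (hV : Antitone V)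
    (hVo : ∀ n, IsOpen (V n)) (hVc : ∀ n, IsCompact (V n)) (hne : ∀ n, (V n ∩ Z).Nonempty) :
    ∃ z ∈ Z, ∀ n, z ∈ V n := by
  have hnb : (⨅ n, 𝓟 (V n ∩ Z)).NeBot :=
    iInf_neBot_of_directed' (Antitone.directed_ge fun m n h => principal_mono.2 (inter_subset_inter_left _ (hV h))) fun n => principal_neBot_iff.2 (hne n)
  obtain ⟨F, hF⟩ := @Ultrafilter.exists_le _ _ hnb
  have hFV : ∀ n, V n ∩ Z ∈ F := fun n => le_principal_iff.1 (hF.trans (iInf_le _ n))
  let L : Set U := {x | (F : Filter U) ≤ 𝓝 x}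
  have hlim : ∀ Q, IsCompact Q → Q ∈ F → ∃ x ∈ Q, x ∈ L := fun Q hQ hQF =>
    hQ.ultrafilter_le_nhds F (le_principal_iff.2 hQF)
  have hLc : IsClosed L := by
    refine isClosed_of_closure_subset fun x hx => le_nhds_iff.2 fun O hxO hO => ?_
    obtain ⟨y, hyO, hy⟩ := mem_closure_iff.1 hx O hO hxO
    exact le_nhds_iff.1 hy O hyO hO
  have hL : IsIrreducible L := by
    obtain ⟨x, -, hx⟩ := hlim _ (hVc 0) (Filter.mem_of_superset (hFV 0) inter_subset_left)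
    refine ⟨⟨x, hx⟩, fun O₁ O₂ h₁ h₂ ⟨x₁, hx₁, hxO₁⟩ ⟨x₂, hx₂, hxO₂⟩ => ?_⟩
    obtain ⟨Q₁, ⟨hQ₁, hQc₁⟩, hxQ₁, hQO₁⟩ :=
      PrespectralSpace.isTopologicalBasis.exists_subset_of_mem_open hxO₁ h₁
    obtain ⟨Q₂, ⟨hQ₂, hQc₂⟩, hxQ₂, hQO₂⟩ :=
      PrespectralSpace.isTopologicalBasis.exists_subset_of_mem_open hxO₂ h₂
    obtain ⟨y, hy, hyL⟩ := hlim _ (QuasiSeparatedSpace.inter_isCompact _ _ hQ₁ hQc₁ hQ₂ hQc₂)
      (Filter.inter_mem (le_nhds_iff.1 hx₁ _ hxQ₁ hQ₁) (le_nhds_iff.1 hx₂ _ hxQ₂ hQ₂))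
    exact ⟨y, hyL, hQO₁ hy.1, hQO₂ hy.2⟩
  obtain ⟨η, hη⟩ := QuasiSober.sober hL hLc
  refine ⟨η, ?_, fun n => ?_⟩
  · by_contra h
    obtain ⟨a, ha, ha'⟩ := F.nonempty_of_mem
      (Filter.inter_mem (le_nhds_iff.1 (show η ∈ L from hη.mem) _ h hZ.isOpen_compl) (hFV 0))
    exact ha ha'.2
  · obtain ⟨x, hxV, hxL⟩ := hlim _ (hVc n) (Filter.mem_of_superset (hFV n) inter_subset_left)
    exact (hη.mem_open_set_iff (hVo n)).2 ⟨x, hxL, hxV⟩

/-- An irreducible closed set meeting the image of an open map from a spectral space with finite fibres has a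
generic point. -/
theorem exists_isGenericPoint_of_finite_fibres {π : U → X} (hc : Continuous π) (ho : IsOpenMap π)
    (hfin : ∀ x, (π ⁻¹' {x}).Finite) {T : Set X} (hTc : IsClosed T) (hT : IsPreirreducible T)
    (hne : (π ⁻¹' T).Nonempty) : ∃ x, IsGenericPoint x T := by
  classical
  set Z := π ⁻¹' T with hZdef
  have hZc : IsClosed Z := hTc.preimage hc
  by_cases H : ∃ O : Set U, IsOpen O ∧ (O ∩ Z).Nonempty ∧ IsPreirreducible (O ∩ Z)
  · obtain ⟨O, hO, hOne, hOi⟩ := H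
    obtain ⟨η, hη⟩ := QuasiSober.sober (IsIrreducible.closure ⟨hOne, hOi⟩) isClosed_closure
    have hηZ : η ∈ Z := closure_minimal inter_subset_right hZc hη.mem
    refine ⟨π η, (closure_minimal (singleton_subset_iff.2 (show π η ∈ T from hηZ)) hTc).antisymm ?_⟩
    have hsub : π '' O ∩ T ⊆ closure {π η} := by
      rintro _ ⟨⟨u, hu, rfl⟩, huT⟩
      exact ((hη.specializes (subset_closure ⟨hu, huT⟩)).map hc).mem_closure
    obtain ⟨u, hu, huT⟩ := hOne
    refine fun y hy => closure_minimal hsub isClosed_closure (mem_closure_iff.2 fun W hW hyW => ?_)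
    obtain ⟨z, hzT, hzO, hzW⟩ := hT _ _ (ho O hO) hW ⟨π u, huT, u, hu, rfl⟩ ⟨y, hy, hyW⟩
    exact ⟨z, hzW, hzO, hzT⟩
  · exfalso
    simp only [not_exists, not_and] at H
    have split : ∀ O : {O : Set U // IsOpen O ∧ (O ∩ Z).Nonempty}, ∃ A B : {O : Set U // IsOpen O ∧ (O ∩ Z).Nonempty},
        A.1 ⊆ O.1 ∧ B.1 ⊆ O.1 ∧ ∀ z ∈ Z, z ∈ A.1 → z ∈ B.1 → False := by
      rintro ⟨O, hO, hOne⟩
      have := H O hO hOne
      simp only [IsPreirreducible, not_forall] at this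
      obtain ⟨A, B, hA, hB, hAne, hBne, hAB⟩ := this
      refine ⟨⟨A ∩ O, hA.inter hO, ?_⟩, ⟨B ∩ O, hB.inter hO, ?_⟩, inter_subset_right, inter_subset_right,
        fun z hz hzA hzB => hAB ⟨z, ⟨hzA.2, hz⟩, hzA.1, hzB.1⟩⟩
      · obtain ⟨z, hz, hzA⟩ := hAne; exact ⟨z, ⟨hzA, hz.1⟩, hz.2⟩
      · obtain ⟨z, hz, hzB⟩ := hBne; exact ⟨z, ⟨hzB, hz.1⟩, hz.2⟩
    choose A B hA hB hAB using split
    let O : ℕ → {O : Set U // IsOpen O ∧ (O ∩ Z).Nonempty} := fun n =>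
      Nat.rec ⟨univ, isOpen_univ, by simpa using hne⟩ (fun _ O => B O) n
    have hO : Antitone fun n => (O n).1 := antitone_nat_of_succ_le fun n => hB (O n)
    have hdisj : ∀ m n, m < n → ∀ z ∈ Z, z ∈ (A (O m)).1 → z ∈ (A (O n)).1 → False := fun m n h z hz hm hn =>
      hAB (O m) z hz hm (hO (Nat.succ_le_of_lt h) (hA (O n) hn))
    have step : ∀ (n : ℕ) (V : {V : Set U // IsOpen V ∧ IsCompact V ∧ (V ∩ Z).Nonempty}),
        ∃ W : {V : Set U // IsOpen V ∧ IsCompact V ∧ (V ∩ Z).Nonempty},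
          W.1 ⊆ V.1 ∩ π ⁻¹' (π '' (A (O n)).1) := by
      rintro n ⟨V, hV, hVc, v, hv, hvZ⟩
      obtain ⟨a, ha, haZ⟩ := (A (O n)).2.2
      obtain ⟨z, hzT, ⟨w, hw, hwz⟩, hzA⟩ := hT _ _ (ho V hV) (ho _ (A (O n)).2.1) ⟨π v, hvZ, v, hv, rfl⟩
        ⟨π a, haZ, a, ha, rfl⟩
      have hw' : w ∈ V ∩ π ⁻¹' (π '' (A (O n)).1) := ⟨hw, by rw [mem_preimage, hwz]; exact hzA⟩
      obtain ⟨W, ⟨hWo, hWc⟩, hwW, hWs⟩ := PrespectralSpace.isTopologicalBasis.exists_subset_of_mem_open hw'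
        (hV.inter ((ho _ (A (O n)).2.1).preimage hc))
      exact ⟨⟨W, hWo, hWc, w, hwW, show π w ∈ T from hwz ▸ hzT⟩, hWs⟩
    choose W hW using step
    let V : ℕ → {V : Set U // IsOpen V ∧ IsCompact V ∧ (V ∩ Z).Nonempty} := fun n =>
      Nat.rec ⟨univ, isOpen_univ, isCompact_univ, by simpa using hne⟩ W n
    obtain ⟨z, hzZ, hz⟩ := exists_mem_iInter_of_antitone hZc (fun n => (V n).1)
      (antitone_nat_of_succ_le fun n => (hW n (V n)).trans inter_subset_left)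
      (fun n => (V n).2.1) (fun n => (V n).2.2.1) (fun n => (V n).2.2.2)
    have key : ∀ n, ∃ a ∈ (A (O n)).1, π a = π z := fun n => (hW n (V n) (hz (n + 1))).2
    choose a ha haz using key
    have haZ : ∀ n, a n ∈ Z := fun n => show π (a n) ∈ T from (haz n).symm ▸ hzZ
    have hinj : Function.Injective a := fun m n h => by
      rcases lt_trichotomy m n with h' | h' | h'
      · exact (hdisj m n h' _ (haZ m) (ha m) (h ▸ ha n)).elim
      · exact h'
      · exact (hdisj n m h' _ (haZ n) (ha n) (h.symm ▸ ha m)).elim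
    exact (infinite_range_of_injective hinj) ((hfin (π z)).subset (range_subset_iff.2 haz))

end Groth.Agent.H9Top
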