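import Groth.Agent.Lib.AlgSpDecent
import Groth.Agent.Lib.AlgSpTop
import Groth.Agent.Lib.H9TopSober
import Groth.Agent.Lib.H9TopChain
import Groth.Agent.Lib.H9AlgSpSpectral
import Groth.Agent.Lib.H4SchTop
import Groth.Prelude.Def_Flat

/-! Generizations in etale charts of algebraic spaces: lifting, codimension and dimension. -/

set_option autoImplicit false
set_option backward.isDefEq.respectTransparency.types false

universe u

open CategoryTheory CategoryTheory.Limits AlgebraicGeometry Opposite Topology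

noncomputable section

namespace Groth.Agent.ASp

open _root_.AlgSp

variable {S : Scheme.{u}} {F : Sp S}

/-- No specializations inside a fibre of an etale chart, if the fibres in affine charts are finite. -/
theorem eq_of_specializes_of_finite_fibre {U : Over S} (a : (yon S).obj U ⟶ F) (ha : RepWith @Etale a)
    {u u' : ↥U.left} (hd : ∀ (V : Over S) (b : (yon S).obj V ⟶ F), IsAffine V.left → RepWith @Etale b → (Points.ofPt b ⁻¹' {Points.ofPt a u}).Finite) (he : Points.ofPt a u' = Points.ofPt a u)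
    (hs : u' ⤳ u) : u' = u := by
  by_contra hne
  obtain ⟨V, hV, huV, -⟩ := exists_isAffineOpen_mem_and_subset (X := U.left) (x := u) (U := ⊤) trivial
  have hu'V : u' ∈ V := hs.mem_open V.2 huV
  let U₀ : Over S := Over.mk (V.ι ≫ U.hom)
  let ι₀ : U₀ ⟶ U := Over.homMk V.ι
  let a₀ := (yon S).map ι₀ ≫ a
  have ha₀ : RepWith @Etale a₀ := repWith_yon_comp ι₀ (inferInstanceAs (Etale V.ι)) ha
  have : IsAffine U₀.left := hV
  have hx : ∀ v : ↥U₀.left, Points.ofPt a₀ v = Points.ofPt a (V.ι v) := fun v => ofPt_yon_map_comp ι₀ a v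
  have hfin := hd U₀ a₀ hV ha₀
  obtain ⟨R, t', s, sqR, hse⟩ := exists_sq_prop ha₀ a₀
  obtain ⟨t, rfl⟩ := (yon S).map_surjective t'
  have hte : Etale t.left := ha₀.2 a₀ ((yon S).map s) t sqR.flip
  have : Etale s.left := hse
  have : LocallyQuasiFinite t.left := locallyQuasiFinite_of_etale t.left
  let w₀ : ↥U₀.left := (⟨u, huV⟩ : V.toScheme)
  let w₁ : ↥U₀.left := (⟨u', hu'V⟩ : V.toScheme)
  let B : Set ↥U₀.left := Points.ofPt a₀ ⁻¹' {Points.ofPt a u}
  have hw₀ : w₀ ∈ B := hx w₀
  have hw₁ : w₁ ∈ B := (hx w₁).trans he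
  have hws : w₁ ⤳ w₀ := (subtype_specializes_iff _ _).2 hs
  have hwne : w₁ ≠ w₀ := fun h => hne (congrArg (V.ι : _ → _) h)
  have key : ∀ v ∈ B, ∃ v' ∈ B, v' ⤳ v ∧ v' ≠ v := by
    intro v hv
    obtain ⟨r, hrt, hrs⟩ := exists_pt_of_sq sqR (Points.schemeHomeo _ v) w₀
      (by
        have h1 : Points.ofPt a₀ v = Points.ofPt a₀ w₀ := hv.trans hw₀.symm
        rw [Points.ofPt_eq_map_ofScheme] at h1
        exact h1)
    have hrt' : t.left r = v := (Points.schemeHomeo U₀).injective (by
      rw [← hrt, ← Points.map_yon_map_apply, Points.ofPt_eq_map_ofScheme]; rfl)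
    obtain ⟨r', hr', hr's⟩ := (Flat.generalizingMap (f := s.left)) (show w₁ ⤳ s.left r by rw [hrs]; exact hws)
    refine ⟨t.left r', ?_, ?_, fun hh => hwne ?_⟩
    · have h1 : Points.ofPt a₀ (t.left r') = Points.ofPt a₀ (s.left r') := by
        rw [← ofPt_yon_map_comp, ← ofPt_yon_map_comp, sqR.w]
      exact h1.trans (by rw [hr's]; exact hw₁)
    · exact hrt' ▸ hr'.map t.left.continuous
    · rw [← hr's, ← hrs, eq_of_specializes_of_lqf t.left hr' (hh.trans hrt'.symm)]
  -- a finite partial order has minimal elements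
  obtain ⟨v, hv, hmin⟩ := hfin.toFinset.exists_min_image
    (fun v => {w ∈ B | w ⤳ v}.ncard) ⟨w₀, hfin.mem_toFinset.2 hw₀⟩
  rw [Set.Finite.mem_toFinset] at hv
  obtain ⟨v', hv', hsp, hne'⟩ := key v hv
  have hlt : {w ∈ B | w ⤳ v'}.ncard < {w ∈ B | w ⤳ v}.ncard :=
    Set.ncard_lt_ncard ⟨fun w hw => ⟨hw.1, hw.2.trans hsp⟩,
      fun hsub => hne' ((hsp.antisymm (hsub (show v ∈ {w ∈ B | w ⤳ v} from ⟨hv, specializes_rfl⟩)).2).eq)⟩
      (hfin.subset fun w hw => hw.1)
  exact absurd (hmin v' (hfin.mem_toFinset.2 hv')) (not_le.2 hlt)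


/-- Generizations lift along an etale chart at a point with finite fibres in affine charts. -/
theorem exists_specializes_lift {U : Over S} (a : (yon S).obj U ⟶ F) (ha : RepWith @Etale a) {x' : Points F}
    (hx : ∀ (V : Over S) (b : (yon S).obj V ⟶ F), IsAffine V.left → RepWith @Etale b → (Points.ofPt b ⁻¹' {x'}).Finite)
    {u : ↥U.left} (h : x' ⤳ Points.ofPt a u) : ∃ u', u' ⤳ u ∧ Points.ofPt a u' = x' := by
  obtain ⟨V, hV, huV, -⟩ := exists_isAffineOpen_mem_and_subset (X := U.left) (x := u) (U := ⊤) trivial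
  let U₀ : Over S := Over.mk (V.ι ≫ U.hom)
  let c : U₀ ⟶ U := Over.homMk V.ι
  let a₀ := (yon S).map c ≫ a
  have ha₀ : RepWith @Etale a₀ := repWith_yon_comp c (inferInstanceAs (Etale V.ι)) ha
  have hfin := hx U₀ a₀ hV ha₀
  by_contra hno
  push Not at hno
  let B : Set ↥U.left := V.ι '' (Points.ofPt a₀ ⁻¹' {x'})
  have hB : B.Finite := hfin.image _
  have h1 : ∀ w ∈ B, ∃ O : Set ↥U.left, IsOpen O ∧ u ∈ O ∧ w ∉ O := by
    rintro _ ⟨v, hv, rfl⟩
    refine not_specializes_iff_exists_open.1 fun hs => hno (V.ι v) hs ?_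
    rw [← hv, ofPt_yon_map_comp]; rfl
  choose O hO huO hwO using h1
  let O' : Set ↥U.left := (V : Set ↥U.left) ∩ ⋂ w ∈ hB.toFinset.attach, O w.1 (hB.mem_toFinset.1 w.2)
  have hO' : IsOpen O' := V.2.inter (isOpen_biInter_finset fun w _ => hO _ _)
  obtain ⟨w, ⟨hwV, hwO'⟩, hw⟩ := h.mem_open (isOpenMap_ofPt_of_etale ha O' hO')
    ⟨u, ⟨huV, Set.mem_iInter₂.2 fun w _ => huO _ _⟩, rfl⟩
  have hwB : w ∈ B := ⟨(⟨w, hwV⟩ : V.toScheme), show Points.ofPt a₀ _ = x' by rw [← hw, ofPt_yon_map_comp]; rfl, rfl⟩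
  exact hwO w hwB (Set.mem_iInter₂.1 hwO' ⟨w, hB.mem_toFinset.2 hwB⟩ (Finset.mem_attach _ _))

theorem quasiSober_points' (hF : IsAlgSpace F) (hd : ∀ (x : Points F) (V : Over S) (b : (yon S).obj V ⟶ F),
    IsAffine V.left → RepWith @Etale b → (Points.ofPt b ⁻¹' {x}).Finite) : QuasiSober (Points F) := by
  refine ⟨fun {T} hT hTc => ?_⟩
  obtain ⟨x, hx⟩ := hT.nonempty
  obtain ⟨κ, U, a, hU, ha, href⟩ := exists_refines_affine hF
  obtain ⟨k, z, hz⟩ := href.exists_pt x
  obtain ⟨u, rfl⟩ := (Points.schemeHomeo (U k)).surjective z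
  have hu : Points.ofPt (a k) u = x := by rw [← hz, Points.ofPt_eq_map_ofScheme]; rfl
  haveI : IsAffine (U k).left := hU k
  haveI := spectral_of_affine (U k).left
  exact H9Top.exists_isGenericPoint_of_finite_fibres (Points.continuous_ofPt (a k))
    (isOpenMap_ofPt_of_etale (ha k)) (fun y => hd y (U k) (a k) (hU k) (ha k)) hTc hT.isPreirreducible
    ⟨u, show Points.ofPt (a k) u ∈ T from hu ▸ hx⟩

theorem quasiSober_points (hF : IsAlgSpace F) (hd : ∀ x : Points F, DecentAt x) : QuasiSober (Points F) :=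
  quasiSober_points' hF fun x V b hV hb => by haveI := hV; exact finite_fibre_of_decentAt hb (hd x)

theorem finite_fibres_of_decentAt {x : Points F} (h : DecentAt x) :
    ∀ (V : Over S) (b : (yon S).obj V ⟶ F), IsAffine V.left → RepWith @Etale b → (Points.ofPt b ⁻¹' {x}).Finite :=
  fun V b hV hb => by haveI := hV; exact finite_fibre_of_decentAt hb h

theorem generalizingMap_ofPt (hd : ∀ x : Points F, DecentAt x) {U : Over S} (a : (yon S).obj U ⟶ F)
    (ha : RepWith @Etale a) : GeneralizingMap (Points.ofPt a) := fun {u} x' h =>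
  exists_specializes_lift a ha (finite_fibres_of_decentAt (hd x')) h

attribute [local instance] specializationPreorder

/-- Codimension of a point of a scheme is preserved by etale morphisms. -/
theorem coheight_map_of_etale {A B : Scheme.{u}} (f : A ⟶ B) [Etale f] (a : A) :
    Order.coheight (f a) = Order.coheight a := by
  haveI := locallyQuasiFinite_of_etale f
  exact H9Top.coheight_map_eq f.continuous (Flat.generalizingMap f)
    (fun x y h e => eq_of_specializes_of_lqf f h e) a

theorem coheight_ofPt (hF : IsAlgSpace F) (hd : ∀ x : Points F, DecentAt x) {U : Over S} (a : (yon S).obj U ⟶ F)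
    (ha : RepWith @Etale a) (u : ↥U.left) : Order.coheight (Points.ofPt a u) = Order.coheight u := by
  haveI := t0Space_points hF hd
  exact H9Top.coheight_map_eq (Points.continuous_ofPt a) (generalizingMap_ofPt hd a ha)
    (fun x y h e => eq_of_specializes_of_decentAt a ha (hd _) e h) u

theorem ringKrullDim_stalk_ofPt (hF : IsAlgSpace F) (hd : ∀ x : Points F, DecentAt x) {U : Over S}
    (a : (yon S).obj U ⟶ F) (ha : RepWith @Etale a) (u : ↥U.left) :
    ringKrullDim ↥(U.left.presheaf.stalk u) = Order.coheight (Points.ofPt a u) := by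
  rw [coheight_ofPt hF hd a ha u]
  exact ringKrullDim_stalk_eq_coheight u

theorem isMax_iff_hasAt (hF : IsAlgSpace F) (hd : ∀ x : Points F, DecentAt x) (x : Points F) :
    HasAt (fun U u => ringKrullDim ↥(U.presheaf.stalk u) = 0) F x ↔ IsMax x := by
  rw [← Order.coheight_eq_zero]
  constructor
  · rintro ⟨U, a, u, ha, rfl, h⟩
    have h' : ringKrullDim ↥(U.left.presheaf.stalk u) = 0 := h
    rw [ringKrullDim_stalk_ofPt hF hd a ha u] at h'
    exact WithBot.coe_eq_zero.1 h'
  · intro h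
    obtain ⟨U, a, hae, has⟩ := hF.atlas
    obtain ⟨u, rfl⟩ := surjective_ofPt_of_repWith has x
    refine ⟨U, a, u, hae, rfl, ?_⟩
    show ringKrullDim ↥(U.left.presheaf.stalk u) = 0
    rw [ringKrullDim_stalk_ofPt hF hd a hae u, h]; rfl

/-- Points of two charts with the same image have stalks of the same dimension. -/
theorem coheight_eq_of_ofPt_eq {U V : Over S} (a : (yon S).obj U ⟶ F) (ha : RepWith @Etale a)
    (b : (yon S).obj V ⟶ F) (hb : RepWith @Etale b) {u : ↥U.left} {v : ↥V.left}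
    (he : Points.ofPt a u = Points.ofPt b v) : Order.coheight u = Order.coheight v := by
  obtain ⟨R, t', s, sqR, hse⟩ := exists_sq_prop ha b
  obtain ⟨t, rfl⟩ := (yon S).map_surjective t'
  haveI : Etale t.left := hb.2 a ((yon S).map s) t sqR.flip
  haveI : Etale s.left := hse
  obtain ⟨r, h₁, h₂⟩ := (ofPt_eq_ofPt_iff_of_sq sqR u v).1 he
  rw [← h₁, ← h₂, coheight_map_of_etale, coheight_map_of_etale]

theorem dim_open_eq (hF : IsAlgSpace F) (hd : ∀ x : Points F, DecentAt x) {U : Over S} (a : (yon S).obj U ⟶ F)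
    (ha : RepWith @Etale a) {O : Set ↥U.left} (hO : IsOpen O) :
    topologicalKrullDim O = topologicalKrullDim (Points.ofPt a '' O) := by
  haveI := t0Space_points hF hd
  haveI := quasiSober_points hF hd
  have hW : IsOpen (Points.ofPt a '' O) := isOpenMap_ofPt_of_etale ha O hO
  haveI := hO.isOpenEmbedding_subtypeVal.quasiSober
  haveI := hW.isOpenEmbedding_subtypeVal.quasiSober
  refine le_antisymm ?_ ?_
  · refine H4SchTop.dim_le_of_fibre (f := fun w => (⟨Points.ofPt a w.1, w.1, w.2, rfl⟩ : ↥(Points.ofPt a '' O)))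
      (((Points.continuous_ofPt a).comp continuous_subtype_val).subtype_mk _) fun x y hxy e => ?_
    exact Subtype.ext (eq_of_specializes_of_decentAt a ha (hd _) (congrArg Subtype.val e) (hxy.map continuous_subtype_val))
  · refine H4SchTop.dim_le_of_generalizing (f := fun w => (⟨Points.ofPt a w.1, w.1, w.2, rfl⟩ : ↥(Points.ofPt a '' O)))
      (by rintro ⟨_, w, hw, rfl⟩; exact ⟨⟨w, hw⟩, rfl⟩) fun x y hyx => ?_
    obtain ⟨u', hu', hy⟩ := generalizingMap_ofPt hd a ha (hyx.map continuous_subtype_val)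
    exact ⟨⟨u', hu'.mem_open hO x.2⟩, (subtype_specializes_iff _ _).2 hu', Subtype.ext hy⟩

end Groth.Agent.ASp
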