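import Groth.Agent.Lib.H9AlgSpGen

/-! Jacobson decent algebraic spaces. -/

set_option autoImplicit false
set_option backward.isDefEq.respectTransparency.types false

universe u

open CategoryTheory CategoryTheory.Limits AlgebraicGeometry Opposite Topology

noncomputable section

namespace Groth.Agent.ASp

open _root_.AlgSp

variable {S : Scheme.{u}} {F : Sp S}

theorem isClosed_of_lqf {A B : Scheme.{u}} (f : A ⟶ B) [LocallyQuasiFinite f] {a : A}
    (h : IsClosed ({f a} : Set B)) : IsClosed ({a} : Set A) := by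
  refine closure_subset_iff_isClosed.1 fun c hc => ?_
  have hs : a ⤳ c := specializes_iff_mem_closure.2 hc
  have h' : f c ∈ ({f a} : Set B) := h.closure_eq ▸ specializes_iff_mem_closure.1 (hs.map f.continuous)
  exact (eq_of_specializes_of_lqf f hs (h' : f c = f a).symm).symm

theorem isClosed_of_ofPt_eq {U V : Over S} (a : (yon S).obj U ⟶ F) (ha : RepWith @Etale a) [JacobsonSpace ↥U.left]
    (b : (yon S).obj V ⟶ F) (hb : RepWith @Etale b) {u : ↥U.left} {v : ↥V.left}
    (he : Points.ofPt a u = Points.ofPt b v) (hv : IsClosed ({v} : Set ↥V.left)) : IsClosed ({u} : Set ↥U.left) := by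
  obtain ⟨R, t', s, sqR, hse⟩ := exists_sq_prop ha b
  obtain ⟨t, rfl⟩ := (yon S).map_surjective t'
  haveI : Etale t.left := hb.2 a ((yon S).map s) t sqR.flip
  haveI : Etale s.left := hse
  obtain ⟨r, h₁, h₂⟩ := (ofPt_eq_ofPt_iff_of_sq sqR u v).1 he
  haveI := locallyQuasiFinite_of_etale s.left
  have hr : r ∈ closedPoints ↥R.left := isClosed_of_lqf s.left (h₂ ▸ hv)
  have := t.left.closePoints_subset_preimage_closedPoints hr
  rw [Set.mem_preimage, h₁] at this
  exact this

/-- In a decent space with Jacobson chart the image of a closed point is closed. -/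
theorem isClosed_ofPt_of_isClosed (hd : ∀ x : Points F, DecentAt x)
    {U V : Over S} (a : (yon S).obj U ⟶ F) (ha : RepWith @Etale a) (has : RepWith @Surjective a) [JacobsonSpace ↥U.left]
    (b : (yon S).obj V ⟶ F) (hb : RepWith @Etale b) {v : ↥V.left} (hv : IsClosed ({v} : Set ↥V.left)) :
    IsClosed ({Points.ofPt b v} : Set (Points F)) := by
  refine closure_subset_iff_isClosed.1 fun y hy => ?_
  obtain ⟨w, rfl⟩ := surjective_ofPt_of_repWith has y
  obtain ⟨u', hu', he⟩ := generalizingMap_ofPt hd a ha (specializes_iff_mem_closure.2 hy)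
  have hc := isClosed_of_ofPt_eq a ha b hb he hv
  have h1 : w ∈ ({u'} : Set ↥U.left) := hc.closure_eq ▸ specializes_iff_mem_closure.1 hu'
  show Points.ofPt a w = Points.ofPt b v
  rw [show w = u' from h1]; exact he

theorem jacobsonSpace_points (hd : ∀ x : Points F, DecentAt x) {U : Over S} (a : (yon S).obj U ⟶ F)
    (ha : RepWith @Etale a) (has : RepWith @Surjective a) [JacobsonSpace ↥U.left] : JacobsonSpace (Points F) := by
  refine jacobsonSpace_iff_locallyClosed.2 fun Z hZ hZl => ?_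
  obtain ⟨z, hz⟩ := hZ
  obtain ⟨u, rfl⟩ := surjective_ofPt_of_repWith has z
  obtain ⟨u', hu', hu'c⟩ := nonempty_inter_closedPoints (Z := Points.ofPt a ⁻¹' Z) ⟨u, hz⟩
    (hZl.preimage (Points.continuous_ofPt a))
  exact ⟨Points.ofPt a u', hu', isClosed_ofPt_of_isClosed hd a ha has a ha hu'c⟩

/-- Charts of a decent space with Jacobson point space are Jacobson. -/
theorem jacobsonSpace_chart (hd : ∀ x : Points F, DecentAt x) [JacobsonSpace (Points F)] {U : Over S}
    (a : (yon S).obj U ⟶ F) (ha : RepWith @Etale a) : JacobsonSpace ↥U.left := by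
  refine jacobsonSpace_iff_locallyClosed.2 fun Z hZ hZl => ?_
  obtain ⟨z, hz⟩ := hZ
  obtain ⟨O, C, hO, hC, rfl⟩ := hZl
  obtain ⟨V, hV, hzV, hVO⟩ := exists_isAffineOpen_mem_and_subset (X := U.left) (x := z) (U := ⟨O, hO⟩) hz.1
  haveI : CompactSpace ↥(V : Set ↥U.left) := isCompact_iff_compactSpace.1 hV.isCompact
  obtain ⟨⟨u, huV⟩, huC, huc⟩ := (hC.preimage (continuous_subtype_val (p := fun x => x ∈ (V : Set ↥U.left)))).exists_closed_singleton
    ⟨⟨z, hzV⟩, hz.2⟩
  have huspec : ∀ w ∈ V, u ⤳ w → w = u := fun w hw h => congrArg Subtype.val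
    (huc.closure_eq ▸ specializes_iff_mem_closure.1 ((subtype_specializes_iff (x := (⟨u, huV⟩ : ↥(V : Set ↥U.left))) (y := ⟨w, hw⟩)).2 h) :
      (⟨w, hw⟩ : ↥(V : Set ↥U.left)) ∈ ({⟨u, huV⟩} : Set ↥(V : Set ↥U.left)))
  set x := Points.ofPt a u with hx
  let U₀ : Over S := Over.mk (V.ι ≫ U.hom)
  let c : U₀ ⟶ U := Over.homMk V.ι
  have ha₀ : RepWith @Etale ((yon S).map c ≫ a) := repWith_yon_comp c (inferInstanceAs (Etale V.ι)) ha
  have hfin : ((Points.ofPt a ⁻¹' {x}) ∩ V).Finite := by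
    refine ((finite_fibres_of_decentAt (hd x) U₀ _ hV ha₀).image V.ι).subset ?_
    rintro w ⟨hw, hwV⟩
    exact ⟨(⟨w, hwV⟩ : V.toScheme), show Points.ofPt _ _ = x by rw [ofPt_yon_map_comp]; exact hw, rfl⟩
  let B : Set ↥U.left := ⋃ w ∈ ((Points.ofPt a ⁻¹' {x}) ∩ V) \ {u}, closure {w}
  have hB : IsClosed B := (hfin.subset Set.sdiff_subset).isClosed_biUnion fun _ _ => isClosed_closure
  have huB : u ∉ B := by
    intro h
    obtain ⟨w, ⟨⟨hw, hwV⟩, hwu⟩, hw'⟩ := Set.mem_iUnion₂.1 h
    exact hwu (eq_of_specializes_of_decentAt a ha (hd _) hw (specializes_iff_mem_closure.2 hw'))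
  have hW : IsOpen (Points.ofPt a '' ((V : Set ↥U.left) \ B)) := isOpenMap_ofPt_of_etale ha _ (V.2.sdiff hB)
  have hlc : IsLocallyClosed ({x} : Set (Points F)) := by
    refine ⟨_, closure {x}, hW, isClosed_closure, Set.Subset.antisymm ?_ ?_⟩
    · rintro _ rfl; exact ⟨⟨u, ⟨huV, huB⟩, rfl⟩, subset_closure rfl⟩
    · rintro _ ⟨⟨w, ⟨hwV, hwB⟩, rfl⟩, hwx⟩
      obtain ⟨w', hw', he⟩ := generalizingMap_ofPt hd a ha (specializes_iff_mem_closure.2 hwx)
      have hw'V : w' ∈ V := hw'.mem_open V.2 hwV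
      by_cases hw'u : w' = u
      · subst hw'u
        show Points.ofPt a w = x
        rw [huspec w hwV hw', hx]
      · exact (hwB (Set.mem_iUnion₂.2 ⟨w', ⟨⟨he, hw'V⟩, hw'u⟩, specializes_iff_mem_closure.1 hw'⟩)).elim
  have hxc := isClosed_singleton_of_isLocallyClosed_singleton hlc
  refine ⟨u, ⟨hVO huV, huC⟩, closure_subset_iff_isClosed.1 fun w hw => ?_⟩
  have hs : u ⤳ w := specializes_iff_mem_closure.2 hw
  have hwx : Points.ofPt a w ∈ ({x} : Set (Points F)) :=
    hxc.closure_eq ▸ specializes_iff_mem_closure.1 (hs.map (Points.continuous_ofPt a))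
  exact (eq_of_specializes_of_decentAt a ha (hd _) (show Points.ofPt a u = Points.ofPt a w from (hwx : Points.ofPt a w = x).symm) hs).symm

end Groth.Agent.ASp
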