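import Groth.Agent.Lib.H9Art
import Groth.Prelude.Def_ArtFun5
import Mathlib.RingTheory.AdicCompletion.RingHom
import Mathlib.RingTheory.AdicCompletion.Functoriality
import Mathlib.RingTheory.AdicCompletion.Noetherian
import Mathlib.RingTheory.Nakayama
import Mathlib.RingTheory.Filtration

/-!
Formal elements, homomorphisms into complete local rings, surjectivity criteria.
-/

set_option backward.isDefEq.respectTransparency false
set_option backward.isDefEq.respectTransparency.types false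
set_option linter.deprecated false
set_option linter.unusedTactic false

universe u v w

open CategoryTheory

namespace Groth.Agent.H9Art

open ArtFun ArtFun.Art IsLocalRing

variable {Λ : Type u} {k : Type u} [CommRing Λ] [Field k] [Algebra Λ k]

section Trunc

lemma liftₐ_comp_liftₐ {R : Type u} [CommRing R] [Algebra Λ R] {I J : Ideal R} (r : R →ₐ[Λ] k)
    (hI : ∀ a ∈ I, r a = 0) (hJ : ∀ a ∈ J, r a = 0) (h : ∀ a ∈ I, Ideal.Quotient.mkₐ Λ J a = 0) :
    (Ideal.Quotient.liftₐ J r hJ).comp (Ideal.Quotient.liftₐ I (Ideal.Quotient.mkₐ Λ J) h) =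
      Ideal.Quotient.liftₐ I r hI :=
  AlgHom.ext fun x => by obtain ⟨a, rfl⟩ := Ideal.Quotient.mk_surjective x; rfl

lemma liftₐ_mkₐ_trans {R : Type u} [CommRing R] [Algebra Λ R] {I J K : Ideal R}
    (hIJ : ∀ a ∈ I, Ideal.Quotient.mkₐ Λ J a = 0) (hJK : ∀ a ∈ J, Ideal.Quotient.mkₐ Λ K a = 0)
    (hIK : ∀ a ∈ I, Ideal.Quotient.mkₐ Λ K a = 0) :
    (Ideal.Quotient.liftₐ J (Ideal.Quotient.mkₐ Λ K) hJK).comp (Ideal.Quotient.liftₐ I (Ideal.Quotient.mkₐ Λ J) hIJ) =
      Ideal.Quotient.liftₐ I (Ideal.Quotient.mkₐ Λ K) hIK :=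
  AlgHom.ext fun x => by obtain ⟨a, rfl⟩ := Ideal.Quotient.mk_surjective x; rfl

variable (R : CRing Λ k)

/-- The transition map between arbitrary truncations. -/
noncomputable def truncLE {n m : ℕ} (h : n ≤ m) : R.trunc m ⟶ R.trunc n :=
  ⟨Ideal.Quotient.liftₐ (R.mpow m) (Ideal.Quotient.mkₐ Λ (R.mpow n)) (fun a ha =>
      Ideal.Quotient.eq_zero_iff_mem.2 (Ideal.pow_le_pow_right (Nat.add_le_add_right h 1) ha)),
    liftₐ_comp_liftₐ R.res _ _ _⟩

lemma truncLE_refl (n : ℕ) : truncLE R (le_refl n) = 𝟙 _ := by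
  apply Art.hom_ext; apply AlgHom.ext; intro x
  obtain ⟨a, rfl⟩ := Ideal.Quotient.mk_surjective x
  rfl

lemma truncLE_succ {n m : ℕ} (h : n ≤ m) : truncLE R (h.trans (Nat.le_add_right m 1)) = R.truncMap m ≫ truncLE R h :=
  Art.hom_ext (liftₐ_mkₐ_trans _ _ _).symm

lemma truncMap_surjective (n : ℕ) : Function.Surjective (R.truncMap n) := fun x => by
  obtain ⟨a, rfl⟩ := Ideal.Quotient.mk_surjective x
  exact ⟨Ideal.Quotient.mk _ a, rfl⟩

lemma truncHom_surjective (n : ℕ) : Function.Surjective (R.truncHom n).1 := Ideal.Quotient.mk_surjective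

lemma formalElt_truncLE {F : Art Λ k ⥤ Type v} (u : FormalElt F R) {n m : ℕ} (h : n ≤ m) :
    F.map (truncLE R h) (u.elt m) = u.elt n := by
  induction h with
  | refl => rw [truncLE_refl, FunctorToTypes.map_id_apply]
  | @step m h ih => rw [show truncLE R (Nat.le.step h) = R.truncMap m ≫ truncLE R h from truncLE_succ R h,
      FunctorToTypes.map_comp_apply, u.compat, ih]

lemma truncHom_ext {A : Art Λ k} {n : ℕ} {g₁ g₂ : R.trunc n ⟶ A}
    (h : HomSet.map g₁ (R.truncHom n) = HomSet.map g₂ (R.truncHom n)) : g₁ = g₂ := by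
  apply Art.hom_ext; apply AlgHom.ext; intro x
  obtain ⟨a, rfl⟩ := Ideal.Quotient.mk_surjective x
  exact congrArg (fun t : HomSet R.carrier R.res A => t.1 a) h

lemma exists_factor {A : Art Λ k} (φ : HomSet R.carrier R.res A) :
    ∃ (n : ℕ) (g : R.trunc n ⟶ A), HomSet.map g (R.truncHom n) = φ := by
  obtain ⟨n, hn⟩ := exists_pow_maximalIdeal_eq_bot A
  have hle : (maximalIdeal R.carrier).map φ.1 ≤ maximalIdeal A := Ideal.map_le_iff_le_comap.2 fun a ha => by
    rw [Ideal.mem_comap, Art.mem_maximalIdeal_iff]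
    exact (congrArg (fun t : R.carrier →ₐ[Λ] k => t a) φ.2).trans ((CRing.mem_maximalIdeal_iff R a).1 ha)
  have hk : ∀ a ∈ R.mpow n, φ.1 a = 0 := fun a ha => by
    have h1 : φ.1 a ∈ (maximalIdeal A) ^ (n + 1) :=
      Ideal.pow_right_mono hle _ (Ideal.map_pow φ.1 _ (n + 1) ▸ Ideal.mem_map_of_mem φ.1 ha)
    rwa [pow_succ, hn, Ideal.bot_mul, Ideal.mem_bot] at h1
  refine ⟨n, ⟨Ideal.Quotient.liftₐ (R.mpow n) φ.1 hk, ?_⟩, Subtype.ext (AlgHom.ext fun _ => rfl)⟩
  apply AlgHom.ext; intro x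
  obtain ⟨a, rfl⟩ := Ideal.Quotient.mk_surjective x
  exact congrArg (fun t : R.carrier →ₐ[Λ] k => t a) φ.2

lemma family_ext {F : Art Λ k ⥤ Type v} {ξ η : Family R.carrier R.res F}
    (h : ξ.toFormalElt = η.toFormalElt) (A : Art Λ k) (φ : HomSet R.carrier R.res A) :
    ξ.app A φ = η.app A φ := by
  obtain ⟨n, g, rfl⟩ := exists_factor R φ
  have hn : ξ.app _ (R.truncHom n) = η.app _ (R.truncHom n) := congrArg (fun t => t.elt n) h
  rw [ξ.natural, η.natural, hn]

lemma map_truncLE_truncHom {n m : ℕ} (h : n ≤ m) :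
    HomSet.map (truncLE R h) (R.truncHom m) = R.truncHom n :=
  Subtype.ext (AlgHom.ext fun _ => rfl)

lemma homSet_map_comp {T : Type u} [CommRing T] [Algebra Λ T] {resT : T →ₐ[Λ] k} {A B C : Art Λ k}
    (f : A ⟶ B) (g : B ⟶ C) (φ : HomSet T resT A) :
    HomSet.map (f ≫ g) φ = HomSet.map g (HomSet.map f φ) :=
  Subtype.ext (AlgHom.ext fun _ => rfl)

lemma homSet_map_id {T : Type u} [CommRing T] [Algebra Λ T] {resT : T →ₐ[Λ] k} {A : Art Λ k}
    (φ : HomSet T resT A) : HomSet.map (𝟙 A) φ = φ :=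
  Subtype.ext (AlgHom.ext fun _ => rfl)

lemma exists_family {F : Art Λ k ⥤ Type v} (u : FormalElt F R) :
    ∃ ξ : Family R.carrier R.res F, ξ.toFormalElt = u := by
  choose N g hg using fun (A : Art Λ k) (φ : HomSet R.carrier R.res A) => exists_factor R φ
  have indep : ∀ (A : Art Λ k) (n m : ℕ) (a : R.trunc n ⟶ A) (b : R.trunc m ⟶ A),
      HomSet.map a (R.truncHom n) = HomSet.map b (R.truncHom m) →
      F.map a (u.elt n) = F.map b (u.elt m) := by
    intro A n m a b hab
    have e : truncLE R (le_max_left n m) ≫ a = truncLE R (le_max_right n m) ≫ b := truncHom_ext R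
      (by rw [homSet_map_comp, homSet_map_comp, map_truncLE_truncHom, map_truncLE_truncHom, hab])
    rw [← formalElt_truncLE R u (le_max_left n m), ← formalElt_truncLE R u (le_max_right n m),
      ← FunctorToTypes.map_comp_apply, ← FunctorToTypes.map_comp_apply, e]
  refine ⟨{ app := fun A φ => F.map (g A φ) (u.elt (N A φ)), natural := fun {A B} f φ => ?_ }, ?_⟩
  · rw [← FunctorToTypes.map_comp_apply]
    refine indep _ _ _ _ _ ?_
    rw [hg]
    exact (congrArg (HomSet.map f) (hg A φ)).symm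
  · refine FormalElt.ext' fun n => ?_
    change F.map (g _ (R.truncHom n)) (u.elt _) = u.elt n
    exact (indep _ _ n _ (𝟙 _) ((hg _ _).trans (homSet_map_id _).symm)).trans
      (FunctorToTypes.map_id_apply F _)

lemma hom_ext_trunc {T : Type w} [CommRing T] [Algebra Λ T] {g₁ g₂ : T →ₐ[Λ] R.carrier}
    (h : ∀ n, (R.truncHom n).1.comp g₁ = (R.truncHom n).1.comp g₂) : g₁ = g₂ := by
  refine AlgHom.ext fun x => sub_eq_zero.1 ?_
  have hx : g₁ x - g₂ x ∈ ⨅ i : ℕ, maximalIdeal R.carrier ^ i := Ideal.mem_iInf.2 fun i =>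
    Ideal.pow_le_pow_right i.le_succ (Ideal.Quotient.eq.1 (congrArg (fun t : T →ₐ[Λ] _ => t x) (h i)))
  rwa [Ideal.iInf_pow_eq_bot_of_isLocalRing _ (IsLocalRing.maximalIdeal.isMaximal R.carrier).ne_top,
    Ideal.mem_bot] at hx

variable {T : Type u} [CommRing T] [Algebra Λ T] {resT : T →ₐ[Λ] k}

lemma exists_lim (φ : ∀ n, HomSet T resT (R.trunc n))
    (hφ : ∀ n, HomSet.map (R.truncMap n) (φ (n + 1)) = φ n) :
    ∃ g : T →ₐ[Λ] R.carrier, R.res.comp g = resT ∧ ∀ n, (R.truncHom n).1.comp g = (φ n).1 := by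
  haveI := R.isAdicComplete
  have ha : StrictMono fun n : ℕ => n + 1 := fun a b h => by simpa using h
  let f : ∀ n, T →+* R.carrier ⧸ maximalIdeal R.carrier ^ (n + 1) := fun n => (φ n).1.toRingHom
  have hf : ∀ {m : ℕ}, (Ideal.Quotient.factorPow (maximalIdeal R.carrier) (ha.monotone m.le_succ)).comp (f (m + 1)) = f m := by
    intro m
    refine RingHom.ext fun x => ?_
    have h1 : (R.truncMap m).toAlgHom ((φ (m + 1)).1 x) = (φ m).1 x :=
      congrArg (fun t : HomSet T resT (R.trunc m) => t.1 x) (hφ m)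
    refine Eq.trans ?_ h1
    change _ = (R.truncMap m).toAlgHom ((φ (m + 1)).1 x)
    obtain ⟨a, ha'⟩ := Ideal.Quotient.mk_surjective (I := R.mpow (m + 1)) ((φ (m + 1)).1 x)
    rw [← ha']
    change Ideal.Quotient.factorPow (maximalIdeal R.carrier) (ha.monotone m.le_succ) ((φ (m + 1)).1 x) = _
    rw [← ha']
    rfl
  let g := IsAdicComplete.StrictMono.liftRingHom (maximalIdeal R.carrier) ha f hf
  have hg : ∀ n x, Ideal.Quotient.mk (R.mpow n) (g x) = (φ n).1 x := fun n x =>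
    IsAdicComplete.StrictMono.mk_liftRingHom (maximalIdeal R.carrier) ha f hf x
  have hcomm : ∀ r : Λ, g (algebraMap Λ T r) = algebraMap Λ R.carrier r := fun r => by
    refine sub_eq_zero.1 ?_
    have hx : g (algebraMap Λ T r) - algebraMap Λ R.carrier r ∈ ⨅ i : ℕ, maximalIdeal R.carrier ^ i :=
      Ideal.mem_iInf.2 fun i => Ideal.pow_le_pow_right i.le_succ (Ideal.Quotient.eq.1
        ((hg i _).trans ((φ i).1.commutes r)))
    rwa [Ideal.iInf_pow_eq_bot_of_isLocalRing _ (IsLocalRing.maximalIdeal.isMaximal R.carrier).ne_top,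
      Ideal.mem_bot] at hx
  refine ⟨{ toRingHom := g, commutes' := hcomm }, AlgHom.ext fun x => ?_, fun n => AlgHom.ext fun x => hg n x⟩
  refine Eq.trans ?_ (congrArg (fun t : T →ₐ[Λ] k => t x) (φ 0).2)
  change R.res (g x) = (R.trunc 0).res ((φ 0).1 x)
  rw [← hg 0 x]
  rfl

end Trunc

/-! ### Surjectivity -/

lemma isPrecomplete_of_pow_eq_bot {R : Type u} [CommRing R] {I : Ideal R} {n : ℕ} (hn : I ^ n = ⊥) :
    IsPrecomplete I R := by
  refine ⟨fun f hf => ⟨f n, fun m => ?_⟩⟩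
  rcases le_total m n with h | h
  · exact hf h
  · have e := hf h
    rw [SModEq.sub_mem, smul_eq_mul, Ideal.mul_top, hn, Ideal.mem_bot] at e
    rw [SModEq.sub_mem, sub_eq_zero.1 e, sub_self]
    exact zero_mem _

lemma surjective_of_cotangent {R S : Type u} [CommRing R] [CommRing S] [IsLocalRing R] [IsLocalRing S]
    [IsNoetherianRing S] [IsPrecomplete (maximalIdeal R) R] (f : R →+* S)
    (hres : ∀ s : S, ∃ r : R, s - f r ∈ maximalIdeal S)
    (hloc : (maximalIdeal R).map f ≤ maximalIdeal S)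
    (hcot : (maximalIdeal R).map f ⊔ maximalIdeal S ^ 2 = maximalIdeal S) : Function.Surjective f := by
  have heq : (maximalIdeal R).map f = maximalIdeal S := by
    refine le_antisymm hloc ?_
    refine Submodule.le_of_le_smul_of_le_jacobson_bot (I := maximalIdeal S)
      (IsNoetherian.noetherian (maximalIdeal S)) (IsLocalRing.jacobson_eq_maximalIdeal (R := S) ⊥ bot_ne_top).ge ?_
    rw [smul_eq_mul, ← pow_two]
    exact hcot.ge
  haveI : IsHausdorff ((maximalIdeal R).map f) S := heq ▸ inferInstance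
  refine surjective_of_mk_map_comp_surjective (I := maximalIdeal R) f fun x => ?_
  obtain ⟨s, rfl⟩ := Ideal.Quotient.mk_surjective x
  obtain ⟨r, hr⟩ := hres s
  exact ⟨r, (Ideal.Quotient.eq.2 (heq ▸ hr)).symm⟩

lemma surjective_of_cotangent_art {A B : Art Λ k} (f : A ⟶ B)
    (hcot : (maximalIdeal A).map f.toAlgHom ⊔ maximalIdeal B ^ 2 = maximalIdeal B) :
    Function.Surjective f := by
  obtain ⟨n, hn⟩ := exists_pow_maximalIdeal_eq_bot A
  haveI := isPrecomplete_of_pow_eq_bot hn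
  refine surjective_of_cotangent f.toAlgHom.toRingHom (fun s => ?_) (Ideal.map_le_iff_le_comap.2 fun a ha => ?_) hcot
  · obtain ⟨r, hr⟩ := A.res_surjective (B.res s)
    exact ⟨r, (Art.mem_maximalIdeal_iff B _).2 ((map_sub B.res _ _).trans (sub_eq_zero.2 (hr.symm.trans (res_app f r).symm)))⟩
  · exact (Art.mem_maximalIdeal_iff B _).2 ((res_app f a).trans ((Art.mem_maximalIdeal_iff A a).1 ha))

lemma surjective_of_cotangent_cring (R S : CRing Λ k) (f : R.carrier →ₐ[Λ] S.carrier)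
    (hf : S.res.comp f = R.res)
    (hcot : (maximalIdeal R.carrier).map f ⊔ maximalIdeal S.carrier ^ 2 = maximalIdeal S.carrier) :
    Function.Surjective f := by
  haveI := R.isAdicComplete.toIsPrecomplete
  have hfa : ∀ a, S.res (f a) = R.res a := fun a => congrArg (fun t : R.carrier →ₐ[Λ] k => t a) hf
  refine surjective_of_cotangent f.toRingHom (fun s => ?_) (Ideal.map_le_iff_le_comap.2 fun a ha => ?_) hcot
  · obtain ⟨r, hr⟩ := R.res_surjective (S.res s)
    exact ⟨r, (CRing.mem_maximalIdeal_iff S _).2 ((map_sub S.res _ _).trans (sub_eq_zero.2 (hr.symm.trans (hfa r).symm)))⟩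
  · exact (CRing.mem_maximalIdeal_iff S _).2 ((hfa a).trans ((CRing.mem_maximalIdeal_iff R a).1 ha))

end Groth.Agent.H9Art
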