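import Groth.Prelude.Def_ArtFun3
import Groth.Agent.Lib.H9ArtTangent
import Groth.Agent.Lib.H9ArtFormal
import Mathlib

/-! Essential surjections and Kähler differentials. -/

set_option autoImplicit false
set_option backward.isDefEq.respectTransparency.types false
set_option backward.isDefEq.respectTransparency false

universe v u

open CategoryTheory ArtFun ArtFun.Art IsLocalRing
open scoped TensorProduct

noncomputable section

namespace Groth.Agent.H9Art

variable {Λ : Type u} {k : Type u} [CommRing Λ] [Field k] [Algebra Λ k]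

/-- `Λ`-derivations at the residue field, as maps. -/
structure PtDer (X : Art Λ k) where
  /-- the underlying map -/
  toFun : X → k
  map_add : ∀ a b, toFun (a + b) = toFun a + toFun b
  map_mul : ∀ a b, toFun (a * b) = X.res a * toFun b + X.res b * toFun a
  map_alg : ∀ r, toFun (algebraMap Λ X r) = 0

theorem surjective_of_quot_sq {C B : Art Λ k} (g : C ⟶ B)
    (h : Function.Surjective (g ≫ quotMk B (maximalIdeal B ^ 2) (Ideal.pow_le_self two_ne_zero))) : Function.Surjective g := by
  have hloc : (maximalIdeal C).map g.toAlgHom ≤ maximalIdeal B := Ideal.map_le_iff_le_comap.2 fun a ha =>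
    (Art.mem_maximalIdeal_iff B _).2 ((res_app g a).trans ((Art.mem_maximalIdeal_iff C a).1 ha))
  refine surjective_of_cotangent_art g (le_antisymm (sup_le hloc (Ideal.pow_le_self two_ne_zero)) fun x hx => ?_)
  obtain ⟨c, hc⟩ := h (quotMk B _ _ x)
  have hd : x - g c ∈ maximalIdeal B ^ 2 := Ideal.Quotient.eq.1 hc.symm
  have hcm : c ∈ maximalIdeal C := (Art.mem_maximalIdeal_iff C c).2 (by
    have h1 := (Art.mem_maximalIdeal_iff B _).1 (Ideal.pow_le_self two_ne_zero hd)
    rw [map_sub, (Art.mem_maximalIdeal_iff B x).1 hx, zero_sub, neg_eq_zero] at h1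
    exact (res_app g c).symm.trans h1)
  have := add_mem (Submodule.mem_sup_left (T := maximalIdeal B ^ 2) (Ideal.mem_map_of_mem g.toAlgHom hcm))
    (Submodule.mem_sup_right (S := (maximalIdeal C).map g.toAlgHom) hd)
  rwa [show g.toAlgHom c + (x - g c) = x by simp] at this

/-- a failing surjection is detected by a derivation -/
theorem exists_ptDer {C B : Art Λ k} (g : C ⟶ B) (hg : ¬ Function.Surjective g) :
    ∃ D : PtDer B, (∀ c, D.toFun (g c) = 0) ∧ ∃ b, D.toFun b ≠ 0 := by
  let E := quot B (maximalIdeal B ^ 2) (Ideal.pow_le_self two_ne_zero)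
  let q : B ⟶ E := quotMk B _ _
  have hE : maximalIdeal E ^ 2 = ⊥ := by
    rw [eq_bot_iff, pow_two, Ideal.mul_le]
    intro a ha b hb
    obtain ⟨a, rfl⟩ := quotMk_surjective B _ (Ideal.pow_le_self two_ne_zero) a
    obtain ⟨b, rfl⟩ := quotMk_surjective B _ (Ideal.pow_le_self two_ne_zero) b
    rw [Ideal.mem_bot]
    refine (map_mul q.toAlgHom a b).symm.trans (Ideal.Quotient.eq_zero_iff_mem.2 ?_)
    rw [pow_two]
    exact Ideal.mul_mem_mul ((Art.mem_maximalIdeal_iff B a).2 ((res_app q a).symm.trans ((Art.mem_maximalIdeal_iff E _).1 ha)))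
      ((Art.mem_maximalIdeal_iff B b).2 ((res_app q b).symm.trans ((Art.mem_maximalIdeal_iff E _).1 hb)))
  have hns : ¬ Function.Surjective (g ≫ q) := fun h => hg (surjective_of_quot_sq g h)
  obtain ⟨e, he⟩ := not_forall.1 hns
  obtain ⟨δ, hδ0, hδe⟩ := exists_toDual hE (g ≫ q).toAlgHom (fun a => by
    obtain ⟨c, hc⟩ := C.res_surjective a
    exact ⟨c, (res_app (g ≫ q) c).trans hc⟩) e (fun h => he h)
  let w : B →ₐ[Λ] DualNumber k := δ.toAlgHom.comp q.toAlgHom
  have hw : ∀ a, TrivSqZeroExt.fst (w a) = B.res a := fun a => res_app (q ≫ δ) a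
  refine ⟨⟨fun b => TrivSqZeroExt.snd (w b),
    fun a b => by rw [map_add, TrivSqZeroExt.snd_add],
    fun a b => by rw [map_mul, TrivSqZeroExt.snd_mul, hw, hw, op_smul_eq_smul, smul_eq_mul, smul_eq_mul],
    fun r => by rw [AlgHom.commutes, TrivSqZeroExt.algebraMap_eq_inl', TrivSqZeroExt.snd_inl]⟩, hδ0, ?_⟩
  obtain ⟨b, rfl⟩ := quotMk_surjective B _ (Ideal.pow_le_self two_ne_zero) e
  exact ⟨b, hδe⟩

theorem essential_iff {A B : Art Λ k} (f : B ⟶ A) (hf : Function.Surjective f) :
    (∀ (C : Art Λ k) (g : C ⟶ B), Function.Surjective (g ≫ f) → Function.Surjective g) ↔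
      ∀ (D : PtDer B) (j : B), f j = 0 → D.toFun j = 0 := by
  constructor
  · intro h D j hj
    by_contra hne
    have D0 : D.toFun 0 = 0 := by simpa using D.map_add 0 0
    have D1 : D.toFun 1 = 0 := by simpa using D.map_alg 1
    have hjm : B.res j = 0 := (res_app f j).symm.trans (by rw [hj]; exact map_zero A.res)
    let δA : B →ₐ[Λ] DualNumber k :=
      { toFun := fun b => ((B.res b, D.toFun b) : k × k)
        map_one' := TrivSqZeroExt.ext (map_one B.res) D1
        map_mul' := fun a b => TrivSqZeroExt.ext (map_mul B.res a b) (by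
          show D.toFun (a * b) = B.res a • D.toFun b + MulOpposite.op (B.res b) • D.toFun a
          rw [D.map_mul, op_smul_eq_smul, smul_eq_mul, smul_eq_mul])
        map_zero' := TrivSqZeroExt.ext (map_zero B.res) D0
        map_add' := fun a b => TrivSqZeroExt.ext (map_add B.res a b) (D.map_add a b)
        commutes' := fun r => TrivSqZeroExt.ext (B.res.commutes r) (by
          show D.toFun (algebraMap Λ B r) = 0
          exact D.map_alg r) }
    let δ : B ⟶ dual Λ k := ⟨δA, AlgHom.ext fun _ => rfl⟩
    let ι : base Λ k ⟶ dual Λ k := ⟨TrivSqZeroExt.inlAlgHom Λ k k, AlgHom.ext fun _ => rfl⟩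
    have hδ : Function.Surjective δ := fun z => by
      obtain ⟨b, hb⟩ := B.res_surjective (TrivSqZeroExt.fst (show DualNumber k from z))
      obtain ⟨c, hc⟩ := B.res_surjective ((TrivSqZeroExt.snd (show DualNumber k from z) - D.toFun b) / D.toFun j)
      refine ⟨b + c * j, TrivSqZeroExt.ext ?_ ?_⟩
      · show B.res (b + c * j) = _
        simp [hjm, hb]
      · show D.toFun (b + c * j) = _
        rw [D.map_add, D.map_mul, hjm, hc, zero_mul, add_zero, div_mul_cancel₀ _ hne, add_sub_cancel]
    obtain ⟨C, p₁, p₂, hC⟩ := exists_fibreProd ι δ hδ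
    have hs : Function.Surjective (p₂ ≫ f) := fun a => by
      obtain ⟨b, rfl⟩ := hf a
      obtain ⟨c, hc⟩ := B.res_surjective (-(D.toFun b) / D.toFun j)
      have hD : D.toFun (b + c * j) = 0 := by
        rw [D.map_add, D.map_mul, hjm, hc, zero_mul, add_zero, div_mul_cancel₀ _ hne, add_neg_cancel]
      obtain ⟨z, -, hz⟩ := hC.surj (B.res (b + c * j)) (b + c * j) (TrivSqZeroExt.ext
        rfl (by
          show (0 : k) = D.toFun (b + c * j)
          exact hD.symm))
      refine ⟨z, (congrArg f.toAlgHom hz).trans ?_⟩
      show f.toAlgHom (b + c * j) = f.toAlgHom b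
      rw [map_add, map_mul, show f.toAlgHom j = 0 from hj, mul_zero, add_zero]
    obtain ⟨z, hz⟩ := h C p₂ hs j
    have hw := hC.w_apply z
    rw [hz] at hw
    exact hne (congrArg (fun t : DualNumber k => TrivSqZeroExt.snd t) hw).symm
  · intro h C g hgf
    by_contra hg
    obtain ⟨D, hD, b, hb⟩ := exists_ptDer g hg
    obtain ⟨c, hc⟩ := hgf (f b)
    have h0 := h D (b - g c) (by
      show f.toAlgHom (b - g c) = 0
      rw [map_sub, sub_eq_zero]; exact hc.symm)
    have := D.map_add (b - g c) (g c)
    rw [sub_add_cancel, h0, hD, add_zero] at this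
    exact hb this

theorem module_finite_art [IsNoetherianRing Λ] [Module.Finite Λ k] (B : Art Λ k) : Module.Finite Λ B := by
  have key : Module.Finite Λ (base Λ k) → Module.Finite Λ B := by
    refine surjective_induction (P := fun A B _ => Module.Finite Λ A → Module.Finite Λ B) ?_ ?_ ?_ (toBase B) B.res_surjective
    · intro A B e he hA
      haveI := hA
      exact Module.Finite.of_injective e.toAlgHom.toLinearMap (bij_of_isIso e).1
    · intro A B μ hμ hA
      obtain ⟨n, a, ha⟩ := Module.Finite.exists_fin (R := Λ) (M := k)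
      choose b hb using fun i => B.res_surjective (a i)
      obtain ⟨t, ht⟩ := hμ.2.2.1
      refine ⟨Submodule.fg_of_fg_map_of_fg_inf_ker μ.toAlgHom.toLinearMap ?_ ?_⟩
      · rw [Submodule.map_top, LinearMap.range_eq_top.2 hμ.1]
        exact hA.fg_top
      · classical
        rw [top_inf_eq]
        refine ⟨Finset.univ.image fun i => b i * t, le_antisymm (Submodule.span_le.2 ?_) fun x hx => ?_⟩
        · intro x hx
          rw [Finset.coe_image, Finset.coe_univ, Set.image_univ] at hx
          obtain ⟨i, rfl⟩ := hx
          show μ.toAlgHom (b i * t) = 0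
          have htk : t ∈ RingHom.ker μ.toAlgHom := ht ▸ Submodule.mem_span_singleton_self t
          rw [map_mul, RingHom.mem_ker.1 htk, mul_zero]
        · have htk : t ∈ RingHom.ker μ.toAlgHom := ht ▸ Submodule.mem_span_singleton_self t
          have hxk : x ∈ RingHom.ker μ.toAlgHom := hx
          rw [ht, Submodule.mem_span_singleton] at hxk
          obtain ⟨c, rfl⟩ := hxk
          have hspan : B.res c ∈ Submodule.span Λ (Set.range a) := ha ▸ Submodule.mem_top
          obtain ⟨l, hl⟩ := (Submodule.mem_span_range_iff_exists_fun Λ).1 hspan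
          have hcd : c * t = ∑ i, l i • (b i * t) := by
            rw [← sub_eq_zero]
            have hm : c - ∑ i, l i • b i ∈ maximalIdeal B := (Art.mem_maximalIdeal_iff B _).2 (by
              rw [map_sub, map_sum]
              simp [map_smul, hb, hl])
            have := Ideal.mul_mem_mul hm htk
            rw [hμ.2.2.2, Ideal.mem_bot, sub_mul, Finset.sum_mul] at this
            simpa [smul_mul_assoc] using this
          show c * t ∈ _
          rw [hcd]
          exact Submodule.sum_mem _ fun i _ => Submodule.smul_mem _ _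
            (Submodule.subset_span (Finset.mem_image_of_mem _ (Finset.mem_univ i)))
    · intro A B C p r _ _ hp hr hA
      exact hp (hr hA)
  exact key (‹Module.Finite Λ k›)

/-- the dual of `k ⊗ Ω` is the space of derivations -/
def dualOmegaEquiv (S X : Type u) [CommRing S] [CommRing X] [Algebra S X] [Algebra X k] [Algebra S k] [IsScalarTower S X k] :
    Module.Dual k (k ⊗[X] Ω[X⁄S]) ≃ Derivation S X k :=
  ((LinearMap.liftBaseChangeEquiv k).symm.toEquiv).trans (KaehlerDifferential.linearMapEquivDerivation S X).toEquiv

section Main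
variable [IsNoetherianRing Λ] [Module.Finite Λ k]

theorem kaehler_iff {A B : Art Λ k} (f : B ⟶ A) :
    letI : Algebra B A := f.toAlgHom.toRingHom.toAlgebra
    letI : Algebra A k := A.res.toRingHom.toAlgebra
    letI : Algebra B k := B.res.toRingHom.toAlgebra
    (Function.Surjective f ∧ ∀ (C : Art Λ k) (g : C ⟶ B), Function.Surjective (g ≫ f) → Function.Surjective g) ↔
      (Subsingleton (k ⊗[A] Ω[A⁄B]) ∧
        Module.finrank k (k ⊗[B] Ω[B⁄Λ]) = Module.finrank k (k ⊗[A] Ω[A⁄Λ])) := by
  letI : Algebra B A := f.toAlgHom.toRingHom.toAlgebra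
  letI : Algebra A k := A.res.toRingHom.toAlgebra
  letI : Algebra B k := B.res.toRingHom.toAlgebra
  haveI : IsScalarTower Λ B k := IsScalarTower.of_algebraMap_eq fun r => (B.res.commutes r).symm
  haveI : IsScalarTower Λ A k := IsScalarTower.of_algebraMap_eq fun r => (A.res.commutes r).symm
  haveI : IsScalarTower B A k := IsScalarTower.of_algebraMap_eq fun b => (res_app f b).symm
  haveI : IsScalarTower Λ B A := IsScalarTower.of_algebraMap_eq fun r => (f.toAlgHom.commutes r).symm
  haveI : Module.Finite Λ A := module_finite_art A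
  haveI : Module.Finite Λ B := module_finite_art B
  haveI : Algebra.FiniteType Λ A := inferInstance
  haveI : Algebra.FiniteType Λ B := inferInstance
  have hsub : Subsingleton (k ⊗[A] Ω[A⁄B]) ↔ Function.Surjective f := by
    constructor
    · intro hs
      by_contra hn
      obtain ⟨D, hD, a, ha⟩ := exists_ptDer f hn
      let D' : Derivation B A k :=
        { toFun := D.toFun
          map_add' := D.map_add
          map_smul' := fun b x => by
            show D.toFun (algebraMap B A b * x) = algebraMap B k b * D.toFun x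
            rw [D.map_mul, show D.toFun (algebraMap B A b) = 0 from hD b, mul_zero, add_zero]
            exact congrArg (· * D.toFun x) (res_app f b)
          map_one_eq_zero' := by
            show D.toFun 1 = 0
            simpa using D.map_alg 1
          leibniz' := fun x y => D.map_mul x y }
      haveI : Subsingleton (Module.Dual k (k ⊗[A] Ω[A⁄B])) := ⟨fun φ ψ => LinearMap.ext fun z => by
        rw [Subsingleton.elim z 0, map_zero, map_zero]⟩
      haveI : Subsingleton (Derivation B A k) := (dualOmegaEquiv (k := k) B A).symm.subsingleton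
      exact ha (congrArg (fun d : Derivation B A k => d a) (Subsingleton.elim D' 0))
    · intro hs
      haveI : Subsingleton Ω[A⁄B] := by
        refine subsingleton_of_forall_eq 0 fun z => ?_
        have hz : z ∈ Submodule.span A (Set.range (KaehlerDifferential.D B A)) := by
          rw [KaehlerDifferential.span_range_derivation]; trivial
        refine Submodule.span_induction ?_ rfl (fun x y _ _ hx hy => by rw [hx, hy, add_zero])
          (fun c x _ hx => by rw [hx, smul_zero]) hz
        rintro _ ⟨a, rfl⟩
        obtain ⟨b, rfl⟩ := hs a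
        exact (KaehlerDifferential.D B A).map_algebraMap b
      infer_instance
  rw [hsub]
  refine and_congr_right fun hf => ?_
  rw [essential_iff f hf]
  -- precomposition with `f` on derivations
  let pre : Derivation Λ A k →ₗ[k] Derivation Λ B k :=
    { toFun := fun D => D.compAlgebraMap B
      map_add' := fun _ _ => rfl
      map_smul' := fun _ _ => rfl }
  have hpre : Function.Injective pre := fun D D' h => Derivation.ext fun a => by
    obtain ⟨b, rfl⟩ := hf a
    exact congrArg (fun d : Derivation Λ B k => d b) h
  let eA : Module.Dual k (k ⊗[A] Ω[A⁄Λ]) ≃ₗ[k] Derivation Λ A k :=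
    { dualOmegaEquiv (k := k) Λ A with
      map_add' := fun x y => Derivation.ext fun a => by simp [dualOmegaEquiv]
      map_smul' := fun c x => Derivation.ext fun a => by
        show (c • x) _ = c • x _
        rfl }
  let eB : Module.Dual k (k ⊗[B] Ω[B⁄Λ]) ≃ₗ[k] Derivation Λ B k :=
    { dualOmegaEquiv (k := k) Λ B with
      map_add' := fun x y => Derivation.ext fun a => by simp [dualOmegaEquiv]
      map_smul' := fun c x => Derivation.ext fun a => by
        show (c • x) _ = c • x _
        rfl }
  rw [← Subspace.dual_finrank_eq (V := k ⊗[B] Ω[B⁄Λ]), ← Subspace.dual_finrank_eq (V := k ⊗[A] Ω[A⁄Λ]),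
    eA.finrank_eq, eB.finrank_eq]
  haveI : Module.Finite k (Derivation Λ A k) := Module.Finite.equiv eA
  haveI : Module.Finite k (Derivation Λ B k) := Module.Finite.equiv eB
  constructor
  · intro h
    refine (LinearEquiv.ofBijective pre ⟨hpre, fun D => ?_⟩).finrank_eq.symm
    let D' : PtDer B := ⟨fun b => D b, D.map_add, fun a b => D.leibniz a b, fun r => D.map_algebraMap r⟩
    choose sec hsec using hf
    have key : ∀ (b : B) (a : A), f b = a → D (sec a) = D b := fun b a hb => by
      rw [← sub_eq_zero, ← map_sub]
      refine h D' (sec a - b) ?_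
      show f.toAlgHom (sec a - b) = 0
      rw [map_sub, sub_eq_zero]; exact (hsec a).trans hb.symm
    refine ⟨Derivation.mk'
      { toFun := fun a => D (sec a)
        map_add' := fun a a' => by
          rw [key (sec a + sec a') _ ((map_add f.toAlgHom _ _).trans (congrArg₂ (· + ·) (hsec a) (hsec a'))), map_add]
        map_smul' := fun r a => by
          rw [RingHom.id_apply, key (r • sec a) _ ((map_smul f.toAlgHom r _).trans (congrArg (r • ·) (hsec a))), D.map_smul] }
      (fun a a' => ?_), Derivation.ext fun b => key b (f b) rfl⟩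
    show D (sec (a * a')) = algebraMap A k a * D (sec a') + algebraMap A k a' * D (sec a)
    rw [key (sec a * sec a') _ ((map_mul f.toAlgHom _ _).trans (congrArg₂ (· * ·) (hsec a) (hsec a'))), D.leibniz]
    show B.res _ * _ + B.res _ * _ = A.res a * _ + A.res a' * _
    rw [← res_app f (sec a), ← res_app f (sec a'), hsec, hsec]
  · intro h D j hj
    obtain ⟨D₀, hD₀⟩ := (LinearMap.injective_iff_surjective_of_finrank_eq_finrank h.symm).1 hpre
      (Derivation.mk'
        { toFun := D.toFun
          map_add' := D.map_add
          map_smul' := fun r b => by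
            rw [RingHom.id_apply, Algebra.smul_def, D.map_mul, D.map_alg, mul_zero, add_zero, B.res.commutes, Algebra.smul_def] }
        fun a b => D.map_mul a b)
    refine (congrArg (fun d : Derivation Λ B k => d j) hD₀).symm.trans ?_
    show D₀ (f j) = 0
    rw [hj, map_zero]

end Main

end Groth.Agent.H9Art
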