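import Groth.Prelude.Def_ArtFun3
import Groth.Agent.Lib.H9ArtEssential
import Mathlib

/-! Essential surjections: reduction modulo `Λ`-maximal ideal plus squares; separable case. -/

set_option autoImplicit false
set_option backward.isDefEq.respectTransparency.types false
set_option backward.isDefEq.respectTransparency false

universe v u

open CategoryTheory ArtFun ArtFun.Art IsLocalRing
open scoped TensorProduct

noncomputable section

namespace Groth.Agent.H9Art

variable {Λ : Type u} {k : Type u} [CommRing Λ] [Field k] [Algebra Λ k]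

theorem surjective_iff_omega [IsNoetherianRing Λ] [Module.Finite Λ k] {A B : Art Λ k} (f : B ⟶ A) :
    letI : Algebra B A := f.toAlgHom.toRingHom.toAlgebra
    letI : Algebra A k := A.res.toRingHom.toAlgebra
    Function.Surjective f ↔ Subsingleton (k ⊗[A] Ω[A⁄B]) := by
  letI : Algebra B A := f.toAlgHom.toRingHom.toAlgebra
  letI : Algebra A k := A.res.toRingHom.toAlgebra
  letI : Algebra B k := B.res.toRingHom.toAlgebra
  haveI : IsScalarTower B A k := IsScalarTower.of_algebraMap_eq fun b => (res_app f b).symm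
  constructor
  · intro hs
    haveI : Subsingleton Ω[A⁄B] := by
      refine subsingleton_of_forall_eq 0 fun z => ?_
      have hz : z ∈ Submodule.span A (Set.range (KaehlerDifferential.D B A)) := by
        rw [KaehlerDifferential.span_range_derivation]; trivial
      refine Submodule.span_induction ?_ rfl (fun x y _ _ hx hy => by rw [hx, hy, add_zero])
        (fun c x _ hx => by rw [hx, smul_zero]) hz
      rintro _ ⟨a, rfl⟩
      obtain ⟨b, rfl⟩ := hs a
      exact (KaehlerDifferential.D B A).map_algebraMap b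
    infer_instance
  · intro hs
    by_contra hn
    obtain ⟨D, hD, a, ha⟩ := exists_ptDer f hn
    let D' : Derivation B A k :=
      { toFun := D.toFun
        map_add' := D.map_add
        map_smul' := fun b x => by
          show D.toFun (algebraMap B A b * x) = algebraMap B k b * D.toFun x
          rw [D.map_mul, show D.toFun (algebraMap B A b) = 0 from hD b, mul_zero, add_zero]
          exact congrArg (· * D.toFun x) (res_app f b)
        map_one_eq_zero' := by
          show D.toFun 1 = 0
          simpa using D.map_alg 1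
        leibniz' := fun x y => D.map_mul x y }
    haveI : Subsingleton (Module.Dual k (k ⊗[A] Ω[A⁄B])) := ⟨fun φ ψ => LinearMap.ext fun z => by
      rw [Subsingleton.elim z 0, map_zero, map_zero]⟩
    haveI : Subsingleton (Derivation B A k) := (dualOmegaEquiv (k := k) B A).symm.subsingleton
    exact ha (congrArg (fun d : Derivation B A k => d a) (Subsingleton.elim D' 0))

/-- The ideal `Λ₀ B + m²`, `Λ₀` the kernel of `Λ → k`. -/
def relSq (B : Art Λ k) : Ideal B :=
  (RingHom.ker (algebraMap Λ k)).map (algebraMap Λ B) ⊔ maximalIdeal B ^ 2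

theorem relSq_le (B : Art Λ k) : relSq B ≤ maximalIdeal B :=
  sup_le (Ideal.map_le_iff_le_comap.2 fun r hr => (Art.mem_maximalIdeal_iff B _).2 ((B.res.commutes r).trans hr))
    (Ideal.pow_le_self two_ne_zero)

theorem PtDer.map_zero {B : Art Λ k} (D : PtDer B) : D.toFun 0 = 0 := by simpa using D.map_add 0 0

theorem PtDer.map_neg {B : Art Λ k} (D : PtDer B) (x : B) : D.toFun (-x) = -D.toFun x := by
  refine eq_neg_of_add_eq_zero_left ?_
  rw [← D.map_add, neg_add_cancel, D.map_zero]

theorem PtDer.map_sub {B : Art Λ k} (D : PtDer B) (x y : B) : D.toFun (x - y) = D.toFun x - D.toFun y := by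
  rw [sub_eq_add_neg, D.map_add, D.map_neg, sub_eq_add_neg]

theorem PtDer.vanish {B : Art Λ k} (D : PtDer B) {x : B} (hx : x ∈ relSq B) : D.toFun x = 0 := by
  have h1 : ∀ y ∈ (RingHom.ker (algebraMap Λ k)).map (algebraMap Λ B), D.toFun y = 0 := by
    intro y hy
    refine Submodule.span_induction ?_ D.map_zero (fun a b _ _ ha hb => by rw [D.map_add, ha, hb, add_zero])
      (fun c a ha' ha => ?_) hy
    · rintro _ ⟨r, -, rfl⟩
      exact D.map_alg r
    · have hres : B.res a = 0 := (Art.mem_maximalIdeal_iff B a).1 (relSq_le B (Submodule.mem_sup_left ha'))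
      rw [smul_eq_mul, D.map_mul, ha, hres, mul_zero, zero_mul, add_zero]
  have h2 : ∀ y ∈ maximalIdeal B ^ 2, D.toFun y = 0 := by
    intro y hy
    rw [pow_two] at hy
    refine Submodule.mul_induction_on hy (fun a ha b hb => ?_) (fun a b ha hb => by rw [D.map_add, ha, hb, add_zero])
    rw [D.map_mul, (Art.mem_maximalIdeal_iff B a).1 ha, (Art.mem_maximalIdeal_iff B b).1 hb, zero_mul, zero_mul, add_zero]
  obtain ⟨a, ha, b, hb, rfl⟩ := Submodule.mem_sup.1 hx
  rw [D.map_add, h1 a ha, h2 b hb, add_zero]

/-- pull back a derivation along a morphism -/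
def PtDer.comap {B B' : Art Λ k} (q : B ⟶ B') (D : PtDer B') : PtDer B where
  toFun b := D.toFun (q.toAlgHom b)
  map_add a b := by rw [_root_.map_add, D.map_add]
  map_mul a b := by
    rw [_root_.map_mul, D.map_mul]
    exact congrArg₂ (fun s t => s * D.toFun (q.toAlgHom b) + t * D.toFun (q.toAlgHom a)) (res_app q a) (res_app q b)
  map_alg r := by rw [AlgHom.commutes, D.map_alg]

theorem PtDer.descend {B B' : Art Λ k} (q : B ⟶ B') (hq : Function.Surjective q)
    (hk : RingHom.ker q.toAlgHom = relSq B) (D : PtDer B) : ∃ D' : PtDer B', ∀ b, D'.toFun (q b) = D.toFun b := by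
  choose sec hsec using hq
  have key : ∀ b b' : B, q.toAlgHom b' = q.toAlgHom b → D.toFun b' = D.toFun b := fun b b' h => by
    rw [← sub_eq_zero, ← D.map_sub]
    refine D.vanish (hk ▸ ?_)
    rw [RingHom.mem_ker, _root_.map_sub, sub_eq_zero]; exact h
  refine ⟨⟨fun x => D.toFun (sec x), fun a b => ?_, fun a b => ?_, fun r => ?_⟩, fun b => key b _ (hsec _)⟩
  · rw [← D.map_add]
    exact key _ _ ((hsec _).trans ((_root_.map_add q.toAlgHom _ _).trans (congrArg₂ (· + ·) (hsec a) (hsec b))).symm)
  · rw [key (sec a * sec b) _ ((hsec _).trans ((_root_.map_mul q.toAlgHom _ _).trans (congrArg₂ (· * ·) (hsec a) (hsec b))).symm),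
      D.map_mul]
    exact congrArg₂ (fun s t => s * D.toFun (sec b) + t * D.toFun (sec a))
      ((res_app q (sec a)).symm.trans (congrArg B'.res (hsec a)))
      ((res_app q (sec b)).symm.trans (congrArg B'.res (hsec b)))
  · exact (key (algebraMap Λ B r) _ ((hsec _).trans (q.toAlgHom.commutes r).symm)).trans (D.map_alg r)

theorem map_relSq {A B : Art Λ k} (f : B ⟶ A) (hf : Function.Surjective f) :
    (relSq B).map f.toAlgHom = relSq A := by
  have hm : (maximalIdeal B).map f.toAlgHom = maximalIdeal A := le_antisymm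
    (Ideal.map_le_iff_le_comap.2 fun b hb => (Art.mem_maximalIdeal_iff A _).2 ((res_app f b).trans ((Art.mem_maximalIdeal_iff B b).1 hb)))
    (fun a ha => by
      obtain ⟨b, rfl⟩ := hf a
      exact Ideal.mem_map_of_mem _ ((Art.mem_maximalIdeal_iff B b).2 ((res_app f b).symm.trans ((Art.mem_maximalIdeal_iff A _).1 ha))))
  rw [relSq, relSq, Ideal.map_sup, Ideal.map_pow, hm]
  congr 1
  refine (Ideal.map_map _ _).trans ?_
  congr 1
  exact RingHom.ext fun r => f.toAlgHom.commutes r

theorem essential_quot_iff {A B A' B' : Art Λ k} (f : B ⟶ A) (qB : B ⟶ B') (hqB : Function.Surjective qB)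
    (hkB : RingHom.ker qB.toAlgHom = relSq B) (qA : A ⟶ A') (hqA : Function.Surjective qA)
    (hkA : RingHom.ker qA.toAlgHom = relSq A) (f' : B' ⟶ A') (hf' : qB ≫ f' = f ≫ qA) :
    (Function.Surjective f ∧ ∀ (C : Art Λ k) (g : C ⟶ B), Function.Surjective (g ≫ f) → Function.Surjective g) ↔
      (Function.Surjective f' ∧ ∀ (C : Art Λ k) (g : C ⟶ B'), Function.Surjective (g ≫ f') → Function.Surjective g) := by
  have hc : ∀ b : B, f' (qB b) = qA (f b) := fun b => congrArg (fun h : B ⟶ A' => h b) hf'
  have hs : Function.Surjective f ↔ Function.Surjective f' := by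
    constructor
    · intro hf a'
      obtain ⟨a, rfl⟩ := hqA a'
      obtain ⟨b, rfl⟩ := hf a
      exact ⟨qB b, hc b⟩
    · intro hf'
      by_contra hn
      obtain ⟨D, hD, a, ha⟩ := exists_ptDer f hn
      obtain ⟨D', hD'⟩ := PtDer.descend qA hqA hkA D
      obtain ⟨b', hb'⟩ := hf' (qA a)
      obtain ⟨b, rfl⟩ := hqB b'
      exact ha (by rw [← hD', ← hb', hc, hD', hD])
  rw [← hs]
  refine and_congr_right fun hf => ?_
  rw [essential_iff f hf, essential_iff f' (hs.1 hf)]
  constructor
  · intro h D' j' hj'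
    obtain ⟨b, rfl⟩ := hqB j'
    have hfb : f.toAlgHom b ∈ (relSq B).map f.toAlgHom := by
      rw [map_relSq f hf, ← hkA, RingHom.mem_ker]
      exact (hc b).symm.trans hj'
    obtain ⟨c, hc', hcb⟩ := (Ideal.mem_map_iff_of_surjective f.toAlgHom hf).1 hfb
    have h0 := h (D'.comap qB) (b - c) (by
      show f.toAlgHom (b - c) = 0
      rw [_root_.map_sub, hcb, sub_self])
    rwa [PtDer.map_sub, (D'.comap qB).vanish hc', sub_zero] at h0
  · intro h D j hj
    obtain ⟨D', hD'⟩ := PtDer.descend qB hqB hkB D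
    rw [← hD']
    refine h D' (qB j) ((hc j).trans ?_)
    rw [hj]; exact map_zero qA.toAlgHom

section Sep

variable [Algebra.IsSeparable (↥(algebraMap Λ k).range) k]

theorem exists_section (B : Art Λ k) (hB : (RingHom.ker (algebraMap Λ k)).map (algebraMap Λ B) = ⊥)
    (hsq : maximalIdeal B ^ 2 = ⊥) : Nonempty (base Λ k ⟶ B) := by
  let K := ↥(algebraMap Λ k).range
  haveI : Algebra.IsIntegral K k := ⟨fun x => Algebra.IsSeparable.isIntegral K x⟩
  have hF : IsField K := isField_of_isIntegral_of_isField (R := K) (S := k) Subtype.val_injective (Field.toIsField k)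
  letI : Field K := hF.toField
  haveI : Algebra.FormallyEtale K k := Algebra.FormallyEtale.of_isSeparable K k
  let e : Λ ⧸ RingHom.ker (algebraMap Λ k) ≃+* K := RingHom.quotientKerEquivRange (algebraMap Λ k)
  let φ : K →+* B := (Ideal.Quotient.lift (RingHom.ker (algebraMap Λ k)) (algebraMap Λ B) fun r hr => by
    have := Ideal.mem_map_of_mem (algebraMap Λ B) hr
    rwa [hB, Ideal.mem_bot] at this).comp e.symm.toRingHom
  have hφ : ∀ r : Λ, φ ⟨algebraMap Λ k r, r, rfl⟩ = algebraMap Λ B r := fun r => by
    have he : e.symm ⟨algebraMap Λ k r, r, rfl⟩ = Ideal.Quotient.mk _ r :=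
      e.symm_apply_eq.2 (Subtype.ext rfl)
    simp only [φ, RingHom.comp_apply, RingEquiv.toRingHom_eq_coe, RingHom.coe_coe, he, Ideal.Quotient.lift_mk]
  letI : Algebra K B := φ.toAlgebra
  let g : B →ₐ[K] k := { B.res.toRingHom with
    commutes' := fun x => by
      obtain ⟨_, r, rfl⟩ := x
      show B.res (φ _) = algebraMap Λ k r
      rw [hφ r, B.res.commutes] }
  have hker : IsNilpotent (RingHom.ker (g : B →+* k)) := ⟨2, by
    rw [show RingHom.ker (g : B →+* k) = maximalIdeal B from Ideal.ext fun x => (Art.mem_maximalIdeal_iff B x).symm, hsq]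
    rfl⟩
  let s := Algebra.FormallySmooth.liftOfSurjective (AlgHom.id K k) g B.res_surjective hker
  exact ⟨⟨{ s.toRingHom with commutes' := fun r => (s.commutes ⟨algebraMap Λ k r, r, rfl⟩).trans (hφ r) },
    AlgHom.ext fun x => Algebra.FormallySmooth.liftOfSurjective_apply (AlgHom.id K k) g B.res_surjective hker x⟩⟩

theorem exists_ptDer_of_not_mem (B : Art Λ k) {x : B} (hx : x ∈ maximalIdeal B) (hxr : x ∉ relSq B) :
    ∃ D : PtDer B, D.toFun x ≠ 0 := by
  let E := quot B (relSq B) (relSq_le B)
  let q : B ⟶ E := quotMk B _ _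
  have hE : maximalIdeal E ^ 2 = ⊥ := by
    rw [eq_bot_iff, pow_two, Ideal.mul_le]
    intro a ha b hb
    obtain ⟨a, rfl⟩ := quotMk_surjective B _ (relSq_le B) a
    obtain ⟨b, rfl⟩ := quotMk_surjective B _ (relSq_le B) b
    rw [Ideal.mem_bot]
    refine (map_mul q.toAlgHom a b).symm.trans (Ideal.Quotient.eq_zero_iff_mem.2 (Submodule.mem_sup_right ?_))
    rw [pow_two]
    exact Ideal.mul_mem_mul ((Art.mem_maximalIdeal_iff B a).2 ((res_app q a).symm.trans ((Art.mem_maximalIdeal_iff E _).1 ha)))
      ((Art.mem_maximalIdeal_iff B b).2 ((res_app q b).symm.trans ((Art.mem_maximalIdeal_iff E _).1 hb)))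
  have hEk : (RingHom.ker (algebraMap Λ k)).map (algebraMap Λ E) = ⊥ := by
    rw [eq_bot_iff, Ideal.map_le_iff_le_comap]
    intro r hr
    rw [Ideal.mem_comap, Ideal.mem_bot]
    exact (q.toAlgHom.commutes r).symm.trans
      (Ideal.Quotient.eq_zero_iff_mem.2 (Submodule.mem_sup_left (Ideal.mem_map_of_mem _ hr)))
  obtain ⟨σ⟩ := exists_section E hEk hE
  obtain ⟨δ, hδ⟩ := exists_toDual_section hE σ (t := q x)
    ((Art.mem_maximalIdeal_iff E _).2 ((res_app q x).trans ((Art.mem_maximalIdeal_iff B x).1 hx)))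
    (fun h => hxr (Ideal.Quotient.eq_zero_iff_mem.1 h))
  let w : B →ₐ[Λ] DualNumber k := δ.toAlgHom.comp q.toAlgHom
  have hw : ∀ a, TrivSqZeroExt.fst (w a) = B.res a := fun a => res_app (q ≫ δ) a
  refine ⟨⟨fun b => TrivSqZeroExt.snd (w b),
    fun a b => by rw [map_add, TrivSqZeroExt.snd_add],
    fun a b => by rw [map_mul, TrivSqZeroExt.snd_mul, hw, hw, op_smul_eq_smul, smul_eq_mul, smul_eq_mul],
    fun r => by rw [AlgHom.commutes, TrivSqZeroExt.algebraMap_eq_inl', TrivSqZeroExt.snd_inl]⟩, ?_⟩
  intro h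
  exact one_ne_zero (hδ.symm.trans h)

theorem ptDer_zero_of_maximal (B : Art Λ k) (D : PtDer B) (h : ∀ x ∈ maximalIdeal B, D.toFun x = 0) :
    ∀ x, D.toFun x = 0 := by
  let K := ↥(algebraMap Λ k).range
  haveI : Algebra.IsIntegral K k := ⟨fun x => Algebra.IsSeparable.isIntegral K x⟩
  have hF : IsField K := isField_of_isIntegral_of_isField (R := K) (S := k) Subtype.val_injective (Field.toIsField k)
  letI : Field K := hF.toField
  haveI : Algebra.FormallyEtale K k := Algebra.FormallyEtale.of_isSeparable K k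
  choose sec hsec using B.res_surjective
  have key : ∀ b b' : B, B.res b' = B.res b → D.toFun b' = D.toFun b := fun b b' hb => by
    rw [← sub_eq_zero, ← D.map_sub]
    exact h _ ((Art.mem_maximalIdeal_iff B _).2 (by rw [_root_.map_sub, hb, sub_self]))
  let d : Derivation K k k := Derivation.mk'
    { toFun := fun a => D.toFun (sec a)
      map_add' := fun a b => by
        rw [key (sec a + sec b) _ (by rw [_root_.map_add, hsec, hsec, hsec]), D.map_add]
      map_smul' := fun c a => by
        obtain ⟨_, r, rfl⟩ := c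
        show D.toFun (sec (algebraMap Λ k r * a)) = algebraMap Λ k r * D.toFun (sec a)
        rw [key (algebraMap Λ B r * sec a) _ (by rw [_root_.map_mul, B.res.commutes, hsec, hsec]), D.map_mul, D.map_alg,
          B.res.commutes, mul_zero, add_zero] }
    (fun a b => by
      show D.toFun (sec (a * b)) = a * D.toFun (sec b) + b * D.toFun (sec a)
      rw [key (sec a * sec b) _ (by rw [_root_.map_mul, hsec, hsec, hsec]), D.map_mul, hsec, hsec])
  haveI : Subsingleton Ω[k⁄K] := inferInstance
  have hd : d = 0 := (KaehlerDifferential.linearMapEquivDerivation K k).symm.injective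
    (LinearMap.ext fun z => by rw [Subsingleton.elim z 0, map_zero, map_zero])
  intro x
  rw [key (sec (B.res x)) x (hsec _).symm]
  exact congrArg (fun t : Derivation K k k => t (B.res x)) hd

theorem essential_iff_cotangent {A B : Art Λ k} (f : B ⟶ A) :
    (Function.Surjective f ∧ ∀ (C : Art Λ k) (g : C ⟶ B), Function.Surjective (g ≫ f) → Function.Surjective g) ↔
      ((RingHom.ker (algebraMap Λ k)).map (algebraMap Λ A) ⊔ (maximalIdeal B).map f.toAlgHom ⊔ maximalIdeal A ^ 2 = maximalIdeal A ∧
        ∀ b ∈ maximalIdeal B, f b ∈ relSq A → b ∈ relSq B) := by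
  constructor
  · rintro ⟨hf, hess⟩
    refine ⟨le_antisymm (sup_le (sup_le (le_trans le_sup_left (relSq_le A))
      (Ideal.map_le_iff_le_comap.2 fun b hb => (Art.mem_maximalIdeal_iff A _).2 ((res_app f b).trans ((Art.mem_maximalIdeal_iff B b).1 hb))))
      (Ideal.pow_le_self two_ne_zero)) fun a ha => ?_, fun b hb hfb => ?_⟩
    · obtain ⟨b, rfl⟩ := hf a
      exact Submodule.mem_sup_left (Submodule.mem_sup_right (Ideal.mem_map_of_mem _
        ((Art.mem_maximalIdeal_iff B b).2 ((res_app f b).symm.trans ((Art.mem_maximalIdeal_iff A _).1 ha)))))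
    · by_contra hn
      rw [← map_relSq f hf] at hfb
      obtain ⟨c, hc, hcb⟩ := (Ideal.mem_map_iff_of_surjective f.toAlgHom hf).1 hfb
      obtain ⟨D, hD⟩ := exists_ptDer_of_not_mem B hb hn
      have h0 := (essential_iff f hf).1 hess D (b - c) (by
        show f.toAlgHom (b - c) = 0
        rw [_root_.map_sub, hcb, sub_self])
      rw [D.map_sub, D.vanish hc, sub_zero] at h0
      exact hD h0
  · rintro ⟨h1, h2⟩
    have hf : Function.Surjective f := by
      by_contra hn
      obtain ⟨D, hD, a, ha⟩ := exists_ptDer f hn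
      refine ha (ptDer_zero_of_maximal A D (fun x hx => ?_) a)
      rw [← h1] at hx
      obtain ⟨y, hy, z, hz, rfl⟩ := Submodule.mem_sup.1 hx
      obtain ⟨u, hu, w, hw, rfl⟩ := Submodule.mem_sup.1 hy
      have hwz : D.toFun w = 0 := by
        refine Submodule.span_induction ?_ D.map_zero (fun p q _ _ hp hq => by rw [D.map_add, hp, hq, add_zero])
          (fun c p hp' hp => ?_) hw
        · rintro _ ⟨b, -, rfl⟩
          exact hD b
        · have hres : A.res p = 0 := (Art.mem_maximalIdeal_iff A p).1
            ((Ideal.map_le_iff_le_comap (f := f.toAlgHom) (I := maximalIdeal B) (K := maximalIdeal A)).2 (fun b hb => (Art.mem_maximalIdeal_iff A _).2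
              ((res_app f b).trans ((Art.mem_maximalIdeal_iff B b).1 hb))) hp')
          rw [smul_eq_mul, D.map_mul, hp, hres, mul_zero, zero_mul, add_zero]
      rw [D.map_add, D.map_add, D.vanish (Submodule.mem_sup_left hu), hwz, D.vanish (Submodule.mem_sup_right hz),
        add_zero, add_zero]
    refine ⟨hf, (essential_iff f hf).2 fun D j hj => ?_⟩
    refine D.vanish (h2 j ((Art.mem_maximalIdeal_iff B j).2 ((res_app f j).symm.trans ?_)) ?_)
    · rw [hj]; exact map_zero A.res
    · rw [hj]; exact zero_mem _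

end Sep

end Groth.Agent.H9Art
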