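import Groth.Agent.Lib.H9ArtVersal

/-!
Existence of versal families and of hulls.
-/

set_option backward.isDefEq.respectTransparency false
set_option backward.isDefEq.respectTransparency.types false
set_option linter.deprecated false
set_option linter.unusedTactic false

universe u v

open CategoryTheory

namespace Groth.Agent.H9Art

open ArtFun ArtFun.Art IsLocalRing

variable {Λ : Type u} {k : Type u} [CommRing Λ] [Field k] [Algebra Λ k]

lemma eLin_inl {ι : Type} [Fintype ι] (v : ι → k) (x : eArt Λ k ι) :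
    eLin v x = ((x.fst, ∑ i, x.snd i * v i) : TrivSqZeroExt k k) :=
  TrivSqZeroExt.ext rfl (eLin_snd v x)

variable [IsNoetherianRing Λ]

section Eps

variable {m d : ℕ} {e : Fin m → k} (he : ∀ a : k, ∃ l : Fin m → Λ, ∑ i, l i • e i = a)
  (Q : FreeCRing (Λ := Λ) (Fin m ⊕ Fin d) (Sum.elim e 0))

omit [IsNoetherianRing Λ] in
include he in
lemma exists_eps : ∃ ε : HomSet Q.ring.carrier Q.ring.res (eArt Λ k (Fin d)),
    (∀ i, ε.1 (Q.X (Sum.inl i)) = TrivSqZeroExt.inl (e i)) ∧
    (∀ j, ε.1 (Q.X (Sum.inr j)) = TrivSqZeroExt.inr (Pi.single j 1)) ∧ Function.Surjective ε.1 := by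
  obtain ⟨ε, hε⟩ := Q.hom_exists (eArt Λ k (Fin d))
    (Sum.elim (fun i => (TrivSqZeroExt.inl (e i) : TrivSqZeroExt k (Fin d → k)))
      (fun j => TrivSqZeroExt.inr (Pi.single j 1))) (fun i => by cases i <;> rfl)
  refine ⟨ε, fun i => hε (Sum.inl i), fun j => hε (Sum.inr j), ?_⟩
  have hinl : ∀ a : k, ∃ p, ε.1 p = TrivSqZeroExt.inl a := fun a => by
    obtain ⟨l, rfl⟩ := he a
    refine ⟨∑ i, l i • Q.X (Sum.inl i), ?_⟩
    rw [map_sum]
    refine TrivSqZeroExt.ext ?_ ?_
    · change (TrivSqZeroExt.fstHom Λ k (Fin d → k)) (∑ i, ε.1 (l i • Q.X (Sum.inl i))) = _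
      rw [map_sum, TrivSqZeroExt.fst_inl]
      refine Finset.sum_congr rfl fun i _ => ?_
      rw [map_smul, map_smul, hε]
      rfl
    · rw [TrivSqZeroExt.snd_inl]
      refine Finset.sum_induction _ (fun x : TrivSqZeroExt k (Fin d → k) => x.snd = 0)
        (fun x y hx hy => by rw [TrivSqZeroExt.snd_add, hx, hy, add_zero]) TrivSqZeroExt.snd_zero fun i _ => ?_
      rw [map_smul, hε]
      exact smul_zero (l i)
  intro x
  obtain ⟨p, hp⟩ := hinl (TrivSqZeroExt.fst x)
  choose q hq using fun j => hinl (TrivSqZeroExt.snd x j)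
  refine ⟨p + ∑ j, q j * Q.X (Sum.inr j), ?_⟩
  rw [map_add, map_sum, hp]
  simp only [map_mul, hq, hε, Sum.elim_inr]
  refine (congrArg (fun t => (TrivSqZeroExt.inl (TrivSqZeroExt.fst x) : TrivSqZeroExt k (Fin d → k)) + t)
    (Finset.sum_congr (g := fun j => (TrivSqZeroExt.inr (TrivSqZeroExt.snd x j • (Pi.single j 1 : Fin d → k)) : TrivSqZeroExt k (Fin d → k)))
      rfl fun j _ => TrivSqZeroExt.inl_mul_inr (TrivSqZeroExt.snd x j) (Pi.single j 1 : Fin d → k))).trans ?_
  rw [← TrivSqZeroExt.inr_sum]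
  refine TrivSqZeroExt.ext ?_ ?_
  · rw [TrivSqZeroExt.fst_add, TrivSqZeroExt.fst_inl, TrivSqZeroExt.fst_inr, add_zero]
  · rw [TrivSqZeroExt.snd_add, TrivSqZeroExt.snd_inl, TrivSqZeroExt.snd_inr, zero_add]
    funext i
    simp [Finset.sum_apply, Pi.single_apply]

end Eps

variable [Module.Finite Λ k]

theorem hasVersal_of_conditions {F : Art Λ k ⥤ Type v} [TangentStr F] (h0 : H0 F) (h1 : S1 F)
    (h2 : Heps F) (h3 : Hfin F) : HasVersal F := by
  obtain ⟨m, e, he⟩ := exists_generators Λ k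
  obtain ⟨Q⟩ := nonempty_freeCRing_sum (Λ := Λ) (d := Module.finrank k (TangentSpace F)) e he
  obtain ⟨d, ε, s, f, -, -, -, hb⟩ := exists_stage h0 h2 h3 Q.ring fun d hd => by
    subst hd
    obtain ⟨ε, -, -, hs⟩ := exists_eps he Q
    exact ⟨ε, hs⟩
  obtain ⟨R, q, hq, ξ, π₀, hqs, hξ, -, -⟩ := exists_versal_quotient Q.isSmoothFunctor h0 h1 h2 s fun θ => by
    obtain ⟨v, hv⟩ := hb.2 (TangentSpace.mk θ)
    exact ⟨f ≫ eLin v, (FunctorToTypes.map_comp_apply F f (eLin v) s.elt).trans hv⟩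
  exact ⟨⟨R, ξ, hξ⟩⟩

/-- A smooth quotient of a free ring whose tangent vectors are linear forms in the parameters, when `k` has
no derivation over `Λ`. -/
lemma exists_minimal_smooth (hk : Subsingleton (Derivation Λ k k)) (d : ℕ) :
    ∃ (P : CRing Λ k) (ε : HomSet P.carrier P.res (eArt Λ k (Fin d))), IsSmoothFunctor (hR P.carrier P.res) ∧
      Function.Surjective ε.1 ∧
      ∀ φ : HomSet P.carrier P.res (dual Λ k), ∃ v, φ = HomSet.map (eLin v) ε := by
  obtain ⟨m, e, he⟩ := exists_generators Λ k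
  obtain ⟨Q⟩ := nonempty_freeCRing_sum (Λ := Λ) (d := d) e he
  let c : Fin m ⊕ Fin d → k := Sum.elim e 0
  -- the gradient
  obtain ⟨δ, hδ⟩ := Q.hom_exists (eArt Λ k (Fin m ⊕ Fin d))
    (fun i => ((c i, Pi.single i 1) : TrivSqZeroExt k (Fin m ⊕ Fin d → k))) (fun i => rfl)
  have hδfst : ∀ p, TrivSqZeroExt.fst (δ.1 p) = Q.ring.res p := fun p =>
    congrArg (fun t : Q.ring.carrier →ₐ[Λ] k => t p) δ.2
  let G : Q.ring.carrier → (Fin m ⊕ Fin d → k) := fun p => TrivSqZeroExt.snd (δ.1 p)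
  have hGmul : ∀ a b, G (a * b) = Q.ring.res a • G b + Q.ring.res b • G a := fun a b => by
    simp only [G, map_mul]
    refine (TrivSqZeroExt.snd_mul (δ.1 a) (δ.1 b)).trans ?_
    rw [op_smul_eq_smul, hδfst, hδfst]
  have hGadd : ∀ a b, G (a + b) = G a + G b := fun a b => by
    simp only [G, map_add]; rfl
  let W : Submodule k (Fin m ⊕ Fin d → k) :=
    { carrier := {w | ∃ p ∈ maximalIdeal Q.ring.carrier, G p = w}
      add_mem' := fun {x y} hx hy => by
        obtain ⟨p, hp, rfl⟩ := hx; obtain ⟨q, hq, rfl⟩ := hy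
        exact ⟨p + q, add_mem hp hq, hGadd p q⟩
      zero_mem' := ⟨0, zero_mem _, by simp [G]⟩
      smul_mem' := fun a x hx => by
        obtain ⟨p, hp, rfl⟩ := hx
        obtain ⟨b, rfl⟩ := Q.ring.res_surjective a
        exact ⟨b * p, Ideal.mul_mem_left _ _ hp, by
          rw [hGmul, (CRing.mem_maximalIdeal_iff _ p).1 hp, zero_smul, add_zero]⟩ }
  have hW : ∀ w, w ∈ W := by
    intro w
    by_contra hw
    obtain ⟨l, hlw, hlW⟩ := Submodule.exists_dual_map_eq_bot_of_notMem hw inferInstance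
    have hlW' : ∀ p ∈ maximalIdeal Q.ring.carrier, l (G p) = 0 := fun p hp => by
      have : l (G p) ∈ Submodule.map l W := ⟨G p, ⟨p, hp, rfl⟩, rfl⟩
      rwa [hlW, Submodule.mem_bot] at this
    have hlY : ∀ j, l (Pi.single (Sum.inr j) 1) = 0 := fun j => by
      have h := hlW' (Q.X (Sum.inr j)) ((CRing.mem_maximalIdeal_iff _ _).2 (Q.res_X (Sum.inr j)))
      simp only [G] at h
      rw [hδ] at h
      exact h
    choose sec hsec using Q.ring.res_surjective
    have hindep : ∀ p, l (G p) = l (G (sec (Q.ring.res p))) := fun p => by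
      have h := hlW' (p - sec (Q.ring.res p)) ((CRing.mem_maximalIdeal_iff _ _).2 (by rw [map_sub, hsec, sub_self]))
      have h' := hGadd (p - sec (Q.ring.res p)) (sec (Q.ring.res p))
      rw [sub_add_cancel] at h'
      rw [h', map_add, h, zero_add]
    let L : k →ₗ[Λ] k :=
      { toFun := fun a => l (G (sec a))
        map_add' := fun a b => by
          have h := hindep (sec a + sec b)
          rw [map_add Q.ring.res, hsec, hsec, hGadd, map_add] at h
          exact h.symm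
        map_smul' := fun r a => by
          have h := hindep (r • sec a)
          rw [map_smul Q.ring.res, hsec] at h
          refine h.symm.trans ?_
          simp only [G, map_smul, RingHom.id_apply]
          change l (r • TrivSqZeroExt.snd (δ.1 (sec a))) = _
          rw [← algebraMap_smul k r, map_smul, algebraMap_smul] }
    let D : Derivation Λ k k := Derivation.mk' L (fun a b => by
      have h := hindep (sec a * sec b)
      rw [map_mul Q.ring.res, hsec, hsec, hGmul, map_add, map_smul, map_smul, hsec, hsec] at h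
      exact h.symm)
    have hlX : ∀ i, l (Pi.single (Sum.inl i) 1) = 0 := fun i => by
      have h := hindep (Q.X (Sum.inl i))
      rw [Q.res_X] at h
      simp only [G] at h
      rw [hδ] at h
      exact h.trans (DFunLike.congr_fun (Subsingleton.elim D 0) (e i))
    refine hlw ?_
    have : l = 0 := (Pi.basisFun k _).ext fun i => by
      rw [Pi.basisFun_apply, LinearMap.zero_apply]
      cases i
      · exact hlX _
      · exact hlY _
    rw [this]; rfl
  choose g hgm hG using fun i : Fin m => hW (Pi.single (Sum.inl i) 1)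
  have hJ : Ideal.span (Set.range g) ≤ maximalIdeal Q.ring.carrier :=
    Ideal.span_le.2 (Set.range_subset_iff.2 hgm)
  let P := quotCRing Q.ring (Ideal.span (Set.range g)) hJ
  let q := quotCMk Q.ring (Ideal.span (Set.range g)) hJ
  have hqs : Function.Surjective q := quotCMk_surjective _ _ hJ
  have hqg : ∀ i, q (g i) = 0 := fun i => Ideal.Quotient.eq_zero_iff_mem.2 (Ideal.subset_span ⟨i, rfl⟩)
  have descend : ∀ (X : Art Λ k) (φ : HomSet Q.ring.carrier Q.ring.res X), (∀ i, φ.1 (g i) = 0) →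
      ∃ ψ : HomSet P.carrier P.res X, ∀ p, ψ.1 (q p) = φ.1 p := fun X φ hφ => by
    have hle : ∀ p ∈ Ideal.span (Set.range g), φ.1 p = 0 := fun p hp =>
      RingHom.mem_ker.1 ((Ideal.span_le.2 (Set.range_subset_iff.2 fun i => RingHom.mem_ker.2 (hφ i)) :
        Ideal.span (Set.range g) ≤ RingHom.ker φ.1) hp)
    refine ⟨⟨Ideal.Quotient.liftₐ _ φ.1 hle, AlgHom.ext fun x => ?_⟩, fun _ => rfl⟩
    obtain ⟨p, rfl⟩ := hqs x
    exact congrArg (fun t : Q.ring.carrier →ₐ[Λ] k => t p) φ.2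
  -- linear forms on the gradient give tangent vectors
  have htan : ∀ φ : HomSet Q.ring.carrier Q.ring.res (dual Λ k),
      φ = HomSet.map (eLin (fun i => TrivSqZeroExt.snd (φ.1 (Q.X i)))) δ := fun φ =>
    Q.hom_ext _ _ _ fun i => by
      change φ.1 (Q.X i) = eLin _ (δ.1 (Q.X i))
      rw [hδ, eLin_inl]
      refine TrivSqZeroExt.ext ((congrArg (fun t : Q.ring.carrier →ₐ[Λ] k => t (Q.X i)) φ.2).trans (Q.res_X i)) ?_
      change _ = ∑ j, (Pi.single i 1 : _ → k) j * _
      rw [Finset.sum_eq_single i (fun j _ hj => by simp [hj]) (by simp), Pi.single_eq_same, one_mul]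
  have hgrad : ∀ (φ : HomSet Q.ring.carrier Q.ring.res (dual Λ k)) (i : Fin m),
      TrivSqZeroExt.snd (φ.1 (g i)) = TrivSqZeroExt.snd (φ.1 (Q.X (Sum.inl i))) := fun φ i => by
    conv_lhs => rw [htan φ]
    change TrivSqZeroExt.snd (eLin _ (δ.1 (g i))) = _
    rw [eLin_snd, show TrivSqZeroExt.snd (δ.1 (g i)) = Pi.single (Sum.inl i) 1 from hG i,
      Finset.sum_eq_single (Sum.inl i) (fun j _ hj => by simp [hj]) (by simp), Pi.single_eq_same, one_mul]
  obtain ⟨ε₀, hεl, hεr, hεs⟩ := exists_eps he Q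
  have hεg : ∀ i, ε₀.1 (g i) = 0 := fun i => by
    refine TrivSqZeroExt.ext ?_ (funext fun j => ?_)
    · exact (congrArg (fun t : Q.ring.carrier →ₐ[Λ] k => t (g i)) ε₀.2).trans ((CRing.mem_maximalIdeal_iff _ _).1 (hgm i))
    · have h := hgrad (HomSet.map (eLin (Pi.single j 1)) ε₀) i
      change TrivSqZeroExt.snd (eLin (Pi.single j 1) (ε₀.1 (g i))) = TrivSqZeroExt.snd (eLin (Pi.single j 1) (ε₀.1 (Q.X (Sum.inl i)))) at h
      rw [eLin_snd, eLin_snd, hεl, Finset.sum_eq_single j (fun b _ hb => by simp [hb]) (by simp),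
        Finset.sum_eq_single j (fun b _ hb => by simp [hb]) (by simp), Pi.single_eq_same, mul_one, mul_one] at h
      exact h
  obtain ⟨ε, hε⟩ := descend _ ε₀ hεg
  refine ⟨P, ε, ?_, fun x => ?_, fun φ => ?_⟩
  · -- smoothness: correct the images of the relations by a tangent vector
    intro B A μ hμ
    refine surjective_induction (P := fun A B μ => Function.Surjective ((hR P.carrier P.res).map μ)) ?_ ?_ ?_ μ hμ
    · intro A B e he
      exact (map_bij_of_isIso _ e).2
    · intro A B μ hμ φ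
      let φQ : HomSet Q.ring.carrier Q.ring.res A := ⟨φ.1.comp q, by
        rw [← AlgHom.comp_assoc, φ.2, quotCMk_res]⟩
      obtain ⟨ψ, hψ⟩ := Q.isSmoothFunctor μ hμ.1 φQ
      obtain ⟨t, ht0, htp, htm, hgen⟩ := exists_smallExt_generator hμ
      have hψg : ∀ i, ∃ a : B, ψ.1 (g i) = a * t := fun i => hgen _ (by
        refine (congrArg (fun u : HomSet Q.ring.carrier Q.ring.res A => u.1 (g i)) hψ).trans ?_
        change φ.1 (q (g i)) = 0
        rw [hqg, map_zero])
      choose a ha using hψg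
      obtain ⟨D, q₁, q₂, hD⟩ := exists_fibreProd μ μ hμ.1
      obtain ⟨dl, hdl, hdlv⟩ := exists_delta hD ht0 htp htm hgen
      let v : Fin m ⊕ Fin d → k := Sum.elim (fun i => -B.res (a i)) 0
      obtain ⟨ν, hν⟩ : ∃ ν : HomSet Q.ring.carrier Q.ring.res (dual Λ k), ∀ i, ν.1 (Q.X i) = ((c i, v i) : TrivSqZeroExt k k) :=
        Q.hom_exists (dual Λ k) (fun i => ((c i, v i) : TrivSqZeroExt k k)) (fun i => rfl)
      obtain ⟨w, hw₁, hw₂⟩ := exists_liftHomSet hdl ψ ν (Subsingleton.elim _ _)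
      have hw₁' : ∀ p, q₁.toAlgHom (w.1 p) = ψ.1 p := fun p =>
        congrArg (fun u : HomSet Q.ring.carrier Q.ring.res B => u.1 p) hw₁
      have hψ'g : ∀ i, q₂.toAlgHom (w.1 (g i)) = 0 := fun i => by
        obtain ⟨cc, hcc⟩ := hgen (q₂.toAlgHom (w.1 (g i)) - q₁.toAlgHom (w.1 (g i)))
          (by rw [map_sub]; exact sub_eq_zero.2 (hD.w_apply _).symm)
        have h1 : TrivSqZeroExt.snd (ν.1 (g i)) = B.res cc := by
          rw [← hdlv (w.1 (g i)) cc hcc]
          exact (congrArg (fun u : HomSet Q.ring.carrier Q.ring.res (dual Λ k) => TrivSqZeroExt.snd (u.1 (g i))) hw₂).symm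
        have h2 : B.res cc = -B.res (a i) := by rw [← h1, hgrad, hν]; rfl
        have h3 : (cc + a i) * t = 0 := htm _ ((Art.mem_maximalIdeal_iff B _).2 (by rw [map_add, h2, neg_add_cancel]))
        rw [hw₁', ha] at hcc
        linear_combination hcc + h3
      obtain ⟨χ, hχ⟩ := descend B (HomSet.map q₂ w) hψ'g
      refine ⟨χ, Subtype.ext (AlgHom.ext fun x => ?_)⟩
      obtain ⟨p, rfl⟩ := hqs x
      change μ.toAlgHom (χ.1 (q p)) = φ.1 (q p)
      rw [hχ]
      change μ.toAlgHom (q₂.toAlgHom (w.1 p)) = _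
      refine (hD.w_apply (w.1 p)).symm.trans ?_
      change μ.toAlgHom (q₁.toAlgHom (w.1 p)) = _
      rw [hw₁']
      exact congrArg (fun u : HomSet Q.ring.carrier Q.ring.res A => u.1 p) hψ
    · intro A B C p r _ _ hp hr z
      obtain ⟨y, rfl⟩ := hr z
      obtain ⟨x, rfl⟩ := hp y
      exact ⟨x, FunctorToTypes.map_comp_apply _ p r x⟩
  · obtain ⟨p, rfl⟩ := hεs x
    exact ⟨q p, hε p⟩
  · let φQ : HomSet Q.ring.carrier Q.ring.res (dual Λ k) := ⟨φ.1.comp q, by
      rw [← AlgHom.comp_assoc, φ.2, quotCMk_res]⟩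
    refine ⟨fun j => TrivSqZeroExt.snd (φQ.1 (Q.X (Sum.inr j))), Subtype.ext (AlgHom.ext fun x => ?_)⟩
    obtain ⟨p, rfl⟩ := hqs x
    change φQ.1 p = eLin _ (ε.1 (q p))
    rw [hε]
    refine congrArg (fun u : HomSet Q.ring.carrier Q.ring.res (dual Λ k) => u.1 p)
      (Q.hom_ext _ φQ (HomSet.map (eLin _) ε₀) fun i => ?_)
    change φQ.1 (Q.X i) = eLin _ (ε₀.1 (Q.X i))
    rw [eLin_inl]
    refine TrivSqZeroExt.ext ?_ ?_
    · refine ((congrArg (fun t : Q.ring.carrier →ₐ[Λ] k => t (Q.X i)) φQ.2).trans (Q.res_X i)).trans ?_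
      cases i
      · rw [hεl]; rfl
      · rw [hεr]; rfl
    · cases i with
      | inl i =>
        rw [← hgrad φQ i, hεl]
        change TrivSqZeroExt.snd (φ.1 (q (g i))) = ∑ j : Fin d, (0 : k) * TrivSqZeroExt.snd (φQ.1 (Q.X (Sum.inr j)))
        rw [hqg, map_zero]
        simp only [zero_mul, Finset.sum_const_zero]
        rfl
      | inr j =>
        rw [hεr]
        change _ = ∑ b, (Pi.single j 1 : _ → k) b * _
        rw [Finset.sum_eq_single j (fun b _ hb => by simp [hb]) (by simp), Pi.single_eq_same, one_mul]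

theorem hasHull_of_conditions {F : Art Λ k ⥤ Type v} [TangentStr F] (hk : Subsingleton (Derivation Λ k k))
    (h0 : H0 F) (h1 : S1 F) (h2 : Heps F) (h3 : Hfin F) : HasHull F := by
  obtain ⟨P, ε₀, hP, hε₀, hdet⟩ := exists_minimal_smooth (Λ := Λ) (k := k) hk (Module.finrank k (TangentSpace F))
  obtain ⟨d, ε, s, f, hd, hεs, hfε, hb⟩ := exists_stage h0 h2 h3 P fun d hd => by
    subst hd; exact ⟨ε₀, hε₀⟩
  subst hd
  -- tangent vectors of `P` factor through `ε`
  have hdet' : ∀ φ : HomSet P.carrier P.res (dual Λ k), ∃ v, φ = HomSet.map (eLin v) ε := by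
    intro φ
    obtain ⟨v, rfl⟩ := hdet φ
    have hM : ∀ j, ∃ w, HomSet.map (eLin (Pi.single j 1)) ε = HomSet.map (eLin w) ε₀ := fun j => hdet _
    choose M hM using hM
    let L : (Fin (Module.finrank k (TangentSpace F)) → k) →ₗ[k] (Fin (Module.finrank k (TangentSpace F)) → k) := Fintype.linearCombination k M
    have hL : ∀ u, HomSet.map (eLin u) ε = HomSet.map (eLin (L u)) ε₀ := fun u => by
      refine Subtype.ext (AlgHom.ext fun p => TrivSqZeroExt.ext ?_ ?_)
      · exact (congrArg (fun t : P.carrier →ₐ[Λ] k => t p) (HomSet.map (eLin u) ε).2).trans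
          (congrArg (fun t : P.carrier →ₐ[Λ] k => t p) (HomSet.map (eLin (L u)) ε₀).2).symm
      · have hj : ∀ j, TrivSqZeroExt.snd (ε.1 p) j = ∑ i, TrivSqZeroExt.snd (ε₀.1 p) i * M j i := fun j => by
          have h := congrArg (fun t : HomSet P.carrier P.res (dual Λ k) => TrivSqZeroExt.snd (t.1 p)) (hM j)
          change TrivSqZeroExt.snd (eLin _ (ε.1 p)) = TrivSqZeroExt.snd (eLin _ (ε₀.1 p)) at h
          rw [eLin_snd, eLin_snd, Finset.sum_eq_single j (fun b _ hb => by simp [hb]) (by simp), Pi.single_eq_same, mul_one] at h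
          exact h
        change TrivSqZeroExt.snd (eLin u (ε.1 p)) = TrivSqZeroExt.snd (eLin (L u) (ε₀.1 p))
        rw [eLin_snd, eLin_snd]
        simp only [hj, L, Fintype.linearCombination_apply, Finset.sum_apply, Pi.smul_apply, smul_eq_mul,
          Finset.sum_mul, Finset.mul_sum]
        rw [Finset.sum_comm]
        exact Finset.sum_congr rfl fun i _ => Finset.sum_congr rfl fun j _ => by ring
    have hLinj : Function.Injective L := by
      rw [← LinearMap.ker_eq_bot, LinearMap.ker_eq_bot']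
      intro u hu
      funext j
      obtain ⟨p, hp⟩ := hεs (TrivSqZeroExt.inr (Pi.single j 1))
      have h := congrArg (fun t : HomSet P.carrier P.res (dual Λ k) => TrivSqZeroExt.snd (t.1 p)) (hL u)
      change TrivSqZeroExt.snd (eLin u (ε.1 p)) = TrivSqZeroExt.snd (eLin (L u) (ε₀.1 p)) at h
      rw [eLin_snd, eLin_snd, hp, hu] at h
      simp only [Pi.zero_apply, mul_zero, Finset.sum_const_zero] at h
      refine Eq.trans ?_ h
      change _ = ∑ b, (Pi.single j 1 : _ → k) b * u b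
      rw [Finset.sum_eq_single j (fun b _ hb => by simp [hb]) (by simp), Pi.single_eq_same, one_mul]
    obtain ⟨u, rfl⟩ := LinearMap.surjective_of_injective hLinj v
    exact ⟨u, (hL u).symm⟩
  obtain ⟨R, q, hq, ξ, π₀, hqs, hξ, hπ₀, hξ₀⟩ := exists_versal_quotient hP h0 h1 h2 s fun θ => by
    obtain ⟨v, hv⟩ := hb.2 (TangentSpace.mk θ)
    exact ⟨f ≫ eLin v, (FunctorToTypes.map_comp_apply F f (eLin v) s.elt).trans hv⟩
  have hval : ∀ φ : HomSet R.carrier R.res (dual Λ k), ∃ v, φ = HomSet.map (f ≫ eLin v) π₀ ∧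
      TangentSpace.mk (ξ.app _ φ) = eMap (F.map f s.elt) v := by
    intro φ
    obtain ⟨v, hv⟩ := hdet' ⟨φ.1.comp q, by rw [← AlgHom.comp_assoc, φ.2, hq]⟩
    have e : φ = HomSet.map (f ≫ eLin v) π₀ := Subtype.ext (AlgHom.ext fun x => by
      obtain ⟨p, rfl⟩ := hqs x
      refine (congrArg (fun t : HomSet P.carrier P.res (dual Λ k) => t.1 p) hv).trans ?_
      change eLin v (ε.1 p) = eLin v (f (π₀.1 (q p)))
      rw [hπ₀, ← hfε]
      rfl)
    refine ⟨v, e, ?_⟩
    rw [e, ξ.natural, hξ₀, FunctorToTypes.map_comp_apply]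
    rfl
  refine ⟨⟨R, ξ, hξ, fun φ ψ h => ?_, versal_surjective ξ hξ h0 _⟩⟩
  obtain ⟨v, rfl, hv'⟩ := hval φ
  obtain ⟨w, rfl, hw'⟩ := hval ψ
  rw [h] at hv'
  rw [hb.1 (hv'.symm.trans hw')]

end Groth.Agent.H9Art
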