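import Groth.Agent.Lib.H9ArtSchless
import Groth.Agent.Lib.H9ArtFormal
import Mathlib.RingTheory.Derivation.Basic

/-!
Lifting criteria through tangent spaces, derivations of coefficient rings.
-/

set_option backward.isDefEq.respectTransparency false
set_option backward.isDefEq.respectTransparency.types false
set_option linter.deprecated false
set_option linter.unusedTactic false

universe u v w

open CategoryTheory

namespace Groth.Agent.H9Art

open ArtFun ArtFun.Art IsLocalRing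

variable {Λ : Type u} {k : Type u} [CommRing Λ] [Field k] [Algebra Λ k]

section HR

variable (R : Type u) [CommRing R] [Algebra Λ R] (resR : R →ₐ[Λ] k)

lemma h0_hR : H0 (hR R resR) :=
  ⟨⟨homSetBase⟩, inferInstanceAs (Subsingleton (HomSet R resR (base Λ k)))⟩

lemma bijective_cmp_hR ⦃B A A' A'' : Art Λ k⦄ (p' : B ⟶ A') (p'' : B ⟶ A'') (f' : A' ⟶ A) (f'' : A'' ⟶ A)
    (h : IsFibreProd p' p'' f' f'') : Function.Bijective (cmp (hR R resR) h) :=
  ⟨(cmp_injective_iff h).2 fun z₁ z₂ h₁ h₂ => Subtype.ext (AlgHom.ext fun r => h.inj _ _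
      (congrArg (fun t : HomSet R resR A' => t.1 r) h₁) (congrArg (fun t : HomSet R resR A'' => t.1 r) h₂)),
    (cmp_surjective_iff h).2 fun a b hab => exists_liftHomSet h a b hab⟩

lemma heps_hR : Heps (hR R resR) := fun _ _ p' p'' h => bijective_cmp_hR R resR p' p'' _ _ h

end HR

/-- For a small extension, a lift of `a` exists over prescribed `b` as soon as some lift exists and the
tangent map is surjective. -/
lemma lift_of_tangent {F : Art Λ k ⥤ Type w} {G : Art Λ k ⥤ Type v} (η : ∀ A, F.obj A → G.obj A)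
    (hη : ∀ {A B : Art Λ k} (f : A ⟶ B) (x : F.obj A), η B (F.map f x) = G.map f (η A x))
    (h0 : H0 F) (hF : Heps F) (hG : Heps G) (hG1 : Hbar G) (ht : Function.Surjective (η (dual Λ k)))
    {A B : Art Λ k} (μ : B ⟶ A) (hμ : IsSmallExt μ) (x₀ : F.obj B) (b : G.obj B)
    (hb : G.map μ (η B x₀) = G.map μ b) : ∃ z : F.obj B, F.map μ z = F.map μ x₀ ∧ η B z = b := by
  haveI := h0.2
  obtain ⟨t, ht0, htp, htm, hgen⟩ := exists_smallExt_generator hμ
  obtain ⟨Q, q₁, q₂, hQ⟩ := exists_fibreProd μ μ hμ.1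
  obtain ⟨δ, hδ, -⟩ := exists_delta hQ ht0 htp htm hgen
  obtain ⟨w, hw₁, hw₂⟩ := (cmp_surjective_iff hQ).1 (hG1 q₁ q₂ μ μ hQ hμ) (η B x₀) b hb
  obtain ⟨θ, hθ⟩ := ht (G.map δ w)
  obtain ⟨wF, hwF₁, hwF₂⟩ := (cmp_surjective_iff hδ).1 (hF q₁ δ hδ).2 x₀ θ (Subsingleton.elim _ _)
  have e : η Q wF = w := (cmp_injective_iff hδ).1 (hG q₁ δ hδ).1 _ _
    (by rw [← hη, hwF₁, hw₁]) (by rw [← hη, hwF₂, hθ])
  refine ⟨F.map q₂ wF, ?_, by rw [hη, e, hw₂]⟩
  rw [← FunctorToTypes.map_comp_apply, ← hQ.w, FunctorToTypes.map_comp_apply, hwF₁]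

lemma isSmooth_of_tangent_of_lifts {F G : Art Λ k ⥤ Type v} (f : F ⟶ G) (h0 : H0 F) (hF : Heps F)
    (hG : Heps G) (hG1 : Hbar G) (ht : Function.Surjective (f.app (dual Λ k)))
    (hl : ∀ ⦃B A : Art Λ k⦄ (μ : B ⟶ A), IsSmallExt μ → ∀ x : F.obj A,
      (∃ y : G.obj B, G.map μ y = f.app A x) → ∃ x' : F.obj B, F.map μ x' = x) :
    IsSmooth f := by
  refine isSmooth_of_smallExt f fun B A μ hμ => ?_
  rw [relCmp_surjective_iff]
  intro a b hab
  obtain ⟨x₀, rfl⟩ := hl μ hμ a ⟨b, hab.symm⟩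
  exact lift_of_tangent (fun A => f.app A) (fun g x => NatTrans.naturality_apply f g x) h0 hF hG hG1 ht μ hμ x₀ b
    ((NatTrans.naturality_apply f μ x₀).symm.trans hab)

lemma heps_of_bijective {F : Art Λ k ⥤ Type v}
    (hF : ∀ ⦃B A A' A'' : Art Λ k⦄ (p' : B ⟶ A') (p'' : B ⟶ A'') (f' : A' ⟶ A) (f'' : A'' ⟶ A)
      (h : IsFibreProd p' p'' f' f''), Function.Surjective f'' → Function.Bijective (cmp F h)) :
    Heps F ∧ Hbar F :=
  ⟨fun _ _ p' p'' h => hF p' p'' _ _ h (toBase_surjective _),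
    fun _ _ _ _ p' p'' f' f'' h hf => (hF p' p'' f' f'' h hf.1).2⟩

lemma bijective_of_small_bijective {F : Art Λ k ⥤ Type v}
    (h : ∀ ⦃B A A' A'' : Art Λ k⦄ (p' : B ⟶ A') (p'' : B ⟶ A'') (f' : A' ⟶ A) (f'' : A'' ⟶ A)
      (h : IsFibreProd p' p'' f' f''), IsSmallExt f'' → Function.Bijective (cmp F h))
    ⦃B A A' A'' : Art Λ k⦄ (p' : B ⟶ A') (p'' : B ⟶ A'') (f' : A' ⟶ A) (f'' : A'' ⟶ A)
      (hsq : IsFibreProd p' p'' f' f'') (hf : Function.Surjective f'') : Function.Bijective (cmp F hsq) := by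
  refine ⟨?_, s1_of_hbar (fun _ _ _ _ p' p'' f' f'' hh hs => (h p' p'' f' f'' hh hs).2) p' p'' f' f'' hsq hf⟩
  revert B A' p' p'' f'
  refine surjective_induction (P := fun A A'' f'' => ∀ (B A' : Art Λ k) (p' : B ⟶ A') (p'' : B ⟶ A'')
    (f' : A' ⟶ A) (h : IsFibreProd p' p'' f' f''), Function.Injective (cmp F h)) ?_ ?_ ?_ f'' hf
  · intro A A'' e he B A' p' p'' f' h
    haveI := isIso_of_bij p' (fst_bijective h (bij_of_isIso e))
    exact (cmp_injective_iff h).2 fun z₁ z₂ hz _ => (map_bij_of_isIso F p').1 hz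
  · intro A A'' f'' hf B A' p' p'' f' hsq
    exact (h p' p'' f' f'' hsq hf).1
  · intro A M A'' p q hps hqs ihp ihq B A' p' p'' f' h
    obtain ⟨B₁, q', q'', hB₁⟩ := exists_fibreProd f' q hqs
    obtain ⟨r, hr', hr''⟩ := exists_lift hB₁ p' (p'' ≫ p) (by rw [Category.assoc]; exact h.w)
    have hB : IsFibreProd r p'' q'' p := by
      refine ⟨hr'', fun b₁ b₂ e₁ e₂ => h.inj b₁ b₂ ?_ e₂, fun b c e => ?_⟩
      · rw [← hr']; exact congrArg q'.toAlgHom e₁
      · obtain ⟨x, hx₁, hx₂⟩ := h.surj (q'.toAlgHom b) c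
          ((hB₁.w_apply b).trans (congrArg q.toAlgHom e))
        refine ⟨x, hB₁.inj _ _ ?_ ?_, hx₂⟩
        · exact (congrArg (fun t : B ⟶ A' => t x) hr').trans hx₁
        · exact (congrArg (fun t : B ⟶ M => t x) hr'').trans ((congrArg p.toAlgHom hx₂).trans e.symm)
    rw [cmp_injective_iff]
    intro z₁ z₂ hz' hz''
    refine (cmp_injective_iff hB).1 (ihp _ _ _ _ _ hB) z₁ z₂
      ((cmp_injective_iff hB₁).1 (ihq _ _ _ _ _ hB₁) _ _ ?_ ?_) hz''
    · rw [← FunctorToTypes.map_comp_apply, ← FunctorToTypes.map_comp_apply, hr', hz']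
    · rw [← FunctorToTypes.map_comp_apply, ← FunctorToTypes.map_comp_apply, hr'',
        FunctorToTypes.map_comp_apply, FunctorToTypes.map_comp_apply, hz'']

/-! ### Derivations -/

lemma exists_finite_detecting [Module.Finite Λ k] (R : Type u) [CommRing R] [Algebra Λ R] [IsLocalRing R]
    [IsNoetherianRing R] (res : R →ₐ[Λ] k) (hres : Function.Surjective res) :
    ∃ s : Set R, s.Finite ∧ ∀ D : R → k, (∀ a b, D (a + b) = D a + D b) →
      (∀ (l : Λ) (a : R), D (l • a) = l • D a) → (∀ a b, D (a * b) = res a * D b + res b * D a) →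
      (∀ a ∈ s, D a = 0) → ∀ a, D a = 0 := by
  obtain ⟨G, hG⟩ := (IsNoetherian.noetherian (maximalIdeal R) : (maximalIdeal R).FG)
  obtain ⟨E, hE⟩ := (Module.Finite.fg_top : (⊤ : Submodule Λ k).FG)
  choose sec hsec using hres
  refine ⟨↑G ∪ sec '' ↑E, G.finite_toSet.union (E.finite_toSet.image sec), fun D hadd hsmul hmul hs a => ?_⟩
  have h0 : D 0 = 0 := by have := hsmul 0 0; simpa using this
  have hker : RingHom.ker (res : R →+* k) = maximalIdeal R :=
    eq_maximalIdeal (RingHom.ker_isMaximal_of_surjective _ fun c => ⟨sec c, hsec c⟩)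
  let W : Submodule Λ R := { carrier := {x | D x = 0}, add_mem' := fun {x y} (hx : D x = 0) (hy : D y = 0) => by rw [Set.mem_setOf_eq, hadd, hx, hy, add_zero], zero_mem' := h0, smul_mem' := fun l x (hx : D x = 0) => by rw [Set.mem_setOf_eq, hsmul, hx, smul_zero] }
  have hm : ∀ x ∈ maximalIdeal R, D x = 0 := by
    intro x hx
    rw [← hG] at hx
    induction hx using Submodule.span_induction with
    | mem x hx => exact hs x (Or.inl hx)
    | zero => exact h0
    | add x y _ _ hx hy => rw [hadd, hx, hy, add_zero]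
    | smul c x hx' ih =>
      have hxm : res x = 0 := by
        have : x ∈ RingHom.ker (res : R →+* k) := hker ▸ (hG ▸ hx')
        exact RingHom.mem_ker.1 this
      rw [smul_eq_mul, hmul, ih, hxm, mul_zero, zero_mul, add_zero]
  have htop : (⊤ : Submodule Λ k) ≤ W.map res.toLinearMap := by
    rw [← hE, Submodule.span_le]
    exact fun e he => ⟨sec e, hs _ (Or.inr ⟨e, he, rfl⟩), hsec e⟩
  obtain ⟨w, hw, hwa⟩ := htop (Submodule.mem_top : res a ∈ ⊤)
  have hwm : a - w ∈ maximalIdeal R := by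
    rw [← hker, RingHom.mem_ker]
    change res (a - w) = 0
    rw [map_sub]
    exact sub_eq_zero.2 hwa.symm
  have := hadd (a - w) w
  rw [sub_add_cancel, hm _ hwm, (hw : D w = 0), add_zero] at this
  exact this

lemma snd_hom_rules {R : Type u} [CommRing R] [Algebra Λ R] {res : R →ₐ[Λ] k} (φ : HomSet R res (dual Λ k)) :
    (∀ a b, (φ.1 (a + b)).snd = (φ.1 a).snd + (φ.1 b).snd) ∧
      (∀ (l : Λ) (a : R), (φ.1 (l • a)).snd = l • (φ.1 a).snd) ∧
      (∀ a b, (φ.1 (a * b)).snd = res a * (φ.1 b).snd + res b * (φ.1 a).snd) ∧ ∀ a, (φ.1 a).fst = res a := by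
  have hf : ∀ a, (φ.1 a).fst = res a := fun a => congrArg (fun t : R →ₐ[Λ] k => t a) φ.2
  refine ⟨fun a b => ?_, fun l a => ?_, fun a b => ?_, hf⟩
  · rw [map_add]; rfl
  · rw [map_smul]; rfl
  · rw [map_mul]
    exact (DualNumber.snd_mul (φ.1 a) (φ.1 b)).trans (by rw [hf, hf, mul_comm (φ.1 a).snd])

/-- Injectivity on tangent vectors gives the cotangent condition. -/
lemma cotangent_of_injective_dual (R S : CRing Λ k) (f : R.carrier →ₐ[Λ] S.carrier) (hf : S.res.comp f = R.res)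
    (hinj : ∀ φ : HomSet S.carrier S.res (dual Λ k), (∀ r, (φ.1 (f r)).snd = 0) → ∀ a, (φ.1 a).snd = 0) :
    (maximalIdeal R.carrier).map f ⊔ maximalIdeal S.carrier ^ 2 = maximalIdeal S.carrier := by
  have hfa : ∀ a, S.res (f a) = R.res a := fun a => congrArg (fun t : R.carrier →ₐ[Λ] k => t a) hf
  apply le_antisymm
  · refine sup_le (Ideal.map_le_iff_le_comap.2 fun a ha => ?_) (Ideal.pow_le_self two_ne_zero)
    exact (CRing.mem_maximalIdeal_iff S _).2 ((hfa a).trans ((CRing.mem_maximalIdeal_iff R a).1 ha))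
  intro x hx
  let fE : R.carrier →ₐ[Λ] S.trunc 1 := (S.truncHom 1).1.comp f
  have hsq : maximalIdeal (S.trunc 1) ^ 2 = ⊥ := by
    rw [eq_bot_iff]
    calc maximalIdeal (S.trunc 1) ^ 2
        ≤ ((maximalIdeal S.carrier).map (Ideal.Quotient.mk (S.mpow 1))) ^ 2 :=
          Ideal.pow_right_mono (CRing.maximalIdeal_quot_le S 1) _
      _ = (S.mpow 1).map (Ideal.Quotient.mk (S.mpow 1)) := by rw [← Ideal.map_pow]
      _ = ⊥ := Ideal.map_quotient_self _
  have hfE : Function.Surjective ((S.trunc 1).res.comp fE) := fun c => by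
    obtain ⟨r, hr⟩ := R.res_surjective c
    exact ⟨r, (hfa r).trans hr⟩
  have hrange : ∀ e : S.trunc 1, e ∈ Set.range fE := by
    intro e
    by_contra he
    obtain ⟨g, hg, hge⟩ := exists_toDual hsq fE hfE e he
    obtain ⟨a, rfl⟩ := truncHom_surjective S 1 e
    exact hge (hinj (HomSet.map g (S.truncHom 1)) hg a)
  obtain ⟨r, hr⟩ := hrange ((S.truncHom 1).1 x)
  have hrx : f r - x ∈ maximalIdeal S.carrier ^ 2 := Ideal.Quotient.eq.1 hr
  have hfr : f r ∈ maximalIdeal S.carrier := by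
    have := add_mem ((Ideal.pow_le_self two_ne_zero : _ ≤ maximalIdeal S.carrier) hrx) hx
    rwa [sub_add_cancel] at this
  have hrm : r ∈ maximalIdeal R.carrier :=
    (CRing.mem_maximalIdeal_iff R r).2 ((hfa r).symm.trans ((CRing.mem_maximalIdeal_iff S _).1 hfr))
  have := Ideal.add_mem ((maximalIdeal R.carrier).map f ⊔ maximalIdeal S.carrier ^ 2)
    (Submodule.mem_sup_left (Ideal.mem_map_of_mem f hrm)) (Submodule.mem_sup_right (neg_mem hrx))
  rwa [neg_sub, add_sub_cancel] at this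

lemma injective_of_surjective_endo {R : Type u} [CommRing R] [IsNoetherianRing R] (f : R →+* R)
    (hf : Function.Surjective f) : Function.Injective f := by
  let K : ℕ → Ideal R := fun n => Nat.rec ⊥ (fun _ I => I.comap f) n
  have hK : ∀ n x, x ∈ K n ↔ f^[n] x = 0 := by
    intro n
    induction n with
    | zero => intro x; exact Ideal.mem_bot
    | succ n ih => intro x; rw [Function.iterate_succ_apply]; exact ih (f x)
  have hmono : Monotone K := monotone_nat_of_le_succ fun n x hx => by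
    refine (hK (n + 1) x).2 ?_
    rw [Function.iterate_succ_apply', (hK n x).1 hx, map_zero]
  obtain ⟨N, hN⟩ := monotone_stabilizes_iff_noetherian.2 (inferInstance : IsNoetherian R R) ⟨K, hmono⟩
  rw [injective_iff_map_eq_zero]
  intro x hx
  obtain ⟨y, rfl⟩ := hf.iterate N x
  have h1 : y ∈ K (N + 1) := (hK (N + 1) y).2 (by rw [Function.iterate_succ_apply', hx])
  have h2 : K N = K (N + 1) := hN (N + 1) N.le_succ
  rw [← h2] at h1
  exact (hK N y).1 h1

end Groth.Agent.H9Art
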