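import Groth.Agent.Lib.H9ArtSmooth
import Groth.Agent.Lib.CompleteSemilocal

/-!
Quotients of coefficient rings and limits of surjective systems.
-/

set_option backward.isDefEq.respectTransparency false
set_option backward.isDefEq.respectTransparency.types false
set_option linter.deprecated false
set_option linter.unusedTactic false

universe u v

open CategoryTheory

namespace Groth.Agent.H9Art

open ArtFun ArtFun.Art IsLocalRing

variable {Λ : Type u} {k : Type u} [CommRing Λ] [Field k] [Algebra Λ k] (P : CRing Λ k)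

/-- A quotient coefficient ring. -/
noncomputable def quotCRing (J : Ideal P.carrier) (hJ : J ≤ maximalIdeal P.carrier) : CRing Λ k :=
  haveI : Nontrivial (P.carrier ⧸ J) := Ideal.Quotient.nontrivial_iff.2
    (ne_top_of_le_ne_top (IsLocalRing.maximalIdeal.isMaximal P.carrier).ne_top hJ)
  haveI : IsLocalRing (P.carrier ⧸ J) :=
    IsLocalRing.of_surjective' (Ideal.Quotient.mk J) Ideal.Quotient.mk_surjective
  { carrier := P.carrier ⧸ J
    res := Ideal.Quotient.liftₐ J P.res (fun _ ha => (CRing.mem_maximalIdeal_iff P _).1 (hJ ha))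
    res_surjective := fun a => by
      obtain ⟨p, rfl⟩ := P.res_surjective a
      exact ⟨Ideal.Quotient.mk J p, rfl⟩
    isAdicComplete := by
      haveI := P.isAdicComplete
      have h := (IsAdicComplete.map_algebraMap_iff (S := P.carrier ⧸ J) (maximalIdeal P.carrier) (P.carrier ⧸ J)).2
        (CompleteSemilocal.isAdicComplete_finite (maximalIdeal P.carrier) (P.carrier ⧸ J))
      have e : (maximalIdeal P.carrier).map (algebraMap P.carrier (P.carrier ⧸ J)) = maximalIdeal (P.carrier ⧸ J) := by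
        rw [Ideal.Quotient.algebraMap_eq]
        exact eq_maximalIdeal (Ideal.IsMaximal.map_of_surjective_of_ker_le Ideal.Quotient.mk_surjective
          (by rwa [Ideal.mk_ker]))
      rwa [e] at h }

/-- The projection. -/
noncomputable def quotCMk (J : Ideal P.carrier) (hJ : J ≤ maximalIdeal P.carrier) :
    P.carrier →ₐ[Λ] (quotCRing P J hJ).carrier := Ideal.Quotient.mkₐ Λ J

lemma quotCMk_res (J : Ideal P.carrier) (hJ : J ≤ maximalIdeal P.carrier) :
    (quotCRing P J hJ).res.comp (quotCMk P J hJ) = P.res := AlgHom.ext fun _ => rfl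

lemma quotCMk_surjective (J : Ideal P.carrier) (hJ : J ≤ maximalIdeal P.carrier) :
    Function.Surjective (quotCMk P J hJ) := Ideal.Quotient.mk_surjective

lemma map_maximalIdeal_quotCMk (J : Ideal P.carrier) (hJ : J ≤ maximalIdeal P.carrier) :
    (maximalIdeal P.carrier).map (quotCMk P J hJ) = maximalIdeal (quotCRing P J hJ).carrier :=
  eq_maximalIdeal (Ideal.IsMaximal.map_of_surjective_of_ker_le (f := (quotCMk P J hJ).toRingHom)
    Ideal.Quotient.mk_surjective (by
      rw [show RingHom.ker (quotCMk P J hJ).toRingHom = J from Ideal.mk_ker]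
      exact hJ))

lemma exists_pow_kill {A : Art Λ k} (φ : HomSet P.carrier P.res A) :
    ∃ n : ℕ, ∀ p ∈ maximalIdeal P.carrier ^ n, φ.1 p = 0 := by
  obtain ⟨n, g, hg⟩ := exists_factor P φ
  refine ⟨n + 1, fun p hp => ?_⟩
  rw [← hg]
  change g.toAlgHom (Ideal.Quotient.mk _ p) = 0
  rw [Ideal.Quotient.eq_zero_iff_mem.2 hp, map_zero]

section Limit

variable (A : ℕ → Art Λ k) (f : ∀ n, A (n + 1) ⟶ A n) (φ : ∀ n, HomSet P.carrier P.res (A n))
  (hφ : ∀ n, HomSet.map (f n) (φ (n + 1)) = φ n) (hs : ∀ n, Function.Surjective (φ n).1)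

/-- The intersection of the kernels. -/
noncomputable def limKer : Ideal P.carrier := ⨅ n, RingHom.ker (φ n).1

omit hφ hs in
lemma ker_le_maximal (n : ℕ) : RingHom.ker (φ n).1 ≤ maximalIdeal P.carrier := fun p hp => by
  rw [CRing.mem_maximalIdeal_iff, ← (φ n).2]
  change (A n).res ((φ n).1 p) = 0
  rw [RingHom.mem_ker.1 hp, map_zero]

omit hs in
include hφ in
lemma ker_antitone : Antitone fun n => RingHom.ker (φ n).1 := antitone_nat_of_succ_le fun n p hp => by
  rw [RingHom.mem_ker, ← hφ n]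
  change (f n).toAlgHom ((φ (n + 1)).1 p) = 0
  rw [RingHom.mem_ker.1 hp, map_zero]

omit hs in
include hφ in
/-- Chevalley's lemma. -/
lemma exists_ker_le (j : ℕ) : ∃ N, RingHom.ker (φ N).1 ≤ limKer P A φ ⊔ maximalIdeal P.carrier ^ j := by
  haveI := P.isAdicComplete
  have hanti := ker_antitone P A f φ hφ
  have hst : ∀ i, ∃ N, ∀ n, N ≤ n →
      RingHom.ker (φ n).1 ⊔ maximalIdeal P.carrier ^ i = RingHom.ker (φ N).1 ⊔ maximalIdeal P.carrier ^ i := by
    intro i
    haveI : IsArtinianRing (P.carrier ⧸ maximalIdeal P.carrier ^ i) := by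
      cases i with
      | zero =>
        haveI : Subsingleton (P.carrier ⧸ maximalIdeal P.carrier ^ 0) :=
          Ideal.Quotient.subsingleton_iff.2 (by rw [pow_zero, Ideal.one_eq_top])
        infer_instance
      | succ i => exact CRing.isArtinianRing_quot_mpow P i
    obtain ⟨N, hN⟩ := IsArtinian.monotone_stabilizes (R := P.carrier ⧸ maximalIdeal P.carrier ^ i)
      (M := P.carrier ⧸ maximalIdeal P.carrier ^ i)
      ⟨fun n => OrderDual.toDual ((RingHom.ker (φ n).1).map (Ideal.Quotient.mk (maximalIdeal P.carrier ^ i))),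
        fun a b hab => Ideal.map_mono (hanti hab)⟩
    refine ⟨N, fun n hn => ?_⟩
    have e : (RingHom.ker (φ N).1).map (Ideal.Quotient.mk (maximalIdeal P.carrier ^ i)) =
        (RingHom.ker (φ n).1).map (Ideal.Quotient.mk (maximalIdeal P.carrier ^ i)) := hN n hn
    have := congrArg (Ideal.comap (Ideal.Quotient.mk (maximalIdeal P.carrier ^ i))) e
    rwa [Ideal.comap_map_of_surjective' _ Ideal.Quotient.mk_surjective,
      Ideal.comap_map_of_surjective' _ Ideal.Quotient.mk_surjective, Ideal.mk_ker, eq_comm] at this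
  choose N hN using hst
  let J : ℕ → Ideal P.carrier := fun i => RingHom.ker (φ (N i)).1 ⊔ maximalIdeal P.carrier ^ i
  have hstep : ∀ i, J i ≤ J (i + 1) ⊔ maximalIdeal P.carrier ^ i := by
    intro i
    have e1 := hN i (max (N i) (N (i + 1))) (le_max_left _ _)
    have e2 := hN (i + 1) (max (N i) (N (i + 1))) (le_max_right _ _)
    change RingHom.ker (φ (N i)).1 ⊔ maximalIdeal P.carrier ^ i ≤ _
    rw [← e1]
    refine sup_le ?_ le_sup_right
    exact le_sup_left.trans (e2.le.trans le_sup_left)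
  refine ⟨N j, fun x hx => ?_⟩
  have hnext : ∀ i, ∀ y ∈ J (j + i), ∃ z ∈ J (j + (i + 1)), y - z ∈ maximalIdeal P.carrier ^ (j + i) := by
    intro i y hy
    obtain ⟨z, hz, w, hw, hzw⟩ := Submodule.mem_sup.1 (hstep (j + i) hy)
    exact ⟨z, hz, by rw [← hzw, add_sub_cancel_left]; exact hw⟩
  choose nx hnx₁ hnx₂ using hnext
  let s : ∀ i, {y : P.carrier // y ∈ J (j + i)} :=
    fun i => Nat.rec ⟨x, Submodule.mem_sup_left hx⟩ (fun i y => ⟨nx i y.1 y.2, hnx₁ i y.1 y.2⟩) i
  have hc : ∀ i, (s i).1 - (s (i + 1)).1 ∈ maximalIdeal P.carrier ^ (j + i) := fun i => hnx₂ i (s i).1 (s i).2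
  have hc' : ∀ {a b}, a ≤ b → (s a).1 - (s b).1 ∈ maximalIdeal P.carrier ^ (j + a) := by
    intro a b hab
    induction hab with
    | refl => rw [sub_self]; exact zero_mem _
    | @step b hab ih =>
      have e : (s a).1 - (s (b + 1)).1 = ((s a).1 - (s b).1) + ((s b).1 - (s (b + 1)).1) := by ring
      rw [Nat.succ_eq_add_one, e]
      exact add_mem ih (Ideal.pow_le_pow_right (Nat.add_le_add_left hab j) (hc b))
  obtain ⟨y, hy⟩ := IsPrecomplete.prec' (I := maximalIdeal P.carrier) (M := P.carrier) (fun i => (s i).1)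
    (fun {a b} hab => by
      rw [SModEq.sub_mem, smul_eq_mul, Ideal.mul_top]
      exact Ideal.pow_le_pow_right (Nat.le_add_left a j) (hc' hab))
  have hy' : ∀ i, (s i).1 - y ∈ maximalIdeal P.carrier ^ i := fun i => by
    have := hy i
    rwa [SModEq.sub_mem, smul_eq_mul, Ideal.mul_top] at this
  have hyI : y ∈ limKer P A φ := by
    rw [limKer, Ideal.mem_iInf]
    intro n
    obtain ⟨e, he⟩ := exists_pow_kill P (φ n)
    have h1 : (s e).1 ∈ RingHom.ker (φ n).1 ⊔ maximalIdeal P.carrier ^ (j + e) := by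
      have h2 := hN (j + e) (max n (N (j + e))) (le_max_right _ _)
      exact (h2.symm.le.trans (sup_le_sup_right (hanti (le_max_left _ _)) _)) (s e).2
    obtain ⟨a, ha, b, hb, hab⟩ := Submodule.mem_sup.1 h1
    have hye : y = a + (b - ((s e).1 - y)) := by rw [← hab]; ring
    rw [RingHom.mem_ker, hye, map_add, RingHom.mem_ker.1 ha, zero_add]
    exact he _ (sub_mem (Ideal.pow_le_pow_right (Nat.le_add_left e j) hb) (hy' e))
  have hxy : x - y ∈ maximalIdeal P.carrier ^ j := by
    have e : x - y = ((s 0).1 - (s j).1) + ((s j).1 - y) := by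
      change x - y = (x - (s j).1) + ((s j).1 - y)
      ring
    rw [e]
    exact add_mem (hc' (Nat.zero_le j)) (hy' j)
  have := Submodule.add_mem_sup hyI hxy
  rwa [add_sub_cancel] at this

include hφ hs in
/-- The limit of a surjective system of Artinian quotients of `P`. -/
theorem exists_limit :
    ∃ (S : CRing Λ k) (q : P.carrier →ₐ[Λ] S.carrier) (_ : S.res.comp q = P.res) (π : ∀ n, HomSet S.carrier S.res (A n)),
      Function.Surjective q ∧ (∀ n p, (π n).1 (q p) = (φ n).1 p) ∧
      (∀ n, HomSet.map (f n) (π (n + 1)) = π n) ∧ (∀ n, Function.Surjective (π n).1) ∧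
      (∀ a : ∀ n, A n, (∀ n, f n (a (n + 1)) = a n) → ∃! s : S.carrier, ∀ n, (π n).1 s = a n) ∧
      (∀ n, ∃ N, RingHom.ker (π N).1 ≤ maximalIdeal S.carrier ^ n) ∧
      (∀ n, ∃ N, maximalIdeal S.carrier ^ N ≤ RingHom.ker (π n).1) := by
  have hI : limKer P A φ ≤ maximalIdeal P.carrier := (iInf_le _ 0).trans (ker_le_maximal P A φ 0)
  let S := quotCRing P (limKer P A φ) hI
  let q := quotCMk P (limKer P A φ) hI
  have hq : Function.Surjective q := quotCMk_surjective P _ hI
  let π : ∀ n, HomSet S.carrier S.res (A n) := fun n =>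
    ⟨Ideal.Quotient.liftₐ (limKer P A φ) (φ n).1 (fun p hp =>
      RingHom.mem_ker.1 ((iInf_le (fun n => RingHom.ker (φ n).1) n) hp)), AlgHom.ext fun s => by
      obtain ⟨p, rfl⟩ := hq s
      exact congrArg (fun t : P.carrier →ₐ[Λ] k => t p) (φ n).2⟩
  have hπ : ∀ n p, (π n).1 (q p) = (φ n).1 p := fun _ _ => rfl
  have hπc : ∀ n, HomSet.map (f n) (π (n + 1)) = π n := fun n => Subtype.ext (AlgHom.ext fun s => by
    obtain ⟨p, rfl⟩ := hq s
    exact congrArg (fun t : HomSet P.carrier P.res (A n) => t.1 p) (hφ n))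
  have hm : maximalIdeal S.carrier = (maximalIdeal P.carrier).map q := (map_maximalIdeal_quotCMk P _ hI).symm
  have hsep : ∀ s : S.carrier, (∀ n, (π n).1 s = 0) → s = 0 := fun s h => by
    obtain ⟨p, rfl⟩ := hq s
    exact Ideal.Quotient.eq_zero_iff_mem.2 (Ideal.mem_iInf.2 fun n => RingHom.mem_ker.2 (h n))
  refine ⟨S, q, quotCMk_res P _ hI, π, hq, hπ, hπc, fun n => fun a => ?_, fun a ha => ?_, fun j => ?_, fun n => ?_⟩
  · obtain ⟨p, rfl⟩ := hs n a
    exact ⟨q p, rfl⟩
  · choose N hN using exists_ker_le P A f φ hφ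
    let M : ℕ → ℕ := fun j => (Finset.range (j + 1)).sup N + j
    have hM : ∀ j, RingHom.ker (φ (M j)).1 ≤ limKer P A φ ⊔ maximalIdeal P.carrier ^ j := fun j =>
      le_trans (ker_antitone P A f φ hφ ((Finset.le_sup (f := N) (Finset.self_mem_range_succ j)).trans (Nat.le_add_right _ _))) (hN j)
    have hMmono : Monotone M := fun i j hij =>
      Nat.add_le_add (Finset.sup_mono (Finset.range_mono (Nat.succ_le_succ hij))) hij
    have down : ∀ {n m}, n ≤ m → ∀ p, (φ m).1 p = a m → (φ n).1 p = a n := by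
      intro n m h p
      induction h with
      | refl => exact id
      | @step m h ih =>
        intro hp
        refine ih ?_
        rw [← ha m, ← hφ m]
        exact congrArg (f m).toAlgHom hp
    choose r hr using fun j => hs (M j) (a (M j))
    have hmem : ∀ {i j}, i ≤ j → q (r i) - q (r j) ∈ maximalIdeal S.carrier ^ i := by
      intro i j hij
      have h1 : r i - r j ∈ RingHom.ker (φ (M i)).1 := RingHom.mem_ker.2 (by
        rw [map_sub, hr i, down (hMmono hij) (r j) (hr j), sub_self])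
      obtain ⟨x, hx, y, hy, hxy⟩ := Submodule.mem_sup.1 (hM i h1)
      rw [← map_sub, ← hxy, map_add, show q x = 0 from Ideal.Quotient.eq_zero_iff_mem.2 hx, zero_add, hm, ← Ideal.map_pow]
      exact Ideal.mem_map_of_mem _ hy
    haveI := S.isAdicComplete
    obtain ⟨s, hs'⟩ := IsPrecomplete.prec' (I := maximalIdeal S.carrier) (M := S.carrier) (fun j => q (r j))
      (fun {i j} hij => by rw [SModEq.sub_mem, smul_eq_mul, Ideal.mul_top]; exact hmem hij)
    have hπs : ∀ n, (π n).1 s = a n := fun n => by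
      obtain ⟨e, he⟩ := exists_pow_kill S (π n)
      let i := max n e
      have hd := hs' i
      rw [SModEq.sub_mem, smul_eq_mul, Ideal.mul_top] at hd
      have h0 := he _ (Ideal.pow_le_pow_right (le_max_right n e) hd)
      rw [map_sub, sub_eq_zero] at h0
      rw [← h0, hπ]
      exact down ((le_max_left n e).trans (Nat.le_add_left i _)) _ (hr i)
    exact ⟨s, hπs, fun t ht => sub_eq_zero.1 (hsep _ fun n => by rw [map_sub, ht n, hπs n, sub_self])⟩
  · obtain ⟨N, hN⟩ := exists_ker_le P A f φ hφ j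
    refine ⟨N, fun s hsN => ?_⟩
    obtain ⟨p, rfl⟩ := hq s
    obtain ⟨x, hx, y, hy, hxy⟩ := Submodule.mem_sup.1 (hN (RingHom.mem_ker.2 (RingHom.mem_ker.1 hsN : (π N).1 (q p) = 0)))
    rw [← hxy, map_add, show q x = 0 from Ideal.Quotient.eq_zero_iff_mem.2 hx, zero_add, hm, ← Ideal.map_pow]
    exact Ideal.mem_map_of_mem _ hy
  · obtain ⟨e, he⟩ := exists_pow_kill S (π n)
    exact ⟨e, fun s hs' => RingHom.mem_ker.2 (he s hs')⟩

end Limit

end Groth.Agent.H9Art
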