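import Groth.Agent.Lib.H9ArtHull

/-!
Cutting down versal families along tangent vectors killed by the family; pro-representability.
-/

set_option backward.isDefEq.respectTransparency false
set_option backward.isDefEq.respectTransparency.types false
set_option linter.deprecated false
set_option linter.unusedTactic false

universe u v

open CategoryTheory

namespace Groth.Agent.H9Art

open ArtFun ArtFun.Art IsLocalRing

variable {Λ : Type u} {k : Type u} [CommRing Λ] [Field k] [Algebra Λ k] {F : Art Λ k ⥤ Type v}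

/-- The zero tangent vector of an augmented algebra. -/
def zeroVec {R : Type u} [CommRing R] [Algebra Λ R] {resR : R →ₐ[Λ] k} : HomSet R resR (dual Λ k) :=
  HomSet.map baseToDual homSetBase

/-- All tangent vectors killed by the family vanish on the maximal ideal. -/
def NullVanish {R : CRing Λ k} (ξ : Family R.carrier R.res F) : Prop :=
  ∀ θ : HomSet R.carrier R.res (dual Λ k), ξ.app _ θ = ξ.app _ zeroVec →
    ∀ g ∈ maximalIdeal R.carrier, (θ.1 g).snd = 0

lemma versal_quot_null (h2 : Heps F) {R : CRing Λ k} (ξ : Family R.carrier R.res F) (hξ : IsVersal ξ)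
    (θ : HomSet R.carrier R.res (dual Λ k)) (hθ : ξ.app _ θ = ξ.app _ zeroVec) (g : R.carrier)
    (hg : g ∈ maximalIdeal R.carrier) (hθg : (θ.1 g).snd ≠ 0) :
    IsVersal (ξ.along (quotCMk R (Ideal.span {g}) ((Ideal.span_singleton_le_iff_mem _).2 hg))
      (quotCMk_res R _ _)) := by
  have hJ : Ideal.span {g} ≤ maximalIdeal R.carrier := (Ideal.span_singleton_le_iff_mem _).2 hg
  set R' := quotCRing R (Ideal.span {g}) hJ
  set q := quotCMk R (Ideal.span {g}) hJ
  set ξ' := ξ.along q (quotCMk_res R _ hJ)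
  have hqg : q g = 0 := Ideal.Quotient.eq_zero_iff_mem.2 (Ideal.mem_span_singleton_self g)
  intro B A μ hμ
  refine surjective_induction (P := fun A B μ => ∀ (φ : HomSet R'.carrier R'.res A) (y : F.obj B),
    F.map μ y = ξ'.app A φ → ∃ ψ, HomSet.map μ ψ = φ ∧ ξ'.app B ψ = y) ?_ ?_ ?_ μ hμ
  · intro A B e he φ y hy
    refine ⟨HomSet.map (inv e) φ, ?_, ?_⟩
    · rw [← homSet_map_comp, IsIso.inv_hom_id, homSet_map_id]
    · rw [ξ'.natural, ← hy, ← FunctorToTypes.map_comp_apply, IsIso.hom_inv_id, FunctorToTypes.map_id_apply]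
  · intro A B μ hμ φ y hy
    let φR : HomSet R.carrier R.res A := ⟨φ.1.comp q, by rw [← AlgHom.comp_assoc, φ.2, quotCMk_res]⟩
    obtain ⟨ψ, hψ, hψy⟩ := hξ μ hμ.1 φR y hy
    obtain ⟨t, ht0, htp, htm, hgen⟩ := exists_smallExt_generator hμ
    obtain ⟨a, ha⟩ := hgen (ψ.1 g) ((congrArg (fun u : HomSet R.carrier R.res A => u.1 g) hψ).trans
      ((congrArg φ.1 hqg).trans (map_zero φ.1)))
    obtain ⟨D, q₁, q₂, hD⟩ := exists_fibreProd μ μ hμ.1
    obtain ⟨Δ, hΔ₁, hΔ₂⟩ := exists_lift hD (𝟙 B) (𝟙 B) rfl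
    obtain ⟨dl, hdl, hdlv⟩ := exists_delta hD ht0 htp htm hgen
    let c : k := -B.res a * ((θ.1 g).snd)⁻¹
    let ν : HomSet R.carrier R.res (dual Λ k) := HomSet.map (scale c) θ
    obtain ⟨w, hw₁, hw₂⟩ := exists_liftHomSet hdl ψ ν (Subsingleton.elim _ _)
    have hsame : ξ.app _ (HomSet.map q₂ w) = y := by
      have hd0 : F.map dl (ξ.app _ w) = F.map dl (F.map Δ (F.map q₁ (ξ.app _ w))) := by
        rw [← ξ.natural, hw₂, ξ.natural, hθ, ← ξ.natural, ← FunctorToTypes.map_comp_apply F Δ dl,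
          delta_diag hdlv Δ (hΔ₁.trans hΔ₂.symm), ← ξ.natural, ← ξ.natural]
        refine congrArg (ξ.app _) (Subtype.ext (AlgHom.ext fun r => TrivSqZeroExt.ext ?_ ?_))
        · rw [homSet_map_comp]
          exact (congrArg (fun u : R.carrier →ₐ[Λ] k => u r) (HomSet.map (scale c) zeroVec).2).trans
            (congrArg (fun u : R.carrier →ₐ[Λ] k => u r)
              (HomSet.map baseToDual (HomSet.map (toBase B) (HomSet.map q₁ w))).2).symm
        · change c • (TrivSqZeroExt.inl (R.res r) : DualNumber k).snd = (TrivSqZeroExt.inl _ : DualNumber k).snd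
          rw [TrivSqZeroExt.snd_inl, TrivSqZeroExt.snd_inl, smul_zero]
      have h := eq_of_delta h2 hdl hΔ₁ hΔ₂ _ hd0
      rw [ξ.natural, h, ← ξ.natural, hw₁, hψy]
    have hw₁' : q₁.toAlgHom (w.1 g) = ψ.1 g := congrArg (fun u : HomSet R.carrier R.res B => u.1 g) hw₁
    have hg2 : q₂.toAlgHom (w.1 g) = 0 := by
      obtain ⟨cc, hcc⟩ := hgen (q₂.toAlgHom (w.1 g) - q₁.toAlgHom (w.1 g))
        (by rw [map_sub]; exact sub_eq_zero.2 (hD.w_apply _).symm)
      have h1 : c * (θ.1 g).snd = B.res cc := (congrArg (fun u : HomSet R.carrier R.res (dual Λ k) => (u.1 g).snd) hw₂).symm.trans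
        (hdlv (w.1 g) cc hcc)
      have h2 : B.res cc = -B.res a := by rw [← h1, inv_mul_cancel_right₀ hθg]
      have h3 : (cc + a) * t = 0 := htm _ ((Art.mem_maximalIdeal_iff B _).2 (by rw [map_add, h2, neg_add_cancel]))
      rw [hw₁', ha] at hcc
      linear_combination hcc + h3
    have hle : ∀ p ∈ Ideal.span {g}, (HomSet.map q₂ w).1 p = 0 := fun p hp => by
      obtain ⟨s, rfl⟩ := Ideal.mem_span_singleton'.1 hp
      rw [map_mul, show (HomSet.map q₂ w).1 g = 0 from hg2, mul_zero]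
    let χ : HomSet R'.carrier R'.res B := ⟨Ideal.Quotient.liftₐ _ (HomSet.map q₂ w).1 hle, AlgHom.ext fun x => by
      obtain ⟨p, rfl⟩ := Ideal.Quotient.mk_surjective x
      exact congrArg (fun u : R.carrier →ₐ[Λ] k => u p) (HomSet.map q₂ w).2⟩
    refine ⟨χ, Subtype.ext (AlgHom.ext fun x => ?_), ?_⟩
    · obtain ⟨p, rfl⟩ := Ideal.Quotient.mk_surjective x
      change μ.toAlgHom (q₂.toAlgHom (w.1 p)) = φR.1 p
      rw [← hψ]
      refine (hD.w_apply (w.1 p)).symm.trans ?_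
      exact congrArg μ.toAlgHom (congrArg (fun u : HomSet R.carrier R.res B => u.1 p) hw₁)
    · exact (congrArg (ξ.app B) (Subtype.ext (AlgHom.ext fun _ => rfl))).trans hsame
  · intro A B C p r _ _ hp hr φ y hy
    rw [FunctorToTypes.map_comp_apply] at hy
    obtain ⟨ψ, hψ₁, hψ₂⟩ := hr φ _ hy
    obtain ⟨χ, hχ₁, hχ₂⟩ := hp ψ y hψ₂.symm
    exact ⟨χ, by rw [homSet_map_comp, hχ₁, hψ₁], hχ₂⟩

theorem exists_nullVanish (h2 : Heps F) {R : CRing Λ k} (ξ : Family R.carrier R.res F) (hξ : IsVersal ξ) :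
    ∃ (R' : CRing Λ k) (q : R.carrier →ₐ[Λ] R'.carrier) (hq : R'.res.comp q = R.res),
      Function.Surjective q ∧ IsVersal (ξ.along q hq) ∧ NullVanish (ξ.along q hq) := by
  let S : Set (Ideal R.carrier) := {J | ∃ (R' : CRing Λ k) (q : R.carrier →ₐ[Λ] R'.carrier) (hq : R'.res.comp q = R.res),
    Function.Surjective q ∧ IsVersal (ξ.along q hq) ∧ RingHom.ker q = J}
  obtain ⟨J, ⟨R', q, hq, hqs, hv, rfl⟩, hmax⟩ := wellFounded_gt.has_min S
    ⟨_, R, AlgHom.id Λ R.carrier, AlgHom.comp_id _, Function.surjective_id, by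
      intro B A μ hμ φ y hy
      obtain ⟨ψ, h₁, h₂⟩ := hξ μ hμ φ y (hy.trans (congrArg (ξ.app A) (Subtype.ext (AlgHom.comp_id _))))
      exact ⟨ψ, h₁, (congrArg (ξ.app B) (Subtype.ext (AlgHom.comp_id _))).trans h₂⟩, rfl⟩
  refine ⟨R', q, hq, hqs, hv, fun θ hθ g hg => ?_⟩
  by_contra hne
  have hv' := versal_quot_null h2 _ hv θ hθ g hg hne
  have hJ : Ideal.span {g} ≤ maximalIdeal R'.carrier := (Ideal.span_singleton_le_iff_mem _).2 hg
  let q' := quotCMk R' (Ideal.span {g}) hJ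
  have hq' : (quotCRing R' (Ideal.span {g}) hJ).res.comp (q'.comp q) = R.res := by
    rw [← AlgHom.comp_assoc, quotCMk_res, hq]
  have hvq : IsVersal (ξ.along (q'.comp q) hq') := by
    intro B A μ hμ φ y hy
    obtain ⟨ψ, h₁, h₂⟩ := hv' μ hμ φ y (hy.trans (congrArg (ξ.app A) (Subtype.ext (AlgHom.comp_assoc _ _ _).symm)))
    exact ⟨ψ, h₁, (congrArg (ξ.app B) (Subtype.ext (AlgHom.comp_assoc _ _ _).symm)).trans h₂⟩
  obtain ⟨p, rfl⟩ := hqs g
  refine hmax _ ⟨_, q'.comp q, hq', (quotCMk_surjective R' _ hJ).comp hqs, hvq, rfl⟩ (lt_of_le_of_ne (fun x hx => ?_) fun e => ?_)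
  · rw [RingHom.mem_ker] at hx ⊢
    change q' (q x) = 0
    rw [hx, map_zero]
  · have hp : p ∈ RingHom.ker q := e.symm ▸ RingHom.mem_ker.2
      (show q' (q p) = 0 from Ideal.Quotient.eq_zero_iff_mem.2 (Ideal.mem_span_singleton_self _))
    rw [RingHom.mem_ker] at hp
    exact hne (by rw [hp, map_zero]; rfl)

/-- Two tangent vectors with the same image differ by one killed by the family. -/
lemma exists_sub (h2 : Heps F) {R : CRing Λ k} (ξ : Family R.carrier R.res F)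
    (θ₁ θ₂ : HomSet R.carrier R.res (dual Λ k)) (h12 : ξ.app _ θ₁ = ξ.app _ θ₂) :
    ∃ θ : HomSet R.carrier R.res (dual Λ k), ξ.app _ θ = ξ.app _ zeroVec ∧
      ∀ r, (θ.1 r).snd = (θ₁.1 r).snd - (θ₂.1 r).snd := by
  let mi : dual2 Λ k ⟶ dual Λ k := ⟨tszeMap (LinearMap.fst k k k - LinearMap.snd k k k), AlgHom.ext fun _ => rfl⟩
  let dg : dual Λ k ⟶ dual2 Λ k := ⟨tszeMap (LinearMap.id.prod LinearMap.id), AlgHom.ext fun _ => rfl⟩
  have hdg₁ : dg ≫ pr₁ = 𝟙 _ := Art.hom_ext (AlgHom.ext fun _ => rfl)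
  have hdg₂ : dg ≫ pr₂ = 𝟙 _ := Art.hom_ext (AlgHom.ext fun _ => rfl)
  have hmi : dg ≫ mi = toBase _ ≫ baseToDual := Art.hom_ext (AlgHom.ext fun x => TrivSqZeroExt.ext rfl
    ((sub_self (TrivSqZeroExt.snd x)).trans (TrivSqZeroExt.snd_inl k _).symm))
  obtain ⟨pair, hp₁, hp₂⟩ := exists_liftHomSet isFibreProd_dual2 θ₁ θ₂ (Subsingleton.elim _ _)
  refine ⟨HomSet.map mi pair, ?_, fun r => ?_⟩
  · have h : ξ.app _ pair = F.map dg (ξ.app _ θ₁) := by
      refine (cmp_injective_iff isFibreProd_dual2).1 (h2 _ _ isFibreProd_dual2).1 _ _ ?_ ?_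
      · rw [← ξ.natural, hp₁, ← FunctorToTypes.map_comp_apply, hdg₁, FunctorToTypes.map_id_apply]
      · rw [← ξ.natural, hp₂, ← h12, ← FunctorToTypes.map_comp_apply, hdg₂, FunctorToTypes.map_id_apply]
    rw [ξ.natural, h, ← FunctorToTypes.map_comp_apply, hmi, ← ξ.natural, homSet_map_comp]
    exact congrArg (ξ.app _) (congrArg (HomSet.map baseToDual) (Subsingleton.elim _ _))
  · rw [← hp₁, ← hp₂]; rfl

lemma injective_app_of_injective_tangent {R : CRing Λ k} (ξ : Family R.carrier R.res F)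
    (hF : ∀ ⦃B A A' A'' : Art Λ k⦄ (p' : B ⟶ A') (p'' : B ⟶ A'') (f' : A' ⟶ A) (f'' : A'' ⟶ A)
      (h : IsFibreProd p' p'' f' f''), Function.Surjective f'' → Function.Bijective (cmp F h))
    (ht : Function.Injective (ξ.app (dual Λ k))) (A : Art Λ k) : Function.Injective (ξ.app A) := by
  refine surjective_induction (P := fun A B (p : B ⟶ A) => Function.Injective (ξ.app A) → Function.Injective (ξ.app B))
    ?_ ?_ ?_ (toBase A) (toBase_surjective A) (fun x y _ => Subsingleton.elim _ _)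
  · intro A B e he hA x y hxy
    have h := hA (show ξ.app A (HomSet.map e x) = ξ.app A (HomSet.map e y) by rw [ξ.natural, ξ.natural, hxy])
    have h' := congrArg (HomSet.map (inv e)) h
    rwa [← homSet_map_comp, ← homSet_map_comp, IsIso.hom_inv_id, homSet_map_id, homSet_map_id] at h'
  · intro A B p hp hA φ₁ φ₂ h12
    have hA' : HomSet.map p φ₁ = HomSet.map p φ₂ := hA (by rw [ξ.natural, ξ.natural, h12])
    obtain ⟨t, ht0, htp, htm, hgen⟩ := exists_smallExt_generator hp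
    obtain ⟨Q, q₁, q₂, hQ⟩ := exists_fibreProd p p hp.1
    obtain ⟨Δ, hΔ₁, hΔ₂⟩ := exists_lift hQ (𝟙 B) (𝟙 B) rfl
    obtain ⟨δ, hδ, -⟩ := exists_delta hQ ht0 htp htm hgen
    obtain ⟨c, hc₁, hc₂⟩ := exists_liftHomSet hQ φ₁ φ₂ hA'
    have e : ξ.app Q c = ξ.app Q (HomSet.map Δ φ₁) := by
      refine (cmp_injective_iff hQ).1 (hF q₁ q₂ p p hQ hp.1).1 _ _ ?_ ?_
      · rw [← ξ.natural, ← ξ.natural, hc₁, ← homSet_map_comp, hΔ₁, homSet_map_id]
      · rw [← ξ.natural, ← ξ.natural, hc₂, ← homSet_map_comp, hΔ₂, homSet_map_id, h12]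
    have hcΔ : c = HomSet.map Δ φ₁ :=
      (cmp_injective_iff hδ).1 (bijective_cmp_hR R.carrier R.res q₁ δ _ _ hδ).1 _ _
        (show HomSet.map q₁ c = HomSet.map q₁ (HomSet.map Δ φ₁) by rw [hc₁, ← homSet_map_comp, hΔ₁, homSet_map_id])
        (ht (show ξ.app _ (HomSet.map δ c) = ξ.app _ (HomSet.map δ (HomSet.map Δ φ₁)) by rw [ξ.natural, ξ.natural, e]))
    rw [← hc₂, hcΔ, ← homSet_map_comp, hΔ₂, homSet_map_id]
  · intro A B C p q _ _ hp hq hA
    exact hp (hq hA)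

end Groth.Agent.H9Art
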