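import Groth.Agent.Lib.H9ArtMinimal

/-!
Presentations of coefficient rings, sections of surjections onto smooth rings, coproducts.
-/

set_option backward.isDefEq.respectTransparency false
set_option backward.isDefEq.respectTransparency.types false
set_option linter.deprecated false
set_option linter.unusedTactic false

universe u v

open CategoryTheory

namespace Groth.Agent.H9Art

open ArtFun ArtFun.Art IsLocalRing

variable {Λ : Type u} {k : Type u} [CommRing Λ] [Field k] [Algebra Λ k]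

lemma exists_descend {Q S P : CRing Λ k} (g : Q.carrier →ₐ[Λ] S.carrier) (hgs : Function.Surjective g)
    (h : Q.carrier →ₐ[Λ] P.carrier) (hk : ∀ x, g x = 0 → h x = 0) :
    ∃ f : S.carrier →ₐ[Λ] P.carrier, f.comp g = h := by
  refine ⟨(Ideal.Quotient.liftₐ (RingHom.ker g) h fun x hx => hk x (RingHom.mem_ker.1 hx)).comp
    (Ideal.quotientKerAlgEquivOfSurjective hgs).symm.toAlgHom, AlgHom.ext fun x => ?_⟩
  change Ideal.Quotient.liftₐ (RingHom.ker g) h (fun x hx => hk x (RingHom.mem_ker.1 hx)) ((Ideal.quotientKerAlgEquivOfSurjective hgs).symm (g x)) = h x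
  have e : (Ideal.quotientKerAlgEquivOfSurjective hgs).symm (g x) = Ideal.Quotient.mk _ x := by
    rw [AlgEquiv.symm_apply_eq]; rfl
  rw [e]; rfl

lemma res_comp_of_descend {Q S P : CRing Λ k} {g : Q.carrier →ₐ[Λ] S.carrier} (hg : S.res.comp g = Q.res)
    (hgs : Function.Surjective g) {f : S.carrier →ₐ[Λ] P.carrier} {h : Q.carrier →ₐ[Λ] P.carrier}
    (hf : f.comp g = h) (hh : P.res.comp h = Q.res) : P.res.comp f = S.res := AlgHom.ext fun x => by
  obtain ⟨y, rfl⟩ := hgs x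
  have h1 := congrArg (fun t : Q.carrier →ₐ[Λ] k => t y) hh
  have h2 := congrArg (fun t : Q.carrier →ₐ[Λ] k => t y) hg
  have h3 := congrArg (fun t : Q.carrier →ₐ[Λ] P.carrier => t y) hf
  change P.res (f (g y)) = S.res (g y)
  exact (congrArg P.res h3).trans (h1.trans h2.symm)

/-- A surjection onto a smooth coefficient ring has a section. -/
lemma exists_section {Q R : CRing Λ k} (hR' : IsSmoothFunctor (hR R.carrier R.res))
    (g : Q.carrier →ₐ[Λ] R.carrier) (hg : R.res.comp g = Q.res) (hgs : Function.Surjective g) :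
    ∃ s : R.carrier →ₐ[Λ] Q.carrier, Q.res.comp s = R.res ∧ g.comp s = AlgHom.id Λ R.carrier := by
  have hfa : ∀ a, R.res (g a) = Q.res a := fun a => congrArg (fun t : Q.carrier →ₐ[Λ] k => t a) hg
  have hloc : (maximalIdeal Q.carrier).map g = maximalIdeal R.carrier := by
    refine le_antisymm (Ideal.map_le_iff_le_comap.2 fun a ha => ?_) fun y hy => ?_
    · exact (CRing.mem_maximalIdeal_iff R _).2 ((hfa a).trans ((CRing.mem_maximalIdeal_iff Q a).1 ha))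
    · obtain ⟨z, rfl⟩ := hgs y
      exact Ideal.mem_map_of_mem _ ((CRing.mem_maximalIdeal_iff Q z).2
        ((hfa z).symm.trans ((CRing.mem_maximalIdeal_iff R _).1 hy)))
  have hmap : ∀ n, (Q.mpow n).map g = R.mpow n := fun n => by rw [Ideal.map_pow, hloc]
  have hgex : ∀ n, ∃ f : Q.trunc n ⟶ R.trunc n, ∀ a, f.toAlgHom ((Q.truncHom n).1 a) = (R.truncHom n).1 (g a) := fun n =>
    ⟨⟨Ideal.quotientMapₐ (R.mpow n) g (Ideal.map_le_iff_le_comap.1 (hmap n).le), AlgHom.ext fun x => by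
      obtain ⟨a, rfl⟩ := Ideal.Quotient.mk_surjective x
      exact hfa a⟩, fun _ => rfl⟩
  choose gn hgn using hgex
  have hcompat : ∀ n, Q.truncMap n ≫ gn n = gn (n + 1) ≫ R.truncMap n := fun n =>
    Art.hom_ext (AlgHom.ext fun x => by
      obtain ⟨a, rfl⟩ := truncHom_surjective Q (n + 1) x
      change (gn n).toAlgHom ((Q.truncMap n).toAlgHom ((Q.truncHom (n + 1)).1 a)) = (R.truncMap n).toAlgHom ((gn (n + 1)).toAlgHom _)
      rw [hgn]
      exact hgn n a)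
  have step : ∀ n (ψ : HomSet R.carrier R.res (Q.trunc n)), HomSet.map (gn n) ψ = R.truncHom n →
      ∃ ψ' : HomSet R.carrier R.res (Q.trunc (n + 1)),
        HomSet.map (gn (n + 1)) ψ' = R.truncHom (n + 1) ∧ HomSet.map (Q.truncMap n) ψ' = ψ := by
    intro n ψ hψ
    obtain ⟨T, t₁, t₂, hT⟩ := exists_fibreProd (gn n) (R.truncMap n) (truncMap_surjective R n)
    obtain ⟨r, hr₁, hr₂⟩ := exists_lift hT (Q.truncMap n) (gn (n + 1)) (hcompat n)
    have hrs : Function.Surjective r := by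
      intro x
      obtain ⟨a, ha⟩ := truncHom_surjective Q n (t₁ x)
      obtain ⟨b, hb⟩ := truncHom_surjective R (n + 1) (t₂ x)
      have hd : g a - b ∈ R.mpow n := by
        refine Ideal.Quotient.eq.1 ?_
        have h := hT.w_apply x
        rw [← ha, ← hb] at h
        exact (hgn n a).symm.trans h
      obtain ⟨z, hz, hzd⟩ := (Ideal.mem_map_iff_of_surjective g hgs).1 (hmap n ▸ hd)
      refine ⟨(Q.truncHom (n + 1)).1 (a - z), hT.inj _ _ ?_ ?_⟩
      · rw [← ha, show t₁ (r ((Q.truncHom (n + 1)).1 (a - z))) = (r ≫ t₁) ((Q.truncHom (n + 1)).1 (a - z)) from rfl, hr₁]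
        exact Ideal.Quotient.eq.2 (by rw [sub_sub_cancel_left]; exact neg_mem hz)
      · rw [← hb, show t₂ (r ((Q.truncHom (n + 1)).1 (a - z))) = (r ≫ t₂) ((Q.truncHom (n + 1)).1 (a - z)) from rfl, hr₂]
        refine (hgn (n + 1) _).trans (Ideal.Quotient.eq.2 ?_)
        have e : g (a - z) - b = 0 := by rw [map_sub, hzd]; ring
        rw [e]
        exact zero_mem _
    obtain ⟨χ, hχ₁, hχ₂⟩ := exists_liftHomSet hT ψ (R.truncHom (n + 1)) (hψ.trans (R.truncMap_truncHom n).symm)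
    obtain ⟨ψ', hψ'⟩ := hR' r hrs χ
    have hψ'' : HomSet.map r ψ' = χ := hψ'
    exact ⟨ψ', by rw [← hr₂, homSet_map_comp, hψ'', hχ₂], by rw [← hr₁, homSet_map_comp, hψ'', hχ₁]⟩
  have h00 : ∃ ψ, HomSet.map (gn 0) ψ = R.truncHom 0 := hR' (gn 0) (fun x => by
    obtain ⟨b, rfl⟩ := truncHom_surjective R 0 x
    obtain ⟨a, rfl⟩ := hgs b
    exact ⟨(Q.truncHom 0).1 a, hgn 0 a⟩) (R.truncHom 0)
  choose next hn₁ hn₂ using step
  obtain ⟨ψ₀, hψ₀⟩ := h00
  let u : ∀ n, {ψ : HomSet R.carrier R.res (Q.trunc n) // HomSet.map (gn n) ψ = R.truncHom n} :=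
    fun n => Nat.rec ⟨ψ₀, hψ₀⟩ (fun n a => ⟨next n a.1 a.2, hn₁ n a.1 a.2⟩) n
  obtain ⟨s, hs, hsn⟩ := exists_lim Q (fun n => (u n).1) (fun n => hn₂ n (u n).1 (u n).2)
  refine ⟨s, hs, hom_ext_trunc R fun n => AlgHom.ext fun x => ?_⟩
  refine Eq.trans ?_ (congrArg (fun t : HomSet R.carrier R.res (R.trunc n) => t.1 x) (u n).2)
  refine (hgn n (s x)).symm.trans ?_
  exact congrArg (gn n).toAlgHom (congrArg (fun t : R.carrier →ₐ[Λ] _ => t x) (hsn n))

variable [IsNoetherianRing Λ] [Module.Finite Λ k]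

/-- A coefficient ring is a quotient of a free one. -/
lemma exists_presentation (S : CRing Λ k) :
    ∃ (r : ℕ) (m : ℕ) (c : Fin m ⊕ Fin r → k) (Q : FreeCRing (Λ := Λ) (Fin m ⊕ Fin r) c)
      (g : Q.ring.carrier →ₐ[Λ] S.carrier), S.res.comp g = Q.ring.res ∧ Function.Surjective g := by
  obtain ⟨m, e, he⟩ := exists_generators Λ k
  obtain ⟨r, a, ha⟩ := Submodule.fg_iff_exists_fin_generating_family.1 (IsNoetherian.noetherian (maximalIdeal S.carrier))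
  obtain ⟨Q⟩ := nonempty_freeCRing_sum (Λ := Λ) (d := r) e he
  choose b hb using fun i => S.res_surjective (e i)
  obtain ⟨g, hg, hgX⟩ := Q.exists_hom_cring S (Sum.elim b a) (fun i => by
    cases i with
    | inl i => exact hb i
    | inr j => exact (CRing.mem_maximalIdeal_iff S _).1 (ha ▸ Submodule.subset_span ⟨j, rfl⟩))
  refine ⟨r, m, _, Q, g, hg, surjective_of_cotangent_cring Q.ring S g hg (le_antisymm (sup_le
    (Ideal.map_le_iff_le_comap.2 fun x hx => ?_) (Ideal.pow_le_self two_ne_zero)) ?_)⟩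
  · exact (CRing.mem_maximalIdeal_iff S _).2 ((congrArg (fun t : Q.ring.carrier →ₐ[Λ] k => t x) hg).trans
      ((CRing.mem_maximalIdeal_iff _ x).1 hx))
  · refine le_sup_of_le_left ?_
    conv_lhs => rw [← ha]
    rw [Submodule.span_le]
    rintro _ ⟨j, rfl⟩
    have h := Ideal.mem_map_of_mem g ((CRing.mem_maximalIdeal_iff _ _).2 (Q.res_X (Sum.inr j)))
    rwa [hgX] at h

theorem isAdicFormallySmooth_of_isSmoothFunctor (R : CRing Λ k) (hR' : IsSmoothFunctor (hR R.carrier R.res)) :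
    CAlgX.IsAdicFormallySmooth Λ R.carrier (maximalIdeal R.carrier) := by
  obtain ⟨r, m, c, Q, g, hg, hgs⟩ := exists_presentation R
  obtain ⟨s, hs, hgs'⟩ := exists_section hR' g hg hgs
  intro A _ _ J hJ ψ hψ
  obtain ⟨e, he⟩ := hψ
  have hle : (maximalIdeal Q.ring.carrier).map g ≤ maximalIdeal R.carrier := Ideal.map_le_iff_le_comap.2 fun a ha =>
    (CRing.mem_maximalIdeal_iff R _).2 ((congrArg (fun t : Q.ring.carrier →ₐ[Λ] k => t a) hg).trans
      ((CRing.mem_maximalIdeal_iff _ a).1 ha))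
  obtain ⟨χ, hχ⟩ := Q.adic A J hJ (ψ.comp g) ⟨e, fun x hx => he _
    (Ideal.pow_right_mono hle e (Ideal.map_pow g _ e ▸ Ideal.mem_map_of_mem g hx))⟩
  exact ⟨χ.comp s, by rw [← AlgHom.comp_assoc, hχ, AlgHom.comp_assoc, hgs', AlgHom.comp_id]⟩

omit [IsNoetherianRing Λ] [Module.Finite Λ k] in
theorem isSmoothFunctor_of_isAdicFormallySmooth (R : CRing Λ k)
    (h : CAlgX.IsAdicFormallySmooth Λ R.carrier (maximalIdeal R.carrier)) : IsSmoothFunctor (hR R.carrier R.res) := by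
  intro B A μ hμ
  refine surjective_induction (P := fun A B μ => Function.Surjective ((hR R.carrier R.res).map μ)) ?_ ?_ ?_ μ hμ
  · intro A B e he
    exact (map_bij_of_isIso _ e).2
  · intro A B μ hμ φ
    let J : Ideal B := RingHom.ker μ.toAlgHom
    have hJ : J ^ 2 = ⊥ := by
      rw [pow_two, eq_bot_iff]
      exact (Ideal.mul_mono_left (ker_le_maximalIdeal μ)).trans hμ.2.2.2.le
    let e := Ideal.quotientKerAlgEquivOfSurjective (f := μ.toAlgHom) hμ.1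
    obtain ⟨n, hn⟩ := exists_pow_kill R φ
    obtain ⟨χ, hχ⟩ := h B J hJ (e.symm.toAlgHom.comp φ.1) ⟨n, fun x hx => by
      change e.symm (φ.1 x) = 0
      rw [hn x hx, map_zero]⟩
    have hμχ : ∀ x, μ.toAlgHom (χ x) = φ.1 x := fun x => by
      have h1 : Ideal.Quotient.mk J (χ x) = e.symm (φ.1 x) := congrArg (fun t : R.carrier →ₐ[Λ] B ⧸ J => t x) hχ
      rw [eq_comm, AlgEquiv.symm_apply_eq] at h1
      exact h1.symm
    refine ⟨⟨χ, AlgHom.ext fun x => ?_⟩, Subtype.ext (AlgHom.ext hμχ)⟩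
    change B.res (χ x) = R.res x
    rw [← res_app μ (χ x)]
    exact (congrArg A.res (hμχ x)).trans (congrArg (fun t : R.carrier →ₐ[Λ] k => t x) φ.2)
  · intro A B C p r _ _ hp hr z
    obtain ⟨y, rfl⟩ := hr z
    obtain ⟨x, rfl⟩ := hp y
    exact ⟨x, FunctorToTypes.map_comp_apply _ p r x⟩

/-- Coproducts with prescribed relations. -/
theorem exists_pushout_rel (S₁ S₂ : CRing Λ k) {κ : Type u} (a₁ : κ → S₁.carrier) (a₂ : κ → S₂.carrier)
    (ha : ∀ x, S₁.res (a₁ x) = S₂.res (a₂ x)) :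
    ∃ (P : CRing Λ k) (i₁ : S₁.carrier →ₐ[Λ] P.carrier) (i₂ : S₂.carrier →ₐ[Λ] P.carrier),
      P.res.comp i₁ = S₁.res ∧ P.res.comp i₂ = S₂.res ∧ (∀ x, i₁ (a₁ x) = i₂ (a₂ x)) ∧
      ∀ (T : CRing Λ k) (g₁ : S₁.carrier →ₐ[Λ] T.carrier) (g₂ : S₂.carrier →ₐ[Λ] T.carrier),
        T.res.comp g₁ = S₁.res → T.res.comp g₂ = S₂.res → (∀ x, g₁ (a₁ x) = g₂ (a₂ x)) →
        ∃! h : P.carrier →ₐ[Λ] T.carrier, T.res.comp h = P.res ∧ h.comp i₁ = g₁ ∧ h.comp i₂ = g₂ := by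
  obtain ⟨r₁, m₁, c₁, Q₁, π₁, hπ₁, hs₁⟩ := exists_presentation S₁
  obtain ⟨r₂, m₂, c₂, Q₂, π₂, hπ₂, hs₂⟩ := exists_presentation S₂
  -- spare coordinates carrying generators of `k`
  obtain ⟨m, e, he⟩ := exists_generators Λ k
  let c : Fin m ⊕ ((Fin m₁ ⊕ Fin r₁) ⊕ (Fin m₂ ⊕ Fin r₂)) → k := Sum.elim e (Sum.elim c₁ c₂)
  obtain ⟨Q⟩ : Nonempty (FreeCRing (Λ := Λ) (Fin m ⊕ ((Fin m₁ ⊕ Fin r₁) ⊕ (Fin m₂ ⊕ Fin r₂))) c) :=
    nonempty_freeCRing _ fun a => by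
      obtain ⟨l, rfl⟩ := he a
      exact ⟨∑ i, l i • MvPolynomial.X (Sum.inl i), by simp [c]⟩
  obtain ⟨j₁, hj₁, hj₁X⟩ := Q₁.exists_hom_cring Q.ring (fun i => Q.X (Sum.inr (Sum.inl i))) (fun i => Q.res_X _)
  obtain ⟨j₂, hj₂, hj₂X⟩ := Q₂.exists_hom_cring Q.ring (fun i => Q.X (Sum.inr (Sum.inr i))) (fun i => Q.res_X _)
  choose b₁ hb₁ using fun x => hs₁ (a₁ x)
  choose b₂ hb₂ using fun x => hs₂ (a₂ x)
  -- the spare coordinates of the generators are identified with their images from `S₁`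
  choose w hw using fun i : Fin m => S₁.res_surjective (e i)
  choose w' hw' using fun i => hs₁ (w i)
  let rel : Set Q.ring.carrier := (j₁ '' {x | π₁ x = 0}) ∪ (j₂ '' {x | π₂ x = 0}) ∪
    Set.range (fun x => j₁ (b₁ x) - j₂ (b₂ x)) ∪ Set.range (fun i => Q.X (Sum.inl i) - j₁ (w' i))
  have hj₁r : ∀ x, Q.ring.res (j₁ x) = S₁.res (π₁ x) := fun x =>
    (congrArg (fun t : Q₁.ring.carrier →ₐ[Λ] k => t x) hj₁).trans (congrArg (fun t : Q₁.ring.carrier →ₐ[Λ] k => t x) hπ₁).symm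
  have hj₂r : ∀ x, Q.ring.res (j₂ x) = S₂.res (π₂ x) := fun x =>
    (congrArg (fun t : Q₂.ring.carrier →ₐ[Λ] k => t x) hj₂).trans (congrArg (fun t : Q₂.ring.carrier →ₐ[Λ] k => t x) hπ₂).symm
  have hJ : Ideal.span rel ≤ maximalIdeal Q.ring.carrier := Ideal.span_le.2 (by
    rintro _ (((⟨x, hx, rfl⟩ | ⟨x, hx, rfl⟩) | ⟨x, rfl⟩) | ⟨i, rfl⟩) <;>
      rw [SetLike.mem_coe, CRing.mem_maximalIdeal_iff]
    · rw [hj₁r, (hx : π₁ x = 0), map_zero]
    · rw [hj₂r, (hx : π₂ x = 0), map_zero]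
    · rw [map_sub, hj₁r, hj₂r, hb₁, hb₂, ha, sub_self]
    · rw [map_sub, Q.res_X, hj₁r, hw', hw]; exact sub_self _)
  let P := quotCRing Q.ring (Ideal.span rel) hJ
  let q := quotCMk Q.ring (Ideal.span rel) hJ
  have hq0 : ∀ x ∈ rel, q x = 0 := fun x hx => Ideal.Quotient.eq_zero_iff_mem.2 (Ideal.subset_span hx)
  obtain ⟨i₁, hi₁⟩ := exists_descend π₁ hs₁ (q.comp j₁) fun x hx => hq0 _ (Or.inl (Or.inl (Or.inl ⟨x, hx, rfl⟩)))
  obtain ⟨i₂, hi₂⟩ := exists_descend π₂ hs₂ (q.comp j₂) fun x hx => hq0 _ (Or.inl (Or.inl (Or.inr ⟨x, hx, rfl⟩)))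
  have hr₁ : P.res.comp i₁ = S₁.res := res_comp_of_descend hπ₁ hs₁ hi₁ (by rw [← AlgHom.comp_assoc, quotCMk_res, hj₁])
  have hr₂ : P.res.comp i₂ = S₂.res := res_comp_of_descend hπ₂ hs₂ hi₂ (by rw [← AlgHom.comp_assoc, quotCMk_res, hj₂])
  have hi₁' : ∀ y, i₁ (π₁ y) = q (j₁ y) := fun y => congrArg (fun t : Q₁.ring.carrier →ₐ[Λ] P.carrier => t y) hi₁
  have hi₂' : ∀ y, i₂ (π₂ y) = q (j₂ y) := fun y => congrArg (fun t : Q₂.ring.carrier →ₐ[Λ] P.carrier => t y) hi₂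
  refine ⟨P, i₁, i₂, hr₁, hr₂, fun x => ?_, fun T g₁ g₂ hg₁ hg₂ hg => ?_⟩
  · rw [← hb₁, ← hb₂, hi₁', hi₂', ← sub_eq_zero, ← map_sub]
    exact hq0 _ (Or.inl (Or.inr ⟨x, rfl⟩))
  · have hga₁ : ∀ y, T.res (g₁ y) = S₁.res y := fun y => congrArg (fun t : S₁.carrier →ₐ[Λ] k => t y) hg₁
    have hga₂ : ∀ y, T.res (g₂ y) = S₂.res y := fun y => congrArg (fun t : S₂.carrier →ₐ[Λ] k => t y) hg₂
    obtain ⟨h₀, hh₀, hh₀X⟩ := Q.exists_hom_cring T
      (Sum.elim (fun i => g₁ (w i)) (Sum.elim (fun i => g₁ (π₁ (Q₁.X i))) (fun i => g₂ (π₂ (Q₂.X i)))))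
      (fun i => by
        rcases i with i | i | i
        · exact (hga₁ _).trans (hw i)
        · exact (hga₁ _).trans ((congrArg (fun t : Q₁.ring.carrier →ₐ[Λ] k => t (Q₁.X i)) hπ₁).trans (Q₁.res_X i))
        · exact (hga₂ _).trans ((congrArg (fun t : Q₂.ring.carrier →ₐ[Λ] k => t (Q₂.X i)) hπ₂).trans (Q₂.res_X i)))
    have e₁ : h₀.comp j₁ = g₁.comp π₁ := Q₁.hom_ext_cring T (by rw [← AlgHom.comp_assoc, hh₀, hj₁])
      (by rw [← AlgHom.comp_assoc, hg₁, hπ₁]) fun i => (congrArg h₀ (hj₁X i)).trans (hh₀X _)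
    have e₂ : h₀.comp j₂ = g₂.comp π₂ := Q₂.hom_ext_cring T (by rw [← AlgHom.comp_assoc, hh₀, hj₂])
      (by rw [← AlgHom.comp_assoc, hg₂, hπ₂]) fun i => (congrArg h₀ (hj₂X i)).trans (hh₀X _)
    have e₁' : ∀ y, h₀ (j₁ y) = g₁ (π₁ y) := fun y => congrArg (fun t : Q₁.ring.carrier →ₐ[Λ] T.carrier => t y) e₁
    have e₂' : ∀ y, h₀ (j₂ y) = g₂ (π₂ y) := fun y => congrArg (fun t : Q₂.ring.carrier →ₐ[Λ] T.carrier => t y) e₂
    have hker : ∀ x, q x = 0 → h₀ x = 0 := fun x hx => RingHom.mem_ker.1 ((Ideal.span_le.2 (by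
      rintro _ (((⟨x, hx, rfl⟩ | ⟨x, hx, rfl⟩) | ⟨x, rfl⟩) | ⟨i, rfl⟩) <;> rw [SetLike.mem_coe, RingHom.mem_ker]
      · rw [e₁', (hx : π₁ x = 0), map_zero]
      · rw [e₂', (hx : π₂ x = 0), map_zero]
      · rw [map_sub, e₁', e₂', hb₁, hb₂, hg, sub_self]
      · rw [map_sub, hh₀X, e₁', hw']; exact sub_self _) : Ideal.span rel ≤ RingHom.ker h₀)
        (Ideal.Quotient.eq_zero_iff_mem.1 hx))
    obtain ⟨h, hh⟩ := exists_descend q (quotCMk_surjective _ _ hJ) h₀ hker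
    have hh' : ∀ x, h (q x) = h₀ x := fun x => congrArg (fun t : Q.ring.carrier →ₐ[Λ] T.carrier => t x) hh
    have hhr : T.res.comp h = P.res :=
      res_comp_of_descend (quotCMk_res Q.ring _ hJ) (quotCMk_surjective _ _ hJ) hh hh₀
    refine ⟨h, ⟨hhr, AlgHom.ext fun y => ?_, AlgHom.ext fun y => ?_⟩, fun h' hh'' => ?_⟩
    · obtain ⟨z, rfl⟩ := hs₁ y
      change h (i₁ (π₁ z)) = _
      rw [hi₁', hh', e₁']
    · obtain ⟨z, rfl⟩ := hs₂ y
      change h (i₂ (π₂ z)) = _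
      rw [hi₂', hh', e₂']
    · obtain ⟨hr', hl, hl'⟩ := hh''
      have hq_eq : h'.comp q = h₀ := Q.hom_ext_cring T (by rw [← AlgHom.comp_assoc, hr', quotCMk_res]) hh₀ fun i => by
        rw [hh₀X]
        rcases i with i | i | i
        · have hx : q (Q.X (Sum.inl i)) = q (j₁ (w' i)) := sub_eq_zero.1 (by rw [← map_sub]; exact hq0 _ (Or.inr ⟨i, rfl⟩))
          change h' (q _) = _
          rw [hx, ← hi₁', hw']
          exact congrArg (fun t : S₁.carrier →ₐ[Λ] T.carrier => t (w i)) hl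
        · change h' (q _) = _
          rw [← hj₁X, ← hi₁']
          exact congrArg (fun t : S₁.carrier →ₐ[Λ] T.carrier => t (π₁ (Q₁.X i))) hl
        · change h' (q _) = _
          rw [← hj₂X, ← hi₂']
          exact congrArg (fun t : S₂.carrier →ₐ[Λ] T.carrier => t (π₂ (Q₂.X i))) hl'
      refine AlgHom.ext fun x => ?_
      obtain ⟨y, rfl⟩ := quotCMk_surjective Q.ring _ hJ x
      exact (congrArg (fun t : Q.ring.carrier →ₐ[Λ] T.carrier => t y) hq_eq).trans (hh' y).symm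

end Groth.Agent.H9Art
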