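import Groth.Agent.Lib.H9ArtLift
import Groth.Agent.Lib.CompleteNoetherian
import Groth.Prelude.Def_CAlgX
import Mathlib.RingTheory.AdicCompletion.LocalRing
import Mathlib.RingTheory.Polynomial.Basic
import Mathlib.RingTheory.Ideal.Quotient.Noetherian

/-!
The free coefficient rings: completion of a polynomial ring at a `k`-point.
-/

set_option backward.isDefEq.respectTransparency false
set_option backward.isDefEq.respectTransparency.types false
set_option linter.deprecated false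
set_option linter.unusedTactic false

universe u v

open CategoryTheory

namespace Groth.Agent.H9Art

open ArtFun ArtFun.Art IsLocalRing MvPolynomial

variable {Λ : Type u} {k : Type u} [CommRing Λ] [Field k] [Algebra Λ k] [IsNoetherianRing Λ]

/-- A coefficient ring with free coordinates `X` reducing to `c`. -/
structure FreeCRing (ι : Type) (c : ι → k) : Type (u + 1) where
  /-- the ring -/
  ring : CRing Λ k
  /-- the coordinates -/
  X : ι → ring.carrier
  res_X : ∀ i, ring.res (X i) = c i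
  hom_exists : ∀ (A : Art Λ k) (a : ι → A), (∀ i, A.res (a i) = c i) →
    ∃ φ : HomSet ring.carrier ring.res A, ∀ i, φ.1 (X i) = a i
  hom_ext : ∀ (A : Art Λ k) (φ ψ : HomSet ring.carrier ring.res A),
    (∀ i, φ.1 (X i) = ψ.1 (X i)) → φ = ψ
  adic : CAlgX.IsAdicFormallySmooth Λ ring.carrier (IsLocalRing.maximalIdeal ring.carrier)

section Construction

variable {ι : Type} [Finite ι] (c : ι → k)

/-- The ideal of the point. -/
noncomputable def pointIdeal : Ideal (MvPolynomial ι Λ) := RingHom.ker (aeval c : MvPolynomial ι Λ →ₐ[Λ] k)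

theorem nonempty_freeCRing (hc : Function.Surjective (aeval c : MvPolynomial ι Λ →ₐ[Λ] k)) :
    Nonempty (FreeCRing (Λ := Λ) ι c) := by
  let K := pointIdeal (Λ := Λ) c
  haveI : K.IsMaximal := RingHom.ker_isMaximal_of_surjective _ hc
  have fg : K.FG := IsNoetherian.noetherian K
  let P := AdicCompletion K (MvPolynomial ι Λ)
  let M : Ideal P := K.map (algebraMap (MvPolynomial ι Λ) P)
  haveI : IsAdicComplete M P := AdicCompletion.isAdicComplete_self K fg
  haveI hM : M.IsMaximal := AdicCompletion.isMaximal_map_of_le K K le_rfl fg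
  haveI : IsLocalRing P := isLocalRing_of_isAdicComplete_maximal M
  haveI : IsNoetherianRing P := by
    letI := Ideal.Quotient.field M
    exact CplNoeth.isNoetherianRing_of_isAdicComplete M (fg.map _)
  have hMeq : maximalIdeal P = M := (eq_maximalIdeal hM).symm
  let res : P →ₐ[Λ] k :=
    (Ideal.Quotient.liftₐ K (aeval c) (fun _ ha => RingHom.mem_ker.1 ha)).comp
      ((AdicCompletion.evalOneₐ K).restrictScalars Λ)
  have hres : ∀ q, res (algebraMap (MvPolynomial ι Λ) P q) = aeval c q := fun q => rfl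
  let R : CRing Λ k :=
    { carrier := P, res := res, res_surjective := (fun a => by obtain ⟨q, rfl⟩ := hc a; exact ⟨_, hres q⟩),
      isAdicComplete := hMeq ▸ (inferInstance : IsAdicComplete M P) }
  have approx : ∀ (n : ℕ) (p : P), ∃ q : MvPolynomial ι Λ,
      p - algebraMap (MvPolynomial ι Λ) P q ∈ M ^ n := by
    intro n p
    obtain ⟨q, hq⟩ := Ideal.Quotient.mk_surjective (AdicCompletion.evalₐ K n p)
    refine ⟨q, ?_⟩
    have h0 : AdicCompletion.evalₐ K n (p - algebraMap (MvPolynomial ι Λ) P q) = 0 := by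
      rw [map_sub, AlgHom.commutes, ← hq]
      exact sub_self _
    have hle : (K ^ n : Ideal _) ≤ K ^ n • ⊤ := by simp
    have h1 : p - algebraMap (MvPolynomial ι Λ) P q ∈
        (AdicCompletion.eval K (MvPolynomial ι Λ) n).ker := by
      rw [LinearMap.mem_ker, ← AdicCompletion.factor_evalₐ_eq_eval K _ hle, h0, map_zero]
    rw [← AdicCompletion.pow_smul_top_eq_ker_eval fg, Ideal.smul_top_eq_map,
      Submodule.restrictScalars_mem, Ideal.map_pow] at h1
    exact h1
  have hkill : ∀ (A : Art Λ k) (φ : HomSet R.carrier R.res A), ∃ n, ∀ p ∈ M ^ n, φ.1 p = 0 := by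
    intro A φ
    obtain ⟨n, hn⟩ := exists_pow_maximalIdeal_eq_bot A
    refine ⟨n, fun p hp => ?_⟩
    have hle : M.map φ.1 ≤ maximalIdeal A := Ideal.map_le_iff_le_comap.2 fun a ha => by
      rw [Ideal.mem_comap, Art.mem_maximalIdeal_iff]
      exact (congrArg (fun t : R.carrier →ₐ[Λ] k => t a) φ.2).trans
        ((CRing.mem_maximalIdeal_iff R a).1 (hMeq ▸ ha))
    have h1 : φ.1 p ∈ maximalIdeal A ^ n :=
      Ideal.pow_right_mono hle n (Ideal.map_pow φ.1 M n ▸ Ideal.mem_map_of_mem φ.1 hp)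
    rwa [hn, Ideal.mem_bot] at h1
  refine ⟨⟨R, fun i => algebraMap (MvPolynomial ι Λ) P (MvPolynomial.X i), fun i => (hres _).trans (aeval_X c i), ?_, ?_, ?_⟩⟩
  · intro A a ha
    obtain ⟨n, hn⟩ := exists_pow_maximalIdeal_eq_bot A
    have hcomp : A.res.comp (aeval a) = (aeval c : MvPolynomial ι Λ →ₐ[Λ] k) := by
      refine MvPolynomial.algHom_ext fun i => ?_
      change A.res (aeval a (MvPolynomial.X i)) = _
      rw [aeval_X, aeval_X, ha]
    have hle : K.map (aeval a : MvPolynomial ι Λ →ₐ[Λ] A) ≤ maximalIdeal A :=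
      Ideal.map_le_iff_le_comap.2 fun q hq => by
        rw [Ideal.mem_comap, Art.mem_maximalIdeal_iff]
        exact (congrArg (fun t : MvPolynomial ι Λ →ₐ[Λ] k => t q) hcomp).trans (RingHom.mem_ker.1 hq)
    have hk : ∀ q ∈ K ^ (n + 1), (aeval a : MvPolynomial ι Λ →ₐ[Λ] A) q = 0 := fun q hq => by
      have h1 : aeval a q ∈ maximalIdeal A ^ (n + 1) :=
        Ideal.pow_right_mono hle _ (Ideal.map_pow (aeval a : MvPolynomial ι Λ →ₐ[Λ] A) K _ ▸
          Ideal.mem_map_of_mem _ hq)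
      rwa [pow_succ, hn, Ideal.bot_mul, Ideal.mem_bot] at h1
    let f : P →ₐ[Λ] A := (Ideal.Quotient.liftₐ (K ^ (n + 1)) (aeval a) hk).comp
      ((AdicCompletion.evalₐ K (n + 1)).restrictScalars Λ)
    have hf : ∀ q, f (algebraMap (MvPolynomial ι Λ) P q) = aeval a q := fun q => by
      change Ideal.Quotient.liftₐ (K ^ (n + 1)) (aeval a) hk (AdicCompletion.evalₐ K (n + 1) (algebraMap (MvPolynomial ι Λ) P q)) = _
      rw [AlgHom.commutes]
      rfl
    refine ⟨⟨f, AlgHom.ext fun p => ?_⟩, fun i => (hf _).trans (aeval_X a i)⟩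
    obtain ⟨q, hq⟩ := approx (n + 1) p
    have h1 : f (p - algebraMap (MvPolynomial ι Λ) P q) = 0 := by
      have h2 : M ^ (n + 1) ≤ RingHom.ker f := by
        rw [← Ideal.map_pow, Ideal.map_le_iff_le_comap]
        intro r hr
        rw [Ideal.mem_comap, RingHom.mem_ker, hf, hk r hr]
      exact RingHom.mem_ker.1 (h2 hq)
    rw [map_sub, sub_eq_zero, hf] at h1
    have h3 : res (p - algebraMap (MvPolynomial ι Λ) P q) = 0 :=
      (CRing.mem_maximalIdeal_iff R _).1 (hMeq ▸ Ideal.pow_le_self n.succ_ne_zero hq)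
    rw [map_sub, sub_eq_zero, hres] at h3
    change A.res (f p) = res p
    rw [h1, h3]
    exact congrArg (fun t : MvPolynomial ι Λ →ₐ[Λ] k => t q) hcomp
  · intro A φ ψ h
    obtain ⟨n, hn⟩ := hkill A φ
    obtain ⟨m, hm⟩ := hkill A ψ
    refine Subtype.ext (AlgHom.ext fun p => ?_)
    obtain ⟨q, hq⟩ := approx (n + m) p
    have h1 : φ.1 p = φ.1 (algebraMap (MvPolynomial ι Λ) P q) := sub_eq_zero.1
      ((map_sub φ.1 _ _).symm.trans (hn _ (Ideal.pow_le_pow_right (Nat.le_add_right n m) hq)))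
    have h2 : ψ.1 p = ψ.1 (algebraMap (MvPolynomial ι Λ) P q) := sub_eq_zero.1
      ((map_sub ψ.1 _ _).symm.trans (hm _ (Ideal.pow_le_pow_right (Nat.le_add_left m n) hq)))
    rw [h1, h2]
    have h3 : φ.1.comp (IsScalarTower.toAlgHom Λ (MvPolynomial ι Λ) P) =
        ψ.1.comp (IsScalarTower.toAlgHom Λ (MvPolynomial ι Λ) P) :=
      MvPolynomial.algHom_ext fun i => h i
    exact congrArg (fun t : MvPolynomial ι Λ →ₐ[Λ] A => t q) h3
  · intro A _ _ J hJ ψ hψ
    obtain ⟨e, he⟩ := hψ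
    choose a ha using fun i : ι => Ideal.Quotient.mk_surjective (ψ (algebraMap (MvPolynomial ι Λ) P (MvPolynomial.X i)))
    have hcomp : (Ideal.Quotient.mkₐ Λ J).comp (aeval a) = ψ.comp (IsScalarTower.toAlgHom Λ (MvPolynomial ι Λ) P) := by
      refine MvPolynomial.algHom_ext fun i => ?_
      change Ideal.Quotient.mk J (aeval a (MvPolynomial.X i)) = _
      rw [aeval_X, ha]
      rfl
    have hKJ : (K ^ e).map (aeval a : MvPolynomial ι Λ →ₐ[Λ] A) ≤ J := Ideal.map_le_iff_le_comap.2 fun q hq => by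
      rw [Ideal.mem_comap, ← Ideal.Quotient.eq_zero_iff_mem]
      refine (congrArg (fun t : MvPolynomial ι Λ →ₐ[Λ] A ⧸ J => t q) hcomp).trans ?_
      have hm : algebraMap (MvPolynomial ι Λ) P q ∈ M ^ e := by
        rw [← Ideal.map_pow]; exact Ideal.mem_map_of_mem _ hq
      exact he _ (hMeq ▸ hm)
    have hk : ∀ q ∈ K ^ (e * 2), (aeval a : MvPolynomial ι Λ →ₐ[Λ] A) q = 0 := fun q hq => by
      have h1 : aeval a q ∈ J ^ 2 := Ideal.pow_right_mono hKJ 2
        (Ideal.map_pow (aeval a : MvPolynomial ι Λ →ₐ[Λ] A) (K ^ e) 2 ▸ Ideal.mem_map_of_mem _ (pow_mul K e 2 ▸ hq))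
      rwa [hJ, Ideal.mem_bot] at h1
    refine ⟨(Ideal.Quotient.liftₐ (K ^ (e * 2)) (aeval a) hk).comp
      ((AdicCompletion.evalₐ K (e * 2)).restrictScalars Λ), AlgHom.ext fun p => ?_⟩
    obtain ⟨q, hq⟩ := approx (e * 2) p
    have hf : ∀ r, (Ideal.Quotient.liftₐ (K ^ (e * 2)) (aeval a) hk)
        (AdicCompletion.evalₐ K (e * 2) (algebraMap (MvPolynomial ι Λ) P r)) = aeval a r := fun r => by
      rw [AlgHom.commutes]; rfl
    let f : P →ₐ[Λ] A := (Ideal.Quotient.liftₐ (K ^ (e * 2)) (aeval a) hk).comp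
      ((AdicCompletion.evalₐ K (e * 2)).restrictScalars Λ)
    have h2 : M ^ (e * 2) ≤ RingHom.ker f := by
      rw [← Ideal.map_pow, Ideal.map_le_iff_le_comap]
      intro r hr
      rw [Ideal.mem_comap, RingHom.mem_ker]
      exact (hf r).trans (hk r hr)
    have h1 : f p = f (algebraMap (MvPolynomial ι Λ) P q) := sub_eq_zero.1
      ((map_sub f _ _).symm.trans (RingHom.mem_ker.1 (h2 hq)))
    have h3 : ψ p = ψ (algebraMap (MvPolynomial ι Λ) P q) := sub_eq_zero.1
      ((map_sub ψ _ _).symm.trans (he _ (hMeq ▸ Ideal.pow_le_pow_right (Nat.le_mul_of_pos_right e two_pos) hq)))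
    change Ideal.Quotient.mk J (f p) = ψ p
    rw [h1, h3, show f (algebraMap (MvPolynomial ι Λ) P q) = aeval a q from hf q]
    exact congrArg (fun t : MvPolynomial ι Λ →ₐ[Λ] A ⧸ J => t q) hcomp

end Construction

variable [Module.Finite Λ k]

variable (Λ k) in
/-- Coordinates for generators of `k`. -/
lemma exists_generators : ∃ (m : ℕ) (e : Fin m → k), ∀ a : k, ∃ l : Fin m → Λ, ∑ i, l i • e i = a := by
  obtain ⟨m, e, he⟩ := Module.Finite.exists_fin (R := Λ) (M := k)
  exact ⟨m, e, fun a => (Submodule.mem_span_range_iff_exists_fun Λ).1 (he ▸ Submodule.mem_top)⟩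

/-- Free coefficient rings on chosen lifts of generators and `d` parameters. -/
lemma nonempty_freeCRing_sum {m d : ℕ} (e : Fin m → k) (he : ∀ a : k, ∃ l : Fin m → Λ, ∑ i, l i • e i = a) :
    Nonempty (FreeCRing (Λ := Λ) (Fin m ⊕ Fin d) (Sum.elim e 0)) := by
  refine nonempty_freeCRing _ fun a => ?_
  obtain ⟨l, rfl⟩ := he a
  exact ⟨∑ i, l i • MvPolynomial.X (Sum.inl i), by simp⟩

namespace FreeCRing

variable {ι : Type} {c : ι → k} (P : FreeCRing (Λ := Λ) ι c)

omit [Module.Finite Λ k] [IsNoetherianRing Λ] in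
lemma isSmoothFunctor : IsSmoothFunctor (hR P.ring.carrier P.ring.res) := by
  intro B A μ hμ φ
  choose b hb using fun i => hμ (φ.1 (P.X i))
  obtain ⟨ψ, hψ⟩ := P.hom_exists B b (fun i => by
    rw [← res_app μ (b i), hb i]
    exact (congrArg (fun t : P.ring.carrier →ₐ[Λ] k => t (P.X i)) φ.2).trans (P.res_X i))
  exact ⟨ψ, P.hom_ext A _ _ fun i => (congrArg μ.toAlgHom (hψ i)).trans (hb i)⟩

omit [Module.Finite Λ k] [IsNoetherianRing Λ] in
lemma exists_hom_cring (T : CRing Λ k) (a : ι → T.carrier) (ha : ∀ i, T.res (a i) = c i) :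
    ∃ g : P.ring.carrier →ₐ[Λ] T.carrier, T.res.comp g = P.ring.res ∧ ∀ i, g (P.X i) = a i := by
  choose φ hφ using fun n => P.hom_exists (T.trunc n) (fun i => (T.truncHom n).1 (a i))
    (fun i => (congrArg (fun t : T.carrier →ₐ[Λ] k => t (a i)) (T.truncHom n).2).trans (ha i))
  have hc : ∀ n, HomSet.map (T.truncMap n) (φ (n + 1)) = φ n := fun n => P.hom_ext _ _ _ fun i => by
    rw [hφ n i, ← T.truncMap_truncHom n]
    exact congrArg (T.truncMap n).toAlgHom (hφ (n + 1) i)
  obtain ⟨g, hg, hgn⟩ := exists_lim T φ hc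
  refine ⟨g, hg, fun i => ?_⟩
  refine sub_eq_zero.1 ?_
  have hx : g (P.X i) - a i ∈ ⨅ j : ℕ, maximalIdeal T.carrier ^ j := Ideal.mem_iInf.2 fun j =>
    Ideal.pow_le_pow_right j.le_succ (Ideal.Quotient.eq.1
      ((congrArg (fun t : P.ring.carrier →ₐ[Λ] _ => t (P.X i)) (hgn j)).trans (hφ j i)))
  rwa [Ideal.iInf_pow_eq_bot_of_isLocalRing _ (IsLocalRing.maximalIdeal.isMaximal T.carrier).ne_top,
    Ideal.mem_bot] at hx

omit [Module.Finite Λ k] [IsNoetherianRing Λ] in
lemma hom_ext_cring (T : CRing Λ k) {g₁ g₂ : P.ring.carrier →ₐ[Λ] T.carrier}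
    (h₁ : T.res.comp g₁ = P.ring.res) (h₂ : T.res.comp g₂ = P.ring.res)
    (h : ∀ i, g₁ (P.X i) = g₂ (P.X i)) : g₁ = g₂ := hom_ext_trunc T fun n =>
  congrArg Subtype.val (P.hom_ext (T.trunc n)
    ⟨(T.truncHom n).1.comp g₁, by rw [← AlgHom.comp_assoc, (T.truncHom n).2, h₁]⟩
    ⟨(T.truncHom n).1.comp g₂, by rw [← AlgHom.comp_assoc, (T.truncHom n).2, h₂]⟩
    fun i => congrArg (T.truncHom n).1 (h i))

end FreeCRing

end Groth.Agent.H9Art
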