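import Groth.Agent.Lib.H9ArtLimit

/-!
Schlessinger's construction of versal families as quotients of a smooth coefficient ring.
-/

set_option backward.isDefEq.respectTransparency false
set_option backward.isDefEq.respectTransparency.types false
set_option linter.deprecated false
set_option linter.unusedTactic false

universe u v

open CategoryTheory

namespace Groth.Agent.H9Art

open ArtFun ArtFun.Art IsLocalRing

variable {Λ : Type u} {k : Type u} [CommRing Λ] [Field k] [Algebra Λ k]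

section QArt

variable (P : CRing Λ k)

/-- An Artinian quotient of a coefficient ring. -/
structure Qt where
  /-- the ideal -/
  J : Ideal P.carrier
  le : J ≤ maximalIdeal P.carrier
  fin : ∃ n : ℕ, maximalIdeal P.carrier ^ n ≤ J

variable {P}

instance Qt.nontrivial (s : Qt P) : Nontrivial (P.carrier ⧸ s.J) := Ideal.Quotient.nontrivial_iff.2
    (ne_top_of_le_ne_top (IsLocalRing.maximalIdeal.isMaximal P.carrier).ne_top s.le)

instance Qt.isLocalRing (s : Qt P) : IsLocalRing (P.carrier ⧸ s.J) :=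
  IsLocalRing.of_surjective' (Ideal.Quotient.mk s.J) Ideal.Quotient.mk_surjective

lemma Qt.maximalIdeal_le (s : Qt P) :
    maximalIdeal (P.carrier ⧸ s.J) ≤ (maximalIdeal P.carrier).map (Ideal.Quotient.mk s.J) := by
  intro x hx
  obtain ⟨a, rfl⟩ := Ideal.Quotient.mk_surjective x
  refine Ideal.mem_map_of_mem _ ?_
  rw [IsLocalRing.mem_maximalIdeal] at hx ⊢
  exact fun hu => hx (hu.map (Ideal.Quotient.mk s.J))

theorem Qt.isArtinianRing (s : Qt P) : IsArtinianRing (P.carrier ⧸ s.J) := by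
  rw [isArtinianRing_iff_isNilpotent_maximalIdeal]
  obtain ⟨n, hn⟩ := s.fin
  refine ⟨n, ?_⟩
  rw [Ideal.zero_eq_bot, ← le_bot_iff]
  refine (Ideal.pow_right_mono s.maximalIdeal_le n).trans ?_
  rw [← Ideal.map_pow]
  exact (Ideal.map_mono hn).trans (Ideal.map_quotient_self _).le

/-- The quotient as an object. -/
noncomputable def Qt.art (s : Qt P) : Art Λ k :=
  { carrier := P.carrier ⧸ s.J
    isArtinianRing := s.isArtinianRing
    res := Ideal.Quotient.liftₐ s.J P.res (fun _ ha => (CRing.mem_maximalIdeal_iff P _).1 (s.le ha))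
    res_surjective := fun a => by
      obtain ⟨p, rfl⟩ := P.res_surjective a
      exact ⟨Ideal.Quotient.mk s.J p, rfl⟩ }

/-- The projection. -/
noncomputable def Qt.hom (s : Qt P) : HomSet P.carrier P.res s.art :=
  ⟨Ideal.Quotient.mkₐ Λ s.J, Ideal.Quotient.liftₐ_comp _ _ _⟩

lemma Qt.hom_surjective (s : Qt P) : Function.Surjective s.hom.1 := Ideal.Quotient.mk_surjective

lemma Qt.hom_eq_zero (s : Qt P) {p : P.carrier} : s.hom.1 p = 0 ↔ p ∈ s.J := Ideal.Quotient.eq_zero_iff_mem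

lemma Qt.hom_eq (s : Qt P) {p q : P.carrier} : s.hom.1 p = s.hom.1 q ↔ p - q ∈ s.J := Ideal.Quotient.eq

lemma Qt.exists_factor (s : Qt P) {X : Art Λ k} (φ : HomSet P.carrier P.res X)
    (h : ∀ p ∈ s.J, φ.1 p = 0) : ∃ g : s.art ⟶ X, HomSet.map g s.hom = φ :=
  ⟨⟨Ideal.Quotient.liftₐ s.J φ.1 h, AlgHom.ext fun x => by
    obtain ⟨a, rfl⟩ := Ideal.Quotient.mk_surjective x
    exact congrArg (fun t : P.carrier →ₐ[Λ] k => t a) φ.2⟩, Subtype.ext (AlgHom.ext fun _ => rfl)⟩

lemma Qt.hom_ext (s : Qt P) {X : Art Λ k} {g₁ g₂ : s.art ⟶ X}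
    (h : HomSet.map g₁ s.hom = HomSet.map g₂ s.hom) : g₁ = g₂ :=
  Art.hom_ext (AlgHom.ext fun x => by
    obtain ⟨a, rfl⟩ := s.hom_surjective x
    exact congrArg (fun t : HomSet P.carrier P.res X => t.1 a) h)

/-- The transition map. -/
noncomputable def Qt.map {s t : Qt P} (h : s.J ≤ t.J) : s.art ⟶ t.art :=
  (s.exists_factor t.hom fun _ hp => t.hom_eq_zero.2 (h hp)).choose

lemma Qt.map_hom {s t : Qt P} (h : s.J ≤ t.J) : HomSet.map (Qt.map h) s.hom = t.hom :=
  (s.exists_factor t.hom fun _ hp => t.hom_eq_zero.2 (h hp)).choose_spec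

lemma Qt.map_comp {r s t : Qt P} (h : r.J ≤ s.J) (h' : s.J ≤ t.J) :
    Qt.map h ≫ Qt.map h' = Qt.map (h.trans h') :=
  r.hom_ext (by rw [homSet_map_comp, Qt.map_hom, Qt.map_hom, Qt.map_hom])

lemma Qt.map_self (s : Qt P) : Qt.map (le_refl s.J) = 𝟙 _ :=
  s.hom_ext (by rw [Qt.map_hom, homSet_map_id])

lemma Qt.map_apply {s t : Qt P} (h : s.J ≤ t.J) (p : P.carrier) : Qt.map h (s.hom.1 p) = t.hom.1 p :=
  congrArg (fun u : HomSet P.carrier P.res t.art => u.1 p) (Qt.map_hom h)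

lemma Qt.map_surjective {s t : Qt P} (h : s.J ≤ t.J) : Function.Surjective (Qt.map h) := fun x => by
  obtain ⟨p, rfl⟩ := t.hom_surjective x
  exact ⟨s.hom.1 p, Qt.map_apply h p⟩

end QArt

variable {F : Art Λ k ⥤ Type v} {P : CRing Λ k}

/-- A stage of the construction. -/
structure Stage (P : CRing Λ k) (F : Art Λ k ⥤ Type v) where
  /-- the quotient -/
  qt : Qt P
  /-- the element -/
  elt : F.obj qt.art

/-- `J` admits a lift of the element of `s`. -/
def Lifts (s : Stage P F) (J : Ideal P.carrier) : Prop :=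
  ∃ (t : Qt P) (h : t.J ≤ s.qt.J), t.J = J ∧ ∃ y : F.obj t.art, F.map (Qt.map h) y = s.elt

lemma lifts_inf (h1 : S1 F) (s : Stage P F) {J₁ J₂ : Ideal P.carrier}
    (hm₁ : maximalIdeal P.carrier * s.qt.J ≤ J₁) (hm₂ : maximalIdeal P.carrier * s.qt.J ≤ J₂)
    (hJ₁ : Lifts s J₁) (hJ₂ : Lifts s J₂) : Lifts s (J₁ ⊓ J₂) := by
  obtain ⟨t₁, hI₁, rfl, y₁, hy₁⟩ := hJ₁
  obtain ⟨t₂, hI₂, rfl, y₂, hy₂⟩ := hJ₂
  set I := s.qt.J
  let T : Set (Ideal P.carrier) := {K | t₁.J ≤ K ∧ K ≤ I ∧ K ⊓ t₂.J ≤ t₁.J}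
  obtain ⟨K, ⟨hK₁, hKI, hK₂⟩, hKmax⟩ := wellFounded_gt.has_min T ⟨t₁.J, le_rfl, hI₁, inf_le_left⟩
  have hcomp : I ≤ K ⊔ t₂.J := by
    intro a ha
    by_contra haK
    have hlt : K < K ⊔ Ideal.span {a} := lt_of_le_of_ne le_sup_left fun e =>
      haK (Submodule.mem_sup_left (e ▸ (Submodule.mem_sup_right (Ideal.mem_span_singleton_self a))))
    refine hKmax _ ⟨hK₁.trans le_sup_left, sup_le hKI ((Ideal.span_singleton_le_iff_mem _).2 ha), ?_⟩ hlt
    rintro z ⟨hz₁, hz₂⟩
    obtain ⟨j, hj, w, hw, rfl⟩ := Submodule.mem_sup.1 hz₁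
    obtain ⟨c, rfl⟩ := Ideal.mem_span_singleton'.1 hw
    by_cases hc : IsUnit c
    · exfalso
      obtain ⟨u, rfl⟩ := hc
      refine haK ?_
      have hmem : (↑u⁻¹ : P.carrier) * (j + ↑u * a) - ↑u⁻¹ * j ∈ K ⊔ t₂.J :=
        sub_mem (Submodule.mem_sup_right (Ideal.mul_mem_left _ _ hz₂)) (Submodule.mem_sup_left (Ideal.mul_mem_left _ _ hj))
      rwa [mul_add, add_sub_cancel_left, ← mul_assoc, Units.inv_mul, one_mul] at hmem
    · have hca : c * a ∈ maximalIdeal P.carrier * I :=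
        Ideal.mul_mem_mul ((IsLocalRing.mem_maximalIdeal c).2 hc) ha
      refine t₁.J.add_mem (hK₂ ⟨hj, ?_⟩) (hm₁ hca)
      have hj2 := sub_mem hz₂ (hm₂ hca)
      rwa [add_sub_cancel_right] at hj2
  obtain ⟨n, hn⟩ := s.qt.fin
  have hmI : maximalIdeal P.carrier ^ (n + 1) ≤ maximalIdeal P.carrier * I := by
    rw [pow_succ']; exact Ideal.mul_mono_right hn
  let tK : Qt P := ⟨K, hKI.trans s.qt.le, ⟨n + 1, (hmI.trans hm₁).trans hK₁⟩⟩
  let tI : Qt P := ⟨t₁.J ⊓ t₂.J, inf_le_left.trans t₁.le, ⟨n + 1, le_inf (hmI.trans hm₁) (hmI.trans hm₂)⟩⟩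
  have hfp : IsFibreProd (Qt.map (s := tI) (t := tK) (inf_le_left.trans hK₁)) (Qt.map (s := tI) (t := t₂) inf_le_right)
      (Qt.map (s := tK) (t := s.qt) hKI) (Qt.map hI₂) := by
    refine ⟨by rw [Qt.map_comp, Qt.map_comp], fun u v e₁ e₂ => ?_, fun u v e => ?_⟩
    · obtain ⟨b, rfl⟩ := tI.hom_surjective u
      obtain ⟨c, rfl⟩ := tI.hom_surjective v
      rw [Qt.map_apply, Qt.map_apply, Qt.hom_eq] at e₁ e₂
      exact tI.hom_eq.2 ⟨hK₂ ⟨e₁, e₂⟩, e₂⟩
    · obtain ⟨b, rfl⟩ := tK.hom_surjective u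
      obtain ⟨c, rfl⟩ := t₂.hom_surjective v
      rw [Qt.map_apply, Qt.map_apply, Qt.hom_eq] at e
      obtain ⟨i, hi, j, hj, hij⟩ := Submodule.mem_sup.1 (hcomp e)
      refine ⟨tI.hom.1 (b - i), ?_, ?_⟩
      · rw [Qt.map_apply, Qt.hom_eq, sub_sub_cancel_left]; exact neg_mem hi
      · rw [Qt.map_apply, Qt.hom_eq, show b - i - c = j by linear_combination -hij]; exact hj
  obtain ⟨z, hz₁, hz₂⟩ := (cmp_surjective_iff hfp).1 (h1 _ _ _ _ hfp (Qt.map_surjective hI₂))
    (F.map (Qt.map (s := t₁) (t := tK) hK₁) y₁) y₂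
    (by rw [← FunctorToTypes.map_comp_apply, Qt.map_comp, hy₁, hy₂])
  refine ⟨tI, inf_le_left.trans hI₁, rfl, z, ?_⟩
  rw [← Qt.map_comp (r := tI) (s := t₂) (t := s.qt) inf_le_right hI₂, FunctorToTypes.map_comp_apply, hz₂, hy₂]

/-- The next stage: the smallest ideal to which the element lifts. -/
lemma exists_next (h1 : S1 F) (s : Stage P F) :
    ∃ (t : Stage P F) (h : t.qt.J ≤ s.qt.J), maximalIdeal P.carrier * s.qt.J ≤ t.qt.J ∧
      F.map (Qt.map h) t.elt = s.elt ∧
      ∀ J, maximalIdeal P.carrier * s.qt.J ≤ J → Lifts s J → t.qt.J ≤ J := by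
  obtain ⟨n, hn⟩ := s.qt.fin
  let M := maximalIdeal P.carrier * s.qt.J
  let tM : Qt P := ⟨M, Ideal.mul_le_right.trans s.qt.le, ⟨n + 1, by rw [pow_succ']; exact Ideal.mul_mono_right hn⟩⟩
  haveI : IsArtinianRing (P.carrier ⧸ M) := tM.art.isArtinianRing
  let S : Set (Ideal (P.carrier ⧸ M)) := {K | Lifts s (K.comap (Ideal.Quotient.mk M))}
  have hself : Lifts s s.qt.J := ⟨s.qt, le_rfl, rfl, s.elt, by rw [Qt.map_self, FunctorToTypes.map_id_apply]⟩
  have hcm : ∀ J, M ≤ J → (J.map (Ideal.Quotient.mk M)).comap (Ideal.Quotient.mk M) = J := fun J hJ => by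
    rw [Ideal.comap_map_of_surjective' _ Ideal.Quotient.mk_surjective, Ideal.mk_ker, sup_eq_left.2 hJ]
  obtain ⟨K, hK, hmin⟩ := wellFounded_lt.has_min S ⟨s.qt.J.map (Ideal.Quotient.mk M), by
    change Lifts s _
    rw [hcm _ Ideal.mul_le_right]
    exact hself⟩
  obtain ⟨t, h, ht, y, hy⟩ := hK
  have hMt : M ≤ t.J := ht ▸ (Ideal.mk_ker (I := M)).symm.le.trans (Ideal.comap_mono bot_le)
  refine ⟨⟨t, y⟩, h, hMt, hy, fun J hJ hlJ => ?_⟩
  have hinf := lifts_inf h1 s hMt hJ ⟨t, h, rfl, y, hy⟩ hlJ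
  by_contra hne
  refine hmin ((t.J ⊓ J).map (Ideal.Quotient.mk M)) ?_ ?_
  · change Lifts s _
    rw [hcm _ (le_inf hMt hJ)]
    exact hinf
  · refine lt_of_le_of_ne ?_ fun e => hne ?_
    · rw [Ideal.map_le_iff_le_comap, ← ht]; exact inf_le_left
    · have e' := congrArg (Ideal.comap (Ideal.Quotient.mk M)) e
      rw [hcm _ (le_inf hMt hJ), ← ht] at e'
      exact inf_eq_left.1 e'

/-- Schlessinger's construction. -/
theorem exists_versal_quotient (hP : IsSmoothFunctor (hR P.carrier P.res)) (h0 : H0 F) (h1 : S1 F)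
    (h2 : Heps F) (s₀ : Stage P F)
    (ht : ∀ θ : F.obj (dual Λ k), ∃ g : s₀.qt.art ⟶ dual Λ k, F.map g s₀.elt = θ) :
    ∃ (R : CRing Λ k) (q : P.carrier →ₐ[Λ] R.carrier) (_ : R.res.comp q = P.res)
      (ξ : Family R.carrier R.res F) (π₀ : HomSet R.carrier R.res s₀.qt.art), Function.Surjective q ∧
        IsVersal ξ ∧ (∀ p, π₀.1 (q p) = s₀.qt.hom.1 p) ∧ ξ.app _ π₀ = s₀.elt := by
  choose next hle hmul hcompat hleast using fun s : Stage P F => exists_next h1 s
  let st : ℕ → Stage P F := fun n => Nat.rec s₀ (fun _ s => next s) n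
  have hanti : Antitone fun n => (st n).qt.J := antitone_nat_of_succ_le fun n => hle (st n)
  have htr : ∀ {n m} (h : n ≤ m), F.map (Qt.map (hanti h)) (st m).elt = (st n).elt := by
    intro n m h
    induction h with
    | refl => rw [Qt.map_self, FunctorToTypes.map_id_apply]
    | @step m h ih =>
      rw [← Qt.map_comp (hle (st m)) (hanti h), FunctorToTypes.map_comp_apply]
      exact (congrArg (F.map (Qt.map (hanti h))) (hcompat (st m))).trans ih
  obtain ⟨R, q, hq, π, hqs, hπ, hπc, hπs, -, hcof, -⟩ := exists_limit P (fun n => (st n).qt.art)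
    (fun n => Qt.map (hle (st n))) (fun n => (st n).qt.hom) (fun n => Qt.map_hom _) (fun n => (st n).qt.hom_surjective)
  have hfac : ∀ (X : Art Λ k) (φ : HomSet R.carrier R.res X),
      ∃ (N : ℕ) (g : (st N).qt.art ⟶ X), HomSet.map g (π N) = φ := by
    intro X φ
    obtain ⟨j, hj⟩ := exists_pow_kill R φ
    obtain ⟨N, hN⟩ := hcof j
    obtain ⟨g, hg⟩ := (st N).qt.exists_factor ⟨φ.1.comp q, by rw [← AlgHom.comp_assoc, φ.2, hq]⟩ fun p hp =>
      hj _ (hN (RingHom.mem_ker.2 ((hπ N p).trans ((st N).qt.hom_eq_zero.2 hp))))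
    refine ⟨N, g, Subtype.ext (AlgHom.ext fun r => ?_)⟩
    obtain ⟨p, rfl⟩ := hqs r
    change g.toAlgHom ((π N).1 (q p)) = φ.1 (q p)
    rw [hπ]
    exact congrArg (fun t : HomSet P.carrier P.res X => t.1 p) hg
  have indep : ∀ (X : Art Λ k) (n m : ℕ) (a : (st n).qt.art ⟶ X) (b : (st m).qt.art ⟶ X),
      HomSet.map a (π n) = HomSet.map b (π m) → F.map a (st n).elt = F.map b (st m).elt := by
    intro X n m a b hab
    have e : Qt.map (hanti (le_max_left n m)) ≫ a = Qt.map (hanti (le_max_right n m)) ≫ b := by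
      refine Qt.hom_ext _ ?_
      rw [homSet_map_comp, homSet_map_comp, Qt.map_hom, Qt.map_hom]
      refine Subtype.ext (AlgHom.ext fun p => ?_)
      change a.toAlgHom ((st n).qt.hom.1 p) = b.toAlgHom ((st m).qt.hom.1 p)
      rw [← hπ, ← hπ]
      exact congrArg (fun t : HomSet R.carrier R.res X => t.1 (q p)) hab
    rw [← htr (le_max_left n m), ← htr (le_max_right n m), ← FunctorToTypes.map_comp_apply,
      ← FunctorToTypes.map_comp_apply, e]
  choose N g hg using hfac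
  let ξ : Family R.carrier R.res F :=
    { app := fun X φ => F.map (g X φ) (st (N X φ)).elt
      natural := fun {X Y} f φ => by
        rw [← FunctorToTypes.map_comp_apply]
        exact indep _ _ _ _ _ (by rw [hg, homSet_map_comp, hg]) }
  have hξπ : ∀ n, ξ.app _ (π n) = (st n).elt := fun n =>
    (indep _ _ n _ (𝟙 _) ((hg _ _).trans (homSet_map_id _).symm)).trans (FunctorToTypes.map_id_apply F _)
  refine ⟨R, q, hq, ξ, π 0, hqs, ?_, fun p => hπ 0 p, hξπ 0⟩
  intro B X μ hμ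
  refine surjective_induction (P := fun X B μ => ∀ (φ : HomSet R.carrier R.res X) (y : F.obj B),
    F.map μ y = ξ.app X φ → ∃ ψ, HomSet.map μ ψ = φ ∧ ξ.app B ψ = y) ?_ ?_ ?_ μ hμ
  · intro X B e he φ y hy
    refine ⟨HomSet.map (inv e) φ, ?_, ?_⟩
    · rw [← homSet_map_comp, IsIso.inv_hom_id, homSet_map_id]
    · rw [ξ.natural, ← hy, ← FunctorToTypes.map_comp_apply, IsIso.hom_inv_id, FunctorToTypes.map_id_apply]
  · intro X B μ hμ φ y hy
    suffices hlift : ∃ ψ, HomSet.map μ ψ = φ by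
      obtain ⟨ψ₀, hψ₀⟩ := hlift
      have htan : Function.Surjective (ξ.app (dual Λ k)) := fun θ => by
        obtain ⟨a, ha⟩ := ht θ
        exact ⟨HomSet.map a (π 0), (ξ.natural a (π 0)).trans ((congrArg (F.map a) (hξπ 0)).trans ha)⟩
      obtain ⟨z, hz₁, hz₂⟩ := lift_of_tangent (F := hR R.carrier R.res) (G := F) (fun A => ξ.app A)
        (fun g x => ξ.natural g x) (h0_hR _ _) (heps_hR _ _) h2 (hbar_of_s1 h1) htan μ hμ ψ₀ y
        (by rw [← ξ.natural, hψ₀, hy])
      exact ⟨z, hz₁.trans hψ₀, hz₂⟩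
    let n := N X φ
    let a : (st n).qt.art ⟶ X := g X φ
    have ha : HomSet.map a (π n) = φ := hg X φ
    obtain ⟨B', p₁, p₂, hB⟩ := exists_fibreProd a μ hμ.1
    have hp₁ : IsSmallExt p₁ := isSmallExt_fst hB hμ
    obtain ⟨z, hz₁, -⟩ := (cmp_surjective_iff hB).1 (h1 p₁ p₂ a μ hB hμ.1) (st n).elt y
      (by rw [hy, ← ha, ξ.natural, hξπ])
    obtain ⟨ψ₀, hψ₀⟩ := hP p₁ hp₁.1 (st n).qt.hom
    have hψ₀' : ∀ p, p₁.toAlgHom (ψ₀.1 p) = (st n).qt.hom.1 p := fun p =>
      congrArg (fun t : HomSet P.carrier P.res (st n).qt.art => t.1 p) hψ₀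
    have hJ : RingHom.ker ψ₀.1 ≤ (st n).qt.J := fun p hp => (st n).qt.hom_eq_zero.1 (by
      rw [← hψ₀', RingHom.mem_ker.1 hp, map_zero])
    have hmJ : maximalIdeal P.carrier * (st n).qt.J ≤ RingHom.ker ψ₀.1 := Ideal.mul_le.2 fun x hx i hi => by
      rw [RingHom.mem_ker, map_mul]
      have hxm : ψ₀.1 x ∈ maximalIdeal B' := (Art.mem_maximalIdeal_iff B' _).2
        ((congrArg (fun t : P.carrier →ₐ[Λ] k => t x) ψ₀.2).trans ((CRing.mem_maximalIdeal_iff P x).1 hx))
      have hik : ψ₀.1 i ∈ RingHom.ker p₁.toAlgHom := RingHom.mem_ker.2 ((hψ₀' i).trans ((st n).qt.hom_eq_zero.2 hi))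
      have := Ideal.mul_mem_mul hxm hik
      rw [hp₁.2.2.2] at this
      exact this
    obtain ⟨e, he⟩ := (st n).qt.fin
    let tJ : Qt P := ⟨RingHom.ker ψ₀.1, hJ.trans (st n).qt.le, ⟨e + 1, by
      rw [pow_succ']; exact (Ideal.mul_mono_right he).trans hmJ⟩⟩
    obtain ⟨ι, hι⟩ := tJ.exists_factor ψ₀ fun p hp => RingHom.mem_ker.1 hp
    have hι' : ∀ p, ι.toAlgHom (tJ.hom.1 p) = ψ₀.1 p := fun p =>
      congrArg (fun t : HomSet P.carrier P.res B' => t.1 p) hι
    have hιp : ι ≫ p₁ = Qt.map (s := tJ) (t := (st n).qt) hJ := tJ.hom_ext (by rw [homSet_map_comp, hι, Qt.map_hom]; exact hψ₀)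
    have hιinj : Function.Injective ι.toAlgHom := by
      rw [injective_iff_map_eq_zero]
      intro x hx
      obtain ⟨p, rfl⟩ := tJ.hom_surjective x
      rw [hι'] at hx
      exact tJ.hom_eq_zero.2 (RingHom.mem_ker.2 hx)
    by_cases hι_s : Function.Surjective ι
    · -- the kernel admits a lift, so the next stage maps to `B'`
      haveI := isIso_of_bij ι ⟨hιinj, hι_s⟩
      have hL : Lifts (st n) (RingHom.ker ψ₀.1) := ⟨tJ, hJ, rfl, F.map (inv ι) z, by
        rw [← FunctorToTypes.map_comp_apply, ← hιp, IsIso.inv_hom_id_assoc, hz₁]⟩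
      have hle' : (st (n + 1)).qt.J ≤ RingHom.ker ψ₀.1 := hleast (st n) _ hmJ hL
      refine ⟨HomSet.map (Qt.map (s := (st (n + 1)).qt) (t := tJ) hle' ≫ ι ≫ p₂) (π (n + 1)), ?_⟩
      rw [← homSet_map_comp]
      have e2 : (Qt.map (s := (st (n + 1)).qt) (t := tJ) hle' ≫ ι ≫ p₂) ≫ μ = Qt.map (hle (st n)) ≫ a := by
        rw [Category.assoc, Category.assoc, ← hB.w, ← Category.assoc ι, hιp, ← Category.assoc, Qt.map_comp]
      rw [e2, homSet_map_comp, hπc, ha]
    · -- otherwise the small extension `p₁` splits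
      obtain ⟨t, ht0, htp, htm, htgen⟩ := exists_smallExt_generator hp₁
      have hinj : Function.Injective (Qt.map (s := tJ) (t := (st n).qt) hJ).toAlgHom := by
        rw [injective_iff_map_eq_zero]
        intro x hx
        by_contra hx0
        obtain ⟨c, hc⟩ := htgen (ι.toAlgHom x) (by
          change (ι ≫ p₁).toAlgHom x = 0
          rw [hιp]; exact hx)
        have hcu : IsUnit c := by
          by_contra hcu
          exact hx0 (hιinj ((hc.trans (htm c ((IsLocalRing.mem_maximalIdeal _).2 hcu))).trans (map_zero ι.toAlgHom).symm))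
        obtain ⟨v, hv⟩ := hcu
        have hrep : ∀ b : B', ∃ d, ι.toAlgHom d * t = b * t := fun b => by
          obtain ⟨d, hd⟩ := tJ.art.res_surjective (B'.res b)
          refine ⟨d, sub_eq_zero.1 ?_⟩
          rw [← sub_mul]
          exact htm _ ((Art.mem_maximalIdeal_iff B' _).2 (by rw [map_sub, res_app ι d, hd, sub_self]))
        obtain ⟨d₀, hd₀⟩ := hrep (↑v⁻¹ : B')
        have ht' : ι.toAlgHom (d₀ * x) = t := by
          rw [map_mul, hc, ← hv, mul_left_comm, hd₀, ← mul_assoc, Units.mul_inv, one_mul]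
        refine hι_s fun b => ?_
        obtain ⟨r, hr⟩ := Qt.map_surjective (s := tJ) (t := (st n).qt) hJ (p₁ b)
        obtain ⟨b', hb'⟩ := htgen (b - ι.toAlgHom r) (by
          rw [map_sub, sub_eq_zero]
          rw [← hιp] at hr
          exact hr.symm)
        obtain ⟨d, hd⟩ := hrep b'
        refine ⟨r + d * (d₀ * x), ?_⟩
        change ι.toAlgHom (r + d * (d₀ * x)) = b
        rw [map_add, map_mul ι.toAlgHom d, ht', hd, ← hb', add_sub_cancel]
      haveI := isIso_of_bij (Qt.map (s := tJ) (t := (st n).qt) hJ) ⟨hinj, Qt.map_surjective hJ⟩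
      refine ⟨HomSet.map (inv (Qt.map (s := tJ) (t := (st n).qt) hJ) ≫ ι ≫ p₂) (π n), ?_⟩
      rw [← homSet_map_comp, Category.assoc, Category.assoc, ← hB.w, ← Category.assoc ι, hιp,
        IsIso.inv_hom_id_assoc, ha]
  · intro X B C p r _ _ hp hr φ y hy
    rw [FunctorToTypes.map_comp_apply] at hy
    obtain ⟨ψ, hψ₁, hψ₂⟩ := hr φ _ hy
    obtain ⟨χ, hχ₁, hχ₂⟩ := hp ψ y hψ₂.symm
    exact ⟨χ, by rw [homSet_map_comp, hχ₁, hψ₁], hχ₂⟩

/-! ### The universal first order object -/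

section First

variable (Λ k) in
/-- `k ⊕ k^ι`. -/
def eArt (ι : Type) [Fintype ι] : Art Λ k :=
  { carrier := TrivSqZeroExt k (ι → k)
    isLocalRing := isLocalRing_tsze k (ι → k)
    isArtinianRing := isArtinianRing_tsze k (ι → k)
    res := TrivSqZeroExt.fstHom Λ k (ι → k)
    res_surjective := fun a => ⟨TrivSqZeroExt.inl a, rfl⟩ }

/-- A linear form as a map to the dual numbers. -/
def eLin {ι : Type} [Fintype ι] (v : ι → k) : eArt Λ k ι ⟶ dual Λ k :=
  ⟨tszeMap (Fintype.linearCombination k v), AlgHom.ext fun _ => rfl⟩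

/-- A pair of linear forms. -/
def eLin2 {ι : Type} [Fintype ι] (v w : ι → k) : eArt Λ k ι ⟶ dual2 Λ k :=
  ⟨tszeMap ((Fintype.linearCombination k v).prod (Fintype.linearCombination k w)), AlgHom.ext fun _ => rfl⟩

lemma eLin_snd {ι : Type} [Fintype ι] (v : ι → k) (x : eArt Λ k ι) :
    (eLin v x).snd = ∑ i, x.snd i * v i := by
  change Fintype.linearCombination k v x.snd = _
  rw [Fintype.linearCombination_apply]
  rfl

variable {F : Art Λ k ⥤ Type v} [TF : TangentStr F]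

lemma eLin_add {ι : Type} [Fintype ι] (v w : ι → k) (η : F.obj (eArt Λ k ι)) :
    TangentSpace.mk (F.map (eLin (v + w)) η) =
      TangentSpace.mk (F.map (eLin v) η) + TangentSpace.mk (F.map (eLin w) η) := by
  have e₁ : eLin2 (Λ := Λ) v w ≫ pr₁ = eLin v := Art.hom_ext (AlgHom.ext fun _ => rfl)
  have e₂ : eLin2 (Λ := Λ) v w ≫ pr₂ = eLin w := Art.hom_ext (AlgHom.ext fun _ => rfl)
  have e₃ : eLin2 (Λ := Λ) v w ≫ plus = eLin (v + w) := Art.hom_ext (AlgHom.ext fun x => TrivSqZeroExt.ext rfl (by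
    rw [eLin_snd]
    change Fintype.linearCombination k v x.snd + Fintype.linearCombination k w x.snd = _
    rw [Fintype.linearCombination_apply, Fintype.linearCombination_apply, ← Finset.sum_add_distrib]
    simp [mul_add]))
  have h := TF.add_eq (F.map (eLin2 v w) η)
  rw [← FunctorToTypes.map_comp_apply, ← FunctorToTypes.map_comp_apply, ← FunctorToTypes.map_comp_apply, e₁, e₂, e₃] at h
  exact h.symm

lemma eLin_smul {ι : Type} [Fintype ι] (c : k) (v : ι → k) (η : F.obj (eArt Λ k ι)) :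
    TangentSpace.mk (F.map (eLin (c • v)) η) = c • TangentSpace.mk (F.map (eLin v) η) := by
  have e : eLin (Λ := Λ) v ≫ scale c = eLin (c • v) := Art.hom_ext (AlgHom.ext fun x => TrivSqZeroExt.ext rfl (by
    rw [eLin_snd]
    change c • Fintype.linearCombination k v x.snd = _
    rw [Fintype.linearCombination_apply, Finset.smul_sum]
    refine Finset.sum_congr rfl fun i _ => ?_
    simp only [smul_eq_mul, Pi.smul_apply]
    ring))
  have h := TF.smul_eq c (F.map (eLin v) η)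
  rw [← FunctorToTypes.map_comp_apply, e] at h
  exact h.symm

/-- The linear map classifying the values of `η`. -/
def eMap {ι : Type} [Fintype ι] (η : F.obj (eArt Λ k ι)) : (ι → k) →ₗ[k] TangentSpace F where
  toFun v := TangentSpace.mk (F.map (eLin v) η)
  map_add' v w := eLin_add v w η
  map_smul' c v := eLin_smul c v η

omit TF in
lemma exists_eElt (h0 : H0 F) (h2 : Heps F) :
    ∀ (n : ℕ) (θ : Fin n → F.obj (dual Λ k)),
      ∃ η : F.obj (eArt Λ k (Fin n)), ∀ j, F.map (eLin (Pi.single j 1)) η = θ j := by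
  intro n
  induction n with
  | zero =>
    intro θ
    refine ⟨F.map (⟨(Algebra.ofId k (TrivSqZeroExt k (Fin 0 → k))).restrictScalars Λ, AlgHom.ext fun _ => rfl⟩ :
      base Λ k ⟶ eArt Λ k (Fin 0)) h0.1.some, fun j => j.elim0⟩
  | succ n ih =>
    intro θ
    obtain ⟨η, hη⟩ := ih fun j => θ j.succ
    let tl : eArt Λ k (Fin (n + 1)) ⟶ eArt Λ k (Fin n) :=
      ⟨tszeMap (LinearMap.funLeft k k Fin.succ), AlgHom.ext fun _ => rfl⟩
    let hd : eArt Λ k (Fin (n + 1)) ⟶ dual Λ k := eLin (Pi.single 0 1)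
    have hhd : ∀ x, (hd x).snd = x.snd 0 := fun x => by
      rw [eLin_snd, Finset.sum_eq_single 0 (fun j _ hj => by simp [hj]) (by simp)]
      simp
    have hsq : IsFibreProd tl hd (toBase (eArt Λ k (Fin n))) (toBase (dual Λ k)) := by
      refine ⟨(eq_toBase _).trans (eq_toBase _).symm, fun a b h₁ h₂ => ?_, fun a b h => ?_⟩
      · refine TrivSqZeroExt.ext ?_ (funext fun j => ?_)
        · have e := congrArg TrivSqZeroExt.fst h₁
          exact e
        · refine Fin.cases ?_ (fun i => ?_) j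
          · have e := congrArg TrivSqZeroExt.snd h₂
            rwa [hhd, hhd] at e
          · have e := congrArg (fun t : TrivSqZeroExt k (Fin n → k) => t.snd i) h₁
            exact e
      · refine ⟨(a.fst, Fin.cons b.snd a.snd), TrivSqZeroExt.ext rfl (funext fun i => ?_), TrivSqZeroExt.ext h ?_⟩
        · exact Fin.cons_succ (α := fun _ => k) b.snd a.snd i
        · rw [hhd]
          exact Fin.cons_zero (α := fun _ => k) b.snd a.snd
    haveI := h0.2
    obtain ⟨z, hz₁, hz₂⟩ := (cmp_surjective_iff hsq).1 (h2 tl hd hsq).2 η (θ 0) (Subsingleton.elim _ _)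
    refine ⟨z, fun j => ?_⟩
    refine Fin.cases hz₂ (fun i => ?_) j
    have e : tl ≫ eLin (Pi.single i 1) = eLin (Pi.single i.succ 1) := Art.hom_ext (AlgHom.ext fun x => TrivSqZeroExt.ext rfl (by
      change (eLin (Pi.single i 1) (tl x)).snd = (eLin (Pi.single i.succ 1) x).snd
      rw [eLin_snd, eLin_snd, Finset.sum_eq_single i (fun j _ hj => by simp [hj]) (by simp),
        Finset.sum_eq_single i.succ (fun j _ hj => by simp [hj]) (by simp)]
      simp only [Pi.single_eq_same, mul_one]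
      rfl))
    rw [← e, FunctorToTypes.map_comp_apply, hz₁, hη]

/-- A first stage with a basis of the tangent space, from a surjection onto `k ⊕ k^d`. -/
lemma exists_stage (h0 : H0 F) (h2 : Heps F) (h3 : Hfin F) (P : CRing Λ k)
    (hε : ∀ d : ℕ, d = Module.finrank k (TangentSpace F) →
      ∃ ε : HomSet P.carrier P.res (eArt Λ k (Fin d)), Function.Surjective ε.1) :
    ∃ (d : ℕ) (ε : HomSet P.carrier P.res (eArt Λ k (Fin d))) (s : Stage P F) (e : s.qt.art ⟶ eArt Λ k (Fin d)),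
      d = Module.finrank k (TangentSpace F) ∧ Function.Surjective ε.1 ∧ HomSet.map e s.qt.hom = ε ∧
      Function.Bijective (eMap (F.map e s.elt)) := by
  haveI : Module.Finite k (TangentSpace F) := h3
  let b := Module.finBasis k (TangentSpace F)
  obtain ⟨η, hη⟩ := exists_eElt h0 h2 (Module.finrank k (TangentSpace F)) fun j => TangentSpace.val (b j)
  obtain ⟨ε, hεs⟩ := hε _ rfl
  obtain ⟨n, hn⟩ := exists_pow_kill P ε
  let qt : Qt P := ⟨RingHom.ker ε.1, fun p hp => (CRing.mem_maximalIdeal_iff P p).2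
    ((congrArg (fun t : P.carrier →ₐ[Λ] k => t p) ε.2).symm.trans
      ((congrArg (eArt Λ k _).res (RingHom.mem_ker.1 hp)).trans (map_zero (eArt Λ k _).res))),
    ⟨n, fun p hp => RingHom.mem_ker.2 (hn p hp)⟩⟩
  obtain ⟨e, he⟩ := qt.exists_factor ε fun p hp => RingHom.mem_ker.1 hp
  have hb : Function.Bijective e := by
    refine ⟨fun x y hxy => ?_, fun a => ?_⟩
    · obtain ⟨p, rfl⟩ := qt.hom_surjective x
      obtain ⟨q, rfl⟩ := qt.hom_surjective y
      refine qt.hom_eq.2 (RingHom.mem_ker.2 ?_)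
      rw [map_sub, sub_eq_zero, ← he]
      exact hxy
    · obtain ⟨p, rfl⟩ := hεs a
      exact ⟨qt.hom.1 p, congrArg (fun t : HomSet P.carrier P.res _ => t.1 p) he⟩
  haveI := isIso_of_bij e hb
  refine ⟨_, ε, ⟨qt, F.map (inv e) η⟩, e, rfl, hεs, he, ?_⟩
  rw [← FunctorToTypes.map_comp_apply, IsIso.inv_hom_id, FunctorToTypes.map_id_apply]
  have heq : eMap η = (Pi.basisFun k (Fin _)).equiv b (Equiv.refl _) := by
    refine (Pi.basisFun k (Fin _)).ext fun j => ?_
    rw [LinearEquiv.coe_coe, Module.Basis.equiv_apply, Pi.basisFun_apply, Equiv.refl_apply]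
    exact hη j
  rw [heq]
  exact LinearEquiv.bijective _

end First

end Groth.Agent.H9Art
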