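import Groth.Agent.Lib.H9ArtPowerSeries

/-!
Relative smoothness of coefficient rings and power series rings.
-/

set_option backward.isDefEq.respectTransparency false
set_option backward.isDefEq.respectTransparency.types false
set_option linter.deprecated false
set_option linter.unusedTactic false

universe u v

open CategoryTheory

namespace Groth.Agent.H9Art

open ArtFun ArtFun.Art IsLocalRing

variable {Λ : Type u} {k : Type u} [CommRing Λ] [Field k] [Algebra Λ k]

/-- A surjection onto a relatively smooth coefficient ring has a section over the base. -/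
lemma exists_section_rel {B Q R : CRing Λ k} (ι : B.carrier →ₐ[Λ] R.carrier) (hι : R.res.comp ι = B.res)
    (hv : IsVersal ((Family.self B.carrier B.res).along ι hι)) (j : B.carrier →ₐ[Λ] Q.carrier) (hj : Q.res.comp j = B.res)
    (g : Q.carrier →ₐ[Λ] R.carrier) (hg : R.res.comp g = Q.res) (hgs : Function.Surjective g) (hgj : g.comp j = ι) :
    ∃ s : R.carrier →ₐ[Λ] Q.carrier, Q.res.comp s = R.res ∧ g.comp s = AlgHom.id Λ R.carrier ∧ s.comp ι = j := by
  have hfa : ∀ a, R.res (g a) = Q.res a := fun a => congrArg (fun t : Q.carrier →ₐ[Λ] k => t a) hg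
  have hloc : (maximalIdeal Q.carrier).map g = maximalIdeal R.carrier := by
    refine le_antisymm (Ideal.map_le_iff_le_comap.2 fun a ha => ?_) fun y hy => ?_
    · exact (CRing.mem_maximalIdeal_iff R _).2 ((hfa a).trans ((CRing.mem_maximalIdeal_iff Q a).1 ha))
    · obtain ⟨z, rfl⟩ := hgs y
      exact Ideal.mem_map_of_mem _ ((CRing.mem_maximalIdeal_iff Q z).2
        ((hfa z).symm.trans ((CRing.mem_maximalIdeal_iff R _).1 hy)))
  have hmap : ∀ n, (Q.mpow n).map g = R.mpow n := fun n => by rw [Ideal.map_pow, hloc]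
  have hgex : ∀ n, ∃ f : Q.trunc n ⟶ R.trunc n, ∀ a, f.toAlgHom ((Q.truncHom n).1 a) = (R.truncHom n).1 (g a) := fun n =>
    ⟨⟨Ideal.quotientMapₐ (R.mpow n) g (Ideal.map_le_iff_le_comap.1 (hmap n).le), AlgHom.ext fun x => by
      obtain ⟨a, rfl⟩ := Ideal.Quotient.mk_surjective x
      exact hfa a⟩, fun _ => rfl⟩
  choose gn hgn using hgex
  have hcompat : ∀ n, Q.truncMap n ≫ gn n = gn (n + 1) ≫ R.truncMap n := fun n =>
    Art.hom_ext (AlgHom.ext fun x => by
      obtain ⟨a, rfl⟩ := truncHom_surjective Q (n + 1) x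
      change (gn n).toAlgHom ((Q.truncMap n).toAlgHom ((Q.truncHom (n + 1)).1 a)) = (R.truncMap n).toAlgHom ((gn (n + 1)).toAlgHom _)
      rw [hgn]
      exact hgn n a)
  -- the prescribed restriction to the base
  let yB : ∀ n, HomSet B.carrier B.res (Q.trunc n) := fun n =>
    ⟨(Q.truncHom n).1.comp j, by rw [← AlgHom.comp_assoc, (Q.truncHom n).2, hj]⟩
  have hgy : ∀ n b, (gn n).toAlgHom ((yB n).1 b) = (R.truncHom n).1 (ι b) := fun n b =>
    (hgn n (j b)).trans (congrArg (fun t : B.carrier →ₐ[Λ] R.carrier => (R.truncHom n).1 (t b)) hgj)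
  have step : ∀ n (ψ : HomSet R.carrier R.res (Q.trunc n)),
      HomSet.map (gn n) ψ = R.truncHom n ∧ (∀ b, ψ.1 (ι b) = (yB n).1 b) →
      ∃ ψ' : HomSet R.carrier R.res (Q.trunc (n + 1)),
        (HomSet.map (gn (n + 1)) ψ' = R.truncHom (n + 1) ∧ (∀ b, ψ'.1 (ι b) = (yB (n + 1)).1 b)) ∧
          HomSet.map (Q.truncMap n) ψ' = ψ := by
    rintro n ψ ⟨hψ, hψι⟩
    obtain ⟨T, t₁, t₂, hT⟩ := exists_fibreProd (gn n) (R.truncMap n) (truncMap_surjective R n)
    obtain ⟨r, hr₁, hr₂⟩ := exists_lift hT (Q.truncMap n) (gn (n + 1)) (hcompat n)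
    have hrs : Function.Surjective r := by
      intro x
      obtain ⟨a, ha⟩ := truncHom_surjective Q n (t₁ x)
      obtain ⟨b, hb⟩ := truncHom_surjective R (n + 1) (t₂ x)
      have hd : g a - b ∈ R.mpow n := by
        refine Ideal.Quotient.eq.1 ?_
        have h := hT.w_apply x
        rw [← ha, ← hb] at h
        exact (hgn n a).symm.trans h
      obtain ⟨z, hz, hzd⟩ := (Ideal.mem_map_iff_of_surjective g hgs).1 (hmap n ▸ hd)
      refine ⟨(Q.truncHom (n + 1)).1 (a - z), hT.inj _ _ ?_ ?_⟩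
      · rw [← ha, show t₁ (r ((Q.truncHom (n + 1)).1 (a - z))) = (r ≫ t₁) ((Q.truncHom (n + 1)).1 (a - z)) from rfl, hr₁]
        exact Ideal.Quotient.eq.2 (by rw [sub_sub_cancel_left]; exact neg_mem hz)
      · rw [← hb, show t₂ (r ((Q.truncHom (n + 1)).1 (a - z))) = (r ≫ t₂) ((Q.truncHom (n + 1)).1 (a - z)) from rfl, hr₂]
        refine (hgn (n + 1) _).trans (Ideal.Quotient.eq.2 ?_)
        have e : g (a - z) - b = 0 := by rw [map_sub, hzd]; ring
        rw [e]
        exact zero_mem _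
    obtain ⟨χ, hχ₁, hχ₂⟩ := exists_liftHomSet hT ψ (R.truncHom (n + 1)) (hψ.trans (R.truncMap_truncHom n).symm)
    obtain ⟨ψ', hψ', hψ'y⟩ := hv r hrs χ (yB (n + 1)) (Subtype.ext (AlgHom.ext fun b => hT.inj _ _ (by
      change t₁.toAlgHom (r.toAlgHom ((yB (n + 1)).1 b)) = t₁.toAlgHom (χ.1 (ι b))
      rw [show t₁.toAlgHom (r.toAlgHom ((yB (n + 1)).1 b)) = (r ≫ t₁) ((yB (n + 1)).1 b) from rfl, hr₁]
      refine Eq.trans ?_ (congrArg (fun t : HomSet R.carrier R.res (Q.trunc n) => t.1 (ι b)) hχ₁).symm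
      rw [hψι]
      exact congrArg (fun t : HomSet Q.carrier Q.res _ => t.1 (j b)) (Q.truncMap_truncHom n)) (by
      change t₂.toAlgHom (r.toAlgHom ((yB (n + 1)).1 b)) = t₂.toAlgHom (χ.1 (ι b))
      rw [show t₂.toAlgHom (r.toAlgHom ((yB (n + 1)).1 b)) = (r ≫ t₂) ((yB (n + 1)).1 b) from rfl, hr₂]
      refine Eq.trans ?_ (congrArg (fun t : HomSet R.carrier R.res (R.trunc (n + 1)) => t.1 (ι b)) hχ₂).symm
      exact hgy (n + 1) b)))
    exact ⟨ψ', ⟨by rw [← hr₂, homSet_map_comp, hψ', hχ₂],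
      fun b => congrArg (fun t : HomSet B.carrier B.res _ => t.1 b) hψ'y⟩, by rw [← hr₁, homSet_map_comp, hψ', hχ₁]⟩
  have h00 : ∃ ψ, HomSet.map (gn 0) ψ = R.truncHom 0 ∧ (∀ b, ψ.1 (ι b) = (yB 0).1 b) := by
    obtain ⟨ψ, hψ, hψy⟩ := hv (gn 0) (fun x => by
      obtain ⟨b, rfl⟩ := truncHom_surjective R 0 x
      obtain ⟨a, rfl⟩ := hgs b
      exact ⟨(Q.truncHom 0).1 a, hgn 0 a⟩) (R.truncHom 0) (yB 0) (Subtype.ext (AlgHom.ext fun b => hgy 0 b))
    exact ⟨ψ, hψ, fun b => congrArg (fun t : HomSet B.carrier B.res _ => t.1 b) hψy⟩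
  choose next hn₁ hn₂ using step
  obtain ⟨ψ₀, hψ₀⟩ := h00
  let u : ∀ n, {ψ : HomSet R.carrier R.res (Q.trunc n) //
      HomSet.map (gn n) ψ = R.truncHom n ∧ (∀ b, ψ.1 (ι b) = (yB n).1 b)} :=
    fun n => Nat.rec ⟨ψ₀, hψ₀⟩ (fun n a => ⟨next n a.1 a.2, hn₁ n a.1 a.2⟩) n
  obtain ⟨s, hs, hsn⟩ := exists_lim Q (fun n => (u n).1) (fun n => hn₂ n (u n).1 (u n).2)
  refine ⟨s, hs, hom_ext_trunc R fun n => AlgHom.ext fun x => ?_, hom_ext_trunc Q fun n => AlgHom.ext fun b => ?_⟩
  · refine Eq.trans ?_ (congrArg (fun t : HomSet R.carrier R.res (R.trunc n) => t.1 x) (u n).2.1)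
    refine (hgn n (s x)).symm.trans ?_
    exact congrArg (gn n).toAlgHom (congrArg (fun t : R.carrier →ₐ[Λ] _ => t x) (hsn n))
  · exact (congrArg (fun t : R.carrier →ₐ[Λ] _ => t (ι b)) (hsn n)).trans ((u n).2.2 b)

/-- The inclusion of coefficients into a power series ring is versal. -/
theorem isVersal_psC (R : CRing Λ k) (n : ℕ) :
    IsVersal ((Family.self R.carrier R.res).along (psC R n) (psC_res R n)) := by
  intro B A μ hμ φ y hy
  choose a ha using fun i => hμ (φ.1 (psX R n i))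
  obtain ⟨ψ, hψC, hψX⟩ := psCRing_hom_exists R y a (fun i => by
    rw [← res_app μ (a i), ha i]
    exact (congrArg (fun t : (psCRing R n).carrier →ₐ[Λ] k => t (psX R n i)) φ.2).trans (psX_res R n i))
  refine ⟨ψ, psCRing_hom_ext R (AlgHom.ext fun r => ?_) (fun i => (congrArg μ.toAlgHom (hψX i)).trans (ha i)), Subtype.ext hψC⟩
  change μ.toAlgHom (ψ.1 (psC R n r)) = φ.1 (psC R n r)
  rw [show ψ.1 (psC R n r) = y.1 r from congrArg (fun t : R.carrier →ₐ[Λ] B => t r) hψC]
  exact congrArg (fun t : HomSet R.carrier R.res A => t.1 r) hy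

/-- A power series ring is versal over its coefficients, up to isomorphism. -/
theorem isVersal_of_powerSeries {R S : CRing Λ k} (ι : R.carrier →ₐ[Λ] S.carrier) (hι : S.res.comp ι = R.res)
    (n : ℕ) (e : S.carrier ≃ₐ[Λ] (psCRing R n).carrier) (he : ∀ r, e (ι r) = psC R n r) :
    IsVersal ((Family.self R.carrier R.res).along ι hι) := by
  let P := psCRing R n
  have hι' : ∀ r, e.symm (psC R n r) = ι r := fun r => by rw [← he, AlgEquiv.symm_apply_apply]
  have hres : ∀ f, S.res (e.symm f) = P.res f := by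
    intro f
    let f' : MvPowerSeries (Fin n) R.carrier := f
    let r := MvPowerSeries.constantCoeff f'
    have h1 : f - psC R n r ∈ maximalIdeal P.carrier := by
      rw [CRing.mem_maximalIdeal_iff P, map_sub, sub_eq_zero]
      exact (congrArg (fun t : R.carrier →ₐ[Λ] k => t r) (psC_res R n)).symm
    have h2 : e.symm (f - psC R n r) ∈ maximalIdeal S.carrier := by
      rw [mem_maximalIdeal, mem_nonunits_iff] at h1 ⊢
      intro hu
      exact h1 (by simpa using hu.map e.toAlgHom)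
    rw [CRing.mem_maximalIdeal_iff S, map_sub, map_sub, sub_eq_zero, hι'] at h2
    exact h2.trans (congrArg (fun t : R.carrier →ₐ[Λ] k => t r) hι)
  intro B A μ hμ φ y hy
  obtain ⟨ψ, hψ, hψy⟩ := isVersal_psC R n μ hμ
    ⟨φ.1.comp e.symm.toAlgHom, AlgHom.ext fun f => (congrArg (fun t : S.carrier →ₐ[Λ] k => t (e.symm f)) φ.2).trans (hres f)⟩
    y (hy.trans (Subtype.ext (AlgHom.ext fun r => (congrArg φ.1 (hι' r)).symm)))
  refine ⟨⟨ψ.1.comp e.toAlgHom, AlgHom.ext fun s => ?_⟩, Subtype.ext (AlgHom.ext fun s => ?_), Subtype.ext (AlgHom.ext fun r => ?_)⟩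
  · refine (congrArg (fun t : P.carrier →ₐ[Λ] k => t (e s)) ψ.2).trans ((hres (e s)).symm.trans ?_)
    rw [AlgEquiv.symm_apply_apply]
  · refine (congrArg (fun t : HomSet P.carrier P.res A => t.1 (e s)) hψ).trans ?_
    exact congrArg φ.1 (e.symm_apply_apply s)
  · refine Eq.trans ?_ (congrArg (fun t : HomSet R.carrier R.res B => t.1 r) hψy)
    exact congrArg ψ.1 (he r)

/-- A relatively smooth coefficient ring is a power series ring. -/
theorem exists_powerSeries_of_versal {R S : CRing Λ k} (ι : R.carrier →ₐ[Λ] S.carrier) (hι : S.res.comp ι = R.res)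
    (hv : IsVersal ((Family.self R.carrier R.res).along ι hι)) :
    ∃ (n : ℕ) (g : (psCRing R n).carrier →ₐ[Λ] S.carrier),
      S.res.comp g = (psCRing R n).res ∧ g.comp (psC R n) = ι ∧ Function.Bijective g := by
  classical
  let W : Ideal S.carrier := (maximalIdeal R.carrier).map ι ⊔ maximalIdeal S.carrier ^ 2
  have hιa : ∀ a, S.res (ι a) = R.res a := fun a => congrArg (fun t : R.carrier →ₐ[Λ] k => t a) hι
  have hW : W ≤ maximalIdeal S.carrier := sup_le (Ideal.map_le_iff_le_comap.2 fun a ha =>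
    (CRing.mem_maximalIdeal_iff S _).2 ((hιa a).trans ((CRing.mem_maximalIdeal_iff R a).1 ha)))
    (Ideal.pow_le_self two_ne_zero)
  have hex : ∃ n, ∃ x : Fin n → S.carrier, Ideal.span (Set.range x) ⊔ W = maximalIdeal S.carrier := by
    obtain ⟨n, x, hx⟩ := Submodule.fg_iff_exists_fin_generating_family.1
      (IsNoetherian.noetherian (maximalIdeal S.carrier))
    exact ⟨n, x, by rw [show Ideal.span (Set.range x) = maximalIdeal S.carrier from hx, sup_of_le_left hW]⟩
  let n := Nat.find hex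
  obtain ⟨x, hx⟩ : ∃ x : Fin n → S.carrier, Ideal.span (Set.range x) ⊔ W = maximalIdeal S.carrier := Nat.find_spec hex
  have hxm : ∀ i, x i ∈ maximalIdeal S.carrier := fun i =>
    hx ▸ Submodule.mem_sup_left (Ideal.subset_span ⟨i, rfl⟩)
  -- minimality
  have hind : ∀ c : Fin n → S.carrier, ∑ i, c i * x i ∈ W → ∀ i, c i ∈ maximalIdeal S.carrier := by
    intro c hc i
    by_contra hu
    rw [mem_maximalIdeal, mem_nonunits_iff, not_not] at hu
    obtain ⟨m, hm⟩ : ∃ m, n = m + 1 := Nat.exists_eq_succ_of_ne_zero (fun h0 => (Fin.cast h0 i).elim0)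
    have hmem : x i ∈ Ideal.span (x '' {j | j ≠ i}) ⊔ W := by
      have e : c i * x i = ∑ j, c j * x j - ∑ j ∈ Finset.univ.erase i, c j * x j := by
        rw [← Finset.add_sum_erase _ _ (Finset.mem_univ i), add_sub_cancel_right]
      have : c i * x i ∈ Ideal.span (x '' {j | j ≠ i}) ⊔ W := by
        rw [e]
        exact sub_mem (Submodule.mem_sup_right hc) (Submodule.mem_sup_left (Ideal.sum_mem _ fun j hj =>
          Ideal.mul_mem_left _ _ (Ideal.subset_span ⟨j, (Finset.mem_erase.1 hj).1, rfl⟩)))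
      exact (Ideal.unit_mul_mem_iff_mem _ hu).1 this
    have hle : maximalIdeal S.carrier ≤ Ideal.span (x '' {j | j ≠ i}) ⊔ W := by
      rw [← hx, sup_le_iff, Ideal.span_le]
      refine ⟨?_, le_sup_right⟩
      rintro _ ⟨j, rfl⟩
      rcases eq_or_ne j i with rfl | hj
      · exact hmem
      · exact Submodule.mem_sup_left (Ideal.subset_span ⟨j, hj, rfl⟩)
    let i' : Fin (m + 1) := Fin.cast hm i
    refine Nat.find_min hex (show m < n by omega) ⟨fun j => x (Fin.cast hm.symm (i'.succAbove j)),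
      le_antisymm (sup_le (Ideal.span_le.2 (by rintro _ ⟨j, rfl⟩; exact hxm _)) hW) (hle.trans (sup_le_sup_right
        (Ideal.span_mono ?_) _))⟩
    rintro _ ⟨j, hj, rfl⟩
    obtain ⟨j', hj'⟩ := Fin.exists_succAbove_eq (x := Fin.cast hm j) (y := i') (fun h => hj (Fin.cast_injective _ h))
    exact ⟨j', congrArg x (by rw [hj']; rfl)⟩
  obtain ⟨g, hg, hgC, hgX⟩ := psCRing_exists_hom_cring R S ι hι x (fun i => (CRing.mem_maximalIdeal_iff S _).1 (hxm i))
  let P := psCRing R n
  have hga : ∀ a, S.res (g a) = P.res a := fun a => congrArg (fun t : P.carrier →ₐ[Λ] k => t a) hg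
  have hgCa : ∀ r, g (psC R n r) = ι r := fun r => congrArg (fun t : R.carrier →ₐ[Λ] S.carrier => t r) hgC
  have hgs : Function.Surjective g := by
    refine surjective_of_cotangent_cring P S g hg (le_antisymm (sup_le (Ideal.map_le_iff_le_comap.2 fun a ha =>
      (CRing.mem_maximalIdeal_iff S _).2 ((hga a).trans ((CRing.mem_maximalIdeal_iff P a).1 ha))) (Ideal.pow_le_self two_ne_zero)) ?_)
    conv_lhs => rw [← hx]
    refine sup_le (le_sup_of_le_left (Ideal.span_le.2 ?_)) (sup_le (le_sup_of_le_left (Ideal.map_le_iff_le_comap.2 fun a ha => ?_)) le_sup_right)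
    · rintro _ ⟨i, rfl⟩
      rw [← hgX]
      exact Ideal.mem_map_of_mem g ((CRing.mem_maximalIdeal_iff P _).2 (psX_res R n i))
    · rw [Ideal.mem_comap, ← hgCa]
      exact Ideal.mem_map_of_mem g ((CRing.mem_maximalIdeal_iff P _).2
        ((congrArg (fun t : R.carrier →ₐ[Λ] k => t a) (psC_res R n)).trans ((CRing.mem_maximalIdeal_iff R a).1 ha)))
  obtain ⟨s, hs, hgs', hsι⟩ := exists_section_rel ι hι hv (psC R n) (psC_res R n) g hg hgs hgC
  have hgsa : ∀ b, g (s b) = b := fun b => congrArg (fun t : S.carrier →ₐ[Λ] S.carrier => t b) hgs'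
  have hsa : ∀ b, P.res (s b) = S.res b := fun b => congrArg (fun t : S.carrier →ₐ[Λ] k => t b) hs
  -- the maximal ideal of the power series ring
  have hP : ∀ f ∈ maximalIdeal P.carrier, ∃ c : Fin n → P.carrier,
      f - ∑ i, c i * psX R n i ∈ (maximalIdeal R.carrier).map (psC R n) := by
    intro f hf
    let f' : MvPowerSeries (Fin n) R.carrier := f
    have h1 : f' - MvPowerSeries.C (MvPowerSeries.constantCoeff f') ∈
        Ideal.span (Set.range (MvPowerSeries.X : Fin n → MvPowerSeries (Fin n) R.carrier)) := by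
      have := mem_span_X_pow (n := 1) (f := f' - MvPowerSeries.C (MvPowerSeries.constantCoeff f')) fun d hd => by
        rw [(Finsupp.degree_eq_zero_iff d).1 (by omega), MvPowerSeries.coeff_zero_eq_constantCoeff_apply, map_sub,
          MvPowerSeries.constantCoeff_C, sub_self]
      rwa [pow_one] at this
    obtain ⟨c, hc⟩ := (Submodule.mem_span_range_iff_exists_fun _).1 h1
    refine ⟨c, ?_⟩
    have hc' : f' - ∑ i, c i • (MvPowerSeries.X i : MvPowerSeries (Fin n) R.carrier) =
        MvPowerSeries.C (MvPowerSeries.constantCoeff f') := by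
      rw [hc, sub_sub_cancel]
    have e : f - (Finset.univ.sum fun i => (show P.carrier from c i) * psX R n i) =
        psC R n (MvPowerSeries.constantCoeff f') := hc'
    exact e.symm ▸ Ideal.mem_map_of_mem (psC R n) ((CRing.mem_maximalIdeal_iff R _).2 ((CRing.mem_maximalIdeal_iff P f).1 hf))
  have hss : Function.Surjective s := by
    refine surjective_of_cotangent_cring S P s hs (le_antisymm (sup_le (Ideal.map_le_iff_le_comap.2 fun a ha =>
      (CRing.mem_maximalIdeal_iff P _).2 ((hsa a).trans ((CRing.mem_maximalIdeal_iff S a).1 ha))) (Ideal.pow_le_self two_ne_zero)) ?_)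
    intro f hf
    have hR : (maximalIdeal R.carrier).map (psC R n) ≤ (maximalIdeal S.carrier).map s :=
      Ideal.map_le_iff_le_comap.2 fun a ha => by
        rw [Ideal.mem_comap, ← congrArg (fun t : R.carrier →ₐ[Λ] P.carrier => t a) hsι]
        exact Ideal.mem_map_of_mem s ((CRing.mem_maximalIdeal_iff S _).2 ((hιa a).trans ((CRing.mem_maximalIdeal_iff R a).1 ha)))
    have hgf : g f ∈ maximalIdeal S.carrier :=
      (CRing.mem_maximalIdeal_iff S _).2 ((hga f).trans ((CRing.mem_maximalIdeal_iff P f).1 hf))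
    let d := f - s (g f)
    have hd : d ∈ maximalIdeal P.carrier :=
      sub_mem hf ((CRing.mem_maximalIdeal_iff P _).2 ((hsa _).trans ((CRing.mem_maximalIdeal_iff S _).1 hgf)))
    obtain ⟨c, hc⟩ := hP d hd
    have hgd : ∑ i, g (c i) * x i ∈ W := by
      have h0 : g d = 0 := by rw [map_sub, hgsa, sub_self]
      have h1 := Ideal.mem_map_of_mem g hc
      rw [map_sub, h0, zero_sub, map_sum, Ideal.neg_mem_iff] at h1
      simp only [map_mul, hgX] at h1
      refine Submodule.mem_sup_left ?_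
      rwa [Ideal.map_mapₐ, hgC] at h1
    have hcm : ∀ i, c i ∈ maximalIdeal P.carrier := fun i =>
      (CRing.mem_maximalIdeal_iff P _).2 ((hga (c i)).symm.trans ((CRing.mem_maximalIdeal_iff S _).1 (hind _ hgd i)))
    have e : f = s (g f) + ((d - ∑ i, c i * psX R n i) + ∑ i, c i * psX R n i) := by
      rw [sub_add_cancel, add_sub_cancel]
    rw [e]
    refine add_mem (Submodule.mem_sup_left (Ideal.mem_map_of_mem s hgf))
      (add_mem (Submodule.mem_sup_left (hR hc)) (Submodule.mem_sup_right (Ideal.sum_mem _ fun i _ => ?_)))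
    rw [pow_two]
    exact Ideal.mul_mem_mul (hcm i) ((CRing.mem_maximalIdeal_iff P _).2 (psX_res R n i))
  refine ⟨n, g, hg, hgC, ⟨fun a b hab => ?_, hgs⟩⟩
  obtain ⟨a', rfl⟩ := hss a
  obtain ⟨b', rfl⟩ := hss b
  rw [hgsa, hgsa] at hab
  rw [hab]

end Groth.Agent.H9Art
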