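import Mathlib
/-! The union of axes over a ring, and the double of a scheme along an open subscheme. -/

set_option autoImplicit false
set_option linter.unusedSectionVars false
set_option linter.unusedVariables false
set_option backward.isDefEq.respectTransparency.types false

universe u

open CategoryTheory CategoryTheory.Limits AlgebraicGeometry Polynomial

noncomputable section

namespace Groth.Agent.H9Axes

variable (A : Type u) [CommRing A] (ι : Type) [Fintype ι] [DecidableEq ι]

/-- The coordinate ring of the union of the axes indexed by `ι`. -/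
def axes : Subring (ι → A[X]) where
  carrier := {p | ∀ i k, (p i).eval 0 = (p k).eval 0}
  mul_mem' hp hq i k := by simp [Pi.mul_apply, hp i k, hq i k]
  one_mem' i k := by simp
  add_mem' hp hq i k := by simp [Pi.add_apply, hp i k, hq i k]
  zero_mem' i k := by simp
  neg_mem' hp i k := by simp [hp i k]

/-- Constants. -/
def const : A →+* axes A ι :=
  (RingHom.pi fun _ => (C : A →+* A[X])).codRestrict (axes A ι) fun a i k => rfl

/-- The coordinate of the `i`-th axis. -/
def proj (i : ι) : axes A ι →+* A[X] := (Pi.evalRingHom (fun _ : ι => A[X]) i).comp (axes A ι).subtype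

/-- The sum of the coordinates. -/
def el : axes A ι := ⟨fun _ => X, fun i k => rfl⟩

/-- One coordinate. -/
def coord (i : ι) : axes A ι := ⟨Pi.single i X, fun a b => by
  have h : ∀ a, ((Pi.single i X : ι → A[X]) a).eval 0 = 0 := fun a => by
    by_cases h : a = i
    · subst h; simp
    · simp [h]
  rw [h, h]⟩

theorem proj_const (i : ι) : (proj A ι i).comp (const A ι) = C := RingHom.ext fun _ => rfl

theorem proj_el (i : ι) : proj A ι i (el A ι) = X := rfl

theorem proj_coord (i : ι) : proj A ι i (coord A ι i) = X := by
  show (Pi.single i X : ι → A[X]) i = X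
  simp

theorem sum_coord : ∑ i, coord A ι i = el A ι := by
  refine Subtype.ext ?_
  rw [AddSubmonoidClass.coe_finsetSum]
  funext k
  simp [coord, el, Finset.sum_pi_single]

theorem coord_mul {i k : ι} (h : i ≠ k) : coord A ι i * coord A ι k = 0 := by
  refine Subtype.ext (funext fun a => ?_)
  show (Pi.single i X : ι → A[X]) a * (Pi.single k X : ι → A[X]) a = 0
  by_cases ha : a = i
  · subst ha; simp [h]
  · simp [ha]

theorem zero_proj (i k : ι) :
    (evalRingHom (0 : A)).comp (proj A ι i) = (evalRingHom (0 : A)).comp (proj A ι k) :=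
  RingHom.ext fun p => p.2 i k

theorem injective_away : Function.Injective (algebraMap A[X] (Localization.Away (X : A[X]))) := by
  refine IsLocalization.injective (M := Submonoid.powers (X : A[X])) (Localization.Away (X : A[X])) ?_
  rintro _ ⟨n, rfl⟩
  exact (Polynomial.monic_X_pow n).mem_nonZeroDivisors

/-- The punctured axes. -/
abbrev punct : Type u := Localization.Away (el A ι)

/-- The idempotent of the `i`-th punctured axis. -/
def idem (i : ι) : punct A ι := IsLocalization.mk' _ (coord A ι i) (⟨el A ι, Submonoid.mem_powers _⟩ : Submonoid.powers (el A ι))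

theorem idem_mul {i k : ι} (h : i ≠ k) : idem A ι i * idem A ι k = 0 := by
  rw [idem, idem, ← IsLocalization.mk'_mul, coord_mul A ι h, IsLocalization.mk'_zero]

theorem sum_idem : ∑ i, idem A ι i = 1 := by
  simp only [idem, IsLocalization.mk'_eq_mul_mk'_one (coord A ι _)]
  rw [← Finset.sum_mul, ← map_sum, sum_coord, ← IsLocalization.mk'_eq_mul_mk'_one]
  exact IsLocalization.mk'_self (punct A ι) (Submonoid.mem_powers _)

/-- The `i`-th punctured axis in the union. -/
def punctProj (i : ι) : punct A ι →+* Localization.Away (X : A[X]) :=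
  IsLocalization.Away.lift (el A ι) (g := (algebraMap A[X] (Localization.Away (X : A[X]))).comp (proj A ι i))
    (by rw [RingHom.comp_apply, proj_el]; exact IsLocalization.Away.algebraMap_isUnit _)

theorem punctProj_comp (i : ι) : (punctProj A ι i).comp (algebraMap (axes A ι) (punct A ι)) =
    (algebraMap A[X] (Localization.Away (X : A[X]))).comp (proj A ι i) :=
  IsLocalization.Away.lift_comp _ _

theorem isUnit_punctProj_idem (i : ι) : IsUnit (punctProj A ι i (idem A ι i)) := by
  have h := congrArg (punctProj A ι i) (IsLocalization.mk'_spec (punct A ι) (coord A ι i)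
    (⟨el A ι, Submonoid.mem_powers _⟩ : Submonoid.powers (el A ι)))
  rw [map_mul] at h
  have h1 : ∀ c, punctProj A ι i (algebraMap _ _ c) = algebraMap A[X] (Localization.Away (X : A[X])) (proj A ι i c) :=
    fun c => DFunLike.congr_fun (punctProj_comp A ι i) c
  rw [h1, h1, proj_el, proj_coord] at h
  have hX : IsUnit (algebraMap A[X] (Localization.Away (X : A[X])) X) := IsLocalization.Away.algebraMap_isUnit _
  exact isUnit_of_mul_isUnit_left (h ▸ hX)

theorem punctProj_algebraMap (i : ι) (c : axes A ι) :
    punctProj A ι i (algebraMap _ _ c) = algebraMap A[X] (Localization.Away (X : A[X])) (proj A ι i c) :=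
  DFunLike.congr_fun (punctProj_comp A ι i) c

/-- The `i`-th punctured axis is the locus where the `i`-th idempotent is invertible. -/
theorem bijective_lift_idem (i : ι) : Function.Bijective
    (IsLocalization.Away.lift (idem A ι i) (isUnit_punctProj_idem A ι i) :
      Localization.Away (idem A ι i) →+* Localization.Away (X : A[X])) := by
  constructor
  · rw [injective_iff_map_eq_zero]
    intro z hz
    obtain ⟨⟨w, ⟨_, m, rfl⟩⟩, hw⟩ := IsLocalization.surj (Submonoid.powers (idem A ι i)) z
    have h0 : punctProj A ι i w = 0 := by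
      rw [← IsLocalization.Away.lift_eq (S := Localization.Away (idem A ι i)) (idem A ι i) (isUnit_punctProj_idem A ι i) w, ← hw, map_mul, hz, zero_mul]
    obtain ⟨⟨p, ⟨_, n, rfl⟩⟩, hp⟩ := IsLocalization.surj (Submonoid.powers (el A ι)) w
    have h1 : algebraMap A[X] (Localization.Away (X : A[X])) (proj A ι i p) = 0 := by
      rw [← punctProj_algebraMap, ← hp, map_mul, h0, zero_mul]
    have h2 : proj A ι i p = 0 := injective_away A (by rw [h1, map_zero])
    have h3 : coord A ι i * p = 0 := by
      refine Subtype.ext (funext fun a => ?_)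
      show (Pi.single i X : ι → A[X]) a * p.1 a = 0
      by_cases ha : a = i
      · subst ha
        rw [show p.1 a = 0 from h2, mul_zero]
      · simp [ha]
    have he : IsUnit (algebraMap (axes A ι) (punct A ι) (el A ι ^ n)) := by
      rw [map_pow]; exact (IsLocalization.Away.algebraMap_isUnit _).pow n
    have hc : idem A ι i * w = 0 := by
      have e1 : IsUnit (algebraMap (axes A ι) (punct A ι) (el A ι)) := IsLocalization.Away.algebraMap_isUnit _
      refine (e1.mul he).mul_left_eq_zero.1 ?_
      calc idem A ι i * w * (algebraMap _ _ (el A ι) * algebraMap _ _ (el A ι ^ n))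
          = (idem A ι i * algebraMap _ _ (el A ι)) * (w * algebraMap _ _ (el A ι ^ n)) := by ring
        _ = algebraMap (axes A ι) (punct A ι) (coord A ι i * p) := by
          rw [map_mul, ← hp]
          congr 1
          exact IsLocalization.mk'_spec (punct A ι) (coord A ι i)
            (⟨el A ι, Submonoid.mem_powers _⟩ : Submonoid.powers (el A ι))
        _ = 0 := by rw [h3, map_zero]
    have hu : IsUnit (algebraMap (punct A ι) (Localization.Away (idem A ι i)) (idem A ι i)) :=
      IsLocalization.Away.algebraMap_isUnit _
    have : z * algebraMap _ _ (idem A ι i ^ m) * algebraMap _ _ (idem A ι i) = 0 := by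
      rw [hw, ← map_mul, mul_comm w, hc, map_zero]
    rw [map_pow, mul_assoc] at this
    exact ((hu.pow m).mul hu).mul_left_eq_zero.1 this
  · intro z
    obtain ⟨⟨q, ⟨_, n, rfl⟩⟩, hq⟩ := IsLocalization.surj (Submonoid.powers (X : A[X])) z
    let c : axes A ι := ⟨Pi.single i (q * X), fun a b => by
      have h : ∀ a, ((Pi.single i (q * X) : ι → A[X]) a).eval 0 = 0 := fun a => by
        by_cases h : a = i
        · subst h; simp
        · simp [h]
      rw [h, h]⟩
    have he : IsUnit (algebraMap (axes A ι) (punct A ι) (el A ι)) := IsLocalization.Away.algebraMap_isUnit _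
    refine ⟨algebraMap _ _ (algebraMap (axes A ι) (punct A ι) c * ↑((he.pow (n + 1)).unit⁻¹)), ?_⟩
    rw [IsLocalization.Away.lift_eq]
    have hX : IsUnit (algebraMap A[X] (Localization.Away (X : A[X])) X ^ (n + 1)) :=
      (IsLocalization.Away.algebraMap_isUnit _).pow _
    refine hX.mul_left_inj.1 ?_
    have h1 : punctProj A ι i (algebraMap _ _ (el A ι) ^ (n + 1)) =
        algebraMap A[X] (Localization.Away (X : A[X])) X ^ (n + 1) := by
      rw [map_pow, punctProj_algebraMap, proj_el]
    rw [← h1, ← map_mul, mul_assoc, IsUnit.val_inv_mul, mul_one, punctProj_algebraMap, h1, pow_succ, ← mul_assoc,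
      ← map_pow]
    rw [hq, ← map_mul]
    congr 1
    show (Pi.single i (q * X) : ι → A[X]) i = q * X
    simp

/-- The map of unions of axes of a map of index types. -/
def reindex {κ : Type} (f : κ → ι) : axes A ι →+* axes A κ :=
  ((RingHom.pi fun k => Pi.evalRingHom (fun _ : ι => A[X]) (f k)).comp (axes A ι).subtype).codRestrict (axes A κ)
    fun p a b => p.2 (f a) (f b)

theorem proj_reindex {κ : Type} [Fintype κ] [DecidableEq κ] (f : κ → ι) (k : κ) :
    (proj A κ k).comp (reindex A ι f) = proj A ι (f k) := RingHom.ext fun _ => rfl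

theorem reindex_el {κ : Type} [Fintype κ] [DecidableEq κ] (f : κ → ι) : reindex A ι f (el A ι) = el A κ := rfl

theorem reindex_const {κ : Type} [Fintype κ] [DecidableEq κ] (f : κ → ι) :
    (reindex A ι f).comp (const A ι) = const A κ := RingHom.ext fun _ => rfl

/-- The retraction of the union of axes to one axis, contracting the others to the origin. -/
def retr (i : ι) : A[X] →+* axes A ι :=
  (RingHom.pi fun k => if k = i then RingHom.id A[X] else (Polynomial.C : A →+* A[X]).comp (evalRingHom 0)).codRestrict
    (axes A ι) fun q a b => by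
      have h : ∀ a, ((RingHom.pi fun k => if k = i then RingHom.id A[X] else
          (Polynomial.C : A →+* A[X]).comp (evalRingHom 0)) q a).eval 0 = q.eval 0 := fun a => by
        by_cases h : a = i <;> simp [h]
      rw [h, h]

theorem proj_retr_self (i : ι) : (proj A ι i).comp (retr A ι i) = RingHom.id A[X] := by
  refine RingHom.ext fun q => ?_
  show (if i = i then RingHom.id A[X] else _) q = q
  simp

theorem proj_retr_ne {i k : ι} (h : k ≠ i) :
    (proj A ι k).comp (retr A ι i) = (Polynomial.C : A →+* A[X]).comp (evalRingHom 0) := by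
  refine RingHom.ext fun q => ?_
  show (if k = i then RingHom.id A[X] else _) q = _
  simp [h]

theorem retr_comp_C (i : ι) : (retr A ι i).comp Polynomial.C = const A ι := by
  refine RingHom.ext fun r => Subtype.ext (funext fun k => ?_)
  show (if k = i then RingHom.id A[X] else _) (C r) = C r
  by_cases h : k = i <;> simp [h]

variable {A ι}

/-- The double of a scheme along an open subscheme. -/
theorem exists_double {W Y : Scheme.{u}} (j : W ⟶ Y) [IsOpenImmersion j] :
    ∃ (Z : Scheme.{u}) (a b : Y ⟶ Z) (r : Z ⟶ Y), IsOpenImmersion a ∧ IsOpenImmersion b ∧ j ≫ a = j ≫ b ∧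
      a ≫ r = 𝟙 Y ∧ b ≫ r = 𝟙 Y ∧ (∀ z : Z, z ∈ Set.range a ∨ z ∈ Set.range b) ∧
      ∀ p q : Y, a p = b q → ∃ w, j w = p ∧ j w = q := by
  refine ⟨pushout j j, pushout.inl j j, pushout.inr j j, pushout.desc (𝟙 Y) (𝟙 Y) rfl, ?_, ?_,
    pushout.condition, pushout.inl_desc _ _ _, pushout.inr_desc _ _ _, fun z => ?_, fun p q h => ?_⟩
  · exact inferInstanceAs (IsOpenImmersion (colimit.ι (span j j) WalkingSpan.left))
  · exact inferInstanceAs (IsOpenImmersion (colimit.ι (span j j) WalkingSpan.right))
  · obtain ⟨i, xi, hi⟩ := Scheme.IsLocallyDirected.ι_jointly_surjective (span j j) z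
    rcases i with _ | _ | _
    · refine Or.inl ⟨j xi, ?_⟩
      rw [← Scheme.Hom.comp_apply, ← hi]
      exact congrArg (fun f : W ⟶ pushout j j => f xi) (colimit.w (span j j) WalkingSpan.Hom.fst)
    · exact Or.inl ⟨xi, hi⟩
    · exact Or.inr ⟨xi, hi⟩
  · obtain ⟨k, fi, fk, x, h1, h2⟩ := (Scheme.IsLocallyDirected.ι_eq_ι_iff (span j j)
      (i := WalkingSpan.left) (j := WalkingSpan.right)).1 h
    rcases k with _ | _ | _
    · obtain rfl : fi = WalkingSpan.Hom.fst := Subsingleton.elim _ _
      obtain rfl : fk = WalkingSpan.Hom.snd := Subsingleton.elim _ _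
      exact ⟨x, h1, h2⟩
    · exact nomatch (show WidePushoutShape.Hom _ _ from fk)
    · exact nomatch (show WidePushoutShape.Hom _ _ from fi)

end Groth.Agent.H9Axes
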