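import Mathlib

/-! Coequalizers of reflexive pairs and effective epimorphisms. -/

set_option autoImplicit false
set_option linter.all false
set_option synthInstance.maxHeartbeats 20000

open CategoryTheory CategoryTheory.Limits

namespace Groth.Agent.H9CatCoeqDescent

universe v₁ u₁

variable {C : Type u₁} [Category.{v₁} C] [HasPullbacks C] {X₁ X₀ Y₀ : C} (d₀ d₁ : X₁ ⟶ X₀) (s : X₀ ⟶ X₁)
  (hs₀ : s ≫ d₀ = 𝟙 X₀) (hs₁ : s ≫ d₁ = 𝟙 X₀) (f₀ : Y₀ ⟶ X₀) [EffectiveEpi f₀]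
  (hf : MorphismProperty.universally (MorphismProperty.epimorphisms C) f₀)

noncomputable abbrev e₁ : pullback (pullback.snd f₀ d₁ ≫ d₀) f₀ ⟶ Y₀ := pullback.fst (pullback.snd f₀ d₁ ≫ d₀) f₀ ≫ pullback.fst f₀ d₁
noncomputable abbrev e₀ : pullback (pullback.snd f₀ d₁ ≫ d₀) f₀ ⟶ Y₀ := pullback.snd (pullback.snd f₀ d₁ ≫ d₀) f₀

include hf in
theorem iff_coeq {T : C} (h : X₀ ⟶ T) : e₁ d₀ d₁ f₀ ≫ f₀ ≫ h = e₀ d₀ d₁ f₀ ≫ f₀ ≫ h ↔ d₁ ≫ h = d₀ ≫ h := by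
  have e1 : Epi (pullback.snd f₀ d₁) := hf _ _ _ (IsPullback.of_hasPullback f₀ d₁).flip
  have e2 : Epi (pullback.fst (pullback.snd f₀ d₁ ≫ d₀) f₀) := hf _ _ _ (IsPullback.of_hasPullback _ f₀)
  have k1 : e₁ d₀ d₁ f₀ ≫ f₀ = pullback.fst (pullback.snd f₀ d₁ ≫ d₀) f₀ ≫ pullback.snd f₀ d₁ ≫ d₁ := by
    simp [e₁, pullback.condition]
  have k0 : e₀ d₀ d₁ f₀ ≫ f₀ = pullback.fst (pullback.snd f₀ d₁ ≫ d₀) f₀ ≫ pullback.snd f₀ d₁ ≫ d₀ := by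
    simp [e₀, pullback.condition]
  rw [← Category.assoc, k1, ← Category.assoc (e₀ d₀ d₁ f₀), k0]
  simp only [Category.assoc, cancel_epi]

include hs₀ hs₁ hf in
theorem exists_desc {T : C} (g : Y₀ ⟶ T) (hg : e₁ d₀ d₁ f₀ ≫ g = e₀ d₀ d₁ f₀ ≫ g) :
    ∃! h : X₀ ⟶ T, d₁ ≫ h = d₀ ≫ h ∧ f₀ ≫ h = g := by
  have hdesc : ∀ {Z : C} (a b : Z ⟶ Y₀), a ≫ f₀ = b ≫ f₀ → a ≫ g = b ≫ g := fun a b hab => by
    let z := pullback.lift (f := pullback.snd f₀ d₁ ≫ d₀) (g := f₀) (pullback.lift a (a ≫ f₀ ≫ s) (by simp [hs₁])) b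
      (by rw [pullback.lift_snd_assoc, Category.assoc, Category.assoc, hs₀, Category.comp_id, hab])
    have := congrArg (z ≫ ·) hg
    simpa [z, e₁, e₀, pullback.lift_fst_assoc, pullback.lift_snd_assoc] using this
  have hh : f₀ ≫ EffectiveEpi.desc f₀ g hdesc = g := EffectiveEpi.fac f₀ g hdesc
  refine ⟨EffectiveEpi.desc f₀ g hdesc, ⟨(iff_coeq d₀ d₁ f₀ hf _).1 (by rw [hh, hg]), hh⟩, fun h ⟨_, h2⟩ => ?_⟩
  rw [← cancel_epi f₀, hh, h2]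

include hs₀ hs₁ hf in
theorem hasCoequalizer_iff : HasCoequalizer d₁ d₀ ↔ HasCoequalizer (e₁ d₀ d₁ f₀) (e₀ d₀ d₁ f₀) := by
  constructor
  · intro hc
    refine ⟨⟨⟨Cofork.ofπ (f₀ ≫ coequalizer.π d₁ d₀) ((iff_coeq d₀ d₁ f₀ hf _).2 (coequalizer.condition _ _)),
      Cofork.IsColimit.ofExistsUnique fun c => ?_⟩⟩⟩
    obtain ⟨h, ⟨h1, h2⟩, -⟩ := exists_desc d₀ d₁ s hs₀ hs₁ f₀ hf c.π c.condition
    refine ⟨coequalizer.desc h h1, ?_, fun m hm => ?_⟩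
    · show (f₀ ≫ coequalizer.π d₁ d₀) ≫ _ = _
      rw [Category.assoc, coequalizer.π_desc, h2]
    · refine (cancel_epi (coequalizer.π d₁ d₀)).1 ?_
      change (f₀ ≫ coequalizer.π d₁ d₀) ≫ m = _ at hm
      rw [coequalizer.π_desc, ← cancel_epi f₀, ← Category.assoc, hm, h2]
  · intro hc
    obtain ⟨h, ⟨h1, h2⟩, -⟩ := exists_desc d₀ d₁ s hs₀ hs₁ f₀ hf (coequalizer.π _ _) (coequalizer.condition (e₁ d₀ d₁ f₀) (e₀ d₀ d₁ f₀))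
    refine ⟨⟨⟨Cofork.ofπ h h1, Cofork.IsColimit.ofExistsUnique fun c => ?_⟩⟩⟩
    refine ⟨coequalizer.desc (f₀ ≫ c.π) ((iff_coeq d₀ d₁ f₀ hf _).2 c.condition), ?_, fun m hm => ?_⟩
    · show h ≫ _ = _
      rw [← cancel_epi f₀, ← Category.assoc, h2, coequalizer.π_desc]
    · refine (cancel_epi (coequalizer.π (e₁ d₀ d₁ f₀) (e₀ d₀ d₁ f₀))).1 ?_
      change h ≫ m = _ at hm
      rw [coequalizer.π_desc, ← hm, ← Category.assoc, h2]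

end Groth.Agent.H9CatCoeqDescent
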