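import Groth.Prelude.Def_ArtFun
import Mathlib.RingTheory.Flat.Basic
import Mathlib.LinearAlgebra.TensorProduct.Quotient
import Mathlib.Tactic.LinearCombination
import Mathlib.Tactic.Abel
import Mathlib.RingTheory.HopkinsLevitzki

/-!
Endomorphisms of deformations of absolutely irreducible modules are scalars.
-/

set_option backward.isDefEq.respectTransparency.types false

universe u v w w'

namespace Groth.Agent.H9DefMod

open scoped TensorProduct

/-- Flat modules: `t • f ∈ J F` forces `f ∈ (J : t) F`. -/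
lemma mem_colon_smul {R : Type u} [CommRing R] {F : Type w} [AddCommGroup F] [Module R F] [Module.Flat R F]
    (J : Ideal R) (t : R) (f : F) (hf : t • f ∈ J • (⊤ : Submodule R F)) :
    f ∈ (Submodule.comap (LinearMap.toSpanSingleton R R t) J : Ideal R) • (⊤ : Submodule R F) := by
  set C : Ideal R := Submodule.comap (LinearMap.toSpanSingleton R R t) J
  let μ : R ⧸ C →ₗ[R] R ⧸ J := Submodule.mapQ C J (LinearMap.toSpanSingleton R R t) le_rfl
  have hμ : Function.Injective μ := by
    rw [← LinearMap.ker_eq_bot, Submodule.eq_bot_iff]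
    intro x hx
    obtain ⟨a, rfl⟩ := Submodule.Quotient.mk_surjective _ x
    rw [LinearMap.mem_ker] at hx
    exact (Submodule.Quotient.mk_eq_zero _).2 ((Submodule.Quotient.mk_eq_zero J).1 hx)
  have h0 : μ.rTensor F (Submodule.Quotient.mk (1 : R) ⊗ₜ[R] f) = 0 := by
    refine (TensorProduct.quotTensorEquivQuotSMul F J).injective ?_
    rw [map_zero, LinearMap.rTensor_tmul]
    change TensorProduct.quotTensorEquivQuotSMul F J (Ideal.Quotient.mk J ((1 : R) • t) ⊗ₜ[R] f) = 0
    rw [one_smul, TensorProduct.quotTensorEquivQuotSMul_mk_tmul, Submodule.Quotient.mk_eq_zero]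
    exact hf
  have h1 := Module.Flat.rTensor_preserves_injective_linearMap μ hμ (h0.trans (map_zero _).symm)
  have h2 := congrArg (TensorProduct.quotTensorEquivQuotSMul F C) h1
  rw [map_zero] at h2
  rw [← Submodule.Quotient.mk_eq_zero (C • (⊤ : Submodule R F)), ← h2]
  change _ = TensorProduct.quotTensorEquivQuotSMul F C (Ideal.Quotient.mk C 1 ⊗ₜ[R] f)
  rw [TensorProduct.quotTensorEquivQuotSMul_mk_tmul, one_smul]

variable {K : Type u} [Field K] {D : Type v} [Ring D] [Algebra K D] {E : Type w} [AddCommGroup E] [Module K E]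
  [Module D E] {R : ArtFun.Art K K} {F : Type w'} [AddCommGroup F] [Module R F] [Module D F]
  [SMulCommClass R D F] [Module.Flat R F]

open IsLocalRing

omit [Algebra K D] in
/-- An endomorphism of a deformation inducing the identity is a scalar. -/
theorem exists_smul (hE : ∀ ψ : E →ₗ[D] E, ∃ c : K, ∀ y : E, ψ y = c • y)
    (θ : F →ₗ[D] E) (hθ : ∀ (r : R) (x : F), θ (r • x) = R.res r • θ x) (hθsurj : Function.Surjective θ)
    (hθker : ∀ x : F, θ x = 0 ↔ x ∈ maximalIdeal R • (⊤ : Submodule R F))
    (α : F →ₗ[R] F) (hαD : ∀ (d : D) (x : F), α (d • x) = d • α x) (hαθ : ∀ x : F, θ (α x) = θ x) :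
    ∃ r : R, R.res r = 1 ∧ ∀ x : F, α x = r • x := by
  let S : Set (Ideal R) :=
    {I | I ≤ maximalIdeal R ∧ ∃ r : R, R.res r = 1 ∧ ∀ x, α x - r • x ∈ I • (⊤ : Submodule R F)}
  obtain ⟨I, ⟨hIm, r, hr, hrI⟩, hmin⟩ := IsArtinian.set_has_minimal (R := R) (M := R) S
    ⟨maximalIdeal R, le_rfl, 1, map_one _, fun x => (hθker _).1 (by rw [map_sub, hαθ, one_smul, sub_self])⟩
  rcases eq_or_ne I ⊥ with rfl | hI
  · exact ⟨r, hr, fun x => sub_eq_zero.1 (by simpa using hrI x)⟩
  exfalso
  obtain ⟨J, hJI, hJmax⟩ := set_has_maximal_iff_noetherian.2 (isNoetherianRing_iff.1 inferInstance : IsNoetherian R R) {J : Ideal R | J < I}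
    ⟨⊥, bot_lt_iff_ne_bot.2 hI⟩
  obtain ⟨t, htI, htJ⟩ := SetLike.exists_of_lt (show J < I from hJI)
  have hsup : J ⊔ Ideal.span {t} = I := by
    refine (eq_of_le_of_not_lt (sup_le hJI.le ((Ideal.span_singleton_le_iff_mem _).2 htI)) fun h => hJmax _ h ?_)
    exact lt_of_le_of_ne le_sup_left fun e => htJ (e ▸ Submodule.mem_sup_right (Ideal.mem_span_singleton_self t))
  have hmt : ∀ a ∈ maximalIdeal R, a * t ∈ J := by
    intro a ha
    by_contra hat
    have h : I ≤ J ⊔ Ideal.span {a * t} := by
      refine (eq_of_le_of_not_lt (sup_le hJI.le ((Ideal.span_singleton_le_iff_mem _).2 (Ideal.mul_mem_left I a htI)))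
        fun h => hJmax _ h ?_).ge
      exact lt_of_le_of_ne le_sup_left fun e => hat (e ▸ Submodule.mem_sup_right (Ideal.mem_span_singleton_self _))
    obtain ⟨j, hj, y, hy, hjy⟩ := Submodule.mem_sup.1 (h htI)
    obtain ⟨b, rfl⟩ := Ideal.mem_span_singleton'.1 hy
    have hu : IsUnit (1 - b * a) := IsLocalRing.isUnit_one_sub_self_of_mem_nonunits _
      ((mem_maximalIdeal _).1 (Ideal.mul_mem_left _ b ha))
    exact htJ ((Ideal.unit_mul_mem_iff_mem J hu).1 (by
      rw [show (1 - b * a) * t = j by linear_combination -hjy]; exact hj))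
  have hcolon : ∀ f : F, t • f ∈ J • (⊤ : Submodule R F) → θ f = 0 := fun f hf => by
    refine (hθker f).2 (Submodule.smul_mono_left ?_ (mem_colon_smul J t f hf))
    intro c hc
    by_contra hcm
    rw [mem_maximalIdeal, mem_nonunits_iff, not_not] at hcm
    exact htJ ((Ideal.unit_mul_mem_iff_mem J hcm).1 hc)
  have hmJ : maximalIdeal R * I ≤ J := by
    rw [← hsup, Ideal.mul_sup, sup_le_iff]
    refine ⟨Ideal.mul_le_right, Ideal.mul_le.2 fun a ha y hy => ?_⟩
    obtain ⟨b, rfl⟩ := Ideal.mem_span_singleton'.1 hy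
    exact (show a * (b * t) = b * (a * t) by ring) ▸ Ideal.mul_mem_left J b (hmt a ha)
  have hdJ : ∀ (d : D) (x : F), x ∈ J • (⊤ : Submodule R F) → d • x ∈ J • (⊤ : Submodule R F) := fun d x hx =>
    Submodule.smul_induction_on hx (fun a ha y _ => by
      rw [← smul_comm]; exact Submodule.smul_mem_smul ha Submodule.mem_top) (fun y z hy hz => by
      rw [smul_add]; exact add_mem hy hz)
  have hex : ∀ f : F, ∃ h : F, α f - r • f - t • h ∈ J • (⊤ : Submodule R F) := by
    intro f
    have hmem := hrI f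
    rw [← hsup, Submodule.sup_smul] at hmem
    obtain ⟨y, hy, z, hz, hyz⟩ := Submodule.mem_sup.1 hmem
    obtain ⟨h, rfl⟩ : ∃ h, z = t • h := Submodule.smul_induction_on hz
      (fun a ha x _ => by
        obtain ⟨b, rfl⟩ := Ideal.mem_span_singleton'.1 ha
        exact ⟨b • x, by rw [smul_smul, mul_comm]⟩)
      (fun x y ⟨g, hg⟩ ⟨g', hg'⟩ => ⟨g + g', by rw [hg, hg', smul_add]⟩)
    exact ⟨h, by rw [← hyz, add_sub_cancel_right]; exact hy⟩
  have huniq : ∀ f f' h h', θ f = θ f' → α f - r • f - t • h ∈ J • (⊤ : Submodule R F) →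
      α f' - r • f' - t • h' ∈ J • (⊤ : Submodule R F) → θ h = θ h' := by
    intro f f' h h' hff h₁ h₂
    rw [← sub_eq_zero, ← map_sub]
    refine hcolon _ ?_
    have hΔ : α (f - f') - r • (f - f') ∈ J • (⊤ : Submodule R F) :=
      Submodule.smul_induction_on ((hθker (f - f')).1 (by rw [map_sub, hff, sub_self]))
        (fun a ha x _ => by
          have := Submodule.smul_mem_smul ha (hrI x)
          rw [← Submodule.smul_assoc, smul_eq_mul] at this
          rw [map_smul, smul_comm r a, ← smul_sub]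
          exact Submodule.smul_mono_left hmJ this)
        (fun x y hx hy => by
          rw [map_add, smul_add, add_sub_add_comm]
          exact add_mem hx hy)
    have := sub_mem (sub_mem hΔ h₁) (neg_mem h₂)
    convert this using 1
    rw [map_sub, smul_sub, smul_sub]
    abel
  choose g hg using hex
  choose l hl using hθsurj
  let ψ : E →ₗ[D] E :=
    { toFun := fun e => θ (g (l e))
      map_add' := fun e e' => by
        rw [← map_add]
        refine huniq _ (l e + l e') _ _ (by rw [map_add, hl, hl, hl]) (hg _) ?_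
        convert add_mem (hg (l e)) (hg (l e')) using 1
        rw [map_add, smul_add, smul_add]
        abel
      map_smul' := fun d e => by
        rw [RingHom.id_apply, ← map_smul]
        refine huniq _ (d • l e) _ _ (by rw [map_smul, hl, hl]) (hg _) ?_
        convert hdJ d _ (hg (l e)) using 1
        rw [smul_sub, smul_sub, hαD, smul_comm t d, smul_comm r d] }
  obtain ⟨c, hc⟩ := hE ψ
  refine hmin J ⟨hJI.le.trans hIm, r + t * algebraMap K R c, ?_, fun x => ?_⟩ hJI
  · rw [map_add, map_mul, (ArtFun.Art.mem_maximalIdeal_iff R t).1 (hIm htI), zero_mul, add_zero, hr]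
  · have hθh : θ (g x - algebraMap K R c • x) = 0 := by
      rw [map_sub, hθ, AlgHom.commutes, sub_eq_zero]
      have h1 : θ (g x) = θ (g (l (θ x))) := huniq x (l (θ x)) _ _ (hl _).symm (hg x) (hg _)
      rw [h1]
      exact hc (θ x)
    have h2 : t • (g x - algebraMap K R c • x) ∈ J • (⊤ : Submodule R F) := by
      refine Submodule.smul_induction_on ((hθker _).1 hθh) (fun a ha y _ => ?_) (fun y z hy hz => ?_)
      · rw [smul_smul, mul_comm]
        exact Submodule.smul_mem_smul (hmt a ha) Submodule.mem_top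
      · rw [smul_add]; exact add_mem hy hz
    have := add_mem (hg x) h2
    convert this using 1
    rw [smul_sub, smul_smul, add_smul]
    abel

end Groth.Agent.H9DefMod
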