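import Groth.Prelude.Def_FibCat2
/-! Equivalences over a base category. -/

set_option autoImplicit false
set_option linter.style.haveILetI false
set_option linter.unusedVariables false
set_option linter.unusedSectionVars false
set_option backward.isDefEq.respectTransparency.types false

universe v₄ u₄ v₃ u₃ v₂ u₂ v u

open CategoryTheory CategoryTheory.Functor CategoryTheory.Limits

noncomputable section

namespace Groth.Agent.H9Fib

variable {C : Type u} [Category.{v} C]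
variable {X : BasedCategory.{v₂, u₂} C} {Y : BasedCategory.{v₃, u₃} C} {Z : BasedCategory.{v₄, u₄} C}

/-- Whiskering a 2-isomorphism by a 1-morphism. -/
def wLeft (P : X ⥤ᵇ Y) {Q R : Y ⥤ᵇ Z} (i : Q ≅ R) : BasedFunctor.comp P Q ≅ BasedFunctor.comp P R where
  hom := BasedCategory.whiskerLeft P i.hom
  inv := BasedCategory.whiskerLeft P i.inv
  hom_inv_id := by ext a; exact congrArg (fun t => t.toNatTrans.app (P.obj a)) i.hom_inv_id
  inv_hom_id := by ext a; exact congrArg (fun t => t.toNatTrans.app (P.obj a)) i.inv_hom_id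

/-- Whiskering a 2-isomorphism by a 1-morphism on the right. -/
def wRight {Q R : X ⥤ᵇ Y} (i : Q ≅ R) (P : Y ⥤ᵇ Z) : BasedFunctor.comp Q P ≅ BasedFunctor.comp R P where
  hom := BasedCategory.whiskerRight i.hom P
  inv := BasedCategory.whiskerRight i.inv P
  hom_inv_id := by
    ext a
    exact ((P.toFunctor.map_comp _ _).symm.trans
      (congrArg P.toFunctor.map (congrArg (fun t => t.toNatTrans.app a) i.hom_inv_id))).trans
        (P.toFunctor.map_id _)
  inv_hom_id := by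
    ext a
    exact ((P.toFunctor.map_comp _ _).symm.trans
      (congrArg P.toFunctor.map (congrArg (fun t => t.toNatTrans.app a) i.inv_hom_id))).trans
        (P.toFunctor.map_id _)

theorem isEquivOver_id (X : BasedCategory.{v₂, u₂} C) : FibCat.IsEquivOver (BasedFunctor.id X) :=
  ⟨BasedFunctor.id X, ⟨Iso.refl _⟩, ⟨Iso.refl _⟩⟩

theorem isEquivOver_trans {F : X ⥤ᵇ Y} {G : Y ⥤ᵇ Z} (hF : FibCat.IsEquivOver F) (hG : FibCat.IsEquivOver G) :
    FibCat.IsEquivOver (BasedFunctor.comp F G) := by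
  obtain ⟨F', ⟨a⟩, ⟨b⟩⟩ := hF
  obtain ⟨G', ⟨c⟩, ⟨d⟩⟩ := hG
  exact ⟨BasedFunctor.comp G' F', ⟨wLeft F (wRight c F') ≪≫ a⟩, ⟨wLeft G' (wRight b G) ≪≫ d⟩⟩

/-- A fully faithful functor over the base hitting every object up to a vertical isomorphism is an equivalence over
the base. -/
theorem isEquivOver_of (F : X ⥤ᵇ Y) (hfull : F.toFunctor.Full) (hfaith : F.toFunctor.Faithful)
    (hess : ∀ η : Y.obj, ∃ (ξ : X.obj) (e : F.obj ξ ≅ η), Y.p.IsHomLift (𝟙 (Y.p.obj η)) e.hom) :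
    FibCat.IsEquivOver F := by
  choose o e he using hess
  let G0 : Y.obj ⥤ X.obj :=
    { obj := o
      map := fun {a b} k => F.toFunctor.preimage ((e a).hom ≫ k ≫ (e b).inv)
      map_id := fun a => F.toFunctor.map_injective (by
        rw [F.toFunctor.map_preimage, F.toFunctor.map_id, Category.id_comp, Iso.hom_inv_id])
      map_comp := fun {a b c} k l => F.toFunctor.map_injective (by
        rw [F.toFunctor.map_preimage, F.toFunctor.map_comp, F.toFunctor.map_preimage, F.toFunctor.map_preimage]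
        simp) }
  have ho : ∀ a, X.p.obj (o a) = Y.p.obj a := fun a =>
    (F.w_obj (o a)).symm.trans (@IsHomLift.domain_eq _ _ _ _ Y.p _ _ _ _ _ _ (he a))
  have lF : ∀ {a b : Y.obj} (k : a ⟶ b), Y.p.IsHomLift (Y.p.map k) (F.map (G0.map k)) := fun {a b} k => by
    show Y.p.IsHomLift (Y.p.map k) (F.toFunctor.map (F.toFunctor.preimage ((e a).hom ≫ k ≫ (e b).inv)))
    rw [F.toFunctor.map_preimage]
    haveI := he a
    haveI := he b
    haveI : Y.p.IsHomLift (𝟙 (Y.p.obj b)) (e b).inv := IsHomLift.lift_id_inv _ _ _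
    have := @IsHomLift.comp _ _ _ _ Y.p _ _ _ _ _ _ (𝟙 (Y.p.obj a)) (Y.p.map k ≫ 𝟙 _) (e a).hom (k ≫ (e b).inv)
      (he a) inferInstance
    rwa [Category.comp_id, Category.id_comp] at this
  let G : Y ⥤ᵇ X :=
    { toFunctor := G0
      w := CategoryTheory.Functor.ext ho fun a b k => by
        haveI : X.p.IsHomLift (Y.p.map k) (G0.map k) := (BasedFunctor.isHomLift_iff F _ _).1 (lF k)
        exact IsHomLift.fac' X.p (Y.p.map k) (G0.map k) }
  have hGF : ∀ a : Y.obj, Y.p.IsHomLift (𝟙 (Y.p.obj a)) (e a).hom := he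
  refine ⟨G, ⟨BasedNatIso.mkNatIso (NatIso.ofComponents
    (fun a => F.toFunctor.preimageIso (e (F.obj a))) ?_) ?_⟩,
    ⟨BasedNatIso.mkNatIso (NatIso.ofComponents e ?_) hGF⟩⟩
  · intro a b k
    apply F.toFunctor.map_injective
    show F.map (G0.map (F.map k) ≫ F.toFunctor.preimage (e (F.obj b)).hom) =
      F.map (F.toFunctor.preimage (e (F.obj a)).hom ≫ k)
    rw [F.toFunctor.map_comp, F.toFunctor.map_comp, F.toFunctor.map_preimage, F.toFunctor.map_preimage]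
    simp [G0]
  · intro a
    refine (BasedFunctor.isHomLift_iff F _ _).1 ?_
    show Y.p.IsHomLift (𝟙 (X.p.obj a)) (F.map (F.toFunctor.preimage (e (F.obj a)).hom))
    rw [F.toFunctor.map_preimage, ← F.w_obj a]
    exact he (F.obj a)
  · intro a b k
    show F.map (F.toFunctor.preimage ((e a).hom ≫ k ≫ (e b).inv)) ≫ (e b).hom = (e a).hom ≫ k
    rw [F.toFunctor.map_preimage]; simp

theorem full_of_isEquivOver {F : X ⥤ᵇ Y} (h : FibCat.IsEquivOver F) :
    F.toFunctor.Full ∧ F.toFunctor.Faithful ∧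
      ∀ η : Y.obj, ∃ (ξ : X.obj) (e : F.obj ξ ≅ η), Y.p.IsHomLift (𝟙 (Y.p.obj η)) e.hom := by
  obtain ⟨G, ⟨a⟩, ⟨b⟩⟩ := h
  let E : CategoryTheory.Equivalence X.obj Y.obj := CategoryTheory.Equivalence.mk F.toFunctor G.toFunctor
    ((BasedNatTrans.forgetful _ _).mapIso a).symm ((BasedNatTrans.forgetful _ _).mapIso b)
  refine ⟨inferInstanceAs E.functor.Full, inferInstanceAs E.functor.Faithful, fun η => ?_⟩
  exact ⟨G.obj η, ((BasedNatTrans.forgetful _ _).mapIso b).app η, b.hom.isHomLift' η⟩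

end Groth.Agent.H9Fib

namespace Groth.Agent.H9Fib

variable {C : Type u} [Category.{v} C]
variable {X : BasedCategory.{v₂, u₂} C} {Y : BasedCategory.{v₃, u₃} C} {Z : BasedCategory.{v₄, u₄} C}

section

variable [hZ : FibCat.IsFibGrpd Z.p]

theorem sc {V U : C} {y x : Z.obj} (f : V ⟶ U) (φ : y ⟶ x) [Z.p.IsHomLift f φ] : Z.p.IsStronglyCartesian f φ := by
  subst_hom_lift Z.p f φ
  exact hZ.isStronglyCartesian φ

theorem desc {W V U : C} {z y x : Z.obj} (g : W ⟶ V) (f : V ⟶ U) (φ : y ⟶ x)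
    [Z.p.IsHomLift f φ] (ψ : z ⟶ x) [Z.p.IsHomLift (g ≫ f) ψ] :
    ∃! χ : z ⟶ y, Z.p.IsHomLift g χ ∧ χ ≫ φ = ψ := by
  have := sc f φ
  obtain rfl := IsHomLift.domain_eq Z.p (g ≫ f) ψ
  exact IsStronglyCartesian.universal_property' (p := Z.p) (f := f) g ψ

theorem ext_lift {W V : C} {z y x : Z.obj} (g : W ⟶ V) {χ χ' : z ⟶ y} [Z.p.IsHomLift g χ]
    [Z.p.IsHomLift g χ'] (φ : y ⟶ x) (h : χ ≫ φ = χ' ≫ φ) : χ = χ' := by
  have hy := IsHomLift.codomain_eq Z.p g χ
  obtain rfl := hy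
  haveI : Z.p.IsHomLift (Z.p.map φ) φ := .map φ
  haveI : Z.p.IsHomLift (g ≫ Z.p.map φ) (χ ≫ φ) := inferInstance
  exact (desc g (Z.p.map φ) φ (χ ≫ φ)).unique ⟨inferInstance, rfl⟩ ⟨inferInstance, h.symm⟩

theorem isIso_vertical {U : C} {y x : Z.obj} (φ : y ⟶ x) [Z.p.IsHomLift (𝟙 U) φ] : IsIso φ := by
  have hx := IsHomLift.codomain_eq Z.p (𝟙 U) φ
  haveI : Z.p.IsHomLift (𝟙 U) (𝟙 x) := IsHomLift.id hx
  haveI : Z.p.IsHomLift (𝟙 U ≫ 𝟙 U) (𝟙 x) := by rw [Category.id_comp]; infer_instance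
  obtain ⟨χ, ⟨h1, h2⟩, -⟩ := desc (𝟙 U) (𝟙 U) φ (𝟙 x)
  haveI : Z.p.IsHomLift (𝟙 U) (𝟙 y) := IsHomLift.id (IsHomLift.domain_eq Z.p (𝟙 U) φ)
  exact ⟨χ, ext_lift (𝟙 U) φ (by simp [h2]), h2⟩

end

theorem isFibGrpd_fp [hX : FibCat.IsFibGrpd X.p] [hY : FibCat.IsFibGrpd Y.p] [hZ : FibCat.IsFibGrpd Z.p]
    (F : X ⥤ᵇ Z) (G : Y ⥤ᵇ Z) : FibCat.IsFibGrpd (FibCat.fp F G).p where
  exists_lift {w V} g := by
    change V ⟶ X.p.obj w.obj.fst at g
    have hw : Z.p.IsHomLift (𝟙 (X.p.obj w.obj.fst)) w.obj.iso.hom := w.property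
    obtain ⟨a, α, hα⟩ := hX.exists_lift (x := w.obj.fst) g
    have hb : Y.p.obj w.obj.snd = X.p.obj w.obj.fst := (G.w_obj _).symm.trans
      (IsHomLift.codomain_eq Z.p (𝟙 (X.p.obj w.obj.fst)) w.obj.iso.hom)
    obtain ⟨b, β, hβ⟩ := hY.exists_lift (x := w.obj.snd) (g ≫ eqToHom hb.symm)
    haveI := hα; haveI := hβ
    haveI : Z.p.IsHomLift g (F.map α) := inferInstance
    have hb' : Y.p.IsHomLift g β := by
      haveI : Y.p.IsHomLift ((g ≫ eqToHom hb.symm) ≫ eqToHom hb) β := inferInstance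
      simpa using this
    haveI := hb'
    haveI : Z.p.IsHomLift g (G.map β) := inferInstance
    haveI : Z.p.IsHomLift (g ≫ 𝟙 _) (F.map α ≫ w.obj.iso.hom) :=
      @IsHomLift.comp _ _ _ _ Z.p _ _ _ _ _ _ g (𝟙 _) _ _ inferInstance hw
    haveI : Z.p.IsHomLift (𝟙 V ≫ g) (F.map α ≫ w.obj.iso.hom) := by rw [Category.id_comp, ← Category.comp_id g]; infer_instance
    obtain ⟨χ, ⟨hχ, eχ⟩, -⟩ := desc (𝟙 V) g (G.map β) (F.map α ≫ w.obj.iso.hom)
    haveI : IsIso χ := @isIso_vertical _ _ Z _ V _ _ χ hχ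
    have ha : X.p.obj a = V := IsHomLift.domain_eq X.p g α
    refine ⟨⟨{ fst := a, snd := b, iso := asIso χ }, by show Z.p.IsHomLift (𝟙 (X.p.obj a)) χ; rw [ha]; exact hχ⟩,
      ObjectProperty.homMk { fst := α, snd := β, w := eχ.symm }, ?_⟩
    refine IsHomLift.of_fac' _ _ _ ha rfl ?_
    exact IsHomLift.fac' X.p g α
  isStronglyCartesian {y x} φ :=
    { universal_property' := fun {z} g ψ hψ => by
        have hy : Z.p.IsHomLift (𝟙 (X.p.obj y.obj.fst)) y.obj.iso.hom := y.property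
        have hz : Z.p.IsHomLift (𝟙 (X.p.obj z.obj.fst)) z.obj.iso.hom := z.property
        haveI l1 : X.p.IsHomLift (g ≫ (FibCat.fp F G).p.map φ) ψ.hom.fst :=
          @BasedFunctor.preserves_isHomLift _ _ _ _ (FibCat.fpFst F G) _ _ _ _ _ ψ hψ
        haveI : X.p.IsHomLift ((FibCat.fp F G).p.map φ) φ.hom.fst := .map φ.hom.fst
        haveI l2 : Y.p.IsHomLift (g ≫ (FibCat.fp F G).p.map φ) ψ.hom.snd :=
          @BasedFunctor.preserves_isHomLift _ _ _ _ (FibCat.fpSnd F G) _ _ _ _ _ ψ hψ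
        haveI : Y.p.IsHomLift ((FibCat.fp F G).p.map φ) φ.hom.snd := inferInstance
        obtain ⟨χ1, ⟨h1, e1⟩, u1⟩ := desc g ((FibCat.fp F G).p.map φ) φ.hom.fst ψ.hom.fst
        obtain ⟨χ2, ⟨h2, e2⟩, u2⟩ := desc g ((FibCat.fp F G).p.map φ) φ.hom.snd ψ.hom.snd
        haveI := h1; haveI := h2
        have sq : F.map χ1 ≫ y.obj.iso.hom = z.obj.iso.hom ≫ G.map χ2 := by
          have lA : Z.p.IsHomLift g (F.map χ1 ≫ y.obj.iso.hom) := by
            have := @IsHomLift.comp _ _ _ _ Z.p _ _ _ _ _ _ g (𝟙 _) (F.map χ1) _ inferInstance hy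
            rwa [Category.comp_id] at this
          have lB : Z.p.IsHomLift g (z.obj.iso.hom ≫ G.map χ2) := by
            have := @IsHomLift.comp _ _ _ _ Z.p _ _ _ _ _ _ (𝟙 _) g _ (G.map χ2) hz inferInstance
            rwa [Category.id_comp] at this
          refine @ext_lift _ _ Z _ _ _ _ _ _ g _ _ lA lB (G.map φ.hom.snd) ?_
          have wφ : F.map φ.hom.fst ≫ x.obj.iso.hom = y.obj.iso.hom ≫ G.map φ.hom.snd := φ.hom.w
          have wψ : F.map ψ.hom.fst ≫ x.obj.iso.hom = z.obj.iso.hom ≫ G.map ψ.hom.snd := ψ.hom.w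
          rw [Category.assoc, Category.assoc, ← wφ, ← Category.assoc, ← F.map_comp, e1, wψ, ← G.map_comp, e2]
        refine ⟨ObjectProperty.homMk { fst := χ1, snd := χ2, w := sq }, ⟨?_, ?_⟩, ?_⟩
        · refine IsHomLift.of_fac' _ _ _ rfl rfl ?_
          have := IsHomLift.fac' X.p g χ1
          exact this
        · exact ObjectProperty.hom_ext _ (CategoricalPullback.hom_ext e1 e2)
        · rintro χ ⟨hχ, eχ⟩
          refine ObjectProperty.hom_ext _ (CategoricalPullback.hom_ext (u1 _ ⟨?_, ?_⟩) (u2 _ ⟨?_, ?_⟩))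
          · exact @BasedFunctor.preserves_isHomLift _ _ _ _ (FibCat.fpFst F G) _ _ _ _ g χ hχ
          · exact congrArg (fun q : z ⟶ x => q.hom.fst) eχ
          · exact @BasedFunctor.preserves_isHomLift _ _ _ _ (FibCat.fpSnd F G) _ _ _ _ g χ hχ
          · exact congrArg (fun q : z ⟶ x => q.hom.snd) eχ }

end Groth.Agent.H9Fib
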