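import Groth.Prelude.Def_FibCat2
import Mathlib

/-! The restricted topology on a category fibred in groupoids. -/

set_option autoImplicit false
set_option linter.all false
set_option synthInstance.maxHeartbeats 40000
set_option maxHeartbeats 400000

universe v u v₂ u₂ v₃ u₃

open CategoryTheory

namespace Groth.Agent.H9FibRestrTop

variable {C : Type u} [Category.{v} C] {X : Type u₂} [Category.{v₂} X] (p : X ⥤ C)

theorem push_pullback (hp : FibCat.IsFibGrpd p) {x y : X} (S : Sieve x) (g : y ⟶ x) :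
    (S.functorPushforward p).pullback (p.map g) = (S.pullback g).functorPushforward p := by
  apply le_antisymm
  · rintro W h ⟨z, f, k, hf, e⟩
    obtain ⟨w, ψ, hψ⟩ := hp.exists_lift k
    have hW : p.obj w = W := IsHomLift.domain_eq p k ψ
    subst hW
    have hk : p.map ψ = k := (IsHomLift.eq_of_isHomLift p k ψ).symm
    haveI := hp.isStronglyCartesian g
    have hg : p.map (ψ ≫ f) = h ≫ p.map g := by rw [p.map_comp, hk, ← e]
    let ρ := Functor.IsStronglyCartesian.map p (p.map g) g hg (ψ ≫ f)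
    have hρ : ρ ≫ g = ψ ≫ f := Functor.IsStronglyCartesian.fac p (p.map g) g hg (ψ ≫ f)
    have hρh : p.map ρ = h := (IsHomLift.eq_of_isHomLift p h ρ).symm
    refine ⟨w, ρ, 𝟙 _, ?_, ?_⟩
    · show S (ρ ≫ g)
      rw [hρ]; exact S.downward_closed hf ψ
    · simp [hρh]
  · rintro W h ⟨z, f, k, hf, rfl⟩
    exact ⟨z, f ≫ g, k, hf, by simp⟩

/-- The topology of sieves with covering image. -/
def pushTop (hp : FibCat.IsFibGrpd p) (J : GrothendieckTopology C) : GrothendieckTopology X where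
  sieves x := {S | S.functorPushforward p ∈ J (p.obj x)}
  top_mem' x := by
    show (⊤ : Sieve x).functorPushforward p ∈ J _
    rw [Sieve.functorPushforward_top]; exact J.top_mem _
  pullback_stable' {x y} S g hS := by
    show (S.pullback g).functorPushforward p ∈ J _
    rw [← push_pullback p hp]; exact J.pullback_stable _ hS
  transitive' {x} S hS R hR := by
    show R.functorPushforward p ∈ J _
    refine J.transitive hS _ ?_
    rintro W h ⟨z, f, k, hf, rfl⟩
    rw [Sieve.pullback_comp]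
    refine J.pullback_stable k ?_
    rw [push_pullback p hp]
    exact hR hf

theorem restricted_eq (hp : FibCat.IsFibGrpd p) (J : GrothendieckTopology C) : p.restrictedTopology J = pushTop p hp J := by
  refine le_antisymm ?_ fun x S hS => Functor.mem_restrictedTopology_of_functorPushforward_mem hS
  refine (Precoverage.toGrothendieck_le_iff_le_toPrecoverage).2 fun x R hR => ?_
  rw [GrothendieckTopology.mem_toPrecoverage_iff]
  show (Sieve.generate R).functorPushforward p ∈ J _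
  rw [← Sieve.generate_map_eq_functorPushforward]
  exact hR

theorem mem_iff (hp : FibCat.IsFibGrpd p) (J : GrothendieckTopology C) {x : X} (S : Sieve x) :
    S ∈ p.restrictedTopology J x ↔ S.functorPushforward p ∈ J (p.obj x) := by
  rw [restricted_eq p hp]; rfl

variable {p} in
theorem based_props {Y : Type u₃} [Category.{v₃} Y] {q : Y ⥤ C} (hp : FibCat.IsFibGrpd p) (hq : FibCat.IsFibGrpd q)
    (J : GrothendieckTopology C) (F : X ⥤ Y) (hF : F ⋙ q = p) :
    CoverPreserving (p.restrictedTopology J) (q.restrictedTopology J) F ∧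
      F.IsCocontinuous (p.restrictedTopology J) (q.restrictedTopology J) := by
  subst hF
  refine ⟨⟨fun {x S} hS => ?_⟩, ⟨fun {x S} hS => ?_⟩⟩
  · rw [mem_iff _ hp] at hS
    rw [mem_iff _ hq, ← Sieve.functorPushforward_comp]
    exact hS
  · rw [mem_iff _ hq] at hS
    rw [mem_iff _ hp]
    refine J.superset_covering ?_ hS
    rintro W h ⟨z, f, k, hf, rfl⟩
    obtain ⟨w, ψ, hψ⟩ := hp.exists_lift (k ≫ q.map f)
    obtain ⟨w', ψ', hψ'⟩ := hq.exists_lift k
    have hW : (F ⋙ q).obj w = W := IsHomLift.domain_eq (F ⋙ q) (k ≫ q.map f) ψ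
    subst hW
    have e1 : q.map (F.map ψ) = k ≫ q.map f := (IsHomLift.eq_of_isHomLift (F ⋙ q) (k ≫ q.map f) ψ).symm
    have hw : q.obj w' = (F ⋙ q).obj w := IsHomLift.domain_eq q k ψ'
    have hk : k = eqToHom hw.symm ≫ q.map ψ' := by
      have := IsHomLift.fac q k ψ'
      simpa using this
    haveI := hq.isStronglyCartesian (ψ' ≫ f)
    have hg : q.map (F.map ψ) = eqToHom hw.symm ≫ q.map (ψ' ≫ f) := by
      rw [e1, hk]; simp
    let θ := Functor.IsStronglyCartesian.map q (q.map (ψ' ≫ f)) (ψ' ≫ f) hg (F.map ψ)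
    have hθ : θ ≫ ψ' ≫ f = F.map ψ := Functor.IsStronglyCartesian.fac q (q.map (ψ' ≫ f)) (ψ' ≫ f) hg (F.map ψ)
    refine ⟨w, ψ, 𝟙 _, ?_, ?_⟩
    · show S (F.map ψ)
      rw [← hθ]
      exact S.downward_closed (S.downward_closed hf ψ') θ
    · show k ≫ q.map f = 𝟙 _ ≫ q.map (F.map ψ)
      rw [Category.id_comp, e1]

variable {p} in
theorem compatiblePreserving {Y : Type u₃} [Category.{v₃} Y] {q : Y ⥤ C} (hp : FibCat.IsFibGrpd p)
    (hq : FibCat.IsFibGrpd q) (K : GrothendieckTopology Y) (F : X ⥤ Y) (hF : F ⋙ q = p) :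
    CompatiblePreserving K F := by
  subst hF
  refine ⟨fun ℱ Z T x hx {Y₁ Y₂ Y'} f₁ f₂ g₁ g₂ hg₁ hg₂ e => ?_⟩
  obtain ⟨w, ψ₁, hψ₁⟩ := hp.exists_lift (show q.obj Y' ⟶ (F ⋙ q).obj Y₁ from q.map f₁)
  have hw : (F ⋙ q).obj w = q.obj Y' := IsHomLift.domain_eq (F ⋙ q) (q.map f₁) ψ₁
  have e1 : q.map (F.map ψ₁) = eqToHom hw ≫ q.map f₁ := by
    have := IsHomLift.fac' (F ⋙ q) (q.map f₁) ψ₁
    simpa using this
  haveI := hp.isStronglyCartesian g₂
  have hg' : (F ⋙ q).map (ψ₁ ≫ g₁) = (eqToHom hw ≫ q.map f₂) ≫ (F ⋙ q).map g₂ := by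
    simp only [Functor.map_comp, Functor.comp_map, e1, Category.assoc]; rw [← q.map_comp, ← q.map_comp, e]
  let ψ₂ := Functor.IsStronglyCartesian.map (F ⋙ q) ((F ⋙ q).map g₂) g₂ hg' (ψ₁ ≫ g₁)
  have hψ₂ : ψ₂ ≫ g₂ = ψ₁ ≫ g₁ := Functor.IsStronglyCartesian.fac (F ⋙ q) ((F ⋙ q).map g₂) g₂ hg' (ψ₁ ≫ g₁)
  have e2 : q.map (F.map ψ₂) = eqToHom hw ≫ q.map f₂ :=
    (IsHomLift.eq_of_isHomLift (F ⋙ q) (eqToHom hw ≫ q.map f₂) ψ₂).symm
  haveI := hq.isStronglyCartesian (F.map ψ₁)
  have hg'' : q.map f₁ = eqToHom hw.symm ≫ q.map (F.map ψ₁) := by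
    rw [e1]; exact (by simp : q.map f₁ = eqToHom hw.symm ≫ eqToHom hw ≫ q.map f₁)
  let θ := Functor.IsStronglyCartesian.map q (q.map (F.map ψ₁)) (F.map ψ₁) hg'' f₁
  have hθ₁ : θ ≫ F.map ψ₁ = f₁ := Functor.IsStronglyCartesian.fac q (q.map (F.map ψ₁)) (F.map ψ₁) hg'' f₁
  have hθ : q.map θ = eqToHom hw.symm := (IsHomLift.eq_of_isHomLift q (eqToHom hw.symm) θ).symm
  have hθ₂ : θ ≫ F.map ψ₂ = f₂ := by
    haveI := hq.isStronglyCartesian (F.map g₂)
    have hl : q.map (θ ≫ F.map ψ₂) = q.map f₂ := by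
      rw [q.map_comp, hθ, e2]; exact (by simp : eqToHom hw.symm ≫ eqToHom hw ≫ q.map f₂ = q.map f₂)
    haveI : q.IsHomLift (q.map f₂) f₂ := inferInstance
    haveI : q.IsHomLift (q.map f₂) (θ ≫ F.map ψ₂) := hl ▸ inferInstance
    refine Functor.IsStronglyCartesian.ext q (q.map (F.map g₂)) (F.map g₂) (q.map f₂) ?_
    rw [Category.assoc, ← F.map_comp, hψ₂, F.map_comp, ← Category.assoc, hθ₁, e]
  rw [← hθ₁, ← hθ₂]
  simp only [op_comp, Functor.map_comp, ConcreteCategory.comp_apply]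
  exact congrArg _ (hx ψ₁ ψ₂ hg₁ hg₂ hψ₂.symm)

end Groth.Agent.H9FibRestrTop
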