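import Groth.Prelude.Def_Grpd
import Mathlib.AlgebraicGeometry.PullbackCarrier
import Mathlib.AlgebraicGeometry.Morphisms.Separated
import Mathlib.AlgebraicGeometry.Morphisms.Immersion
import Mathlib.AlgebraicGeometry.Morphisms.UniversallyOpen

/-!
Elementary groupoid scheme algebra and orbits.
-/

set_option backward.isDefEq.respectTransparency false
set_option backward.isDefEq.respectTransparency.types false

universe u

open AlgebraicGeometry CategoryTheory CategoryTheory.Limits

namespace Groth.Agent.H9Grpd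

variable {S : Scheme.{u}} (G : Grpd.GroupoidScheme S)

/-- Composable arrows on points compose. -/
lemma exists_comp (r r' : G.R) (h : G.s r = G.t r') : ∃ q : G.R, G.t q = G.t r ∧ G.s q = G.s r' := by
  obtain ⟨z, h₁, h₂⟩ := Scheme.Pullback.exists_preimage_pullback (f := G.s) (g := G.t) r r' h
  have e : pullback.lift (pullback.fst G.s G.t) (pullback.snd G.s G.t) pullback.condition = 𝟙 _ :=
    pullback.hom_ext (by rw [pullback.lift_fst, Category.id_comp]) (by rw [pullback.lift_snd, Category.id_comp])
  have ht := G.comp_t (pullback.fst G.s G.t) (pullback.snd G.s G.t) pullback.condition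
  have hs := G.comp_s (pullback.fst G.s G.t) (pullback.snd G.s G.t) pullback.condition
  rw [e, Category.id_comp] at ht hs
  refine ⟨G.c z, ?_, ?_⟩
  · rw [← h₁, ← Scheme.Hom.comp_apply, ← Scheme.Hom.comp_apply, ht]
  · rw [← h₂, ← Scheme.Hom.comp_apply, ← Scheme.Hom.comp_apply, hs]

lemma exists_inv (r : G.R) : ∃ q : G.R, G.t q = G.s r ∧ G.s q = G.t r :=
  ⟨G.i r, by rw [← Scheme.Hom.comp_apply, G.i_t], by rw [← Scheme.Hom.comp_apply, G.i_s]⟩

variable {T : Scheme.{u}}

/-- The composite of two arrows with values in `T`. -/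
noncomputable def mul (α β : T ⟶ G.R) (h : α ≫ G.s = β ≫ G.t) : T ⟶ G.R := pullback.lift α β h ≫ G.c

lemma mul_congr {α α' β β' : T ⟶ G.R} (e₁ : α = α') (e₂ : β = β') (h : α ≫ G.s = β ≫ G.t)
    (h' : α' ≫ G.s = β' ≫ G.t) : mul G α β h = mul G α' β' h' := by
  subst e₁ e₂; rfl

lemma mul_mul_inv (α β : T ⟶ G.R) (h : α ≫ G.s = β ≫ G.t)
    (h' : mul G α β h ≫ G.s = (β ≫ G.i) ≫ G.t) : mul G (mul G α β h) (β ≫ G.i) h' = α := by
  have h₂ : β ≫ G.s = (β ≫ G.i) ≫ G.t := by rw [Category.assoc, G.i_t]
  refine (G.assoc α β (β ≫ G.i) h h₂).trans ?_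
  exact (mul_congr G rfl ((G.comp_i β).trans (by rw [reassoc_of% h])) _
    (by rw [Category.assoc, Category.assoc, G.e_t, Category.comp_id])).trans (G.comp_e α)

lemma mul_inv_mul (γ β : T ⟶ G.R) (h : γ ≫ G.s = (β ≫ G.i) ≫ G.t)
    (h' : mul G γ (β ≫ G.i) h ≫ G.s = β ≫ G.t) : mul G (mul G γ (β ≫ G.i) h) β h' = γ := by
  have h₂ : (β ≫ G.i) ≫ G.s = β ≫ G.t := by rw [Category.assoc, G.i_s]
  refine (G.assoc γ (β ≫ G.i) β h h₂).trans ?_
  have hs : γ ≫ G.s = β ≫ G.s := by rw [h, Category.assoc, G.i_t]
  exact (mul_congr G rfl ((G.i_comp β).trans (by rw [reassoc_of% hs])) _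
    (by rw [Category.assoc, Category.assoc, G.e_t, Category.comp_id])).trans (G.comp_e γ)

lemma cond_div {γ β : T ⟶ G.R} (h : γ ≫ G.s = β ≫ G.s) : γ ≫ G.s = (β ≫ G.i) ≫ G.t := by
  rw [Category.assoc, G.i_t, h]

/-- `(α, β) ↦ (α β, β)`. -/
noncomputable def shear : pullback G.s G.t ≅ pullback G.s G.s where
  hom := pullback.lift G.c (pullback.snd G.s G.t) (by
    have := G.comp_s (pullback.fst G.s G.t) (pullback.snd G.s G.t) pullback.condition
    rw [show pullback.lift (pullback.fst G.s G.t) (pullback.snd G.s G.t) pullback.condition = 𝟙 _ from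
      pullback.hom_ext (by rw [pullback.lift_fst, Category.id_comp]) (by rw [pullback.lift_snd, Category.id_comp]),
      Category.id_comp] at this
    exact this)
  inv := pullback.lift (mul G (pullback.fst G.s G.s) (pullback.snd G.s G.s ≫ G.i) (cond_div G pullback.condition))
    (pullback.snd G.s G.s) (by rw [mul, G.comp_s, Category.assoc, G.i_s])
  hom_inv_id := by
    refine pullback.hom_ext ?_ (by simp)
    simp only [Category.assoc, pullback.lift_fst, Category.id_comp]
    rw [mul, ← Category.assoc]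
    have e : pullback.lift (pullback.fst G.s G.t) (pullback.snd G.s G.t) pullback.condition = 𝟙 _ :=
      pullback.hom_ext (by rw [pullback.lift_fst, Category.id_comp]) (by rw [pullback.lift_snd, Category.id_comp])
    have hc : mul G (pullback.fst G.s G.t) (pullback.snd G.s G.t) pullback.condition = G.c := by
      rw [mul, e, Category.id_comp]
    have hs : G.c ≫ G.s = pullback.snd G.s G.t ≫ G.s := by
      rw [← hc, mul, G.comp_s]
    refine Eq.trans ?_ ((mul_congr G hc.symm rfl (cond_div G hs) ((cond_div G (by rw [hc, hs])))).trans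
      (mul_mul_inv G (pullback.fst G.s G.t) (pullback.snd G.s G.t) pullback.condition _))
    rw [mul]
    congr 1
    apply pullback.hom_ext
    · simp
    · simp
  inv_hom_id := by
    refine pullback.hom_ext ?_ (by simp)
    simp only [Category.assoc, pullback.lift_fst, Category.id_comp]
    exact mul_inv_mul G (pullback.fst G.s G.s) (pullback.snd G.s G.s) (cond_div G pullback.condition) _

lemma shear_hom_fst : (shear G).hom ≫ pullback.fst G.s G.s = G.c := pullback.lift_fst _ _ _

/-- Arrows `γ, β` with a common source and `γ β⁻¹` an identity are equal. -/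
lemma eq_of_div_eq_id {γ β : T ⟶ G.R} (h : γ ≫ G.s = β ≫ G.s) (a : T ⟶ G.U)
    (he : mul G γ (β ≫ G.i) (cond_div G h) = a ≫ G.e) : γ = β := by
  have hmt : mul G γ (β ≫ G.i) (cond_div G h) ≫ G.s = β ≫ G.t := by rw [mul, G.comp_s, Category.assoc, G.i_s]
  have ha : a = β ≫ G.t := by rw [← hmt, he, Category.assoc, G.e_s, Category.comp_id]
  refine (mul_inv_mul G γ β (cond_div G h) hmt).symm.trans ?_
  refine (mul_congr G (he.trans (by rw [ha, Category.assoc])) rfl hmt
    (by rw [Category.assoc, Category.assoc, G.e_s, Category.comp_id])).trans (G.e_comp β)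

/-- If the identity section is a closed immersion, then the source map is separated. -/
theorem isSeparated_s [IsClosedImmersion G.e] : IsSeparated G.s := by
  let ν : pullback G.s G.s ⟶ G.R :=
    mul G (pullback.fst G.s G.s) (pullback.snd G.s G.s ≫ G.i) (cond_div G pullback.condition)
  refine ⟨?_⟩
  have hν : ∀ {T : Scheme.{u}} (z : T ⟶ pullback G.s G.s),
      z ≫ ν = mul G (z ≫ pullback.fst G.s G.s) ((z ≫ pullback.snd G.s G.s) ≫ G.i)
        (cond_div G (by rw [Category.assoc, Category.assoc, pullback.condition])) := fun z => by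
    simp only [ν, mul, ← Category.assoc]
    congr 1
    apply pullback.hom_ext
    · rw [Category.assoc, pullback.lift_fst, pullback.lift_fst]
    · rw [Category.assoc, pullback.lift_snd, pullback.lift_snd, Category.assoc]
  have hd : ∀ {T : Scheme.{u}} (α : T ⟶ G.R) (h : α ≫ G.s = (α ≫ G.i) ≫ G.t), mul G α (α ≫ G.i) h = α ≫ G.t ≫ G.e :=
    fun α h => G.comp_i α
  have sq : IsPullback (pullback.diagonal G.s) G.t ν G.e := by
    refine IsPullback.of_isLimit' ⟨?_⟩ (PullbackCone.IsLimit.mk _ (fun c => c.fst ≫ pullback.fst G.s G.s) ?_ ?_ ?_)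
    · rw [hν, ← hd (𝟙 G.R) (by rw [Category.id_comp, Category.id_comp, G.i_t]) |>.trans (Category.id_comp _)]
      exact mul_congr G (pullback.diagonal_fst _) (by rw [pullback.diagonal_snd]) _ _
    · intro c
      have heq : c.fst ≫ pullback.fst G.s G.s = c.fst ≫ pullback.snd G.s G.s :=
        eq_of_div_eq_id G (by rw [Category.assoc, Category.assoc, pullback.condition]) c.snd
          ((hν c.fst).symm.trans c.condition)
      apply pullback.hom_ext
      · rw [Category.assoc, pullback.diagonal_fst, Category.comp_id]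
      · rw [Category.assoc, pullback.diagonal_snd, Category.comp_id, heq]
    · intro c
      have heq : c.fst ≫ pullback.fst G.s G.s = c.fst ≫ pullback.snd G.s G.s :=
        eq_of_div_eq_id G (by rw [Category.assoc, Category.assoc, pullback.condition]) c.snd
          ((hν c.fst).symm.trans c.condition)
      have h1 : c.fst ≫ ν = c.snd ≫ G.e := c.condition
      rw [hν, mul_congr G rfl (by rw [← heq]) _ (by rw [Category.assoc _ G.i, G.i_t]),
        hd, ] at h1
      have := congrArg (· ≫ G.s) h1
      simpa [Category.assoc, G.e_s] using this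
    · intro c m h₁ _
      have := congrArg (· ≫ pullback.fst G.s G.s) h₁
      simpa using this
  exact MorphismProperty.of_isPullback sq.flip ‹_›

/-- A rational point over an affine base is closed. -/
theorem isClosedImmersion_section {X Y : Scheme.{u}} [IsAffine X] [Subsingleton X] (e : X ⟶ Y) (s : Y ⟶ X)
    (h : e ≫ s = 𝟙 X) : IsClosedImmersion e := by
  haveI : IsImmersion e := by
    haveI : IsImmersion (e ≫ s) := by rw [h]; infer_instance
    exact IsImmersion.of_comp e s
  refine IsClosedImmersion.of_isPreimmersion e (isClosed_of_closure_subset fun y hy => ?_)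
  obtain ⟨V, hV, hyV, -⟩ := exists_isAffineOpen_mem_and_subset (x := y) (U := ⊤) trivial
  haveI : IsAffine V.toScheme := hV
  obtain ⟨-, hx, x, rfl⟩ := mem_closure_iff.1 hy _ V.isOpen hyV
  have hr : Set.range e ⊆ Set.range V.ι := by
    rintro _ ⟨x', rfl⟩
    rw [Scheme.Opens.range_ι, Subsingleton.elim x' x]
    exact hx
  let e' := IsOpenImmersion.lift V.ι e hr
  have he' : e' ≫ V.ι = e := IsOpenImmersion.lift_fac _ _ _
  haveI : IsClosedImmersion (e' ≫ V.ι ≫ s) := by rw [reassoc_of% he', h]; infer_instance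
  haveI : IsClosedImmersion e' := IsClosedImmersion.of_comp e' (V.ι ≫ s)
  have hc : ⟨y, hyV⟩ ∈ closure (Set.range e') := by
    rw [mem_closure_iff]
    intro W hW hyW
    obtain ⟨W', hW', rfl⟩ := isOpen_induced_iff.1 hW
    obtain ⟨-, hxW, x', rfl⟩ := mem_closure_iff.1 hy W' hW' hyW
    refine ⟨e' x', ?_, x', rfl⟩
    rw [← he'] at hxW
    exact hxW
  rw [(IsClosedImmersion.base_closed (f := e')).isClosed_range.closure_eq] at hc
  obtain ⟨x', hx'⟩ := hc
  exact ⟨x', by rw [← he']; exact congrArg Subtype.val hx'⟩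

end Groth.Agent.H9Grpd
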