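import Groth.Prelude.Def_Grpd
import Groth.Agent.Lib.H9Grpd
import Mathlib

/-! A basis of `Γ(R)` of the form `t x_i` gives a basis of `Γ(U)` over the invariants. -/

set_option autoImplicit false
set_option backward.isDefEq.respectTransparency.types false
set_option backward.isDefEq.respectTransparency false

universe u

open AlgebraicGeometry CategoryTheory CategoryTheory.Limits
open scoped TensorProduct

namespace Groth.Agent.H9GrpdBasis

variable {S : Scheme.{u}} (G : Grpd.GroupoidScheme S)

/-- base change of a basis along a pushout, uniqueness of coefficients -/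
theorem coeff_eq {A B C P : CommRingCat.{u}} {f : A ⟶ C} {g : A ⟶ B} {inl : C ⟶ P} {inr : B ⟶ P}
    (h : IsPushout f g inl inr) {I : Type u} (b : letI := g.hom.toAlgebra; Module.Basis I A B)
    (l l' : I →₀ C)
    (he : (l.sum fun i c => inl.hom c * inr.hom (letI := g.hom.toAlgebra; b i)) =
      l'.sum fun i c => inl.hom c * inr.hom (letI := g.hom.toAlgebra; b i)) : l = l' := by
  letI := f.hom.toAlgebra; letI := g.hom.toAlgebra; letI := inl.hom.toAlgebra; letI := inr.hom.toAlgebra
  letI : Algebra A P := (inl.hom.comp f.hom).toAlgebra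
  haveI : IsScalarTower A C P := .of_algebraMap_eq' rfl
  haveI : IsScalarTower A B P := .of_algebraMap_eq' <| congr($(h.1.1).hom)
  haveI : Algebra.IsPushout A C B P := CommRingCat.isPushout_iff_isPushout.mp h
  let bP := (Algebra.IsPushout.out (R := A) (S := C) (R' := B) (S' := P)).basis b
  apply bP.repr.symm.injective
  have key : ∀ m : I →₀ C, bP.repr.symm m = m.sum fun i c => inl.hom c * inr.hom (b i) := fun m => by
    rw [Module.Basis.repr_symm_apply, Finsupp.linearCombination_apply]
    refine Finsupp.sum_congr fun i _ => ?_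
    rw [Algebra.smul_def, IsBaseChange.basis_apply]
    rfl
  rw [key, key]
  exact he

theorem basis_invariants [IsAffine G.U] [IsAffine G.R] {I : Type u} (x : I → Γ(G.U, ⊤))
    (hB : letI := G.s.appTop.hom.toAlgebra
      ∃ b : Module.Basis I Γ(G.U, ⊤) Γ(G.R, ⊤), ∀ i, b i = G.t.appTop.hom (x i)) :
    (∃ b : Module.Basis I G.invariants Γ(G.U, ⊤), ∀ i, b i = x i) ∧
      (letI := (G.s.appTop.hom.comp G.invariants.subtype).toAlgebra
       ∀ φ : TensorProduct G.invariants Γ(G.U, ⊤) Γ(G.U, ⊤) →ₗ[G.invariants] Γ(G.R, ⊤),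
        (∀ a a' : Γ(G.U, ⊤), φ (a ⊗ₜ[G.invariants] a') = G.t.appTop.hom a * G.s.appTop.hom a') → Function.Bijective φ) := by
  letI := G.s.appTop.hom.toAlgebra
  obtain ⟨b, hb⟩ := hB
  have h1 : IsPullback (pullback.snd G.s G.t) (pullback.fst G.s G.t) G.t G.s := (IsPullback.of_hasPullback G.s G.t).flip
  have h2 : IsPullback (pullback.snd G.s G.t) G.c G.s G.s := by
    refine IsPullback.flip (IsPullback.of_iso (IsPullback.of_hasPullback G.s G.s) (H9Grpd.shear G).symm (Iso.refl _) (Iso.refl _)
      (Iso.refl _) ?_ ?_ ?_ ?_)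
    · rw [Iso.refl_hom, Category.comp_id, ← H9Grpd.shear_hom_fst G, Iso.symm_hom, Iso.inv_hom_id_assoc]
    · rw [Iso.refl_hom, Category.comp_id, Iso.symm_hom]
      simp [H9Grpd.shear]
    · simp
    · simp
  have hct : ∀ f, G.c.appTop.hom (G.t.appTop.hom f) = (pullback.fst G.s G.t).appTop.hom (G.t.appTop.hom f) := fun f => by
    have hc : G.c ≫ G.t = pullback.fst G.s G.t ≫ G.t := by
      have h := G.comp_t (pullback.fst G.s G.t) (pullback.snd G.s G.t) pullback.condition
      rwa [show pullback.lift (pullback.fst G.s G.t) (pullback.snd G.s G.t) pullback.condition = 𝟙 _ from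
        pullback.hom_ext (by simp) (by simp), Category.id_comp] at h
    have h' := congrArg (fun m => m.appTop.hom f) hc
    simpa using h'
  have hes : ∀ a, G.e.appTop.hom (G.s.appTop.hom a) = a := fun a => by
    simpa using congrArg (fun m => m.appTop.hom a) G.e_s
  have het : ∀ a, G.e.appTop.hom (G.t.appTop.hom a) = a := fun a => by
    simpa using congrArg (fun m => m.appTop.hom a) G.e_t
  have hsum : ∀ l : I →₀ Γ(G.U, ⊤), b.repr.symm l = l.sum fun i c => G.s.appTop.hom c * G.t.appTop.hom (x i) := fun l => by
    rw [Module.Basis.repr_symm_apply, Finsupp.linearCombination_apply]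
    refine Finsupp.sum_congr fun i _ => ?_
    rw [Algebra.smul_def, hb]
    rfl
  -- coefficients of `t f` are invariant
  have hinv : ∀ f i, G.s.appTop.hom (b.repr (G.t.appTop.hom f) i) = G.t.appTop.hom (b.repr (G.t.appTop.hom f) i) := by
    intro f i
    set a := b.repr (G.t.appTop.hom f) with ha
    have hf : G.t.appTop.hom f = a.sum fun i c => G.s.appTop.hom c * G.t.appTop.hom (x i) := by
      rw [← hsum, ha, LinearEquiv.symm_apply_apply]
    have e1 := congrArg (pullback.fst G.s G.t).appTop.hom hf
    have e2 := congrArg G.c.appTop.hom hf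
    rw [hct, map_finsuppSum] at e2
    rw [map_finsuppSum] at e1
    have q1 : ∀ c, (pullback.fst G.s G.t).appTop.hom (G.s.appTop.hom c) = (pullback.snd G.s G.t).appTop.hom (G.t.appTop.hom c) := fun c => by
      simpa using congrArg (fun m => m.appTop.hom c) (pullback.condition (f := G.s) (g := G.t))
    have q2 : ∀ c, G.c.appTop.hom (G.s.appTop.hom c) = (pullback.snd G.s G.t).appTop.hom (G.s.appTop.hom c) := fun c => by
      simpa using congrArg (fun m => m.appTop.hom c) h2.w.symm
    simp only [map_mul, q1] at e1
    simp only [map_mul, q2, hct] at e2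
    have := coeff_eq (isPushout_appTop_of_isPullback h1) b (a.mapRange G.s.appTop.hom (map_zero _))
      (a.mapRange G.t.appTop.hom (map_zero _)) (by
        rw [Finsupp.sum_mapRange_index (by simp), Finsupp.sum_mapRange_index (by simp)]
        simp only [hb]
        exact e2.symm.trans e1)
    simpa using DFunLike.congr_fun this i
  have hli : LinearIndependent G.invariants x := by
    rw [linearIndependent_iff]
    intro l hl
    have h := congrArg G.t.appTop.hom hl
    rw [Finsupp.linearCombination_apply, map_finsuppSum, map_zero] at h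
    have h0 : b.repr.symm (l.mapRange Subtype.val rfl) = 0 := by
      rw [hsum, Finsupp.sum_mapRange_index (by simp), ← h]
      refine Finsupp.sum_congr fun i _ => ?_
      rw [Subring.smul_def, smul_eq_mul, map_mul]
      exact congrArg (· * G.t.appTop.hom (x i)) (l i).2
    ext i
    simpa using DFunLike.congr_fun (b.repr.symm.injective (h0.trans (map_zero b.repr.symm).symm)) i
  have hsp : ⊤ ≤ Submodule.span G.invariants (Set.range x) := fun f _ => by
    set a := b.repr (G.t.appTop.hom f) with ha
    have hf : G.t.appTop.hom f = a.sum fun i c => G.s.appTop.hom c * G.t.appTop.hom (x i) := by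
      rw [← hsum, ha, LinearEquiv.symm_apply_apply]
    have h := congrArg G.e.appTop.hom hf
    rw [het, map_finsuppSum] at h
    rw [h]
    refine Submodule.sum_mem _ fun i _ => ?_
    simp only [map_mul, hes, het]
    exact Submodule.smul_mem _ (⟨a i, hinv f i⟩ : G.invariants) (Submodule.subset_span ⟨i, rfl⟩)
  let bU := Module.Basis.mk hli hsp
  have hbU : ∀ i, bU i = x i := fun i => Module.Basis.mk_apply hli hsp i
  refine ⟨⟨bU, hbU⟩, ?_⟩
  intro φ hφ
  classical
  have key : ∀ z, φ z = b.repr.symm (TensorProduct.equivFinsuppOfBasisLeft bU z) := fun z => by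
    obtain ⟨l, rfl⟩ := (TensorProduct.equivFinsuppOfBasisLeft (N := Γ(G.U, ⊤)) bU).symm.surjective z
    rw [LinearEquiv.apply_symm_apply, TensorProduct.equivFinsuppOfBasisLeft_symm_apply, hsum, Finsupp.sum, Finsupp.sum, map_sum]
    refine Finset.sum_congr rfl fun i _ => ?_
    rw [hφ, hbU, mul_comm]
  rw [show ⇑φ = b.repr.symm ∘ TensorProduct.equivFinsuppOfBasisLeft bU from funext key]
  exact b.repr.symm.bijective.comp (LinearEquiv.bijective _)

end Groth.Agent.H9GrpdBasis
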