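import Groth.Prelude.Def_Grpd
import Groth.Agent.Lib.H9Grpd
import Mathlib

/-! Calculus of arrows of a groupoid scheme. -/

set_option autoImplicit false
set_option linter.all false
set_option backward.isDefEq.respectTransparency.types false
set_option backward.isDefEq.respectTransparency false

universe u

open AlgebraicGeometry CategoryTheory CategoryTheory.Limits

namespace Groth.Agent.H9GrpdCalc

open Groth.Agent.H9Grpd

variable {S : Scheme.{u}} (G : Grpd.GroupoidScheme S) {T T' : Scheme.{u}}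

theorem comp_mul (z : T' ⟶ T) (α β : T ⟶ G.R) (h : α ≫ G.s = β ≫ G.t)
    (h' : (z ≫ α) ≫ G.s = (z ≫ β) ≫ G.t) : z ≫ mul G α β h = mul G (z ≫ α) (z ≫ β) h' := by
  simp only [mul, ← Category.assoc]
  congr 1
  apply pullback.hom_ext <;> simp

theorem mul_fst_snd : mul G (pullback.fst G.s G.t) (pullback.snd G.s G.t) pullback.condition = G.c := by
  have e : pullback.lift (pullback.fst G.s G.t) (pullback.snd G.s G.t) pullback.condition = 𝟙 _ :=
    pullback.hom_ext (by rw [pullback.lift_fst, Category.id_comp]) (by rw [pullback.lift_snd, Category.id_comp])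
  rw [mul, e, Category.id_comp]

theorem comp_c (z : T ⟶ pullback G.s G.t) : z ≫ G.c = mul G (z ≫ pullback.fst G.s G.t) (z ≫ pullback.snd G.s G.t) (by simp [pullback.condition]) := by
  rw [← comp_mul G z _ _ pullback.condition, mul_fst_snd]

theorem mul_t (α β : T ⟶ G.R) (h : α ≫ G.s = β ≫ G.t) : mul G α β h ≫ G.t = α ≫ G.t := G.comp_t α β h
theorem mul_s (α β : T ⟶ G.R) (h : α ≫ G.s = β ≫ G.t) : mul G α β h ≫ G.s = β ≫ G.s := G.comp_s α β h

/-- `a (a⁻¹ b) = b` -/
theorem mul_inv_mul_left (a b : T ⟶ G.R) (h : (a ≫ G.i) ≫ G.s = b ≫ G.t)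
    (h' : a ≫ G.s = mul G (a ≫ G.i) b h ≫ G.t) : mul G a (mul G (a ≫ G.i) b h) h' = b := by
  refine (G.assoc a (a ≫ G.i) b (by rw [Category.assoc, G.i_t]) h).symm.trans ?_
  refine (mul_congr G ((G.comp_i a).trans ?_) rfl _ ?_).trans (G.e_comp b)
  · rw [show a ≫ G.t ≫ G.e = (a ≫ G.t) ≫ G.e from (Category.assoc _ _ _).symm, show a ≫ G.t = b ≫ G.t from ?_, Category.assoc]
    rw [← h, Category.assoc, G.i_s]
  · rw [Category.assoc, Category.assoc, G.e_s, Category.comp_id]

/-- `a⁻¹ (a b) = b` -/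
theorem inv_mul_mul_left (a b : T ⟶ G.R) (h : a ≫ G.s = b ≫ G.t)
    (h' : (a ≫ G.i) ≫ G.s = mul G a b h ≫ G.t) : mul G (a ≫ G.i) (mul G a b h) h' = b := by
  refine (G.assoc (a ≫ G.i) a b (by rw [Category.assoc, G.i_s]) h).symm.trans ?_
  refine (mul_congr G ((G.i_comp a).trans ?_) rfl _ ?_).trans (G.e_comp b)
  · rw [show a ≫ G.s ≫ G.e = (a ≫ G.s) ≫ G.e from (Category.assoc _ _ _).symm, h, Category.assoc]
  · rw [Category.assoc, Category.assoc, G.e_s, Category.comp_id]

theorem tt_iso (φ : pullback G.t G.t ⟶ pullback G.s G.t) (h1 : φ ≫ pullback.fst G.s G.t = pullback.fst G.t G.t)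
    (hc : (pullback.fst G.t G.t ≫ G.i) ≫ G.s = pullback.snd G.t G.t ≫ G.t)
    (h2 : φ ≫ pullback.snd G.s G.t = mul G (pullback.fst G.t G.t ≫ G.i) (pullback.snd G.t G.t) hc) :
    IsIso φ ∧ φ ≫ G.c = pullback.snd G.t G.t := by
  have hc' : G.c ≫ G.t = pullback.fst G.s G.t ≫ G.t := by rw [← mul_fst_snd, mul_t]
  let ψ : pullback G.s G.t ⟶ pullback G.t G.t := pullback.lift (pullback.fst G.s G.t) G.c hc'.symm
  have hφc : φ ≫ G.c = pullback.snd G.t G.t := by
    rw [comp_c]
    refine (mul_congr G h1 h2 _ ?_).trans (mul_inv_mul_left G _ _ hc ?_) <;> rw [mul_t, Category.assoc, G.i_t]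
  refine ⟨⟨ψ, pullback.hom_ext ?_ ?_, pullback.hom_ext ?_ ?_⟩, hφc⟩
  · simp [ψ, h1]
  · simp [ψ, hφc]
  · simp [ψ, h1]
  · rw [Category.assoc, h2, Category.id_comp, comp_mul G ψ _ _ hc (by simp [ψ, G.i_s, hc'])]
    refine (mul_congr G (show ψ ≫ pullback.fst G.t G.t ≫ G.i = pullback.fst G.s G.t ≫ G.i by simp [ψ]) (show ψ ≫ pullback.snd G.t G.t = mul G (pullback.fst G.s G.t) (pullback.snd G.s G.t) pullback.condition by simp [ψ, mul_fst_snd]) _ ?_).trans
      (inv_mul_mul_left G _ _ pullback.condition ?_) <;> rw [mul_t, Category.assoc, G.i_s]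

theorem c_isPullback : IsPullback G.c (pullback.snd G.s G.t) G.s G.s :=
  IsPullback.of_iso_pullback ⟨by rw [← mul_fst_snd, mul_s]⟩ (shear G) (shear_hom_fst G)
    (pullback.lift_snd _ _ _)

theorem j_fst : G.j ≫ pullback.fst G.pU G.pU = G.t := pullback.lift_fst _ _ _
theorem j_snd : G.j ≫ pullback.snd G.pU G.pU = G.s := pullback.lift_snd _ _ _
theorem d_fst : G.diag ≫ pullback.fst G.pU G.pU = 𝟙 _ := pullback.lift_fst _ _ _
theorem d_snd : G.diag ≫ pullback.snd G.pU G.pU = 𝟙 _ := pullback.lift_snd _ _ _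

theorem stab_ts (g : T ⟶ G.stabilizer) : (g ≫ pullback.fst G.j G.diag) ≫ G.t = g ≫ G.stabilizerToU ∧
    (g ≫ pullback.fst G.j G.diag) ≫ G.s = g ≫ G.stabilizerToU := by
  have := pullback.condition (f := G.j) (g := G.diag)
  constructor
  · rw [← j_fst G, Category.assoc, ← Category.assoc (pullback.fst G.j G.diag), this, Category.assoc, d_fst G, Category.comp_id]; rfl
  · rw [← j_snd G, Category.assoc, ← Category.assoc (pullback.fst G.j G.diag), this, Category.assoc, d_snd G, Category.comp_id]; rfl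

theorem torsor_isIso (α : pullback G.stabilizerToU G.t ⟶ pullback G.s G.t)
    (hα₁ : α ≫ pullback.fst G.s G.t = pullback.fst G.stabilizerToU G.t ≫ pullback.fst G.j G.diag)
    (hα₂ : α ≫ pullback.snd G.s G.t = pullback.snd G.stabilizerToU G.t)
    (β : pullback G.stabilizerToU G.t ⟶ pullback G.j G.j) (hβ₁ : β ≫ pullback.fst G.j G.j = α ≫ G.c)
    (hβ₂ : β ≫ pullback.snd G.j G.j = pullback.snd G.stabilizerToU G.t) : IsIso β := by
  let a := pullback.fst G.j G.j
  let b := pullback.snd G.j G.j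
  have ht : a ≫ G.t = b ≫ G.t := by
    have := congrArg (· ≫ pullback.fst G.pU G.pU) (pullback.condition (f := G.j) (g := G.j))
    simp only [Category.assoc, j_fst] at this
    exact this
  have hs : a ≫ G.s = b ≫ G.s := by
    have := congrArg (· ≫ pullback.snd G.pU G.pU) (pullback.condition (f := G.j) (g := G.j))
    simp only [Category.assoc, j_snd] at this
    exact this
  let m := mul G a (b ≫ G.i) (cond_div G hs)
  have hmd : m ≫ G.j = (b ≫ G.t) ≫ G.diag := by
    apply pullback.hom_ext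
    · simp only [m, Category.assoc, Grpd.GroupoidScheme.j, Grpd.GroupoidScheme.diag, pullback.lift_fst, Category.comp_id]
      rw [mul_t, ht]
    · simp only [m, Category.assoc, Grpd.GroupoidScheme.j, Grpd.GroupoidScheme.diag, pullback.lift_snd, Category.comp_id]
      rw [mul_s, Category.assoc, G.i_s]
  let γ : pullback G.j G.j ⟶ pullback G.stabilizerToU G.t := pullback.lift (pullback.lift m (b ≫ G.t) hmd) b (pullback.lift_snd _ _ _)
  let g := pullback.fst G.stabilizerToU G.t
  let r := pullback.snd G.stabilizerToU G.t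
  obtain ⟨hg1, hg2⟩ := stab_ts G g
  have hgr : (g ≫ pullback.fst G.j G.diag) ≫ G.s = r ≫ G.t := hg2.trans pullback.condition
  have hαc : α ≫ G.c = mul G (g ≫ pullback.fst G.j G.diag) r hgr := by
    rw [comp_c]; exact mul_congr G hα₁ hα₂ _ _
  refine ⟨γ, ?_, ?_⟩
  · have e1 : β ≫ m = g ≫ pullback.fst G.j G.diag := by
      have hh : (β ≫ a) ≫ G.s = (β ≫ b ≫ G.i) ≫ G.t := by simp [G.i_t, hs]
      rw [comp_mul G β a (b ≫ G.i) (cond_div G hs) hh]
      refine (mul_congr G (hβ₁.trans hαc) (show β ≫ b ≫ G.i = r ≫ G.i by rw [← Category.assoc, hβ₂]) _ ?_).trans (mul_mul_inv G _ r hgr ?_) <;>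
        rw [mul_s, Category.assoc, G.i_t]
    have e2 : β ≫ b = r := hβ₂
    apply pullback.hom_ext
    · simp only [γ, Category.assoc, pullback.lift_fst, Category.id_comp]
      apply pullback.hom_ext
      · simpa [g] using e1
      · simp only [Category.assoc, pullback.lift_snd]
        rw [← Category.assoc, e2]
        exact (pullback.condition (f := G.stabilizerToU) (g := G.t)).symm
    · simp [γ, e2, r]
  · apply pullback.hom_ext
    · rw [Category.assoc, hβ₁, hαc, Category.id_comp]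
      have hh : (γ ≫ g ≫ pullback.fst G.j G.diag) ≫ G.s = (γ ≫ r) ≫ G.t := by
        rw [Category.assoc γ, hgr, ← Category.assoc]
      rw [comp_mul G γ _ r hgr hh]
      have hb : (a ≫ G.s) = (b ≫ G.i) ≫ G.t := cond_div G hs
      refine (mul_congr G (show γ ≫ g ≫ pullback.fst G.j G.diag = m by simp [γ, g]) (show γ ≫ r = b by simp [γ, r]) _ ?_).trans
        (mul_inv_mul G a b hb ?_) <;> rw [mul_s, Category.assoc, G.i_s]
    · rw [Category.assoc, hβ₂]; simp [γ, b]

end Groth.Agent.H9GrpdCalc
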