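import Groth.Prelude.Def_Grpd
import Groth.Agent.Lib.H9Grpd
import Mathlib

/-! Norm of the pullback along a groupoid is invariant. -/

set_option autoImplicit false
set_option backward.isDefEq.respectTransparency.types false
set_option backward.isDefEq.respectTransparency false

universe u

open AlgebraicGeometry CategoryTheory CategoryTheory.Limits
open scoped TensorProduct

namespace Groth.Agent.H9GrpdNorm

theorem norm_pushout {A B C P : Type u} [CommRing A] [CommRing B] [CommRing C] [CommRing P] [Algebra A B] [Algebra A C]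
    [Algebra B P] [Algebra C P] [Algebra A P] [IsScalarTower A B P] [IsScalarTower A C P] [Algebra.IsPushout A C B P]
    [Module.Free A B] [Module.Finite A B] (x : B) :
    Algebra.norm C (algebraMap B P x) = algebraMap A C (Algebra.norm A x) := by
  let e : C ⊗[A] B ≃ₐ[C] P := Algebra.IsPushout.equiv A C B P
  have he : e (1 ⊗ₜ[A] x) = algebraMap B P x := by
    simp [e, Algebra.IsPushout.equiv_tmul]
  rw [← he, Algebra.norm_eq_of_algEquiv, Algebra.norm_apply, Algebra.norm_apply, ← LinearMap.det_baseChange,
    Algebra.baseChange_lmul]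

theorem norm_isPushout {A B C P : CommRingCat.{u}} {f : A ⟶ C} {g : A ⟶ B} {inl : C ⟶ P} {inr : B ⟶ P}
    (h : IsPushout f g inl inr) (hfree : letI := g.hom.toAlgebra; Module.Free A B)
    (hfin : letI := g.hom.toAlgebra; Module.Finite A B) (x : B) :
    (letI := inl.hom.toAlgebra; Algebra.norm C (inr.hom x)) = f.hom (letI := g.hom.toAlgebra; Algebra.norm A x) := by
  letI := f.hom.toAlgebra; letI := g.hom.toAlgebra; letI := inl.hom.toAlgebra; letI := inr.hom.toAlgebra
  letI : Algebra A P := (inl.hom.comp f.hom).toAlgebra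
  haveI : IsScalarTower A C P := .of_algebraMap_eq' rfl
  haveI : IsScalarTower A B P := .of_algebraMap_eq' <| congr($(h.1.1).hom)
  haveI : Algebra.IsPushout A C B P := CommRingCat.isPushout_iff_isPushout.mp h
  haveI := hfree; haveI := hfin
  exact norm_pushout x

variable {S : Scheme.{u}} (G : Grpd.GroupoidScheme S)

theorem normST_mem [IsAffine G.U] [IsAffine G.R] (f : Γ(G.U, ⊤)) : G.normST f ∈ G.invariants := by
  show G.s.appTop.hom (G.normST f) = G.t.appTop.hom (G.normST f)
  letI := G.s.appTop.hom.toAlgebra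
  by_cases hb : ∃ s : Finset Γ(G.R, ⊤), Nonempty (Module.Basis s Γ(G.U, ⊤) Γ(G.R, ⊤))
  swap
  · have : G.normST f = 1 := by
      unfold Grpd.GroupoidScheme.normST
      exact Algebra.norm_eq_one_of_not_exists_basis _ hb _
    rw [this, map_one, map_one]
  obtain ⟨s, ⟨b⟩⟩ := hb
  haveI hfree : Module.Free Γ(G.U, ⊤) Γ(G.R, ⊤) := .of_basis b
  haveI hfin : Module.Finite Γ(G.U, ⊤) Γ(G.R, ⊤) := .of_basis b
  have h1 : IsPullback (pullback.snd G.s G.t) (pullback.fst G.s G.t) G.t G.s := (IsPullback.of_hasPullback G.s G.t).flip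
  have h2 : IsPullback (pullback.snd G.s G.t) G.c G.s G.s := by
    refine IsPullback.flip (IsPullback.of_iso (IsPullback.of_hasPullback G.s G.s) (H9Grpd.shear G).symm (Iso.refl _) (Iso.refl _)
      (Iso.refl _) ?_ ?_ ?_ ?_)
    · rw [Iso.refl_hom, Category.comp_id, ← H9Grpd.shear_hom_fst G, Iso.symm_hom, Iso.inv_hom_id_assoc]
    · rw [Iso.refl_hom, Category.comp_id, Iso.symm_hom]
      simp [H9Grpd.shear]
    · simp
    · simp
  have e1 := norm_isPushout (isPushout_appTop_of_isPullback h1) hfree hfin (G.t.appTop.hom f)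
  have e2 := norm_isPushout (isPushout_appTop_of_isPullback h2) hfree hfin (G.t.appTop.hom f)
  have hx : G.c.appTop.hom (G.t.appTop.hom f) = (pullback.fst G.s G.t).appTop.hom (G.t.appTop.hom f) := by
    have hc : G.c ≫ G.t = pullback.fst G.s G.t ≫ G.t := by
      have h := G.comp_t (pullback.fst G.s G.t) (pullback.snd G.s G.t) pullback.condition
      rwa [show pullback.lift (pullback.fst G.s G.t) (pullback.snd G.s G.t) pullback.condition = 𝟙 _ from
        pullback.hom_ext (by simp) (by simp), Category.id_comp] at h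
    have h' := congrArg (fun m => m.appTop.hom f) hc
    simpa using h'
  exact e2.symm.trans ((congrArg (fun y => letI := (pullback.snd G.s G.t).appTop.hom.toAlgebra
    Algebra.norm Γ(G.R, ⊤) y) hx).trans e1)

end Groth.Agent.H9GrpdNorm
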