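import Groth.Prelude.Def_Grpd
import Groth.Agent.Lib.H9Grpd
import Groth.Agent.Lib.H9GrpdNorm
import Mathlib

/-! The functions on `U` are integral over the invariants of a finite locally free groupoid. -/

set_option autoImplicit false
set_option backward.isDefEq.respectTransparency.types false
set_option backward.isDefEq.respectTransparency false

universe u

open AlgebraicGeometry CategoryTheory CategoryTheory.Limits Polynomial
open scoped TensorProduct

namespace Groth.Agent.H9GrpdIntegral

/-- A split embedding of an algebra into a finite free module. -/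
structure Split (A P : Type u) [CommRing A] [CommRing P] [Algebra A P] (n : ℕ) where
  /-- coordinates -/
  coord : P →ₗ[A] Fin n → A
  /-- generators -/
  gen : Fin n → P
  sum_coord : ∀ y, ∑ j, coord y j • gen j = y

variable {A P : Type u} [CommRing A] [CommRing P] [Algebra A P] {n : ℕ}

/-- The matrix of multiplication. -/
def Split.mat (s : Split A P n) (x : P) : Matrix (Fin n) (Fin n) A := Matrix.of fun i j => s.coord (x * s.gen j) i

theorem Split.charpoly_eq (s s' : Split A P n) (x : P) : (s.mat x).charpoly = (s'.mat x).charpoly := by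
  let N₁ : Matrix (Fin n) (Fin n) A := Matrix.of fun i j => s.coord (x * s'.gen j) i
  let N₂ : Matrix (Fin n) (Fin n) A := Matrix.of fun i j => s'.coord (s.gen j) i
  have e1 : N₁ * N₂ = s.mat x := by
    ext i j
    have h : s.coord (x * s.gen j) = ∑ l, s'.coord (s.gen j) l • s.coord (x * s'.gen l) := by
      conv_lhs => rw [← s'.sum_coord (s.gen j), Finset.mul_sum, map_sum]
      simp [mul_smul_comm, map_smul]
    simp [N₁, N₂, Split.mat, Matrix.mul_apply, h, mul_comm]
  have e2 : N₂ * N₁ = s'.mat x := by
    ext i j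
    have h : s'.coord (x * s'.gen j) = ∑ l, s.coord (x * s'.gen j) l • s'.coord (s.gen l) := by
      conv_lhs => rw [← s.sum_coord (x * s'.gen j), map_sum]
      simp [map_smul]
    simp [N₁, N₂, Split.mat, Matrix.mul_apply, h, mul_comm]
  rw [← e1, ← e2, Matrix.charpoly_mul_comm]

theorem Split.mat_mul (s : Split A P n) (x y : P) : s.mat x * s.mat y = s.mat (x * y) := by
  ext i j
  have h : s.coord (x * y * s.gen j) = ∑ l, s.coord (y * s.gen j) l • s.coord (x * s.gen l) := by
    conv_lhs => rw [mul_assoc, ← s.sum_coord (y * s.gen j), Finset.mul_sum, map_sum]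
    simp [mul_smul_comm, map_smul]
  simp [Split.mat, Matrix.mul_apply, h, mul_comm]

theorem Split.mat_mul_aeval (s : Split A P n) (x : P) (Q : A[X]) :
    s.mat x * aeval (s.mat x) Q = s.mat (x * aeval x Q) := by
  induction Q using Polynomial.induction_on with
  | C a =>
    ext i j
    simp [Split.mat, Matrix.scalar_apply, Algebra.algebraMap_eq_smul_one, mul_smul_comm, map_smul, mul_comm]
  | add p q hp hq =>
    rw [map_add, map_add, mul_add, mul_add, hp, hq]
    ext i j
    simp [Split.mat, add_mul]
  | monomial m a ih =>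
    rw [pow_succ', ← mul_assoc (C a), mul_comm (C a) X, mul_assoc X, map_mul _ X, map_mul _ X, aeval_X, aeval_X, ih, s.mat_mul]

theorem Split.mul_aeval_charpoly (s : Split A P n) (x : P) : x * aeval x (s.mat x).charpoly = 0 := by
  have h := s.mat_mul_aeval x (s.mat x).charpoly
  rw [Matrix.aeval_self_charpoly, mul_zero] at h
  set y := x * aeval x (s.mat x).charpoly
  have h0 : ∀ j, y * s.gen j = 0 := fun j => by
    rw [← s.sum_coord (y * s.gen j)]
    refine Finset.sum_eq_zero fun i _ => ?_
    rw [show s.coord (y * s.gen j) i = 0 from (congrFun (congrFun h i) j).symm, zero_smul]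
  have := congrArg (y * ·) (s.sum_coord 1)
  simpa [Finset.mul_sum, mul_smul_comm, h0] using this.symm

/-- Base change of a split along a pushout. -/
noncomputable def Split.baseChange {B C : Type u} [CommRing B] [CommRing C] [Algebra A B] [Algebra A C]
    [Algebra B P] [Algebra C P] [IsScalarTower A B P] [IsScalarTower A C P] [Algebra.IsPushout A C B P]
    (s : Split A B n) : Split C P n where
  coord := (Algebra.IsPushout.out (R := A) (S := C) (R' := B) (S' := P)).lift
    (((Algebra.linearMap A C).compLeft (Fin n)).comp s.coord)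
  gen j := algebraMap B P (s.gen j)
  sum_coord y := by
    let h := Algebra.IsPushout.out (R := A) (S := C) (R' := B) (S' := P)
    let l : P →ₗ[C] P := ∑ j, ((LinearMap.proj j).comp (h.lift (((Algebra.linearMap A C).compLeft (Fin n)).comp s.coord))).smulRight
      (algebraMap B P (s.gen j))
    suffices l = LinearMap.id by simpa [l] using LinearMap.congr_fun this y
    refine h.algHom_ext _ _ fun b => ?_
    have hl : h.lift (((Algebra.linearMap A C).compLeft (Fin n)).comp s.coord) (algebraMap B P b) =
        fun j => algebraMap A C (s.coord b j) := h.lift_eq _ b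
    simp only [l, LinearMap.sum_apply, LinearMap.smulRight_apply, LinearMap.comp_apply, LinearMap.proj_apply, LinearMap.id_apply,
      AlgHom.toLinearMap_apply, IsScalarTower.coe_toAlgHom', hl]
    conv_rhs => rw [← s.sum_coord b, map_sum]
    refine Finset.sum_congr rfl fun j _ => ?_
    rw [IsScalarTower.algebraMap_smul, ← IsScalarTower.toAlgHom_apply A B P, ← map_smul, IsScalarTower.toAlgHom_apply]

theorem Split.mat_baseChange {B C : Type u} [CommRing B] [CommRing C] [Algebra A B] [Algebra A C]
    [Algebra B P] [Algebra C P] [IsScalarTower A B P] [IsScalarTower A C P] [Algebra.IsPushout A C B P]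
    (s : Split A B n) (x : B) : ((s.baseChange : Split C P n).mat (algebraMap B P x)) = (s.mat x).map (algebraMap A C) := by
  ext i j
  have h := congrFun ((Algebra.IsPushout.out (R := A) (S := C) (R' := B) (S' := P)).lift_eq
    (((Algebra.linearMap A C).compLeft (Fin n)).comp s.coord) (x * s.gen j)) i
  simpa [Split.mat, Split.baseChange] using h

theorem exists_split [Module.Finite A P] [Module.Projective A P] : ∃ n, Nonempty (Split A P n) := by
  obtain ⟨n, f, hf⟩ := Module.Finite.exists_fin' A P
  obtain ⟨g, hg⟩ := Module.projective_lifting_property f LinearMap.id hf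
  refine ⟨n, ⟨⟨g, fun j => f (Pi.single j 1), fun y => ?_⟩⟩⟩
  conv_rhs => rw [← LinearMap.id_apply (R := A) y, ← hg, LinearMap.comp_apply, pi_eq_sum_univ' (g y), map_sum]
  simp [map_smul, ← Pi.single_apply, Pi.single]

theorem map_charpoly {A B C P : CommRingCat.{u}} {f : A ⟶ C} {g : A ⟶ B} {inl : C ⟶ P} {inr : B ⟶ P}
    (h : IsPushout f g inl inr) (x : B) (s : letI := g.hom.toAlgebra; Split A B n) :
    ∃ (s' : letI := inl.hom.toAlgebra; Split C P n),
      (letI := inl.hom.toAlgebra; (s'.mat (inr.hom x)).charpoly) = (letI := g.hom.toAlgebra; (s.mat x).charpoly.map f.hom) := by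
  letI := f.hom.toAlgebra; letI := g.hom.toAlgebra; letI := inl.hom.toAlgebra; letI := inr.hom.toAlgebra
  letI : Algebra A P := (inl.hom.comp f.hom).toAlgebra
  haveI : IsScalarTower A C P := .of_algebraMap_eq' rfl
  haveI : IsScalarTower A B P := .of_algebraMap_eq' <| congr($(h.1.1).hom)
  haveI : Algebra.IsPushout A C B P := CommRingCat.isPushout_iff_isPushout.mp h
  refine ⟨s.baseChange, ?_⟩
  rw [← Matrix.charpoly_map]
  exact congrArg Matrix.charpoly (s.mat_baseChange x)

variable {S : Scheme.{u}} (G : Grpd.GroupoidScheme S)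

theorem isIntegral_invariants [IsAffine G.U] [IsAffine G.R] [IsFinite G.s] [Flat G.s] [LocallyOfFinitePresentation G.s] :
    Algebra.IsIntegral G.invariants Γ(G.U, ⊤) := by
  refine ⟨fun f => ?_⟩
  letI := G.s.appTop.hom.toAlgebra
  haveI : Module.Finite Γ(G.U, ⊤) Γ(G.R, ⊤) := G.s.finite_appTop
  haveI : Module.Flat Γ(G.U, ⊤) Γ(G.R, ⊤) := G.s.flat_appTop
  haveI : Algebra.FinitePresentation Γ(G.U, ⊤) Γ(G.R, ⊤) := G.s.finitePresentation_appTop
  haveI : Module.FinitePresentation Γ(G.U, ⊤) Γ(G.R, ⊤) := Module.FinitePresentation.of_finite_of_finitePresentation _ _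
  haveI : Module.Projective Γ(G.U, ⊤) Γ(G.R, ⊤) := Module.Flat.projective_of_finitePresentation
  obtain ⟨n, ⟨sp⟩⟩ := exists_split (A := Γ(G.U, ⊤)) (P := Γ(G.R, ⊤))
  let x := G.t.appTop.hom f
  let Q := (sp.mat x).charpoly
  have h1 : IsPullback (pullback.snd G.s G.t) (pullback.fst G.s G.t) G.t G.s := (IsPullback.of_hasPullback G.s G.t).flip
  have h2 : IsPullback (pullback.snd G.s G.t) G.c G.s G.s := by
    refine IsPullback.flip (IsPullback.of_iso (IsPullback.of_hasPullback G.s G.s) (H9Grpd.shear G).symm (Iso.refl _) (Iso.refl _)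
      (Iso.refl _) ?_ ?_ ?_ ?_)
    · rw [Iso.refl_hom, Category.comp_id, ← H9Grpd.shear_hom_fst G, Iso.symm_hom, Iso.inv_hom_id_assoc]
    · rw [Iso.refl_hom, Category.comp_id, Iso.symm_hom]
      simp [H9Grpd.shear]
    · simp
    · simp
  obtain ⟨s1, e1⟩ := map_charpoly (isPushout_appTop_of_isPullback h1) x sp
  obtain ⟨s2, e2⟩ := map_charpoly (isPushout_appTop_of_isPullback h2) x sp
  have hx : G.c.appTop.hom x = (pullback.fst G.s G.t).appTop.hom x := by
    have hc : G.c ≫ G.t = pullback.fst G.s G.t ≫ G.t := by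
      have h := G.comp_t (pullback.fst G.s G.t) (pullback.snd G.s G.t) pullback.condition
      rwa [show pullback.lift (pullback.fst G.s G.t) (pullback.snd G.s G.t) pullback.condition = 𝟙 _ from
        pullback.hom_ext (by simp) (by simp), Category.id_comp] at h
    have h' := congrArg (fun m => m.appTop.hom f) hc
    simpa using h'
  have hQ : Q.map G.s.appTop.hom = Q.map G.t.appTop.hom := by
    rw [← e1, ← e2, hx]
    letI := (pullback.snd G.s G.t).appTop.hom.toAlgebra
    exact s2.charpoly_eq s1 _
  obtain ⟨q, hq, -, hqm⟩ := Polynomial.lifts_and_natDegree_eq_and_monic (f := G.invariants.subtype)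
    ((Polynomial.lifts_iff_coeff_lifts _).2 fun m => ⟨⟨Q.coeff m, by
      show G.s.appTop.hom _ = G.t.appTop.hom _
      simpa only [Polynomial.coeff_map] using congrArg (fun p => p.coeff m) hQ⟩, rfl⟩)
    (sp.mat x).charpoly_monic
  refine ⟨X * q, monic_X.mul hqm, ?_⟩
  show (X * q).eval₂ G.invariants.subtype f = 0
  rw [Polynomial.eval₂_mul, Polynomial.eval₂_X, ← Polynomial.eval_map, hq]
  have h0 := congrArg G.e.appTop.hom (sp.mul_aeval_charpoly x)
  have hes : ∀ a, G.e.appTop.hom (G.s.appTop.hom a) = a := fun a => by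
    simpa using congrArg (fun m => m.appTop.hom a) G.e_s
  have het : G.e.appTop.hom x = f := by simpa [x] using congrArg (fun m => m.appTop.hom f) G.e_t
  rw [map_mul, map_zero, Polynomial.aeval_def, Polynomial.hom_eval₂, het] at h0
  rw [show G.e.appTop.hom.comp (algebraMap Γ(G.U, ⊤) Γ(G.R, ⊤)) = RingHom.id _ from RingHom.ext hes] at h0
  exact h0

end Groth.Agent.H9GrpdIntegral

namespace Groth.Agent.H9GrpdIntegral

theorem exists_mat_baseChange {A B C P : CommRingCat.{u}} {f : A ⟶ C} {g : A ⟶ B} {inl : C ⟶ P} {inr : B ⟶ P}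
    (h : IsPushout f g inl inr) {n : ℕ} (s : letI := g.hom.toAlgebra; Split A B n) :
    ∃ (s' : letI := inl.hom.toAlgebra; Split C P n),
      ∀ x : B, (letI := inl.hom.toAlgebra; s'.mat (inr.hom x)) = (letI := g.hom.toAlgebra; (s.mat x).map f.hom) := by
  letI := f.hom.toAlgebra; letI := g.hom.toAlgebra; letI := inl.hom.toAlgebra; letI := inr.hom.toAlgebra
  letI : Algebra A P := (inl.hom.comp f.hom).toAlgebra
  haveI : IsScalarTower A C P := .of_algebraMap_eq' rfl
  haveI : IsScalarTower A B P := .of_algebraMap_eq' <| congr($(h.1.1).hom)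
  haveI : Algebra.IsPushout A C B P := CommRingCat.isPushout_iff_isPushout.mp h
  exact ⟨s.baseChange, fun x => s.mat_baseChange x⟩

theorem genSum_charpoly_eq {A P : Type u} [CommRing A] [CommRing P] [Algebra A P] {n m : ℕ} (s s' : Split A P n)
    (x : Fin m → P) :
    (∑ i, (MvPolynomial.X i : MvPolynomial (Fin m) A) • (s.mat (x i)).map (MvPolynomial.C : A → MvPolynomial (Fin m) A)).charpoly =
      (∑ i, (MvPolynomial.X i : MvPolynomial (Fin m) A) • (s'.mat (x i)).map (MvPolynomial.C : A → MvPolynomial (Fin m) A)).charpoly := by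
  let N₁ : P → Matrix (Fin n) (Fin n) A := fun x => Matrix.of fun i j => s.coord (x * s'.gen j) i
  let N₂ : Matrix (Fin n) (Fin n) A := Matrix.of fun i j => s'.coord (s.gen j) i
  have e1 : ∀ x, s.mat x = N₁ x * N₂ := fun x => by
    ext i j
    have h : s.coord (x * s.gen j) = ∑ l, s'.coord (s.gen j) l • s.coord (x * s'.gen l) := by
      conv_lhs => rw [← s'.sum_coord (s.gen j), Finset.mul_sum, map_sum]
      simp [mul_smul_comm, map_smul]
    simp [N₁, N₂, Split.mat, Matrix.mul_apply, h, mul_comm]
  have e2 : ∀ x, s'.mat x = N₂ * N₁ x := fun x => by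
    ext i j
    have h : s'.coord (x * s'.gen j) = ∑ l, s.coord (x * s'.gen j) l • s'.coord (s.gen l) := by
      conv_lhs => rw [← s.sum_coord (x * s'.gen j), map_sum]
      simp [map_smul]
    simp [N₁, N₂, Split.mat, Matrix.mul_apply, h, mul_comm]
  let M : Matrix (Fin n) (Fin n) (MvPolynomial (Fin m) A) :=
    ∑ i, (MvPolynomial.X i : MvPolynomial (Fin m) A) • (N₁ (x i)).map (MvPolynomial.C : A → MvPolynomial (Fin m) A)
  let N : Matrix (Fin n) (Fin n) (MvPolynomial (Fin m) A) := N₂.map (MvPolynomial.C : A → MvPolynomial (Fin m) A)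
  have a1 : (∑ i, (MvPolynomial.X i : MvPolynomial (Fin m) A) • (s.mat (x i)).map (MvPolynomial.C : A → MvPolynomial (Fin m) A)) = M * N := by
    rw [Finset.sum_mul]
    exact Finset.sum_congr rfl fun i _ => by rw [e1, Matrix.map_mul, Matrix.smul_mul]
  have a2 : (∑ i, (MvPolynomial.X i : MvPolynomial (Fin m) A) • (s'.mat (x i)).map (MvPolynomial.C : A → MvPolynomial (Fin m) A)) = N * M := by
    rw [Finset.mul_sum]
    exact Finset.sum_congr rfl fun i _ => by rw [e2, Matrix.map_mul, Matrix.mul_smul]
  rw [a1, a2]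
  exact Matrix.charpoly_mul_comm _ _

end Groth.Agent.H9GrpdIntegral
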