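import Groth.Agent.Lib.H9GrpdIntegral
import Mathlib

/-! Geometric points of the affine quotient are orbits (ring level). -/

set_option autoImplicit false
set_option backward.isDefEq.respectTransparency.types false
set_option backward.isDefEq.respectTransparency false

universe u

open Polynomial
open scoped TensorProduct

namespace Groth.Agent.H9GrpdOrbit

open Groth.Agent.H9GrpdIntegral

variable {A B k : Type u} [CommRing A] [CommRing B] [Field k] [IsAlgClosed k] [Algebra A B] {n : ℕ}

/-- generic linear combination of the matrices of a family. -/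
noncomputable def genMat (sp : Split A B n) {m : ℕ} (z : Fin m → B) :
    Matrix (Fin n) (Fin n) (MvPolynomial (Fin m) A) :=
  ∑ i, (MvPolynomial.X i : MvPolynomial (Fin m) A) • (sp.mat (z i)).map MvPolynomial.C

theorem genMat_eval (sp : Split A B n) {m : ℕ} (z : Fin m → B) {L : Type u} [CommRing L] (g : A →+* L) (lam : Fin m → L) :
    (genMat sp z).map (MvPolynomial.eval₂Hom g lam) = ∑ i, lam i • (sp.mat (z i)).map g := by
  ext a b
  simp [genMat, Matrix.sum_apply]

theorem exists_lift_root {P : Type u} [CommRing P] [Algebra k P] [Module.Finite k P] (sp : Split k P n) (z : P) (μ : k)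
    (hμ : (sp.mat z).charpoly.IsRoot μ) (hμ0 : μ ≠ 0) : ∃ ψ : P →ₐ[k] k, ψ z = μ := by
  have hdet : (Matrix.scalar (Fin n) μ - sp.mat z).det = 0 := by
    rw [← Matrix.eval_charpoly]; exact hμ
  obtain ⟨v, hv0, hv⟩ := Matrix.exists_mulVec_eq_zero_iff.2 hdet
  rw [Matrix.sub_mulVec, sub_eq_zero] at hv
  let y := ∑ j, v j • sp.gen j
  have hMv : Matrix.mulVec (sp.mat z) v = sp.coord (z * y) := by
    funext i
    simp [y, Split.mat, Matrix.mulVec, dotProduct, Finset.mul_sum, map_sum, map_smul, mul_comm]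
  have hsm : μ • v = sp.coord (z * y) := by
    rw [← hMv, ← hv]
    funext i
    simp [Matrix.mulVec_diagonal]
  have hzy : z * y = μ • y := by
    rw [← sp.sum_coord (z * y), ← hsm]
    simp [y, Finset.smul_sum, smul_smul]
  have hy : y ≠ 0 := fun h => hv0 (by
    have : μ • v = 0 := by rw [hsm, hzy, h, smul_zero, map_zero]
    exact (smul_eq_zero.1 this).resolve_left hμ0)
  have hnu : ¬ IsUnit (z - algebraMap k P μ) := fun h => hy (h.mul_right_eq_zero.1 (by
    rw [sub_mul, hzy, Algebra.smul_def, sub_self]))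
  obtain ⟨M, hM, hzM⟩ := exists_max_ideal_of_mem_nonunits hnu
  haveI := hM
  letI : Field (P ⧸ M) := Ideal.Quotient.field M
  haveI : Algebra.IsIntegral k (P ⧸ M) := Algebra.IsIntegral.of_finite k _
  let e : k ≃ₐ[k] P ⧸ M := AlgEquiv.ofBijective (Algebra.ofId k (P ⧸ M))
    (IsAlgClosed.algebraMap_bijective_of_isIntegral)
  refine ⟨e.symm.toAlgHom.comp (Ideal.Quotient.mkₐ k M), e.injective ?_⟩
  show e (e.symm (Ideal.Quotient.mk M z)) = e μ
  rw [AlgEquiv.apply_symm_apply]
  exact Ideal.Quotient.eq.2 hzM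

theorem finite_algHom (P : Type u) [CommRing P] [Algebra k P] [Module.Finite k P] : Finite (P →ₐ[k] k) := by
  have hli : LinearIndependent k (fun ψ : P →ₐ[k] k => ψ.toLinearMap) := by
    have h := (linearIndependent_monoidHom P k).comp (fun ψ : P →ₐ[k] k => (ψ : P →* k))
      (fun a b h => AlgHom.ext fun x => DFunLike.congr_fun h x)
    exact LinearIndependent.of_comp (LinearMap.ltoFun k P k k) h
  exact hli.finite

/-- two geometric points with the same symmetric functions lie in the same orbit -/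
theorem exists_arrow (t : A →+* B) (e : B →+* A) (hes : ∀ a, e (algebraMap A B a) = a) (het : ∀ a, e (t a) = a)
    (sp : Split A B n) (x₀ x₁ : A →+* k)
    (hinv : ∀ (m : ℕ) (f : Fin m → A) (d : ℕ),
      ((genMat sp fun i => t (f i)).charpoly.coeff d).map x₀ = ((genMat sp fun i => t (f i)).charpoly.coeff d).map x₁) :
    ∃ r : B →+* k, r.comp t = x₀ ∧ r.comp (algebraMap A B) = x₁ := by
  letI : Algebra A k := x₁.toAlgebra
  letI : Algebra B (k ⊗[A] B) := Algebra.TensorProduct.rightAlgebra
  haveI : Module.Finite A B := Module.Finite.of_surjective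
    (Fintype.linearCombination A sp.gen) (fun y => ⟨sp.coord y, by rw [Fintype.linearCombination_apply]; exact sp.sum_coord y⟩)
  let ι : B →+* k ⊗[A] B := algebraMap B (k ⊗[A] B)
  let spk : Split k (k ⊗[A] B) n := sp.baseChange
  have hspk : ∀ b, spk.mat (ι b) = (sp.mat b).map x₁ := fun b => sp.mat_baseChange b
  haveI := finite_algHom (k := k) (k ⊗[A] B)
  haveI := Fintype.ofFinite ((k ⊗[A] B) →ₐ[k] k)
  -- the point over x₁ composed with an arrow
  let y : ((k ⊗[A] B) →ₐ[k] k) → A →+* k := fun ψ => (ψ.toRingHom.comp ι).comp t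
  by_contra hne
  have hy : ∀ ψ, ∃ f, y ψ f ≠ x₀ f := fun ψ => by
    by_contra h
    push_neg at h
    refine hne ⟨ψ.toRingHom.comp ι, RingHom.ext h, RingHom.ext fun a => ?_⟩
    show ψ (algebraMap B (k ⊗[A] B) (algebraMap A B a)) = x₁ a
    rw [← IsScalarTower.algebraMap_apply A B (k ⊗[A] B), IsScalarTower.algebraMap_apply A k (k ⊗[A] B), ψ.commutes]
    rfl
  choose F hF using hy
  let q := Fintype.card ((k ⊗[A] B) →ₐ[k] k)
  let ev := (Fintype.equivFin ((k ⊗[A] B) →ₐ[k] k))
  let f : Fin (q + 1) → A := Fin.cons 1 fun i => F (ev.symm i)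
  let L : (Fin (q + 1) → k) → MvPolynomial (Fin (q + 1)) k := fun c => ∑ i, MvPolynomial.C (c i) * MvPolynomial.X i
  let cst : Fin (q + 1) → (Fin (q + 1) → k) := Fin.cons (fun i => x₀ (f i)) fun j i => x₀ (f i) - y (ev.symm j) (f i)
  have hL : ∀ c, L c = 0 → ∀ i, c i = 0 := fun c h i => by
    have := congrArg (MvPolynomial.eval (Pi.single i 1)) h
    simpa [L, Pi.single_apply] using this
  have hprod : (∏ j, L (cst j)) ≠ 0 := by
    rw [Finset.prod_ne_zero_iff]
    intro j _ h
    refine Fin.cases (fun h => ?_) (fun j h => ?_) j h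
    · have := hL _ h 0
      simp [cst, f] at this
    · have := hL _ h j.succ
      simp [cst, f, sub_eq_zero] at this
      exact hF _ this.symm
  obtain ⟨lam, hlam⟩ : ∃ lam : Fin (q + 1) → k, MvPolynomial.eval lam (∏ j, L (cst j)) ≠ 0 := by
    by_contra h
    push_neg at h
    exact hprod (MvPolynomial.funext fun x => by rw [h x, map_zero])
  rw [map_prod, Finset.prod_ne_zero_iff] at hlam
  have hlam' : ∀ j, (∑ i, cst j i * lam i) ≠ 0 := fun j => by simpa [L] using hlam j (Finset.mem_univ j)
  let μ := ∑ i, lam i * x₀ (f i)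
  have hμ : μ ≠ 0 := by
    have := hlam' 0
    simpa [cst, μ, mul_comm] using this
  -- the charpoly at x₁
  let z : k ⊗[A] B := ∑ i, lam i • ι (t (f i))
  have hz : spk.mat z = ∑ i, lam i • (sp.mat (t (f i))).map x₁ := by
    simp only [← hspk]
    ext a b
    simp [z, Split.mat, Finset.sum_mul, map_sum, map_smul, Matrix.sum_apply]
  have hroot : (spk.mat z).charpoly.IsRoot μ := by
    rw [hz, ← genMat_eval sp (fun i => t (f i)) x₁ lam, Matrix.charpoly_map]
    have hcoef : (genMat sp fun i => t (f i)).charpoly.map (MvPolynomial.eval₂Hom x₁ lam) =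
        (genMat sp fun i => t (f i)).charpoly.map (MvPolynomial.eval₂Hom x₀ lam) := Polynomial.ext fun d => by
      rw [coeff_map, coeff_map, MvPolynomial.coe_eval₂Hom, MvPolynomial.coe_eval₂Hom,
        ← MvPolynomial.eval_map, ← MvPolynomial.eval_map, hinv]
    rw [hcoef, ← Matrix.charpoly_map, genMat_eval]
    letI : Algebra A k := x₀.toAlgebra
    letI : Algebra B (k ⊗[A] B) := Algebra.TensorProduct.rightAlgebra
    let sp0 : Split k (k ⊗[A] B) n := sp.baseChange
    have hsp0 : ∀ b, sp0.mat (algebraMap B (k ⊗[A] B) b) = (sp.mat b).map x₀ := fun b => sp.mat_baseChange b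
    let ε : (k ⊗[A] B) →ₐ[k] k := Algebra.TensorProduct.lift (Algebra.ofId k k)
      { x₀.comp e with commutes' := fun a => congrArg x₀ (hes a) } (fun _ _ => Commute.all _ _)
    have h0 := congrArg ε (sp0.mul_aeval_charpoly (∑ i, lam i • algebraMap B (k ⊗[A] B) (t (f i))))
    have hε : ε (∑ i, lam i • algebraMap B (k ⊗[A] B) (t (f i))) = μ := by
      simp [ε, μ, Algebra.TensorProduct.right_algebraMap_apply, het]
    rw [map_mul, map_zero, ← Polynomial.aeval_algHom_apply, hε] at h0
    have hm : sp0.mat (∑ i, lam i • algebraMap B (k ⊗[A] B) (t (f i))) = ∑ i, lam i • (sp.mat (t (f i))).map x₀ := by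
      simp only [← hsp0]
      ext a b
      simp [Split.mat, Finset.sum_mul, map_sum, map_smul, Matrix.sum_apply]
    rw [hm] at h0
    have := (mul_eq_zero.1 h0).resolve_left hμ
    rwa [Polynomial.coe_aeval_eq_eval] at this
  obtain ⟨ψ, hψ⟩ := exists_lift_root spk z μ hroot hμ
  refine hlam' (ev ψ).succ ?_
  simp only [cst, Fin.cons_succ, Equiv.symm_apply_apply, sub_mul, Finset.sum_sub_distrib]
  rw [sub_eq_zero]
  calc ∑ i, x₀ (f i) * lam i = μ := by simp [μ, mul_comm]
    _ = ψ z := hψ.symm
    _ = _ := by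
      simp only [z, map_sum, map_smul, smul_eq_mul]
      exact Finset.sum_congr rfl fun i _ => mul_comm _ _

end Groth.Agent.H9GrpdOrbit
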