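import Groth.Prelude.Def_Grpd
import Groth.Agent.Lib.H9Grpd
import Groth.Agent.Lib.H9GrpdIntegral
import Groth.Agent.Lib.H9GrpdOrbit
import Mathlib

/-! Invariant affine neighbourhoods of finite locally free groupoids. -/

set_option autoImplicit false
set_option backward.isDefEq.respectTransparency.types false
set_option backward.isDefEq.respectTransparency false

universe u

open AlgebraicGeometry CategoryTheory CategoryTheory.Limits
open scoped TensorProduct

namespace Groth.Agent.H9GrpdInvAff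

open Groth.Agent.H9GrpdIntegral

theorem exists_norm {A B : Type u} [CommRing A] [CommRing B] [Algebra A B] [Module.Finite A B] [Module.Projective A B] (g : B) :
    ∃ N : A, ∀ q : PrimeSpectrum A, N ∈ q.asIdeal ↔ ∃ r : PrimeSpectrum B, PrimeSpectrum.comap (algebraMap A B) r = q ∧ g ∈ r.asIdeal := by
  obtain ⟨n, ⟨sp⟩⟩ := exists_split (A := A) (P := B)
  refine ⟨(1 + sp.mat (g - 1)).det, fun q => ⟨fun hN => ?_, ?_⟩⟩
  · let K := AlgebraicClosure q.asIdeal.ResidueField
    letI : Algebra A K := ((algebraMap q.asIdeal.ResidueField K).comp (algebraMap A q.asIdeal.ResidueField)).toAlgebra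
    have hK : RingHom.ker (algebraMap A K) = q.asIdeal := by
      ext a
      rw [RingHom.mem_ker, RingHom.algebraMap_toAlgebra, RingHom.comp_apply, map_eq_zero_iff _ (RingHom.injective _),
        Ideal.algebraMap_residueField_eq_zero]
    letI : Algebra B (K ⊗[A] B) := Algebra.TensorProduct.rightAlgebra
    let spk : Split K (K ⊗[A] B) n := sp.baseChange
    have hm := sp.mat_baseChange (C := K) (P := K ⊗[A] B) (g - 1)
    have hdet : (1 + spk.mat (algebraMap B (K ⊗[A] B) (g - 1))).det = 0 := by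
      rw [show spk.mat (algebraMap B (K ⊗[A] B) (g - 1)) = (sp.mat (g - 1)).map (algebraMap A K) from hm]
      rw [← hK, RingHom.mem_ker, RingHom.map_det, map_add, map_one] at hN
      exact hN
    have hroot : (spk.mat (algebraMap B (K ⊗[A] B) (g - 1))).charpoly.IsRoot (-1) := by
      rw [Polynomial.IsRoot, Matrix.eval_charpoly]
      have : Matrix.scalar (Fin n) (-1 : K) - spk.mat (algebraMap B (K ⊗[A] B) (g - 1)) =
          -(1 + spk.mat (algebraMap B (K ⊗[A] B) (g - 1))) := by rw [map_neg, map_one]; abel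
      rw [this, Matrix.det_neg, hdet, mul_zero]
    obtain ⟨ψ, hψ⟩ := H9GrpdOrbit.exists_lift_root spk _ (-1) hroot (neg_ne_zero.2 one_ne_zero)
    refine ⟨⟨RingHom.ker (ψ.toRingHom.comp (algebraMap B (K ⊗[A] B))), RingHom.ker_isPrime _⟩, PrimeSpectrum.ext ?_, ?_⟩
    · show (RingHom.ker _).comap (algebraMap A B) = _
      rw [RingHom.comap_ker, RingHom.comp_assoc, ← IsScalarTower.algebraMap_eq A B (K ⊗[A] B), IsScalarTower.algebraMap_eq A K (K ⊗[A] B),
        ← RingHom.comp_assoc]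
      rw [show ψ.toRingHom.comp (algebraMap K (K ⊗[A] B)) = RingHom.id K from RingHom.ext fun x => ψ.commutes x]
      exact hK
    · rw [RingHom.mem_ker]
      show ψ (algebraMap B (K ⊗[A] B) g) = 0
      rw [map_sub, map_sub, map_one, map_one] at hψ
      linear_combination hψ
  · rintro ⟨r, rfl, hg⟩
    let L := r.asIdeal.ResidueField
    let φ : B →+* L := algebraMap B L
    have hφg : φ g = 0 := Ideal.algebraMap_residueField_eq_zero.2 hg
    let v : Fin n → L := fun j => φ (sp.gen j)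
    let M : Matrix (Fin n) (Fin n) L := (1 + sp.mat (g - 1)).map (φ.comp (algebraMap A B))
    have hv : v ≠ 0 := fun h => by
      have := congrArg φ (sp.sum_coord 1)
      rw [map_sum] at this
      refine one_ne_zero ((map_one φ).symm.trans (this.symm.trans (Finset.sum_eq_zero fun j _ => ?_)))
      rw [Algebra.smul_def, map_mul, show φ (sp.gen j) = 0 from congrFun h j, mul_zero]
    have hvM : Matrix.vecMul v M = 0 := by
      funext j
      have h := congrArg φ (sp.sum_coord ((g - 1) * sp.gen j))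
      rw [map_sum, map_mul φ (g - 1), map_sub φ, hφg, map_one φ, zero_sub, neg_one_mul] at h
      simp only [Algebra.smul_def, map_mul] at h
      have e : Matrix.vecMul v M j = v j + ∑ i, φ (algebraMap A B (sp.coord ((g - 1) * sp.gen j) i)) * φ (sp.gen i) := by
        simp [M, Matrix.vecMul, dotProduct, Matrix.one_apply, mul_add, Finset.sum_add_distrib, v, Split.mat, mul_comm, apply_ite]
      rw [e, h]
      simp [v]
    have hd : M.det = 0 := Matrix.exists_vecMul_eq_zero_iff.1 ⟨v, hv, hvM⟩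
    rw [show M.det = φ.comp (algebraMap A B) (1 + sp.mat (g - 1)).det from (RingHom.map_det _ _).symm] at hd
    exact Ideal.mem_comap.2 ((Ideal.algebraMap_residueField_eq_zero (I := r.asIdeal)).1 hd)

variable {S : Scheme.{u}} (G : Grpd.GroupoidScheme S)

/-- points whose whole orbit lies in `V` -/
def sat (V : Set G.U) : Set G.U := {x | ∀ r : G.R, G.s r = x → G.t r ∈ V}

theorem sat_subset (V : Set G.U) : sat G V ⊆ V := fun x hx => by
  have := hx (G.e x) (by rw [← Scheme.Hom.comp_apply, G.e_s]; rfl)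
  rwa [← Scheme.Hom.comp_apply, G.e_t] at this

theorem sat_inv (V : Set G.U) (r : G.R) : G.s r ∈ sat G V ↔ G.t r ∈ sat G V := by
  constructor
  · intro h r' hr'
    obtain ⟨q, hq1, hq2⟩ := H9Grpd.exists_comp G r' r hr'
    rw [← hq1]; exact h q hq2
  · intro h r' hr'
    obtain ⟨ri, hri1, hri2⟩ := H9Grpd.exists_inv G r
    obtain ⟨q, hq1, hq2⟩ := H9Grpd.exists_comp G r' ri (hr'.trans hri1.symm)
    rw [← hq1]; exact h q (hq2.trans hri2)

theorem isOpen_sat [IsFinite G.s] (V : G.U.Opens) : IsOpen (sat G (V : Set G.U)) := by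
  have : sat G (V : Set G.U) = (G.s '' (G.t ⁻¹' (V : Set G.U))ᶜ)ᶜ := by
    ext x
    constructor
    · rintro h ⟨r, hr, rfl⟩; exact hr (h r rfl)
    · intro h r hr
      by_contra hn
      exact h ⟨r, hn, hr⟩
  rw [this]
  exact (G.s.isClosedMap _ (V.2.preimage G.t.continuous).isClosed_compl).isOpen_compl

theorem exists_basicOpen_finite {X : Scheme.{u}} {U : X.Opens} (hU : IsAffineOpen U) (O : X.Opens) {ι : Type u} [Finite ι]
    (x : ι → X) (hxU : ∀ i, x i ∈ U) (hxO : ∀ i, x i ∈ O) : ∃ f : Γ(X, U), X.basicOpen f ≤ O ∧ ∀ i, x i ∈ X.basicOpen f := by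
  classical
  cases nonempty_fintype ι
  obtain ⟨I, hI⟩ := (PrimeSpectrum.isClosed_iff_zeroLocus_ideal _).1 (hU.fromSpec ⁻¹ᵁ O).2.isClosed_compl
  let P := fun i => hU.primeIdealOf ⟨x i, hxU i⟩
  have hP : ∀ i, hU.fromSpec (P i) = x i := fun i => hU.fromSpec_primeIdealOf ⟨x i, hxU i⟩
  have hnot : ¬ (I : Set Γ(X, U)) ⊆ ⋃ i ∈ (↑(Finset.univ : Finset ι) : Set ι), ((P i).asIdeal : Set Γ(X, U)) := by
    intro hsub
    rcases isEmpty_or_nonempty ι with hι | ⟨⟨i₀⟩⟩
    · obtain ⟨i, -⟩ := Set.mem_iUnion.1 (hsub I.zero_mem)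
      exact hι.elim i
    · obtain ⟨i, -, hi⟩ := (Ideal.subset_union_prime i₀ i₀ (fun i _ _ _ => (P i).isPrime)).1 hsub
      have hz : P i ∈ PrimeSpectrum.zeroLocus (I : Set Γ(X, U)) := hi
      rw [← hI] at hz
      refine hz ?_
      show hU.fromSpec (P i) ∈ O
      rw [hP]; exact hxO i
  obtain ⟨f, hfI, hf⟩ := Set.not_subset.1 hnot
  refine ⟨f, ?_, fun i => ?_⟩
  · rw [← hU.fromSpec_image_basicOpen]
    rintro _ ⟨Q, hQ, rfl⟩
    by_contra hne
    have hQI : Q ∈ PrimeSpectrum.zeroLocus (I : Set Γ(X, U)) := by rw [← hI]; exact hne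
    exact hQ (hQI hfI)
  · rw [← hU.fromSpec_image_basicOpen]
    exact ⟨P i, fun h => hf (Set.mem_iUnion₂.2 ⟨i, Finset.mem_univ i, h⟩), hP i⟩

theorem exists_inv_affine [IsFinite G.s] [Flat G.s] [LocallyOfFinitePresentation G.s] (u : G.U) (O : G.U.Opens)
    (V : G.U.Opens) (hV : IsAffineOpen V) (huV : ∀ r : G.R, G.s r = u → G.t r ∈ V ∧ G.t r ∈ O) :
    ∃ W : G.U.Opens, IsAffineOpen W ∧ u ∈ W ∧ W ≤ O ∧ G.s ⁻¹ᵁ W = G.t ⁻¹ᵁ W := by
  let W0 : G.U.Opens := ⟨sat G ((V ⊓ O : G.U.Opens) : Set G.U), isOpen_sat G _⟩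
  have hu0 : u ∈ W0 := fun r hr => huV r hr
  have hW0 : ∀ x, x ∈ W0 → x ∈ V ∧ x ∈ O := fun x hx => sat_subset G _ hx
  haveI : Finite (G.s ⁻¹' {u} : Set G.R) := (G.s.finite_preimage_singleton u).to_subtype
  obtain ⟨f, hfO, hf⟩ := exists_basicOpen_finite hV W0 (fun r : (G.s ⁻¹' {u} : Set G.R) => G.t r.1)
    (fun r => (huV r.1 r.2).1) (fun r => (sat_inv G _ r.1).1 (by rw [show G.s r.1 = u from r.2]; exact hu0))
  let W1 := G.U.basicOpen f
  have hW1 : IsAffineOpen W1 := hV.basicOpen f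
  let Q := G.s ⁻¹ᵁ W1
  have hQ : IsAffineOpen Q := hW1.preimage G.s
  have hQV : Q ≤ G.t ⁻¹ᵁ V := fun r hr => (hW0 _ ((sat_inv G _ r).1 (hfO hr))).1
  let g := G.t.appLE V Q hQV f
  have hg : ∀ r : G.R, r ∈ Q → (r ∈ G.R.basicOpen g ↔ G.t r ∈ W1) := fun r hr => by
    rw [show G.R.basicOpen g = Q ⊓ G.t ⁻¹ᵁ W1 by
      simp only [g, Scheme.Hom.appLE, CommRingCat.comp_apply]
      rw [Scheme.basicOpen_res, ← Scheme.preimage_basicOpen]]
    exact ⟨fun h => h.2, fun h => ⟨hr, h⟩⟩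
  letI := (G.s.appLE W1 Q le_rfl).hom.toAlgebra
  haveI hfin : Module.Finite Γ(G.U, W1) Γ(G.R, Q) := RingHom.finite_algebraMap.1 (by
    rw [RingHom.algebraMap_toAlgebra, ← Scheme.Hom.app_eq_appLE]
    exact IsFinite.finite_app G.s W1 hW1)
  haveI : Module.Flat Γ(G.U, W1) Γ(G.R, Q) := RingHom.flat_algebraMap_iff.1 (by
    rw [RingHom.algebraMap_toAlgebra]
    exact HasRingHomProperty.appLE (P := @Flat) _ inferInstance ⟨W1, hW1⟩ ⟨Q, hQ⟩ le_rfl)
  haveI : Algebra.FinitePresentation Γ(G.U, W1) Γ(G.R, Q) := RingHom.finitePresentation_algebraMap.1 (by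
    rw [RingHom.algebraMap_toAlgebra]
    exact HasRingHomProperty.appLE (P := @LocallyOfFinitePresentation) _ inferInstance ⟨W1, hW1⟩ ⟨Q, hQ⟩ le_rfl)
  haveI : Module.FinitePresentation Γ(G.U, W1) Γ(G.R, Q) := Module.FinitePresentation.of_finite_of_finitePresentation _ _
  haveI : Module.Projective Γ(G.U, W1) Γ(G.R, Q) := Module.Flat.projective_of_finitePresentation
  obtain ⟨N, hN⟩ := exists_norm (A := Γ(G.U, W1)) g
  have hcomm : ∀ r : Spec Γ(G.R, Q), G.s (hQ.fromSpec r) = hW1.fromSpec (Spec.map (G.s.appLE W1 Q le_rfl) r) := fun r => by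
    rw [← Scheme.Hom.comp_apply, ← Scheme.Hom.comp_apply, IsAffineOpen.SpecMap_appLE_fromSpec]
  have hW2 : (G.U.basicOpen N : Set G.U) = sat G (W1 : Set G.U) := by
    ext x
    rw [SetLike.mem_coe, ← hW1.fromSpec_image_basicOpen]
    constructor
    · rintro ⟨q, hq, rfl⟩ r hr
      have hrQ : r ∈ Q := by show G.s r ∈ W1; rw [hr]; exact hW1.range_fromSpec.le ⟨q, rfl⟩
      obtain ⟨r', rfl⟩ := hQ.range_fromSpec.ge hrQ
      by_contra hne
      refine hq ((hN q).2 ⟨r', hW1.fromSpec.isOpenEmbedding.injective ((hcomm r').symm.trans hr), ?_⟩)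
      by_contra hg'
      exact hne ((hg _ hrQ).1 (by rw [← hQ.fromSpec_image_basicOpen]; exact ⟨r', hg', rfl⟩))
    · intro hx
      obtain ⟨q, rfl⟩ := hW1.range_fromSpec.ge (sat_subset G _ hx)
      refine ⟨q, fun hq => ?_, rfl⟩
      obtain ⟨r', hr', hgr⟩ := (hN q).1 hq
      have h1 : G.s (hQ.fromSpec r') = hW1.fromSpec q := (hcomm r').trans (congrArg hW1.fromSpec hr')
      have h2 := (hg _ (hQ.range_fromSpec.le ⟨r', rfl⟩)).2 (hx _ h1)
      rw [← hQ.fromSpec_image_basicOpen] at h2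
      obtain ⟨r'', hr'', he⟩ := h2
      rw [hQ.fromSpec.isOpenEmbedding.injective he] at hr''
      exact hr'' hgr
  refine ⟨G.U.basicOpen N, hW1.basicOpen N, hW2.ge fun r hr => hf ⟨r, hr⟩, fun x hx => ?_, ?_⟩
  · exact (hW0 x (hfO (sat_subset G _ (hW2.le hx)))).2
  · ext r
    show G.s r ∈ (G.U.basicOpen N : Set G.U) ↔ G.t r ∈ (G.U.basicOpen N : Set G.U)
    rw [hW2]
    exact sat_inv G _ r

end Groth.Agent.H9GrpdInvAff
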