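import Groth.Prelude.Def_Grpd
import Groth.Agent.Lib.H9Grpd
import Groth.Agent.Lib.H9GrpdIntegral
import Groth.Agent.Lib.H9GrpdOrbit
import Mathlib

/-! The quotient map of an affine finite locally free groupoid: surjective, fibres are orbits. -/

set_option autoImplicit false
set_option backward.isDefEq.respectTransparency.types false
set_option backward.isDefEq.respectTransparency false

universe u

open AlgebraicGeometry CategoryTheory CategoryTheory.Limits Polynomial

namespace Groth.Agent.H9GrpdQuot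

open Groth.Agent.H9GrpdIntegral

variable {X : Scheme.{u}} [IsAffine X] {k : Type u} [Field k]

/-- ring map of a point -/
noncomputable def ptHom (x : Spec (CommRingCat.of k) ⟶ X) : Γ(X, ⊤) →+* k :=
  (x.appTop ≫ (Scheme.ΓSpecIso (CommRingCat.of k)).hom).hom

/-- point of a ring map -/
noncomputable def pt (φ : Γ(X, ⊤) →+* k) : Spec (CommRingCat.of k) ⟶ X :=
  Spec.map (CommRingCat.ofHom φ) ≫ X.isoSpec.inv

theorem ptHom_comp {Y : Scheme.{u}} [IsAffine Y] (x : Spec (CommRingCat.of k) ⟶ X) (f : X ⟶ Y) :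
    ptHom (x ≫ f) = (ptHom x).comp f.appTop.hom := by
  simp [ptHom, Scheme.Hom.comp_appTop]

theorem pt_toSpecΓ (φ : Γ(X, ⊤) →+* k) : pt φ ≫ X.toSpecΓ = Spec.map (CommRingCat.ofHom φ) := by
  rw [pt, Category.assoc, ← Scheme.isoSpec_hom, Iso.inv_hom_id, Category.comp_id]

theorem comp_toSpecΓ (x : Spec (CommRingCat.of k) ⟶ X) : x ≫ X.toSpecΓ = Spec.map (CommRingCat.ofHom (ptHom x)) := by
  rw [Scheme.toSpecΓ_naturality, ← SpecMap_ΓSpecIso_hom, ← Spec.map_comp]
  rfl

omit [IsAffine X] in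
theorem specMap_asIdeal {R : Type u} [CommRing R] (φ : R →+* k) (x : Spec (CommRingCat.of k)) :
    ((Spec.map (CommRingCat.ofHom φ)) x).asIdeal = RingHom.ker φ := by
  show Ideal.comap φ x.asIdeal = _
  rw [(Ideal.eq_bot_or_top x.asIdeal).resolve_right x.isPrime.ne_top, RingHom.ker_eq_comap_bot]

theorem ptHom_pt (φ : Γ(X, ⊤) →+* k) : ptHom (pt φ) = φ := by
  have h := (comp_toSpecΓ (pt φ)).symm.trans (pt_toSpecΓ φ)
  exact congrArg CommRingCat.Hom.hom (Spec.map_injective h)

theorem ptHom_injective (x y : Spec (CommRingCat.of k) ⟶ X) (h : ptHom x = ptHom y) : x = y := by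
  rw [← cancel_mono X.toSpecΓ, comp_toSpecΓ, comp_toSpecΓ, h]

section Ring

/-- extension of a geometric point along an integral injective extension -/
theorem exists_extend {C A k : Type u} [CommRing C] [CommRing A] [Field k] [IsAlgClosed k] [Algebra C A]
    [Algebra.IsIntegral C A] (φ : C →+* k) (q : Ideal A) [q.IsPrime] (hq : q.comap (algebraMap C A) = RingHom.ker φ) :
    ∃ ψ : A →+* k, ψ.comp (algebraMap C A) = φ ∧ RingHom.ker ψ = q := by
  haveI : (RingHom.ker φ).IsPrime := RingHom.ker_isPrime φ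
  haveI : q.LiesOver (RingHom.ker φ) := ⟨hq.symm⟩
  haveI : Algebra.IsIntegral (C ⧸ RingHom.ker φ) (A ⧸ q) := inferInstance
  letI : Algebra (C ⧸ RingHom.ker φ) k := (RingHom.kerLift φ).toAlgebra
  haveI : Module.IsTorsionFree (C ⧸ RingHom.ker φ) k := by
    rw [Module.isTorsionFree_iff_algebraMap_injective]
    exact RingHom.kerLift_injective φ
  haveI : Module.IsTorsionFree (C ⧸ RingHom.ker φ) (A ⧸ q) := by
    rw [Module.isTorsionFree_iff_algebraMap_injective]
    rw [injective_iff_map_eq_zero]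
    intro c hc
    obtain ⟨c, rfl⟩ := Ideal.Quotient.mk_surjective c
    rw [Ideal.Quotient.eq_zero_iff_mem, ← hq]
    have h : Ideal.Quotient.mk q (algebraMap C A c) = 0 := hc
    exact Ideal.mem_comap.2 (Ideal.Quotient.eq_zero_iff_mem.1 h)
  haveI : Algebra.IsAlgebraic (C ⧸ RingHom.ker φ) (A ⧸ q) := Algebra.IsIntegral.isAlgebraic
  let g : A ⧸ q →ₐ[C ⧸ RingHom.ker φ] k := IsAlgClosed.lift
  refine ⟨g.toRingHom.comp (Ideal.Quotient.mk q), RingHom.ext fun c => ?_, ?_⟩
  · exact g.commutes (Ideal.Quotient.mk _ c)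
  · have hinj : Function.Injective g := by
      rw [injective_iff_map_eq_zero]
      intro a ha
      haveI : (RingHom.ker g.toRingHom).IsPrime := RingHom.ker_isPrime _
      by_contra hne
      have hbot : Ideal.comap (algebraMap (C ⧸ RingHom.ker φ) (A ⧸ q)) (RingHom.ker g.toRingHom) = ⊥ := by
        rw [eq_bot_iff]
        intro c hc
        rw [Ideal.mem_comap, RingHom.mem_ker] at hc
        rw [Ideal.mem_bot]
        exact (injective_iff_map_eq_zero _).1 (RingHom.kerLift_injective φ) c ((g.commutes c).symm.trans hc)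
      have := Ideal.eq_bot_of_comap_eq_bot hbot
      exact hne ((Submodule.eq_bot_iff _).1 this a ha)
    ext a
    simp only [RingHom.mem_ker, RingHom.comp_apply]
    rw [← Ideal.Quotient.eq_zero_iff_mem]
    exact map_eq_zero_iff g.toRingHom hinj

end Ring

variable {S : Scheme.{u}} (G : Grpd.GroupoidScheme S)
  [IsAffine G.U] [IsAffine G.R] [IsFinite G.s] [Flat G.s] [LocallyOfFinitePresentation G.s]

omit [IsAffine G.R] [IsFinite G.s] [Flat G.s] [LocallyOfFinitePresentation G.s] in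
theorem comp_toQuot (x : Spec (CommRingCat.of k) ⟶ G.U) :
    x ≫ G.toQuot = Spec.map (CommRingCat.ofHom ((ptHom x).comp G.invariants.subtype)) := by
  rw [Grpd.GroupoidScheme.toQuot, ← Category.assoc, comp_toSpecΓ, ← Spec.map_comp]
  congr 1

omit [IsFinite G.s] [Flat G.s] [LocallyOfFinitePresentation G.s] in
theorem s_toQuot : G.s ≫ G.toQuot = G.t ≫ G.toQuot := by
  simp only [Grpd.GroupoidScheme.toQuot]
  rw [← Category.assoc, ← Category.assoc, Scheme.toSpecΓ_naturality, Scheme.toSpecΓ_naturality, Category.assoc, Category.assoc,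
    ← Spec.map_comp, ← Spec.map_comp]
  congr 2
  ext c
  exact c.2

theorem arrow_of_comp_eq [IsAlgClosed k] (x₀ x₁ : Spec (CommRingCat.of k) ⟶ G.U) (h : x₀ ≫ G.toQuot = x₁ ≫ G.toQuot) :
    ∃ r : Spec (CommRingCat.of k) ⟶ G.R, r ≫ G.t = x₀ ∧ r ≫ G.s = x₁ := by
  letI := G.s.appTop.hom.toAlgebra
  haveI : Module.Finite Γ(G.U, ⊤) Γ(G.R, ⊤) := G.s.finite_appTop
  haveI : Module.Flat Γ(G.U, ⊤) Γ(G.R, ⊤) := G.s.flat_appTop
  haveI : Algebra.FinitePresentation Γ(G.U, ⊤) Γ(G.R, ⊤) := G.s.finitePresentation_appTop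
  haveI : Module.FinitePresentation Γ(G.U, ⊤) Γ(G.R, ⊤) := Module.FinitePresentation.of_finite_of_finitePresentation _ _
  haveI : Module.Projective Γ(G.U, ⊤) Γ(G.R, ⊤) := Module.Flat.projective_of_finitePresentation
  obtain ⟨n, ⟨sp⟩⟩ := exists_split (A := Γ(G.U, ⊤)) (P := Γ(G.R, ⊤))
  have hC : (ptHom x₀).comp G.invariants.subtype = (ptHom x₁).comp G.invariants.subtype := by
    rw [comp_toQuot, comp_toQuot] at h
    exact congrArg CommRingCat.Hom.hom (Spec.map_injective h)
  have h1 : IsPullback (pullback.snd G.s G.t) (pullback.fst G.s G.t) G.t G.s := (IsPullback.of_hasPullback G.s G.t).flip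
  have h2 : IsPullback (pullback.snd G.s G.t) G.c G.s G.s := by
    refine IsPullback.flip (IsPullback.of_iso (IsPullback.of_hasPullback G.s G.s) (H9Grpd.shear G).symm (Iso.refl _) (Iso.refl _)
      (Iso.refl _) ?_ ?_ ?_ ?_)
    · rw [Iso.refl_hom, Category.comp_id, ← H9Grpd.shear_hom_fst G, Iso.symm_hom, Iso.inv_hom_id_assoc]
    · rw [Iso.refl_hom, Category.comp_id, Iso.symm_hom]
      simp [H9Grpd.shear]
    · simp
    · simp
  have hes : ∀ a, G.e.appTop.hom (G.s.appTop.hom a) = a := fun a => by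
    simpa using congrArg (fun m => m.appTop.hom a) G.e_s
  have het : ∀ a, G.e.appTop.hom (G.t.appTop.hom a) = a := fun a => by
    simpa using congrArg (fun m => m.appTop.hom a) G.e_t
  have hinv : ∀ (m : ℕ) (f : Fin m → Γ(G.U, ⊤)) (d : ℕ),
      ((H9GrpdOrbit.genMat sp fun i => G.t.appTop.hom (f i)).charpoly.coeff d).map (ptHom x₀) =
        ((H9GrpdOrbit.genMat sp fun i => G.t.appTop.hom (f i)).charpoly.coeff d).map (ptHom x₁) := by
    intro m f d
    set Q := (H9GrpdOrbit.genMat sp fun i => G.t.appTop.hom (f i)).charpoly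
    have key : Q.map (MvPolynomial.map G.s.appTop.hom) = Q.map (MvPolynomial.map G.t.appTop.hom) := by
      letI := (pullback.snd G.s G.t).appTop.hom.toAlgebra
      -- the two base changes
      obtain ⟨s1, e1⟩ : ∃ s1 : Split Γ(G.R, ⊤) Γ(pullback G.s G.t, ⊤) n, ∀ x, s1.mat ((pullback.fst G.s G.t).appTop.hom x) = (sp.mat x).map G.t.appTop.hom := by
        exact exists_mat_baseChange (isPushout_appTop_of_isPullback h1) sp
      obtain ⟨s2, e2⟩ : ∃ s2 : Split Γ(G.R, ⊤) Γ(pullback G.s G.t, ⊤) n, ∀ x, s2.mat (G.c.appTop.hom x) = (sp.mat x).map G.s.appTop.hom :=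
        exists_mat_baseChange (isPushout_appTop_of_isPullback h2) sp
      have hct : ∀ a, G.c.appTop.hom (G.t.appTop.hom a) = (pullback.fst G.s G.t).appTop.hom (G.t.appTop.hom a) := fun a => by
        have hc : G.c ≫ G.t = pullback.fst G.s G.t ≫ G.t := by
          have h := G.comp_t (pullback.fst G.s G.t) (pullback.snd G.s G.t) pullback.condition
          rwa [show pullback.lift (pullback.fst G.s G.t) (pullback.snd G.s G.t) pullback.condition = 𝟙 _ from
            pullback.hom_ext (by simp) (by simp), Category.id_comp] at h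
        simpa using congrArg (fun m => m.appTop.hom a) hc
      rw [← Matrix.charpoly_map, ← Matrix.charpoly_map]
      have hm : ∀ (g : Γ(G.U, ⊤) →+* Γ(G.R, ⊤)), (H9GrpdOrbit.genMat sp fun i => G.t.appTop.hom (f i)).map (MvPolynomial.map g) =
          ∑ i, (MvPolynomial.X i : MvPolynomial (Fin m) Γ(G.R, ⊤)) • ((sp.mat (G.t.appTop.hom (f i))).map g).map MvPolynomial.C := fun g => by
        ext a b
        simp [H9GrpdOrbit.genMat, Matrix.sum_apply]
      rw [hm, hm]
      simp only [← e1, ← e2, ← hct]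
      exact genSum_charpoly_eq s2 s1 fun i => G.c.appTop.hom (G.t.appTop.hom (f i))
    have hd : MvPolynomial.map G.s.appTop.hom (Q.coeff d) = MvPolynomial.map G.t.appTop.hom (Q.coeff d) := by
      simpa only [Polynomial.coeff_map] using congrArg (fun p => p.coeff d) key
    ext μ
    rw [MvPolynomial.coeff_map, MvPolynomial.coeff_map]
    have hμ := congrArg (MvPolynomial.coeff μ) hd
    rw [MvPolynomial.coeff_map, MvPolynomial.coeff_map] at hμ
    exact RingHom.congr_fun hC ⟨_, hμ⟩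
  obtain ⟨r, hrt, hrs⟩ := H9GrpdOrbit.exists_arrow G.t.appTop.hom G.e.appTop.hom hes het sp (ptHom x₀) (ptHom x₁) hinv
  refine ⟨pt r, ptHom_injective _ _ ?_, ptHom_injective _ _ ?_⟩
  · rw [ptHom_comp, ptHom_pt, hrt]
  · rw [ptHom_comp, ptHom_pt]; exact hrs

theorem exists_point_over [IsAlgClosed k] (m : Spec (CommRingCat.of k) ⟶ Spec (CommRingCat.of G.invariants)) :
    ∃ x : Spec (CommRingCat.of k) ⟶ G.U, x ≫ G.toQuot = m := by
  haveI := isIntegral_invariants G
  let φ : G.invariants →+* k := (Spec.preimage m).hom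
  haveI : (RingHom.ker φ).IsPrime := RingHom.ker_isPrime φ
  obtain ⟨q, -, hqp, hq⟩ := Ideal.exists_ideal_over_prime_of_isIntegral (S := Γ(G.U, ⊤)) (RingHom.ker φ) ⊥ (by
    intro c hc
    rw [Ideal.mem_comap, Ideal.mem_bot] at hc
    rw [RingHom.mem_ker, show c = 0 from Subtype.ext hc, map_zero])
  haveI := hqp
  obtain ⟨ψ, hψ, -⟩ := exists_extend φ q hq
  refine ⟨pt ψ, ?_⟩
  rw [comp_toQuot, ptHom_pt]
  conv_rhs => rw [← Spec.map_preimage m]
  congr 1
  ext c
  exact RingHom.congr_fun hψ c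

theorem toQuot_fibres :
    (Function.Surjective G.toQuot ∧
        ∀ u₀ u₁ : G.U, G.toQuot u₀ = G.toQuot u₁ ↔ ∃ r : G.R, G.t r = u₀ ∧ G.s r = u₁) ∧
      ∀ (k : Type u) [Field k] [IsAlgClosed k],
        (∀ m : Spec (CommRingCat.of k) ⟶ Spec (CommRingCat.of G.invariants),
            ∃ x : Spec (CommRingCat.of k) ⟶ G.U, x ≫ G.toQuot = m) ∧
          ∀ x₀ x₁ : Spec (CommRingCat.of k) ⟶ G.U, x₀ ≫ G.toQuot = x₁ ≫ G.toQuot ↔
            ∃ r : Spec (CommRingCat.of k) ⟶ G.R, r ≫ G.t = x₀ ∧ r ≫ G.s = x₁ := by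
  refine ⟨⟨fun m => ?_, fun u₀ u₁ => ⟨fun h => ?_, ?_⟩⟩, fun k _ _ => ⟨exists_point_over G, fun x₀ x₁ => ⟨arrow_of_comp_eq G x₀ x₁, ?_⟩⟩⟩
  · let K := AlgebraicClosure ((Spec (CommRingCat.of G.invariants)).residueField m)
    let p : Spec (CommRingCat.of K) ⟶ Spec (CommRingCat.of G.invariants) :=
      Spec.map (CommRingCat.ofHom (algebraMap ((Spec (CommRingCat.of G.invariants)).residueField m) K) :
        (Spec (CommRingCat.of G.invariants)).residueField m ⟶ CommRingCat.of K) ≫ (Spec (CommRingCat.of G.invariants)).fromSpecResidueField m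
    obtain ⟨x, hx⟩ := exists_point_over G p
    refine ⟨x default, ?_⟩
    rw [← Scheme.Hom.comp_apply, hx, Scheme.Hom.comp_apply]
    exact Scheme.fromSpecResidueField_apply m _
  · haveI := isIntegral_invariants G
    -- a point over `u₁`, extended to a point over `u₀`
    let K := AlgebraicClosure (G.U.residueField u₁)
    let x₁ : Spec (CommRingCat.of K) ⟶ G.U := Spec.map (CommRingCat.ofHom (algebraMap (G.U.residueField u₁) K) : G.U.residueField u₁ ⟶ CommRingCat.of K) ≫ G.U.fromSpecResidueField u₁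
    have hu₁ : x₁ default = u₁ := by
      rw [Scheme.Hom.comp_apply]
      exact Scheme.fromSpecResidueField_apply u₁ _
    let φ : G.invariants →+* K := (ptHom x₁).comp G.invariants.subtype
    let q : PrimeSpectrum Γ(G.U, ⊤) := G.U.isoSpec.hom u₀
    have hker : q.asIdeal.comap (algebraMap G.invariants Γ(G.U, ⊤)) = RingHom.ker φ := by
      have h1 : G.toQuot u₀ = PrimeSpectrum.comap G.invariants.subtype q := by
        rw [Grpd.GroupoidScheme.toQuot, Scheme.Hom.comp_apply]; rfl
      have h2 : G.toQuot u₁ = Spec.map (CommRingCat.ofHom φ) default :=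
        (congrArg G.toQuot hu₁).symm.trans ((Scheme.Hom.comp_apply x₁ G.toQuot default).symm.trans (by rw [comp_toQuot]))
      exact (congrArg PrimeSpectrum.asIdeal ((h1.symm.trans h).trans h2)).trans (specMap_asIdeal φ default)
    obtain ⟨ψ, hψ, hψq⟩ := exists_extend φ q.asIdeal hker
    have hu₀ : pt ψ default = u₀ := by
      apply G.U.isoSpec.hom.homeomorph.injective
      change G.U.isoSpec.hom (pt ψ default) = q
      rw [← Scheme.Hom.comp_apply, Scheme.isoSpec_hom, pt_toSpecΓ]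
      exact PrimeSpectrum.ext ((specMap_asIdeal ψ default).trans hψq)
    obtain ⟨r, hrt, hrs⟩ := arrow_of_comp_eq G (pt ψ) x₁ (by
      rw [comp_toQuot, comp_toQuot, ptHom_pt]
      congr 2)
    exact ⟨r default, by rw [← Scheme.Hom.comp_apply, hrt, hu₀], by rw [← Scheme.Hom.comp_apply, hrs, hu₁]⟩
  · rintro ⟨r, rfl, rfl⟩
    rw [← Scheme.Hom.comp_apply, ← Scheme.Hom.comp_apply, s_toQuot]
  · rintro ⟨r, rfl, rfl⟩
    rw [Category.assoc, Category.assoc, s_toQuot]

end Groth.Agent.H9GrpdQuot
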