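import Groth.Prelude.Def_Grpd
import Groth.Agent.Lib.H9Grpd
import Mathlib

/-! Restriction of a groupoid to an invariant open. -/

set_option autoImplicit false
set_option backward.isDefEq.respectTransparency.types false
set_option backward.isDefEq.respectTransparency false

universe u

open AlgebraicGeometry CategoryTheory CategoryTheory.Limits

namespace Groth.Agent.H9GrpdRestrict

variable {S : Scheme.{u}} (G : Grpd.GroupoidScheme S) (W : G.U.Opens) (hW : G.s ⁻¹ᵁ W = G.t ⁻¹ᵁ W)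

/-- arrows inside `W` -/
noncomputable abbrev RW : Scheme.{u} := (G.s ⁻¹ᵁ W).toScheme

noncomputable def sW : RW G W ⟶ W.toScheme := G.s ∣_ W

include hW in
theorem tW_range : Set.range ((G.s ⁻¹ᵁ W).ι ≫ G.t) ⊆ Set.range W.ι := by
  rw [Scheme.Opens.range_ι]
  rintro _ ⟨x, rfl⟩
  exact hW.le x.2

noncomputable def tW : RW G W ⟶ W.toScheme := IsOpenImmersion.lift W.ι ((G.s ⁻¹ᵁ W).ι ≫ G.t) (tW_range G W hW)

theorem sW_ι : sW G W ≫ W.ι = (G.s ⁻¹ᵁ W).ι ≫ G.s := morphismRestrict_ι _ _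

theorem tW_ι : tW G W hW ≫ W.ι = (G.s ⁻¹ᵁ W).ι ≫ G.t := IsOpenImmersion.lift_fac _ _ _

theorem eW_range : Set.range (W.ι ≫ G.e) ⊆ Set.range (G.s ⁻¹ᵁ W).ι := by
  rw [Scheme.Opens.range_ι]
  rintro _ ⟨x, rfl⟩
  show G.s (G.e (W.ι x)) ∈ W
  rw [← Scheme.Hom.comp_apply, G.e_s]
  exact x.2

noncomputable def eW : W.toScheme ⟶ RW G W := IsOpenImmersion.lift (G.s ⁻¹ᵁ W).ι (W.ι ≫ G.e) (eW_range G W)

theorem eW_ι : eW G W ≫ (G.s ⁻¹ᵁ W).ι = W.ι ≫ G.e := IsOpenImmersion.lift_fac _ _ _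

include hW in
theorem iW_range : Set.range ((G.s ⁻¹ᵁ W).ι ≫ G.i) ⊆ Set.range (G.s ⁻¹ᵁ W).ι := by
  rw [Scheme.Opens.range_ι]
  rintro _ ⟨x, rfl⟩
  show G.s (G.i ((G.s ⁻¹ᵁ W).ι x)) ∈ W
  rw [← Scheme.Hom.comp_apply, G.i_s]
  exact hW.le x.2

noncomputable def iW : RW G W ⟶ RW G W := IsOpenImmersion.lift (G.s ⁻¹ᵁ W).ι ((G.s ⁻¹ᵁ W).ι ≫ G.i) (iW_range G W hW)

theorem iW_ι : iW G W hW ≫ (G.s ⁻¹ᵁ W).ι = (G.s ⁻¹ᵁ W).ι ≫ G.i := IsOpenImmersion.lift_fac _ _ _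

theorem cond_ι {T : Scheme.{u}} {α β : T ⟶ RW G W} (h : α ≫ sW G W = β ≫ tW G W hW) :
    (α ≫ (G.s ⁻¹ᵁ W).ι) ≫ G.s = (β ≫ (G.s ⁻¹ᵁ W).ι) ≫ G.t := by
  rw [Category.assoc, Category.assoc, ← sW_ι, ← tW_ι G W hW, reassoc_of% h]

/-- composition in `G` of arrows inside `W` -/
noncomputable def cG : pullback (sW G W) (tW G W hW) ⟶ G.R :=
  H9Grpd.mul G (pullback.fst _ _ ≫ (G.s ⁻¹ᵁ W).ι) (pullback.snd _ _ ≫ (G.s ⁻¹ᵁ W).ι) (cond_ι G W hW pullback.condition)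

theorem cW_range : Set.range (cG G W hW) ⊆ Set.range (G.s ⁻¹ᵁ W).ι := by
  rw [Scheme.Opens.range_ι]
  rintro _ ⟨x, rfl⟩
  show G.s (cG G W hW x) ∈ W
  rw [← Scheme.Hom.comp_apply, cG, H9Grpd.mul, G.comp_s, Category.assoc, Scheme.Hom.comp_apply, Scheme.Hom.comp_apply]
  exact (pullback.snd (sW G W) (tW G W hW) x).2

noncomputable def cW : pullback (sW G W) (tW G W hW) ⟶ RW G W := IsOpenImmersion.lift (G.s ⁻¹ᵁ W).ι (cG G W hW) (cW_range G W hW)

theorem cW_ι : cW G W hW ≫ (G.s ⁻¹ᵁ W).ι = cG G W hW := IsOpenImmersion.lift_fac _ _ _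

theorem mul_ι {T : Scheme.{u}} (α β : T ⟶ RW G W) (h : α ≫ sW G W = β ≫ tW G W hW) :
    (pullback.lift α β h ≫ cW G W hW) ≫ (G.s ⁻¹ᵁ W).ι =
      pullback.lift (α ≫ (G.s ⁻¹ᵁ W).ι) (β ≫ (G.s ⁻¹ᵁ W).ι) (cond_ι G W hW h) ≫ G.c := by
  rw [Category.assoc, cW_ι, cG, H9Grpd.mul, ← Category.assoc]
  congr 1
  apply pullback.hom_ext
  · simp
  · simp

/-- restriction of the groupoid to an invariant open -/
noncomputable def restrict : Grpd.GroupoidScheme S where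
  U := W.toScheme
  R := RW G W
  pU := W.ι ≫ G.pU
  pR := (G.s ⁻¹ᵁ W).ι ≫ G.pR
  s := sW G W
  t := tW G W hW
  e := eW G W
  i := iW G W hW
  c := cW G W hW
  s_over := by rw [← Category.assoc, sW_ι, Category.assoc, G.s_over]
  t_over := by rw [← Category.assoc, tW_ι, Category.assoc, G.t_over]
  comp_s α β h := by
    rw [← cancel_mono W.ι]
    simp only [Category.assoc, sW_ι]
    rw [← Category.assoc, ← Category.assoc, mul_ι G W hW α β h, G.comp_s, Category.assoc]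
  comp_t α β h := by
    rw [← cancel_mono W.ι]
    simp only [Category.assoc, tW_ι]
    rw [← Category.assoc, ← Category.assoc, mul_ι G W hW α β h, G.comp_t, Category.assoc]
  assoc α β γ h₁ h₂ := by
    rw [← cancel_mono (G.s ⁻¹ᵁ W).ι]
    refine (mul_ι G W hW _ _ _).trans (Eq.trans ?_ (mul_ι G W hW _ _ _).symm)
    have e1 := mul_ι G W hW α β h₁
    have e2 := mul_ι G W hW β γ h₂
    refine Eq.trans ?_ ((G.assoc _ _ _ (cond_ι G W hW h₁) (cond_ι G W hW h₂)).trans ?_)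
    · congr 1
      apply pullback.hom_ext
      · simpa using e1
      · simp
    · congr 1
      apply pullback.hom_ext
      · simp
      · simpa using e2.symm
  e_s := by rw [← cancel_mono W.ι, Category.assoc, sW_ι, ← Category.assoc, eW_ι, Category.assoc, G.e_s, Category.id_comp, Category.comp_id]
  e_t := by rw [← cancel_mono W.ι, Category.assoc, tW_ι, ← Category.assoc, eW_ι, Category.assoc, G.e_t, Category.id_comp, Category.comp_id]
  comp_e α := by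
    rw [← cancel_mono (G.s ⁻¹ᵁ W).ι, mul_ι]
    refine Eq.trans ?_ (G.comp_e _)
    congr 1
    apply pullback.hom_ext
    · simp
    · simp [eW_ι, reassoc_of% (sW_ι G W)]
  e_comp α := by
    rw [← cancel_mono (G.s ⁻¹ᵁ W).ι, mul_ι]
    refine Eq.trans ?_ (G.e_comp _)
    congr 1
    apply pullback.hom_ext
    · simp [eW_ι, reassoc_of% (tW_ι G W hW)]
    · simp
  i_s := by rw [← cancel_mono W.ι, Category.assoc, sW_ι, ← Category.assoc, iW_ι, Category.assoc, G.i_s, tW_ι]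
  i_t := by rw [← cancel_mono W.ι, Category.assoc, tW_ι, ← Category.assoc, iW_ι, Category.assoc, G.i_t, sW_ι]
  comp_i α := by
    rw [← cancel_mono (G.s ⁻¹ᵁ W).ι, mul_ι]
    refine Eq.trans ?_ ((G.comp_i (α ≫ (G.s ⁻¹ᵁ W).ι)).trans ?_)
    · congr 1
      apply pullback.hom_ext
      · simp
      · simp [iW_ι]
    · simp only [Category.assoc, eW_ι, reassoc_of% (tW_ι G W hW)]
  i_comp α := by
    rw [← cancel_mono (G.s ⁻¹ᵁ W).ι, mul_ι]
    refine Eq.trans ?_ ((G.i_comp (α ≫ (G.s ⁻¹ᵁ W).ι)).trans ?_)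
    · congr 1
      apply pullback.hom_ext
      · simp [iW_ι]
      · simp
    · simp only [Category.assoc, eW_ι, reassoc_of% (sW_ι G W)]

theorem restrict_s_props [IsFinite G.s] [Flat G.s] [LocallyOfFinitePresentation G.s] :
    IsFinite (restrict G W hW).s ∧ Flat (restrict G W hW).s ∧ LocallyOfFinitePresentation (restrict G W hW).s :=
  ⟨IsZariskiLocalAtTarget.restrict ‹IsFinite G.s› W, IsZariskiLocalAtTarget.restrict ‹Flat G.s› W,
    IsZariskiLocalAtTarget.restrict ‹LocallyOfFinitePresentation G.s› W⟩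

theorem mono_j [Mono G.j] : Mono (restrict G W hW).j := by
  refine ⟨fun {T} a b h => ?_⟩
  have h1 := congrArg (· ≫ pullback.fst _ _ ≫ W.ι) h
  have h2 := congrArg (· ≫ pullback.snd _ _ ≫ W.ι) h
  simp only [restrict, Grpd.GroupoidScheme.j, Category.assoc, pullback.lift_fst_assoc, pullback.lift_snd_assoc, tW_ι, sW_ι] at h1 h2
  rw [← cancel_mono (G.s ⁻¹ᵁ W).ι, ← cancel_mono G.j]
  apply pullback.hom_ext
  · simpa [Grpd.GroupoidScheme.j] using h1
  · simpa [Grpd.GroupoidScheme.j] using h2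

theorem isAffine_R [IsAffineHom G.s] (hWa : IsAffineOpen W) : IsAffine (restrict G W hW).R := hWa.preimage G.s

end Groth.Agent.H9GrpdRestrict
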