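import Groth.Prelude.Def_Grpd
import Groth.Prelude.Def_Mor2
import Groth.Agent.Lib.H9GrpdQuot
import Groth.Agent.Lib.H9GrpdRestrict
import Groth.Agent.Lib.H9GrpdInvAff
import Groth.Agent.Lib.H6.Quot
import Groth.Agent.Lib.H6.UnivThick
import Mathlib

/-! Coequalizers of finite locally free groupoids whose orbits lie in affine opens. -/

set_option autoImplicit false
set_option linter.all false
set_option backward.isDefEq.respectTransparency.types false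
set_option backward.isDefEq.respectTransparency false

universe u

open AlgebraicGeometry CategoryTheory CategoryTheory.Limits TopologicalSpace Opposite

namespace Groth.Agent.H9GrpdCoeq

variable {S : Scheme.{u}} (G : Grpd.GroupoidScheme S)

/-- `h` is compatible with the arrows between points of `X` -/
def Compat {X Z : Scheme.{u}} (j : X ⟶ G.U) (h : X ⟶ Z) : Prop :=
  ∀ {T : Scheme.{u}} (a b : T ⟶ X) (r : T ⟶ G.R), a ≫ j = r ≫ G.t → b ≫ j = r ≫ G.s → a ≫ h = b ≫ h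

/-- `p` is the quotient of `X` by the groupoid, universally for opens of the target -/
structure IsQ {X Y : Scheme.{u}} (j : X ⟶ G.U) (p : X ⟶ Y) : Prop where
  integral : IsIntegralHom p
  surj : Function.Surjective p
  compat : Compat G j p
  orbit : ∀ x y : X, p x = p y ↔ ∃ r : G.R, G.t r = j x ∧ G.s r = j y
  inj : ∀ V : Y.Opens, Function.Injective (p.app V).hom
  desc : ∀ (V : Y.Opens) {Z : Scheme.{u}} (h : (p ⁻¹ᵁ V).toScheme ⟶ Z),
    Compat G ((p ⁻¹ᵁ V).ι ≫ j) h → ∃ k : V.toScheme ⟶ Z, (p ∣_ V) ≫ k = h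

variable {G}

theorem IsQ.hom_ext {X Y : Scheme.{u}} {j : X ⟶ G.U} {p : X ⟶ Y} (hp : IsQ G j p) {Z : Scheme.{u}} {a b : Y ⟶ Z}
    (h : p ≫ a = p ≫ b) : a = b := H6.Quot.hom_ext_of hp.surj hp.inj h

theorem restrict_surjective {X Y : Scheme.{u}} {p : X ⟶ Y} (hs : Function.Surjective p) (V : Y.Opens) :
    Function.Surjective (p ∣_ V) := fun y => by
  obtain ⟨x, hx⟩ := hs y.1
  refine ⟨⟨x, show p x ∈ V from hx ▸ y.2⟩, V.ι.isOpenEmbedding.injective ?_⟩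
  rw [← Scheme.Hom.comp_apply, morphismRestrict_ι]
  exact hx

theorem restrict_inj {X Y : Scheme.{u}} {p : X ⟶ Y} (hinj : ∀ V : Y.Opens, Function.Injective (p.app V).hom) (V : Y.Opens)
    (W : V.toScheme.Opens) : Function.Injective ((p ∣_ V).app W).hom := by
  rw [morphismRestrict_app]
  exact (ConcreteCategory.bijective_of_isIso (X.presheaf.map (eqToHom (image_morphismRestrict_preimage p V W)).op)).1.comp (hinj _)

theorem restrict_hom_ext {X Y : Scheme.{u}} {p : X ⟶ Y} (hs : Function.Surjective p)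
    (hinj : ∀ V : Y.Opens, Function.Injective (p.app V).hom) (V : Y.Opens) {Z : Scheme.{u}} {a b : V.toScheme ⟶ Z}
    (h : (p ∣_ V) ≫ a = (p ∣_ V) ≫ b) : a = b :=
  H6.Quot.hom_ext_of (restrict_surjective hs V) (restrict_inj hinj V) h

section Affine

variable [IsAffine G.U] [IsAffine G.R]

theorem appTop_toQuot (c : G.invariants) :
    G.toQuot.appTop.hom ((Scheme.ΓSpecIso (CommRingCat.of G.invariants)).inv.hom c) = c.1 := by
  have h : (Scheme.ΓSpecIso (CommRingCat.of G.invariants)).inv ≫ G.toQuot.appTop = CommRingCat.ofHom G.invariants.subtype := by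
    rw [Grpd.GroupoidScheme.toQuot, Scheme.Hom.comp_appTop, ← Category.assoc, ← Scheme.ΓSpecIso_inv_naturality, Category.assoc,
      Scheme.toSpecΓ_appTop, Iso.inv_hom_id, Category.comp_id]
  exact RingHom.congr_fun (congrArg CommRingCat.Hom.hom h) c

theorem exists_preimage_top (z : Γ(G.U, ⊤)) (hz : G.s.appTop.hom z = G.t.appTop.hom z) :
    ∃ y : Γ(Spec (CommRingCat.of G.invariants), ⊤), G.toQuot.appTop.hom y = z :=
  ⟨_, appTop_toQuot ⟨z, hz⟩⟩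

theorem injective_appTop : Function.Injective G.toQuot.appTop.hom := fun a b h => by
  obtain ⟨a', rfl⟩ := (ConcreteCategory.bijective_of_isIso (Scheme.ΓSpecIso (CommRingCat.of G.invariants)).inv).2 a
  obtain ⟨b', rfl⟩ := (ConcreteCategory.bijective_of_isIso (Scheme.ΓSpecIso (CommRingCat.of G.invariants)).inv).2 b
  have h' := (appTop_toQuot a').symm.trans (h.trans (appTop_toQuot b'))
  rw [Subtype.ext h']

end Affine

/-- an affine candidate quotient -/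
structure AffQ (G : Grpd.GroupoidScheme S) {Y : Scheme.{u}} (p : G.U ⟶ Y) : Prop where
  w : G.s ≫ p = G.t ≫ p
  inj : Function.Injective p.appTop.hom
  range : ∀ z : Γ(G.U, ⊤), G.s.appTop.hom z = G.t.appTop.hom z → ∃ y : Γ(Y, ⊤), p.appTop.hom y = z
  integral : IsIntegralHom p
  surj : Function.Surjective p
  orbit : ∀ x y : G.U, p x = p y ↔ ∃ r : G.R, G.t r = x ∧ G.s r = y

section AffineGen

variable [IsAffine G.U] [IsAffine G.R] {Y : Scheme.{u}} [IsAffine Y] {p : G.U ⟶ Y}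

theorem res_toQuot (V : Y.Opens) (a : Γ(Y, ⊤)) :
    p.app V ((Y.presheaf.map (homOfLE le_top).op) a) =
      G.U.presheaf.map (homOfLE le_top).op (p.appTop a) :=
  RingHom.congr_fun (congrArg CommRingCat.Hom.hom (p.naturality (homOfLE (le_top (a := V))).op)) a

/-- sections over the basic open of an invariant function -/
theorem basic (hp : AffQ G p) (c : Γ(Y, ⊤)) :
    Function.Injective (p.app (Y.basicOpen c)).hom ∧
      ∀ z : Γ(G.U, p ⁻¹ᵁ Y.basicOpen c),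
        (∀ (hl : G.s ⁻¹ᵁ (p ⁻¹ᵁ Y.basicOpen c) ≤
            G.t ⁻¹ᵁ (p ⁻¹ᵁ Y.basicOpen c)),
          G.s.app _ z = G.t.appLE _ _ hl z) →
          ∃ y, p.app _ y = z := by
  let a0 := p.appTop c
  have hO : p ⁻¹ᵁ Y.basicOpen c = G.U.basicOpen a0 := Scheme.preimage_basicOpen_top _ _
  let D := Y.basicOpen c
  let O := p ⁻¹ᵁ D
  letI : Algebra Γ(Y, ⊤) Γ(Y, D) := (Y.presheaf.map (homOfLE le_top).op).hom.toAlgebra
  haveI : IsLocalization.Away c Γ(Y, D) := (isAffineOpen_top Y).isLocalization_of_eq_basicOpen c (homOfLE le_top) rfl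
  letI : Algebra Γ(G.U, ⊤) Γ(G.U, O) := (G.U.presheaf.map (homOfLE le_top).op).hom.toAlgebra
  haveI : IsLocalization.Away a0 Γ(G.U, O) := (isAffineOpen_top G.U).isLocalization_of_eq_basicOpen a0 (homOfLE le_top) hO
  have hres : ∀ a, p.app D (algebraMap Γ(Y, ⊤) Γ(Y, D) a) = algebraMap Γ(G.U, ⊤) Γ(G.U, O) (p.appTop a) :=
    fun a => res_toQuot D a
  have hst : G.s.appTop a0 = G.t.appTop a0 := by
    show (p.appTop ≫ G.s.appTop).hom c = (p.appTop ≫ G.t.appTop).hom c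
    rw [← Scheme.Hom.comp_appTop, ← Scheme.Hom.comp_appTop, hp.w]
  refine ⟨?_, fun z hz => ?_⟩
  · rw [injective_iff_map_eq_zero]
    intro y hy
    obtain ⟨⟨y0, m⟩, hym⟩ := IsLocalization.surj (Submonoid.powers c) y
    have h0 : p.app D (algebraMap Γ(Y, ⊤) Γ(Y, D) y0) = 0 := by
      rw [← hym]
      exact (map_mul (p.app D).hom _ _).trans (mul_eq_zero_of_left hy _)
    rw [hres] at h0
    obtain ⟨⟨_, ⟨k, rfl⟩⟩, hk⟩ := (IsLocalization.map_eq_zero_iff (Submonoid.powers a0) _ _).1 h0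
    have : c ^ k * y0 = 0 := hp.inj (by rw [map_mul, map_pow, map_zero]; exact hk)
    have h1 : algebraMap Γ(Y, ⊤) Γ(Y, D) (c ^ k) * algebraMap Γ(Y, ⊤) Γ(Y, D) y0 = 0 := by rw [← map_mul, this, map_zero]
    have h2 : algebraMap Γ(Y, ⊤) Γ(Y, D) y0 = 0 :=
      (IsLocalization.map_units Γ(Y, D) (⟨c ^ k, k, rfl⟩ : Submonoid.powers c)).mul_right_eq_zero.1 h1
    rw [h2] at hym
    exact (IsLocalization.map_units Γ(Y, D) m).mul_left_eq_zero.1 hym
  · -- invariant sections come from the quotient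
    have hl : G.s ⁻¹ᵁ O ≤ G.t ⁻¹ᵁ O := by
      rw [← Scheme.Hom.comp_preimage, ← Scheme.Hom.comp_preimage, hp.w]
    have hsO : G.s ⁻¹ᵁ O = G.R.basicOpen (G.s.appTop a0) := by
      show G.s ⁻¹ᵁ (p ⁻¹ᵁ D) = _
      rw [hO]; exact Scheme.preimage_basicOpen_top _ _
    letI : Algebra Γ(G.R, ⊤) Γ(G.R, G.s ⁻¹ᵁ O) := (G.R.presheaf.map (homOfLE le_top).op).hom.toAlgebra
    haveI : IsLocalization.Away (G.s.appTop a0) Γ(G.R, G.s ⁻¹ᵁ O) :=
      (isAffineOpen_top G.R).isLocalization_of_eq_basicOpen _ (homOfLE le_top) hsO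
    obtain ⟨⟨a, ⟨_, n, rfl⟩⟩, han⟩ := IsLocalization.surj (Submonoid.powers a0) z
    have hsres : ∀ x, G.s.app O (algebraMap Γ(G.U, ⊤) Γ(G.U, O) x) = algebraMap Γ(G.R, ⊤) Γ(G.R, G.s ⁻¹ᵁ O) (G.s.appTop x) := fun x =>
      RingHom.congr_fun (congrArg CommRingCat.Hom.hom (G.s.naturality (homOfLE (le_top (a := O))).op)) x
    have htres : ∀ x, G.t.appLE O (G.s ⁻¹ᵁ O) hl (algebraMap Γ(G.U, ⊤) Γ(G.U, O) x) =
        algebraMap Γ(G.R, ⊤) Γ(G.R, G.s ⁻¹ᵁ O) (G.t.appTop x) := fun x => by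
      have h1 : G.U.presheaf.map (homOfLE le_top).op ≫ G.t.appLE O (G.s ⁻¹ᵁ O) hl =
          G.t.appTop ≫ G.R.presheaf.map (homOfLE le_top).op := by
        rw [Scheme.Hom.map_appLE, Scheme.Hom.appLE]
      exact RingHom.congr_fun (congrArg CommRingCat.Hom.hom h1) x
    have e1 := congrArg (G.s.app O).hom han
    have e2 := congrArg (G.t.appLE O (G.s ⁻¹ᵁ O) hl).hom han
    rw [map_mul] at e1 e2
    erw [hz hl] at e1
    rw [hsres, hsres, map_pow] at e1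
    rw [htres, htres, map_pow, ← hst] at e2
    obtain ⟨⟨_, ⟨k, rfl⟩⟩, hk⟩ := IsLocalization.exists_of_eq (M := Submonoid.powers (G.s.appTop a0)) (e1.symm.trans e2)
    obtain ⟨y0, hy0⟩ := hp.range (a0 ^ k * a) (by
      rw [map_mul, map_mul, map_pow, map_pow, ← hst]; exact hk)
    let y := IsLocalization.mk' Γ(Y, D) y0 (⟨c ^ (k + n), k + n, rfl⟩ : Submonoid.powers c)
    refine ⟨y, ?_⟩
    have hy : y * algebraMap Γ(Y, ⊤) Γ(Y, D) (c ^ (k + n)) = algebraMap Γ(Y, ⊤) Γ(Y, D) y0 := IsLocalization.mk'_spec _ _ _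
    have hy' := congrArg (p.app D).hom hy
    rw [map_mul] at hy'
    rw [hres, hres, map_pow] at hy'
    have hu : IsUnit (algebraMap Γ(G.U, ⊤) Γ(G.U, O) (a0 ^ (k + n))) :=
      IsLocalization.map_units Γ(G.U, O) (⟨a0 ^ (k + n), k + n, rfl⟩ : Submonoid.powers a0)
    apply hu.mul_left_injective
    refine hy'.trans ?_
    rw [hy0, map_mul, ← han, pow_add, map_mul]
    ring

theorem inj_toQuot (hp : AffQ G p) (V : Y.Opens) : Function.Injective (p.app V).hom := by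
  intro a b hab
  let I := {c : Γ(Y, ⊤) // Y.basicOpen c ≤ V}
  refine TopCat.Sheaf.eq_of_locally_eq' Y.sheaf (fun c : I => Y.basicOpen c.1) V (fun c => homOfLE c.2) ?_ a b fun c => ?_
  · intro y hy
    obtain ⟨c, hc, hyc⟩ := (isAffineOpen_top Y).exists_basicOpen_le ⟨y, hy⟩ trivial
    exact Opens.mem_iSup.2 ⟨⟨c, hc⟩, hyc⟩
  · apply (basic hp c.1).1
    have h1 := RingHom.congr_fun (congrArg CommRingCat.Hom.hom (p.naturality (homOfLE c.2).op)) a
    have h2 := RingHom.congr_fun (congrArg CommRingCat.Hom.hom (p.naturality (homOfLE c.2).op)) b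
    refine h1.trans (Eq.trans ?_ h2.symm)
    simp only [CommRingCat.hom_comp, RingHom.comp_apply]
    rw [hab]

theorem compat_of_w (hp : AffQ G p) : Compat G (𝟙 G.U) p := fun {T} a b r ha hb => by
  rw [Category.comp_id] at ha hb
  rw [ha, hb, Category.assoc, Category.assoc, hp.w]

set_option maxHeartbeats 1600000 in
theorem isQ_of_affQ (hp : AffQ G p) : IsQ G (𝟙 G.U) p := by
  haveI := hp.integral
  refine ⟨hp.integral, hp.surj, compat_of_w hp, fun x y => hp.orbit x y, inj_toQuot hp, fun V Z h hh => ?_⟩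
  let I := {c : Γ(Y, ⊤) // Y.basicOpen c ≤ V ∧ ∃ W : Z.Opens, IsAffineOpen W ∧ (p ⁻¹ᵁ V).ι ⁻¹ᵁ (p ⁻¹ᵁ Y.basicOpen c) ≤ h ⁻¹ᵁ W}
  have hcov : ∀ y : V.toScheme, ∃ c : I, y ∈ V.ι ⁻¹ᵁ Y.basicOpen c.1 := fun y => by
    obtain ⟨x, hx⟩ := hp.surj y.1
    have hxV : x ∈ p ⁻¹ᵁ V := show p x ∈ V from hx ▸ y.2
    obtain ⟨W, hW, hxW, -⟩ := exists_isAffineOpen_mem_and_subset (X := Z) (x := h ⟨x, hxV⟩) (U := ⊤) trivial
    have hC : IsClosed (p '' ((p ⁻¹ᵁ V).ι ''ᵁ (h ⁻¹ᵁ W) : Set G.U)ᶜ) := p.isClosedMap _ ((p ⁻¹ᵁ V).ι ''ᵁ (h ⁻¹ᵁ W)).2.isClosed_compl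
    have hy : y.1 ∉ p '' ((p ⁻¹ᵁ V).ι ''ᵁ (h ⁻¹ᵁ W) : Set G.U)ᶜ := by
      rintro ⟨x', hx', e⟩
      have hx'V : x' ∈ p ⁻¹ᵁ V := show p x' ∈ V from e ▸ y.2
      obtain ⟨r, hr1, hr2⟩ := (hp.orbit x' x).1 (e.trans hx.symm)
      let T := Spec (G.R.residueField r)
      let i := G.R.fromSpecResidueField r
      have hi : ∀ z, i z = r := fun z => Scheme.fromSpecResidueField_apply r z
      let a := IsOpenImmersion.lift (p ⁻¹ᵁ V).ι (i ≫ G.t) (by
        rw [Scheme.Opens.range_ι]; rintro _ ⟨z, rfl⟩; rw [Scheme.Hom.comp_apply, hi, hr1]; exact hx'V)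
      let b := IsOpenImmersion.lift (p ⁻¹ᵁ V).ι (i ≫ G.s) (by
        rw [Scheme.Opens.range_ι]; rintro _ ⟨z, rfl⟩; rw [Scheme.Hom.comp_apply, hi, hr2]; exact hxV)
      have hab := hh a b i (by rw [Category.comp_id]; exact IsOpenImmersion.lift_fac _ _ _)
        (by rw [Category.comp_id]; exact IsOpenImmersion.lift_fac _ _ _)
      have ha : a default = ⟨x', hx'V⟩ := (p ⁻¹ᵁ V).ι.isOpenEmbedding.injective (by
        rw [← Scheme.Hom.comp_apply, IsOpenImmersion.lift_fac, Scheme.Hom.comp_apply, hi, hr1]; rfl)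
      have hb : b default = ⟨x, hxV⟩ := (p ⁻¹ᵁ V).ι.isOpenEmbedding.injective (by
        rw [← Scheme.Hom.comp_apply, IsOpenImmersion.lift_fac, Scheme.Hom.comp_apply, hi, hr2]; rfl)
      refine hx' ⟨⟨x', hx'V⟩, ?_, rfl⟩
      show h ⟨x', hx'V⟩ ∈ W
      rw [← ha, ← Scheme.Hom.comp_apply, hab, Scheme.Hom.comp_apply, hb]
      exact hxW
    obtain ⟨c, hc, hyc⟩ := (isAffineOpen_top Y).exists_basicOpen_le (V := V ⊓ ⟨_, hC.isOpen_compl⟩) ⟨y.1, y.2, hy⟩ trivial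
    refine ⟨⟨c, fun z hz => (hc hz).1, W, hW, fun z hz => ?_⟩, hyc⟩
    by_contra hne
    exact (hc hz).2 ⟨z.1, fun ⟨z', hz', e⟩ => hne (by rwa [show z' = z from Subtype.ext e] at hz'), rfl⟩
  -- local descents
  have hloc : ∀ c : I, ∃ k : (Y.basicOpen c.1).toScheme ⟶ Z,
      (p ∣_ Y.basicOpen c.1) ≫ k = G.U.homOfLE (p.preimage_mono c.2.1) ≫ h := by
    intro c
    obtain ⟨W, hW, hle⟩ := c.2.2
    let D := Y.basicOpen c.1
    have hD : IsAffineOpen D := (isAffineOpen_top Y).basicOpen c.1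
    haveI : IsAffineHom p := inferInstance
    have hU := hD.preimage p
    let g := G.U.homOfLE (p.preimage_mono c.2.1) ≫ h
    have hgW : ∀ z, g z ∈ W := fun z => hle (x := G.U.homOfLE (p.preimage_mono c.2.1) z) (by
      show p ((p ⁻¹ᵁ V).ι (G.U.homOfLE _ z)) ∈ D
      rw [show (p ⁻¹ᵁ V).ι (G.U.homOfLE (p.preimage_mono c.2.1) z) = (p ⁻¹ᵁ D).ι z by
        rw [← Scheme.Hom.comp_apply, Scheme.homOfLE_ι]]
      exact z.2)
    let ψ := g.appLE W ⊤ (fun z _ => hgW z) ≫ (p ⁻¹ᵁ D).topIso.hom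
    have hl : G.s ⁻¹ᵁ (p ⁻¹ᵁ D) ≤ G.t ⁻¹ᵁ (p ⁻¹ᵁ D) := by
      rw [← Scheme.Hom.comp_preimage, ← Scheme.Hom.comp_preimage, hp.w]
    let T := (G.s ⁻¹ᵁ (p ⁻¹ᵁ D)).toScheme
    let b : T ⟶ (p ⁻¹ᵁ D).toScheme := G.s ∣_ (p ⁻¹ᵁ D)
    let a : T ⟶ (p ⁻¹ᵁ D).toScheme := G.t.resLE (p ⁻¹ᵁ D) (G.s ⁻¹ᵁ (p ⁻¹ᵁ D)) hl
    have hab : a ≫ g = b ≫ g := by
      have := hh (a ≫ G.U.homOfLE (p.preimage_mono c.2.1)) (b ≫ G.U.homOfLE (p.preimage_mono c.2.1)) (G.s ⁻¹ᵁ (p ⁻¹ᵁ D)).ι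
        (by rw [Category.comp_id, Category.assoc, Scheme.homOfLE_ι, Scheme.Hom.resLE_comp_ι])
        (by rw [Category.comp_id, Category.assoc, Scheme.homOfLE_ι, morphismRestrict_ι])
      simpa [g, Category.assoc] using this
    have hψ : ∀ w, G.s.app (p ⁻¹ᵁ D) (ψ w) = G.t.appLE (p ⁻¹ᵁ D) (G.s ⁻¹ᵁ (p ⁻¹ᵁ D)) hl (ψ w) := fun w => by
      have h1 := H6.Quot.appLE_congr_hom hab W ⊤ (fun z _ => hgW (a z)) (fun z _ => hgW (b z))
      rw [← Scheme.Hom.appLE_comp_appLE a g W ⊤ ⊤ (fun z _ => hgW z) le_top,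
        ← Scheme.Hom.appLE_comp_appLE b g W ⊤ ⊤ (fun z _ => hgW z) le_top] at h1
      have ha' : a.appLE ⊤ ⊤ le_top ≫ (G.s ⁻¹ᵁ (p ⁻¹ᵁ D)).topIso.hom = (p ⁻¹ᵁ D).topIso.hom ≫ G.t.appLE (p ⁻¹ᵁ D) (G.s ⁻¹ᵁ (p ⁻¹ᵁ D)) hl := by
        simp [a, Scheme.Hom.resLE_appLE, Scheme.Opens.topIso, Scheme.Hom.appLE_map, Scheme.Hom.map_appLE]
      have hb' : b.appLE ⊤ ⊤ le_top ≫ (G.s ⁻¹ᵁ (p ⁻¹ᵁ D)).topIso.hom = (p ⁻¹ᵁ D).topIso.hom ≫ G.s.app (p ⁻¹ᵁ D) := by
        simp only [b]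
        rw [← Scheme.Hom.resLE_eq_morphismRestrict, Scheme.Hom.resLE_appLE, Scheme.Hom.app_eq_appLE]
        simp [Scheme.Opens.topIso, Scheme.Hom.appLE_map, Scheme.Hom.map_appLE]
      have h2 := congrArg (fun m => (m ≫ (G.s ⁻¹ᵁ (p ⁻¹ᵁ D)).topIso.hom).hom w) h1
      simp only [Category.assoc, ha', hb'] at h2
      exact h2.symm
    choose φ hφ using fun w => (basic hp c.1).2 (ψ w) (fun _ => hψ w)
    have hinj := (basic hp c.1).1
    let φ' : Γ(Z, W) →+* Γ(Y, D) :=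
      { toFun := φ
        map_one' := hinj (by rw [hφ]; exact (map_one ψ.hom).trans (map_one (p.app D).hom).symm)
        map_mul' := fun x y => hinj (by rw [hφ]; refine (map_mul ψ.hom x y).trans (Eq.trans ?_ (map_mul (p.app D).hom _ _).symm); rw [hφ, hφ])
        map_zero' := hinj (by rw [hφ]; exact (map_zero ψ.hom).trans (map_zero (p.app D).hom).symm)
        map_add' := fun x y => hinj (by rw [hφ]; refine (map_add ψ.hom x y).trans (Eq.trans ?_ (map_add (p.app D).hom _ _).symm); rw [hφ, hφ]) }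
    refine ⟨hD.isoSpec.hom ≫ Spec.map (CommRingCat.ofHom φ') ≫ hW.fromSpec, ?_⟩
    have h1 : (p ∣_ D) ≫ hD.isoSpec.hom = hU.isoSpec.hom ≫ Spec.map (p.app D) := by
      rw [← cancel_mono hD.fromSpec, Category.assoc, Category.assoc, IsAffineOpen.isoSpec_hom_fromSpec, Scheme.Hom.app_eq_appLE,
        IsAffineOpen.SpecMap_appLE_fromSpec p hD hU, reassoc_of% (IsAffineOpen.isoSpec_hom_fromSpec hU), morphismRestrict_ι]
    have h2 : CommRingCat.ofHom φ' ≫ p.app D = ψ := by ext w; exact hφ w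
    rw [reassoc_of% h1, ← Spec.map_comp_assoc, h2]
    show hU.isoSpec.hom ≫ Spec.map ψ ≫ hW.fromSpec = g
    haveI : IsAffine (p ⁻¹ᵁ D).toScheme := hU
    rw [Spec.map_comp, Category.assoc, IsAffineOpen.SpecMap_appLE_fromSpec g hW (isAffineOpen_top _),
      IsAffineOpen.isoSpec_hom, IsAffineOpen.fromSpec_top]
    simp only [Scheme.Opens.toSpecΓ, Category.assoc]
    rw [← Spec.map_comp_assoc]
    simp [Scheme.isoSpec_hom]
    erw [Spec.map_id, Category.id_comp, ← Category.assoc]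
    rw [← Scheme.isoSpec_hom, Iso.hom_inv_id, Category.id_comp]
  choose k hk using hloc
  let f : ∀ c : I, (V.ι ⁻¹ᵁ Y.basicOpen c.1).toScheme ⟶ Z := fun c =>
    IsOpenImmersion.lift (Y.basicOpen c.1).ι ((V.ι ⁻¹ᵁ Y.basicOpen c.1).ι ≫ V.ι) (by
      rw [Scheme.Opens.range_ι]; rintro _ ⟨z, rfl⟩; exact z.2) ≫ k c
  have hker : ∀ c c' : I, Y.basicOpen c.1 ≤ Y.basicOpen c'.1 → ∀ (e : Y.basicOpen c.1 ≤ Y.basicOpen c'.1), Y.homOfLE e ≫ k c' = k c := fun c c' _ e => by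
    refine restrict_hom_ext hp.surj (inj_toQuot hp) _ ?_
    rw [hk c]
    have he : (p ∣_ Y.basicOpen c.1) ≫ Y.homOfLE e = G.U.homOfLE (p.preimage_mono e) ≫ (p ∣_ Y.basicOpen c'.1) := by
      rw [← cancel_mono (Y.basicOpen c'.1).ι]
      simp only [Category.assoc, Scheme.homOfLE_ι, morphismRestrict_ι, Scheme.homOfLE_ι_assoc]
    rw [reassoc_of% he, hk c', Scheme.homOfLE_homOfLE_assoc]
  obtain ⟨g, hg⟩ := H6.UnivThick.exists_glue (fun c : I => V.ι ⁻¹ᵁ Y.basicOpen c.1) hcov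
    (fun c c' => Y.basicOpen c.1 ≤ Y.basicOpen c'.1) (fun c c' e => V.ι.preimage_mono e) (fun c c' y hy hy' => by
      refine ⟨⟨c.1 * c'.1, by rw [Scheme.basicOpen_mul]; exact inf_le_left.trans c.2.1, ?_⟩, ?_, ?_, ?_⟩
      · obtain ⟨W, hW, hle⟩ := c.2.2
        exact ⟨W, hW, (Scheme.Hom.preimage_mono _ (p.preimage_mono (by rw [Scheme.basicOpen_mul]; exact inf_le_left))).trans hle⟩
      · rw [Scheme.basicOpen_mul]; exact inf_le_left
      · rw [Scheme.basicOpen_mul]; exact inf_le_right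
      · show _ ∈ Y.basicOpen (c.1 * c'.1)
        rw [Scheme.basicOpen_mul]; exact ⟨hy, hy'⟩) f (fun c c' e => by
      simp only [f]
      rw [← hker c c' e e, ← Category.assoc, ← Category.assoc]
      congr 1
      rw [← cancel_mono (Y.basicOpen c'.1).ι]
      simp only [Category.assoc, Scheme.homOfLE_ι, IsOpenImmersion.lift_fac, Scheme.homOfLE_ι_assoc])
  refine ⟨g, Scheme.hom_ext_of_forall _ _ fun x => ?_⟩
  obtain ⟨c, hc⟩ := hcov ((p ∣_ V) x)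
  let O := (p ⁻¹ᵁ V).ι ⁻¹ᵁ (p ⁻¹ᵁ Y.basicOpen c.1)
  refine ⟨O, ?_, ?_⟩
  · show p ((p ⁻¹ᵁ V).ι x) ∈ Y.basicOpen c.1
    rw [← Scheme.Hom.comp_apply, ← morphismRestrict_ι, Scheme.Hom.comp_apply]
    exact hc
  · let l : O.toScheme ⟶ (p ⁻¹ᵁ Y.basicOpen c.1).toScheme := IsOpenImmersion.lift (p ⁻¹ᵁ Y.basicOpen c.1).ι (O.ι ≫ (p ⁻¹ᵁ V).ι) (by
      rw [Scheme.Opens.range_ι]; rintro _ ⟨z, rfl⟩; exact z.2)
    let l' : O.toScheme ⟶ (V.ι ⁻¹ᵁ Y.basicOpen c.1).toScheme := IsOpenImmersion.lift (V.ι ⁻¹ᵁ Y.basicOpen c.1).ι (O.ι ≫ (p ∣_ V)) (by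
      rw [Scheme.Opens.range_ι]; rintro _ ⟨z, rfl⟩
      show V.ι ((p ∣_ V) (O.ι z)) ∈ Y.basicOpen c.1
      rw [← Scheme.Hom.comp_apply, morphismRestrict_ι]
      exact z.2)
    have hl' : O.ι ≫ (p ∣_ V) = l' ≫ (V.ι ⁻¹ᵁ Y.basicOpen c.1).ι := (IsOpenImmersion.lift_fac _ _ _).symm
    rw [reassoc_of% hl', hg c]
    have h3 : l' ≫ IsOpenImmersion.lift (Y.basicOpen c.1).ι ((V.ι ⁻¹ᵁ Y.basicOpen c.1).ι ≫ V.ι) (by
      rw [Scheme.Opens.range_ι]; rintro _ ⟨z, rfl⟩; exact z.2) = l ≫ (p ∣_ Y.basicOpen c.1) := by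
      rw [← cancel_mono (Y.basicOpen c.1).ι]
      simp only [Category.assoc, IsOpenImmersion.lift_fac, morphismRestrict_ι, l, IsOpenImmersion.lift_fac_assoc]
      rw [← Category.assoc, ← hl', Category.assoc, morphismRestrict_ι]
    rw [show f c = _ from rfl, reassoc_of% h3, hk c, ← Category.assoc]
    congr 1
    rw [← cancel_mono (p ⁻¹ᵁ V).ι]
    simp only [Category.assoc, Scheme.homOfLE_ι, l, IsOpenImmersion.lift_fac]

end AffineGen

theorem affQ_toQuot [IsAffine G.U] [IsAffine G.R] [IsFinite G.s] [Flat G.s] [LocallyOfFinitePresentation G.s] : AffQ G G.toQuot := by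
  have hI := H9GrpdIntegral.isIntegral_invariants G
  haveI : IsIntegralHom (Spec.map (CommRingCat.ofHom G.invariants.subtype)) := IsIntegralHom.SpecMap_iff.2 hI.isIntegral
  haveI : IsIso G.U.toSpecΓ := IsAffine.affine
  exact ⟨H9GrpdQuot.s_toQuot G, injective_appTop, exists_preimage_top,
    MorphismProperty.comp_mem _ G.U.toSpecΓ _ inferInstance inferInstance,
    (H9GrpdQuot.toQuot_fibres G).1.1, (H9GrpdQuot.toQuot_fibres G).1.2⟩


end Groth.Agent.H9GrpdCoeq
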