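import Groth.Agent.Lib.H9SemilocalBasis
import Mathlib

/-! Flatness over the invariants for a finite locally free equivalence relation (ring level). -/

set_option autoImplicit false
set_option backward.isDefEq.respectTransparency.types false
set_option backward.isDefEq.respectTransparency false

universe u

open Polynomial
open scoped TensorProduct

namespace Groth.Agent.H9GrpdFlat

theorem finite_max {C : Type u} [CommRing C] (p : Ideal C) [p.IsMaximal] [(p.map (Polynomial.C : C →+* C[X])).IsPrime]
    (C' : Type u) [CommRing C'] [IsLocalRing C'] [Algebra C C'] [Algebra C[X] C'] [IsScalarTower C C[X] C']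
    [IsLocalization.AtPrime C' (p.map (Polynomial.C : C →+* C[X]))] (A : Type u) [CommRing A] [Algebra C A] [Algebra.IsIntegral C A]
    (hfin : {q : PrimeSpectrum A | q.asIdeal.comap (algebraMap C A) = p}.Finite) : Finite (MaximalSpectrum (C' ⊗[C] A)) := by
  let q : Ideal C[X] := p.map (Polynomial.C : C →+* C[X])
  have hmem : ∀ f : C[X], algebraMap C[X] C' f ∈ IsLocalRing.maximalIdeal C' ↔ f ∈ q := fun f =>
    IsLocalization.AtPrime.to_map_mem_maximal_iff C' q f
  haveI := hfin.to_subtype
  let iC : C' →ₐ[C] C' ⊗[C] A := Algebra.TensorProduct.includeLeft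
  let iA : A →ₐ[C] C' ⊗[C] A := Algebra.TensorProduct.includeRight
  let ι : A[X] →+* C' ⊗[C] A := Polynomial.eval₂RingHom iA.toRingHom (iC (algebraMap C[X] C' X))
  have hι : ∀ f : C[X], ι (f.map (algebraMap C A)) = iC (algebraMap C[X] C' f) := by
    have : ι.comp (Polynomial.mapRingHom (algebraMap C A)) = iC.toRingHom.comp (algebraMap C[X] C') := by
      apply Polynomial.ringHom_ext
      · intro c
        show ι ((Polynomial.C c).map (algebraMap C A)) = iC (algebraMap C[X] C' (algebraMap C C[X] c))
        rw [← IsScalarTower.algebraMap_apply, iC.commutes, Polynomial.map_C]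
        exact (Polynomial.eval₂_C _ _).trans (iA.commutes c)
      · simp [ι]
    exact fun f => RingHom.congr_fun this f
  have hint : (Polynomial.mapRingHom (algebraMap C A)).IsIntegral := by
    intro f
    induction f using Polynomial.induction_on' with
    | add f g hf hg => exact hf.add _ hg
    | monomial n a =>
      rw [← Polynomial.C_mul_X_pow_eq_monomial]
      refine RingHom.IsIntegralElem.mul _ ?_ ?_
      · obtain ⟨g, hgm, hg⟩ := Algebra.IsIntegral.isIntegral (R := C) a
        refine ⟨g.map Polynomial.C, hgm.map _, ?_⟩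
        rw [Polynomial.eval₂_map, show (Polynomial.mapRingHom (algebraMap C A)).comp Polynomial.C = (Polynomial.C).comp (algebraMap C A) from
          RingHom.ext fun c => by simp, ← Polynomial.hom_eval₂, hg, map_zero]
      · rw [show (X : A[X]) ^ n = Polynomial.mapRingHom (algebraMap C A) (X ^ n) by simp]
        exact RingHom.isIntegralElem_map _
  have hint' : Algebra.IsIntegral C' (C' ⊗[C] A) := inferInstance
  -- contraction of a maximal ideal
  have hover : ∀ M : MaximalSpectrum (C' ⊗[C] A), M.asIdeal.comap iC = IsLocalRing.maximalIdeal C' := fun M => by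
    haveI := M.isMaximal
    exact (show M.asIdeal.comap (algebraMap C' (C' ⊗[C] A)) = _ from
      IsLocalRing.eq_maximalIdeal (Ideal.isMaximal_comap_of_isIntegral_of_isMaximal (R := C') M.asIdeal))
  have hA : ∀ M : MaximalSpectrum (C' ⊗[C] A), (M.asIdeal.comap iA).comap (algebraMap C A) = p := fun M => by
    haveI := M.isMaximal
    refine (Ideal.IsMaximal.eq_of_le ‹p.IsMaximal› (Ideal.IsPrime.comap _ : Ideal.IsPrime _).ne_top ?_).symm
    intro x hx
    simp only [Ideal.mem_comap, iA.commutes]
    have : algebraMap C C' x ∈ IsLocalRing.maximalIdeal C' := by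
      rw [IsScalarTower.algebraMap_apply C C[X] C', hmem]
      exact Ideal.mem_map_of_mem _ hx
    rw [← hover M, Ideal.mem_comap, iC.commutes] at this
    exact this
  refine Finite.of_injective (β := ↥{q : PrimeSpectrum A | q.asIdeal.comap (algebraMap C A) = p})
    (fun M => ⟨⟨M.asIdeal.comap iA, haveI := M.isMaximal; Ideal.IsPrime.comap _⟩, hA M⟩) fun M N hMN => ?_
  have hMN' : M.asIdeal.comap iA = N.asIdeal.comap iA := congrArg (fun t => t.1.asIdeal) hMN
  -- in `A[X]` the contraction is determined by that to `A`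
  have key : ∀ M : MaximalSpectrum (C' ⊗[C] A), M.asIdeal.comap ι = (M.asIdeal.comap iA).map (Polynomial.C : A →+* A[X]) := fun M => by
    haveI := M.isMaximal
    haveI : (M.asIdeal.comap iA).IsPrime := Ideal.IsPrime.comap _
    haveI : ((M.asIdeal.comap iA).map (Polynomial.C : A →+* A[X])).IsPrime := Ideal.isPrime_map_C_of_isPrime
    have hle : (M.asIdeal.comap iA).map (Polynomial.C : A →+* A[X]) ≤ M.asIdeal.comap ι := by
      rw [Ideal.map_le_iff_le_comap]
      intro a ha
      show ι (Polynomial.C a) ∈ M.asIdeal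
      rw [show ι (Polynomial.C a) = iA a by simp [ι]]
      exact ha
    refine (le_antisymm hle ?_).symm
    letI := (Polynomial.mapRingHom (algebraMap C A)).toAlgebra
    haveI : Algebra.IsIntegral C[X] A[X] := ⟨hint⟩
    by_contra hnle
    obtain ⟨z, hz, hzn⟩ := SetLike.not_le_iff_exists.1 hnle
    have hlt := Ideal.comap_lt_comap_of_integral_mem_sdiff hle ⟨hz, hzn⟩ (Algebra.IsIntegral.isIntegral (R := C[X]) z)
    refine lt_irrefl q (lt_of_le_of_lt (le_of_eq ?_) (lt_of_lt_of_le hlt (le_of_eq ?_)))
    · ext f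
      simp only [Ideal.mem_comap, RingHom.algebraMap_toAlgebra, Polynomial.coe_mapRingHom, Ideal.mem_map_C_iff, Polynomial.coeff_map, q, ← hA M]
    · ext f
      simp only [Ideal.mem_comap, RingHom.algebraMap_toAlgebra, Polynomial.coe_mapRingHom]
      rw [← hmem, hι, ← hover M]
      rfl
  -- fractions
  have hfrac : ∀ z : C' ⊗[C] A, ∃ (w : q.primeCompl) (g : A[X]), iC (algebraMap C[X] C' w) * z = ι g := fun z => by
    induction z with
    | zero => exact ⟨1, 0, by simp⟩
    | tmul c a =>
      obtain ⟨⟨f, w⟩, hfw⟩ := IsLocalization.surj q.primeCompl c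
      refine ⟨w, f.map (algebraMap C A) * Polynomial.C a, ?_⟩
      rw [map_mul, hι, show ι (Polynomial.C a) = iA a by simp [ι], ← hfw]
      simp [iC, iA, mul_comm]
    | add y z hy hz =>
      obtain ⟨w, g, hg⟩ := hy
      obtain ⟨w', g', hg'⟩ := hz
      refine ⟨w * w', (w' : C[X]).map (algebraMap C A) * g + (w : C[X]).map (algebraMap C A) * g', ?_⟩
      rw [map_add, map_mul, map_mul, hι, hι, ← hg, ← hg', Submonoid.coe_mul, map_mul, map_mul]
      ring
  have hsub : ∀ M N : MaximalSpectrum (C' ⊗[C] A), M.asIdeal.comap iA = N.asIdeal.comap iA → M.asIdeal ≤ N.asIdeal := fun M N h z hz => by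
    haveI := N.isMaximal
    obtain ⟨w, g, hg⟩ := hfrac z
    have hgM : g ∈ M.asIdeal.comap ι := by
      rw [Ideal.mem_comap, ← hg]; exact M.asIdeal.mul_mem_left _ hz
    rw [key, h, ← key, Ideal.mem_comap, ← hg] at hgM
    refine ((‹N.asIdeal.IsMaximal›.isPrime.mem_or_mem hgM).resolve_left fun hw => w.2 ?_)
    rw [← Ideal.mem_comap, hover, hmem] at hw
    exact hw
  exact MaximalSpectrum.ext (le_antisymm (hsub M N hMN') (hsub N M hMN'.symm))

/-- residual base change with infinite residue field -/
theorem exists_ext {C : Type u} [CommRing C] (p : Ideal C) [p.IsMaximal] :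
    ∃ (C' : Type u) (_ : CommRing C') (_ : Algebra C C') (_ : IsLocalRing C'),
      Module.Flat C C' ∧ Infinite (IsLocalRing.ResidueField C') ∧ p.map (algebraMap C C') ≤ IsLocalRing.maximalIdeal C' ∧
      ∀ (A : Type u) [CommRing A] [Algebra C A] [Algebra.IsIntegral C A],
        {q : PrimeSpectrum A | q.asIdeal.comap (algebraMap C A) = p}.Finite → Finite (MaximalSpectrum (C' ⊗[C] A)) := by
  let q : Ideal C[X] := p.map Polynomial.C
  haveI hq : q.IsPrime := by
    haveI := ‹p.IsMaximal›.isPrime
    exact Ideal.isPrime_map_C_of_isPrime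
  let C' := Localization.AtPrime q
  haveI : Module.Flat C[X] C' := IsLocalization.flat C' q.primeCompl
  haveI : Module.Flat C C' := Module.Flat.trans C C[X] C'
  have hmem : ∀ f : C[X], algebraMap C[X] C' f ∈ IsLocalRing.maximalIdeal C' ↔ f ∈ q := fun f =>
    IsLocalization.AtPrime.to_map_mem_maximal_iff C' q f
  refine ⟨C', inferInstance, inferInstance, inferInstance, inferInstance, ?_, ?_, ?_⟩
  · refine Infinite.of_injective (fun n : ℕ => IsLocalRing.residue C' (algebraMap C[X] C' (X ^ n))) fun m n h => ?_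
    by_contra hne
    have hd : (X ^ m - X ^ n : C[X]) ∈ q := by
      rw [← hmem, map_sub]
      exact Ideal.Quotient.eq.1 h
    have := Ideal.mem_map_C_iff.1 hd m
    rw [coeff_sub, coeff_X_pow, coeff_X_pow, if_pos rfl, if_neg hne, sub_zero] at this
    exact ‹p.IsMaximal›.ne_top ((Ideal.eq_top_iff_one _).2 this)
  · rw [Ideal.map_le_iff_le_comap]
    intro x hx
    rw [Ideal.mem_comap, IsScalarTower.algebraMap_apply C C[X] C', hmem]
    exact Ideal.mem_map_of_mem _ hx
  · intro A _ _ _ hfin
    exact finite_max p C' A hfin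

/-- the data of an affine finite locally free equivalence relation over its invariants -/
structure Data (C A B P : Type u) [CommRing C] [CommRing A] [CommRing B] [CommRing P]
    [Algebra C A] [Algebra C B] [Algebra C P] [Algebra A B] [IsScalarTower C A B] where
  t : A →ₐ[C] B
  p1 : B →ₐ[C] P
  p2 : B →ₐ[C] P
  c : B →ₐ[C] P
  e : B →ₐ[C] A
  es : ∀ a, e (algebraMap A B a) = a
  et : ∀ a, e (t a) = a
  p1s : ∀ a, p1 (algebraMap A B a) = p2 (t a)
  cs : ∀ a, c (algebraMap A B a) = p2 (algebraMap A B a)
  ct : ∀ a, c (t a) = p1 (t a)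
  inj : Function.Injective (algebraMap C A)
  inv : ∀ a, algebraMap A B a = t a → a ∈ Set.range (algebraMap C A)
  push : CategoryTheory.IsPushout (CommRingCat.ofHom t.toRingHom) (CommRingCat.ofHom (algebraMap A B))
    (CommRingCat.ofHom p2.toRingHom) (CommRingCat.ofHom p1.toRingHom)
  span : Submodule.span A (Set.range t) = ⊤
  fin : ∀ p : Ideal C, p.IsMaximal → {q : PrimeSpectrum A | q.asIdeal.comap (algebraMap C A) = p}.Finite
  rk : ∀ q q' : PrimeSpectrum A, q.asIdeal.comap (algebraMap C A) = q'.asIdeal.comap (algebraMap C A) →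
    Module.rankAtStalk (R := A) B q = Module.rankAtStalk (R := A) B q'

variable {C A B P : Type u} [CommRing C] [CommRing A] [CommRing B] [CommRing P]
    [Algebra C A] [Algebra C B] [Algebra C P] [Algebra A B] [IsScalarTower C A B]

theorem eq_zero_of_local {N : Type u} [AddCommGroup N] [Module C N] (x : N)
    (h : ∀ (p : Ideal C), p.IsMaximal → ∀ (C' : Type u) (_ : CommRing C') (_ : Algebra C C') (_ : IsLocalRing C'),
      Module.Flat C C' → p.map (algebraMap C C') ≤ IsLocalRing.maximalIdeal C' → Infinite (IsLocalRing.ResidueField C') →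
      (∀ (A : Type u) [CommRing A] [Algebra C A] [Algebra.IsIntegral C A],
        {q : PrimeSpectrum A | q.asIdeal.comap (algebraMap C A) = p}.Finite → Finite (MaximalSpectrum (C' ⊗[C] A))) →
      (1 : C') ⊗ₜ[C] x = 0) : x = 0 := by
  by_contra hx
  let J : Ideal C := LinearMap.ker (LinearMap.toSpanSingleton C N x)
  have hJ : J ≠ ⊤ := fun hJ => hx (by
    have : (1 : C) ∈ J := hJ ▸ Submodule.mem_top
    simpa [J] using this)
  obtain ⟨p, hp, hJp⟩ := Ideal.exists_le_maximal J hJ
  obtain ⟨C', _, _, _, hflat, hinf, hpm, hfin⟩ := exists_ext p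
  haveI := hflat
  have h0 := h p hp C' _ _ _ hflat hpm hinf hfin
  have hex := Module.Flat.lTensor_exact C' (LinearMap.exact_subtype_ker_map (LinearMap.toSpanSingleton C N x))
  obtain ⟨y, hy⟩ := (hex ((1 : C') ⊗ₜ[C] (1 : C))).1 (by simpa using h0)
  have hmem : ∀ y : C' ⊗[C] J, (TensorProduct.rid C C') (LinearMap.lTensor C' J.subtype y) ∈ IsLocalRing.maximalIdeal C' := fun y => by
    induction y with
    | zero => simp
    | tmul c j =>
      simp only [LinearMap.lTensor_tmul, TensorProduct.rid_tmul, Submodule.subtype_apply, Algebra.smul_def]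
      exact Ideal.mul_mem_right _ _ (hpm (Ideal.mem_map_of_mem _ (hJp j.2)))
    | add a b ha hb => rw [map_add, map_add]; exact add_mem ha hb
  have := hmem y
  rw [hy, TensorProduct.rid_tmul, one_smul] at this
  exact (IsLocalRing.maximalIdeal.isMaximal C').ne_top ((Ideal.eq_top_iff_one _).2 this)

/-- lift a semilinear map to a pushout -/
theorem exists_lift_pushout {A B C P : CommRingCat.{u}} (g : A ⟶ B) (f : A ⟶ C) (inr : B ⟶ P) (inl : C ⟶ P)
    (h : CategoryTheory.IsPushout f g inl inr) {R : Type u} [CommRing R] {n : ℕ} (j : C →+* R) (l : B → Fin n → R)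
    (hadd : ∀ y y', l (y + y') = l y + l y') (hsm : ∀ a y, l (g.hom a * y) = fun i => j (f.hom a) * l y i) :
    letI := inl.hom.toAlgebra; letI := j.toAlgebra
    ∃ L : P →ₗ[C] (Fin n → R), ∀ y, L (inr.hom y) = l y := by
  letI := f.hom.toAlgebra; letI := g.hom.toAlgebra; letI := inl.hom.toAlgebra; letI := inr.hom.toAlgebra
  letI : Algebra A P := (inl.hom.comp f.hom).toAlgebra
  haveI : IsScalarTower A C P := .of_algebraMap_eq' rfl
  haveI : IsScalarTower A B P := .of_algebraMap_eq' <| congr($(h.1.1).hom)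
  haveI : Algebra.IsPushout A C B P := CommRingCat.isPushout_iff_isPushout.mp h
  letI := j.toAlgebra
  letI : Algebra A R := (j.comp f.hom).toAlgebra
  haveI : IsScalarTower A C R := .of_algebraMap_eq' rfl
  let ll : B →ₗ[A] (Fin n → R) :=
    { toFun := l
      map_add' := hadd
      map_smul' := fun a y => by
        funext i
        show l (g.hom a * y) i = j (f.hom a) * l y i
        rw [hsm] }
  have hb := Algebra.IsPushout.out (R := A) (S := C) (R' := B) (S' := P)
  exact ⟨hb.lift ll, fun y => hb.lift_eq ll y⟩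

section Local

variable [Module.Finite A B] [Module.Flat A B] [Algebra.IsIntegral C A] (D : Data C A B P)
  (C' : Type u) [CommRing C'] [Algebra C C'] [IsLocalRing C'] [Module.Flat C C'] [Infinite (IsLocalRing.ResidueField C')]

local notation "A'" => C' ⊗[C] A
local notation "B'" => C' ⊗[C] B

/-- source, base changed -/
noncomputable def sX : A' →ₐ[C'] B' := Algebra.TensorProduct.map (AlgHom.id C' C') (IsScalarTower.toAlgHom C A B)
/-- target, base changed -/
noncomputable def tX : A' →ₐ[C'] B' := Algebra.TensorProduct.map (AlgHom.id C' C') D.t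

/-- Over the extension, `Γ(U)` has a basis inside any submodule whose image spans. -/
theorem exists_basis {p : Ideal C} [p.IsMaximal] (hpm : p.map (algebraMap C C') ≤ IsLocalRing.maximalIdeal C')
    (hfinM : Finite (MaximalSpectrum A')) (N : Submodule C' A')
    (hN : ∀ b : B, ∃ l : A' →₀ A', (∀ x ∈ l.support, x ∈ N) ∧ (l.sum fun x a => sX C' a * tX D C' x) = (1 : C') ⊗ₜ[C] b) :
    ∃ (r : ℕ) (x : Fin r → A'), (∀ i, x i ∈ N) ∧
      (∀ f : A', ∃ c : Fin r → C', f = ∑ i, c i • x i) ∧
      (∀ a : Fin r → A', (∑ i, sX C' (a i) * tX D C' (x i)) = 0 → a = 0) := by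
  letI := (sX (C := C) (A := A) (B := B) C').toRingHom.toAlgebra
  haveI : IsScalarTower C' A' B' := .of_algebraMap_eq fun c => ((sX (C := C) (A := A) (B := B) C').commutes c).symm
  letI : Algebra A A' := Algebra.TensorProduct.rightAlgebra
  -- `B'` is the base change of `B`
  let jB : B →ₐ[C] B' := Algebra.TensorProduct.includeRight
  letI : Module A B' := Module.compHom _ (algebraMap A A')
  haveI : IsScalarTower A A' B' := .of_compHom _ _ _
  let jl : B →ₗ[A] B' :=
    { toFun := fun b => jB b
      map_add' := map_add jB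
      map_smul' := fun a b => by
        show jB (a • b) = sX C' (algebraMap A A' a) * jB b
        rw [Algebra.smul_def, map_mul]
        simp [jB, sX, Algebra.TensorProduct.right_algebraMap_apply] }
  let bc : A' ⊗[A] B →ₗ[A'] B' := jl.liftBaseChange A'
  have hbc : Function.Bijective bc := by
    let f : B' →ₗ[C] A' ⊗[A] B := TensorProduct.lift
      (LinearMap.mk₂ C (fun c b => ((c ⊗ₜ[C] (1 : A)) : A') ⊗ₜ[A] b)
        (fun c c' b => by rw [TensorProduct.add_tmul, TensorProduct.add_tmul])
        (fun d c b => by simp [TensorProduct.smul_tmul'])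
        (fun c b b' => TensorProduct.tmul_add _ _ _)
        (fun d c b => by
          rw [← IsScalarTower.algebraMap_smul A d b, ← TensorProduct.smul_tmul, TensorProduct.smul_tmul' d]
          congr 1
          rw [Algebra.smul_def, Algebra.TensorProduct.right_algebraMap_apply]
          simp [TensorProduct.smul_tmul', Algebra.TensorProduct.tmul_mul_tmul, Algebra.algebraMap_eq_smul_one]))
    refine ⟨Function.LeftInverse.injective (g := f) fun z => ?_, Function.RightInverse.surjective (g := f) fun z => ?_⟩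
    · induction z with
      | zero => simp
      | add y z hy hz => simp only [map_add, hy, hz]
      | tmul x b =>
        induction x with
        | zero => simp
        | add y z hy hz => simp only [TensorProduct.add_tmul, map_add, hy, hz]
        | tmul c a =>
          have e1 : bc ((c ⊗ₜ[C] a : A') ⊗ₜ[A] b) = c ⊗ₜ[C] (a • b) := by
            rw [LinearMap.liftBaseChange_tmul]
            show sX C' (c ⊗ₜ[C] a) * ((1 : C') ⊗ₜ[C] b) = _
            simp [sX, Algebra.smul_def]
          rw [e1]
          show ((c ⊗ₜ[C] (1 : A)) : A') ⊗ₜ[A] (a • b) = _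
          rw [← TensorProduct.smul_tmul, Algebra.smul_def, Algebra.TensorProduct.right_algebraMap_apply]
          simp [Algebra.TensorProduct.tmul_mul_tmul]
    · induction z with
      | zero => simp
      | add y z hy hz => simp only [map_add, hy, hz]
      | tmul c b =>
        show bc (((c ⊗ₜ[C] (1 : A)) : A') ⊗ₜ[A] b) = _
        rw [LinearMap.liftBaseChange_tmul]
        show sX C' (c ⊗ₜ[C] 1) * ((1 : C') ⊗ₜ[C] b) = _
        simp [sX]
  let E := LinearEquiv.ofBijective bc hbc
  haveI : Module.Finite A' B' := Module.Finite.equiv E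
  haveI : Module.Flat A' B' := Module.Flat.of_linearEquiv E.symm
  have hint : Algebra.IsIntegral C' A' := inferInstance
  have hjac : (IsLocalRing.maximalIdeal C').map (algebraMap C' A') ≤ (⊥ : Ideal A').jacobson := by
    refine le_sInf fun M hM => ?_
    haveI := hM.2
    rw [Ideal.map_le_iff_le_comap]
    exact (IsLocalRing.eq_maximalIdeal (Ideal.isMaximal_comap_of_isIntegral_of_isMaximal M)).ge
  -- the rank is constant on maximal ideals
  have hrk : ∀ Q : MaximalSpectrum A',
      Module.finrank (A' ⧸ Q.asIdeal) ((A' ⧸ Q.asIdeal) ⊗[A'] B') =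
        Module.rankAtStalk (R := A) B ⟨Q.asIdeal.comap (algebraMap A A'), haveI := Q.isMaximal; Ideal.IsPrime.comap _⟩ := fun Q => by
    haveI := Q.isMaximal
    letI : Field (A' ⧸ Q.asIdeal) := Ideal.Quotient.field _
    let z : PrimeSpectrum (A' ⧸ Q.asIdeal) := ⟨⊥, Ideal.isPrime_bot⟩
    have hh : Module.finrank (A' ⧸ Q.asIdeal) ((A' ⧸ Q.asIdeal) ⊗[A'] B') =
        Module.rankAtStalk (R := A' ⧸ Q.asIdeal) ((A' ⧸ Q.asIdeal) ⊗[A'] B') z := by
      rw [Module.rankAtStalk_eq_finrank_of_free]; rfl
    rw [hh, Module.rankAtStalk_baseChange, ← Module.rankAtStalk_eq_of_equiv E, Module.rankAtStalk_baseChange]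
    congr 1
    refine PrimeSpectrum.ext ?_
    simp [z, PrimeSpectrum.comap_asIdeal, Ideal.Quotient.algebraMap_eq, ← RingHom.ker_eq_comap_bot]
  have hover : ∀ Q : MaximalSpectrum A', (Q.asIdeal.comap (algebraMap A A')).comap (algebraMap C A) = p := fun Q => by
    haveI := Q.isMaximal
    refine (Ideal.IsMaximal.eq_of_le ‹p.IsMaximal› (Ideal.IsPrime.comap _ : Ideal.IsPrime _).ne_top ?_).symm
    intro x hx
    simp only [Ideal.mem_comap, Algebra.TensorProduct.right_algebraMap_apply]
    rw [← Algebra.TensorProduct.includeRight_apply, AlgHom.commutes, IsScalarTower.algebraMap_apply C C' A']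
    exact (hjac.trans (sInf_le ⟨bot_le, Q.isMaximal⟩)) (Ideal.mem_map_of_mem _ (hpm (Ideal.mem_map_of_mem _ hx)))
  obtain ⟨r, hr⟩ : ∃ r, ∀ Q : MaximalSpectrum A', Module.finrank (A' ⧸ Q.asIdeal) ((A' ⧸ Q.asIdeal) ⊗[A'] B') = r := by
    rcases isEmpty_or_nonempty (MaximalSpectrum A') with h | ⟨⟨Q0⟩⟩
    · exact ⟨0, fun Q => h.elim Q⟩
    · exact ⟨_, fun Q => ((hrk Q).trans (D.rk _ _ ((hover Q).trans (hover Q0).symm))).trans (hrk Q0).symm⟩
  obtain ⟨b0⟩ := Module.nonempty_basis_of_flat_of_finrank_eq A' B' r hr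
  let tl : A' →ₗ[C'] B' := (tX D C').toLinearMap
  have hspanN : Submodule.span A' (N.map tl : Set B') = ⊤ := by
    rw [eq_top_iff]
    intro z _
    induction z with
    | zero => exact zero_mem _
    | add y z hy hz => exact add_mem (hy trivial) (hz trivial)
    | tmul c b =>
      obtain ⟨l, hlN, hl⟩ := hN b
      have : c ⊗ₜ[C] b = (algebraMap C' A' c) • ((1 : C') ⊗ₜ[C] b : B') := by
        rw [algebraMap_smul, TensorProduct.smul_tmul', smul_eq_mul, mul_one]
      rw [this, ← hl]
      refine Submodule.smul_mem _ _ (Submodule.sum_mem _ fun x hx => ?_)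
      show (l x) • (tl x) ∈ _
      exact Submodule.smul_mem _ _ (Submodule.subset_span ⟨x, hlN x hx, rfl⟩)
  haveI := hfinM
  obtain ⟨bb, hbb⟩ := H9Semilocal.exists_basis_mem (B := C') hjac b0 (N.map tl) hspanN
  choose x hxN hx using hbb
  refine ⟨r, x, hxN, fun f => ?_, fun a ha => ?_⟩
  swap
  · have : ∑ i, a i • bb i = 0 := by
      rw [← ha]
      exact Finset.sum_congr rfl fun i _ => by rw [← hx i]; rfl
    exact funext (Fintype.linearIndependent_iff.1 bb.linearIndependent a this)
  -- invariance of coefficients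
  set a := bb.equivFun (tX D C' f) with ha
  have hf : tX D C' f = ∑ i, sX C' (a i) * tX D C' (x i) := by
    conv_lhs => rw [← bb.sum_equivFun (tX D C' f)]
    exact Finset.sum_congr rfl fun i _ => by rw [← hx i]; rfl
  let P1 : B' →ₐ[C'] C' ⊗[C] P := Algebra.TensorProduct.map (AlgHom.id C' C') D.p1
  let P2 : B' →ₐ[C'] C' ⊗[C] P := Algebra.TensorProduct.map (AlgHom.id C' C') D.p2
  let Pc : B' →ₐ[C'] C' ⊗[C] P := Algebra.TensorProduct.map (AlgHom.id C' C') D.c
  have e_ct : ∀ z, Pc (tX D C' z) = P1 (tX D C' z) := fun z => by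
    induction z with
    | zero => simp
    | add y z hy hz => simp only [map_add, hy, hz]
    | tmul c z => simp [Pc, P1, tX, D.ct]
  have e_cs : ∀ z : A', Pc (sX C' z) = P2 (sX C' z) := fun z => by
    induction z with
    | zero => simp
    | add y z hy hz => simp only [map_add, hy, hz]
    | tmul c z => simp [Pc, P2, sX, D.cs]
  have e_1s : ∀ z : A', P1 (sX C' z) = P2 (tX D C' z) := fun z => by
    induction z with
    | zero => simp
    | add y z hy hz => simp only [map_add, hy, hz]
    | tmul c z => simp [P1, P2, sX, tX, D.p1s]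
  have hsumeq : ∑ i, P2 (tX D C' (a i)) * P1 (tX D C' (x i)) = ∑ i, P2 (sX C' (a i)) * P1 (tX D C' (x i)) := by
    have h1 := congrArg P1 hf
    have h2 := congrArg Pc hf
    rw [e_ct] at h2
    simp only [map_sum, map_mul, e_cs, e_ct, e_1s] at h1 h2
    exact h1.symm.trans h2
  -- the coordinate map on `P`
  letI : Algebra B P := D.p2.toRingHom.toAlgebra
  haveI : IsScalarTower C B P := .of_algebraMap_eq fun c => (D.p2.commutes c).symm
  letI : Algebra B (B') := jB.toRingHom.toAlgebra
  obtain ⟨L0, hL0⟩ : ∃ L0 : P →ₗ[B] (Fin r → B'), ∀ y, L0 (D.p1 y) = fun i => tX D C' (bb.equivFun (jB y) i) := by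
    -- `P` as base change of `B` (via `s`) along `t`
    have hIB : ∀ (a : A) (y : B), (fun i => tX D C' (bb.equivFun (jB (algebraMap A B a * y)) i)) =
        fun i => jB (D.t a) * tX D C' (bb.equivFun (jB y) i) := fun a y => funext fun i => by
      have : jB (algebraMap A B a * y) = (algebraMap A A' a) • jB y := by
        show _ = sX C' (algebraMap A A' a) * jB y
        rw [map_mul]
        simp [jB, sX, Algebra.TensorProduct.right_algebraMap_apply]
      rw [this, map_smul, Pi.smul_apply, smul_eq_mul, map_mul]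
      simp [jB, tX, Algebra.TensorProduct.right_algebraMap_apply]
    exact exists_lift_pushout (CommRingCat.ofHom (algebraMap A B)) (CommRingCat.ofHom D.t.toRingHom)
      (CommRingCat.ofHom D.p1.toRingHom) (CommRingCat.ofHom D.p2.toRingHom) D.push jB.toRingHom
      (fun y i => tX D C' (bb.equivFun (jB y) i)) (fun y y' => funext fun i => by simp [map_add]) hIB
  let L : C' ⊗[C] P →ₗ[C'] (Fin r → B') := LinearMap.liftBaseChange C' (L0.restrictScalars C)
  have hL : ∀ (z : B') (w : B'), L (P2 z * P1 w) = fun i => z * tX D C' (bb.equivFun w i) := fun z w => by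
    induction z with
    | zero => funext i; simp
    | add y z hy hz => funext i; rw [map_add, add_mul, map_add, hy, hz]; simp [add_mul]
    | tmul c b =>
      induction w with
      | zero => funext i; simp
      | add y z hy hz => funext i; simp only [map_add, mul_add, Pi.add_apply, hy, hz]
      | tmul c' y =>
        funext i
        have e1 : P2 (c ⊗ₜ[C] b) * P1 (c' ⊗ₜ[C] y) = (c * c') ⊗ₜ[C] (b • D.p1 y) := by
          simp [P1, P2, Algebra.smul_def, RingHom.algebraMap_toAlgebra]
        rw [e1, LinearMap.liftBaseChange_tmul, Pi.smul_apply, LinearMap.restrictScalars_apply, map_smul, Pi.smul_apply, hL0]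
        have e2 : (c' ⊗ₜ[C] y : B') = algebraMap C' A' c' • jB y := by
          rw [algebraMap_smul]; simp [jB, TensorProduct.smul_tmul']
        rw [e2, map_smul, Pi.smul_apply, smul_eq_mul, map_mul, AlgHom.commutes]
        show _ • (jB b * _) = _
        rw [Algebra.smul_def, show (c ⊗ₜ[C] b : B') = algebraMap C' B' c * jB b by simp [jB], map_mul]
        ring
  have hinv : ∀ i, tX D C' (a i) = sX C' (a i) := fun i => by
    have h := congrFun (congrArg L hsumeq) i
    rw [map_sum, map_sum, Finset.sum_apply, Finset.sum_apply] at h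
    simp only [hL] at h
    have hcoord : ∀ j, bb.equivFun (tX D C' (x j)) i = if j = i then 1 else 0 := fun j => by
      rw [show tX D C' (x j) = bb j from hx j]
      simp [Finsupp.single_apply]
    simpa [hcoord, apply_ite (tX D C'), apply_ite (sX C')] using h
  -- equalizer after flat base change
  have hrange : ∀ i, ∃ c : C', algebraMap C' A' c = a i := fun i => by
    let diff : A →ₗ[C] B := D.t.toLinearMap - (IsScalarTower.toAlgHom C A B).toLinearMap
    have hex : Function.Exact (Algebra.linearMap C A) diff := fun z => by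
      constructor
      · intro hz
        exact D.inv z (sub_eq_zero.1 hz).symm
      · rintro ⟨c, rfl⟩
        simp [diff, ← IsScalarTower.algebraMap_apply]
    have h0 : LinearMap.lTensor C' diff (a i) = 0 := by
      rw [LinearMap.lTensor_sub, LinearMap.sub_apply, sub_eq_zero]
      exact hinv i
    obtain ⟨y, hy⟩ := (Module.Flat.lTensor_exact C' hex (a i)).1 h0
    refine ⟨TensorProduct.rid C C' y, ?_⟩
    rw [← hy]
    clear hy h0
    induction y with
    | zero => simp
    | add y z hy hz => simp only [map_add, hy, hz]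
    | tmul c d => simp [Algebra.TensorProduct.algebraMap_apply, Algebra.algebraMap_eq_smul_one, TensorProduct.smul_tmul', Algebra.TensorProduct.one_def]
  choose cc hcc using hrange
  let ε : B' →ₐ[C'] A' := Algebra.TensorProduct.map (AlgHom.id C' C') D.e
  have hεs : ∀ z : A', ε (sX C' z) = z := fun z => by
    induction z with
    | zero => simp
    | add y z hy hz => simp only [map_add, hy, hz]
    | tmul c z => simp [ε, sX, D.es]
  have hεt : ∀ z, ε (tX D C' z) = z := fun z => by
    induction z with
    | zero => simp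
    | add y z hy hz => simp only [map_add, hy, hz]
    | tmul c z => simp [ε, tX, D.et]
  refine ⟨cc, ?_⟩
  have := congrArg ε hf
  rw [hεt, map_sum] at this
  rw [this]
  exact Finset.sum_congr rfl fun i _ => by rw [map_mul, hεs, hεt, Algebra.smul_def, hcc]

end Local

section Global

variable [Module.Finite A B] [Module.Flat A B] [Algebra.IsIntegral C A] (D : Data C A B P)

include D

theorem exists_ginit : ∃ (n : ℕ) (g : Fin n → A), ∀ b : B, ∃ a : Fin n → A, b = ∑ i, algebraMap A B (a i) * D.t (g i) := by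
  classical
  obtain ⟨S, hS⟩ := Module.Finite.fg_top (R := A) (M := B)
  have h : ∀ b : B, ∃ l : A →₀ A, (l.sum fun a c => c • D.t a) = b := fun b =>
    Finsupp.mem_span_range_iff_exists_finsupp.1 (D.span ▸ Submodule.mem_top)
  choose l hl using h
  let U : Finset A := S.biUnion fun b => (l b).support
  refine ⟨_, fun i => ((Fintype.equivFin U).symm i : A), fun b => ?_⟩
  have hb : b ∈ Submodule.span A (Set.range fun u : U => D.t u) := by
    have : Submodule.span A (S : Set B) ≤ Submodule.span A (Set.range fun u : U => D.t u) := Submodule.span_le.2 fun y hy => by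
      rw [← hl y]
      exact Submodule.sum_mem _ fun a ha => Submodule.smul_mem _ _ (Submodule.subset_span ⟨⟨a, Finset.mem_biUnion.2 ⟨y, hy, ha⟩⟩, rfl⟩)
    exact this (hS ▸ Submodule.mem_top)
  obtain ⟨f, hf⟩ := (Submodule.mem_span_range_iff_exists_fun A).1 hb
  refine ⟨fun i => f ((Fintype.equivFin U).symm i), ?_⟩
  rw [← hf, ← (Fintype.equivFin U).symm.sum_comp]
  exact Finset.sum_congr rfl fun i _ => Algebra.smul_def _ _

theorem finite : Module.Finite C A := by
  obtain ⟨n, g, hg⟩ := exists_ginit D
  let l : (Fin n → C) →ₗ[C] A := Fintype.linearCombination C g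
  suffices Function.Surjective l from Module.Finite.of_surjective l this
  rw [← LinearMap.range_eq_top, ← Submodule.Quotient.subsingleton_iff]
  refine subsingleton_of_forall_eq 0 fun z => eq_zero_of_local (C := C) z fun p hp C' _ _ _ hflat hpm hinf hfin => ?_
  obtain ⟨a, rfl⟩ := Submodule.mkQ_surjective _ z
  haveI := hflat; haveI := hinf
  let N : Submodule C' (C' ⊗[C] A) := LinearMap.range (LinearMap.baseChange C' l)
  obtain ⟨r, x, hxN, hx, -⟩ := exists_basis D C' hpm (hfin A (D.fin p hp)) N (fun b => by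
    obtain ⟨c, hc⟩ := hg b
    classical
    refine ⟨∑ i, Finsupp.single ((1 : C') ⊗ₜ[C] g i) ((1 : C') ⊗ₜ[C] c i), fun y hy => ?_, ?_⟩
    · obtain ⟨i, -, hi⟩ := Finset.mem_biUnion.1 (Finsupp.support_finsetSum hy)
      rw [Finset.mem_singleton.1 (Finsupp.support_single_subset hi)]
      refine ⟨(1 : C') ⊗ₜ[C] Pi.single i 1, ?_⟩
      simp [l, Fintype.linearCombination_apply_single]
    · rw [← Finsupp.sum_finsetSum_index (fun _ => by simp) (fun _ _ _ => by rw [map_add, add_mul]), hc, TensorProduct.tmul_sum]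
      refine Finset.sum_congr rfl fun i _ => ?_
      rw [Finsupp.sum_single_index (by simp)]
      simp [sX, tX])
  obtain ⟨cc, hcc⟩ := hx ((1 : C') ⊗ₜ[C] a)
  have hmem : (1 : C') ⊗ₜ[C] a ∈ N := hcc ▸ N.sum_mem fun i _ => N.smul_mem _ (hxN i)
  obtain ⟨w, hw⟩ := hmem
  show LinearMap.baseChange C' (LinearMap.range l).mkQ ((1 : C') ⊗ₜ[C] a) = 0
  rw [← hw, ← LinearMap.comp_apply, ← LinearMap.baseChange_comp, show (LinearMap.range l).mkQ ∘ₗ l = 0 from LinearMap.range_mkQ_comp l,
    LinearMap.baseChange_zero, LinearMap.zero_apply]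

theorem exists_basis_top (p : Ideal C) [p.IsMaximal] (C' : Type u) [CommRing C'] [Algebra C C'] [IsLocalRing C']
    [Module.Flat C C'] [Infinite (IsLocalRing.ResidueField C')] (hpm : p.map (algebraMap C C') ≤ IsLocalRing.maximalIdeal C')
    (hfinM : Finite (MaximalSpectrum (C' ⊗[C] A))) :
    ∃ (r : ℕ) (x : Fin r → C' ⊗[C] A), (∀ f, ∃ c : Fin r → C', f = ∑ i, c i • x i) ∧
      (∀ a : Fin r → C' ⊗[C] A, (∑ i, sX C' (a i) * tX D C' (x i)) = 0 → a = 0) := by
  obtain ⟨n, g, hg⟩ := exists_ginit D
  obtain ⟨r, x, -, h1, h2⟩ := exists_basis D C' hpm hfinM ⊤ (fun b => by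
    obtain ⟨c, hc⟩ := hg b
    classical
    refine ⟨∑ i, Finsupp.single ((1 : C') ⊗ₜ[C] g i) ((1 : C') ⊗ₜ[C] c i), fun _ _ => trivial, ?_⟩
    rw [← Finsupp.sum_finsetSum_index (fun _ => by simp) (fun _ _ _ => by rw [map_add, add_mul]), hc, TensorProduct.tmul_sum]
    refine Finset.sum_congr rfl fun i _ => ?_
    rw [Finsupp.sum_single_index (by simp)]
    simp [sX, tX])
  exact ⟨r, x, h1, h2⟩

theorem flat : Module.Flat C A := by
  rw [Module.Flat.iff_lTensor_preserves_injective_linearMap]
  intro N P _ _ _ _ f hf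
  rw [injective_iff_map_eq_zero]
  intro z hz
  refine eq_zero_of_local (C := C) z fun p hp C' _ _ _ hflat hpm hinf hfin => ?_
  haveI := hflat; haveI := hinf
  obtain ⟨r, x, hx, hxi⟩ := exists_basis_top D p C' hpm (hfin A (D.fin p hp))
  have hli : LinearIndependent C' x := by
    rw [Fintype.linearIndependent_iff]
    intro c hc
    have h0 := congrFun (hxi (fun i => algebraMap C' _ (c i)) (by
      have := congrArg (tX D C') hc
      rw [map_zero, map_sum] at this
      rw [← this]
      refine Finset.sum_congr rfl fun i _ => ?_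
      rw [AlgHom.commutes, map_smul, Algebra.smul_def]))
    intro i
    have hinj : Function.Injective (algebraMap C' (C' ⊗[C] A)) := by
      have := Module.Flat.lTensor_preserves_injective_linearMap (M := C') (Algebra.linearMap C A) D.inj
      intro u v huv
      apply (TensorProduct.rid C C').symm.injective
      refine this ?_
      simpa [Algebra.TensorProduct.algebraMap_apply] using huv
    exact hinj ((h0 i).trans (map_zero _).symm)
  haveI : Module.Free C' (C' ⊗[C] A) := .of_basis (Module.Basis.mk hli (fun f _ => by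
    obtain ⟨c, rfl⟩ := hx f
    exact Submodule.sum_mem _ fun i _ => Submodule.smul_mem _ _ (Submodule.subset_span ⟨i, rfl⟩)))
  haveI : Module.Flat C (C' ⊗[C] A) := Module.Flat.trans C C' _
  have heq : (TensorProduct.assoc C C' A P).toLinearMap ∘ₗ LinearMap.lTensor (C' ⊗[C] A) f =
      LinearMap.lTensor C' (LinearMap.lTensor A f) ∘ₗ (TensorProduct.assoc C C' A N).toLinearMap := by
    ext; simp
  obtain ⟨w, hw⟩ := (TensorProduct.assoc C C' A N).surjective ((1 : C') ⊗ₜ[C] z)
  rw [← hw]
  have h1 := LinearMap.congr_fun heq w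
  simp only [LinearMap.comp_apply, LinearEquiv.coe_coe, hw, LinearMap.lTensor_tmul, hz, TensorProduct.tmul_zero] at h1
  have h2 : w = 0 := Module.Flat.lTensor_preserves_injective_linearMap f hf
    ((map_eq_zero_iff _ (TensorProduct.assoc C C' A P).injective).1 h1 |>.trans (map_zero _).symm)
  rw [h2, map_zero]

/-- `A ⊗ A → B` -/
noncomputable def phi : A ⊗[C] A →ₐ[A] B :=
  Algebra.TensorProduct.lift (Algebra.ofId A B) D.t (fun _ _ => Commute.all _ _)

theorem phi_bijective : Function.Bijective (phi D) := by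
  constructor
  swap
  · intro b
    obtain ⟨n, g, hg⟩ := exists_ginit D
    obtain ⟨c, rfl⟩ := hg b
    exact ⟨∑ i, c i ⊗ₜ[C] g i, by simp [phi]⟩
  rw [injective_iff_map_eq_zero]
  intro z hz
  refine eq_zero_of_local (C := C) z fun p hp C' _ _ _ hflat hpm hinf hfin => ?_
  haveI := hflat; haveI := hinf
  obtain ⟨r, x, hx, hxi⟩ := exists_basis_top D p C' hpm (hfin A (D.fin p hp))
  let i1 : C' ⊗[C] A →ₐ[C'] C' ⊗[C] (A ⊗[C] A) := Algebra.TensorProduct.map (AlgHom.id C' C') Algebra.TensorProduct.includeLeft
  let i2 : C' ⊗[C] A →ₐ[C'] C' ⊗[C] (A ⊗[C] A) := Algebra.TensorProduct.map (AlgHom.id C' C') Algebra.TensorProduct.includeRight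
  let Φ : C' ⊗[C] (A ⊗[C] A) →ₐ[C'] C' ⊗[C] B := Algebra.TensorProduct.map (AlgHom.id C' C') ((phi D).restrictScalars C)
  have h1 : ∀ y, Φ (i1 y) = sX C' y := fun y => by
    induction y with
    | zero => simp
    | add y z hy hz => simp only [map_add, hy, hz]
    | tmul c z => simp [Φ, i1, sX, phi]
  have h2 : ∀ y, Φ (i2 y) = tX D C' y := fun y => by
    induction y with
    | zero => simp
    | add y z hy hz => simp only [map_add, hy, hz]
    | tmul c z => simp [Φ, i2, tX, phi]
  have hsur : ∀ y : C' ⊗[C] (A ⊗[C] A), ∃ a : Fin r → C' ⊗[C] A, y = ∑ i, i1 (a i) * i2 (x i) := fun y => by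
    induction y with
    | zero => exact ⟨0, by simp⟩
    | add y z hy hz =>
      obtain ⟨a, rfl⟩ := hy; obtain ⟨a', rfl⟩ := hz
      exact ⟨a + a', by simp [add_mul, Finset.sum_add_distrib]⟩
    | tmul c w =>
      induction w with
      | zero => exact ⟨0, by simp⟩
      | add y z hy hz =>
        obtain ⟨a, ha⟩ := hy; obtain ⟨a', ha'⟩ := hz
        exact ⟨a + a', by simp [TensorProduct.tmul_add, ha, ha', add_mul, Finset.sum_add_distrib]⟩
      | tmul u v =>
        obtain ⟨d, hd⟩ := hx ((1 : C') ⊗ₜ[C] v)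
        refine ⟨fun i => d i • (c ⊗ₜ[C] u), ?_⟩
        have : c ⊗ₜ[C] (u ⊗ₜ[C] v) = i1 (c ⊗ₜ[C] u) * i2 ((1 : C') ⊗ₜ[C] v) := by simp [i1, i2]
        rw [this, hd, map_sum, Finset.mul_sum]
        exact Finset.sum_congr rfl fun i _ => by rw [map_smul, map_smul, mul_smul_comm, smul_mul_assoc]
  obtain ⟨a, ha⟩ := hsur ((1 : C') ⊗ₜ[C] z)
  have h0 : Φ ((1 : C') ⊗ₜ[C] z) = 0 := by simp [Φ, hz]
  rw [ha, map_sum] at h0
  simp only [map_mul, h1, h2] at h0
  rw [ha, hxi a h0]
  simp

end Global

end Groth.Agent.H9GrpdFlat
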