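import Groth.Prelude.Def_Grpd
import Groth.Agent.Lib.H9GrpdQuot
import Groth.Agent.Lib.H9GrpdFlat
import Mathlib

/-! Quotient of an affine finite locally free equivalence relation. -/

set_option autoImplicit false
set_option backward.isDefEq.respectTransparency.types false
set_option backward.isDefEq.respectTransparency false

universe u

open AlgebraicGeometry CategoryTheory CategoryTheory.Limits
open scoped TensorProduct

namespace Groth.Agent.H9GrpdFiniteFlat

open Groth.Agent.H9GrpdQuot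

variable {S : Scheme.{u}} (G : Grpd.GroupoidScheme S)
  [IsAffine G.U] [IsAffine G.R] [IsFinite G.s] [Flat G.s] [LocallyOfFinitePresentation G.s] [Mono G.j]

omit [IsFinite G.s] [Flat G.s] [LocallyOfFinitePresentation G.s] in
theorem eq_of_ring_maps {Z : CommRingCat.{u}} (g h : Γ(G.R, ⊤) ⟶ Z) (hs : G.s.appTop ≫ g = G.s.appTop ≫ h)
    (ht : G.t.appTop ≫ g = G.t.appTop ≫ h) : g = h := by
  let m : (Γ(G.R, ⊤) ⟶ Z) → (Spec Z ⟶ G.R) := fun g => Spec.map g ≫ G.R.isoSpec.inv
  have key : ∀ (f : G.R ⟶ G.U) (g : Γ(G.R, ⊤) ⟶ Z), m g ≫ f = Spec.map (f.appTop ≫ g) ≫ G.U.isoSpec.inv := fun f g => by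
    simp only [m, Category.assoc, Spec.map_comp, Scheme.isoSpec_inv_naturality]
  have : m g = m h := by
    rw [← cancel_mono G.j]
    apply pullback.hom_ext
    · simp only [Grpd.GroupoidScheme.j, Category.assoc, pullback.lift_fst, key, ht]
    · simp only [Grpd.GroupoidScheme.j, Category.assoc, pullback.lift_snd, key, hs]
  exact Spec.map_injective ((cancel_mono G.R.isoSpec.inv).1 this)

theorem main : (IsFinite G.toQuot ∧ Flat G.toQuot ∧ LocallyOfFinitePresentation G.toQuot) ∧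
    IsPullback G.t G.s G.toQuot G.toQuot := by
  letI := G.s.appTop.hom.toAlgebra
  haveI : Module.Finite Γ(G.U, ⊤) Γ(G.R, ⊤) := G.s.finite_appTop
  haveI : Module.Flat Γ(G.U, ⊤) Γ(G.R, ⊤) := G.s.flat_appTop
  haveI : Algebra.FinitePresentation Γ(G.U, ⊤) Γ(G.R, ⊤) := G.s.finitePresentation_appTop
  haveI := H9GrpdIntegral.isIntegral_invariants G
  letI algCB : Algebra G.invariants Γ(G.R, ⊤) := (G.s.appTop.hom.comp G.invariants.subtype).toAlgebra
  haveI : IsScalarTower G.invariants Γ(G.U, ⊤) Γ(G.R, ⊤) := .of_algebraMap_eq' rfl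
  letI algCP : Algebra G.invariants Γ(pullback G.s G.t, ⊤) :=
    ((pullback.snd G.s G.t).appTop.hom.comp (algebraMap G.invariants Γ(G.R, ⊤))).toAlgebra
  let tA : Γ(G.U, ⊤) →ₐ[G.invariants] Γ(G.R, ⊤) := { G.t.appTop.hom with commutes' := fun c => c.2.symm }
  have h1 : IsPullback (pullback.snd G.s G.t) (pullback.fst G.s G.t) G.t G.s := (IsPullback.of_hasPullback G.s G.t).flip
  have h2 : IsPullback (pullback.snd G.s G.t) G.c G.s G.s := by
    refine IsPullback.flip (IsPullback.of_iso (IsPullback.of_hasPullback G.s G.s) (H9Grpd.shear G).symm (Iso.refl _) (Iso.refl _)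
      (Iso.refl _) ?_ ?_ ?_ ?_)
    · rw [Iso.refl_hom, Category.comp_id, ← H9Grpd.shear_hom_fst G, Iso.symm_hom, Iso.inv_hom_id_assoc]
    · rw [Iso.refl_hom, Category.comp_id, Iso.symm_hom]
      simp [H9Grpd.shear]
    · simp
    · simp
  have hes : ∀ a, G.e.appTop.hom (G.s.appTop.hom a) = a := fun a => by
    simpa using congrArg (fun m => m.appTop.hom a) G.e_s
  have het : ∀ a, G.e.appTop.hom (G.t.appTop.hom a) = a := fun a => by
    simpa using congrArg (fun m => m.appTop.hom a) G.e_t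
  have q1 : ∀ a, (pullback.fst G.s G.t).appTop.hom (G.s.appTop.hom a) = (pullback.snd G.s G.t).appTop.hom (G.t.appTop.hom a) :=
    fun a => by simpa using congrArg (fun m => m.appTop.hom a) (pullback.condition (f := G.s) (g := G.t))
  have q2 : ∀ a, G.c.appTop.hom (G.s.appTop.hom a) = (pullback.snd G.s G.t).appTop.hom (G.s.appTop.hom a) :=
    fun a => by simpa using congrArg (fun m => m.appTop.hom a) h2.w.symm
  have q3 : ∀ a, G.c.appTop.hom (G.t.appTop.hom a) = (pullback.fst G.s G.t).appTop.hom (G.t.appTop.hom a) := fun a => by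
    have hc : G.c ≫ G.t = pullback.fst G.s G.t ≫ G.t := by
      have h := G.comp_t (pullback.fst G.s G.t) (pullback.snd G.s G.t) pullback.condition
      rwa [show pullback.lift (pullback.fst G.s G.t) (pullback.snd G.s G.t) pullback.condition = 𝟙 _ from
        pullback.hom_ext (by simp) (by simp), Category.id_comp] at h
    simpa using congrArg (fun m => m.appTop.hom a) hc
  -- surjectivity of `A ⊗ A → B`
  have hspan : Submodule.span Γ(G.U, ⊤) (Set.range tA) = ⊤ := by
    let φ : Γ(G.U, ⊤) ⊗[G.invariants] Γ(G.U, ⊤) →ₐ[Γ(G.U, ⊤)] Γ(G.R, ⊤) :=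
      Algebra.TensorProduct.lift (Algebra.ofId _ _) tA (fun _ _ => Commute.all _ _)
    letI := φ.toRingHom.toAlgebra
    haveI : IsScalarTower Γ(G.U, ⊤) (Γ(G.U, ⊤) ⊗[G.invariants] Γ(G.U, ⊤)) Γ(G.R, ⊤) :=
      .of_algebraMap_eq fun a => (φ.commutes a).symm
    haveI : Module.Finite (Γ(G.U, ⊤) ⊗[G.invariants] Γ(G.U, ⊤)) Γ(G.R, ⊤) := Module.Finite.of_restrictScalars_finite Γ(G.U, ⊤) _ _
    let RR := Γ(G.U, ⊤) ⊗[G.invariants] Γ(G.U, ⊤)
    have hepi : Algebra.IsEpi RR Γ(G.R, ⊤) := by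
      rw [Algebra.isEpi_iff_forall_one_tmul_eq]
      intro b
      let g : Γ(G.R, ⊤) ⟶ CommRingCat.of (Γ(G.R, ⊤) ⊗[RR] Γ(G.R, ⊤)) := CommRingCat.ofHom Algebra.TensorProduct.includeLeftRingHom
      let h : Γ(G.R, ⊤) ⟶ CommRingCat.of (Γ(G.R, ⊤) ⊗[RR] Γ(G.R, ⊤)) := CommRingCat.ofHom Algebra.TensorProduct.includeRight.toRingHom
      have hgh : ∀ z : RR, g.hom (algebraMap RR Γ(G.R, ⊤) z) = h.hom (algebraMap RR Γ(G.R, ⊤) z) := fun z => by
        show (algebraMap RR Γ(G.R, ⊤) z) ⊗ₜ[RR] (1 : Γ(G.R, ⊤)) = (1 : Γ(G.R, ⊤)) ⊗ₜ[RR] (algebraMap RR Γ(G.R, ⊤) z)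
        rw [Algebra.algebraMap_eq_smul_one, TensorProduct.smul_tmul]
      have := eq_of_ring_maps G g h (CommRingCat.hom_ext (RingHom.ext fun a => by
          have := hgh (a ⊗ₜ 1)
          rwa [show algebraMap RR Γ(G.R, ⊤) (a ⊗ₜ 1) = G.s.appTop.hom a from
            (Algebra.TensorProduct.lift_tmul _ _ _ a 1).trans (by rw [map_one, mul_one]; rfl)] at this))
        (CommRingCat.hom_ext (RingHom.ext fun a => by
          have := hgh ((1 : Γ(G.U, ⊤)) ⊗ₜ a)
          rwa [show algebraMap RR Γ(G.R, ⊤) ((1 : Γ(G.U, ⊤)) ⊗ₜ a) = G.t.appTop.hom a from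
            (Algebra.TensorProduct.lift_tmul _ _ _ 1 a).trans (by rw [map_one, one_mul]; rfl)] at this))
      exact (RingHom.congr_fun (congrArg CommRingCat.Hom.hom this) b).symm
    have hsurj : Function.Surjective φ := Algebra.isEpi_iff_surjective_algebraMap_of_finite.1 hepi
    rw [eq_top_iff]
    intro b _
    obtain ⟨z, rfl⟩ := hsurj b
    induction z with
    | zero => simp
    | add y z hy hz => rw [map_add]; exact add_mem (hy trivial) (hz trivial)
    | tmul a a' =>
      rw [show φ (a ⊗ₜ a') = a • tA a' by simp [φ, Algebra.smul_def]]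
      exact Submodule.smul_mem _ _ (Submodule.subset_span ⟨a', rfl⟩)
  -- orbits
  have horb : ∀ q q' : PrimeSpectrum Γ(G.U, ⊤), q.asIdeal.comap (algebraMap G.invariants Γ(G.U, ⊤)) = q'.asIdeal.comap (algebraMap G.invariants Γ(G.U, ⊤)) →
      ∃ r : PrimeSpectrum Γ(G.R, ⊤), PrimeSpectrum.comap G.t.appTop.hom r = q ∧ PrimeSpectrum.comap G.s.appTop.hom r = q' := by
    intro q q' hqq
    let K := AlgebraicClosure (FractionRing (Γ(G.U, ⊤) ⧸ q'.asIdeal))
    let x : Γ(G.U, ⊤) →+* K := (algebraMap (FractionRing (Γ(G.U, ⊤) ⧸ q'.asIdeal)) K).comp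
      ((algebraMap (Γ(G.U, ⊤) ⧸ q'.asIdeal) (FractionRing (Γ(G.U, ⊤) ⧸ q'.asIdeal))).comp (Ideal.Quotient.mk q'.asIdeal))
    have hx : RingHom.ker x = q'.asIdeal := by
      ext a
      rw [RingHom.mem_ker, RingHom.comp_apply, RingHom.comp_apply, map_eq_zero_iff _ (RingHom.injective _),
        map_eq_zero_iff _ (IsFractionRing.injective _ _), Ideal.Quotient.eq_zero_iff_mem]
    obtain ⟨ψ, hψ, hψq⟩ := exists_extend (x.comp (algebraMap G.invariants Γ(G.U, ⊤))) q.asIdeal (by
      rw [← RingHom.comap_ker, hx]; exact hqq)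
    obtain ⟨r, hrt, hrs⟩ := arrow_of_comp_eq G (pt ψ) (pt x) (by
      rw [comp_toQuot, comp_toQuot, ptHom_pt, ptHom_pt]
      congr 2)
    refine ⟨⟨RingHom.ker (ptHom r), RingHom.ker_isPrime _⟩, PrimeSpectrum.ext ?_, PrimeSpectrum.ext ?_⟩
    · show (RingHom.ker (ptHom r)).comap G.t.appTop.hom = _
      rw [RingHom.comap_ker, ← ptHom_comp, hrt, ptHom_pt, hψq]
    · show (RingHom.ker (ptHom r)).comap G.s.appTop.hom = _
      rw [RingHom.comap_ker, ← ptHom_comp, hrs, ptHom_pt, hx]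
  let D : H9GrpdFlat.Data G.invariants Γ(G.U, ⊤) Γ(G.R, ⊤) Γ(pullback G.s G.t, ⊤) :=
    { t := tA
      p1 := { (pullback.fst G.s G.t).appTop.hom with
        commutes' := fun c => (q1 c.1).trans (congrArg (pullback.snd G.s G.t).appTop.hom c.2.symm) }
      p2 := { (pullback.snd G.s G.t).appTop.hom with commutes' := fun c => rfl }
      c := { G.c.appTop.hom with commutes' := fun c => q2 c.1 }
      e := { G.e.appTop.hom with commutes' := fun c => hes c.1 }
      es := hes
      et := het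
      p1s := q1
      cs := q2
      ct := q3
      inj := Subtype.val_injective
      inv := fun a ha => ⟨⟨a, ha⟩, rfl⟩
      push := isPushout_appTop_of_isPullback h1
      span := hspan
      fin := fun p hp => by
        rcases ({q : PrimeSpectrum Γ(G.U, ⊤) | q.asIdeal.comap (algebraMap G.invariants Γ(G.U, ⊤)) = p}).eq_empty_or_nonempty with h | ⟨q', hq'⟩
        · rw [h]; exact Set.finite_empty
        refine ((Algebra.QuasiFinite.finite_comap_preimage_singleton (S := Γ(G.R, ⊤)) q').image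
          (PrimeSpectrum.comap G.t.appTop.hom)).subset fun q hq => ?_
        obtain ⟨r, hr1, hr2⟩ := horb q q' (hq.trans hq'.symm)
        exact ⟨r, hr2, hr1⟩
      rk := fun q q' hqq => by
        obtain ⟨r, hr1, hr2⟩ := horb q q' hqq
        have e1 := CommRingCat.finrank_eq_of_isPushout (isPushout_appTop_of_isPullback h1).flip G.s.flat_appTop G.s.finite_appTop r
        have e2 := CommRingCat.finrank_eq_of_isPushout (isPushout_appTop_of_isPullback h2).flip G.s.flat_appTop G.s.finite_appTop r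
        have := e1.symm.trans e2
        rw [hr1, hr2] at this
        exact this }
  haveI hfin : Module.Finite G.invariants Γ(G.U, ⊤) := H9GrpdFlat.finite D
  haveI hflat : Module.Flat G.invariants Γ(G.U, ⊤) := H9GrpdFlat.flat D
  haveI : Module.FaithfullyFlat G.invariants Γ(G.U, ⊤) := Module.FaithfullyFlat.of_comap_surjective fun P => by
    obtain ⟨Q, -, hQ, hQP⟩ := Ideal.exists_ideal_over_prime_of_isIntegral (S := Γ(G.U, ⊤)) P.asIdeal ⊥ (fun c hc => by
      rw [Ideal.mem_comap, Ideal.mem_bot] at hc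
      rw [show c = 0 from Subtype.ext hc]; exact zero_mem _)
    exact ⟨⟨Q, hQ⟩, PrimeSpectrum.ext hQP⟩
  let Φ : Γ(G.U, ⊤) ⊗[G.invariants] Γ(G.U, ⊤) ≃ₐ[Γ(G.U, ⊤)] Γ(G.R, ⊤) := AlgEquiv.ofBijective (H9GrpdFlat.phi D) (H9GrpdFlat.phi_bijective D)
  haveI : Algebra.FinitePresentation Γ(G.U, ⊤) (Γ(G.U, ⊤) ⊗[G.invariants] Γ(G.U, ⊤)) := Algebra.FinitePresentation.equiv Φ.symm
  haveI hfp : Algebra.FinitePresentation G.invariants Γ(G.U, ⊤) :=
    Algebra.FinitePresentation.of_finitePresentation_tensorProduct_of_faithfullyFlat Γ(G.U, ⊤)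
  refine ⟨?_, ?_⟩
  · haveI : IsFinite (Spec.map (CommRingCat.ofHom G.invariants.subtype)) := IsFinite.SpecMap_iff _ |>.2 (RingHom.finite_algebraMap.2 hfin)
    haveI : Flat (Spec.map (CommRingCat.ofHom G.invariants.subtype)) := Flat.SpecMap_iff.2 (RingHom.flat_algebraMap_iff.2 hflat)
    haveI : LocallyOfFinitePresentation (Spec.map (CommRingCat.ofHom G.invariants.subtype)) :=
      (HasRingHomProperty.Spec_iff (P := @LocallyOfFinitePresentation)).2 (RingHom.finitePresentation_algebraMap.2 hfp)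
    haveI : IsIso G.U.toSpecΓ := IsAffine.affine
    exact ⟨MorphismProperty.comp_mem _ G.U.toSpecΓ _ inferInstance inferInstance, MorphismProperty.comp_mem _ G.U.toSpecΓ _ inferInstance inferInstance,
      MorphismProperty.comp_mem _ G.U.toSpecΓ _ inferInstance inferInstance⟩
  · have hp : IsPushout (CommRingCat.ofHom (algebraMap G.invariants Γ(G.U, ⊤))) (CommRingCat.ofHom (algebraMap G.invariants Γ(G.U, ⊤)))
        G.s.appTop G.t.appTop := by
      refine (CommRingCat.isPushout_tensorProduct G.invariants Γ(G.U, ⊤) Γ(G.U, ⊤)).of_iso (Iso.refl _) (Iso.refl _) (Iso.refl _)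
        Φ.toRingEquiv.toCommRingCatIso (by simp) (by simp) ?_ ?_
      · ext a
        show H9GrpdFlat.phi D (a ⊗ₜ 1) = G.s.appTop.hom a
        simp [H9GrpdFlat.phi, RingHom.algebraMap_toAlgebra]
      · ext a
        show H9GrpdFlat.phi D ((1 : Γ(G.U, ⊤)) ⊗ₜ a) = G.t.appTop.hom a
        simp [H9GrpdFlat.phi, D, tA]
    have := (isPullback_SpecMap_of_isPushout _ _ _ _ hp).flip
    refine this.of_iso G.R.isoSpec.symm G.U.isoSpec.symm G.U.isoSpec.symm (Iso.refl _) ?_ ?_ ?_ ?_
    · simp [Scheme.isoSpec_inv_naturality]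
    · simp [Scheme.isoSpec_inv_naturality]
    · simp only [Iso.refl_hom, Category.comp_id, Iso.symm_hom, Grpd.GroupoidScheme.toQuot, ← Scheme.isoSpec_hom, Iso.inv_hom_id_assoc]
      rfl
    · simp only [Iso.refl_hom, Category.comp_id, Iso.symm_hom, Grpd.GroupoidScheme.toQuot, ← Scheme.isoSpec_hom, Iso.inv_hom_id_assoc]
      rfl

theorem finite_flat_quotient : (IsFinite G.toQuot ∧ Flat G.toQuot ∧ LocallyOfFinitePresentation G.toQuot) ∧
    ∃ φ : G.R ≅ pullback G.toQuot G.toQuot,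
      φ.hom ≫ pullback.fst G.toQuot G.toQuot = G.t ∧ φ.hom ≫ pullback.snd G.toQuot G.toQuot = G.s :=
  ⟨(main G).1, (main G).2.isoPullback, (main G).2.isoPullback_hom_fst, (main G).2.isoPullback_hom_snd⟩

end Groth.Agent.H9GrpdFiniteFlat
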