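import Groth.Prelude.Def_Grpd
import Groth.Prelude.Def_Mor2
import Groth.Agent.Lib.H9GrpdCoeq
import Groth.Agent.Lib.H9GrpdFiniteFlat
import Mathlib

/-! Gluing the affine quotients. -/

set_option autoImplicit false
set_option linter.all false
set_option backward.isDefEq.respectTransparency.types false
set_option backward.isDefEq.respectTransparency false

universe u

open AlgebraicGeometry CategoryTheory CategoryTheory.Limits TopologicalSpace Opposite

namespace Groth.Agent.H9GrpdCoeqGlue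

open Groth.Agent.H9GrpdCoeq

variable {S : Scheme.{u}} (G : Grpd.GroupoidScheme S)

/-- invariant affine opens -/
abbrev J : Type u := {W : G.U.Opens // IsAffineOpen W ∧ G.s ⁻¹ᵁ W = G.t ⁻¹ᵁ W}

noncomputable abbrev GW (k : J G) : Grpd.GroupoidScheme S := H9GrpdRestrict.restrict G k.1 k.2.2

noncomputable abbrev P (k : J G) : Scheme.{u} := Spec (CommRingCat.of (GW G k).invariants)

noncomputable def q (k : J G) : k.1.toScheme ⟶ P G k := (GW G k).toQuot

theorem mem_iff (k : J G) (r : G.R) : G.s r ∈ k.1 ↔ G.t r ∈ k.1 := by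
  show r ∈ G.s ⁻¹ᵁ k.1 ↔ r ∈ G.t ⁻¹ᵁ k.1
  rw [k.2.2]

theorem exists_lift_arrow (k : J G) {T : Scheme.{u}} (a b : T ⟶ k.1.toScheme) (r : T ⟶ G.R)
    (ha : a ≫ k.1.ι = r ≫ G.t) (hb : b ≫ k.1.ι = r ≫ G.s) :
    ∃ r' : T ⟶ (GW G k).R, r' ≫ (G.s ⁻¹ᵁ k.1).ι = r ∧ r' ≫ (GW G k).t = a ∧ r' ≫ (GW G k).s = b := by
  let r' : T ⟶ (G.s ⁻¹ᵁ k.1).toScheme := IsOpenImmersion.lift (G.s ⁻¹ᵁ k.1).ι r (by
    rw [Scheme.Opens.range_ι]
    rintro _ ⟨z, rfl⟩
    show G.s (r z) ∈ k.1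
    rw [← Scheme.Hom.comp_apply, ← hb, Scheme.Hom.comp_apply]
    exact (b z).2)
  have hr : r' ≫ (G.s ⁻¹ᵁ k.1).ι = r := IsOpenImmersion.lift_fac _ _ _
  refine ⟨r', hr, ?_, ?_⟩
  · rw [← cancel_mono k.1.ι, Category.assoc]
    show r' ≫ H9GrpdRestrict.tW G k.1 k.2.2 ≫ k.1.ι = _
    rw [H9GrpdRestrict.tW_ι, reassoc_of% hr, ha]
  · rw [← cancel_mono k.1.ι, Category.assoc]
    show r' ≫ H9GrpdRestrict.sW G k.1 ≫ k.1.ι = _
    rw [H9GrpdRestrict.sW_ι, reassoc_of% hr, hb]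

section

variable [IsFinite G.s] [Flat G.s] [LocallyOfFinitePresentation G.s]

theorem affQ_GW (k : J G) : AffQ (GW G k) (GW G k).toQuot := by
  haveI : IsAffine (GW G k).U := k.2.1
  haveI : IsAffine (GW G k).R := H9GrpdRestrict.isAffine_R G k.1 k.2.2 k.2.1
  obtain ⟨h1, h2, h3⟩ := H9GrpdRestrict.restrict_s_props G k.1 k.2.2
  haveI := h1; haveI := h2; haveI := h3
  exact affQ_toQuot

theorem isQ_q (k : J G) : IsQ G k.1.ι (q G k) := by
  haveI : IsAffine (GW G k).U := k.2.1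
  haveI : IsAffine (GW G k).R := H9GrpdRestrict.isAffine_R G k.1 k.2.2 k.2.1
  have h := isQ_of_affQ (affQ_GW G k)
  refine ⟨h.integral, h.surj, fun {T} a b r ha hb => ?_, fun x y => ?_, h.inj, fun V Z g hg => ?_⟩
  · obtain ⟨r', -, h1, h2⟩ := exists_lift_arrow G k a b r ha hb
    exact h.compat a b r' ((Category.comp_id _).trans h1.symm) ((Category.comp_id _).trans h2.symm)
  · refine (h.orbit x y).trans ⟨?_, ?_⟩
    · rintro ⟨r, hr1, hr2⟩
      refine ⟨(G.s ⁻¹ᵁ k.1).ι r, ?_, ?_⟩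
      · rw [← Scheme.Hom.comp_apply, ← H9GrpdRestrict.tW_ι G k.1 k.2.2, Scheme.Hom.comp_apply]
        exact congrArg k.1.ι hr1
      · rw [← Scheme.Hom.comp_apply, ← H9GrpdRestrict.sW_ι G k.1, Scheme.Hom.comp_apply]
        exact congrArg k.1.ι hr2
    · rintro ⟨r, hr1, hr2⟩
      refine ⟨⟨r, show G.s r ∈ k.1 from hr2 ▸ y.2⟩, k.1.ι.isOpenEmbedding.injective ?_, k.1.ι.isOpenEmbedding.injective ?_⟩
      · show k.1.ι (H9GrpdRestrict.tW G k.1 k.2.2 _) = _
        rw [← Scheme.Hom.comp_apply, H9GrpdRestrict.tW_ι, Scheme.Hom.comp_apply]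
        exact hr1
      · show k.1.ι (H9GrpdRestrict.sW G k.1 _) = _
        rw [← Scheme.Hom.comp_apply, H9GrpdRestrict.sW_ι, Scheme.Hom.comp_apply]
        exact hr2
  · refine h.desc V g fun {T} a b r ha hb => hg a b (r ≫ (G.s ⁻¹ᵁ k.1).ι) ?_ ?_
    · erw [Category.comp_id] at ha
      rw [← Category.assoc]
      erw [ha]
      rw [Category.assoc, Category.assoc]
      exact congrArg (r ≫ ·) (H9GrpdRestrict.tW_ι G k.1 k.2.2)
    · erw [Category.comp_id] at hb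
      rw [← Category.assoc]
      erw [hb]
      rw [Category.assoc, Category.assoc]
      exact congrArg (r ≫ ·) (H9GrpdRestrict.sW_ι G k.1)

theorem exists_trans {k k' : J G} (e : k.1 ≤ k'.1) :
    ∃ m : P G k ⟶ P G k', q G k ≫ m = G.U.homOfLE e ≫ q G k' := by
  obtain ⟨m, hm⟩ := (isQ_q G k).desc ⊤ ((q G k ⁻¹ᵁ ⊤).ι ≫ G.U.homOfLE e ≫ q G k') (fun {T} a b r ha hb => by
    rw [← Category.assoc, ← Category.assoc, ← Category.assoc b, ← Category.assoc (b ≫ _)]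
    exact (isQ_q G k').compat _ _ r (by rw [Category.assoc, Scheme.homOfLE_ι, Category.assoc]; exact ha)
      (by rw [Category.assoc, Scheme.homOfLE_ι, Category.assoc]; exact hb))
  refine ⟨(P G k).topIso.inv ≫ m, ?_⟩
  have h0 : (q G k ⁻¹ᵁ ⊤).ι ≫ q G k ≫ (P G k).topIso.inv = q G k ∣_ ⊤ := by
    rw [← cancel_mono (⊤ : (P G k).Opens).ι, morphismRestrict_ι]
    simp only [Category.assoc, ← Scheme.topIso_hom, Iso.inv_hom_id, Category.comp_id]
  haveI : IsIso (q G k ⁻¹ᵁ ⊤).ι := (show IsIso k.1.toScheme.topIso.hom from inferInstance)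
  rw [← cancel_epi (q G k ⁻¹ᵁ ⊤).ι, ← hm, ← h0]
  simp only [Category.assoc]

noncomputable def trans {k k' : J G} (e : k.1 ≤ k'.1) : P G k ⟶ P G k' := (exists_trans G e).choose

theorem trans_spec {k k' : J G} (e : k.1 ≤ k'.1) : q G k ≫ trans G e = G.U.homOfLE e ≫ q G k' := (exists_trans G e).choose_spec

theorem mem_of_eq {k' : J G} (l : J G) (x x' : k'.1.toScheme) (hx : x.1 ∈ l.1) (h : q G k' x = q G k' x') : x'.1 ∈ l.1 := by
  obtain ⟨r, hr1, hr2⟩ := ((isQ_q G k').orbit x x').1 h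
  have := (mem_iff G l r).2 (hr1 ▸ hx)
  rwa [hr2] at this

theorem trans_isOpenImmersion {k k' : J G} (e : k.1 ≤ k'.1) : IsOpenImmersion (trans G e) := by
  let W : k'.1.toScheme.Opens := k'.1.ι ⁻¹ᵁ k.1
  haveI := (isQ_q G k').integral
  have hV : IsOpen (⇑(q G k') '' (W : Set k'.1.toScheme)) := by
    rw [← ((q G k').isClosedMap.isQuotientMap (q G k').continuous (isQ_q G k').surj).isOpen_preimage]
    convert W.2
    refine subset_antisymm ?_ (Set.subset_preimage_image _ _)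
    rintro x' ⟨x, hx, e'⟩
    exact mem_of_eq G k x x' hx e'
  let V : (P G k').Opens := ⟨_, hV⟩
  have hpre : q G k' ⁻¹ᵁ V = W := by
    ext x'
    refine ⟨?_, fun hx => ⟨x', hx, rfl⟩⟩
    rintro ⟨x, hx, e'⟩
    exact mem_of_eq G k x x' hx e'
  let j := (q G k' ⁻¹ᵁ V).ι ≫ k'.1.ι
  have hr : Set.range j = Set.range k.1.ι := by
    rw [Scheme.Opens.range_ι]
    ext x
    constructor
    · rintro ⟨w, rfl⟩
      exact hpre.le w.2
    · intro hx
      exact ⟨⟨⟨x, e hx⟩, hpre.ge hx⟩, rfl⟩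
  let ψ := IsOpenImmersion.isoOfRangeEq k.1.ι j hr.symm
  have hψ : ψ.hom ≫ j = k.1.ι := IsOpenImmersion.isoOfRangeEq_hom_fac _ _ _
  have hψe : ψ.hom ≫ (q G k' ⁻¹ᵁ V).ι = G.U.homOfLE e := by
    rw [← cancel_mono k'.1.ι, Category.assoc, Scheme.homOfLE_ι]; exact hψ
  -- the two descents
  obtain ⟨b, hb⟩ := (isQ_q G k').desc V (ψ.inv ≫ q G k) (fun {T} a b r ha hb => by
    rw [← Category.assoc, ← Category.assoc]
    have hj : ψ.inv ≫ k.1.ι = j := by rw [← hψ, Iso.inv_hom_id_assoc]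
    exact (isQ_q G k).compat _ _ r (by rw [Category.assoc, hj]; exact ha) (by rw [Category.assoc, hj]; exact hb))
  obtain ⟨a', ha'⟩ := (isQ_q G k).desc ⊤ ((q G k ⁻¹ᵁ ⊤).ι ≫ ψ.hom ≫ (q G k' ∣_ V)) (fun {T} a b r ha hb => by
    rw [← cancel_mono V.ι]
    simp only [Category.assoc, morphismRestrict_ι]
    rw [reassoc_of% hψe, ← Category.assoc, ← Category.assoc, ← Category.assoc b, ← Category.assoc (b ≫ _)]
    exact (isQ_q G k').compat _ _ r (by rw [Category.assoc, Scheme.homOfLE_ι, Category.assoc]; exact ha)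
      (by rw [Category.assoc, Scheme.homOfLE_ι, Category.assoc]; exact hb))
  let a := (P G k).topIso.inv ≫ a'
  have ha : q G k ≫ a = ψ.hom ≫ (q G k' ∣_ V) := by
    have h0 : (q G k ⁻¹ᵁ ⊤).ι ≫ q G k ≫ (P G k).topIso.inv = q G k ∣_ ⊤ := by
      rw [← cancel_mono (⊤ : (P G k).Opens).ι, morphismRestrict_ι]
      simp only [Category.assoc, ← Scheme.topIso_hom, Iso.inv_hom_id, Category.comp_id]
    haveI : IsIso (q G k ⁻¹ᵁ ⊤).ι := (show IsIso k.1.toScheme.topIso.hom from inferInstance)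
    rw [← cancel_epi (q G k ⁻¹ᵁ ⊤).ι, ← ha', ← h0]
    simp only [a, Category.assoc]
  have e1 : a ≫ b = 𝟙 _ := (isQ_q G k).hom_ext (by rw [reassoc_of% ha, hb, Iso.hom_inv_id_assoc, Category.comp_id])
  have e2 : b ≫ a = 𝟙 _ := restrict_hom_ext (isQ_q G k').surj (isQ_q G k').inj V (by
    rw [reassoc_of% hb, ha, Iso.inv_hom_id_assoc, Category.comp_id])
  haveI : IsIso a := ⟨⟨b, e1, e2⟩⟩
  have : trans G e = a ≫ V.ι := (isQ_q G k).hom_ext (by
    rw [trans_spec, reassoc_of% ha, morphismRestrict_ι, reassoc_of% hψe])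
  rw [this]
  infer_instance

noncomputable def F : J G ⥤ Scheme.{u} where
  obj := P G
  map {k k'} f := trans G (leOfHom f)
  map_id k := (isQ_q G k).hom_ext (by rw [trans_spec]; simp)
  map_comp {k k' k''} f g := (isQ_q G k).hom_ext (by
    rw [trans_spec, reassoc_of% (trans_spec G (leOfHom f)), trans_spec, Scheme.homOfLE_homOfLE_assoc])

theorem trans_apply {k k' : J G} (e : k.1 ≤ k'.1) (z : k.1.toScheme) :
    trans G e (q G k z) = q G k' (G.U.homOfLE e z) :=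
  congrArg (fun m : k.1.toScheme ⟶ P G k' => m z) (trans_spec G e)

theorem homOfLE_val {k k' : J G} (e : k.1 ≤ k'.1) (z : k.1.toScheme) : (G.U.homOfLE e z).1 = z.1 := by
  show k'.1.ι (G.U.homOfLE e z) = k.1.ι z
  rw [← Scheme.Hom.comp_apply, Scheme.homOfLE_ι]

noncomputable instance {k k' : J G} (f : k ⟶ k') : IsOpenImmersion ((F G).map f) := trans_isOpenImmersion G _

variable (hV : ∀ x : G.U, ∃ V : G.U.Opens, IsAffineOpen V ∧ ∀ r : G.R, G.s r = x → G.t r ∈ V)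

include hV in
theorem exists_le (k k' : J G) (x : G.U) (hx : x ∈ k.1) (hx' : x ∈ k'.1) : ∃ l : J G, l.1 ≤ k.1 ∧ l.1 ≤ k'.1 ∧ x ∈ l.1 := by
  obtain ⟨V, hVa, hVx⟩ := hV x
  obtain ⟨W, hW, hxW, hWle, hWi⟩ := H9GrpdInvAff.exists_inv_affine G x (k.1 ⊓ k'.1) V hVa fun r hr =>
    ⟨hVx r hr, (mem_iff G k r).1 (hr ▸ hx), (mem_iff G k' r).1 (hr ▸ hx')⟩
  exact ⟨⟨W, hW, hWi⟩, fun y hy => (hWle hy).1, fun y hy => (hWle hy).2, hxW⟩

include hV in
theorem hcovU (x : G.U) : ∃ k : J G, x ∈ k.1 := by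
  obtain ⟨V, hVa, hVx⟩ := hV x
  obtain ⟨W, hW, hxW, -, hWi⟩ := H9GrpdInvAff.exists_inv_affine G x ⊤ V hVa fun r hr => ⟨hVx r hr, trivial⟩
  exact ⟨⟨W, hW, hWi⟩, hxW⟩

include hV in
theorem isLocallyDirected : (F G ⋙ Scheme.forget).IsLocallyDirected := by
  constructor
  intro a b c fa fb xa xb hab
  obtain ⟨za, hza⟩ := (isQ_q G a).surj xa
  obtain ⟨zb, hzb⟩ := (isQ_q G b).surj xb
  subst hza hzb
  have h1 : q G c (G.U.homOfLE (leOfHom fa) za) = q G c (G.U.homOfLE (leOfHom fb) zb) :=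
    (trans_apply G (leOfHom fa) za).symm.trans (hab.trans (trans_apply G (leOfHom fb) zb))
  have hz : zb.1 ∈ a.1 := by
    have := mem_of_eq G a _ _ (by rw [homOfLE_val]; exact za.2) h1
    rwa [homOfLE_val] at this
  obtain ⟨l, la, lb, hl⟩ := exists_le G hV a b zb.1 hz zb.2
  refine ⟨l, homOfLE la, homOfLE lb, q G l ⟨zb.1, hl⟩, ?_, ?_⟩
  · haveI := trans_isOpenImmersion G (leOfHom fa)
    apply (trans G (leOfHom fa)).isOpenEmbedding.injective
    show trans G _ (trans G la _) = trans G _ (q G a za)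
    rw [trans_apply, trans_apply, trans_apply, h1]
    congr 1
    exact Subtype.ext (by rw [homOfLE_val, homOfLE_val, homOfLE_val])
  · show trans G lb _ = q G b zb
    rw [trans_apply]
    exact congrArg (q G b) (Subtype.ext (homOfLE_val G _ _))

/-- the global quotient with its charts -/
structure Chart {Y : Scheme.{u}} (p : G.U ⟶ Y) where
  c : ∀ k : J G, P G k ⟶ Y
  open_ : ∀ k, IsOpenImmersion (c k)
  fac : ∀ k : J G, k.1.ι ≫ p = q G k ≫ c k
  preimage : ∀ k, p ⁻¹ᵁ (c k).opensRange = k.1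
  cover : ∀ y : Y, ∃ k, y ∈ (c k).opensRange
  coverU : ∀ x : G.U, ∃ k : J G, x ∈ k.1
  w : G.t ≫ p = G.s ≫ p
  isColimit : Nonempty (IsColimit (Cofork.ofπ p w))

include hV in
set_option maxHeartbeats 1000000 in
theorem exists_chart : ∃ (Y : Scheme.{u}) (p : G.U ⟶ Y), Nonempty (Chart G p) := by
  haveI := isLocallyDirected G hV
  let Φ := F G
  let c : ∀ k, P G k ⟶ colimit Φ := fun k => colimit.ι Φ k
  haveI hc : ∀ k, IsOpenImmersion (c k) := fun k => inferInstanceAs (IsOpenImmersion (colimit.ι Φ k))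
  have hw : ∀ {k k' : J G} (e : k.1 ≤ k'.1), trans G e ≫ c k' = c k := fun {k k'} e => colimit.w Φ (homOfLE (show k ≤ k' from e))
  obtain ⟨p, hp⟩ := H6.UnivThick.exists_glue (fun k : J G => k.1) (hcovU G hV) (fun k k' => k.1 ≤ k'.1) (fun _ _ e => e)
    (exists_le G hV) (fun k => q G k ≫ c k) fun k k' e => by rw [← reassoc_of% (trans_spec G e), hw]
  have hp' : ∀ (k : J G) (x : k.1.toScheme), p x.1 = c k (q G k x) := fun k x =>
    congrArg (fun m : k.1.toScheme ⟶ colimit Φ => m x) (hp k)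
  have hpre : ∀ k, p ⁻¹ᵁ (c k).opensRange = k.1 := fun k => by
    ext x
    constructor
    · rintro ⟨y, hy⟩
      obtain ⟨k', hk'⟩ := hcovU G hV x
      obtain ⟨l, fk, fk', z, hz, hz'⟩ := (Scheme.IsLocallyDirected.ι_eq_ι_iff Φ).1 (hy.trans (hp' k' ⟨x, hk'⟩))
      obtain ⟨w, rfl⟩ := (isQ_q G l).surj z
      change trans G (leOfHom fk') (q G l w) = q G k' ⟨x, hk'⟩ at hz'
      rw [trans_apply] at hz'
      exact leOfHom fk (mem_of_eq G l _ _ (by rw [homOfLE_val]; exact w.2) hz')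
    · intro hx
      exact ⟨q G k ⟨x, hx⟩, (hp' k ⟨x, hx⟩).symm⟩
  have hcov : ∀ y : (colimit Φ : Scheme.{u}), ∃ k, y ∈ (c k).opensRange := fun y => by
    obtain ⟨k, y', rfl⟩ := Scheme.IsLocallyDirected.ι_jointly_surjective Φ y
    exact ⟨k, y', rfl⟩
  have pw : G.t ≫ p = G.s ≫ p := Scheme.hom_ext_of_forall _ _ fun r => by
    obtain ⟨k, hk⟩ := hcovU G hV (G.s r)
    refine ⟨G.s ⁻¹ᵁ k.1, hk, ?_⟩
    rw [← reassoc_of% (H9GrpdRestrict.tW_ι G k.1 k.2.2), ← reassoc_of% (H9GrpdRestrict.sW_ι G k.1), hp]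
    rw [← Category.assoc, ← Category.assoc]
    congr 1
    exact (isQ_q G k).compat _ _ _ (H9GrpdRestrict.tW_ι G k.1 k.2.2) (H9GrpdRestrict.sW_ι G k.1)
  refine ⟨colimit Φ, p, ⟨⟨c, hc, hp, hpre, hcov, hcovU G hV, pw, ⟨Cofork.IsColimit.ofExistsUnique fun s => ?_⟩⟩⟩⟩
  have hs : ∀ (k : J G), Compat G k.1.ι (k.1.ι ≫ s.π) := fun k {T} a b r ha hb => by
    rw [reassoc_of% ha, reassoc_of% hb, s.condition]
  have hd : ∀ k : J G, ∃ m : P G k ⟶ s.pt, q G k ≫ m = k.1.ι ≫ s.π := fun k => by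
    obtain ⟨m, hm⟩ := (isQ_q G k).desc ⊤ ((q G k ⁻¹ᵁ ⊤).ι ≫ k.1.ι ≫ s.π) (fun {T} a b r ha hb => by
      rw [← Category.assoc, ← Category.assoc b]
      exact hs k _ _ r (by rw [Category.assoc]; exact ha) (by rw [Category.assoc]; exact hb))
    refine ⟨(P G k).topIso.inv ≫ m, ?_⟩
    have h0 : (q G k ⁻¹ᵁ ⊤).ι ≫ q G k ≫ (P G k).topIso.inv = q G k ∣_ ⊤ := by
      rw [← cancel_mono (⊤ : (P G k).Opens).ι, morphismRestrict_ι]
      simp only [Category.assoc, ← Scheme.topIso_hom, Iso.inv_hom_id, Category.comp_id]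
    haveI : IsIso (q G k ⁻¹ᵁ ⊤).ι := (show IsIso k.1.toScheme.topIso.hom from inferInstance)
    rw [← cancel_epi (q G k ⁻¹ᵁ ⊤).ι, ← hm, ← h0]
    simp only [Category.assoc]
  choose m hm using hd
  let cc : Cocone Φ := Cocone.mk s.pt
    { app := m
      naturality := fun k k' f => (isQ_q G k).hom_ext (by
        change q G k ≫ trans G (leOfHom f) ≫ m k' = q G k ≫ m k ≫ 𝟙 _
        rw [Category.comp_id, reassoc_of% (trans_spec G (leOfHom f)), hm, hm, Scheme.homOfLE_ι_assoc]) }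
  refine ⟨colimit.desc Φ cc, ?_, fun l hl => ?_⟩
  · refine Scheme.hom_ext_of_forall _ _ fun x => ?_
    obtain ⟨k, hk⟩ := hcovU G hV x
    refine ⟨k.1, hk, ?_⟩
    show k.1.ι ≫ p ≫ colimit.desc Φ cc = k.1.ι ≫ s.π
    rw [reassoc_of% (hp k), colimit.ι_desc]
    exact hm k
  · refine colimit.hom_ext fun k => (isQ_q G k).hom_ext ?_
    rw [colimit.ι_desc]
    show q G k ≫ c k ≫ l = q G k ≫ m k
    rw [hm, ← reassoc_of% (hp k)]
    exact congrArg (k.1.ι ≫ ·) hl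

variable {G} {Y : Scheme.{u}} {p : G.U ⟶ Y} (C : Chart G p)

theorem Chart.apply (k : J G) (x : k.1.toScheme) : p x.1 = C.c k (q G k x) :=
  congrArg (fun m : k.1.toScheme ⟶ Y => m x) (C.fac k)

theorem Chart.isPullback (k : J G) : IsPullback (q G k) k.1.ι (C.c k) p := by
  haveI := C.open_ k
  exact IsOpenImmersion.isPullback _ _ _ _ (C.fac k) (by rw [C.preimage k, Scheme.Opens.opensRange_ι])

include C in
theorem Chart.local_prop {Q : MorphismProperty Scheme.{u}} [IsZariskiLocalAtTarget Q] (h : ∀ k, Q (q G k)) : Q p := by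
  haveI := C.open_
  refine IsZariskiLocalAtTarget.of_iSup_eq_top (P := Q) (fun k => (C.c k).opensRange)
    (eq_top_iff.2 fun y _ => Opens.mem_iSup.2 (C.cover y)) fun k => ?_
  rw [Q.arrow_mk_iso_iff (morphismRestrictOpensRange p (C.c k)), ← (C.isPullback k).flip.isoPullback_inv_snd]
  exact (Q.cancel_left_of_respectsIso _ _).2 (h k)

include C in
theorem Chart.surjective : Function.Surjective p := fun y => by
  obtain ⟨k, z, rfl⟩ := C.cover y
  obtain ⟨x, rfl⟩ := (isQ_q G k).surj z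
  exact ⟨x.1, C.apply k x⟩

include C in
theorem Chart.orbit (x y : G.U) : p x = p y ↔ ∃ r : G.R, G.t r = x ∧ G.s r = y := by
  constructor
  · intro h
    obtain ⟨k, hk⟩ := C.coverU x
    haveI := C.open_ k
    have hy : y ∈ k.1 := by
      rw [← C.preimage k]
      exact ⟨q G k ⟨x, hk⟩, (C.apply k ⟨x, hk⟩).symm.trans h⟩
    refine ((isQ_q G k).orbit ⟨x, hk⟩ ⟨y, hy⟩).1 ((C.c k).isOpenEmbedding.injective ?_)
    rw [← C.apply k ⟨x, hk⟩, ← C.apply k ⟨y, hy⟩]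
    exact h
  · rintro ⟨r, rfl, rfl⟩
    rw [← Scheme.Hom.comp_apply, C.w]; rfl

end

end Groth.Agent.H9GrpdCoeqGlue

namespace Groth.Agent.H9GrpdCoeqGlue

open Groth.Agent.H9GrpdCoeq

variable {S : Scheme.{u}} {G : Grpd.GroupoidScheme S}

theorem hV_of_image (hb : ∀ x : G.U, ∃ V : G.U.Opens, IsAffineOpen V ∧ G.t.base '' (G.s.base ⁻¹' {x}) ⊆ (V : Set G.U))
    (x : G.U) : ∃ V : G.U.Opens, IsAffineOpen V ∧ ∀ r : G.R, G.s r = x → G.t r ∈ V := by
  obtain ⟨V, hV, hsub⟩ := hb x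
  exact ⟨V, hV, fun r hr => hsub ⟨r, hr, rfl⟩⟩

variable [IsFinite G.s] [Flat G.s] [LocallyOfFinitePresentation G.s] {Y : Scheme.{u}} {p : G.U ⟶ Y}

theorem Chart.integral (C : Chart G p) : IsIntegralHom p := C.local_prop fun k => (isQ_q G k).integral

theorem Chart.isOpenMap (C : Chart G p) : IsOpenMap p := fun O hO => by
  haveI := C.integral
  rw [← (p.isClosedMap.isQuotientMap p.continuous C.surjective).isOpen_preimage]
  have : p ⁻¹' (p '' O) = G.s '' (G.t ⁻¹' O) := by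
    ext x
    constructor
    · rintro ⟨y, hy, e⟩
      obtain ⟨r, hr1, hr2⟩ := (C.orbit y x).1 e
      exact ⟨r, show G.t r ∈ O from hr1 ▸ hy, hr2⟩
    · rintro ⟨r, hr, rfl⟩
      exact ⟨G.t r, hr, (C.orbit _ _).2 ⟨r, rfl, rfl⟩⟩
  rw [this]
  exact G.s.isOpenMap _ (hO.preimage G.t.continuous)

theorem Chart.isAffine (C : Chart G p) [IsAffine G.U] : IsAffine Y := by
  let k : J G := ⟨⊤, isAffineOpen_top _, by simp⟩
  haveI := C.open_ k
  have htop : (C.c k).opensRange = ⊤ := by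
    rw [eq_top_iff]
    intro y _
    obtain ⟨x, rfl⟩ := C.surjective y
    show x ∈ p ⁻¹ᵁ (C.c k).opensRange
    rw [C.preimage k]; trivial
  haveI : IsIso (C.c k) := by
    haveI : Epi (C.c k).base := (TopCat.epi_iff_surjective _).2 fun y => htop.ge (show y ∈ (⊤ : Y.Opens) from trivial)
    exact IsOpenImmersion.isIso _
  exact IsAffine.of_isIso (inv (C.c k))

theorem Chart.arrow_of_eq (C : Chart G p) {K : Type u} [Field K] [IsAlgClosed K] (x₀ x₁ : Spec (CommRingCat.of K) ⟶ G.U)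
    (h01 : x₀ ≫ p = x₁ ≫ p) : ∃ r : Spec (CommRingCat.of K) ⟶ G.R, r ≫ G.t = x₀ ∧ r ≫ G.s = x₁ := by
  obtain ⟨k, hk⟩ := C.coverU (x₀ default)
  haveI := C.open_ k
  have hk' : x₁ default ∈ k.1 := by
    rw [← C.preimage k]
    show p (x₁ default) ∈ (C.c k).opensRange
    rw [← Scheme.Hom.comp_apply, ← h01, Scheme.Hom.comp_apply]
    exact (C.preimage k).ge hk
  let a := IsOpenImmersion.lift k.1.ι x₀ (by
    rw [Scheme.Opens.range_ι]; rintro _ ⟨w, rfl⟩; rw [Subsingleton.elim w default]; exact hk)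
  let b := IsOpenImmersion.lift k.1.ι x₁ (by
    rw [Scheme.Opens.range_ι]; rintro _ ⟨w, rfl⟩; rw [Subsingleton.elim w default]; exact hk')
  have ha : a ≫ k.1.ι = x₀ := IsOpenImmersion.lift_fac _ _ _
  have hb : b ≫ k.1.ι = x₁ := IsOpenImmersion.lift_fac _ _ _
  haveI : IsAffine (GW G k).U := k.2.1
  haveI : IsAffine (GW G k).R := H9GrpdRestrict.isAffine_R G k.1 k.2.2 k.2.1
  obtain ⟨h1, h2, h3⟩ := H9GrpdRestrict.restrict_s_props G k.1 k.2.2
  haveI := h1; haveI := h2; haveI := h3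
  have hab : a ≫ (GW G k).toQuot = b ≫ (GW G k).toQuot := by
    show a ≫ q G k = b ≫ q G k
    rw [← cancel_mono (C.c k), Category.assoc, Category.assoc, ← C.fac k, reassoc_of% ha, reassoc_of% hb, h01]
  obtain ⟨r, hrt, hrs⟩ := H9GrpdQuot.arrow_of_comp_eq (GW G k) a b hab
  refine ⟨r ≫ (G.s ⁻¹ᵁ k.1).ι, ?_, ?_⟩
  · rw [← ha, ← hrt, Category.assoc, Category.assoc]
    exact congrArg (r ≫ ·) (H9GrpdRestrict.tW_ι G k.1 k.2.2).symm
  · rw [← hb, ← hrs, Category.assoc, Category.assoc]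
    exact congrArg (r ≫ ·) (H9GrpdRestrict.sW_ι G k.1).symm

theorem Chart.lift_surjective (C : Chart G p) : Function.Surjective (pullback.lift G.t G.s C.w).base := fun z => by
  let K := AlgebraicClosure ((pullback p p).residueField z)
  let ζ : Spec (CommRingCat.of K) ⟶ pullback p p :=
    Spec.map (CommRingCat.ofHom (algebraMap ((pullback p p).residueField z) K) : (pullback p p).residueField z ⟶ CommRingCat.of K) ≫
      (pullback p p).fromSpecResidueField z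
  have hζ : ∀ w, ζ w = z := fun w => by rw [Scheme.Hom.comp_apply]; exact Scheme.fromSpecResidueField_apply z _
  obtain ⟨r, e1, e2⟩ := C.arrow_of_eq (ζ ≫ pullback.fst p p) (ζ ≫ pullback.snd p p) (by simp [pullback.condition])
  have : r ≫ pullback.lift G.t G.s C.w = ζ := pullback.hom_ext (by simp [e1]) (by simp [e2])
  refine ⟨r default, ?_⟩
  exact ((Scheme.Hom.comp_apply r _ default).symm.trans (congrArg (fun m : Spec (CommRingCat.of K) ⟶ pullback p p => m default) this)).trans (hζ default)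

theorem coeq_exists (hb : ∀ x : G.U, ∃ V : G.U.Opens, IsAffineOpen V ∧ G.t.base '' (G.s.base ⁻¹' {x}) ⊆ (V : Set G.U)) :
    ∃ (Y : Scheme.{u}) (p : G.U ⟶ Y) (w : G.t ≫ p = G.s ≫ p),
      Nonempty (IsColimit (Cofork.ofπ p w)) ∧ IsIntegralHom p ∧ Surjective p ∧ IsOpenMap p.base ∧
        (∀ x y : G.U, p.base x = p.base y ↔ ∃ r : G.R, G.t.base r = x ∧ G.s.base r = y) ∧
        Function.Surjective (pullback.lift G.t G.s w).base ∧ (IsAffine G.U → IsAffine Y) := by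
  obtain ⟨Y, p, ⟨C⟩⟩ := exists_chart G (hV_of_image hb)
  exact ⟨Y, p, C.w, C.isColimit, C.integral, ⟨C.surjective⟩, C.isOpenMap, C.orbit, C.lift_surjective, fun _ => C.isAffine⟩

section Mono

variable [Mono G.j]

theorem main_GW (k : J G) : (IsFinite (q G k) ∧ Flat (q G k) ∧ LocallyOfFinitePresentation (q G k)) ∧
    IsPullback (GW G k).t (GW G k).s (q G k) (q G k) := by
  haveI : IsAffine (GW G k).U := k.2.1
  haveI : IsAffine (GW G k).R := H9GrpdRestrict.isAffine_R G k.1 k.2.2 k.2.1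
  obtain ⟨h1, h2, h3⟩ := H9GrpdRestrict.restrict_s_props G k.1 k.2.2
  haveI := h1; haveI := h2; haveI := h3
  haveI := H9GrpdRestrict.mono_j G k.1 k.2.2
  exact H9GrpdFiniteFlat.main (GW G k)

theorem Chart.finLocFree (C : Chart G p) : Mor2.IsFinLocFree p :=
  ⟨C.local_prop fun k => (main_GW k).1.1, C.local_prop fun k => (main_GW k).1.2.1, C.local_prop fun k => (main_GW k).1.2.2⟩

theorem unique_arrow {T : Scheme.{u}} (r r' : T ⟶ G.R) (ht : r ≫ G.t = r' ≫ G.t) (hs : r ≫ G.s = r' ≫ G.s) : r = r' := by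
  rw [← cancel_mono G.j]
  apply pullback.hom_ext
  · simpa [Grpd.GroupoidScheme.j] using ht
  · simpa [Grpd.GroupoidScheme.j] using hs

theorem Chart.isPullback_ts (C : Chart G p) (hV : ∀ x : G.U, ∃ V : G.U.Opens, IsAffineOpen V ∧ ∀ r : G.R, G.s r = x → G.t r ∈ V) :
    IsPullback G.t G.s p p := by
  refine IsPullback.of_isLimit' ⟨C.w⟩ ?_
  have hex : ∀ s : PullbackCone p p, ∃ r : s.pt ⟶ G.R, r ≫ G.t = s.fst ∧ r ≫ G.s = s.snd := fun s => by
    let O : J G → s.pt.Opens := fun k => s.fst ⁻¹ᵁ k.1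
    have hsnd : ∀ k, O k ≤ s.snd ⁻¹ᵁ k.1 := fun k w hw => by
      haveI := C.open_ k
      rw [← C.preimage k]
      show p (s.snd w) ∈ (C.c k).opensRange
      rw [← Scheme.Hom.comp_apply, ← s.condition, Scheme.Hom.comp_apply]
      exact (C.preimage k).ge hw
    have hloc : ∀ k, ∃ r : (O k).toScheme ⟶ G.R, r ≫ G.t = (O k).ι ≫ s.fst ∧ r ≫ G.s = (O k).ι ≫ s.snd := fun k => by
      let a := IsOpenImmersion.lift k.1.ι ((O k).ι ≫ s.fst) (by
        rw [Scheme.Opens.range_ι]; rintro _ ⟨w, rfl⟩; exact w.2)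
      let b := IsOpenImmersion.lift k.1.ι ((O k).ι ≫ s.snd) (by
        rw [Scheme.Opens.range_ι]; rintro _ ⟨w, rfl⟩; exact hsnd k w.2)
      have ha : a ≫ k.1.ι = (O k).ι ≫ s.fst := IsOpenImmersion.lift_fac _ _ _
      have hb : b ≫ k.1.ι = (O k).ι ≫ s.snd := IsOpenImmersion.lift_fac _ _ _
      haveI := C.open_ k
      have hab : a ≫ q G k = b ≫ q G k := by
        rw [← cancel_mono (C.c k), Category.assoc, Category.assoc, ← C.fac k, reassoc_of% ha, reassoc_of% hb, s.condition]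
      obtain ⟨r, hrt, hrs⟩ := (main_GW k).2.exists_lift a b hab
      refine ⟨r ≫ (G.s ⁻¹ᵁ k.1).ι, ?_, ?_⟩
      · rw [← ha, ← hrt, Category.assoc, Category.assoc]
        exact congrArg (r ≫ ·) (H9GrpdRestrict.tW_ι G k.1 k.2.2).symm
      · rw [← hb, ← hrs, Category.assoc, Category.assoc]
        exact congrArg (r ≫ ·) (H9GrpdRestrict.sW_ι G k.1).symm
    choose r hrt hrs using hloc
    obtain ⟨g, hg⟩ := H6.UnivThick.exists_glue O (fun w => C.coverU (s.fst w)) (fun k k' => k.1 ≤ k'.1)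
      (fun k k' e => s.fst.preimage_mono e) (fun k k' w hw hw' => exists_le G hV k k' (s.fst w) hw hw') r
      (fun k k' e => unique_arrow _ _ (by simp [hrt]) (by simp [hrs]))
    refine ⟨g, Scheme.hom_ext_of_forall _ _ fun w => ?_, Scheme.hom_ext_of_forall _ _ fun w => ?_⟩
    · obtain ⟨k, hk⟩ := C.coverU (s.fst w)
      exact ⟨O k, hk, by rw [reassoc_of% (hg k), hrt]⟩
    · obtain ⟨k, hk⟩ := C.coverU (s.fst w)
      exact ⟨O k, hk, by rw [reassoc_of% (hg k), hrs]⟩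
  choose l hl1 hl2 using hex
  exact PullbackCone.IsLimit.mk _ l hl1 hl2 fun s m h1 h2 => unique_arrow _ _ (h1.trans (hl1 s).symm) (h2.trans (hl2 s).symm)

theorem isPullback_of_colimit (hb : ∀ x : G.U, ∃ V : G.U.Opens, IsAffineOpen V ∧ G.t.base '' (G.s.base ⁻¹' {x}) ⊆ (V : Set G.U))
    (Y' : Scheme.{u}) (p' : G.U ⟶ Y') (w : G.t ≫ p' = G.s ≫ p') (hc : IsColimit (Cofork.ofπ p' w)) :
    IsPullback G.t G.s p' p' ∧ Mor2.IsFinLocFree p' := by
  obtain ⟨Y, p, ⟨C⟩⟩ := exists_chart G (hV_of_image hb)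
  obtain ⟨hC⟩ := C.isColimit
  let e : Y ≅ Y' := IsColimit.coconePointUniqueUpToIso hC hc
  have he : p ≫ e.hom = p' := IsColimit.comp_coconePointUniqueUpToIso_hom hC hc WalkingParallelPair.one
  obtain ⟨h1, h2, h3⟩ := C.finLocFree
  refine ⟨(C.isPullback_ts (hV_of_image hb)).of_iso (Iso.refl _) (Iso.refl _) (Iso.refl _) e (by simp) (by simp) (by simp [he]) (by simp [he]),
    ?_, ?_, ?_⟩ <;> rw [← he]
  · exact MorphismProperty.comp_mem _ p e.hom h1 inferInstance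
  · exact MorphismProperty.comp_mem _ p e.hom h2 inferInstance
  · exact MorphismProperty.comp_mem _ p e.hom h3 inferInstance

end Mono

end Groth.Agent.H9GrpdCoeqGlue
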