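import Groth.Prelude.Def_Grpd
import Groth.Agent.Lib.H9Grpd
import Groth.Agent.Lib.H9GrpdCalc
import Mathlib

/-! Translations in groupoids over a field. -/

set_option autoImplicit false
set_option linter.all false
set_option synthInstance.maxHeartbeats 40000
set_option maxHeartbeats 400000
set_option backward.isDefEq.respectTransparency.types false
set_option backward.isDefEq.respectTransparency false

universe u

open AlgebraicGeometry CategoryTheory CategoryTheory.Limits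

namespace Groth.Agent.H9GrpdFieldTranslate

open Groth.Agent.H9Grpd Groth.Agent.H9GrpdCalc

variable {S : Scheme.{u}} (G : Grpd.GroupoidScheme S) {k : Type u} [Field k] (eU : G.U ≅ Spec (CommRingCat.of k))

include eU in
theorem subsingleton_U : Subsingleton G.U := eU.hom.homeomorph.subsingleton

include eU in
theorem universallyOpen_toU {Z : Scheme.{u}} (f : Z ⟶ G.U) : UniversallyOpen f := by
  haveI : Subsingleton (Spec (CommRingCat.of k)) := (inferInstance : Subsingleton (PrimeSpectrum k))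
  rw [← MorphismProperty.cancel_right_of_respectsIso @UniversallyOpen f eU.hom]
  infer_instance

/-- `(z, r) ↦ a(z) r` -/
noncomputable abbrev translate {Z : Scheme.{u}} (a : Z ⟶ G.R) : pullback (a ≫ G.s) G.t ⟶ G.R :=
  mul G (pullback.fst (a ≫ G.s) G.t ≫ a) (pullback.snd (a ≫ G.s) G.t) ((Category.assoc _ _ _).trans pullback.condition)

include eU in
theorem translate_isOpenMap {Z : Scheme.{u}} (a : Z ⟶ G.R) : IsOpenMap (translate G a).base := by
  let p := pullback.fst (a ≫ G.s) G.t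
  let p' := pullback.fst (a ≫ G.t) G.t
  have hm : translate G a ≫ G.t = p ≫ a ≫ G.t := by rw [mul_t, Category.assoc]
  let κ : pullback (a ≫ G.s) G.t ⟶ pullback (a ≫ G.t) G.t := pullback.lift p (translate G a) hm.symm
  have hc : ((p' ≫ a) ≫ G.i) ≫ G.s = pullback.snd (a ≫ G.t) G.t ≫ G.t := by
    rw [Category.assoc _ G.i, G.i_s, Category.assoc, pullback.condition]
  let κ' : pullback (a ≫ G.t) G.t ⟶ pullback (a ≫ G.s) G.t := pullback.lift p' (mul G ((p' ≫ a) ≫ G.i) (pullback.snd (a ≫ G.t) G.t) hc)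
    (by rw [mul_t, Category.assoc _ G.i, G.i_t, Category.assoc])
  have h1 : κ ≫ κ' = 𝟙 _ := by
    apply pullback.hom_ext
    · simp [κ, κ', p, p']
    · rw [Category.assoc, show κ' ≫ pullback.snd (a ≫ G.s) G.t = _ from pullback.lift_snd _ _ _, Category.id_comp]
      rw [comp_mul G κ _ _ hc (by rw [Category.assoc κ, hc, ← Category.assoc])]
      refine (mul_congr G (show κ ≫ (p' ≫ a) ≫ G.i = (p ≫ a) ≫ G.i by simp [κ, p, p']) (show κ ≫ pullback.snd (a ≫ G.t) G.t = translate G a from pullback.lift_snd _ _ _) _ ?_).trans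
        (inv_mul_mul_left G _ _ _ ?_) <;> rw [mul_t, Category.assoc _ G.i, G.i_s]
  have h2 : κ' ≫ κ = 𝟙 _ := by
    apply pullback.hom_ext
    · simp [κ, κ', p, p']
    · rw [Category.assoc, show κ ≫ pullback.snd (a ≫ G.t) G.t = _ from pullback.lift_snd _ _ _, Category.id_comp]
      rw [comp_mul G κ' _ _ _ (by rw [Category.assoc, Category.assoc, Category.assoc, pullback.condition])]
      refine (mul_congr G (show κ' ≫ pullback.fst (a ≫ G.s) G.t ≫ a = p' ≫ a by simp [κ', p, p']) (show κ' ≫ pullback.snd (a ≫ G.s) G.t = _ from pullback.lift_snd _ _ _) _ ?_).trans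
        (mul_inv_mul_left G _ _ hc ?_) <;> rw [mul_t, Category.assoc _ G.i, G.i_t]
  haveI : IsIso κ := ⟨κ', h1, h2⟩
  haveI := universallyOpen_toU G eU (a ≫ G.t)
  haveI : UniversallyOpen (pullback.snd (a ≫ G.t) G.t) := MorphismProperty.pullback_snd _ _ ‹_›
  have : translate G a = κ ≫ pullback.snd (a ≫ G.t) G.t := (pullback.lift_snd _ _ _).symm
  rw [this]
  exact (κ ≫ pullback.snd (a ≫ G.t) G.t).isOpenMap

include eU in
theorem isOpen_translate (W : G.R.Opens) {Z : Scheme.{u}} (a : Z ⟶ G.R) :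
    IsOpen (Set.range ⇑(pullback.lift (pullback.fst (a ≫ G.s) (W.ι ≫ G.t) ≫ a) (pullback.snd (a ≫ G.s) (W.ι ≫ G.t) ≫ W.ι) ((Category.assoc _ _ _).trans (pullback.condition.trans (Category.assoc _ _ _).symm)) ≫ G.c)) := by
  let ι' := pullback.map (a ≫ G.s) (W.ι ≫ G.t) (a ≫ G.s) G.t (𝟙 _) W.ι (𝟙 _) (by simp) (by simp)
  have e : pullback.lift (pullback.fst (a ≫ G.s) (W.ι ≫ G.t) ≫ a) (pullback.snd (a ≫ G.s) (W.ι ≫ G.t) ≫ W.ι) ((Category.assoc _ _ _).trans (pullback.condition.trans (Category.assoc _ _ _).symm)) ≫ G.c = ι' ≫ translate G a := by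
    rw [translate, comp_mul G ι' _ _ _ (by simp [ι', pullback.condition])]
    refine mul_congr G ?_ ?_ _ _ <;> simp [ι']
  haveI : IsOpenImmersion ι' := inferInstance
  rw [e, Scheme.Hom.comp_base, TopCat.coe_comp, Set.range_comp]
  exact translate_isOpenMap G eU a _ ι'.isOpenEmbedding.isOpen_range

include eU in
theorem isIso_fromSpec (u : G.U) : IsIso (G.U.fromSpecResidueField u) := by
  haveI := subsingleton_U G eU
  obtain ⟨x, ψ, hxψ⟩ : ∃ (x : G.U) (ψ : G.U.residueField x ⟶ CommRingCat.of k), Spec.map ψ ≫ G.U.fromSpecResidueField x = eU.inv :=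
    ⟨_, _, (Scheme.SpecToEquivOfField k G.U).symm_apply_apply eU.inv⟩
  obtain rfl : x = u := Subsingleton.elim _ _
  have hs : (eU.hom ≫ Spec.map ψ) ≫ G.U.fromSpecResidueField x = 𝟙 _ := by rw [Category.assoc, hxψ, eU.hom_inv_id]
  exact ⟨eU.hom ≫ Spec.map ψ, by rw [← cancel_mono (G.U.fromSpecResidueField x), Category.assoc, hs, Category.comp_id, Category.id_comp], hs⟩

include eU in
theorem exists_auto (r : G.R) (hs : IsIso (G.s.residueFieldMap r)) (ht : IsIso (G.t.residueFieldMap r)) (u : G.U) :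
    ∃ φ : G.R ≅ G.R, φ.hom (G.e u) = r := by
  haveI := hs; haveI := ht
  haveI := isIso_fromSpec G eU (G.s r)
  haveI := isIso_fromSpec G eU (G.t r)
  let y := G.R.fromSpecResidueField r
  haveI : IsIso (y ≫ G.s) := by
    rw [← Scheme.Hom.SpecMap_residueFieldMap_fromSpecResidueField]; infer_instance
  haveI : IsIso (y ≫ G.t) := by
    rw [← Scheme.Hom.SpecMap_residueFieldMap_fromSpecResidueField]; infer_instance
  let x : G.U ⟶ G.R := inv (y ≫ G.s) ≫ y
  have hxs : x ≫ G.s = 𝟙 _ := by simp [x]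
  let σ : G.U ⟶ G.U := x ≫ G.t
  haveI : IsIso σ := by
    have : σ = inv (y ≫ G.s) ≫ (y ≫ G.t) := Category.assoc _ _ _
    rw [this]; infer_instance
  have hc1 : (G.t ≫ x) ≫ G.s = 𝟙 G.R ≫ G.t := by rw [Category.assoc, hxs, Category.comp_id, Category.id_comp]
  let a := G.t ≫ inv σ ≫ x
  have ha : a ≫ G.t = G.t := by simp only [a, Category.assoc]; rw [show x ≫ G.t = σ from rfl, IsIso.inv_hom_id, Category.comp_id]
  have hc2 : (a ≫ G.i) ≫ G.s = 𝟙 G.R ≫ G.t := by rw [Category.assoc, G.i_s, ha, Category.id_comp]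
  let f := mul G (G.t ≫ x) (𝟙 _) hc1
  let g := mul G (a ≫ G.i) (𝟙 _) hc2
  have hft : f ≫ G.t = G.t ≫ σ := by simp only [f, mul_t, Category.assoc]; rfl
  have hgt : g ≫ G.t = G.t ≫ inv σ := by
    simp only [g, mul_t, Category.assoc, G.i_t]; simp [a, Category.assoc, hxs]
  have h1 : f ≫ g = 𝟙 _ := by
    rw [comp_mul G f _ _ hc2 (by rw [Category.assoc f, hc2, ← Category.assoc])]
    have e1 : f ≫ a ≫ G.i = (G.t ≫ x) ≫ G.i := by
      simp only [a, Category.assoc]; rw [reassoc_of% hft, IsIso.hom_inv_id_assoc]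
    refine (mul_congr G e1 (Category.comp_id f) _ ?_).trans (inv_mul_mul_left G _ _ hc1 ?_) <;>
      rw [mul_t, Category.assoc _ G.i, G.i_s]
  have h2 : g ≫ f = 𝟙 _ := by
    rw [comp_mul G g _ _ hc1 (by rw [Category.assoc g, hc1, ← Category.assoc])]
    have e1 : g ≫ G.t ≫ x = a := by rw [reassoc_of% hgt]
    refine (mul_congr G e1 (Category.comp_id g) _ ?_).trans (mul_inv_mul_left G _ _ hc2 ?_) <;>
      rw [mul_t, Category.assoc _ G.i, G.i_t]
  refine ⟨⟨f, g, h1, h2⟩, ?_⟩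
  have he : G.e ≫ f = x := by
    rw [comp_mul G G.e _ _ hc1 (by rw [Category.assoc G.e, hc1, ← Category.assoc])]
    refine (mul_congr G (show G.e ≫ G.t ≫ x = x by rw [reassoc_of% G.e_t]) (show G.e ≫ 𝟙 _ = x ≫ G.s ≫ G.e by rw [Category.comp_id, reassoc_of% hxs]) _ ?_).trans (G.comp_e x)
    simp [G.e_t]
  show f (G.e u) = r
  rw [← Scheme.Hom.comp_apply, he, Scheme.Hom.comp_apply]
  exact Scheme.fromSpecResidueField_apply r _

variable {G} {G₁ : Grpd.GroupoidScheme S} (φ : Grpd.GroupoidScheme.Hom G₁ G)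

theorem map_mul' {T : Scheme.{u}} (α β : T ⟶ G₁.R) (h : α ≫ G₁.s = β ≫ G₁.t)
    (h' : (α ≫ φ.fR) ≫ G.s = (β ≫ φ.fR) ≫ G.t) : mul G₁ α β h ≫ φ.fR = mul G (α ≫ φ.fR) (β ≫ φ.fR) h' :=
  φ.comm_c α β h

theorem map_e : G₁.e ≫ φ.fR = φ.fU ≫ G.e := by
  let g := G₁.e ≫ φ.fR
  have hs : g ≫ G.s = φ.fU := by simp only [g, Category.assoc, φ.comm_s]; rw [reassoc_of% G₁.e_s]
  have ht : g ≫ G.t = φ.fU := by simp only [g, Category.assoc, φ.comm_t]; rw [reassoc_of% G₁.e_t]
  have h0 : G₁.e ≫ G₁.s = G₁.e ≫ G₁.t := by rw [G₁.e_s, G₁.e_t]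
  have hgg : g ≫ G.s = g ≫ G.t := hs.trans ht.symm
  have hidem : mul G g g hgg = g := by
    rw [← map_mul' φ G₁.e G₁.e h0 hgg]
    refine congrArg (· ≫ φ.fR) ((mul_congr G₁ rfl ?_ _ ?_).trans (G₁.comp_e G₁.e))
    · rw [reassoc_of% G₁.e_s]
    · rw [Category.assoc, Category.assoc, G₁.e_t, Category.comp_id]
  have h1 : mul G g g hgg ≫ G.s = (g ≫ G.i) ≫ G.t := by rw [mul_s, Category.assoc g G.i, G.i_t]
  refine (mul_mul_inv G g g hgg h1).symm.trans ((mul_congr G hidem rfl h1 (by rw [Category.assoc g G.i, G.i_t])).trans ?_)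
  refine (G.comp_i g).trans ?_
  rw [← Category.assoc, ht]

theorem map_i : G₁.i ≫ φ.fR = φ.fR ≫ G.i := by
  have h0 : 𝟙 _ ≫ G₁.s = G₁.i ≫ G₁.t := by rw [Category.id_comp, G₁.i_t]
  have h' : φ.fR ≫ G.s = (G₁.i ≫ φ.fR) ≫ G.t := by rw [Category.assoc, φ.comm_t, φ.comm_s, reassoc_of% G₁.i_t]
  have hm : mul G φ.fR (G₁.i ≫ φ.fR) h' = φ.fR ≫ G.t ≫ G.e := by
    rw [mul_congr G (Category.id_comp φ.fR).symm rfl h' (by rw [Category.id_comp]; exact h'), ← map_mul' φ (𝟙 _) G₁.i h0]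
    have := G₁.comp_i (𝟙 G₁.R)
    simp only [Category.id_comp] at this
    rw [show mul G₁ (𝟙 G₁.R) G₁.i h0 = G₁.t ≫ G₁.e from this, Category.assoc, map_e φ, reassoc_of% φ.comm_t]
  refine (inv_mul_mul_left G φ.fR (G₁.i ≫ φ.fR) h' (by rw [mul_t, Category.assoc, G.i_s])).symm.trans ?_
  refine (mul_congr G rfl hm _ ?_).trans ?_
  · rw [Category.assoc, G.i_s, Category.assoc, Category.assoc, G.e_t, Category.comp_id]
  · refine (mul_congr G rfl ?_ _ ?_).trans (G.comp_e (φ.fR ≫ G.i))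
    · rw [Category.assoc, reassoc_of% G.i_s]
    · simp [G.e_t]

theorem exists_lift_range {X Y : Scheme.{u}} (f : X ⟶ Y) {T : Scheme.{u}} (b : T ⟶ Y) (p : T) (h : b p ∈ Set.range f) :
    ∃ (L : Type u) (_ : Field L) (l : Spec (CommRingCat.of L) ⟶ T) (b' : Spec (CommRingCat.of L) ⟶ X), b' ≫ f = l ≫ b ∧ l (IsLocalRing.closedPoint L) = p := by
  obtain ⟨x, hx⟩ := h
  obtain ⟨q, hq1, hq2⟩ := Scheme.Pullback.exists_preimage_pullback (f := f) (g := b) x p hx
  refine ⟨(pullback f b).residueField q, inferInstance, (pullback f b).fromSpecResidueField q ≫ pullback.snd f b,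
    (pullback f b).fromSpecResidueField q ≫ pullback.fst f b, by simp [pullback.condition], ?_⟩
  exact ((Scheme.Hom.comp_apply _ _ _).trans (congrArg (pullback.snd f b) (Scheme.fromSpecResidueField_apply q _))).trans hq2

include eU in
theorem isClosed_range_of_isOpen [IsIso φ.fU] (hopen : IsOpen (Set.range ⇑φ.fR)) : IsClosed (Set.range ⇑φ.fR) := by
  haveI := subsingleton_U G eU
  rw [← isOpen_compl_iff, isOpen_iff_forall_mem_open]
  intro r hr
  let a := G.R.fromSpecResidueField r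
  let H : Set G.R := Set.range ⇑φ.fR
  let P := pullback (a ≫ G.s) G.t
  let O : Set P := (pullback.snd (a ≫ G.s) G.t).base ⁻¹' H
  refine ⟨(translate G a).base '' O, ?_, translate_isOpenMap G eU a _ (hopen.preimage (pullback.snd (a ≫ G.s) G.t).continuous), ?_⟩
  · rintro _ ⟨p, hp, rfl⟩ hmem
    obtain ⟨L₀, _, l₀, β₀, hβ₀, hl₀⟩ := exists_lift_range φ.fR (pullback.snd (a ≫ G.s) G.t) p hp
    obtain ⟨L, _, l₁, γ₁, hγ₁, hl₁⟩ := exists_lift_range φ.fR (l₀ ≫ translate G a) (IsLocalRing.closedPoint L₀)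
      (by rw [Scheme.Hom.comp_apply, hl₀]; exact hmem)
    let l := l₁ ≫ l₀
    let β₁ := l₁ ≫ β₀
    have hβ : β₁ ≫ φ.fR = l ≫ pullback.snd (a ≫ G.s) G.t := by simp only [β₁, l, Category.assoc, hβ₀]
    have hγ : γ₁ ≫ φ.fR = l ≫ translate G a := by rw [hγ₁]; exact (Category.assoc _ _ _).symm
    let α := l ≫ pullback.fst (a ≫ G.s) G.t ≫ a
    have hαβ : α ≫ G.s = (β₁ ≫ φ.fR) ≫ G.t := by rw [hβ]; simp [α, pullback.condition]
    have hmul : γ₁ ≫ φ.fR = mul G α (β₁ ≫ φ.fR) hαβ := by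
      rw [hγ, translate, comp_mul G l _ _ _ (by simp [pullback.condition])]
      exact mul_congr G rfl hβ.symm _ _
    have hsame : γ₁ ≫ G₁.s = β₁ ≫ G₁.s := by
      rw [← cancel_mono φ.fU, Category.assoc, Category.assoc, ← φ.comm_s, ← Category.assoc, hmul, mul_s, Category.assoc, φ.comm_s]
    have hd : γ₁ ≫ G₁.s = (β₁ ≫ G₁.i) ≫ G₁.t := cond_div G₁ hsame
    let δ := mul G₁ γ₁ (β₁ ≫ G₁.i) hd
    have hδ : δ ≫ φ.fR = α := by
      have h' : (γ₁ ≫ φ.fR) ≫ G.s = ((β₁ ≫ G₁.i) ≫ φ.fR) ≫ G.t := by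
        simp only [Category.assoc, φ.comm_s, φ.comm_t]; rw [reassoc_of% hd]
      rw [map_mul' φ γ₁ _ hd h']
      refine (mul_congr G hmul (show (β₁ ≫ G₁.i) ≫ φ.fR = (β₁ ≫ φ.fR) ≫ G.i by rw [Category.assoc β₁, map_i φ, ← Category.assoc]) h' ?_).trans
        (mul_mul_inv G α (β₁ ≫ φ.fR) hαβ ?_) <;> rw [mul_s, Category.assoc _ G.i, G.i_t]
    refine hr ⟨δ (IsLocalRing.closedPoint L), ?_⟩
    rw [← Scheme.Hom.comp_apply, hδ]
    simp only [α, Scheme.Hom.comp_apply]
    exact Scheme.fromSpecResidueField_apply r _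
  · have hc : 𝟙 _ ≫ a ≫ G.s = (a ≫ G.s ≫ G.e) ≫ G.t := by simp [G.e_t]
    let z : Spec (G.R.residueField r) ⟶ P := pullback.lift (𝟙 _) (a ≫ G.s ≫ G.e) hc
    refine ⟨z (IsLocalRing.closedPoint _), ?_, ?_⟩
    · show pullback.snd (a ≫ G.s) G.t (z (IsLocalRing.closedPoint _)) ∈ H
      rw [← Scheme.Hom.comp_apply, pullback.lift_snd]
      simp only [Scheme.Hom.comp_apply]
      obtain ⟨u₁, hu₁⟩ := φ.fU.surjective (G.s (a (IsLocalRing.closedPoint _)))
      exact ⟨G₁.e u₁, by rw [← Scheme.Hom.comp_apply, map_e φ, Scheme.Hom.comp_apply, hu₁]⟩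
    · show translate G a (z (IsLocalRing.closedPoint _)) = r
      have e : z ≫ translate G a = a := by
        rw [translate, comp_mul G z _ _ _ (by simp [z, G.e_t])]
        exact (mul_congr G (show _ = a by simp [z]; exact Category.id_comp a) (by simp [z]) _ (by simp [G.e_t])).trans (G.comp_e a)
      rw [← Scheme.Hom.comp_apply, e]
      exact Scheme.fromSpecResidueField_apply r _

end Groth.Agent.H9GrpdFieldTranslate
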