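import Groth.Prelude.Def_Grpd
import Groth.Agent.Lib.H9Grpd
import Groth.Agent.Lib.H9GrpdCalc
import Groth.Agent.Lib.H9GrpdFieldTranslate
import Mathlib

/-! Closures of subgroupoids over a field. -/

set_option autoImplicit false
set_option linter.all false
set_option synthInstance.maxHeartbeats 40000
set_option maxHeartbeats 400000
set_option backward.isDefEq.respectTransparency.types false
set_option backward.isDefEq.respectTransparency false

universe u

open AlgebraicGeometry CategoryTheory CategoryTheory.Limits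

namespace Groth.Agent.H9GrpdFieldClosure

open Groth.Agent.H9Grpd Groth.Agent.H9GrpdCalc Groth.Agent.H9GrpdFieldTranslate

theorem mem_closure_pair {A B W : Scheme.{u}} (f : A ⟶ W) (g : B ⟶ W)
    (hW : ∀ {Z : Scheme.{u}} (h : Z ⟶ W), UniversallyOpen h) (HA : Set A) (HB : Set B) (p : ↑(pullback f g))
    (h₁ : pullback.fst f g p ∈ closure HA) (h₂ : pullback.snd f g p ∈ closure HB) :
    p ∈ closure ((pullback.fst f g).base ⁻¹' HA ∩ (pullback.snd f g).base ⁻¹' HB) := by
  rw [mem_closure_iff]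
  intro N hN hpN
  let Zc : TopologicalSpace.Closeds B := ⟨closure HB, isClosed_closure⟩
  let ι := (Scheme.IdealSheafData.vanishingIdeal Zc).subschemeι
  have hι : Set.range ι = closure HB := by
    rw [Scheme.IdealSheafData.range_subschemeι, Scheme.IdealSheafData.coe_support_vanishingIdeal]
    rfl
  obtain ⟨z, hz⟩ : pullback.snd f g p ∈ Set.range ι := by rw [hι]; exact h₂
  let m : pullback f (ι ≫ g) ⟶ pullback f g := pullback.map f (ι ≫ g) f g (𝟙 _) ι (𝟙 _) (by simp) (by simp)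
  have hmsq : IsPullback m (pullback.snd f (ι ≫ g)) (pullback.snd f g) ι := by
    refine IsPullback.of_right ?_ (pullback.lift_snd _ _ _) (IsPullback.of_hasPullback f g)
    rw [show m ≫ pullback.fst f g = pullback.fst f (ι ≫ g) by simp [m]]
    exact IsPullback.of_hasPullback f (ι ≫ g)
  obtain ⟨q₀, hq₀, -⟩ := Scheme.Pullback.exists_preimage_pullback (f := pullback.snd f g) (g := ι) p z hz.symm
  let q := hmsq.isoPullback.inv q₀
  have hq : m q = p := by
    rw [← hq₀, ← Scheme.Hom.comp_apply, hmsq.isoPullback_inv_fst]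
  haveI := hW (ι ≫ g)
  have ho : IsOpenMap (pullback.fst f (ι ≫ g)).base := by
    haveI : UniversallyOpen (pullback.fst f (ι ≫ g)) := MorphismProperty.pullback_fst _ _ ‹_›
    exact (pullback.fst f (ι ≫ g)).isOpenMap
  obtain ⟨a, ⟨q₁, hq₁N, hq₁⟩, ha⟩ := mem_closure_iff.1 h₁ _ (ho _ (hN.preimage m.continuous))
    ⟨q, by show m q ∈ N; rw [hq]; exact hpN, ((congrArg (pullback.fst f g) hq).symm.trans ((Scheme.Hom.comp_apply m (pullback.fst f g) q).symm.trans (congrArg (fun n : pullback f (ι ≫ g) ⟶ A => n q) (show m ≫ pullback.fst f g = pullback.fst f (ι ≫ g) by simp [m])))).symm⟩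
  let p₁ := m q₁
  have hp₁f : pullback.fst f g p₁ = a := by
    rw [← hq₁, ← Scheme.Hom.comp_apply, show m ≫ pullback.fst f g = pullback.fst f (ι ≫ g) by simp [m]]
  have hp₁s : pullback.snd f g p₁ ∈ closure HB := by
    rw [← hι, ← Scheme.Hom.comp_apply, hmsq.w]
    exact ⟨_, (Scheme.Hom.comp_apply _ _ _).symm⟩
  let l := A.fromSpecResidueField a
  let m' : pullback (l ≫ f) g ⟶ pullback f g := pullback.map (l ≫ f) g f g l (𝟙 _) (𝟙 _) (by simp) (by simp)
  have hm'sq : IsPullback (pullback.fst (l ≫ f) g) m' l (pullback.fst f g) := by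
    refine IsPullback.of_bot ?_ (pullback.lift_fst _ _ _).symm (IsPullback.of_hasPullback f g)
    rw [show m' ≫ pullback.snd f g = pullback.snd (l ≫ f) g by simp [m']]
    exact IsPullback.of_hasPullback (l ≫ f) g
  obtain ⟨q₂', -, hq₂'⟩ := Scheme.Pullback.exists_preimage_pullback (f := l) (g := pullback.fst f g) (IsLocalRing.closedPoint _) p₁
    ((Scheme.fromSpecResidueField_apply a _).trans hp₁f.symm)
  let q₂ := hm'sq.isoPullback.inv q₂'
  have hq₂ : m' q₂ = p₁ := by rw [← hq₂', ← Scheme.Hom.comp_apply, hm'sq.isoPullback_inv_snd]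
  haveI := hW (l ≫ f)
  have ho' : IsOpenMap (pullback.snd (l ≫ f) g).base := by
    haveI : UniversallyOpen (pullback.snd (l ≫ f) g) := MorphismProperty.pullback_snd _ _ ‹_›
    exact (pullback.snd (l ≫ f) g).isOpenMap
  obtain ⟨b, ⟨q₃, hq₃N, hq₃⟩, hb⟩ := mem_closure_iff.1 hp₁s _ (ho' _ (hN.preimage m'.continuous))
    ⟨q₂, by show m' q₂ ∈ N; rw [hq₂]; exact hq₁N, ((congrArg (pullback.snd f g) hq₂).symm.trans ((Scheme.Hom.comp_apply m' (pullback.snd f g) q₂).symm.trans (congrArg (fun n : pullback (l ≫ f) g ⟶ B => n q₂) (show m' ≫ pullback.snd f g = pullback.snd (l ≫ f) g by simp [m'])))).symm⟩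
  refine ⟨m' q₃, hq₃N, ?_, ?_⟩
  · show pullback.fst f g (m' q₃) ∈ HA
    rw [← Scheme.Hom.comp_apply, show m' ≫ pullback.fst f g = pullback.fst (l ≫ f) g ≫ l by simp [m'], Scheme.Hom.comp_apply,
      show l _ = a from Scheme.fromSpecResidueField_apply a _]
    exact ha
  · show pullback.snd f g (m' q₃) ∈ HB
    rw [← Scheme.Hom.comp_apply, show m' ≫ pullback.snd f g = pullback.snd (l ≫ f) g by simp [m'], hq₃]
    exact hb

variable {S : Scheme.{u}} {G : Grpd.GroupoidScheme S} {k : Type u} [Field k] (eU : G.U ≅ Spec (CommRingCat.of k))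
  {G₁ : Grpd.GroupoidScheme S} (φ : Grpd.GroupoidScheme.Hom G₁ G) [IsIso φ.fU]

theorem comp_mem_range (p : ↑(pullback G.s G.t)) (h₁ : pullback.fst G.s G.t p ∈ Set.range φ.fR)
    (h₂ : pullback.snd G.s G.t p ∈ Set.range φ.fR) : G.c p ∈ Set.range φ.fR := by
  obtain ⟨L₀, _, l₀, α₀, hα₀, hl₀⟩ := exists_lift_range φ.fR (pullback.fst G.s G.t) p h₁
  obtain ⟨L, _, l₁, β, hβ, hl₁⟩ := exists_lift_range φ.fR (l₀ ≫ pullback.snd G.s G.t) (IsLocalRing.closedPoint L₀)
    (by rw [Scheme.Hom.comp_apply, hl₀]; exact h₂)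
  obtain ⟨α, hαd⟩ : ∃ α, α = l₁ ≫ α₀ := ⟨_, rfl⟩
  obtain ⟨l, hld⟩ : ∃ l, l = l₁ ≫ l₀ := ⟨_, rfl⟩
  have hα : α ≫ φ.fR = l ≫ pullback.fst G.s G.t := by simp only [hαd, hld, Category.assoc, hα₀]
  have hβ' : β ≫ φ.fR = l ≫ pullback.snd G.s G.t := by rw [hβ, hld]; exact (Category.assoc _ _ _).symm
  have hc : α ≫ G₁.s = β ≫ G₁.t := by
    rw [← cancel_mono φ.fU, Category.assoc, Category.assoc, ← φ.comm_s, ← φ.comm_t, ← Category.assoc, hα, ← Category.assoc, hβ']
    simp [pullback.condition]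
  refine ⟨(mul G₁ α β hc) (IsLocalRing.closedPoint L), ?_⟩
  have e : mul G₁ α β hc ≫ φ.fR = l ≫ G.c := by
    rw [map_mul' φ α β hc (by rw [hα, hβ']; simp [pullback.condition]), comp_c]
    exact mul_congr G hα hβ' _ _
  rw [← Scheme.Hom.comp_apply, e, Scheme.Hom.comp_apply]
  congr 1
  simp only [hld, Scheme.Hom.comp_apply, hl₁, hl₀]

include eU in
theorem comp_mem_closure (p : ↑(pullback G.s G.t)) (h₁ : pullback.fst G.s G.t p ∈ closure (Set.range φ.fR))
    (h₂ : pullback.snd G.s G.t p ∈ closure (Set.range φ.fR)) : G.c p ∈ closure (Set.range φ.fR) :=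
  map_mem_closure G.c.continuous (mem_closure_pair G.s G.t (fun h => universallyOpen_toU G eU h) _ _ p h₁ h₂)
    fun q hq => comp_mem_range φ q hq.1 hq.2

theorem inv_mem_closure (x : G.R) (h : x ∈ closure (Set.range φ.fR)) : G.i x ∈ closure (Set.range φ.fR) := by
  refine map_mem_closure G.i.continuous h ?_
  rintro _ ⟨y, rfl⟩
  exact ⟨G₁.i y, by rw [← Scheme.Hom.comp_apply, map_i φ, Scheme.Hom.comp_apply]⟩

include eU in
theorem isClosed_range_of_isLocallyClosed (hlc : IsLocallyClosed (Set.range ⇑φ.fR)) : IsClosed (Set.range ⇑φ.fR) := by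
  haveI := subsingleton_U G eU
  refine isClosed_of_closure_subset fun r hr => ?_
  let H : Set G.R := Set.range ⇑φ.fR
  let a := G.R.fromSpecResidueField r
  let snd' := pullback.snd (a ≫ G.s) G.t
  let T := translate G a
  let fa := pullback.fst (a ≫ G.s) G.t ≫ a
  have hfa : ∀ p, fa p = r := fun p => by
    rw [Scheme.Hom.comp_apply]; exact Scheme.fromSpecResidueField_apply r _
  have hc : fa ≫ G.s = snd' ≫ G.t := (Category.assoc _ _ _).trans pullback.condition
  have hc' : (fa ≫ G.i) ≫ G.s = T ≫ G.t := by rw [Category.assoc, G.i_s, mul_t]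
  have hfwd : ∀ p, snd' p ∈ closure H → T p ∈ closure H := fun p hp => by
    let l : pullback (a ≫ G.s) G.t ⟶ pullback G.s G.t := pullback.lift fa snd' hc
    have e : l ≫ G.c = T := rfl
    rw [← e, Scheme.Hom.comp_apply]
    refine comp_mem_closure eU φ (l p) ?_ ?_
    · rw [← Scheme.Hom.comp_apply, pullback.lift_fst, hfa]; exact hr
    · rw [← Scheme.Hom.comp_apply, pullback.lift_snd]; exact hp
  have hbwd : ∀ p, T p ∈ closure H → snd' p ∈ closure H := fun p hp => by
    let l : pullback (a ≫ G.s) G.t ⟶ pullback G.s G.t := pullback.lift (fa ≫ G.i) T hc'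
    have e : l ≫ G.c = snd' := inv_mul_mul_left G fa snd' hc hc'
    rw [← e, Scheme.Hom.comp_apply]
    refine comp_mem_closure eU φ (l p) ?_ ?_
    · rw [← Scheme.Hom.comp_apply, pullback.lift_fst, Scheme.Hom.comp_apply, hfa]; exact inv_mem_closure φ r hr
    · rw [← Scheme.Hom.comp_apply, pullback.lift_snd]; exact hp
  have hos : IsOpenMap snd'.base := by
    haveI := universallyOpen_toU G eU (a ≫ G.s)
    haveI : UniversallyOpen snd' := MorphismProperty.pullback_snd _ _ ‹_›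
    exact snd'.isOpenMap
  have hoT : IsOpenMap T.base := translate_isOpenMap G eU a
  obtain ⟨V, Z, hV, hZ, hHVZ⟩ := hlc
  have hVH : ∀ x ∈ closure H, x ∈ V → x ∈ H := fun x hx hxV => by
    show x ∈ Set.range φ.fR
    rw [hHVZ]
    exact ⟨hxV, closure_minimal (show H ⊆ Z from fun y hy => by
      have hy' : y ∈ Set.range φ.fR := hy
      rw [hHVZ] at hy'; exact hy'.2) hZ hx⟩
  obtain ⟨q, -, hq⟩ := Scheme.Pullback.exists_preimage_pullback (f := a ≫ G.s) (g := G.t) (IsLocalRing.closedPoint _)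
    (G.e (G.s r)) (by rw [Scheme.Hom.comp_apply, show a _ = r from Scheme.fromSpecResidueField_apply r _, ← Scheme.Hom.comp_apply G.e, G.e_t]; rfl)
  have he : G.e (G.s r) ∈ H := by
    obtain ⟨u₁, hu₁⟩ := φ.fU.surjective (G.s r)
    exact ⟨G₁.e u₁, by rw [← Scheme.Hom.comp_apply, map_e φ, Scheme.Hom.comp_apply, hu₁]⟩
  have hq1 : snd' q ∈ H := by
    show pullback.snd (a ≫ G.s) G.t q ∈ H
    rw [hq]; exact he
  have hTq : T q ∈ closure H := hfwd q (subset_closure hq1)
  have hqV : snd' q ∈ V := by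
    have h' : snd' q ∈ Set.range φ.fR := hq1
    rw [hHVZ] at h'; exact h'.1
  have hq2 : q ∈ closure (T.base ⁻¹' H) := by
    rw [← hoT.preimage_closure_eq_closure_preimage T.continuous]; exact hTq
  obtain ⟨p, hpV, hpT⟩ := mem_closure_iff.1 hq2 _ (hV.preimage snd'.continuous) hqV
  have hp1 : snd' p ∈ H := hVH _ (hbwd p (subset_closure hpT)) hpV
  let l : pullback (a ≫ G.s) G.t ⟶ pullback G.s G.t :=
    pullback.lift T (snd' ≫ G.i) (by rw [mul_s, Category.assoc snd' G.i, G.i_t])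
  have e : l ≫ G.c = fa := mul_mul_inv G fa snd' hc _
  rw [← hfa p, ← e, Scheme.Hom.comp_apply]
  refine comp_mem_range φ (l p) ?_ ?_
  · rw [← Scheme.Hom.comp_apply, pullback.lift_fst]; exact hpT
  · rw [← Scheme.Hom.comp_apply, pullback.lift_snd, Scheme.Hom.comp_apply]
    obtain ⟨y, hy⟩ := hp1
    exact ⟨G₁.i y, by rw [← Scheme.Hom.comp_apply, map_i φ, Scheme.Hom.comp_apply, hy]⟩

omit [IsIso φ.fU] in
include eU in
theorem pr02_mem_closure (pr02 : pullback (pullback.snd G.pU G.pU) (pullback.fst G.pU G.pU) ⟶ pullback G.pU G.pU)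
    (h0 : pr02 ≫ pullback.fst G.pU G.pU = pullback.fst (pullback.snd G.pU G.pU) (pullback.fst G.pU G.pU) ≫ pullback.fst G.pU G.pU)
    (h1 : pr02 ≫ pullback.snd G.pU G.pU = pullback.snd (pullback.snd G.pU G.pU) (pullback.fst G.pU G.pU) ≫ pullback.snd G.pU G.pU)
    (p : ↑(pullback (pullback.snd G.pU G.pU) (pullback.fst G.pU G.pU)))
    (h₁ : pullback.fst (pullback.snd G.pU G.pU) (pullback.fst G.pU G.pU) p ∈ closure (Set.range ⇑G.j))
    (h₂ : pullback.snd (pullback.snd G.pU G.pU) (pullback.fst G.pU G.pU) p ∈ closure (Set.range ⇑G.j)) :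
    pr02 p ∈ closure (Set.range ⇑G.j) := by
  refine map_mem_closure pr02.continuous (mem_closure_pair _ _ (fun h => universallyOpen_toU G eU h) _ _ p h₁ h₂) fun p hp => ?_
  let f1 := pullback.fst (pullback.snd G.pU G.pU) (pullback.fst G.pU G.pU)
  let f2 := pullback.snd (pullback.snd G.pU G.pU) (pullback.fst G.pU G.pU)
  obtain ⟨L₀, _, l₀, α₀, hα₀, hl₀⟩ := exists_lift_range G.j f1 p hp.1
  obtain ⟨L, _, l₁, β, hβ, hl₁⟩ := exists_lift_range G.j (l₀ ≫ f2) (IsLocalRing.closedPoint L₀)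
    (by rw [Scheme.Hom.comp_apply, hl₀]; exact hp.2)
  obtain ⟨α, hαd⟩ : ∃ α, α = l₁ ≫ α₀ := ⟨_, rfl⟩
  obtain ⟨l, hld⟩ : ∃ l, l = l₁ ≫ l₀ := ⟨_, rfl⟩
  have hα : α ≫ G.j = l ≫ f1 := by simp only [hαd, hld, Category.assoc, hα₀]
  have hβ' : β ≫ G.j = l ≫ f2 := by rw [hβ, hld]; exact (Category.assoc _ _ _).symm
  have hc : α ≫ G.s = β ≫ G.t := by
    rw [← j_snd G, ← Category.assoc, hα, ← j_fst G, ← Category.assoc β, hβ', Category.assoc, Category.assoc]
    exact congrArg (l ≫ ·) pullback.condition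
  refine ⟨(mul G α β hc) (IsLocalRing.closedPoint L), ?_⟩
  have e : mul G α β hc ≫ G.j = l ≫ pr02 := by
    apply pullback.hom_ext
    · rw [Category.assoc _ G.j, j_fst, mul_t, Category.assoc l, h0, ← Category.assoc l, ← hα, Category.assoc, j_fst]
    · rw [Category.assoc _ G.j, j_snd, mul_s, Category.assoc l, h1, ← Category.assoc l, ← hβ', Category.assoc, j_snd]
  rw [← Scheme.Hom.comp_apply, e, Scheme.Hom.comp_apply]
  congr 1
  simp only [hld, Scheme.Hom.comp_apply, hl₁, hl₀]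

end Groth.Agent.H9GrpdFieldClosure
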