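import Groth.Prelude.Def_Grpd
import Groth.Agent.Lib.H9Grpd
import Groth.Agent.Lib.H9GrpdCalc
import Groth.Agent.Lib.H9GrpdFieldTranslate
import Mathlib

/-! The scheme-theoretic image of a morphism of groupoids over a field is a groupoid. -/

set_option autoImplicit false
set_option linter.all false
set_option synthInstance.maxHeartbeats 40000
set_option maxHeartbeats 400000
set_option backward.isDefEq.respectTransparency.types false
set_option backward.isDefEq.respectTransparency false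

universe u

open AlgebraicGeometry CategoryTheory CategoryTheory.Limits

namespace Groth.Agent.H9GrpdImage

open Groth.Agent.H9Grpd Groth.Agent.H9GrpdCalc Groth.Agent.H9GrpdFieldTranslate

/-- A morphism factors through a closed subscheme if it does so after a scheme-theoretically dominant map. -/
theorem exists_factor {P₁ P R Z : Scheme.{u}} (q : P₁ ⟶ P) [IsSchemeTheoreticallyDominant q] (h : P ⟶ R)
    (ι : Z ⟶ R) [IsClosedImmersion ι] (a : P₁ ⟶ Z) (w : q ≫ h = a ≫ ι) : ∃ b, b ≫ ι = h := by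
  have hk : ι.ker ≤ h.ker := by
    have e : (q ≫ h).ker = h.ker := by
      rw [Scheme.Hom.ker_comp, q.ker_eq_bot, Scheme.IdealSheafData.map_bot]
    rw [← e, w]
    exact Scheme.Hom.le_ker_comp a ι
  exact ⟨IsClosedImmersion.lift ι h hk, IsClosedImmersion.lift_fac ι h hk⟩

theorem stDominant_toImage {X Y : Scheme.{u}} (f : X ⟶ Y) [QuasiCompact f] : IsSchemeTheoreticallyDominant f.toImage := by
  rw [isSchemeTheoreticallyDominant_iff]
  refine Scheme.IdealSheafData.ext_of_iSup_eq_top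
    (fun U : Y.affineOpens => ⟨f.imageι ⁻¹ᵁ U, U.2.preimage f.imageι⟩) ?_ fun U => ?_
  · rw [eq_top_iff]
    intro x _
    obtain ⟨_, ⟨V, hV, rfl⟩, hxV, -⟩ := Y.isBasis_affineOpens.exists_subset_of_mem_open (Set.mem_univ (f.imageι x)) isOpen_univ
    exact TopologicalSpace.Opens.mem_iSup.2 ⟨⟨V, hV⟩, hxV⟩
  · rw [Scheme.Hom.ker_apply, Scheme.IdealSheafData.ideal_bot, Pi.bot_apply]
    exact (RingHom.injective_iff_ker_eq_bot _).1 (f.toImage_app_injective U)

/-- Base change on both factors by a scheme-theoretically dominant map over a field-like base. -/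
theorem stDominant_pair {A Z U : Scheme.{u}} (a : A ⟶ Z) [IsSchemeTheoreticallyDominant a] [QuasiCompact a]
    (hU : ∀ {X : Scheme.{u}} (h : X ⟶ U), Flat h) (f g : Z ⟶ U) (q : pullback (a ≫ f) (a ≫ g) ⟶ pullback f g)
    (h₁ : q ≫ pullback.fst f g = pullback.fst (a ≫ f) (a ≫ g) ≫ a)
    (h₂ : q ≫ pullback.snd f g = pullback.snd (a ≫ f) (a ≫ g) ≫ a) : IsSchemeTheoreticallyDominant q := by
  let m₁ : pullback (a ≫ f) (a ≫ g) ⟶ pullback f (a ≫ g) := pullback.map _ _ _ _ a (𝟙 _) (𝟙 _) (by simp) (by simp)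
  let m₂ : pullback f (a ≫ g) ⟶ pullback f g := pullback.map _ _ _ _ (𝟙 _) a (𝟙 _) (by simp) (by simp)
  have sq₁ : IsPullback (pullback.fst (a ≫ f) (a ≫ g)) m₁ a (pullback.fst f (a ≫ g)) := by
    refine IsPullback.of_bot ?_ (pullback.lift_fst _ _ _).symm (IsPullback.of_hasPullback f (a ≫ g))
    rw [show m₁ ≫ pullback.snd f (a ≫ g) = pullback.snd (a ≫ f) (a ≫ g) by simp [m₁]]
    exact IsPullback.of_hasPullback (a ≫ f) (a ≫ g)
  have sq₂ : IsPullback m₂ (pullback.snd f (a ≫ g)) (pullback.snd f g) a := by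
    refine IsPullback.of_right ?_ (pullback.lift_snd _ _ _) (IsPullback.of_hasPullback f g)
    rw [show m₂ ≫ pullback.fst f g = pullback.fst f (a ≫ g) by simp [m₂]]
    exact IsPullback.of_hasPullback f (a ≫ g)
  haveI : Flat f := hU f
  haveI : Flat g := hU g
  haveI : Flat (a ≫ g) := hU _
  haveI : IsSchemeTheoreticallyDominant m₁ := IsSchemeTheoreticallyDominant.of_isPullback sq₁
  haveI : IsSchemeTheoreticallyDominant m₂ := IsSchemeTheoreticallyDominant.of_isPullback sq₂.flip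
  have e : q = m₁ ≫ m₂ := by
    apply pullback.hom_ext
    · rw [h₁]; simp [m₁, m₂]
    · rw [h₂]; simp [m₁, m₂]
  rw [e]
  infer_instance

variable {S : Scheme.{u}}

theorem sub_key (G : Grpd.GroupoidScheme S) {Z : Scheme.{u}} (ι : Z ⟶ G.R) (c' : pullback (ι ≫ G.s) (ι ≫ G.t) ⟶ Z)
    (w : (pullback.fst (ι ≫ G.s) (ι ≫ G.t) ≫ ι) ≫ G.s = (pullback.snd (ι ≫ G.s) (ι ≫ G.t) ≫ ι) ≫ G.t)
    (hc : c' ≫ ι = mul G (pullback.fst (ι ≫ G.s) (ι ≫ G.t) ≫ ι) (pullback.snd (ι ≫ G.s) (ι ≫ G.t) ≫ ι) w)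
    {T : Scheme.{u}} (α β : T ⟶ Z) (h : α ≫ ι ≫ G.s = β ≫ ι ≫ G.t) :
    (pullback.lift α β h ≫ c') ≫ ι = mul G (α ≫ ι) (β ≫ ι) (by simpa using h) := by
  rw [Category.assoc, hc, comp_mul G _ _ _ _ (by simpa using h)]
  exact mul_congr G (pullback.lift_fst_assoc _ _ _ _) (pullback.lift_snd_assoc _ _ _ _) _ _

/-- A closed subgroupoid with the same objects. -/
noncomputable def sub (G : Grpd.GroupoidScheme S) {Z : Scheme.{u}} (ι : Z ⟶ G.R) [Mono ι] (e' : G.U ⟶ Z)
    (he : e' ≫ ι = G.e) (i' : Z ⟶ Z) (hi : i' ≫ ι = ι ≫ G.i) (c' : pullback (ι ≫ G.s) (ι ≫ G.t) ⟶ Z)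
    (hc : c' ≫ ι = mul G (pullback.fst (ι ≫ G.s) (ι ≫ G.t) ≫ ι) (pullback.snd (ι ≫ G.s) (ι ≫ G.t) ≫ ι)
      (by simp only [Category.assoc]; exact pullback.condition)) : Grpd.GroupoidScheme S :=
  have key : ∀ {T : Scheme.{u}} (α β : T ⟶ Z) (h : α ≫ ι ≫ G.s = β ≫ ι ≫ G.t),
      (pullback.lift α β h ≫ c') ≫ ι = mul G (α ≫ ι) (β ≫ ι) (by simpa using h) := fun α β h => sub_key G ι c' _ hc α β h
  { U := G.U
    R := Z
    pU := G.pU
    pR := ι ≫ G.pR
    s := ι ≫ G.s
    t := ι ≫ G.t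
    e := e'
    i := i'
    c := c'
    s_over := by rw [Category.assoc, G.s_over]
    t_over := by rw [Category.assoc, G.t_over]
    comp_s := fun α β h => by rw [← Category.assoc (pullback.lift α β h ≫ c'), key, mul_s, Category.assoc]
    comp_t := fun α β h => by rw [← Category.assoc (pullback.lift α β h ≫ c'), key, mul_t, Category.assoc]
    assoc := fun α β γ h₁ h₂ => by
      rw [← cancel_mono ι]
      refine (key _ _ _).trans (Eq.trans ?_ (key _ _ _).symm)
      refine (mul_congr G (key α β h₁) rfl _ ?_).trans ((G.assoc (α ≫ ι) (β ≫ ι) (γ ≫ ι) (by simpa using h₁) (by simpa using h₂)).trans (mul_congr G rfl (key β γ h₂).symm _ _))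
      rw [mul_s]; simpa using h₂
    e_s := by rw [← Category.assoc, he, G.e_s]
    e_t := by rw [← Category.assoc, he, G.e_t]
    comp_e := fun α => by
      rw [← cancel_mono ι, key]
      exact (mul_congr G rfl (show (α ≫ (ι ≫ G.s) ≫ e') ≫ ι = (α ≫ ι) ≫ G.s ≫ G.e by simp [he]) _ _).trans (G.comp_e (α ≫ ι))
    e_comp := fun α => by
      rw [← cancel_mono ι, key]
      exact (mul_congr G (show (α ≫ (ι ≫ G.t) ≫ e') ≫ ι = (α ≫ ι) ≫ G.t ≫ G.e by simp [he]) rfl _ _).trans (G.e_comp (α ≫ ι))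
    i_s := by rw [← Category.assoc, hi, Category.assoc, G.i_s]
    i_t := by rw [← Category.assoc, hi, Category.assoc, G.i_t]
    comp_i := fun α => by
      rw [← cancel_mono ι, key]
      exact ((mul_congr G rfl (show (α ≫ i') ≫ ι = (α ≫ ι) ≫ G.i by simp [hi]) _ _).trans (G.comp_i (α ≫ ι))).trans (by simp [he])
    i_comp := fun α => by
      rw [← cancel_mono ι, key]
      exact ((mul_congr G (show (α ≫ i') ≫ ι = (α ≫ ι) ≫ G.i by simp [hi]) rfl _ _).trans (G.i_comp (α ≫ ι))).trans (by simp [he]) }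

theorem exists_image {G₁ G₂ : Grpd.GroupoidScheme S} (f : Grpd.GroupoidScheme.Hom G₁ G₂) [IsIso f.fU]
    [QuasiCompact f.fR] {k : Type u} [Field k] (eU : G₂.U ≅ Spec (CommRingCat.of k)) :
    ∃ (G' : Grpd.GroupoidScheme S) (φ : Grpd.GroupoidScheme.Hom G₁ G') (ψ : Grpd.GroupoidScheme.Hom G' G₂),
      IsIso φ.fU ∧ IsIso ψ.fU ∧ IsClosedImmersion ψ.fR ∧ ψ.fR.ker = f.fR.ker ∧ φ.fR ≫ ψ.fR = f.fR := by
  have hU : ∀ {X : Scheme.{u}} (h : X ⟶ G₂.U), Flat h := fun h => by
    rw [← MorphismProperty.cancel_right_of_respectsIso @Flat h eU.hom]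
    haveI : Subsingleton (Spec (CommRingCat.of k)) := (inferInstance : Subsingleton (PrimeSpectrum k))
    infer_instance
  let ι := f.fR.imageι
  let a := f.fR.toImage
  have hak : a ≫ ι = f.fR := f.fR.toImage_imageι
  haveI := stDominant_toImage f.fR
  obtain ⟨e', he⟩ : ∃ e', e' ≫ ι = G₂.e :=
    exists_factor f.fU G₂.e ι (G₁.e ≫ a) (by rw [Category.assoc, hak, map_e f])
  obtain ⟨i', hi⟩ : ∃ i', i' ≫ ι = ι ≫ G₂.i :=
    exists_factor a (ι ≫ G₂.i) ι (G₁.i ≫ a) (by rw [← Category.assoc, hak, Category.assoc, hak, map_i f])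
  let fs := pullback.fst (a ≫ ι ≫ G₂.s) (a ≫ ι ≫ G₂.t)
  let sn := pullback.snd (a ≫ ι ≫ G₂.s) (a ≫ ι ≫ G₂.t)
  let q : pullback (a ≫ ι ≫ G₂.s) (a ≫ ι ≫ G₂.t) ⟶ pullback (ι ≫ G₂.s) (ι ≫ G₂.t) :=
    pullback.map _ _ _ _ a a (𝟙 _) (by simp) (by simp)
  haveI : IsSchemeTheoreticallyDominant q := stDominant_pair a hU _ _ q (pullback.lift_fst _ _ _) (pullback.lift_snd _ _ _)
  have hcond : fs ≫ G₁.s = sn ≫ G₁.t := by
    have hs : a ≫ ι ≫ G₂.s = G₁.s ≫ f.fU := by rw [← Category.assoc, hak, f.comm_s]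
    have ht : a ≫ ι ≫ G₂.t = G₁.t ≫ f.fU := by rw [← Category.assoc, hak, f.comm_t]
    rw [← cancel_mono f.fU, Category.assoc, Category.assoc, ← hs, ← ht]
    exact pullback.condition
  obtain ⟨c', hc⟩ := exists_factor q (mul G₂ (pullback.fst (ι ≫ G₂.s) (ι ≫ G₂.t) ≫ ι) (pullback.snd (ι ≫ G₂.s) (ι ≫ G₂.t) ≫ ι)
      (by simp only [Category.assoc]; exact pullback.condition)) ι (mul G₁ fs sn hcond ≫ a) (by
    refine ((comp_mul G₂ q _ _ _ ?_).trans (mul_congr G₂
      (show q ≫ pullback.fst (ι ≫ G₂.s) (ι ≫ G₂.t) ≫ ι = fs ≫ f.fR from (pullback.lift_fst_assoc _ _ _ _).trans ((Category.assoc _ _ _).trans (congrArg (fs ≫ ·) hak)))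
      (show q ≫ pullback.snd (ι ≫ G₂.s) (ι ≫ G₂.t) ≫ ι = sn ≫ f.fR from (pullback.lift_snd_assoc _ _ _ _).trans ((Category.assoc _ _ _).trans (congrArg (sn ≫ ·) hak)))
      _ ?_)).trans ((map_mul' f fs sn hcond ?_).symm.trans ((congrArg (_ ≫ ·) hak).symm.trans (Category.assoc _ _ _).symm))
    · simp [pullback.condition]
    all_goals rw [Category.assoc, Category.assoc, f.comm_s, f.comm_t, reassoc_of% hcond])
  refine ⟨sub G₂ ι e' he i' hi c' hc,
    { fU := f.fU, fR := a, fU_over := f.fU_over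
      comm_s := show a ≫ ι ≫ G₂.s = _ by rw [← Category.assoc, hak, f.comm_s]
      comm_t := show a ≫ ι ≫ G₂.t = _ by rw [← Category.assoc, hak, f.comm_t]
      comm_c := fun α β h => ?_ },
    { fU := 𝟙 _, fR := ι, fU_over := Category.id_comp _
      comm_s := (Category.comp_id _).symm
      comm_t := (Category.comp_id _).symm
      comm_c := fun α β h => ?_ }, ‹IsIso f.fU›, (inferInstance : IsIso (𝟙 G₂.U)),
    (inferInstance : IsClosedImmersion ι), f.fR.ker.ker_subschemeι, hak⟩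
  · have h2 : (α ≫ f.fR) ≫ G₂.s = (β ≫ f.fR) ≫ G₂.t := by
      rw [Category.assoc, Category.assoc, f.comm_s, f.comm_t, reassoc_of% h]
    refine (cancel_mono ι).1 ?_
    refine ((Category.assoc _ _ _).trans (congrArg (_ ≫ ·) hak)).trans ((f.comm_c α β h).trans ?_)
    refine Eq.trans ?_ (sub_key G₂ ι c' _ hc (α ≫ a) (β ≫ a) ?_).symm
    · exact mul_congr G₂ ((Category.assoc _ _ _).trans (congrArg (α ≫ ·) hak)).symm ((Category.assoc _ _ _).trans (congrArg (β ≫ ·) hak)).symm h2 _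
    · simpa only [← hak, Category.assoc] using h2
  · exact sub_key G₂ ι c' _ hc α β h

/-- The pair groupoid `U ×_S U`. -/
noncomputable def pair {U : Scheme.{u}} (p : U ⟶ S) : Grpd.GroupoidScheme S where
  U := U
  R := pullback p p
  pU := p
  pR := pullback.snd p p ≫ p
  s := pullback.snd p p
  t := pullback.fst p p
  e := pullback.lift (𝟙 _) (𝟙 _) rfl
  i := pullback.lift (pullback.snd p p) (pullback.fst p p) pullback.condition.symm
  c := pullback.lift (pullback.fst _ _ ≫ pullback.fst p p) (pullback.snd _ _ ≫ pullback.snd p p) (by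
    simp only [Category.assoc, pullback.condition]
    rw [← Category.assoc, pullback.condition, Category.assoc, pullback.condition])
  s_over := rfl
  t_over := pullback.condition
  comp_s α β h := by simp
  comp_t α β h := by simp
  assoc α β γ h₁ h₂ := by apply pullback.hom_ext <;> simp
  e_s := pullback.lift_snd _ _ _
  e_t := pullback.lift_fst _ _ _
  comp_e α := by apply pullback.hom_ext <;> simp
  e_comp α := by apply pullback.hom_ext <;> simp
  i_s := pullback.lift_snd _ _ _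
  i_t := pullback.lift_fst _ _ _
  comp_i α := by apply pullback.hom_ext <;> simp
  i_comp α := by apply pullback.hom_ext <;> simp

theorem j_mul (G : Grpd.GroupoidScheme S) {T : Scheme.{u}} (α β : T ⟶ G.R) (h : α ≫ G.s = β ≫ G.t)
    (h' : (α ≫ G.j) ≫ pullback.snd G.pU G.pU = (β ≫ G.j) ≫ pullback.fst G.pU G.pU)
    (w : (pullback.fst (pullback.snd G.pU G.pU) (pullback.fst G.pU G.pU) ≫ pullback.fst G.pU G.pU) ≫ G.pU =
      (pullback.snd (pullback.snd G.pU G.pU) (pullback.fst G.pU G.pU) ≫ pullback.snd G.pU G.pU) ≫ G.pU) :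
    (pullback.lift α β h ≫ G.c) ≫ G.j = pullback.lift (α ≫ G.j) (β ≫ G.j) h' ≫ pullback.lift _ _ w := by
  apply pullback.hom_ext
  · simp only [Category.assoc, j_fst, pullback.lift_fst]
    rw [← Category.assoc _ G.c, G.comp_t, pullback.lift_fst_assoc, Category.assoc, j_fst]
  · simp only [Category.assoc, j_snd, pullback.lift_snd]
    rw [← Category.assoc _ G.c, G.comp_s, pullback.lift_snd_assoc, Category.assoc, j_snd]

theorem exists_image_j (G : Grpd.GroupoidScheme S) {k : Type u} [Field k] (eU : G.U ≅ Spec (CommRingCat.of k))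
    [CompactSpace G.R] : ∃ (G' : Grpd.GroupoidScheme S) (φ : Grpd.GroupoidScheme.Hom G G'), IsIso φ.fU ∧
      IsClosedImmersion G'.j ∧ G'.j.ker = (G.j ≫ pullback.map G.pU G.pU G'.pU G'.pU φ.fU φ.fU (𝟙 S)
        ((Category.comp_id _).trans φ.fU_over.symm) ((Category.comp_id _).trans φ.fU_over.symm)).ker := by
  haveI : IsAffine G.U := IsAffine.of_isIso eU.hom
  haveI : IsSeparated G.pU := IsSeparated.of_comp _ (terminal.from S)
  haveI : QuasiSeparatedSpace ↥(pullback G.pU G.pU) := by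
    rw [quasiSeparatedSpace_iff_quasiSeparated, ← terminal.comp_from (pullback.fst G.pU G.pU)]
    infer_instance
  haveI : QuasiCompact G.j := by
    haveI : QuasiCompact (G.j ≫ terminal.from _) := by
      rw [terminal.comp_from]; exact (quasiCompact_iff_compactSpace _).2 inferInstance
    exact QuasiCompact.of_comp G.j (terminal.from _)
  let f : Grpd.GroupoidScheme.Hom G (pair G.pU) :=
    { fU := 𝟙 _, fR := G.j, fU_over := Category.id_comp _
      comm_s := (pullback.lift_snd _ _ _).trans (Category.comp_id _).symm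
      comm_t := (pullback.lift_fst _ _ _).trans (Category.comp_id _).symm
      comm_c := fun α β h => j_mul G α β h _ _ }
  haveI : IsIso f.fU := inferInstanceAs (IsIso (𝟙 _))
  haveI : QuasiCompact f.fR := ‹QuasiCompact G.j›
  obtain ⟨G', φ, ψ, hφ, hψ, hcl, hker, hfac⟩ := exists_image f (G₂ := pair G.pU) eU
  haveI := hψ
  haveI := hcl
  let M : pullback G'.pU G'.pU ⟶ pullback G.pU G.pU :=
    pullback.map _ _ _ _ ψ.fU ψ.fU (𝟙 S) ((Category.comp_id _).trans ψ.fU_over.symm) ((Category.comp_id _).trans ψ.fU_over.symm)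
  have hM : G'.j ≫ M = ψ.fR := by
    apply pullback.hom_ext
    · exact (by simp [M, j_fst, reassoc_of% (j_fst G')] : _ = G'.t ≫ ψ.fU).trans ψ.comm_t.symm
    · exact (by simp [M, j_snd, reassoc_of% (j_snd G')] : _ = G'.s ≫ ψ.fU).trans ψ.comm_s.symm
  haveI : IsIso M := inferInstance
  have hj : G'.j = ψ.fR ≫ inv M := by rw [← hM]; simp
  refine ⟨G', φ, hφ, ?_, ?_⟩
  · rw [hj]; infer_instance
  · generalize hN : pullback.map G.pU G.pU G'.pU G'.pU φ.fU φ.fU (𝟙 S) _ _ = N
    have e : φ.fR ≫ G'.j = G.j ≫ N := by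
      rw [← hN]
      apply pullback.hom_ext
      · simp [j_fst, reassoc_of% (j_fst G), φ.comm_t]
      · simp [j_snd, reassoc_of% (j_snd G), φ.comm_s]
    have e2 : G.j ≫ N = G.j ≫ inv M := by
      rw [← e, hj, ← Category.assoc, hfac]
    rw [e2, hj, Scheme.Hom.ker_comp, Scheme.Hom.ker_comp, hker]

end Groth.Agent.H9GrpdImage
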