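import Groth.Prelude.Def_Grpd
import Groth.Agent.Lib.H9Grpd
import Groth.Agent.Lib.H9GrpdNorm
import Groth.Agent.Lib.H9GrpdIntegral
import Mathlib

/-! Base change of the ring of invariants. -/

set_option autoImplicit false
set_option linter.all false
set_option synthInstance.maxHeartbeats 100000
set_option maxHeartbeats 400000
set_option backward.isDefEq.respectTransparency.types false
set_option backward.isDefEq.respectTransparency false

universe u

open AlgebraicGeometry CategoryTheory CategoryTheory.Limits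
open scoped TensorProduct

namespace Groth.Agent.H9GrpdInvBC

open Groth.Agent.H9GrpdIntegral

section Idem

open Polynomial

variable {A : Type u} [CommRing A] {n : ℕ} (E : Matrix (Fin n) (Fin n) A)

theorem one_add_smul_mul {K : Type u} [CommRing K] {n : ℕ} (F : Matrix (Fin n) (Fin n) K) (hF : F * F = F) (a b : K) :
    (1 + a • F) * (1 + b • F) = 1 + (a + (b + a * b)) • F := by
  rw [mul_add, mul_one, add_mul, one_mul, Matrix.smul_mul, Matrix.mul_smul, hF, smul_smul, add_assoc, ← add_smul, ← add_smul]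

/-- `det (1 + (X - 1) E)` -/
noncomputable def hpoly : A[X] := (1 + ((X : A[X]) - 1) • E.map Polynomial.C).det

theorem hpoly_mul (hE : E * E = E) : Polynomial.C (hpoly E) * (hpoly E).map Polynomial.C =
    ((hpoly E).map Polynomial.C).comp (Polynomial.C X * X) := by
  let K := A[X][X]
  let c : A →+* K := (Polynomial.C : A[X] →+* K).comp Polynomial.C
  let EK : Matrix (Fin n) (Fin n) K := E.map c
  have hdet : ∀ (φ : A[X] →+* K) (μ : K), φ X = μ → φ.comp Polynomial.C = c →
      φ (hpoly E) = (1 + (μ - 1) • EK).det := by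
    intro φ μ hμ hc
    rw [hpoly, RingHom.map_det]
    congr 1
    ext i j
    simp [EK, Matrix.one_apply, apply_ite φ, hμ, ← hc]
  have h1 := hdet Polynomial.C (Polynomial.C X) rfl rfl
  have h2 := hdet (Polynomial.mapRingHom Polynomial.C) X (Polynomial.map_X _) (RingHom.ext fun a => Polynomial.map_C _)
  have h3 := hdet ((Polynomial.compRingHom (Polynomial.C X * X)).comp (Polynomial.mapRingHom Polynomial.C)) (Polynomial.C X * X)
    (by show ((X : A[X]).map Polynomial.C).comp _ = _; rw [Polynomial.map_X, Polynomial.X_comp]) (RingHom.ext fun a => by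
      show ((Polynomial.C a : A[X]).map Polynomial.C).comp _ = _
      rw [Polynomial.map_C, Polynomial.C_comp]; rfl)
  change (hpoly E).map Polynomial.C = _ at h2
  change ((hpoly E).map Polynomial.C).comp _ = _ at h3
  rw [h1, h3, h2, ← Matrix.det_mul]
  congr 1
  have hEK : EK * EK = EK := by rw [← Matrix.map_mul, hE]
  rw [one_add_smul_mul EK hEK]
  congr 2
  ring

theorem coeff_mul (hE : E * E = E) (r q : ℕ) :
    (hpoly E).coeff r * (hpoly E).coeff q = if r = q then (hpoly E).coeff r else 0 := by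
  have h := congrArg (fun p => (p.coeff q).coeff r) (hpoly_mul E hE)
  simp only [coeff_C_mul, coeff_map, comp_C_mul_X_coeff, coeff_mul_C, coeff_X_pow] at h
  rw [h]
  split <;> simp_all

theorem hpoly_eval_one : (hpoly E).eval 1 = 1 := by
  rw [hpoly, ← Polynomial.coe_evalRingHom, RingHom.map_det]
  convert Matrix.det_one (n := Fin n) (R := A)
  ext i j
  by_cases hij : i = j <;> simp [Matrix.one_apply, hij]

theorem coeff_zero_smul (hE : E * E = E) : (hpoly E).coeff 0 • E = 0 := by
  have h0 : (hpoly E).coeff 0 = (1 - E).det := by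
    rw [Polynomial.coeff_zero_eq_eval_zero, hpoly, ← Polynomial.coe_evalRingHom, RingHom.map_det]
    congr 1
    ext i j
    by_cases hij : i = j <;> simp [Matrix.one_apply, hij, sub_eq_add_neg]
  rw [h0, ← mul_one (E : Matrix (Fin n) (Fin n) A), ← Matrix.mul_smul, ← Matrix.mul_adjugate, ← mul_assoc, mul_sub, mul_one, hE,
    sub_self, zero_mul]

end Idem

theorem coord_mul_left {A B : Type u} [CommRing A] [CommRing B] [Algebra A B] {n : ℕ} (sp : Split A B n) (a : A) (y : B) :
    sp.coord (algebraMap A B a * y) = a • sp.coord y := by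
  rw [← Algebra.smul_def, map_smul]

theorem mat_algebraMap {A B : Type u} [CommRing A] [CommRing B] [Algebra A B] {n : ℕ} (sp : Split A B n) (a : A) :
    sp.mat (algebraMap A B a) = a • sp.mat 1 := by
  ext i j
  simp [Split.mat, coord_mul_left]

section Generic

variable {C A B C' : Type u} [CommRing C] [CommRing A] [CommRing C'] [Algebra C A] [Algebra C C']

theorem exists_common_field {K L₁ L₂ : Type u} [Field K] [Field L₁] [Field L₂] (g₁ : K →+* L₁) (g₂ : K →+* L₂) :
    ∃ (L : Type u) (_ : Field L) (a : L₁ →+* L) (b : L₂ →+* L), a.comp g₁ = b.comp g₂ := by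
  letI := g₁.toAlgebra; letI := g₂.toAlgebra
  haveI : Nontrivial (L₁ ⊗[K] L₂) :=
    (Algebra.TensorProduct.includeLeft_injective (S := K) (A := L₁) (RingHom.injective (algebraMap K L₂))).nontrivial
  obtain ⟨M, hM⟩ := Ideal.exists_maximal (L₁ ⊗[K] L₂)
  refine ⟨(L₁ ⊗[K] L₂) ⧸ M, Ideal.Quotient.field M,
    (Ideal.Quotient.mk M).comp (Algebra.TensorProduct.includeLeft : L₁ →ₐ[K] L₁ ⊗[K] L₂).toRingHom,
    (Ideal.Quotient.mk M).comp (Algebra.TensorProduct.includeRight : L₂ →ₐ[K] L₁ ⊗[K] L₂).toRingHom, RingHom.ext fun x => ?_⟩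
  exact congrArg (Ideal.Quotient.mk M) (((Algebra.TensorProduct.includeLeft : L₁ →ₐ[K] L₁ ⊗[K] L₂).commutes x).trans
    ((Algebra.TensorProduct.includeRight : L₂ →ₐ[K] L₁ ⊗[K] L₂).commutes x).symm)

theorem nilpotent_of_includeRight [Algebra.IsIntegral C A] (hinj : Function.Injective (algebraMap C A)) (c : C')
    (hc : (Algebra.TensorProduct.includeRight : C' →ₐ[C] A ⊗[C] C') c = 0) : IsNilpotent c := by
  rw [nilpotent_iff_mem_prime]
  intro p hp
  obtain ⟨q, -, hq, hqp⟩ := Ideal.exists_ideal_over_prime_of_isIntegral (S := A) (p.comap (algebraMap C C')) ⊥ (by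
    intro a ha
    have : a = 0 := hinj ((Ideal.mem_comap.1 ha).trans (map_zero _).symm)
    rw [this]; exact zero_mem _)
  haveI := hq
  let k := p.comap (algebraMap C C')
  obtain ⟨L, _, ψ₁, ψ₂, hψ⟩ := exists_common_field (Ideal.ResidueField.map k q (algebraMap C A) hqp.symm)
    (Ideal.ResidueField.map k p (algebraMap C C') rfl)
  letI : Algebra C L := (ψ₁.comp ((algebraMap A q.ResidueField).comp (algebraMap C A))).toAlgebra
  let φ : A →ₐ[C] L := { toRingHom := ψ₁.comp (algebraMap A q.ResidueField), commutes' := fun r => rfl }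
  have hc2 : ∀ r : C, ψ₂ (algebraMap C' p.ResidueField (algebraMap C C' r)) = ψ₁ (algebraMap A q.ResidueField (algebraMap C A r)) := fun r => by
    rw [← Ideal.ResidueField.map_algebraMap k p (algebraMap C C') rfl, ← Ideal.ResidueField.map_algebraMap k q (algebraMap C A) hqp.symm]
    exact (RingHom.congr_fun hψ _).symm
  let χ : C' →ₐ[C] L := { toRingHom := ψ₂.comp (algebraMap C' p.ResidueField), commutes' := hc2 }
  have h := congrArg (Algebra.TensorProduct.lift φ χ (fun _ _ => Commute.all _ _)) hc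
  rw [Algebra.TensorProduct.includeRight_apply, Algebra.TensorProduct.lift_tmul, map_one, one_mul, map_zero] at h
  have hz : ψ₂ (algebraMap C' p.ResidueField c) = 0 := h
  exact (Ideal.algebraMap_residueField_eq_zero (I := p)).1 ((map_eq_zero_iff _ ψ₂.injective).1 hz)

open Polynomial in
theorem exists_pow (f : A ⊗[C] C') (h : A[X]) (e : ℕ → C) (he : ∀ r, algebraMap C A (e r) = h.coeff r)
    (hidem : ∀ r q, h.coeff r * h.coeff q = if r = q then h.coeff r else 0) (he0 : h.coeff 0 = 0) (h1 : h.eval 1 = 1)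
    (P₁ : C'[X]) (hP₁ : P₁.map (Algebra.TensorProduct.includeRight : C' →ₐ[C] A ⊗[C] C').toRingHom =
      (h.map (Algebra.TensorProduct.includeLeftRingHom : A →+* A ⊗[C] C')).comp (X - Polynomial.C f)) :
    ∃ (N : ℕ) (P : C'[X]), 0 < N ∧
      P.map (Algebra.TensorProduct.includeRight : C' →ₐ[C] A ⊗[C] C').toRingHom = (X - Polynomial.C f) ^ N := by
  let iR := (Algebra.TensorProduct.includeRight : C' →ₐ[C] A ⊗[C] C').toRingHom
  let iL : A →+* A ⊗[C] C' := Algebra.TensorProduct.includeLeftRingHom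
  let N := h.natDegree + 1
  refine ⟨N.factorial, ∑ r ∈ Finset.range N, Polynomial.C (algebraMap C C' (e r)) * P₁ ^ (N.factorial / r), Nat.factorial_pos _, ?_⟩
  have hiR : ∀ r, iR (algebraMap C C' (e r)) = iL (h.coeff r) := fun r => by
    rw [← he]
    exact (Algebra.TensorProduct.includeRight : C' →ₐ[C] A ⊗[C] C').commutes (e r)
  have hsum : (h.map iL).comp (X - Polynomial.C f) = ∑ r ∈ Finset.range N, Polynomial.C (iL (h.coeff r)) * (X - Polynomial.C f) ^ r := by
    rw [Polynomial.comp, Polynomial.eval₂_eq_sum_range' _ (Nat.lt_succ_of_le Polynomial.natDegree_map_le)]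
    simp only [Polynomial.coeff_map]
    rfl
  show Polynomial.map iR _ = _
  rw [Polynomial.map_sum]
  have hterm : ∀ r ∈ Finset.range N, (Polynomial.C (algebraMap C C' (e r)) * P₁ ^ (N.factorial / r)).map iR =
      Polynomial.C (iL (h.coeff r)) * (X - Polynomial.C f) ^ N.factorial := by
    intro r hr
    rw [Polynomial.map_mul, Polynomial.map_C, hiR, Polynomial.map_pow, hP₁]
    show Polynomial.C (iL (h.coeff r)) * ((h.map iL).comp (X - Polynomial.C f)) ^ (N.factorial / r) = _
    rcases Nat.eq_zero_or_pos r with rfl | hr0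
    · simp [he0]
    · have hd : r ∣ N.factorial := Nat.dvd_factorial hr0 (Finset.mem_range.1 hr).le
      have hk : N.factorial / r ≠ 0 := Nat.ne_of_gt (Nat.div_pos (Nat.le_of_dvd (Nat.factorial_pos _) hd) hr0)
      have hcc : ∀ b, Polynomial.C (iL (h.coeff r)) * Polynomial.C (iL (h.coeff b)) = if r = b then Polynomial.C (iL (h.coeff r)) else 0 := by
        intro b
        rw [← map_mul, ← map_mul, hidem]
        split <;> simp
      set c := Polynomial.C (iL (h.coeff r))
      have hck : c ^ (N.factorial / r) = c := by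
        obtain ⟨k, hk'⟩ := Nat.exists_eq_succ_of_ne_zero hk
        rw [hk']
        clear hk' hk
        induction k with
        | zero => simp
        | succ k ih => rw [pow_succ, ih, hcc r, if_pos rfl]
      have hcG : c * (h.map iL).comp (X - Polynomial.C f) = c * (X - Polynomial.C f) ^ r := by
        rw [hsum, Finset.mul_sum, Finset.sum_eq_single r]
        · rw [← mul_assoc, hcc r, if_pos rfl]
        · intro b _ hb
          rw [← mul_assoc, hcc b, if_neg (Ne.symm hb), zero_mul]
        · intro hn; exact absurd hr hn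
      calc c * ((h.map iL).comp (X - Polynomial.C f)) ^ (N.factorial / r)
          = (c * (h.map iL).comp (X - Polynomial.C f)) ^ (N.factorial / r) := by rw [mul_pow, hck]
        _ = c * (X - Polynomial.C f) ^ N.factorial := by
          rw [hcG, mul_pow, hck, ← pow_mul, Nat.mul_div_cancel' hd]
  rw [Finset.sum_congr rfl hterm, ← Finset.sum_mul, ← map_sum, ← map_sum]
  have h1' : ∑ r ∈ Finset.range N, h.coeff r = 1 := by
    rw [Polynomial.eval_eq_sum_range] at h1
    simpa using h1
  rw [h1', map_one, map_one, one_mul]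

variable [CommRing B] [Algebra C B]

theorem flat_range [Module.Flat C C'] (sL tL : A →ₗ[C] B) (hinj : Function.Injective (algebraMap C A))
    (hex : ∀ a, sL a = tL a ↔ ∃ c, algebraMap C A c = a) :
    Function.Injective (Algebra.TensorProduct.includeRight : C' →ₐ[C] A ⊗[C] C') ∧
      ∀ f, sL.rTensor C' f = tL.rTensor C' f → f ∈ Set.range (Algebra.TensorProduct.includeRight : C' →ₐ[C] A ⊗[C] C') := by
  let ι : C →ₗ[C] A := Algebra.linearMap _ _
  have hinc : ∀ z, ι.rTensor C' z = (Algebra.TensorProduct.includeRight : C' →ₐ[C] A ⊗[C] C') (TensorProduct.lid _ _ z) := by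
    intro z
    induction z using TensorProduct.induction_on with
    | zero => simp
    | tmul c y =>
      rw [LinearMap.rTensor_tmul, TensorProduct.lid_tmul, Algebra.TensorProduct.includeRight_apply, TensorProduct.tmul_smul,
        TensorProduct.smul_tmul']
      exact congrArg (· ⊗ₜ[C] y) (Algebra.algebraMap_eq_smul_one c)
    | add x y hx hy => simp [map_add, hx, hy]
  have hex' : Function.Exact ι (sL - tL) := fun a => by
    rw [LinearMap.sub_apply, sub_eq_zero]; exact hex a
  refine ⟨fun x y hxy => ?_, fun f hf => ?_⟩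
  · apply (TensorProduct.lid C C').symm.injective
    apply Module.Flat.rTensor_preserves_injective_linearMap (M := C') ι hinj
    rw [hinc, hinc]; simpa using hxy
  · obtain ⟨z, hz⟩ := (Module.Flat.rTensor_exact C' hex' f).1 (by rw [LinearMap.rTensor_sub, LinearMap.sub_apply, hf, sub_self])
    exact ⟨_, (hinc z).symm.trans hz⟩

end Generic

variable {S : Scheme.{u}} (G : Grpd.GroupoidScheme S) [IsAffine G.U] [IsAffine G.R]

/-- coefficients of the generic characteristic polynomial are invariant -/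
theorem exists_lift_genPoly {n m : ℕ} (sp : letI := G.s.appTop.hom.toAlgebra; Split Γ(G.U, ⊤) Γ(G.R, ⊤) n)
    (x : Fin m → Γ(G.U, ⊤)) :
    letI := G.s.appTop.hom.toAlgebra
    ∃ q : Polynomial (MvPolynomial (Fin m) G.invariants), q.map (MvPolynomial.map G.invariants.subtype) =
      (∑ i, (MvPolynomial.X i : MvPolynomial (Fin m) Γ(G.U, ⊤)) •
        (sp.mat (G.t.appTop.hom (x i))).map (MvPolynomial.C : Γ(G.U, ⊤) → MvPolynomial (Fin m) Γ(G.U, ⊤))).charpoly := by
  letI := G.s.appTop.hom.toAlgebra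
  have h1 : IsPullback (pullback.snd G.s G.t) (pullback.fst G.s G.t) G.t G.s := (IsPullback.of_hasPullback G.s G.t).flip
  have h2 : IsPullback (pullback.snd G.s G.t) G.c G.s G.s := by
    refine IsPullback.flip (IsPullback.of_iso_pullback ⟨?_⟩ (H9Grpd.shear G) (H9Grpd.shear_hom_fst G) (pullback.lift_snd _ _ _))
    rw [← H9Grpd.shear_hom_fst G, Category.assoc, pullback.condition, ← Category.assoc]
    exact congrArg (· ≫ G.s) (pullback.lift_snd _ _ _)
  obtain ⟨s1, e1⟩ := exists_mat_baseChange (isPushout_appTop_of_isPullback h1) sp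
  obtain ⟨s2, e2⟩ := exists_mat_baseChange (isPushout_appTop_of_isPullback h2) sp
  have hx : ∀ f, G.c.appTop.hom (G.t.appTop.hom f) = (pullback.fst G.s G.t).appTop.hom (G.t.appTop.hom f) := fun f => by
    have hc : G.c ≫ G.t = pullback.fst G.s G.t ≫ G.t := by
      have h := G.comp_t (pullback.fst G.s G.t) (pullback.snd G.s G.t) pullback.condition
      rwa [show pullback.lift (pullback.fst G.s G.t) (pullback.snd G.s G.t) pullback.condition = 𝟙 _ from
        pullback.hom_ext (by simp) (by simp), Category.id_comp] at h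
    simpa using congrArg (fun m => m.appTop.hom f) hc
  set M := ∑ i, (MvPolynomial.X i : MvPolynomial (Fin m) Γ(G.U, ⊤)) •
        (sp.mat (G.t.appTop.hom (x i))).map (MvPolynomial.C : Γ(G.U, ⊤) → MvPolynomial (Fin m) Γ(G.U, ⊤)) with hM
  have hmap : ∀ (φ : Γ(G.U, ⊤) →+* Γ(G.R, ⊤)), M.map (MvPolynomial.map φ) = ∑ i, (MvPolynomial.X i : MvPolynomial (Fin m) Γ(G.R, ⊤)) •
      ((sp.mat (G.t.appTop.hom (x i))).map φ).map (MvPolynomial.C : Γ(G.R, ⊤) → MvPolynomial (Fin m) Γ(G.R, ⊤)) := fun φ => by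
    ext i j
    simp [hM, Matrix.sum_apply, map_sum]
  have hQ : M.charpoly.map (MvPolynomial.map G.s.appTop.hom) = M.charpoly.map (MvPolynomial.map G.t.appTop.hom) := by
    rw [← Matrix.charpoly_map, ← Matrix.charpoly_map, hmap, hmap]
    letI := (pullback.snd G.s G.t).appTop.hom.toAlgebra
    simp only [← e1, ← e2, hx]
    exact genSum_charpoly_eq s2 s1 _
  refine (Polynomial.mem_lifts _).1 ((Polynomial.lifts_iff_coeff_lifts _).2 fun k => ?_)
  have hk := congrArg (fun p => p.coeff k) hQ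
  simp only [Polynomial.coeff_map] at hk
  have : ∀ d, (M.charpoly.coeff k).coeff d ∈ G.invariants := fun d => by
    show G.s.appTop.hom _ = G.t.appTop.hom _
    simpa only [MvPolynomial.coeff_map] using congrArg (MvPolynomial.coeff d) hk
  refine ⟨∑ d ∈ (M.charpoly.coeff k).support, MvPolynomial.monomial d ⟨_, this d⟩, ?_⟩
  rw [map_sum]
  simp only [MvPolynomial.map_monomial]
  exact (MvPolynomial.as_sum _).symm

/-- the algebra structure on arrows -/
noncomputable abbrev algR : Algebra G.invariants Γ(G.R, ⊤) := (G.s.appTop.hom.comp G.invariants.subtype).toAlgebra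

variable {C' : Type u} [CommRing C'] [Algebra G.invariants C']

open Polynomial in
theorem exists_G {n : ℕ} (sp : letI := G.s.appTop.hom.toAlgebra; Split Γ(G.U, ⊤) Γ(G.R, ⊤) n)
    (f : Γ(G.U, ⊤) ⊗[G.invariants] C') :
    letI := algR G; letI := G.s.appTop.hom.toAlgebra
    ∀ (sT tT : Γ(G.U, ⊤) ⊗[G.invariants] C' →ₐ[G.invariants] Γ(G.R, ⊤) ⊗[G.invariants] C'),
      (∀ (a : Γ(G.U, ⊤)) (c : C'), sT (a ⊗ₜ c) = G.s.appTop.hom a ⊗ₜ c) →
      (∀ (a : Γ(G.U, ⊤)) (c : C'), tT (a ⊗ₜ c) = G.t.appTop.hom a ⊗ₜ c) → sT f = tT f →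
      ∃ P : C'[X], P.map (Algebra.TensorProduct.includeRight : C' →ₐ[G.invariants] Γ(G.U, ⊤) ⊗[G.invariants] C').toRingHom =
        ((hpoly (sp.mat 1)).map (Algebra.TensorProduct.includeLeftRingHom : Γ(G.U, ⊤) →+* Γ(G.U, ⊤) ⊗[G.invariants] C')).comp (X - Polynomial.C f) := by
  letI := algR G; letI := G.s.appTop.hom.toAlgebra
  intro sT tT hsT htT hf
  haveI : IsScalarTower G.invariants Γ(G.U, ⊤) Γ(G.R, ⊤) := .of_algebraMap_eq' rfl
  obtain ⟨m, g, rfl⟩ : ∃ (m : ℕ) (g : Fin m → Γ(G.U, ⊤) × C'), f = ∑ i, (g i).1 ⊗ₜ (g i).2 := by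
    obtain ⟨s, hs⟩ := TensorProduct.exists_finset (R := G.invariants) f
    refine ⟨s.card, fun i => (s.equivFin.symm i).1, hs.trans ?_⟩
    rw [← Finset.sum_coe_sort]
    exact (Fintype.sum_equiv s.equivFin.symm _ _ fun i => rfl).symm
  obtain ⟨q, hq⟩ := exists_lift_genPoly G sp (Fin.cons 1 fun i => (g i).1)
  let θ : MvPolynomial (Fin (m + 1)) G.invariants →+* C'[X] :=
    MvPolynomial.eval₂Hom (Polynomial.C.comp (algebraMap G.invariants C')) (Fin.cons (1 - X) fun i => Polynomial.C (g i).2)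
  refine ⟨q.eval₂ θ 1, ?_⟩
  let A' := Γ(G.U, ⊤) ⊗[G.invariants] C'
  let iR : C' →+* A' := (Algebra.TensorProduct.includeRight : C' →ₐ[G.invariants] A').toRingHom
  let iL : Γ(G.U, ⊤) →+* A' := Algebra.TensorProduct.includeLeftRingHom
  let ψ : MvPolynomial (Fin (m + 1)) Γ(G.U, ⊤) →+* A'[X] :=
    MvPolynomial.eval₂Hom (Polynomial.C.comp iL) (Fin.cons (1 - X) fun i => Polynomial.C (iR (g i).2))
  have hθ : (Polynomial.mapRingHom iR).comp θ = ψ.comp (MvPolynomial.map G.invariants.subtype) := by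
    apply MvPolynomial.ringHom_ext
    · intro c
      simp only [θ, ψ, RingHom.comp_apply, MvPolynomial.map_C, MvPolynomial.eval₂Hom_C, Polynomial.coe_mapRingHom, Polynomial.map_C]
      exact congrArg Polynomial.C ((Algebra.TensorProduct.includeRight : C' →ₐ[G.invariants] A').commutes c)
    · intro i
      refine Fin.cases ?_ (fun i => ?_) i <;>
        simp [θ, ψ, MvPolynomial.map_X, MvPolynomial.eval₂Hom_X']
  show (q.eval₂ θ 1).map iR = _
  rw [← Polynomial.coe_mapRingHom, Polynomial.hom_eval₂, hθ, map_one, ← Polynomial.eval_map, ← Polynomial.map_map, hq, ← Matrix.charpoly_map,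
    Matrix.eval_charpoly]
  set f := ∑ i, (g i).1 ⊗ₜ[G.invariants] (g i).2
  have key : ∀ i j, ∑ l, iR (g l).2 * iL (sp.mat (G.t.appTop.hom (g l).1) i j) = f * iL (sp.mat 1 i j) := by
    intro i j
    let φ : Γ(G.R, ⊤) →ₗ[G.invariants] Γ(G.U, ⊤) :=
      (((LinearMap.proj i).comp sp.coord).comp (LinearMap.mulRight Γ(G.U, ⊤) (sp.gen j))).restrictScalars G.invariants
    have h := congrArg (TensorProduct.map φ (LinearMap.id : C' →ₗ[G.invariants] C')) hf
    simp only [f, map_sum, hsT, htT, TensorProduct.map_tmul, LinearMap.id_apply] at h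
    simp only [f, Finset.sum_mul]
    calc _ = ∑ l, φ (G.t.appTop.hom (g l).1) ⊗ₜ[G.invariants] (g l).2 := Finset.sum_congr rfl fun l _ => by
          show ((1 : Γ(G.U, ⊤)) ⊗ₜ[G.invariants] (g l).2) * ((sp.mat (G.t.appTop.hom (g l).1) i j) ⊗ₜ[G.invariants] (1 : C')) = _
          rw [Algebra.TensorProduct.tmul_mul_tmul, one_mul, mul_one]
          rfl
      _ = ∑ l, φ (G.s.appTop.hom (g l).1) ⊗ₜ[G.invariants] (g l).2 := h.symm
      _ = _ := Finset.sum_congr rfl fun l _ => by
          have : φ (G.s.appTop.hom (g l).1) = (g l).1 * sp.mat 1 i j := by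
            simp [φ, Split.mat, show G.s.appTop.hom (g l).1 = algebraMap Γ(G.U, ⊤) Γ(G.R, ⊤) (g l).1 from rfl, coord_mul_left]
          show _ = ((g l).1 ⊗ₜ[G.invariants] (g l).2) * ((sp.mat 1 i j) ⊗ₜ[G.invariants] (1 : C'))
          rw [Algebra.TensorProduct.tmul_mul_tmul, mul_one, this]
  have hrhs : ((hpoly (sp.mat 1)).map iL).comp (X - Polynomial.C f) =
      (1 + ((X - Polynomial.C f) - 1) • (sp.mat 1).map (fun a => Polynomial.C (iL a))).det := by
    rw [hpoly, ← Polynomial.coe_mapRingHom, RingHom.map_det, ← Polynomial.coe_compRingHom_apply, RingHom.map_det]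
    congr 1
    refine Matrix.ext fun i j => ?_
    simp [Matrix.one_apply, apply_ite (Polynomial.map iL), apply_ite (fun p : A'[X] => p.comp (X - Polynomial.C f))]
  rw [hrhs]
  congr 1
  refine Matrix.ext fun i j => ?_
  simp [Matrix.sum_apply, map_sum, Fin.sum_univ_succ, ψ, Matrix.scalar_apply, Matrix.diagonal_apply, Matrix.one_apply, MvPolynomial.eval₂Hom_X', MvPolynomial.eval₂Hom_C]
  have k := congrArg Polynomial.C (key i j)
  simp only [map_sum, map_mul] at k
  rw [k]
  ring

open Polynomial in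
theorem invariants_baseChange [IsFinite G.s] [Flat G.s] [LocallyOfFinitePresentation G.s] :
    letI := algR G
    ∀ (sT tT : Γ(G.U, ⊤) ⊗[G.invariants] C' →ₐ[G.invariants] Γ(G.R, ⊤) ⊗[G.invariants] C'),
      (∀ (a : Γ(G.U, ⊤)) (c : C'), sT (a ⊗ₜ c) = G.s.appTop.hom a ⊗ₜ c) →
      (∀ (a : Γ(G.U, ⊤)) (c : C'), tT (a ⊗ₜ c) = G.t.appTop.hom a ⊗ₜ c) →
      (∀ f, sT f = tT f → ∃ (N : ℕ) (P : C'[X]), 0 < N ∧
          P.map (Algebra.TensorProduct.includeRight : C' →ₐ[G.invariants] Γ(G.U, ⊤) ⊗[G.invariants] C').toRingHom = (X - Polynomial.C f) ^ N) ∧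
      (∀ c : C', (Algebra.TensorProduct.includeRight : C' →ₐ[G.invariants] Γ(G.U, ⊤) ⊗[G.invariants] C') c = 0 → IsNilpotent c) ∧
      (Module.Flat G.invariants C' →
        Function.Injective (Algebra.TensorProduct.includeRight : C' →ₐ[G.invariants] Γ(G.U, ⊤) ⊗[G.invariants] C') ∧
        ∀ f, sT f = tT f → f ∈ Set.range (Algebra.TensorProduct.includeRight : C' →ₐ[G.invariants] Γ(G.U, ⊤) ⊗[G.invariants] C')) := by
  letI := algR G
  intro sT tT hsT htT
  refine ⟨fun f hf => ?_, fun c hc => ?_, fun hfl => ?_⟩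
  · letI := G.s.appTop.hom.toAlgebra
    haveI : IsScalarTower G.invariants Γ(G.U, ⊤) Γ(G.R, ⊤) := .of_algebraMap_eq' rfl
    haveI : Module.Finite Γ(G.U, ⊤) Γ(G.R, ⊤) := G.s.finite_appTop
    haveI : Module.Flat Γ(G.U, ⊤) Γ(G.R, ⊤) := G.s.flat_appTop
    haveI : Algebra.FinitePresentation Γ(G.U, ⊤) Γ(G.R, ⊤) := G.s.finitePresentation_appTop
    haveI : Module.FinitePresentation Γ(G.U, ⊤) Γ(G.R, ⊤) := Module.FinitePresentation.of_finite_of_finitePresentation _ _
    haveI : Module.Projective Γ(G.U, ⊤) Γ(G.R, ⊤) := Module.Flat.projective_of_finitePresentation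
    obtain ⟨n, ⟨sp⟩⟩ := exists_split (A := Γ(G.U, ⊤)) (P := Γ(G.R, ⊤))
    obtain ⟨P₁, hP₁⟩ := exists_G G sp f sT tT hsT htT hf
    obtain ⟨q, hq⟩ := exists_lift_genPoly G sp (fun _ : Fin 1 => 1)
    have hE : sp.mat 1 * sp.mat 1 = sp.mat 1 := by rw [sp.mat_mul, mul_one]
    set h := hpoly (sp.mat 1) with hh
    let θ : MvPolynomial (Fin 1) G.invariants →+* (G.invariants : Subring Γ(G.U, ⊤))[X] := MvPolynomial.eval₂Hom Polynomial.C fun _ => 1 - X
    have hq' : (q.eval₂ θ 1).map G.invariants.subtype = h := by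
      let ψ : MvPolynomial (Fin 1) Γ(G.U, ⊤) →+* Γ(G.U, ⊤)[X] := MvPolynomial.eval₂Hom Polynomial.C fun _ => 1 - X
      have hθ : (Polynomial.mapRingHom G.invariants.subtype).comp θ = ψ.comp (MvPolynomial.map G.invariants.subtype) := by
        apply MvPolynomial.ringHom_ext
        · intro c; simp [θ, ψ]
        · intro i; simp [θ, ψ]
      rw [← Polynomial.coe_mapRingHom, Polynomial.hom_eval₂, hθ, map_one, ← Polynomial.eval_map, ← Polynomial.map_map, hq, ← Matrix.charpoly_map,
        Matrix.eval_charpoly, hh, hpoly]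
      congr 1
      refine Matrix.ext fun i j => ?_
      simp [ψ, Matrix.scalar_apply, Matrix.diagonal_apply, Matrix.one_apply]
      ring
    let e : ℕ → G.invariants := (q.eval₂ θ 1).coeff
    have he : ∀ r, (e r : Γ(G.U, ⊤)) = h.coeff r := fun r => by rw [← hq', Polynomial.coeff_map]; rfl
    have he0 : h.coeff 0 = 0 := by
      have hz := coeff_zero_smul (sp.mat 1) hE
      have hg : ∀ j, h.coeff 0 • sp.gen j = 0 := fun j => by
        rw [← sp.sum_coord (h.coeff 0 • sp.gen j), map_smul]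
        refine Finset.sum_eq_zero fun i _ => ?_
        have := congrFun (congrFun hz i) j
        have hm : sp.mat 1 i j = sp.coord (sp.gen j) i := by simp [Split.mat]
        rw [Matrix.smul_apply, hm, Matrix.zero_apply, ← hh] at this
        rw [Pi.smul_apply, this, zero_smul]
      have h1 : h.coeff 0 • (1 : Γ(G.R, ⊤)) = 0 := by
        rw [← sp.sum_coord 1, Finset.smul_sum]
        exact Finset.sum_eq_zero fun j _ => by rw [smul_comm, hg, smul_zero]
      have h2 := congrArg G.e.appTop.hom h1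
      rw [Algebra.smul_def, mul_one, map_zero] at h2
      have hes : G.e.appTop.hom (G.s.appTop.hom (h.coeff 0)) = h.coeff 0 := by
        simpa using congrArg (fun m => m.appTop.hom (h.coeff 0)) G.e_s
      rw [← hes]; exact h2
    exact exists_pow f h e he (coeff_mul _ hE) he0 (hpoly_eval_one _) P₁ hP₁
  · haveI : Algebra.IsIntegral G.invariants Γ(G.U, ⊤) := isIntegral_invariants G
    exact nilpotent_of_includeRight (fun a b h => Subtype.ext h) c hc
  · have hlin : ∀ (c : G.invariants) (a : Γ(G.U, ⊤)), G.t.appTop.hom (c • a) = c • G.t.appTop.hom a := fun c a => by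
      rw [Algebra.smul_def, Algebra.smul_def, map_mul]
      exact congrArg (· * _) c.2.symm
    let tL : Γ(G.U, ⊤) →ₗ[G.invariants] Γ(G.R, ⊤) := { toFun := G.t.appTop.hom, map_add' := map_add _, map_smul' := hlin }
    let sL : Γ(G.U, ⊤) →ₗ[G.invariants] Γ(G.R, ⊤) :=
      { toFun := G.s.appTop.hom, map_add' := map_add _, map_smul' := fun c a => by
          show G.s.appTop.hom (c • a) = c • G.s.appTop.hom a
          rw [Algebra.smul_def, Algebra.smul_def, map_mul]; rfl }
    haveI := hfl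
    obtain ⟨h1, h2⟩ := flat_range (C' := C') sL tL (fun a b h => Subtype.ext h) (fun a =>
      ⟨fun h => ⟨⟨a, h⟩, rfl⟩, fun ⟨c, hc⟩ => by rw [← hc]; exact c.2⟩)
    have h3 : ∀ (L : Γ(G.U, ⊤) →ₗ[G.invariants] Γ(G.R, ⊤)) (T : Γ(G.U, ⊤) ⊗[G.invariants] C' →ₐ[G.invariants] Γ(G.R, ⊤) ⊗[G.invariants] C'),
        (∀ a c, T (a ⊗ₜ c) = L a ⊗ₜ c) → L.rTensor C' = T.toLinearMap := fun L T hT =>
      TensorProduct.ext' fun a c => (hT a c).symm
    refine ⟨h1, fun f hf => h2 f ?_⟩
    rw [h3 sL sT hsT, h3 tL tT htT]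
    exact hf

end Groth.Agent.H9GrpdInvBC
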