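import Groth.Prelude.Def_Grpd
import Groth.Agent.Lib.H9GrpdCalc
import Mathlib

/-! Maximal opens for properties local at the target are invariant. -/

set_option autoImplicit false
set_option linter.all false
set_option synthInstance.maxHeartbeats 20000
set_option maxHeartbeats 200000
set_option backward.isDefEq.respectTransparency.types false
set_option backward.isDefEq.respectTransparency false

universe u

open AlgebraicGeometry CategoryTheory CategoryTheory.Limits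

namespace Groth.Agent.H9GrpdMaxOpen

open Groth.Agent.H9Grpd Groth.Agent.H9GrpdCalc

theorem le_max {Q : MorphismProperty Scheme.{u}} [Q.IsMultiplicative] [Q.IsStableUnderBaseChange]
    (hopen : ∀ {X Y : Scheme.{u}} (g : X ⟶ Y) [IsOpenImmersion g], Q g) (hQ : ∀ {X Y : Scheme.{u}} (g : X ⟶ Y), Q g → IsOpenMap g.base)
    (P : MorphismProperty Scheme.{u}) [P.IsLocalAtTarget (Scheme.precoverage Q)]
    {X Z U R : Scheme.{u}} (f : X ⟶ U) (a b : R ⟶ U) (ha : Presieve.singleton a ∈ Scheme.precoverage Q U)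
    (hb : Q b) (a' b' : Z ⟶ X) (q : Z ⟶ R) (Ha : IsPullback a' q f a) (Hb : IsPullback b' q f b)
    (W : U.Opens) (hW : P (f ∣_ W)) (hmax : ∀ W' : U.Opens, P (f ∣_ W') → W' ≤ W) : a ⁻¹ᵁ W ≤ b ⁻¹ᵁ W := by
  rw [Scheme.singleton_mem_precoverage_iff] at ha
  let V : U.Opens := ⟨b '' (a ⁻¹ᵁ W : R.Opens), hQ b hb _ (a ⁻¹ᵁ W).2⟩
  suffices hV : P (f ∣_ V) from fun r hr => hmax V hV ⟨r, hr, rfl⟩
  have hle : a ⁻¹ᵁ W ≤ b ⁻¹ᵁ V := fun r hr => ⟨r, hr, rfl⟩
  let g : (a ⁻¹ᵁ W).toScheme ⟶ V := b.resLE V (a ⁻¹ᵁ W) hle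
  have hg : g ≫ V.ι = (a ⁻¹ᵁ W).ι ≫ b := Scheme.Hom.resLE_comp_ι _ _
  have hgQ : Q g := by
    have : g = R.homOfLE hle ≫ (b ∣_ V) := rfl
    rw [this]
    exact Q.comp_mem _ _ (hopen _) (MorphismProperty.of_isPullback (isPullback_morphismRestrict b V).flip hb)
  have hgmem : Presieve.singleton g ∈ Scheme.precoverage Q V.toScheme := by
    rw [Scheme.singleton_mem_precoverage_iff]
    refine ⟨?_, hgQ⟩
    rintro ⟨_, r, hr, rfl⟩
    refine ⟨⟨r, hr⟩, Subtype.ext ?_⟩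
    exact ((Scheme.Hom.comp_apply g V.ι _).symm.trans (congrArg (fun m : (a ⁻¹ᵁ W).toScheme ⟶ U => m ⟨r, hr⟩) hg))
  have haW : Presieve.singleton (a ∣_ W) ∈ Scheme.precoverage Q W.toScheme := by
    rw [Scheme.singleton_mem_precoverage_iff]
    exact ⟨(MorphismProperty.of_isPullback (P := @Surjective) (isPullback_morphismRestrict a W).flip ⟨ha.1⟩).1,
      MorphismProperty.of_isPullback (isPullback_morphismRestrict a W).flip ha.2⟩
  have h1 : IsPullback (pullback.fst q (a ⁻¹ᵁ W).ι ≫ a') (pullback.snd q (a ⁻¹ᵁ W).ι) f ((a ⁻¹ᵁ W).ι ≫ a) :=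
    (IsPullback.of_hasPullback q (a ⁻¹ᵁ W).ι).paste_horiz Ha
  have h2 : IsPullback (pullback.fst q (a ⁻¹ᵁ W).ι ≫ b') (pullback.snd q (a ⁻¹ᵁ W).ι) f ((a ⁻¹ᵁ W).ι ≫ b) :=
    (IsPullback.of_hasPullback q (a ⁻¹ᵁ W).ι).paste_horiz Hb
  have k1 : IsPullback (pullback.fst (f ∣_ W) (a ∣_ W) ≫ (f ⁻¹ᵁ W).ι) (pullback.snd (f ∣_ W) (a ∣_ W)) f ((a ⁻¹ᵁ W).ι ≫ a) := by
    rw [← morphismRestrict_ι a W]
    exact (IsPullback.of_hasPullback (f ∣_ W) (a ∣_ W)).paste_horiz (isPullback_morphismRestrict f W).flip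
  have k2 : IsPullback (pullback.fst (f ∣_ V) g ≫ (f ⁻¹ᵁ V).ι) (pullback.snd (f ∣_ V) g) f ((a ⁻¹ᵁ W).ι ≫ b) := by
    rw [← hg]
    exact (IsPullback.of_hasPullback (f ∣_ V) g).paste_horiz (isPullback_morphismRestrict f V).flip
  have hP : P (pullback.snd (f ∣_ W) (a ∣_ W)) :=
    MorphismProperty.IsLocalAtTarget.pullbackSnd haW (Presieve.singleton_self _) hW
  haveI : P.RespectsIso := MorphismProperty.IsLocalAtTarget.toRespects (K := Scheme.precoverage Q)
  rw [← k1.isoIsPullback_hom_snd _ _ h1, MorphismProperty.cancel_left_of_respectsIso P,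
    ← h2.isoIsPullback_hom_snd _ _ k2] at hP
  refine MorphismProperty.IsLocalAtTarget.of_forall_pullbackSnd hgmem ?_
  intro U' g' _ hg'
  obtain ⟨⟩ := hg'
  exact (MorphismProperty.cancel_left_of_respectsIso P _ _).1 hP

variable {S : Scheme.{u}} (G : Grpd.GroupoidScheme S)

theorem s_twoPullbacks : ∃ (Z : Scheme.{u}) (a' b' : Z ⟶ G.R) (q : Z ⟶ G.R), IsPullback a' q G.s G.s ∧ IsPullback b' q G.s G.t :=
  ⟨_, _, (shear G).inv ≫ pullback.fst G.s G.t, pullback.snd G.s G.s, IsPullback.of_hasPullback _ _,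
    IsPullback.of_iso_pullback ⟨by
      rw [Category.assoc, pullback.condition]
      have : (shear G).inv ≫ pullback.snd G.s G.t = pullback.snd G.s G.s := pullback.lift_snd _ _ _
      rw [reassoc_of% this]⟩ (shear G).symm rfl (pullback.lift_snd _ _ _)⟩

theorem stab_twoPullbacks : ∃ (Z : Scheme.{u}) (a' b' : Z ⟶ G.stabilizer) (q : Z ⟶ G.R),
    IsPullback a' q G.stabilizerToU G.s ∧ IsPullback b' q G.stabilizerToU G.t := by
  let f := pullback.fst G.stabilizerToU G.t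
  let q := pullback.snd G.stabilizerToU G.t
  let g : pullback G.stabilizerToU G.t ⟶ G.R := f ≫ pullback.fst G.j G.diag
  obtain ⟨hg1, hg2⟩ := stab_ts G f
  have hgq : g ≫ G.s = q ≫ G.t := hg2.trans pullback.condition
  let α : pullback G.stabilizerToU G.t ⟶ pullback G.s G.t := pullback.lift g q hgq
  have hc : (α ≫ G.c) ≫ G.j = q ≫ G.j := by
    apply pullback.hom_ext
    · rw [Category.assoc (α ≫ G.c), j_fst, Category.assoc q, j_fst, comp_c, mul_t]
      simp only [α, pullback.lift_fst]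
      exact hg1.trans pullback.condition
    · rw [Category.assoc (α ≫ G.c), j_snd, Category.assoc q, j_snd, comp_c, mul_s]
      simp only [α, pullback.lift_snd]
  let β : pullback G.stabilizerToU G.t ⟶ pullback G.j G.j := pullback.lift (α ≫ G.c) q hc
  haveI : IsIso β := torsor_isIso G α (pullback.lift_fst _ _ _) (pullback.lift_snd _ _ _) β (pullback.lift_fst _ _ _) (pullback.lift_snd _ _ _)
  have hii : G.i ≫ G.i = 𝟙 _ := by
    have e1 : ((G.i ≫ G.i) ≫ G.s) = (G.i ≫ G.t) := by rw [Category.assoc, G.i_s]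
    have hd : ∀ (h' : (G.i ≫ G.i) ≫ G.s = G.i ≫ G.t), mul G (G.i ≫ G.i) G.i h' = G.i ≫ G.s ≫ G.e := fun h' => G.i_comp G.i
    -- (i i) = (i i) (i · id) = ((i i) i) id = id
    have hid : mul G G.i (𝟙 G.R) (by rw [G.i_s, Category.id_comp]) = G.s ≫ G.e := by
      have := G.i_comp (𝟙 G.R)
      simp only [Category.id_comp] at this
      exact this
    have a1 : (G.i ≫ G.i) = mul G (G.i ≫ G.i) (G.s ≫ G.e) (by simp [G.i_s, G.i_t, G.e_t]) := by
      refine ((G.comp_e (G.i ≫ G.i)).symm.trans (mul_congr G rfl ?_ _ _))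
      rw [Category.assoc, reassoc_of% G.i_s, reassoc_of% G.i_t]
    refine a1.trans ((mul_congr G rfl hid.symm _ (by rw [mul_t]; simp [G.i_s])).trans ?_)
    refine (G.assoc (G.i ≫ G.i) G.i (𝟙 G.R) e1 (by rw [G.i_s, Category.id_comp])).symm.trans ?_
    refine (mul_congr G (hd e1) rfl _ ?_).trans ((mul_congr G ?_ rfl _ ?_).trans (G.e_comp (𝟙 G.R)))
    · simp [G.i_s, G.e_s]
    · rw [Category.id_comp, reassoc_of% G.i_s]
    · simp [G.e_s]
  haveI : IsIso G.i := ⟨G.i, hii, hii⟩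
  have hca : (pullback.fst G.j G.j ≫ G.i) ≫ G.j = (pullback.snd G.j G.j ≫ G.i) ≫ G.j := by
    have := pullback.condition (f := G.j) (g := G.j)
    apply pullback.hom_ext
    · have h' := congrArg (· ≫ pullback.snd G.pU G.pU) this
      simp only [Category.assoc, j_fst, j_snd, G.i_t] at h' ⊢
      exact h'
    · have h' := congrArg (· ≫ pullback.fst G.pU G.pU) this
      simp only [Category.assoc, j_fst, j_snd, G.i_s] at h' ⊢
      exact h'
  let ι : pullback G.j G.j ⟶ pullback G.j G.j := pullback.lift (pullback.fst G.j G.j ≫ G.i) (pullback.snd G.j G.j ≫ G.i) hca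
  have hι : ι ≫ ι = 𝟙 _ := by
    apply pullback.hom_ext <;> simp [ι, hii]
  haveI : IsIso ι := ⟨ι, hι, hι⟩
  let ψ := β ≫ ι ≫ inv β
  have hψ : ψ ≫ q = q ≫ G.i := by
    have e : β ≫ pullback.snd G.j G.j = q := pullback.lift_snd _ _ _
    have e' : inv β ≫ q = pullback.snd G.j G.j := by rw [IsIso.inv_comp_eq, e]
    simp only [ψ, Category.assoc, e']
    simp only [ι, pullback.lift_snd]
    rw [← Category.assoc, e]
  refine ⟨_, ψ ≫ f, f, q, ?_, IsPullback.of_hasPullback _ _⟩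
  have := (IsPullback.of_horiz_isIso ⟨hψ⟩).paste_horiz (IsPullback.of_hasPullback G.stabilizerToU G.t)
  rwa [G.i_t] at this

end Groth.Agent.H9GrpdMaxOpen
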