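import Groth.Prelude.Def_Grpd
import Groth.Agent.Lib.H9Grpd
import Groth.Agent.Lib.H6.SubtrVal2
import Mathlib

/-! Orbits of quasi-compact opens. -/

set_option autoImplicit false
set_option linter.all false
set_option synthInstance.maxHeartbeats 20000
set_option backward.isDefEq.respectTransparency.types false
set_option backward.isDefEq.respectTransparency false

universe u

open AlgebraicGeometry CategoryTheory CategoryTheory.Limits

namespace Groth.Agent.H9GrpdOrbitOpen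

open Groth.Agent.H9Grpd

variable {S : Scheme.{u}} (G : Grpd.GroupoidScheme S) [QuasiCompact G.s] [Flat G.s] [QuasiCompact G.t] [Flat G.t]
  (W : G.U.Opens) (hW : IsCompact (W : Set G.U))

include hW in
theorem compact_E : IsCompact (G.t '' (G.s ⁻¹' (W : Set G.U))) :=
  (QuasiCompact.isCompact_preimage (f := G.s) (W : Set G.U) W.2 hW).image G.t.continuous

theorem gen_E {x y : G.U} (hx : x ∈ G.t '' (G.s ⁻¹' (W : Set G.U))) (h : y ⤳ x) : y ∈ G.t '' (G.s ⁻¹' (W : Set G.U)) := by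
  obtain ⟨r, hr, rfl⟩ := hx
  obtain ⟨r', hr', rfl⟩ := Flat.generalizingMap G.t h
  exact ⟨r', W.2.stableUnderGeneralization (hr'.map G.s.continuous) hr, rfl⟩

omit [Flat G.s] [Flat G.t] [QuasiCompact G.s] [QuasiCompact G.t] in
theorem exists_qc_nhd {E : Set G.U} (hE : IsCompact E) (O : G.U.Opens) (hO : E ⊆ (O : Set G.U)) :
    ∃ V : G.U.Opens, IsCompact (V : Set G.U) ∧ E ⊆ (V : Set G.U) ∧ V ≤ O := by
  choose A hA hxA hAO using fun x : E => exists_isAffineOpen_mem_and_subset (X := G.U) (x := x.1) (U := O) (hO x.2)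
  obtain ⟨t, ht⟩ := hE.elim_finite_subcover (fun x : E => (A x : Set G.U)) (fun x => (A x).2)
    (fun x hx => Set.mem_iUnion.2 ⟨⟨x, hx⟩, hxA _⟩)
  refine ⟨⟨⋃ x ∈ t, (A x : Set G.U), isOpen_biUnion fun x _ => (A x).2⟩, t.isCompact_biUnion fun x _ => (hA x).isCompact, ht, ?_⟩
  exact fun y hy => by
    obtain ⟨x, _, hy⟩ := Set.mem_iUnion₂.1 hy
    exact hAO x hy

include hW in
theorem orbit_eq_iInter : ∃ (ι : Type u) (_ : Nonempty ι) (V : ι → G.U.Opens), (∀ i, IsCompact (V i : Set G.U)) ∧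
    ⇑G.t '' (⇑G.s ⁻¹' (W : Set G.U)) = ⋂ i, (V i : Set G.U) := by
  let E := G.t '' (G.s ⁻¹' (W : Set G.U))
  obtain ⟨V₀, hV₀, hEV₀, -⟩ := exists_qc_nhd G (compact_E G W hW) ⊤ (fun x _ => trivial)
  refine ⟨{V : G.U.Opens // IsCompact (V : Set G.U) ∧ E ⊆ (V : Set G.U)}, ⟨⟨V₀, hV₀, hEV₀⟩⟩, fun V => V.1, fun V => V.2.1,
    Set.Subset.antisymm (Set.subset_iInter fun V => V.2.2) fun x hx => ?_⟩
  by_contra hn
  obtain ⟨V, hV, hEV, hVO⟩ := exists_qc_nhd G (compact_E G W hW) ⟨(closure {x})ᶜ, isClosed_closure.isOpen_compl⟩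
    (fun y hy hcl => hn (gen_E G W hy (specializes_iff_mem_closure.2 hcl)))
  exact hVO (Set.mem_iInter.1 hx ⟨V, hV, hEV⟩) (subset_closure rfl)

include hW in
theorem exists_invariant_between : ∃ V W' : G.U.Opens, G.s ⁻¹ᵁ V = G.t ⁻¹ᵁ V ∧ IsCompact (W' : Set G.U) ∧ W ≤ V ∧ V ≤ W' := by
  obtain ⟨W', hW', hEW', -⟩ := exists_qc_nhd G (compact_E G W hW) ⊤ (fun x _ => trivial)
  let Zc : TopologicalSpace.Closeds G.R := ⟨G.s ⁻¹' (W' : Set G.U)ᶜ, W'.2.isClosed_compl.preimage G.s.continuous⟩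
  let ι := (Scheme.IdealSheafData.vanishingIdeal Zc).subschemeι
  have hι : Set.range ι = G.s ⁻¹' (W' : Set G.U)ᶜ := by
    simp [ι, Scheme.IdealSheafData.range_subschemeι, Scheme.IdealSheafData.coe_support_vanishingIdeal, Zc]
  let K := Set.range (ι ≫ G.t)
  have hK : K = G.t '' (G.s ⁻¹' (W' : Set G.U)ᶜ) := by
    rw [← hι, ← Set.range_comp]; rfl
  have hinv : ∀ r : G.R, G.s r ∈ K ↔ G.t r ∈ K := by
    intro r
    rw [hK]
    constructor
    · rintro ⟨q, hq, hqr⟩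
      obtain ⟨z, hz1, hz2⟩ := exists_inv G r
      -- `z : s r → t r` reversed
      obtain ⟨w, hw1, hw2⟩ := exists_comp G r q hqr.symm
      exact ⟨w, (show G.s w ∈ (W' : Set G.U)ᶜ by rw [hw2]; exact hq), hw1⟩
    · rintro ⟨q, hq, hqr⟩
      obtain ⟨z, hz1, hz2⟩ := exists_inv G r
      obtain ⟨w, hw1, hw2⟩ := exists_comp G z q (hz2.trans hqr.symm)
      exact ⟨w, (show G.s w ∈ (W' : Set G.U)ᶜ by rw [hw2]; exact hq), hw1.trans hz1⟩
  have hcl : ∀ r : G.R, G.s r ∈ closure K ↔ G.t r ∈ closure K := by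
    intro r
    constructor
    · intro h
      obtain ⟨y, hy⟩ := H6.SubtrVal.exists_specializes_of_mem_closure_range (ι ≫ G.t) h
      obtain ⟨r', hr', hsr'⟩ := Flat.generalizingMap G.s hy
      have : G.t r' ∈ K := (hinv r').1 (by rw [hsr']; exact ⟨y, rfl⟩)
      exact closure_mono (Set.singleton_subset_iff.2 this) (specializes_iff_mem_closure.1 (hr'.map G.t.continuous))
    · intro h
      obtain ⟨y, hy⟩ := H6.SubtrVal.exists_specializes_of_mem_closure_range (ι ≫ G.t) h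
      obtain ⟨r', hr', htr'⟩ := Flat.generalizingMap G.t hy
      have : G.s r' ∈ K := (hinv r').2 (by rw [htr']; exact ⟨y, rfl⟩)
      exact closure_mono (Set.singleton_subset_iff.2 this) (specializes_iff_mem_closure.1 (hr'.map G.s.continuous))
  have hWK : Disjoint (W : Set G.U) K := by
    rw [Set.disjoint_left, hK]
    rintro x hx ⟨q, hq, rfl⟩
    obtain ⟨z, hz1, hz2⟩ := exists_inv G q
    refine hq (hEW' ⟨z, ?_, hz1⟩)
    show G.s z ∈ (W : Set G.U)
    rw [hz2]; exact hx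
  refine ⟨⟨(closure K)ᶜ, isClosed_closure.isOpen_compl⟩, W', ?_, hW', ?_, ?_⟩
  · ext r
    exact not_congr (hcl r)
  · exact fun x hx hxc => Set.disjoint_left.1 (hWK.closure_right W.2) hx hxc
  · intro x hx
    by_contra hn
    refine hx (subset_closure ?_)
    rw [hK]
    exact ⟨G.e x, (show G.s (G.e x) ∈ (W' : Set G.U)ᶜ by rw [← Scheme.Hom.comp_apply, G.e_s]; exact hn),
      by rw [← Scheme.Hom.comp_apply, G.e_t]; rfl⟩

end Groth.Agent.H9GrpdOrbitOpen
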