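import Groth.Prelude.Def_Grpd
import Groth.Agent.Lib.H9Grpd
import Mathlib

/-! Restriction of a groupoid along a morphism to the objects. -/

set_option autoImplicit false
set_option linter.all false
set_option backward.isDefEq.respectTransparency.types false
set_option backward.isDefEq.respectTransparency false

universe u

open AlgebraicGeometry CategoryTheory CategoryTheory.Limits

namespace Groth.Agent.H9GrpdPullback

variable {S : Scheme.{u}} (G : Grpd.GroupoidScheme S) {U' : Scheme.{u}} (u : U' ⟶ G.U)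

/-- `{(r, x, y) | t r = u x, s r = u y}` -/
noncomputable abbrev R' : Scheme.{u} := pullback (pullback.fst G.t u ≫ G.s) u

/-- underlying arrow -/
noncomputable def ar : R' G u ⟶ G.R := pullback.fst _ _ ≫ pullback.fst G.t u
noncomputable def t' : R' G u ⟶ U' := pullback.fst _ _ ≫ pullback.snd G.t u
noncomputable def s' : R' G u ⟶ U' := pullback.snd _ _

theorem ar_t : ar G u ≫ G.t = t' G u ≫ u := by simp [ar, t', Category.assoc, pullback.condition]
theorem ar_s : ar G u ≫ G.s = s' G u ≫ u := by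
  rw [ar, s', Category.assoc]; exact pullback.condition

/-- make an arrow -/
noncomputable def mk {T : Scheme.{u}} (r : T ⟶ G.R) (x y : T ⟶ U') (ht : r ≫ G.t = x ≫ u) (hs : r ≫ G.s = y ≫ u) : T ⟶ R' G u :=
  pullback.lift (pullback.lift r x ht) y (by rw [pullback.lift_fst_assoc]; exact hs)

theorem mk_ar {T : Scheme.{u}} (r : T ⟶ G.R) (x y : T ⟶ U') (ht : r ≫ G.t = x ≫ u) (hs : r ≫ G.s = y ≫ u) :
    mk G u r x y ht hs ≫ ar G u = r := by simp [mk, ar]
theorem mk_t {T : Scheme.{u}} (r : T ⟶ G.R) (x y : T ⟶ U') (ht : r ≫ G.t = x ≫ u) (hs : r ≫ G.s = y ≫ u) :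
    mk G u r x y ht hs ≫ t' G u = x := by simp [mk, t']
theorem mk_s {T : Scheme.{u}} (r : T ⟶ G.R) (x y : T ⟶ U') (ht : r ≫ G.t = x ≫ u) (hs : r ≫ G.s = y ≫ u) :
    mk G u r x y ht hs ≫ s' G u = y := by simp [mk, s']

theorem hom_ext {T : Scheme.{u}} {a b : T ⟶ R' G u} (h : a ≫ ar G u = b ≫ ar G u) (ht : a ≫ t' G u = b ≫ t' G u)
    (hs : a ≫ s' G u = b ≫ s' G u) : a = b := by
  apply pullback.hom_ext
  · apply pullback.hom_ext
    · simpa [ar] using h
    · simpa [t'] using ht
  · exact hs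

theorem cond {T : Scheme.{u}} {a b : T ⟶ R' G u} (h : a ≫ s' G u = b ≫ t' G u) :
    (a ≫ ar G u) ≫ G.s = (b ≫ ar G u) ≫ G.t := by
  rw [Category.assoc, Category.assoc, ar_s, ar_t, reassoc_of% h]

noncomputable def c' : pullback (s' G u) (t' G u) ⟶ R' G u :=
  mk G u (H9Grpd.mul G (pullback.fst _ _ ≫ ar G u) (pullback.snd _ _ ≫ ar G u) (cond G u pullback.condition))
    (pullback.fst _ _ ≫ t' G u) (pullback.snd _ _ ≫ s' G u)
    (by rw [H9Grpd.mul, G.comp_t, Category.assoc, ar_t, Category.assoc])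
    (by rw [H9Grpd.mul, G.comp_s, Category.assoc, ar_s, Category.assoc])

theorem c'_ar {T : Scheme.{u}} (a b : T ⟶ R' G u) (h : a ≫ s' G u = b ≫ t' G u) :
    (pullback.lift a b h ≫ c' G u) ≫ ar G u = pullback.lift (a ≫ ar G u) (b ≫ ar G u) (cond G u h) ≫ G.c := by
  rw [Category.assoc, c', mk_ar, H9Grpd.mul, ← Category.assoc]
  congr 1
  apply pullback.hom_ext
  · simp
  · simp

theorem c'_t {T : Scheme.{u}} (a b : T ⟶ R' G u) (h : a ≫ s' G u = b ≫ t' G u) :
    (pullback.lift a b h ≫ c' G u) ≫ t' G u = a ≫ t' G u := by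
  rw [Category.assoc, c', mk_t]; simp

theorem c'_s {T : Scheme.{u}} (a b : T ⟶ R' G u) (h : a ≫ s' G u = b ≫ t' G u) :
    (pullback.lift a b h ≫ c' G u) ≫ s' G u = b ≫ s' G u := by
  rw [Category.assoc, c', mk_s]; simp

noncomputable def e' : U' ⟶ R' G u :=
  mk G u (u ≫ G.e) (𝟙 _) (𝟙 _) (by simp [G.e_t]) (by simp [G.e_s])

noncomputable def i' : R' G u ⟶ R' G u :=
  mk G u (ar G u ≫ G.i) (s' G u) (t' G u) (by rw [Category.assoc, G.i_t, ar_s]) (by rw [Category.assoc, G.i_s, ar_t])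

theorem lift_congr {T : Scheme.{u}} {a a' b b' : T ⟶ G.R} (e1 : a = a') (e2 : b = b') (h : a ≫ G.s = b ≫ G.t) (h' : a' ≫ G.s = b' ≫ G.t) :
    pullback.lift a b h ≫ G.c = pullback.lift a' b' h' ≫ G.c := by subst e1 e2; rfl

/-- the restricted groupoid -/
noncomputable def pull : Grpd.GroupoidScheme S where
  U := U'
  R := R' G u
  pU := u ≫ G.pU
  pR := ar G u ≫ G.pR
  s := s' G u
  t := t' G u
  e := e' G u
  i := i' G u
  c := c' G u
  s_over := by rw [← Category.assoc, ← ar_s, Category.assoc, G.s_over]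
  t_over := by rw [← Category.assoc, ← ar_t, Category.assoc, G.t_over]
  comp_s := c'_s G u
  comp_t := c'_t G u
  assoc α β γ h₁ h₂ := by
    apply hom_ext
    · refine (c'_ar G u _ _ _).trans (Eq.trans ?_ (c'_ar G u _ _ _).symm)
      exact (lift_congr G (c'_ar G u α β h₁) rfl _ ((G.comp_s _ _ (cond G u h₁)).trans (cond G u h₂))).trans
        ((G.assoc _ _ _ (cond G u h₁) (cond G u h₂)).trans (lift_congr G rfl (c'_ar G u β γ h₂).symm _ _))
    · rw [c'_t, c'_t, c'_t]
    · rw [c'_s, c'_s, c'_s]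
  e_s := by simp [e', mk_s]
  e_t := by simp [e', mk_t]
  comp_e α := by
    apply hom_ext
    · rw [c'_ar]
      refine (lift_congr G rfl ?_ _ ?_).trans (G.comp_e _)
      · rw [Category.assoc, Category.assoc, e', mk_ar, Category.assoc, reassoc_of% (ar_s G u)]
      · simp [G.e_t]
    · rw [c'_t]
    · rw [c'_s]; simp [e', mk_s]
  e_comp α := by
    apply hom_ext
    · rw [c'_ar]
      refine (lift_congr G ?_ rfl _ ?_).trans (G.e_comp _)
      · rw [Category.assoc, Category.assoc, e', mk_ar, Category.assoc, reassoc_of% (ar_t G u)]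
      · simp [G.e_s]
    · rw [c'_t]; simp [e', mk_t]
    · rw [c'_s]
  i_s := by simp [i', mk_s]
  i_t := by simp [i', mk_t]
  comp_i α := by
    apply hom_ext
    · rw [c'_ar]
      refine (lift_congr G rfl ?_ _ ?_).trans ((G.comp_i (α ≫ ar G u)).trans ?_)
      · rw [Category.assoc, i', mk_ar, Category.assoc]
      · simp [G.i_t]
      · simp only [Category.assoc, e', mk_ar, reassoc_of% (ar_t G u)]
    · rw [c'_t]; simp [e', mk_t]
    · rw [c'_s]; simp [e', i', mk_s]
  i_comp α := by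
    apply hom_ext
    · rw [c'_ar]
      refine (lift_congr G ?_ rfl _ ?_).trans ((G.i_comp (α ≫ ar G u)).trans ?_)
      · rw [Category.assoc, i', mk_ar, Category.assoc]
      · simp [G.i_s]
      · simp only [Category.assoc, e', mk_ar, reassoc_of% (ar_s G u)]
    · rw [c'_t]; simp [e', i', mk_t]
    · rw [c'_s]; simp [e', mk_s]

theorem pull_mono_j [Mono G.j] : Mono (pull G u).j := by
  refine ⟨fun {T} a b h => ?_⟩
  have h1 := congrArg (· ≫ pullback.fst _ _) h
  have h2 := congrArg (· ≫ pullback.snd _ _) h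
  simp only [pull, Grpd.GroupoidScheme.j, Category.assoc, pullback.lift_fst, pullback.lift_snd] at h1 h2
  refine hom_ext G u ?_ h1 h2
  rw [← cancel_mono G.j]
  apply pullback.hom_ext
  · simp [Grpd.GroupoidScheme.j, ar_t, reassoc_of% h1]
  · simp [Grpd.GroupoidScheme.j, ar_s, reassoc_of% h2]

end Groth.Agent.H9GrpdPullback
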