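import Groth.Prelude.Def_Grpd
import Groth.Prelude.Def_Mor2
import Groth.Agent.Lib.H9GrpdPullback
import Groth.Agent.Lib.H9GrpdCoeqGlue
import Groth.Agent.Lib.H8GrpFlat
import Mathlib

/-! Quotients of groupoids with a quasi-section. -/

set_option autoImplicit false
set_option linter.all false
set_option backward.isDefEq.respectTransparency.types false
set_option backward.isDefEq.respectTransparency false

universe u

open AlgebraicGeometry CategoryTheory CategoryTheory.Limits TopologicalSpace Opposite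

namespace Groth.Agent.H9GrpdQuasiSection

open Groth.Agent.H9GrpdPullback Groth.Agent.H9GrpdCoeqGlue

theorem exists_lift_point {V X : Scheme.{u}} (f : V ⟶ X) [IsFinite f] [Surjective f] {K : Type u} [Field K] [IsAlgClosed K]
    (x : Spec (CommRingCat.of K) ⟶ X) : ∃ v : Spec (CommRingCat.of K) ⟶ V, v ≫ f = x := by
  let W := pullback f x
  let g : W ⟶ Spec (CommRingCat.of K) := pullback.snd f x
  haveI : IsAffine W := isAffine_of_isAffineHom g
  haveI : Nonempty W := (g.surjective default).nonempty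
  letI : Algebra K Γ(W, ⊤) := ((Scheme.ΓSpecIso (CommRingCat.of K)).inv ≫ g.appTop).hom.toAlgebra
  haveI : Module.Finite K Γ(W, ⊤) := by
    rw [← RingHom.finite_algebraMap, RingHom.algebraMap_toAlgebra]
    exact RingHom.Finite.comp g.finite_appTop (RingHom.Finite.of_surjective _ (ConcreteCategory.bijective_of_isIso (Scheme.ΓSpecIso (CommRingCat.of K)).inv).2)
  haveI : Nontrivial Γ(W, ⊤) := by
    haveI : Nonempty (⊤ : W.Opens) := ⟨⟨Classical.arbitrary W, trivial⟩⟩
    infer_instance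
  obtain ⟨M, hM⟩ := Ideal.exists_maximal Γ(W, ⊤)
  haveI := hM
  letI : Field (Γ(W, ⊤) ⧸ M) := Ideal.Quotient.field M
  haveI : Algebra.IsIntegral K (Γ(W, ⊤) ⧸ M) := Algebra.IsIntegral.of_finite K _
  let e : K ≃ₐ[K] Γ(W, ⊤) ⧸ M := AlgEquiv.ofBijective (Algebra.ofId K _) IsAlgClosed.algebraMap_bijective_of_isIntegral
  let φ : Γ(W, ⊤) →ₐ[K] K := e.symm.toAlgHom.comp (Ideal.Quotient.mkₐ K M)
  refine ⟨H9GrpdQuot.pt φ.toRingHom ≫ pullback.fst f x, ?_⟩
  have hsec : H9GrpdQuot.pt φ.toRingHom ≫ g = 𝟙 _ := by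
    apply ext_of_isAffine
    have h1 := H9GrpdQuot.ptHom_comp (H9GrpdQuot.pt φ.toRingHom) g
    rw [H9GrpdQuot.ptHom_pt] at h1
    rw [← cancel_mono (Scheme.ΓSpecIso (CommRingCat.of K)).hom]
    ext a
    obtain ⟨c, rfl⟩ := (ConcreteCategory.bijective_of_isIso (Scheme.ΓSpecIso (CommRingCat.of K)).inv).2 a
    refine (RingHom.congr_fun h1 _).trans ((φ.commutes c).trans ?_)
    simp
  rw [Category.assoc, pullback.condition, ← Category.assoc, hsec, Category.id_comp]

variable {S : Scheme.{u}} (G : Grpd.GroupoidScheme S) {U' : Scheme.{u}} (u : U' ⟶ G.U)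

/-- source of arrows into `U'` -/
noncomputable abbrev vs : pullback G.t u ⟶ G.U := pullback.fst G.t u ≫ G.s

theorem finite_s' (h : Mor2.IsFinLocFree (vs G u)) :
    IsFinite (pull G u).s ∧ Flat (pull G u).s ∧ LocallyOfFinitePresentation (pull G u).s := by
  obtain ⟨h1, h2, h3⟩ := h
  exact ⟨MorphismProperty.pullback_snd _ _ h1, MorphismProperty.pullback_snd _ _ h2, MorphismProperty.pullback_snd _ _ h3⟩

theorem hV' (h2 : ∀ E : Set U', (∀ x ∈ E, ∀ y ∈ E, ∃ r : G.R, G.t.base r = u.base x ∧ G.s.base r = u.base y) →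
      ∃ W : U'.Opens, IsAffineOpen W ∧ E ⊆ (W : Set U')) (x : (pull G u).U) :
    ∃ V : (pull G u).U.Opens, IsAffineOpen V ∧ ∀ r : (pull G u).R, (pull G u).s r = x → (pull G u).t r ∈ V := by
  obtain ⟨W, hW, hEW⟩ := h2 ((pull G u).t '' ((pull G u).s ⁻¹' {x})) (by
    rintro _ ⟨r₁, h₁, rfl⟩ _ ⟨r₂, h₂, rfl⟩
    obtain ⟨q, hq1, hq2⟩ := H9Grpd.exists_inv (pull G u) r₂
    obtain ⟨r, hr1, hr2⟩ := H9Grpd.exists_comp (pull G u) r₁ q (h₁.trans (h₂.symm.trans hq1.symm))
    refine ⟨ar G u r, ?_, ?_⟩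
    · rw [← Scheme.Hom.comp_apply, ar_t, Scheme.Hom.comp_apply]; exact congrArg u hr1
    · rw [← Scheme.Hom.comp_apply, ar_s, Scheme.Hom.comp_apply]; exact congrArg u (hr2.trans hq2))
  exact ⟨W, hW, fun r hr => hEW ⟨r, hr, rfl⟩⟩

/-- compose `ρ₀⁻¹ · r · ρ₁` -/
theorem exists_zigzag {T : Scheme.{u}} (ρ₀ r ρ₁ : T ⟶ G.R) (h0 : ρ₀ ≫ G.t = r ≫ G.t) (h1 : r ≫ G.s = ρ₁ ≫ G.t) :
    ∃ w : T ⟶ G.R, w ≫ G.t = ρ₀ ≫ G.s ∧ w ≫ G.s = ρ₁ ≫ G.s := by
  have ha : (ρ₀ ≫ G.i) ≫ G.s = r ≫ G.t := by rw [Category.assoc, G.i_s, h0]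
  let w1 := H9Grpd.mul G (ρ₀ ≫ G.i) r ha
  have hb : w1 ≫ G.s = ρ₁ ≫ G.t := by simp only [w1, H9Grpd.mul]; rw [G.comp_s, h1]
  refine ⟨H9Grpd.mul G w1 ρ₁ hb, ?_, ?_⟩
  · simp only [w1, H9Grpd.mul]; rw [G.comp_t, G.comp_t, Category.assoc, G.i_t]
  · simp only [H9Grpd.mul]; rw [G.comp_s]

theorem aux_comp {A B C D E : Scheme.{u}} {a b : A ⟶ B} {π : B ⟶ C} {r : B ⟶ D} {g : D ⟶ E} {f : C ⟶ E}
    (hab : a ≫ π = b ≫ π) (e : r ≫ g = π ≫ f) : (a ≫ r) ≫ g = (b ≫ r) ≫ g := by
  rw [Category.assoc, e, ← Category.assoc, hab, Category.assoc, Category.assoc, e]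

theorem unique' [Mono G.j] {T : Scheme.{u}} (r r' : T ⟶ G.R) (ht : r ≫ G.t = r' ≫ G.t) (hs : r ≫ G.s = r' ≫ G.s) : r = r' := by
  rw [← cancel_mono G.j]
  apply pullback.hom_ext <;> simp [Grpd.GroupoidScheme.j, ht, hs]

set_option maxHeartbeats 1000000 in
theorem quasiSection [IsImmersion u] (h1 : Mor2.IsFinLocFree (vs G u) ∧ Surjective (vs G u))
    (h2 : ∀ E : Set U', (∀ x ∈ E, ∀ y ∈ E, ∃ r : G.R, G.t.base r = u.base x ∧ G.s.base r = u.base y) →
      ∃ W : U'.Opens, IsAffineOpen W ∧ E ⊆ (W : Set U')) :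
    ∃ (Y : Scheme.{u}) (p : G.U ⟶ Y) (w : G.t ≫ p = G.s ≫ p),
      Nonempty (IsColimit (Cofork.ofπ p w)) ∧ Surjective p ∧ (IsOpenMap G.t.base → IsOpenMap p.base) ∧
        (UniversallyClosed G.t → UniversallyClosed p) ∧ Function.Surjective (pullback.lift G.t G.s w).base ∧
        (Mono G.j → IsPullback G.t G.s p p ∧ (Flat G.t → Flat p)) := by
  obtain ⟨⟨hf1, hf2, hf3⟩, hsur⟩ := h1
  haveI := hf1; haveI := hf2; haveI := hf3; haveI := hsur
  obtain ⟨g1, g2, g3⟩ := finite_s' G u ⟨hf1, hf2, hf3⟩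
  haveI := g1; haveI := g2; haveI := g3
  obtain ⟨Y, p', ⟨C⟩⟩ : ∃ (Y : Scheme.{u}) (p' : U' ⟶ Y), Nonempty (Chart (pull G u) p') :=
    exists_chart (pull G u) (hV' G u h2)
  obtain ⟨hcol⟩ := C.isColimit
  haveI : IsIntegralHom p' := C.integral
  let vu : pullback G.t u ⟶ U' := pullback.snd G.t u
  let fs : pullback G.t u ⟶ G.R := pullback.fst G.t u
  have hw' : ∀ {T : Scheme.{u}} (r : T ⟶ G.R) (x y : T ⟶ U'), r ≫ G.t = x ≫ u → r ≫ G.s = y ≫ u → x ≫ p' = y ≫ p' := by
    intro T r x y hx hy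
    rw [← mk_t G u r x y hx hy]
    conv_rhs => rw [← mk_s G u r x y hx hy]
    rw [Category.assoc, Category.assoc]
    exact congrArg (mk G u r x y hx hy ≫ ·) C.w
  have hq : ∀ {T : Scheme.{u}} (a b : T ⟶ pullback G.t u), a ≫ vs G u = b ≫ vs G u → a ≫ vu ≫ p' = b ≫ vu ≫ p' := by
    intro T a b hab
    have h : (a ≫ fs) ≫ G.s = ((b ≫ fs) ≫ G.i) ≫ G.t := by
      simp only [Category.assoc, G.i_t]; exact hab
    rw [← Category.assoc, ← Category.assoc b]
    refine hw' (H9Grpd.mul G (a ≫ fs) ((b ≫ fs) ≫ G.i) h) _ _ ?_ ?_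
    · rw [H9Grpd.mul, G.comp_t]; simp [fs, vu, pullback.condition]
    · rw [H9Grpd.mul, G.comp_s]; simp [fs, vu, G.i_s, pullback.condition]
  let p : G.U ⟶ Y := EffectiveEpi.desc (vs G u) (vu ≫ p') hq
  have hp : vs G u ≫ p = vu ≫ p' := EffectiveEpi.fac _ _ _
  let v0 : U' ⟶ pullback G.t u := pullback.lift (u ≫ G.e) (𝟙 _) (by simp [G.e_t])
  have hv0 : v0 ≫ vs G u = u := by simp [v0, G.e_s]
  have hup : u ≫ p = p' := by
    rw [← hv0, Category.assoc, hp]; simp only [v0, vu, pullback.lift_snd_assoc]; exact Category.id_comp p'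
  have hepi : Epi (vs G u) := inferInstance
  have w : G.t ≫ p = G.s ≫ p := by
    haveI : IsFinite (pullback.fst G.s (vs G u)) := MorphismProperty.pullback_fst _ _ hf1
    haveI : Flat (pullback.fst G.s (vs G u)) := MorphismProperty.pullback_fst _ _ hf2
    haveI : Surjective (pullback.fst G.s (vs G u)) := MorphismProperty.pullback_fst _ _ hsur
    rw [← cancel_epi (pullback.fst G.s (vs G u))]
    let r := pullback.fst G.s (vs G u)
    let v := pullback.snd G.s (vs G u)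
    have hc : r ≫ G.s = v ≫ vs G u := pullback.condition
    have h : (v ≫ fs) ≫ G.s = (r ≫ G.i) ≫ G.t := by simp only [Category.assoc, G.i_t]; exact hc.symm
    let v2 : pullback G.s (vs G u) ⟶ pullback G.t u := pullback.lift (H9Grpd.mul G (v ≫ fs) (r ≫ G.i) h) (v ≫ vu) (by
      rw [H9Grpd.mul, G.comp_t]; simp [fs, vu, pullback.condition])
    have h2 : v2 ≫ vs G u = r ≫ G.t := by
      simp only [v2, vs, pullback.lift_fst_assoc]
      rw [H9Grpd.mul, G.comp_s, Category.assoc, G.i_s]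
    show r ≫ G.t ≫ p = r ≫ G.s ≫ p
    rw [← Category.assoc, ← h2, Category.assoc, hp, ← Category.assoc r G.s, hc, Category.assoc, hp]
    simp [v2, vu]
  have hps : Function.Surjective p := fun y => by
    obtain ⟨x, hx⟩ := C.surjective y
    exact ⟨u x, by rw [← Scheme.Hom.comp_apply, hup]; exact hx⟩
  refine ⟨Y, p, w, ⟨Cofork.IsColimit.ofExistsUnique fun s => ?_⟩, ⟨hps⟩, ?_, ?_, ?_, ?_⟩
  · have hs : (pull G u).t ≫ u ≫ s.π = (pull G u).s ≫ u ≫ s.π := by
      show t' G u ≫ u ≫ s.π = s' G u ≫ u ≫ s.π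
      rw [← reassoc_of% (ar_t G u), ← reassoc_of% (ar_s G u), s.condition]
    let k := Cofork.IsColimit.desc hcol (u ≫ s.π) hs
    have hk : p' ≫ k = u ≫ s.π := Cofork.IsColimit.π_desc' hcol _ _
    refine ⟨k, ?_, fun m hm => ?_⟩
    · show p ≫ k = s.π
      rw [← cancel_epi (vs G u), ← Category.assoc (vs G u) p, hp, Category.assoc, hk]
      simp only [vu, vs, Category.assoc]
      rw [← pullback.condition_assoc, s.condition]
    · refine Cofork.IsColimit.hom_ext hcol ?_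
      show p' ≫ m = p' ≫ k
      rw [hk, ← hup, Category.assoc]
      exact congrArg (u ≫ ·) hm
  · intro ht O hO
    have : p '' O = p' '' (u ⁻¹' (G.t '' (G.s ⁻¹' O))) := by
      ext y
      constructor
      · rintro ⟨x, hx, rfl⟩
        obtain ⟨v, rfl⟩ := (vs G u).surjective x
        refine ⟨vu v, ⟨fs v, hx, ?_⟩, ?_⟩
        · rw [← Scheme.Hom.comp_apply, ← Scheme.Hom.comp_apply, pullback.condition]
        · exact ((Scheme.Hom.comp_apply vu p' v).symm.trans (congrArg (fun m : pullback G.t u ⟶ Y => m v) hp.symm)).trans (Scheme.Hom.comp_apply _ _ _)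
      · rintro ⟨x, ⟨r, hr, hrx⟩, rfl⟩
        refine ⟨G.s r, hr, ?_⟩
        refine ((Scheme.Hom.comp_apply G.s p r).symm.trans ((congrArg (fun m : G.R ⟶ Y => m r) w.symm).trans (Scheme.Hom.comp_apply _ _ _))).trans ?_
        exact (congrArg p hrx).trans ((Scheme.Hom.comp_apply u p x).symm.trans (congrArg (fun m : U' ⟶ Y => m x) hup))
    rw [this]
    exact C.isOpenMap _ ((ht _ (hO.preimage G.s.continuous)).preimage u.continuous)
  · intro ht
    haveI : UniversallyClosed vu := MorphismProperty.pullback_snd _ _ ht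
    haveI : UniversallyClosed (vs G u ≫ p) := by rw [hp]; infer_instance
    exact UniversallyClosed.of_comp_surjective (vs G u) p
  · intro z
    let K := AlgebraicClosure ((pullback p p).residueField z)
    let ζ : Spec (CommRingCat.of K) ⟶ pullback p p :=
      Spec.map (CommRingCat.ofHom (algebraMap ((pullback p p).residueField z) K) : (pullback p p).residueField z ⟶ CommRingCat.of K) ≫
        (pullback p p).fromSpecResidueField z
    have hζ : ∀ w, ζ w = z := fun w => by rw [Scheme.Hom.comp_apply]; exact Scheme.fromSpecResidueField_apply z _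
    obtain ⟨v₀, hv₀⟩ := exists_lift_point (vs G u) (ζ ≫ pullback.fst p p)
    obtain ⟨v₁, hv₁⟩ := exists_lift_point (vs G u) (ζ ≫ pullback.snd p p)
    have hy : (v₀ ≫ vu) ≫ p' = (v₁ ≫ vu) ≫ p' := by
      rw [Category.assoc, Category.assoc, ← hp, ← Category.assoc v₀, hv₀, ← Category.assoc v₁, hv₁]; simp [pullback.condition]
    obtain ⟨r', hrt, hrs⟩ := C.arrow_of_eq (v₀ ≫ vu) (v₁ ≫ vu) hy
    obtain ⟨r, hr1, hr2⟩ := exists_zigzag G (v₀ ≫ fs) (r' ≫ ar G u) (v₁ ≫ fs)
      (by simp only [fs, Category.assoc, pullback.condition, ar_t]; rw [← Category.assoc r']; erw [hrt]; simp [vu])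
      (by simp only [fs, Category.assoc, pullback.condition, ar_s]; rw [← Category.assoc r']; erw [hrs]; simp [vu])
    have : r ≫ pullback.lift G.t G.s w = ζ := pullback.hom_ext
      (by simp [hr1, fs, ← hv₀]) (by simp [hr2, fs, ← hv₁])
    refine ⟨r default, ?_⟩
    exact ((Scheme.Hom.comp_apply r _ default).symm.trans (congrArg (fun m : Spec (CommRingCat.of K) ⟶ pullback p p => m default) this)).trans (hζ default)
  · intro hj
    haveI := hj
    haveI := pull_mono_j G u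
    have hP' := C.isPullback_ts (hV' G u h2)
    refine ⟨?_, fun ht => ?_⟩
    · refine IsPullback.of_isLimit' ⟨w⟩ ?_
      have hex : ∀ s : PullbackCone p p, ∃ r : s.pt ⟶ G.R, r ≫ G.t = s.fst ∧ r ≫ G.s = s.snd := fun s => by
        let T₁ := pullback s.fst (vs G u)
        let π₁ : T₁ ⟶ s.pt := pullback.fst s.fst (vs G u)
        let T₂ := pullback (π₁ ≫ s.snd) (vs G u)
        let π : T₂ ⟶ s.pt := pullback.fst (π₁ ≫ s.snd) (vs G u) ≫ π₁
        let v₀ : T₂ ⟶ pullback G.t u := pullback.fst (π₁ ≫ s.snd) (vs G u) ≫ pullback.snd s.fst (vs G u)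
        let v₁ : T₂ ⟶ pullback G.t u := pullback.snd (π₁ ≫ s.snd) (vs G u)
        have hv₀ : v₀ ≫ vs G u = π ≫ s.fst := by simp only [v₀, π, π₁, Category.assoc, pullback.condition]
        have hv₁ : v₁ ≫ vs G u = π ≫ s.snd := by simp only [v₁, π, Category.assoc]; exact pullback.condition.symm
        haveI : IsFinite π₁ := MorphismProperty.pullback_fst _ _ hf1
        haveI : Flat π₁ := MorphismProperty.pullback_fst _ _ hf2
        haveI : Surjective π₁ := MorphismProperty.pullback_fst _ _ hsur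
        haveI : IsFinite (pullback.fst (π₁ ≫ s.snd) (vs G u)) := MorphismProperty.pullback_fst _ _ hf1
        haveI : Flat (pullback.fst (π₁ ≫ s.snd) (vs G u)) := MorphismProperty.pullback_fst _ _ hf2
        haveI : Surjective (pullback.fst (π₁ ≫ s.snd) (vs G u)) := MorphismProperty.pullback_fst _ _ hsur
        obtain ⟨r', hrt, hrs⟩ := hP'.exists_lift (v₀ ≫ vu) (v₁ ≫ vu) (by
          refine (Category.assoc v₀ vu p').trans ?_
          refine Eq.trans ?_ (Category.assoc v₁ vu p').symm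
          rw [← hp, ← Category.assoc v₀, hv₀, ← Category.assoc v₁, hv₁]; simp [s.condition])
        obtain ⟨r, hr1, hr2⟩ := exists_zigzag G (v₀ ≫ fs) (r' ≫ ar G u) (v₁ ≫ fs)
          (by simp only [fs, Category.assoc, pullback.condition, ar_t]; rw [← Category.assoc r']; erw [hrt]; simp [vu])
          (by simp only [fs, Category.assoc, pullback.condition, ar_s]; rw [← Category.assoc r']; erw [hrs]; simp [vu])
        have e1 : r ≫ G.t = π ≫ s.fst := by rw [hr1, ← hv₀]; simp [fs]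
        have e2 : r ≫ G.s = π ≫ s.snd := by rw [hr2, ← hv₁]; simp [fs]
        have hcond : ∀ {Z : Scheme.{u}} (a b : Z ⟶ T₂), a ≫ π = b ≫ π → a ≫ r = b ≫ r := fun a b hab =>
          unique' G _ _ (aux_comp hab e1) (aux_comp hab e2)
        refine ⟨EffectiveEpi.desc π r hcond, ?_, ?_⟩
        · rw [← cancel_epi π, EffectiveEpi.fac_assoc]; exact e1
        · rw [← cancel_epi π, EffectiveEpi.fac_assoc]; exact e2
      choose l hl1 hl2 using hex
      exact PullbackCone.IsLimit.mk _ l hl1 hl2 fun s m h1 h2 => unique' G _ _ (h1.trans (hl1 s).symm) (h2.trans (hl2 s).symm)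
    · haveI : Flat vu := MorphismProperty.pullback_snd _ _ ht
      haveI : Flat p' := C.finLocFree.2.1
      haveI : Flat (vs G u ≫ p) := by rw [hp]; infer_instance
      exact H8GrpFlat.flat_of_comp (vs G u) p

end Groth.Agent.H9GrpdQuasiSection
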