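import Groth.Prelude.Def_QuotSh
import Mathlib

/-! Quotient sheaves: criterion by epimorphisms. -/

set_option autoImplicit false
set_option backward.isDefEq.respectTransparency.types false
set_option backward.isDefEq.respectTransparency false

universe u

open CategoryTheory CategoryTheory.Limits AlgebraicGeometry Opposite

namespace Groth.Agent.H9QuotSheaf

variable (K : Precoverage Scheme.{u}) {S : Scheme.{u}}

/-- the functor `V ↦ h_V` -/
noncomputable abbrev repF : Over S ⥤ QuotSh.Sh K S :=
  (yoneda ⋙ (Functor.whiskeringRight (Over S)ᵒᵖ (Type u) (Type (u + 1))).obj uliftFunctor.{u + 1, u}) ⋙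
    presheafToSheaf (QuotSh.J K S) (Type (u + 1))

theorem isKernelPair_repMap {A U M : Over S} (q : U ⟶ M) (a b : A ⟶ U) (h : IsPullback a b q q) :
    IsKernelPair (QuotSh.repMap K q) (QuotSh.repMap K a) (QuotSh.repMap K b) := h.map (repF K)

theorem isQuotient_of_epi {R U M : Over S} (s t : R ⟶ U) (q : U ⟶ M) (w : s ≫ q = t ≫ q) {A : Over S} (a b : A ⟶ U)
    (h : IsPullback a b q q) (hq : Epi (QuotSh.repMap K q)) (e : R ⟶ A) (ha : e ≫ a = t) (hb : e ≫ b = s)
    (he : Epi (QuotSh.repMap K e)) : QuotSh.IsQuotient K s t q := by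
  refine ⟨w, ?_⟩
  haveI := hq
  haveI := he
  have hk := isKernelPair_repMap K q a b h
  haveI := IsRegularEpiCategory.regularEpiOfEpi (QuotSh.repMap K q)
  let hc := hk.toCoequalizer'
  have hab : QuotSh.repMap K a ≫ QuotSh.quotπ K s t = QuotSh.repMap K b ≫ QuotSh.quotπ K s t := by
    rw [← cancel_epi (QuotSh.repMap K e), ← Category.assoc, ← Category.assoc,
      show QuotSh.repMap K e ≫ QuotSh.repMap K a = QuotSh.repMap K t by rw [← ha]; exact ((repF K).map_comp e a).symm,
      show QuotSh.repMap K e ≫ QuotSh.repMap K b = QuotSh.repMap K s by rw [← hb]; exact ((repF K).map_comp e b).symm]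
    exact (QuotSh.quot_condition K s t).symm
  let k : QuotSh.rep K M ⟶ QuotSh.quot K s t := Cofork.IsColimit.desc hc (QuotSh.quotπ K s t) hab
  have hk1 : QuotSh.repMap K q ≫ k = QuotSh.quotπ K s t := Cofork.IsColimit.π_desc' hc _ _
  have hd : QuotSh.quotπ K s t ≫ QuotSh.quotDesc K q w = QuotSh.repMap K q := coequalizer.π_desc _ _
  refine ⟨⟨k, ?_, ?_⟩⟩
  · apply coequalizer.hom_ext
    show QuotSh.quotπ K s t ≫ _ = QuotSh.quotπ K s t ≫ 𝟙 _
    rw [← Category.assoc, hd, hk1, Category.comp_id]
  · rw [← cancel_epi (QuotSh.repMap K q), ← Category.assoc, hk1, hd, Category.comp_id]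

theorem epi_repMap_of_mem {U M : Over S} (q : U ⟶ M) (h : Presieve.singleton q.left ∈ K M.left) :
    Epi (QuotSh.repMap K q) := by
  rw [← Sheaf.isLocallySurjective_iff_epi]
  change Sheaf.IsLocallySurjective ((presheafToSheaf (QuotSh.J K S) (Type (u + 1))).map _)
  rw [Presheaf.isLocallySurjective_presheafToSheaf_map_iff]
  have hgen : Sieve.generate (Presieve.singleton q) ∈ QuotSh.J K S M := by
    rw [GrothendieckTopology.mem_over_iff]
    refine GrothendieckTopology.superset_covering _ ?_ (K.generate_mem_toGrothendieck h)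
    rw [Sieve.generate_le_iff]
    rintro _ _ ⟨⟩
    rw [Sieve.overEquiv_iff]
    have : (Over.homMk q.left : Over.mk (q.left ≫ M.hom) ⟶ M) = (Over.homMk (𝟙 _) (by simp) : Over.mk (q.left ≫ M.hom) ⟶ U) ≫ q := by ext; simp
    rw [this]
    exact ⟨U, _, q, ⟨⟩, rfl⟩
  refine ⟨fun {V} s => ?_⟩
  refine GrothendieckTopology.superset_covering _ ?_ ((QuotSh.J K S).pullback_stable (ULift.down s) hgen)
  rintro W g ⟨Z, a, _, ⟨⟩, hga⟩
  exact ⟨ULift.up a, ULift.ext _ _ hga⟩

end Groth.Agent.H9QuotSheaf

namespace Groth.Agent.H9QuotSheaf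

variable (K : Precoverage Scheme.{u}) {S : Scheme.{u}}

theorem isPullback_over {A U M : Over S} {q : U ⟶ M} {a b : A ⟶ U} (h : IsPullback a.left b.left q.left q.left) :
    IsPullback a b q q :=
  IsPullback.of_map (Over.forget S) (by ext; exact h.w) h

theorem isQuotient_of_epi_repMap {R U M : Over S} (s t : R ⟶ U) (q : U ⟶ M) (w : s ≫ q = t ≫ q)
    (w' : t.left ≫ q.left = s.left ≫ q.left) (h₂ : Epi (QuotSh.repMap K q)) {x : R.left ⟶ pullback q.left q.left}
    (hx : x = pullback.lift t.left s.left w') (hw : x ≫ pullback.fst q.left q.left ≫ U.hom = R.hom)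
    (h₃ : Epi (QuotSh.repMap K (Over.homMk x hw : R ⟶ Over.mk (pullback.fst q.left q.left ≫ U.hom)))) :
    QuotSh.IsQuotient K s t q := by
  have hu : pullback.snd q.left q.left ≫ U.hom = pullback.fst q.left q.left ≫ U.hom := by
    rw [← Over.w q, pullback.condition_assoc]
  let a : Over.mk (pullback.fst q.left q.left ≫ U.hom) ⟶ U := Over.homMk (pullback.fst q.left q.left) rfl
  let b : Over.mk (pullback.fst q.left q.left ≫ U.hom) ⟶ U := Over.homMk (pullback.snd q.left q.left) hu
  exact isQuotient_of_epi K s t q w a b (isPullback_over (IsPullback.of_hasPullback q.left q.left)) h₂ (Over.homMk x hw)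
    (by ext; simp [a, hx]) (by ext; simp [b, hx]) h₃

theorem isQuotient_of_isPullback {R U M : Over S} (s t : R ⟶ U) (q : U ⟶ M) (h : IsPullback t.left s.left q.left q.left)
    (hq : Presieve.singleton q.left ∈ K M.left) : QuotSh.IsQuotient K s t q := by
  refine isQuotient_of_epi K s t q (by ext; exact h.w.symm) t s (isPullback_over h) (epi_repMap_of_mem K q hq) (𝟙 R)
    (Category.id_comp t) (Category.id_comp s) ?_
  rw [show QuotSh.repMap K (𝟙 R) = 𝟙 _ from (repF K).map_id R]
  infer_instance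

end Groth.Agent.H9QuotSheaf
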