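import Groth.Prelude.Def_Grpd
import Groth.Agent.Lib.H9GrpdFiniteFlat
import Groth.Agent.Lib.H9QuotSheaf
import Mathlib

/-! The affine quotient represents the fppf quotient sheaf. -/

set_option autoImplicit false
set_option backward.isDefEq.respectTransparency.types false
set_option backward.isDefEq.respectTransparency false

universe u

open AlgebraicGeometry CategoryTheory CategoryTheory.Limits

namespace Groth.Agent.H9GrpdQuotFppf

variable {S : Scheme.{u}} (G : Grpd.GroupoidScheme S) [IsAffine G.U] [IsAffine G.R]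
  [IsFinite G.s] [Flat G.s] [LocallyOfFinitePresentation G.s] [Mono G.j]

theorem existsUnique_quotient :
    ∃! m : Spec (CommRingCat.of G.invariants) ⟶ S, ∃ h : G.toQuot ≫ m = G.pU,
      QuotSh.IsQuotient Scheme.fppfPrecoverage
        (Over.homMk G.s G.s_over : Over.mk G.pR ⟶ Over.mk G.pU) (Over.homMk G.t G.t_over : Over.mk G.pR ⟶ Over.mk G.pU)
        (Over.homMk G.toQuot h : Over.mk G.pU ⟶ Over.mk m) := by
  obtain ⟨⟨hfin, hflat, hlfp⟩, hP⟩ := H9GrpdFiniteFlat.main G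
  haveI := hfin; haveI := hflat; haveI := hlfp
  haveI : Surjective G.toQuot := ⟨(H9GrpdQuot.toQuot_fibres G).1.1⟩
  have hco : ∀ {T : Scheme.{u}} (g₁ g₂ : T ⟶ G.U), g₁ ≫ G.toQuot = g₂ ≫ G.toQuot → g₁ ≫ G.pU = g₂ ≫ G.pU := by
    intro T g₁ g₂ h
    rw [← hP.lift_fst g₁ g₂ h, Category.assoc, G.t_over]
    conv_rhs => rw [← hP.lift_snd g₁ g₂ h, Category.assoc, G.s_over]
  refine ⟨EffectiveEpi.desc G.toQuot G.pU hco, ⟨EffectiveEpi.fac G.toQuot G.pU hco, ?_⟩, ?_⟩
  · refine H9QuotSheaf.isQuotient_of_isPullback _ _ _ _ hP ?_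
    rw [Scheme.fppfPrecoverage, Scheme.singleton_mem_precoverage_iff]
    exact ⟨G.toQuot.surjective, hflat, hlfp⟩
  · rintro m ⟨h, -⟩
    exact EffectiveEpi.uniq G.toQuot G.pU hco m h

end Groth.Agent.H9GrpdQuotFppf
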