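import Groth.Prelude.Def_Grpd
import Groth.Agent.Lib.H9Grpd
import Groth.Agent.Lib.H9GrpdCalc
import Groth.Agent.Lib.H9GrpdFieldTranslate
import Groth.Agent.Lib.H9GrpdFieldClosure
import Groth.Agent.Lib.H9GrpdImage
import Groth.Agent.Lib.H9PerfectReduced
import Groth.Agent.Lib.H6.RedClosed
import Mathlib

/-! The reduced closure of the image of a morphism of groupoids over a perfect field is a groupoid. -/

set_option autoImplicit false
set_option linter.all false
set_option synthInstance.maxHeartbeats 40000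
set_option maxHeartbeats 400000
set_option backward.isDefEq.respectTransparency.types false
set_option backward.isDefEq.respectTransparency false

universe u

open AlgebraicGeometry CategoryTheory CategoryTheory.Limits

namespace Groth.Agent.H9GrpdRedImage

open Groth.Agent.H9Grpd Groth.Agent.H9GrpdCalc Groth.Agent.H9GrpdFieldTranslate Groth.Agent.H9GrpdFieldClosure
  Groth.Agent.H9GrpdImage

variable {S : Scheme.{u}} {G₁ G₂ : Grpd.GroupoidScheme S}

theorem exists_red_image (f : Grpd.GroupoidScheme.Hom G₁ G₂) [IsIso f.fU] {k : Type u} [Field k] [PerfectField k]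
    (eU : G₂.U ≅ Spec (CommRingCat.of k)) :
    ∃ (G' : Grpd.GroupoidScheme S) (ψ : Grpd.GroupoidScheme.Hom G' G₂),
      IsIso ψ.fU ∧ IsClosedImmersion ψ.fR ∧ IsReduced G'.R ∧ Set.range ⇑ψ.fR = closure (Set.range ⇑f.fR) := by
  let C : TopologicalSpace.Closeds G₂.R := ⟨closure (Set.range ⇑f.fR), isClosed_closure⟩
  let ι := (Scheme.IdealSheafData.vanishingIdeal C).subschemeι
  have hι : Set.range ⇑ι = closure (Set.range ⇑f.fR) := H6.RedClosed.range_subschemeι_vanishing C
  haveI hZ : IsReduced (Scheme.IdealSheafData.vanishingIdeal C).subscheme := H6.RedClosed.isReduced_vanishing C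
  haveI : IsReduced G₂.U := isReduced_of_isOpenImmersion eU.hom
  obtain ⟨e', he⟩ : ∃ e', e' ≫ ι = G₂.e := by
    refine H6.RedClosed.exists_lift G₂.e ι ?_
    rw [hι]
    rintro _ ⟨x, rfl⟩
    refine subset_closure ⟨G₁.e ((inv f.fU) x), ?_⟩
    rw [← Scheme.Hom.comp_apply, map_e f, Scheme.Hom.comp_apply]
    exact congrArg G₂.e ((Scheme.Hom.comp_apply _ _ _).symm.trans (by simp))
  obtain ⟨i', hi⟩ : ∃ i', i' ≫ ι = ι ≫ G₂.i := by
    refine H6.RedClosed.exists_lift _ ι ?_
    rw [hι]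
    rintro _ ⟨x, rfl⟩
    rw [Scheme.Hom.comp_apply]
    exact inv_mem_closure f _ (hι ▸ Set.mem_range_self x)
  haveI : IsReduced (pullback (ι ≫ G₂.s) (ι ≫ G₂.t)) := H9PerfectReduced.isReduced_pullback eU _ _
  obtain ⟨c', hc⟩ : ∃ c', c' ≫ ι = mul G₂ (pullback.fst (ι ≫ G₂.s) (ι ≫ G₂.t) ≫ ι) (pullback.snd (ι ≫ G₂.s) (ι ≫ G₂.t) ≫ ι)
      (by simp only [Category.assoc]; exact pullback.condition) := by
    refine H6.RedClosed.exists_lift _ ι ?_
    rw [hι]
    rintro _ ⟨p, rfl⟩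
    show (pullback.lift _ _ _ ≫ G₂.c) p ∈ _
    rw [Scheme.Hom.comp_apply]
    refine comp_mem_closure eU f _ ?_ ?_
    · rw [← Scheme.Hom.comp_apply, pullback.lift_fst, Scheme.Hom.comp_apply]
      exact hι ▸ Set.mem_range_self _
    · rw [← Scheme.Hom.comp_apply, pullback.lift_snd, Scheme.Hom.comp_apply]
      exact hι ▸ Set.mem_range_self _
  exact ⟨sub G₂ ι e' he i' hi c' hc,
    { fU := 𝟙 _, fR := ι, fU_over := Category.id_comp _
      comm_s := (Category.comp_id _).symm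
      comm_t := (Category.comp_id _).symm
      comm_c := fun α β h => sub_key G₂ ι c' _ hc α β h }, (inferInstance : IsIso (𝟙 G₂.U)),
    (inferInstance : IsClosedImmersion ι), hZ, hι⟩

theorem exists_red_image_j (G : Grpd.GroupoidScheme S) {k : Type u} [Field k] [PerfectField k]
    (eU : G.U ≅ Spec (CommRingCat.of k)) :
    ∃ (G' : Grpd.GroupoidScheme S) (ψ : G'.U ≅ G.U) (hψ : ψ.hom ≫ G.pU = G'.pU), IsReduced G'.R ∧
      IsClosedImmersion G'.j ∧ Set.range ⇑(G'.j ≫ pullback.map G'.pU G'.pU G.pU G.pU ψ.hom ψ.hom (𝟙 S)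
        ((Category.comp_id _).trans hψ.symm) ((Category.comp_id _).trans hψ.symm)) = closure (Set.range ⇑G.j) := by
  let f : Grpd.GroupoidScheme.Hom G (pair G.pU) :=
    { fU := 𝟙 _, fR := G.j, fU_over := Category.id_comp _
      comm_s := (pullback.lift_snd _ _ _).trans (Category.comp_id _).symm
      comm_t := (pullback.lift_fst _ _ _).trans (Category.comp_id _).symm
      comm_c := fun α β h => j_mul G α β h _ _ }
  haveI : IsIso f.fU := inferInstanceAs (IsIso (𝟙 _))
  obtain ⟨G', ψ, hψ, hcl, hred, hrange⟩ := exists_red_image f (G₂ := pair G.pU) eU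
  haveI := hψ
  haveI := hcl
  let e : G'.U ≅ G.U := asIso ψ.fU
  refine ⟨G', e, ψ.fU_over, hred, ?_, ?_⟩
  all_goals
    have hM : ∀ (w : G'.pU ≫ 𝟙 S = ψ.fU ≫ G.pU), G'.j ≫ pullback.map G'.pU G'.pU G.pU G.pU ψ.fU ψ.fU (𝟙 S) w w = ψ.fR := fun w => by
      apply pullback.hom_ext
      · exact (by simp [j_fst, reassoc_of% (j_fst G')] : _ = G'.t ≫ ψ.fU).trans ψ.comm_t.symm
      · exact (by simp [j_snd, reassoc_of% (j_snd G')] : _ = G'.s ≫ ψ.fU).trans ψ.comm_s.symm
  · let M : pullback G'.pU G'.pU ⟶ pullback G.pU G.pU := pullback.map _ _ _ _ ψ.fU ψ.fU (𝟙 S)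
      ((Category.comp_id _).trans ψ.fU_over.symm) ((Category.comp_id _).trans ψ.fU_over.symm)
    have hj : G'.j = ψ.fR ≫ inv M := by rw [← hM ((Category.comp_id _).trans ψ.fU_over.symm)]; simp [M]
    rw [hj]; infer_instance
  · show Set.range ⇑(G'.j ≫ pullback.map G'.pU G'.pU G.pU G.pU ψ.fU ψ.fU (𝟙 S) _ _) = _
    rw [hM]
    exact hrange

end Groth.Agent.H9GrpdRedImage
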