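import Groth.Prelude.Def_Grpd
import Groth.Agent.Lib.H9GrpdCalc
import Mathlib

/-! Separation properties of `j` versus the stabilizer. -/

set_option autoImplicit false
set_option linter.all false
set_option synthInstance.maxHeartbeats 20000
set_option maxHeartbeats 400000
set_option backward.isDefEq.respectTransparency.types false
set_option backward.isDefEq.respectTransparency false

universe u

open AlgebraicGeometry CategoryTheory CategoryTheory.Limits

namespace Groth.Agent.H9GrpdSepJ

open Groth.Agent.H9Grpd Groth.Agent.H9GrpdCalc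

variable {S : Scheme.{u}} (G : Grpd.GroupoidScheme S)

theorem eStab_fst : G.eStab ≫ pullback.fst G.j G.diag = G.e := pullback.lift_fst _ _ _
theorem eStab_toU : G.eStab ≫ G.stabilizerToU = 𝟙 _ := pullback.lift_snd _ _ _

theorem diagonal_prop (P : MorphismProperty Scheme.{u}) [P.IsStableUnderBaseChange] [P.RespectsIso]
    (he : P G.eStab) : P (pullback.diagonal G.j) := by
  let f := pullback.fst G.stabilizerToU G.t
  let q := pullback.snd G.stabilizerToU G.t
  obtain ⟨hg1, hg2⟩ := stab_ts G f
  have hgq : (f ≫ pullback.fst G.j G.diag) ≫ G.s = q ≫ G.t := hg2.trans pullback.condition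
  let α : pullback G.stabilizerToU G.t ⟶ pullback G.s G.t := pullback.lift (f ≫ pullback.fst G.j G.diag) q hgq
  have hc : (α ≫ G.c) ≫ G.j = q ≫ G.j := by
    apply pullback.hom_ext
    · rw [Category.assoc (α ≫ G.c), j_fst, Category.assoc q, j_fst, comp_c, mul_t]
      simp only [α, pullback.lift_fst]
      exact hg1.trans pullback.condition
    · rw [Category.assoc (α ≫ G.c), j_snd, Category.assoc q, j_snd, comp_c, mul_s]
      simp only [α, pullback.lift_snd]
  let β : pullback G.stabilizerToU G.t ⟶ pullback G.j G.j := pullback.lift (α ≫ G.c) q hc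
  haveI : IsIso β := torsor_isIso G α (pullback.lift_fst _ _ _) (pullback.lift_snd _ _ _) β (pullback.lift_fst _ _ _) (pullback.lift_snd _ _ _)
  let m : G.R ⟶ pullback G.stabilizerToU G.t :=
    pullback.lift (G.t ≫ G.eStab) (𝟙 _) (by rw [Category.assoc, eStab_toU, Category.comp_id, Category.id_comp])
  have hmf : m ≫ f = G.t ≫ G.eStab := pullback.lift_fst _ _ _
  have hmq : m ≫ q = 𝟙 _ := pullback.lift_snd _ _ _
  have hm : IsPullback G.t m G.eStab f := by
    refine IsPullback.of_isLimit' ⟨hmf.symm⟩ (PullbackCone.IsLimit.mk _ (fun c => c.snd ≫ q) ?_ ?_ ?_)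
    · intro c
      have := congrArg (· ≫ G.stabilizerToU) c.condition
      simp only [Category.assoc, eStab_toU, Category.comp_id] at this
      rw [this, Category.assoc]
      exact congrArg (c.snd ≫ ·) (pullback.condition (f := G.stabilizerToU) (g := G.t)).symm
    · intro c
      have h1 := congrArg (· ≫ G.stabilizerToU) c.condition
      simp only [Category.assoc, eStab_toU, Category.comp_id] at h1
      have h2 : (c.snd ≫ q) ≫ G.t = c.fst := by
        rw [h1, Category.assoc]
        exact congrArg (c.snd ≫ ·) (pullback.condition (f := G.stabilizerToU) (g := G.t)).symm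
      apply pullback.hom_ext
      · rw [Category.assoc, show m ≫ pullback.fst G.stabilizerToU G.t = _ from hmf, ← Category.assoc, h2]
        exact c.condition
      · rw [Category.assoc, show m ≫ pullback.snd G.stabilizerToU G.t = _ from hmq, Category.comp_id]
    · intro c k _ hk
      rw [← hk, Category.assoc, hmq, Category.comp_id]
  have hdiag : m ≫ β = pullback.diagonal G.j := by
    apply pullback.hom_ext
    · simp only [β, Category.assoc, pullback.lift_fst, pullback.diagonal_fst]
      rw [← Category.assoc, comp_c]
      have e1 : (m ≫ α) ≫ pullback.fst G.s G.t = G.t ≫ G.e := by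
        simp only [α, Category.assoc, pullback.lift_fst]
        rw [← Category.assoc, hmf, Category.assoc, eStab_fst]
      have e2 : (m ≫ α) ≫ pullback.snd G.s G.t = 𝟙 G.R := by
        simp only [α, Category.assoc, pullback.lift_snd]; exact hmq
      refine (mul_congr G e1 e2 _ (by rw [Category.assoc, G.e_s, Category.comp_id, Category.id_comp])).trans ?_
      have := G.e_comp (𝟙 G.R)
      simp only [Category.id_comp] at this
      exact this
    · simp only [β, Category.assoc, pullback.lift_snd, pullback.diagonal_snd]; exact hmq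
  rw [← hdiag, MorphismProperty.cancel_right_of_respectsIso P]
  exact MorphismProperty.of_isPullback hm he

theorem sep_tfae : ((IsSeparated G.j ↔ IsSeparated G.stabilizerToU) ∧ (IsSeparated G.stabilizerToU ↔ IsClosedImmersion G.eStab)) ∧
    ((QuasiSeparated G.j ↔ QuasiSeparated G.stabilizerToU) ∧ (QuasiSeparated G.stabilizerToU ↔ QuasiCompact G.eStab)) := by
  have a1 : IsSeparated G.j → IsSeparated G.stabilizerToU := fun h => MorphismProperty.pullback_snd _ _ h
  have a2 : IsSeparated G.stabilizerToU → IsClosedImmersion G.eStab := fun h => by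
    haveI := h
    haveI : IsClosedImmersion (G.eStab ≫ G.stabilizerToU) := by rw [eStab_toU]; infer_instance
    exact IsClosedImmersion.of_comp G.eStab G.stabilizerToU
  have a3 : IsClosedImmersion G.eStab → IsSeparated G.j := fun h => ⟨diagonal_prop G @IsClosedImmersion h⟩
  have b1 : QuasiSeparated G.j → QuasiSeparated G.stabilizerToU := fun h => MorphismProperty.pullback_snd _ _ h
  have b2 : QuasiSeparated G.stabilizerToU → QuasiCompact G.eStab := fun h => by
    haveI := h
    haveI : QuasiCompact (G.eStab ≫ G.stabilizerToU) := by rw [eStab_toU]; infer_instance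
    exact QuasiCompact.of_comp G.eStab G.stabilizerToU
  have b3 : QuasiCompact G.eStab → QuasiSeparated G.j := fun h => ⟨diagonal_prop G @QuasiCompact h⟩
  exact ⟨⟨⟨a1, fun h => a3 (a2 h)⟩, ⟨a2, fun h => a1 (a3 h)⟩⟩, ⟨⟨b1, fun h => b3 (b2 h)⟩, ⟨b2, fun h => b1 (b3 h)⟩⟩⟩

end Groth.Agent.H9GrpdSepJ
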