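import Groth.Prelude.Def_Grpd
import Groth.Agent.Lib.H9Grpd
import Groth.Agent.Lib.H9GrpdCalc
import Groth.Agent.Lib.H9GrpdFieldTranslate
import Groth.Agent.S0115
import Mathlib

/-! Reduced groupoids locally of finite type over a perfect field are smooth. -/

set_option autoImplicit false
set_option linter.all false
set_option synthInstance.maxHeartbeats 40000
set_option maxHeartbeats 400000
set_option backward.isDefEq.respectTransparency.types false
set_option backward.isDefEq.respectTransparency false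

universe u

open AlgebraicGeometry CategoryTheory CategoryTheory.Limits

namespace Groth.Agent.H9GrpdSmooth

open Groth.Agent.H9Grpd Groth.Agent.H9GrpdCalc Groth.Agent.H9GrpdFieldTranslate

variable {S : Scheme.{u}} (G : Grpd.GroupoidScheme S)

theorem i_i : G.i ≫ G.i = 𝟙 _ := by
  have e1 : ((G.i ≫ G.i) ≫ G.s) = (G.i ≫ G.t) := by rw [Category.assoc, G.i_s]
  have hd : ∀ (h' : (G.i ≫ G.i) ≫ G.s = G.i ≫ G.t), mul G (G.i ≫ G.i) G.i h' = G.i ≫ G.s ≫ G.e := fun h' => G.i_comp G.i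
  -- (i i) = (i i) (i · id) = ((i i) i) id = id
  have hid : mul G G.i (𝟙 G.R) (by rw [G.i_s, Category.id_comp]) = G.s ≫ G.e := by
    have := G.i_comp (𝟙 G.R)
    simp only [Category.id_comp] at this
    exact this
  have a1 : (G.i ≫ G.i) = mul G (G.i ≫ G.i) (G.s ≫ G.e) (by simp [G.i_s, G.i_t, G.e_t]) := by
    refine ((G.comp_e (G.i ≫ G.i)).symm.trans (mul_congr G rfl ?_ _ _))
    rw [Category.assoc, reassoc_of% G.i_s, reassoc_of% G.i_t]
  refine a1.trans ((mul_congr G rfl hid.symm _ (by rw [mul_t]; simp [G.i_s])).trans ?_)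
  refine (G.assoc (G.i ≫ G.i) G.i (𝟙 G.R) e1 (by rw [G.i_s, Category.id_comp])).symm.trans ?_
  refine (mul_congr G (hd e1) rfl _ ?_).trans ((mul_congr G ?_ rfl _ ?_).trans (G.e_comp (𝟙 G.R)))
  · simp [G.i_s, G.e_s]
  · rw [Category.id_comp, reassoc_of% G.i_s]
  · simp [G.e_s]

theorem isIso_i : IsIso G.i := ⟨G.i, i_i G, i_i G⟩

theorem div_div {T : Scheme.{u}} (L γ : T ⟶ G.R) (c1 : (L ≫ G.i) ≫ G.s = γ ≫ G.t) :
    ∃ c3 : γ ≫ G.s = (mul G (L ≫ G.i) γ c1 ≫ G.i) ≫ G.t, mul G γ (mul G (L ≫ G.i) γ c1 ≫ G.i) c3 = L := by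
  have c2 : L ≫ G.s = mul G (L ≫ G.i) γ c1 ≫ G.t := by rw [mul_t, Category.assoc, G.i_t]
  have c3 : γ ≫ G.s = (mul G (L ≫ G.i) γ c1 ≫ G.i) ≫ G.t := by rw [Category.assoc _ G.i, G.i_t, mul_s]
  exact ⟨c3, (mul_congr G (mul_inv_mul_left G L γ c1 c2).symm rfl c3
    (by rw [mul_s, Category.assoc _ G.i, G.i_t, mul_s])).trans (mul_mul_inv G L _ c2 _)⟩

theorem lift_comp_translate {Z Z' T : Scheme.{u}} (a : Z ⟶ G.R) (b : Z' ⟶ G.R) (x : T ⟶ Z) (y : T ⟶ Z')
    (h : x ≫ a ≫ G.s = y ≫ b ≫ G.t) (A B : T ⟶ G.R) (hA : x ≫ a = A) (hB : y ≫ b = B) (h' : A ≫ G.s = B ≫ G.t) :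
    pullback.lift x y h ≫ pullback.map (a ≫ G.s) (b ≫ G.t) (a ≫ G.s) G.t (𝟙 _) b (𝟙 _) (by simp) (by simp) ≫ translate G a =
      mul G A B h' := by
  subst hA hB
  rw [← Category.assoc, comp_mul G _ _ _ _ (by simpa using h)]
  exact mul_congr G (by simp) (by simp) _ _

theorem snd_translate_iso {Z : Scheme.{u}} (a : Z ⟶ G.R) :
    ∃ κ : pullback (a ≫ G.s) G.t ⟶ pullback (a ≫ G.t) G.t, IsIso κ ∧ κ ≫ pullback.snd _ _ = translate G a := by
  let p := pullback.fst (a ≫ G.s) G.t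
  let p' := pullback.fst (a ≫ G.t) G.t
  have hm : translate G a ≫ G.t = p ≫ a ≫ G.t := by rw [mul_t, Category.assoc]
  let κ : pullback (a ≫ G.s) G.t ⟶ pullback (a ≫ G.t) G.t := pullback.lift p (translate G a) hm.symm
  have hc : ((p' ≫ a) ≫ G.i) ≫ G.s = pullback.snd (a ≫ G.t) G.t ≫ G.t := by
    rw [Category.assoc _ G.i, G.i_s, Category.assoc, pullback.condition]
  let κ' : pullback (a ≫ G.t) G.t ⟶ pullback (a ≫ G.s) G.t := pullback.lift p' (mul G ((p' ≫ a) ≫ G.i) (pullback.snd (a ≫ G.t) G.t) hc)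
    (by rw [mul_t, Category.assoc _ G.i, G.i_t, Category.assoc])
  have h1 : κ ≫ κ' = 𝟙 _ := by
    apply pullback.hom_ext
    · simp [κ, κ', p, p']
    · rw [Category.assoc, show κ' ≫ pullback.snd (a ≫ G.s) G.t = _ from pullback.lift_snd _ _ _, Category.id_comp]
      rw [comp_mul G κ _ _ hc (by rw [Category.assoc κ, hc, ← Category.assoc])]
      refine (mul_congr G (show κ ≫ (p' ≫ a) ≫ G.i = (p ≫ a) ≫ G.i by simp [κ, p, p']) (show κ ≫ pullback.snd (a ≫ G.t) G.t = translate G a from pullback.lift_snd _ _ _) _ ?_).trans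
        (inv_mul_mul_left G _ _ _ ?_) <;> rw [mul_t, Category.assoc _ G.i, G.i_s]
  have h2 : κ' ≫ κ = 𝟙 _ := by
    apply pullback.hom_ext
    · simp [κ, κ', p, p']
    · rw [Category.assoc, show κ ≫ pullback.snd (a ≫ G.t) G.t = _ from pullback.lift_snd _ _ _, Category.id_comp]
      rw [comp_mul G κ' _ _ _ (by rw [Category.assoc, Category.assoc, Category.assoc, pullback.condition])]
      refine (mul_congr G (show κ' ≫ pullback.fst (a ≫ G.s) G.t ≫ a = p' ≫ a by simp [κ', p, p']) (show κ' ≫ pullback.snd (a ≫ G.s) G.t = _ from pullback.lift_snd _ _ _) _ ?_).trans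
        (mul_inv_mul_left G _ _ hc ?_) <;> rw [mul_t, Category.assoc _ G.i, G.i_t]
  exact ⟨κ, ⟨κ', h1, h2⟩, pullback.lift_snd _ _ _⟩

variable {k : Type u} [Field k] (eU : G.U ≅ Spec (CommRingCat.of k))

include eU in
theorem smooth_t [PerfectField k] [IsReduced G.R] [LocallyOfFiniteType G.t] : Smooth G.t := by
  let h := G.t ≫ eU.hom
  haveI : LocallyOfFiniteType h := inferInstance
  haveI : LocallyOfFinitePresentation h := inferInstance
  let W := h.smoothLocus
  have hW : Dense (W : Set G.R) := Scheme.Hom.dense_smoothLocus_of_perfectField h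
  haveI hWh : Smooth (W.ι ≫ h) := by
    rw [← Scheme.Hom.smoothLocus_eq_top_iff, ← Scheme.Hom.preimage_smoothLocus_eq]
    exact W.ι_preimage_self
  haveI hWt : Smooth (W.ι ≫ G.t) := by
    rw [← MorphismProperty.cancel_right_of_respectsIso @Smooth _ eU.hom, Category.assoc]
    exact hWh
  let m : pullback (W.ι ≫ G.s) (W.ι ≫ G.t) ⟶ pullback (W.ι ≫ G.s) G.t :=
    pullback.map _ _ _ _ (𝟙 _) W.ι (𝟙 _) (by simp) (by simp)
  obtain ⟨κ, hκ, hκs⟩ := snd_translate_iso G W.ι
  let τ := m ≫ translate G W.ι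
  haveI : Smooth (pullback.snd (W.ι ≫ G.t) G.t) := MorphismProperty.pullback_snd _ _ hWt
  haveI : Smooth τ := by
    show Smooth (m ≫ translate G W.ι)
    rw [← hκs]
    haveI : IsOpenImmersion m := inferInstance
    infer_instance
  haveI : Smooth (τ ≫ G.t) := by
    have e : τ ≫ G.t = pullback.fst (W.ι ≫ G.s) (W.ι ≫ G.t) ≫ W.ι ≫ G.t := by
      simp only [τ, Category.assoc, mul_t]
      simp [m]
    rw [e]
    haveI : Smooth (pullback.fst (W.ι ≫ G.s) (W.ι ≫ G.t)) := MorphismProperty.pullback_fst _ _ hWt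
    infer_instance
  haveI := isIso_i G
  haveI : Surjective τ := ⟨fun r => by
    haveI := subsingleton_U G eU
    let l := G.R.fromSpecResidueField r
    let a := l ≫ G.i
    let O := (pullback.snd (a ≫ G.s) G.t).base ⁻¹' (W : Set G.R)
    have hO : IsOpen O := W.isOpen.preimage (pullback.snd (a ≫ G.s) G.t).continuous
    obtain ⟨w, hw⟩ : (W : Set G.R).Nonempty := hW.inter_open_nonempty Set.univ isOpen_univ ⟨r, trivial⟩ |>.mono Set.inter_subset_right
    obtain ⟨p₀, -, hp₀⟩ := Scheme.Pullback.exists_preimage_pullback (f := a ≫ G.s) (g := G.t) (IsLocalRing.closedPoint _) w (Subsingleton.elim _ _)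
    have hdense : Dense (G.i.base ⁻¹' (W : Set G.R)) := hW.preimage G.i.isOpenMap
    obtain ⟨_, ⟨p, hp, rfl⟩, hp2⟩ := hdense.inter_open_nonempty _ (translate_isOpenMap G eU a _ hO)
      ⟨_, p₀, show pullback.snd (a ≫ G.s) G.t p₀ ∈ W by rw [hp₀]; exact hw, rfl⟩
    let q := (pullback (a ≫ G.s) G.t).fromSpecResidueField p
    have hr : (q ≫ pullback.snd (a ≫ G.s) G.t) (IsLocalRing.closedPoint _) ∈ Set.range W.ι := by
      rw [W.range_ι, Scheme.Hom.comp_apply, Scheme.fromSpecResidueField_apply]; exact hp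
    have hr2 : (q ≫ translate G a ≫ G.i) (IsLocalRing.closedPoint _) ∈ Set.range W.ι := by
      rw [W.range_ι, Scheme.Hom.comp_apply, Scheme.fromSpecResidueField_apply, Scheme.Hom.comp_apply]; exact hp2
    have hs1 : Set.range (q ≫ pullback.snd (a ≫ G.s) G.t) ⊆ Set.range W.ι := by
      rintro _ ⟨x, rfl⟩
      haveI : Subsingleton ↥(Spec ((pullback (a ≫ G.s) G.t).residueField p)) := inferInstanceAs (Subsingleton (PrimeSpectrum _))
      rw [Subsingleton.elim x (IsLocalRing.closedPoint _)]; exact hr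
    have hs2 : Set.range (q ≫ translate G a ≫ G.i) ⊆ Set.range W.ι := by
      rintro _ ⟨x, rfl⟩
      haveI : Subsingleton ↥(Spec ((pullback (a ≫ G.s) G.t).residueField p)) := inferInstanceAs (Subsingleton (PrimeSpectrum _))
      rw [Subsingleton.elim x (IsLocalRing.closedPoint _)]; exact hr2
    let g₁ := IsOpenImmersion.lift W.ι _ hs1
    let g₂ := IsOpenImmersion.lift W.ι _ hs2
    have hg₁ : g₁ ≫ W.ι = q ≫ pullback.snd (a ≫ G.s) G.t := IsOpenImmersion.lift_fac _ _ _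
    have hg₂ : g₂ ≫ W.ι = q ≫ translate G a ≫ G.i := IsOpenImmersion.lift_fac _ _ _
    let lq := q ≫ pullback.fst (a ≫ G.s) G.t
    let γ := q ≫ pullback.snd (a ≫ G.s) G.t
    let L := lq ≫ l
    have c1 : (L ≫ G.i) ≫ G.s = γ ≫ G.t := by
      simp only [L, lq, γ, Category.assoc]
      exact congrArg (q ≫ ·) (by simpa [a] using pullback.condition (f := a ≫ G.s) (g := G.t))
    have hδ : q ≫ translate G a = mul G (L ≫ G.i) γ c1 := by
      rw [comp_mul G q _ _ _ (by simpa [L, lq, γ, a] using c1)]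
      exact mul_congr G (by simp [L, lq, a]) rfl _ _
    obtain ⟨c3, hL⟩ := div_div G L γ c1
    have cg : g₁ ≫ W.ι ≫ G.s = g₂ ≫ W.ι ≫ G.t := by
      rw [← Category.assoc g₁, hg₁, ← Category.assoc g₂, hg₂, ← Category.assoc q (translate G a), hδ]
      exact c3
    let M := pullback.lift g₁ g₂ cg
    have hg₂' : g₂ ≫ W.ι = mul G (L ≫ G.i) γ c1 ≫ G.i :=
      hg₂.trans ((Category.assoc _ _ _).symm.trans (congrArg (· ≫ G.i) hδ))
    have hM : M ≫ τ = L :=
      (lift_comp_translate G W.ι W.ι g₁ g₂ cg γ _ hg₁ hg₂' c3).trans hL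
    refine ⟨M (IsLocalRing.closedPoint _), ?_⟩
    rw [← Scheme.Hom.comp_apply, hM]
    show (lq ≫ l) _ = r
    rw [Scheme.Hom.comp_apply, Scheme.fromSpecResidueField_apply]⟩
  haveI : Flat τ := inferInstance
  haveI : LocallyOfFinitePresentation τ := inferInstance
  exact Groth.Agent.S0115.result τ G.t

include eU in
theorem smooth_s_t [PerfectField k] [IsReduced G.R] [LocallyOfFiniteType G.t] : Smooth G.s ∧ Smooth G.t := by
  haveI := smooth_t G eU
  haveI := isIso_i G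
  refine ⟨?_, inferInstance⟩
  rw [← G.i_t]
  infer_instance

end Groth.Agent.H9GrpdSmooth
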