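import Groth.Prelude.Def_CurvBase
import Mathlib.AlgebraicGeometry.IdealSheaf.Subscheme
import Mathlib.AlgebraicGeometry.Morphisms.Affine

/-! The complement of a locally principal closed subscheme is affine over the ambient scheme. -/

set_option autoImplicit false
set_option backward.isDefEq.respectTransparency.types false

universe u

open CategoryTheory AlgebraicGeometry TopologicalSpace

namespace Groth.Agent.LocPr

variable {X W : Scheme.{u}}

theorem isAffineHom_of_range_compl (I : X.IdealSheafData)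
    (hI : ∀ x ∈ I.support, ∃ U : X.affineOpens, x ∈ (U : X.Opens) ∧ ∃ f : Γ(X, U), I.ideal U = Ideal.span {f})
    (j : W ⟶ X) [IsOpenImmersion j] (hj : Set.range j = (I.support : Set X)ᶜ) : IsAffineHom j := by
  refine isAffineHom_of_forall_exists_isAffineOpen j fun x => ?_
  have key : ∀ (U : X.Opens), IsAffineOpen U → IsAffineOpen (j.opensRange ⊓ U) → IsAffineOpen (j ⁻¹ᵁ U) :=
    fun U _ h => by
      rw [← j.isAffineOpen_iff_of_isOpenImmersion]
      rwa [Scheme.Hom.image_preimage_eq_opensRange_inf]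
  by_cases hx : x ∈ I.support
  · obtain ⟨U, hxU, f, hf⟩ := hI x hx
    refine ⟨U, hxU, U.2, key U U.2 ?_⟩
    have : j.opensRange ⊓ U.1 = X.basicOpen f := by
      apply Opens.ext
      rw [Opens.coe_inf, Scheme.Hom.coe_opensRange, hj]
      have h1 := I.coe_support_inter U
      rw [hf, Scheme.zeroLocus_span, Scheme.zeroLocus_singleton] at h1
      have h2 : (X.basicOpen f : Set X) ⊆ U.1 := X.basicOpen_le f
      ext y
      constructor
      · rintro ⟨h3, h4⟩
        by_contra h5
        exact h3 (h1.ge ⟨h5, h4⟩).1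
      · intro h3
        exact ⟨fun h4 => (h1.le ⟨h4, h2 h3⟩).1 h3, h2 h3⟩
    rw [this]
    exact U.2.basicOpen f
  · obtain ⟨U, hU, hxU, hUle⟩ := exists_isAffineOpen_mem_and_subset (X := X) (x := x) (U := j.opensRange)
      (show x ∈ Set.range j by rw [hj]; exact hx)
    exact ⟨U, hxU, hU, key U hU (by rwa [inf_eq_right.2 (SetLike.coe_subset_coe.1 hUle)])⟩

end Groth.Agent.LocPr

namespace Groth.Agent.LocPr

variable {X : Scheme.{u}}

/-- The complement of an effective Cartier divisor is schematically dense. -/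
theorem injective_res_of_nonZeroDivisor (I : X.IdealSheafData)
    (hI : ∀ x : X, ∃ U : X.affineOpens, x ∈ U.1 ∧
      ∃ f : Γ(X, U.1), f ∈ nonZeroDivisors Γ(X, U.1) ∧ I.ideal U = Ideal.span {f})
    (O : X.Opens) (hO : (O : Set X) = (I.support : Set X)ᶜ) (V : X.Opens) :
    Function.Injective (X.presheaf.map (homOfLE (inf_le_left : V ⊓ O ≤ V)).op) := by
  rw [injective_iff_map_eq_zero]
  intro s hs
  have loc : ∀ x : V, ∃ (W : X.Opens) (h : W ≤ V), (x : X) ∈ W ∧ X.presheaf.map (homOfLE h).op s = 0 := by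
    intro x
    obtain ⟨U, hxU, f, hf, hIf⟩ := hI x
    obtain ⟨g, hgV, hxg⟩ := U.2.exists_basicOpen_le (V := V) x hxU
    refine ⟨X.basicOpen g, hgV, hxg, ?_⟩
    have := U.2.isLocalization_basicOpen g
    let f' : Γ(X, X.basicOpen g) := algebraMap Γ(X, U.1) _ f
    let s' := X.presheaf.map (homOfLE hgV).op s
    have hreg : ∀ a, f' * a = 0 → a = 0 := by
      intro a ha
      obtain ⟨⟨b, m⟩, hb⟩ := IsLocalization.surj (Submonoid.powers g) a
      simp only at hb
      have h1 : algebraMap Γ(X, U.1) Γ(X, X.basicOpen g) (f * b) = 0 := by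
        rw [map_mul, ← hb]
        change f' * (a * _) = 0
        rw [← mul_assoc, ha, zero_mul]
      obtain ⟨c, hc⟩ := (IsLocalization.map_eq_zero_iff (Submonoid.powers g) _ _).1 h1
      have h2 : (c : Γ(X, U.1)) * b = 0 := mul_left_mem_nonZeroDivisors_eq_zero_iff hf |>.1 (by
        rw [← hc]; ring)
      have h3 : algebraMap Γ(X, U.1) Γ(X, X.basicOpen g) b = 0 :=
        (IsLocalization.map_eq_zero_iff (Submonoid.powers g) _ _).2 ⟨c, h2⟩
      rw [h3] at hb
      exact (IsLocalization.map_units _ m).mul_left_eq_zero.1 hb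
    have hle : X.basicOpen f' ≤ V ⊓ O := by
      refine le_inf ((X.basicOpen_le _).trans hgV) fun y hy => ?_
      have hy' : y ∈ X.basicOpen f := by
        have h4 : X.basicOpen f' = X.basicOpen g ⊓ X.basicOpen f := X.basicOpen_res f _
        exact (h4.le hy).2
      change y ∈ (O : Set X)
      rw [hO]
      intro hys
      have h1 := I.coe_support_inter U
      rw [hIf, Scheme.zeroLocus_span, Scheme.zeroLocus_singleton] at h1
      exact (h1.le ⟨hys, X.basicOpen_le f hy'⟩).1 hy'
    have := (U.2.basicOpen g).isLocalization_basicOpen f'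
    have hz : algebraMap Γ(X, X.basicOpen g) Γ(X, X.basicOpen f') s' = 0 := by
      change X.presheaf.map (homOfLE (X.basicOpen_le f')).op (X.presheaf.map (homOfLE hgV).op s) = 0
      rw [← CommRingCat.comp_apply, ← Functor.map_comp,
        show ((homOfLE hgV).op ≫ (homOfLE (X.basicOpen_le f')).op) =
          (homOfLE (inf_le_left : V ⊓ O ≤ V)).op ≫ (homOfLE hle).op from rfl,
        Functor.map_comp, CommRingCat.comp_apply, hs, map_zero]
    obtain ⟨⟨c, n, rfl⟩, hc⟩ := (IsLocalization.map_eq_zero_iff (Submonoid.powers f') _ _).1 hz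
    change s' = 0
    simp only at hc
    clear hz
    induction n with
    | zero => simpa using hc
    | succ n ih => exact ih (hreg _ (by rw [← mul_assoc, ← pow_succ']; exact hc))
  choose W hW hxW hs0 using loc
  refine X.sheaf.eq_of_locally_eq' W V (fun x => homOfLE (hW x)) (fun x hx => ?_) s 0 fun x => ?_
  · exact Opens.mem_iSup.2 ⟨⟨x, hx⟩, hxW ⟨x, hx⟩⟩
  · rw [map_zero]; exact hs0 x

end Groth.Agent.LocPr
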