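import Groth.Prelude.Def_ArtFun4
import Groth.Prelude.Def_ArtFun2
import Groth.Agent.Lib.CompletionDim
import Mathlib

/-! The local functor of a scheme at a rational point is pro-represented by the completed local ring. -/

set_option autoImplicit false
set_option backward.isDefEq.respectTransparency.types false

universe u

open CategoryTheory AlgebraicGeometry ArtFun IsLocalRing

noncomputable section

namespace Groth.Agent.H9LocalPointFun

variable {k : Type u} [Field k] {O : Type u} [CommRing O] [IsLocalRing O] [IsNoetherianRing O] [Algebra k O]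

local notation "R̂" => AdicCompletion (maximalIdeal O) O

theorem maxR_eq : maximalIdeal R̂ = (maximalIdeal O).map (algebraMap O R̂) :=
  AdicCompletion.maximalIdeal_eq_map (R := O)

theorem exists_approx (r : R̂) (n : ℕ) : ∃ o : O, r - algebraMap O R̂ o ∈ maximalIdeal R̂ ^ n := by
  obtain ⟨o, ho⟩ := Ideal.Quotient.mk_surjective (AdicCompletion.evalₐ (maximalIdeal O) n r)
  refine ⟨o, ?_⟩
  have h0 : AdicCompletion.evalₐ (maximalIdeal O) n (r - algebraMap O R̂ o) = 0 := by
    rw [map_sub, AlgHom.commutes, ← ho, Ideal.Quotient.algebraMap_eq, sub_self]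
  have hle : maximalIdeal O ^ n • (⊤ : Ideal O) ≤ maximalIdeal O ^ n := by rw [smul_eq_mul, Ideal.mul_top]
  have h1 : r - algebraMap O R̂ o ∈ (AdicCompletion.eval (maximalIdeal O) O n).ker := by
    rw [LinearMap.mem_ker, ← AdicCompletion.factor_evalₐ_eq_eval (maximalIdeal O) _ (by rw [smul_eq_mul, Ideal.mul_top]), h0, map_zero]
  rw [← AdicCompletion.pow_smul_top_eq_ker_eval (IsNoetherian.noetherian _), Ideal.smul_top_eq_map,
    Submodule.restrictScalars_mem, Ideal.map_pow, ← maxR_eq] at h1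
  exact h1

theorem hom_ext {A : Type u} [CommRing A] {N : Ideal A} (hN : ∃ n : ℕ, N ^ n = ⊥) (f g : R̂ →+* A)
    (hf : ∀ o ∈ maximalIdeal O, f (algebraMap O R̂ o) ∈ N) (h : ∀ o, f (algebraMap O R̂ o) = g (algebraMap O R̂ o)) :
    f = g := by
  obtain ⟨n, hn⟩ := hN
  refine RingHom.ext fun r => ?_
  obtain ⟨o, ho⟩ := exists_approx r n
  have key : ∀ t : R̂ →+* A, (∀ o ∈ maximalIdeal O, t (algebraMap O R̂ o) ∈ N) → t r = t (algebraMap O R̂ o) := by
    intro t ht
    rw [← sub_eq_zero, ← map_sub, ← Ideal.mem_bot, ← hn]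
    have hle : (maximalIdeal R̂).map t ≤ N := by
      rw [maxR_eq, Ideal.map_map, Ideal.map_le_iff_le_comap]
      exact fun o ho => ht o ho
    exact Ideal.pow_right_mono hle n (Ideal.map_pow t _ _ ▸ Ideal.mem_map_of_mem t ho)
  rw [key f hf, key g (fun o ho => h o ▸ hf o ho), h]

theorem exists_extend {A : Type u} [CommRing A] [Algebra k A] {N : Ideal A} (hN : ∃ n : ℕ, N ^ n = ⊥) (φ : O →ₐ[k] A)
    (hφ : ∀ o ∈ maximalIdeal O, φ o ∈ N) : ∃ Φ : R̂ →ₐ[k] A, ∀ o, Φ (algebraMap O R̂ o) = φ o := by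
  obtain ⟨n, hn⟩ := hN
  let L : O ⧸ maximalIdeal O ^ n →ₐ[k] A := Ideal.Quotient.liftₐ _ φ fun o ho => by
    rw [← Ideal.mem_bot, ← hn]
    exact Ideal.pow_right_mono (Ideal.map_le_iff_le_comap.2 hφ) n
      (Ideal.map_pow φ _ _ ▸ Ideal.mem_map_of_mem φ ho)
  refine ⟨L.comp ((AdicCompletion.evalₐ (maximalIdeal O) n).restrictScalars k), fun o => ?_⟩
  show L (AdicCompletion.evalₐ (maximalIdeal O) n (algebraMap O R̂ o)) = φ o
  rw [AlgHom.commutes]; rfl

variable (resO : O →ₐ[k] k)

theorem resO_mem (o : O) (ho : o ∈ maximalIdeal O) : resO o ∈ (⊥ : Ideal k) := by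
  rw [Ideal.mem_bot]
  have : RingHom.ker resO.toRingHom = maximalIdeal O := IsLocalRing.eq_maximalIdeal
    (RingHom.ker_isMaximal_of_surjective resO.toRingHom fun a => ⟨algebraMap k O a, resO.commutes a⟩)
  exact RingHom.mem_ker.1 (this.symm ▸ ho : o ∈ RingHom.ker resO.toRingHom)

/-- the augmentation of the completion -/
def resR : R̂ →ₐ[k] k :=
  (exists_extend (N := (⊥ : Ideal k)) ⟨1, pow_one _⟩ resO (resO_mem resO)).choose

theorem resR_algebraMap (o : O) : resR resO (algebraMap O R̂ o) = resO o :=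
  (exists_extend (N := (⊥ : Ideal k)) ⟨1, pow_one _⟩ resO (resO_mem resO)).choose_spec o

/-- the completed local ring as a coefficient ring -/
def cring : CRing k k :=
  { carrier := R̂
    isNoetherianRing := Groth.Agent.CompletionDim.completion_noetherian
    res := resR resO
    res_surjective := fun a => ⟨algebraMap k R̂ a, (resR resO).commutes a⟩
    isAdicComplete := by
      show IsAdicComplete (maximalIdeal R̂) R̂
      infer_instance }

/-- homomorphisms out of the completion -/
theorem homSet_bijective (A : Art k k) :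
    Function.Bijective (fun φ : HomSet (cring resO).carrier (cring resO).res A =>
      (⟨φ.1.comp (IsScalarTower.toAlgHom k O R̂), AlgHom.ext fun o =>
        (congrArg (fun t : R̂ →ₐ[k] k => t (algebraMap O R̂ o)) φ.2).trans (resR_algebraMap resO o)⟩ :
        {ψ : O →ₐ[k] A // A.res.comp ψ = resO})) := by
  have hker : RingHom.ker resO.toRingHom = maximalIdeal O := IsLocalRing.eq_maximalIdeal
    (RingHom.ker_isMaximal_of_surjective resO.toRingHom fun a => ⟨algebraMap k O a, resO.commutes a⟩)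
  have hN : ∃ n : ℕ, maximalIdeal A ^ n = ⊥ :=
    (IsArtinianRing.isNilpotent_jacobson_bot (R := A)).imp fun n hn => by
      rwa [IsLocalRing.jacobson_eq_maximalIdeal (⊥ : Ideal A) bot_ne_top] at hn
  have hloc : ∀ ψ : O →ₐ[k] A, A.res.comp ψ = resO → ∀ o ∈ maximalIdeal O, ψ o ∈ maximalIdeal A := fun ψ hψ o ho =>
    (Art.mem_maximalIdeal_iff A _).2 ((congrArg (fun t : O →ₐ[k] k => t o) hψ).trans
      (RingHom.mem_ker.1 (hker.symm ▸ ho : o ∈ RingHom.ker resO.toRingHom)))
  constructor
  · intro φ φ' h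
    have h' := congrArg Subtype.val h
    refine Subtype.ext (AlgHom.coe_ringHom_injective (hom_ext hN _ _ ?_ fun o => congrArg (fun t : O →ₐ[k] A => t o) h'))
    exact fun o ho => hloc (φ.1.comp (IsScalarTower.toAlgHom k O R̂)) (AlgHom.ext fun o =>
      (congrArg (fun t : R̂ →ₐ[k] k => t (algebraMap O R̂ o)) φ.2).trans (resR_algebraMap resO o)) o ho
  · rintro ⟨ψ, hψ⟩
    obtain ⟨Φ, hΦ⟩ := exists_extend hN ψ (hloc ψ hψ)
    refine ⟨⟨Φ, AlgHom.coe_ringHom_injective (hom_ext (A := k) (N := ⊥) ⟨1, pow_one _⟩ _ _ ?_ fun o => ?_)⟩,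
      Subtype.ext (AlgHom.ext hΦ)⟩
    · intro o ho
      rw [Ideal.mem_bot]
      show A.res (Φ (algebraMap O R̂ o)) = 0
      rw [hΦ]
      exact (Art.mem_maximalIdeal_iff A _).1 (hloc ψ hψ o ho)
    · show A.res (Φ (algebraMap O R̂ o)) = resR resO (algebraMap O R̂ o)
      rw [hΦ, resR_algebraMap]
      exact congrArg (fun t : O →ₐ[k] k => t o) hψ

section Scheme

variable (M : Scheme.{u}) (m : M ⟶ Spec (CommRingCat.of k)) [IsLocallyNoetherian M]
  (x₀ : Spec (CommRingCat.of k) ⟶ M) (hx₀ : x₀ ≫ m = 𝟙 _)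

include hx₀ in
theorem main :
    ∃ (R : CRing k k)
      (e : ∀ A : Art k k, HomSet R.carrier R.res A ≃
        {g : Art.spec A ⟶ M // g ≫ m = Art.specMap (Art.ofBase A) ∧ Art.specRes A ≫ g = x₀}),
      ∀ (A B : Art k k) (h : A ⟶ B) (φ : HomSet R.carrier R.res A),
        ((e B) (HomSet.map h φ)).1 = Art.specMap h ≫ ((e A) φ).1 := by
  let x : M := x₀ (closedPoint k)
  let ι : CommRingCat.of k ⟶ M.presheaf.stalk x := Spec.preimage (M.fromSpecStalk x ≫ m)
  letI : Algebra k (M.presheaf.stalk x) := ι.hom.toAlgebra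
  have hx : Spec.map (Scheme.stalkClosedPointTo x₀) ≫ M.fromSpecStalk x = x₀ :=
    Scheme.Spec_stalkClosedPointTo_fromSpecStalk x₀
  have hι : ι ≫ Scheme.stalkClosedPointTo x₀ = 𝟙 _ := by
    apply Spec.map_injective
    rw [Spec.map_comp, Spec.map_preimage, ← Category.assoc, hx, hx₀, Spec.map_id]
  let resO : M.presheaf.stalk x →ₐ[k] k :=
    { (Scheme.stalkClosedPointTo x₀).hom with commutes' := fun c => congrArg (fun t => t.hom c) hι }
  let toG : ∀ A : Art k k, {ψ : M.presheaf.stalk x →ₐ[k] A // A.res.comp ψ = resO} →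
      {g : Art.spec A ⟶ M // g ≫ m = Art.specMap (Art.ofBase A) ∧ Art.specRes A ≫ g = x₀} := fun A ψ =>
    ⟨Spec.map (CommRingCat.ofHom ψ.1.toRingHom) ≫ M.fromSpecStalk x, by
      rw [Category.assoc, ← Spec.map_preimage (M.fromSpecStalk x ≫ m), ← Spec.map_comp]
      congr 1
      exact CommRingCat.hom_ext (RingHom.ext fun c => ψ.1.commutes c), by
      refine Eq.trans ?_ hx
      rw [← Category.assoc, ← Spec.map_comp]
      congr 2
      exact CommRingCat.hom_ext (congrArg AlgHom.toRingHom ψ.2)⟩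
  have htoG : ∀ A, Function.Bijective (toG A) := by
    intro A
    constructor
    · intro ψ ψ' h
      have h' := congrArg Subtype.val h
      simp only [toG, cancel_mono] at h'
      exact Subtype.ext (AlgHom.coe_ringHom_injective (congrArg CommRingCat.Hom.hom (Spec.map_injective h')))
    · rintro ⟨g, hg1, hg2⟩
      obtain ⟨ψ, hψ⟩ : ∃ ψ : M.presheaf.stalk x ⟶ CommRingCat.of A, Spec.map ψ ≫ M.fromSpecStalk x = g := by
        have hpt : g (closedPoint A) = x := by
          show _ = x₀ (closedPoint k)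
          rw [← hg2, Scheme.Hom.comp_apply]
          congr 1
          haveI : IsLocalHom (CommRingCat.ofHom A.res.toRingHom).hom := IsLocalHom.mk fun a ha => by
            by_contra hu
            exact ha.ne_zero ((Art.mem_maximalIdeal_iff A a).1 ((IsLocalRing.mem_maximalIdeal _).2 hu))
          exact (Spec_closedPoint (f := CommRingCat.ofHom A.res.toRingHom)).symm
        rw [← hpt]
        exact ⟨_, Scheme.Spec_stalkClosedPointTo_fromSpecStalk g⟩
      subst hψ
      have h1 : ι ≫ ψ = CommRingCat.ofHom (Art.ofBase A).toAlgHom.toRingHom := by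
        apply Spec.map_injective
        rw [Spec.map_comp, Spec.map_preimage, ← Category.assoc]
        exact hg1
      have h2 : ψ ≫ CommRingCat.ofHom A.res.toRingHom = Scheme.stalkClosedPointTo x₀ := by
        apply Spec.map_injective
        rw [← cancel_mono (M.fromSpecStalk x), Spec.map_comp, Category.assoc, hg2, hx]
      exact ⟨⟨{ ψ.hom with commutes' := fun c => congrArg (fun t => t.hom c) h1 },
        AlgHom.ext fun o => congrArg (fun t => t.hom o) h2⟩, Subtype.ext rfl⟩
  refine ⟨cring resO, fun A => (Equiv.ofBijective _ (homSet_bijective resO A)).trans (Equiv.ofBijective _ (htoG A)),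
    fun A B h φ => ?_⟩
  show Spec.map _ ≫ M.fromSpecStalk x = Spec.map _ ≫ Spec.map _ ≫ M.fromSpecStalk x
  rw [← Spec.map_comp_assoc]
  rfl

end Scheme

end Groth.Agent.H9LocalPointFun
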