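import Groth.Prelude.Def_Magnet
import Mathlib

/-! Equivariant hom functors and fixed point functors are sheaves for subcanonical topologies. -/

set_option autoImplicit false
set_option linter.all false
set_option synthInstance.maxHeartbeats 40000
set_option maxHeartbeats 400000
set_option backward.isDefEq.respectTransparency.types false
set_option backward.isDefEq.respectTransparency false

universe v u

open CategoryTheory CategoryTheory.Limits MonoidalCategory CartesianMonoidalCategory Opposite MonObj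

namespace Groth.Agent.H9MagnetSheaf

open Magnet Magnet.MonAct

variable {C : Type u} [Category.{v} C] [CartesianMonoidalCategory C] {A B X : C} [MonObj A]
  (J : GrothendieckTopology C) [J.Subcanonical]

omit [MonObj A] in
theorem hom_ext_cover {T : C} (S : Sieve T) (hS : S ∈ J T) {f g : T ⟶ X}
    (h : ∀ ⦃W : C⦄ (i : W ⟶ T), S i → i ≫ f = i ≫ g) : f = g :=
  ((GrothendieckTopology.Subcanonical.isSheaf_of_isRepresentable (J := J) (yoneda.obj X)) S hS).isSeparatedFor.ext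
    fun W i hi => h i hi

theorem isSheaf_fixedPsh (a : MonAct A X) : Presheaf.IsSheaf J (fixedPsh a) := by
  rw [isSheaf_iff_isSheaf_of_type]
  intro T S hS x hx
  let f' : Presieve.FamilyOfElements (yoneda.obj X) S.arrows := fun W i hi => (x i hi).1
  have hx' : f'.Compatible :=
    fun W₁ W₂ Z g₁ g₂ f₁ f₂ h₁ h₂ e => congrArg Subtype.val (hx g₁ g₂ h₁ h₂ e)
  obtain ⟨y, hy, -⟩ := (GrothendieckTopology.Subcanonical.isSheaf_of_isRepresentable (J := J) (yoneda.obj X)) S hS _ hx'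
  have hy' : ∀ ⦃W : C⦄ (i : W ⟶ T) (hi : S i), i ≫ y = (x i hi).1 := fun W i hi => hy i hi
  have hfix : ∀ (T' : C) (t : T' ⟶ T) (g : T' ⟶ A), lift g (t ≫ y) ≫ a.act = t ≫ y := by
    intro T' t g
    refine hom_ext_cover J (S.pullback t) (J.pullback_stable t hS) fun W s hs => ?_
    have e : (s ≫ t) ≫ y = (x (s ≫ t) hs).1 := hy' _ hs
    rw [comp_lift_assoc, ← Category.assoc s t y, e]
    exact (by simpa using (x (s ≫ t) hs).2 W (𝟙 W) (s ≫ g) : _)
  refine ⟨⟨y, hfix⟩, fun W i hi => Subtype.ext (hy' i hi), fun z hz => Subtype.ext ?_⟩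
  refine hom_ext_cover J S hS fun W i hi => ?_
  show i ≫ z.1 = i ≫ y
  rw [hy' i hi]
  exact congrArg Subtype.val (hz i hi)

theorem isSheaf_eqvHom (ρ : MonAct A B) (a : MonAct A X) : Presheaf.IsSheaf J (eqvHom ρ a) := by
  rw [isSheaf_iff_isSheaf_of_type]
  intro T S hS x hx
  have hcompat : ∀ ⦃W W' : C⦄ (k : W' ⟶ W) (i : W ⟶ T) (hi : S i) (hki : S (k ≫ i)),
      (x (k ≫ i) hki).1 = (B ◁ k) ≫ (x i hi).1 := fun W W' k i hi hki =>
    (by simpa using congrArg Subtype.val (hx (𝟙 W') k hki hi (by simp)))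
  have xcongr : ∀ ⦃W : C⦄ (i j : W ⟶ T) (h : S i) (h' : S j), i = j → (x i h).1 = (x j h').1 := by
    rintro W i _ h h' rfl; rfl
  let S' : Sieve (B ⊗ T) := S.pullback (snd B T)
  have hS' : S' ∈ J (B ⊗ T) := J.pullback_stable _ hS
  let fam : Presieve.FamilyOfElements (yoneda.obj X) S'.arrows := fun W h hh =>
    lift (h ≫ fst B T) (𝟙 W) ≫ (x (h ≫ snd B T) hh).1
  have hfam : fam.Compatible := by
    intro W₁ W₂ Z g₁ g₂ f₁ f₂ h₁ h₂ e
    show g₁ ≫ fam f₁ h₁ = g₂ ≫ fam f₂ h₂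
    have key : ∀ ⦃W Z : C⦄ (k : Z ⟶ W) (f : W ⟶ B ⊗ T) (hf : S (f ≫ snd B T)) (hk : S ((k ≫ f) ≫ snd B T)),
        k ≫ lift (f ≫ fst B T) (𝟙 W) ≫ (x (f ≫ snd B T) hf).1 =
          lift ((k ≫ f) ≫ fst B T) (𝟙 Z) ≫ (x ((k ≫ f) ≫ snd B T) hk).1 := fun W Z k f hf hk => by
      have e2 : (x ((k ≫ f) ≫ snd B T) hk).1 = (B ◁ k) ≫ (x (f ≫ snd B T) hf).1 := by
        have hk' : S (k ≫ f ≫ snd B T) := by simpa using hk
        rw [← hcompat k (f ≫ snd B T) hf hk']
        exact xcongr _ _ _ _ (Category.assoc _ _ _)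
      rw [e2, comp_lift_assoc, lift_whiskerLeft_assoc]
      simp
    rw [key g₁ f₁ h₁ (by rw [Category.assoc]; exact S.downward_closed h₁ g₁),
      key g₂ f₂ h₂ (by rw [Category.assoc]; exact S.downward_closed h₂ g₂)]
    rw [xcongr _ _ _ (show S ((g₂ ≫ f₂) ≫ snd B T) by rw [Category.assoc]; exact S.downward_closed h₂ g₂) (by rw [e]), e]
  obtain ⟨y, hy, -⟩ := (GrothendieckTopology.Subcanonical.isSheaf_of_isRepresentable (J := J) (yoneda.obj X)) S' hS' _ hfam
  have hy' : ∀ ⦃W : C⦄ (h : W ⟶ B ⊗ T) (hh : S (h ≫ snd B T)),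
      h ≫ y = lift (h ≫ fst B T) (𝟙 W) ≫ (x (h ≫ snd B T) hh).1 := fun W h hh => hy h hh
  have hrestrict : ∀ ⦃W : C⦄ (i : W ⟶ T) (hi : S i), (B ◁ i) ≫ y = (x i hi).1 := by
    intro W i hi
    have hh : S ((B ◁ i) ≫ snd B T) := by rw [whiskerLeft_snd]; exact S.downward_closed hi _
    rw [hy' _ hh]
    have hk : S (snd B W ≫ i) := S.downward_closed hi _
    rw [xcongr _ _ hh hk (whiskerLeft_snd _ _),
      hcompat (snd B W) i hi hk, lift_whiskerLeft_assoc]
    simp
  have heq : IsEquivariant (ρ.prod (trivial A T)) a y := by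
    rw [mem_eqvHom_iff]
    intro T' g b t
    refine hom_ext_cover J (S.pullback t) (J.pullback_stable t hS) fun W s hs => ?_
    have hx2 := (x (s ≫ t) hs).2
    rw [mem_eqvHom_iff] at hx2
    have := hx2 W (s ≫ g) (s ≫ b) (𝟙 W)
    rw [← hrestrict (s ≫ t) hs, lift_whiskerLeft_assoc, lift_whiskerLeft_assoc, Category.id_comp] at this
    simpa [comp_lift_assoc, comp_lift] using this
  refine ⟨⟨y, heq⟩, fun W i hi => Subtype.ext (hrestrict i hi), fun z hz => Subtype.ext ?_⟩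
  refine hom_ext_cover J S' hS' fun W h hh => ?_
  show h ≫ z.1 = h ≫ y
  have e : (B ◁ (h ≫ snd B T)) ≫ z.1 = (x (h ≫ snd B T) hh).1 := congrArg Subtype.val (hz (h ≫ snd B T) hh)
  rw [hy' h hh, ← e, lift_whiskerLeft_assoc]
  congr 1
  apply CartesianMonoidalCategory.hom_ext <;> simp

end Groth.Agent.H9MagnetSheaf
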