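import Groth.Prelude.Def_DescFam
import Groth.Agent.Lib.H6.SubtrVal2
import Mathlib

/-! fpqc descent of open immersions. -/

set_option autoImplicit false
set_option linter.all false
set_option synthInstance.maxHeartbeats 20000
set_option backward.isDefEq.respectTransparency.types false
set_option backward.isDefEq.respectTransparency false

universe u

open AlgebraicGeometry CategoryTheory CategoryTheory.Limits TopologicalSpace

namespace Groth.Agent.H9OpenImmDescent

variable {S : Scheme.{u}} {ι : Type u} {X : ι → Scheme.{u}} (f : ∀ i, X i ⟶ S)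

theorem sat (D : Desc.SchDDFam f) (hD : ∀ i, IsOpenImmersion (D.obj i).hom) {i j : ι} (x : X i) (y : X j)
    (hxy : f i x = f j y) (hx : x ∈ Set.range (D.obj i).hom) : y ∈ Set.range (D.obj j).hom := by
  haveI := hD i
  obtain ⟨z, hz1, hz2⟩ := Scheme.Pullback.exists_preimage_pullback (f := f i) (g := f j) x y hxy
  let a := (pullback (f i) (f j)).fromSpecResidueField z ≫ pullback.fst (f i) (f j)
  let b := (pullback (f i) (f j)).fromSpecResidueField z ≫ pullback.snd (f i) (f j)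
  have hab : a ≫ f i = b ≫ f j := by simp [a, b, pullback.condition]
  have ha : Set.range a ⊆ Set.range (D.obj i).hom := by
    rintro _ ⟨w, rfl⟩
    rw [Scheme.Hom.comp_apply, Scheme.fromSpecResidueField_apply, hz1]
    exact hx
  let v : Desc.Lifts (D.obj i) a := ⟨IsOpenImmersion.lift (D.obj i).hom a ha, IsOpenImmersion.lift_fac _ _ _⟩
  refine ⟨(D.φ a b hab v).1 (IsLocalRing.closedPoint _), ?_⟩
  rw [← Scheme.Hom.comp_apply, (D.φ a b hab v).2, Scheme.Hom.comp_apply, Scheme.fromSpecResidueField_apply, hz2]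

theorem isOpen_union (hf : Presieve.ofArrows X f ∈ Scheme.fpqcPrecoverage S) (O : ∀ i, (X i).Opens)
    (hsat : ∀ (i j : ι) (x : X i) (y : X j), f i x = f j y → x ∈ O i → y ∈ O j) :
    IsOpen (⋃ i, f i '' (O i : Set (X i))) := by
  let E : PreZeroHypercover.{u} S := ⟨ι, X, f⟩
  haveI : QuasiCompactCover E := Scheme.presieve₀_mem_qcPrecoverage_iff.1 hf.1
  obtain ⟨hsurj, hflat⟩ := (Scheme.ofArrows_mem_precoverage_iff @Flat).1 hf.2
  rw [← isClosed_compl_iff]
  refine isClosed_of_closure_subset fun z hz hzU => ?_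
  obtain ⟨W, hW, hzW, -⟩ := exists_isAffineOpen_mem_and_subset (X := S) (x := z) (U := ⊤) trivial
  obtain ⟨s, hs, V, hVc, hcov⟩ := hW.isCompactOpenCovered E
  have hsub : (⋃ i, f i '' (O i : Set (X i)))ᶜ ∩ (W : Set S) ⊆ ⋃ i ∈ s, f i '' {x | (∃ h : i ∈ s, x ∈ V i h) ∧ x ∉ O i} := by
    rintro y ⟨hy, hyW⟩
    rw [← hcov] at hyW
    obtain ⟨i, hi, x, hx, rfl⟩ := Set.mem_iUnion₂.1 hyW
    exact Set.mem_iUnion₂.2 ⟨i, hi, x, ⟨⟨hi, hx⟩, fun h => hy (Set.mem_iUnion.2 ⟨i, x, h, rfl⟩)⟩, rfl⟩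
  have hz' : z ∈ closure ((⋃ i, f i '' (O i : Set (X i)))ᶜ ∩ (W : Set S)) := by
    rw [Set.inter_comm]
    exact W.2.inter_closure ⟨hzW, hz⟩
  have hzi := closure_mono hsub hz'
  rw [hs.closure_biUnion] at hzi
  obtain ⟨i, hi, hzi⟩ := Set.mem_iUnion₂.1 hzi
  have hWle : ∀ x ∈ V i hi, f i x ∈ W := fun x hx => by
    show f i x ∈ (W : Set S)
    rw [← hcov]; exact Set.mem_iUnion₂.2 ⟨i, hi, x, hx, rfl⟩
  let Vi : (X i).Opens := V i hi
  let Z : TopologicalSpace.Closeds Vi.toScheme :=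
    ⟨Vi.ι ⁻¹' (O i : Set (X i))ᶜ, (O i).2.isClosed_compl.preimage (Scheme.Opens.ι _).continuous⟩
  let c := (Scheme.IdealSheafData.vanishingIdeal Z).subschemeι
  let g : Vi.toScheme ⟶ W.toScheme :=
    IsOpenImmersion.lift W.ι (Vi.ι ≫ f i) (by
      rw [Scheme.Opens.range_ι]; rintro _ ⟨x, rfl⟩; exact hWle _ x.2)
  have hg : g ≫ W.ι = Vi.ι ≫ f i := IsOpenImmersion.lift_fac _ _ _
  haveI : IsAffine W.toScheme := hW
  haveI : CompactSpace Vi.toScheme := isCompact_iff_compactSpace.1 (hVc i hi)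
  haveI : QuasiCompact g := (quasiCompact_iff_compactSpace g).2 inferInstance
  have hr : f i '' {x | (∃ h : i ∈ s, x ∈ V i h) ∧ x ∉ O i} ⊆ W.ι '' Set.range (c ≫ g) := by
    rintro _ ⟨x, ⟨⟨_, hx⟩, hn⟩, rfl⟩
    have : (⟨x, hx⟩ : Vi.toScheme) ∈ Set.range c := by
      rw [Scheme.IdealSheafData.range_subschemeι, Scheme.IdealSheafData.coe_support_vanishingIdeal]
      exact hn
    obtain ⟨q, hq⟩ := this
    refine ⟨(c ≫ g) q, ⟨q, rfl⟩, ?_⟩
    rw [← Scheme.Hom.comp_apply, Category.assoc, hg, Scheme.Hom.comp_apply, hq, Scheme.Hom.comp_apply]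
    rfl
  have hcl : (⟨z, hzW⟩ : W.toScheme) ∈ closure (Set.range (c ≫ g)) := by
    rw [W.ι.isOpenEmbedding.isInducing.closure_eq_preimage_closure_image]
    exact closure_mono hr hzi
  obtain ⟨q, hq⟩ := H6.SubtrVal.exists_specializes_of_mem_closure_range (c ≫ g) hcl
  have hq' := hq.map W.ι.continuous
  have e : W.ι ((c ≫ g) q) = f i (Vi.ι (c q)) := by
    rw [← Scheme.Hom.comp_apply, Category.assoc, hg, Scheme.Hom.comp_apply, Scheme.Hom.comp_apply]
  rw [e] at hq'
  have hn : Vi.ι (c q) ∉ O i := by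
    have : c q ∈ Set.range c := ⟨q, rfl⟩
    rw [Scheme.IdealSheafData.range_subschemeι, Scheme.IdealSheafData.coe_support_vanishingIdeal] at this
    exact this
  obtain ⟨j, hzj⟩ := Set.mem_iUnion.1 hzU
  obtain ⟨y, hyO, hyz⟩ := hzj
  haveI : Flat (f j) := hflat j
  obtain ⟨y', hy', hy'e⟩ := Flat.generalizingMap (f j) (show f i (Vi.ι (c q)) ⤳ f j y by rw [hyz]; exact hq')
  exact hn (hsat j i y' _ hy'e ((O j).2.stableUnderGeneralization hy' hyO))

variable {f}

/-- Any family of maps into a datum of monomorphisms is a morphism. -/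
def homOfMono (D D' : Desc.SchDDFam f) [∀ i, Mono (D'.obj i).hom] (h : ∀ i, D.obj i ⟶ D'.obj i) : D ⟶ D' :=
  ⟨h, fun T i j x₀ x₁ hx v w hw => by
    rw [← cancel_mono (D'.obj j).hom, Category.assoc, Over.w (h j), (D.φ x₀ x₁ hx v).2, (D'.φ x₀ x₁ hx w).2]⟩

theorem isEffective (hf : Presieve.ofArrows X f ∈ Scheme.fpqcPrecoverage S) (D : Desc.SchDDFam f)
    (hD : ∀ i, IsOpenImmersion (D.obj i).hom) : D.IsEffective := by
  let O : ∀ i, (X i).Opens := fun i => ⟨Set.range (D.obj i).hom, (haveI := hD i; (D.obj i).hom.isOpenEmbedding.isOpen_range)⟩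
  let U : S.Opens := ⟨⋃ i, f i '' (O i : Set (X i)), isOpen_union f hf O fun i j x y h hx => sat f D hD x y h hx⟩
  let D' := (Desc.toDDFam f).obj (Over.mk U.ι)
  haveI : ∀ i, IsOpenImmersion (D'.obj i).hom := fun i => (inferInstance : IsOpenImmersion (pullback.fst (f i) U.ι))
  haveI := hD
  have hr : ∀ i, Set.range (D'.obj i).hom = Set.range (D.obj i).hom := fun i => by
    show Set.range (pullback.fst (f i) U.ι) = _
    rw [Scheme.Pullback.range_fst, Scheme.Opens.range_ι]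
    ext x
    constructor
    · intro hx
      obtain ⟨j, y, hy, hyx⟩ := Set.mem_iUnion.1 hx
      exact sat f D hD y x hyx hy
    · exact fun hx => Set.mem_iUnion.2 ⟨i, x, hx, rfl⟩
  let e := fun i => IsOpenImmersion.isoOfRangeEq (D'.obj i).hom (D.obj i).hom (hr i)
  let a : D' ⟶ D := homOfMono D' D fun i => Over.homMk (e i).hom (IsOpenImmersion.isoOfRangeEq_hom_fac _ _ _)
  let b : D ⟶ D' := homOfMono D D' fun i => Over.homMk (e i).inv (IsOpenImmersion.isoOfRangeEq_inv_fac _ _ _)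
  refine ⟨Over.mk U.ι, ⟨⟨a, b, ?_, ?_⟩⟩⟩
  · refine Desc.SchDDFam.hom_ext (funext fun i => Over.OverMorphism.ext ?_)
    exact (e i).hom_inv_id
  · refine Desc.SchDDFam.hom_ext (funext fun i => Over.OverMorphism.ext ?_)
    exact (e i).inv_hom_id

end Groth.Agent.H9OpenImmDescent
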