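import Mathlib

/-! A spanning submodule over a local ring with infinite residue field contains a basis. -/

set_option autoImplicit false
set_option backward.isDefEq.respectTransparency.types false
set_option backward.isDefEq.respectTransparency false

namespace Groth.Agent.H9Semilocal

universe u

open IsLocalRing

theorem exists_basis_mem {B A M : Type u} [CommRing B] [CommRing A] [IsLocalRing B] [Infinite (ResidueField B)] [Algebra B A]
    [Finite (MaximalSpectrum A)] (hBA : (maximalIdeal B).map (algebraMap B A) ≤ (⊥ : Ideal A).jacobson)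
    [AddCommGroup M] [Module A M] [Module B M] [IsScalarTower B A M] {r : ℕ} (b : Module.Basis (Fin r) A M)
    (N : Submodule B M) (hN : Submodule.span A (N : Set M) = ⊤) :
    ∃ b' : Module.Basis (Fin r) A M, ∀ i, b' i ∈ N := by
  classical
  letI : Field (B ⧸ maximalIdeal B) := Ideal.Quotient.field _
  haveI : Infinite (B ⧸ maximalIdeal B) := ‹Infinite (ResidueField B)›
  let π : ∀ Q : MaximalSpectrum A, M →ₗ[A] (Fin r → A ⧸ Q.asIdeal) := fun Q =>
    ((Ideal.Quotient.mkₐ A Q.asIdeal).toLinearMap.compLeft (Fin r)).comp b.equivFun.toLinearMap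
  have hπ : ∀ (Q : MaximalSpectrum A), Function.Surjective (π Q) := fun Q v => by
    choose a ha using fun i => Ideal.Quotient.mk_surjective (I := Q.asIdeal) (v i)
    exact ⟨b.equivFun.symm a, funext fun i => ((congrArg (fun w => Ideal.Quotient.mk Q.asIdeal (w i)) (b.equivFun.apply_symm_apply a)).trans (ha i))⟩
  have step : ∀ i, i ≤ r → ∃ v : Fin i → M, (∀ j, v j ∈ N) ∧
      ∀ Q : MaximalSpectrum A, LinearIndependent (A ⧸ Q.asIdeal) fun j => π Q (v j) := by
    intro i
    induction i with
    | zero => exact fun _ => ⟨Fin.elim0, fun j => j.elim0, fun Q => linearIndependent_empty_type⟩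
    | succ i ih =>
      intro hi
      obtain ⟨v, hv, hvi⟩ := ih (by omega)
      let E := N ⧸ (maximalIdeal B • (⊤ : Submodule B N))
      let P : MaximalSpectrum A → Submodule B N := fun Q =>
        (((Submodule.span (A ⧸ Q.asIdeal) (Set.range fun j => π Q (v j))).restrictScalars A).comap (π Q)).restrictScalars B
          |>.comap N.subtype
      have hP : ∀ Q, maximalIdeal B • (⊤ : Submodule B N) ≤ P Q := fun Q => by
        rw [Submodule.smul_le]
        intro a ha x _
        show π Q ((a • x : N) : M) ∈ Submodule.span (A ⧸ Q.asIdeal) _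
        rw [Submodule.coe_smul, ← algebraMap_smul A a (x : M), map_smul]
        have haQ : algebraMap B A a ∈ Q.asIdeal :=
          (sInf_le ⟨bot_le, Q.isMaximal⟩ : (⊥ : Ideal A).jacobson ≤ Q.asIdeal) (hBA (Ideal.mem_map_of_mem _ ha))
        have : algebraMap B A a • π Q (x : M) = 0 := by
          funext j
          rw [Pi.smul_apply, Algebra.smul_def, Ideal.Quotient.algebraMap_eq, Ideal.Quotient.eq_zero_iff_mem.2 haQ, zero_mul]
          rfl
        rw [this]
        exact zero_mem _
      let PE : MaximalSpectrum A → Submodule (B ⧸ maximalIdeal B) E := fun Q =>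
        { (Submodule.map (maximalIdeal B • (⊤ : Submodule B N)).mkQ (P Q)).toAddSubmonoid with
          smul_mem' := fun c x hx => by
            obtain ⟨c, rfl⟩ := Ideal.Quotient.mk_surjective c
            exact Submodule.smul_mem (Submodule.map (maximalIdeal B • (⊤ : Submodule B N)).mkQ (P Q)) c hx }
      obtain ⟨x, hx⟩ : ∃ x : E, ∀ Q, x ∉ PE Q := by
        by_contra h
        push_neg at h
        obtain ⟨Q, hQ⟩ := Subspace.exists_eq_top_of_iUnion_eq_univ (p := PE) (Set.eq_univ_of_forall fun x => by
          obtain ⟨Q, hQ⟩ := h x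
          exact Set.mem_iUnion.2 ⟨Q, hQ⟩)
        have hall : ∀ n : N, n ∈ P Q := fun n => by
          have : (maximalIdeal B • (⊤ : Submodule B N)).mkQ n ∈ PE Q := hQ ▸ Submodule.mem_top
          obtain ⟨p, hp, hpn⟩ := (show _ ∈ Submodule.map (maximalIdeal B • (⊤ : Submodule B N)).mkQ (P Q) from this)
          have hd : n - p ∈ maximalIdeal B • (⊤ : Submodule B N) := (Submodule.Quotient.eq _).1 hpn.symm
          simpa using add_mem (hP Q hd) hp
        have htop : Submodule.span A (N : Set M) ≤
            ((Submodule.span (A ⧸ Q.asIdeal) (Set.range fun j => π Q (v j))).restrictScalars A).comap (π Q) :=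
          Submodule.span_le.2 fun n hn => hall ⟨n, hn⟩
        rw [hN] at htop
        have hspan : Submodule.span (A ⧸ Q.asIdeal) (Set.range fun j => π Q (v j)) = ⊤ := eq_top_iff.2 fun w _ => by
          obtain ⟨m, rfl⟩ := hπ Q w
          exact htop (Submodule.mem_top (x := m))
        letI : Field (A ⧸ Q.asIdeal) := Ideal.Quotient.field _
        have h1 := finrank_span_eq_card (hvi Q)
        rw [hspan, finrank_top, Module.finrank_pi, Fintype.card_fin, Fintype.card_fin] at h1
        omega
      obtain ⟨n, rfl⟩ := (maximalIdeal B • (⊤ : Submodule B N)).mkQ_surjective x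
      refine ⟨Fin.snoc v (n : M), fun j => Fin.lastCases (by simp) (fun j => by simp [hv]) j, fun Q => ?_⟩
      letI : Field (A ⧸ Q.asIdeal) := Ideal.Quotient.field _
      have e : (fun j => π Q (Fin.snoc (α := fun _ => M) v (n : M) j)) = Fin.snoc (fun j => π Q (v j)) (π Q (n : M)) :=
        funext fun j => Fin.lastCases (by simp) (fun j => by simp) j
      rw [e, linearIndependent_finSnoc]
      exact ⟨hvi Q, fun h => hx Q ⟨n, h, rfl⟩⟩
  obtain ⟨v, hv, hvi⟩ := step r le_rfl
  have hdet : IsUnit (b.det v) := by
    rw [Module.Basis.det_apply]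
    by_contra hnu
    obtain ⟨Q, hQ, hdQ⟩ := exists_max_ideal_of_mem_nonunits hnu
    haveI := hQ
    letI : Field (A ⧸ Q) := Ideal.Quotient.field _
    have hli : LinearIndependent (A ⧸ Q) ((b.toMatrix v).map (Ideal.Quotient.mk Q)).col := by
      have := hvi ⟨Q, hQ⟩
      convert! this using 1
    have hu := (Matrix.linearIndependent_cols_iff_isUnit).1 hli
    rw [Matrix.isUnit_iff_isUnit_det, ← RingHom.mapMatrix_apply, ← RingHom.map_det, Ideal.Quotient.eq_zero_iff_mem.2 hdQ] at hu
    exact not_isUnit_zero hu
  obtain ⟨hl, hs⟩ := (Module.Basis.is_basis_iff_det b).2 hdet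
  exact ⟨Module.Basis.mk hl hs.ge, fun i => by rw [Module.Basis.mk_apply]; exact hv i⟩

end Groth.Agent.H9Semilocal
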