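import Groth.Prelude.Def_W4stktopologysheavesBas
import Mathlib

/-! The sheaf condition on a basis can be checked on a cofinal system of coverings. -/

set_option autoImplicit false
set_option linter.all false
set_option synthInstance.maxHeartbeats 40000
set_option maxHeartbeats 400000

universe u

open TopologicalSpace

namespace Groth.Agent.H9ShBCofinal

variable {X : Type u} [TopologicalSpace X] {B : Set (Opens X)}

/-- Agreement on every member contained in both. -/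
def SC (F : ShB.Pre B) (c : ShB.Cover B) (s : ∀ i, F.obj (c.V i)) : Prop :=
  ∀ (i j : c.ι) (b : B) (h : (b : Opens X) ≤ c.V i) (h' : (b : Opens X) ≤ c.V j), F.res h (s i) = F.res h' (s j)

theorem isSheaf_of_cofinal (hB : Opens.IsBasis B) (F : ShB.Pre B) (C : ∀ U : B, Set (ShB.Cover B))
    (hCU : ∀ U, ∀ c ∈ C U, c.U = U)
    (hC : ∀ (U : B) (ι : Type u) (V : ι → B), (∀ i, (V i : Opens X) ≤ (U : Opens X)) →
      (U : Opens X) ≤ ⨆ i, (V i : Opens X) → ∃ c ∈ C U, ∀ i' : c.ι, ∃ i, (c.V i' : Opens X) ≤ (V i : Opens X))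
    (H : ∀ U, ∀ c ∈ C U, ∀ s, SC F c s → ∃! t : F.obj c.U, ∀ i, F.res (c.V_le i) t = s i) :
    ShB.IsSheaf F := by
  have sep : ∀ (U : B) (ι : Type u) (V : ι → B) (hle : ∀ i, (V i : Opens X) ≤ (U : Opens X)),
      (U : Opens X) ≤ ⨆ i, (V i : Opens X) → ∀ s t : F.obj U, (∀ i, F.res (hle i) s = F.res (hle i) t) → s = t := by
    intro U ι V hle hcov s t hst
    obtain ⟨c, hc, href⟩ := hC U ι V hle hcov
    have hU := hCU U c hc
    subst hU
    obtain ⟨r, -, hr⟩ := H c.U c hc (fun i => F.res (c.V_le i) s) fun i j b h h' => by rw [F.res_comp, F.res_comp]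
    refine (hr s fun i => rfl).trans (hr t fun i => ?_).symm
    obtain ⟨k, hk⟩ := href i
    rw [← F.res_comp (hle k) hk, ← hst k, F.res_comp]
  intro c s hs
  have hloc : ∀ (i j : c.ι) (b : B) (h : (b : Opens X) ≤ c.V i) (h' : (b : Opens X) ≤ c.V j),
      F.res h (s i) = F.res h' (s j) := by
    intro i j b h h'
    refine sep b {w : B // (w : Opens X) ≤ b ∧ ∃ k, (w : Opens X) ≤ c.W i j k} (fun w => w.1) (fun w => w.2.1) ?_ _ _ fun w => ?_
    · intro x hx
      obtain ⟨k, hk⟩ := Opens.mem_iSup.1 (c.W_cover i j ⟨h hx, h' hx⟩)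
      obtain ⟨w, hwB, hxw, hw⟩ := Opens.isBasis_iff_nbhd.1 hB (show x ∈ (b : Opens X) ⊓ c.W i j k from ⟨hx, hk⟩)
      exact Opens.mem_iSup.2 ⟨⟨⟨w, hwB⟩, hw.trans inf_le_left, k, hw.trans inf_le_right⟩, hxw⟩
    · obtain ⟨k, hk⟩ := w.2.2
      rw [F.res_comp, F.res_comp, ← F.res_comp (c.W_le_left i j k) hk, hs i j k, F.res_comp]
  obtain ⟨d, hd, href⟩ := hC c.U c.ι c.V c.V_le c.V_cover
  obtain ⟨dU, dι, dV, dle, dcov, dκ, dW, dl, dr, dWc⟩ := d
  obtain rfl : dU = c.U := hCU _ _ hd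
  choose a ha using href
  obtain ⟨t, ht, -⟩ := H c.U _ hd (fun i' => F.res (ha i') (s (a i'))) fun i j b h h' => by
    rw [F.res_comp, F.res_comp]; exact hloc _ _ b _ _
  have hglue : ∀ i, F.res (c.V_le i) t = s i := by
    intro i
    refine sep (c.V i) {w : B // (w : Opens X) ≤ c.V i ∧ ∃ i', (w : Opens X) ≤ dV i'} (fun w => w.1) (fun w => w.2.1) ?_ _ _ fun w => ?_
    · intro x hx
      obtain ⟨i', hi'⟩ := Opens.mem_iSup.1 (dcov (c.V_le i hx))
      obtain ⟨w, hwB, hxw, hw⟩ := Opens.isBasis_iff_nbhd.1 hB (show x ∈ (c.V i : Opens X) ⊓ dV i' from ⟨hx, hi'⟩)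
      exact Opens.mem_iSup.2 ⟨⟨⟨w, hwB⟩, hw.trans inf_le_left, i', hw.trans inf_le_right⟩, hxw⟩
    · obtain ⟨i', hi'⟩ := w.2.2
      rw [F.res_comp, ← F.res_comp (dle i') hi', ht i', F.res_comp]
      exact hloc _ _ _ _ _
  exact ⟨t, hglue, fun t' ht' => sep c.U c.ι c.V c.V_le c.V_cover t' t fun i => (ht' i).trans (hglue i).symm⟩

end Groth.Agent.H9ShBCofinal
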