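import Groth.Prelude.Def_W4stktopologysheavesBas
import Mathlib

/-! Sheaves on a basis: sections are compatible germs; extension to all opens. -/

set_option autoImplicit false
set_option linter.all false
set_option synthInstance.maxHeartbeats 40000
set_option maxHeartbeats 400000
set_option backward.isDefEq.respectTransparency.types false
set_option backward.isDefEq.respectTransparency false

universe u

open TopologicalSpace Opposite CategoryTheory

namespace Groth.Agent.H9ShBExtend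

variable {X : Type u} [TopologicalSpace X] {B : Set (Opens X)} (hB : Opens.IsBasis B) (F : ShB.Pre B)

include hB in
theorem exists_mem (O : Opens X) (x : X) (hx : x ∈ O) : ∃ w : B, x ∈ (w : Opens X) ∧ (w : Opens X) ≤ O := by
  obtain ⟨w, hw, hxw, hwO⟩ := Opens.isBasis_iff_nbhd.1 hB hx
  exact ⟨⟨w, hw⟩, hxw, hwO⟩

include hB in
theorem germ_eq_iff {U V : B} (x : X) (hU : x ∈ (U : Opens X)) (hV : x ∈ (V : Opens X)) (s : F.obj U) (t : F.obj V) :
    ShB.germ F x hU s = ShB.germ F x hV t ↔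
      ∃ (w : B) (_ : x ∈ (w : Opens X)) (a : (w : Opens X) ≤ U) (b : (w : Opens X) ≤ V), F.res a s = F.res b t := by
  have heq : Equivalence (ShB.StalkRel F x) := by
    refine ⟨fun a => ⟨a.1.1, a.1.2, le_rfl, le_rfl, rfl⟩, fun ⟨w, hw, a, b, e⟩ => ⟨w, hw, b, a, e.symm⟩, ?_⟩
    rintro p q r ⟨w, hw, a, b, e⟩ ⟨w', hw', a', b', e'⟩
    obtain ⟨v, hv, hvle⟩ := exists_mem hB ((w : Opens X) ⊓ w') x ⟨hw, hw'⟩
    refine ⟨v, hv, (hvle.trans inf_le_left).trans a, (hvle.trans inf_le_right).trans b', ?_⟩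
    rw [← F.res_comp a (hvle.trans inf_le_left), e, F.res_comp, ← F.res_comp b' (hvle.trans inf_le_right), ← e', F.res_comp]
  refine ⟨fun h => ?_, fun h => Quot.sound h⟩
  exact heq.eqvGen_iff.1 (Quot.eqvGen_exact h)

theorem germ_res {U V : B} (h : (V : Opens X) ≤ U) (x : X) (hx : x ∈ (V : Opens X)) (s : F.obj U) :
    ShB.germ F x hx (F.res h s) = ShB.germ F x (h hx) s :=
  Quot.sound ⟨V, hx, le_rfl, h, F.res_id _ _⟩

variable (hF : ShB.IsSheaf F)

include hB hF in
theorem ext_germ (U : B) (s t : F.obj U)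
    (h : ∀ (x : X) (hx : x ∈ (U : Opens X)), ShB.germ F x hx s = ShB.germ F x hx t) : s = t := by
  let ι := {w : B // ∃ a : (w : Opens X) ≤ U, F.res a s = F.res a t}
  let c : ShB.Cover B :=
    { U := U, ι := ι, V := fun w => w.1, V_le := fun w => w.2.1
      V_cover := fun x hx => by
        obtain ⟨w, hw, a, b, e⟩ := (germ_eq_iff hB F (U := U) (V := U) x hx hx s t).1 (h x hx)
        exact Opens.mem_iSup.2 ⟨⟨w, a, e⟩, hw⟩
      κ := fun i j => {v : B // (v : Opens X) ≤ i.1 ∧ (v : Opens X) ≤ j.1}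
      W := fun i j v => v.1
      W_le_left := fun i j v => v.2.1
      W_le_right := fun i j v => v.2.2
      W_cover := fun i j x hx => by
        obtain ⟨v, hv, hle⟩ := exists_mem hB _ x hx
        exact Opens.mem_iSup.2 ⟨⟨v, hle.trans inf_le_left, hle.trans inf_le_right⟩, hv⟩ }
  obtain ⟨r, -, hr⟩ := hF c (fun i => F.res i.2.1 s) fun i j k => by rw [F.res_comp, F.res_comp]
  exact (hr s fun i => rfl).trans (hr t fun i => i.2.2.symm).symm

/-- Locally given by sections. -/
def LocF {O : Opens X} (f : ∀ x : O, ShB.Stalk F x.1) : Prop :=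
  ∀ x : O, ∃ (V : B) (_ : x.1 ∈ (V : Opens X)) (hVU : (V : Opens X) ≤ O) (σ : F.obj V),
    ∀ (y : X) (hy : y ∈ (V : Opens X)), ShB.germ F y hy σ = f ⟨y, hVU hy⟩

include hB hF in
theorem exists_section (U : B) (f : ∀ x : (U : Opens X), ShB.Stalk F x.1) :
    (∃ s : F.obj U, ∀ x, ShB.germ F x.1 x.2 s = f x) ↔ LocF F f := by
  refine ⟨fun ⟨s, hs⟩ x => ⟨U, x.2, le_rfl, s, fun y hy => hs ⟨y, hy⟩⟩, fun h => ?_⟩
  choose V hxV hVU σ hσ using h
  let c : ShB.Cover B :=
    { U := U, ι := (U : Opens X), V := V, V_le := hVU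
      V_cover := fun x hx => Opens.mem_iSup.2 ⟨⟨x, hx⟩, hxV ⟨x, hx⟩⟩
      κ := fun i j => {v : B // ∃ (a : (v : Opens X) ≤ V i) (b : (v : Opens X) ≤ V j), F.res a (σ i) = F.res b (σ j)}
      W := fun i j v => v.1
      W_le_left := fun i j v => v.2.1
      W_le_right := fun i j v => v.2.2.1
      W_cover := fun i j x hx => by
        obtain ⟨w, hw, a, b, e⟩ := (germ_eq_iff hB F x hx.1 hx.2 (σ i) (σ j)).1 ((hσ i x hx.1).trans (hσ j x hx.2).symm)
        exact Opens.mem_iSup.2 ⟨⟨w, a, b, e⟩, hw⟩ }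
  obtain ⟨t, ht, -⟩ := hF c σ fun i j k => k.2.2.2
  refine ⟨t, fun x => ?_⟩
  rw [← germ_res F (hVU x) x.1 (hxV x) t, ht x]
  exact hσ x x.1 (hxV x)

/-- The prelocal predicate of being locally given by sections. -/
noncomputable def pred : TopCat.LocalPredicate (X := TopCat.of X) fun x => ShB.Stalk F x where
  pred {O} f := ∀ x : O, ∀ P : Opens X, x.1 ∈ P → ∃ (V : B) (_ : x.1 ∈ (V : Opens X)) (hVP : (V : Opens X) ≤ P)
    (hVU : (V : Opens X) ≤ O) (σ : F.obj V), ∀ (y : X) (hy : y ∈ (V : Opens X)), ShB.germ F y hy σ = f ⟨y, hVU hy⟩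
  res {O O'} i f hf x P hP := by
    obtain ⟨V, hx, h1, h2, σ, hσ⟩ := hf ⟨x.1, i.le x.2⟩ (P ⊓ O) ⟨hP, x.2⟩
    exact ⟨V, hx, h1.trans inf_le_left, h1.trans inf_le_right, σ, hσ⟩
  locality {O} f hf x P hP := by
    obtain ⟨O', hxO', i, hi⟩ := hf x
    obtain ⟨V, hx, h1, h2, σ, hσ⟩ := hi ⟨x.1, hxO'⟩ P hP
    exact ⟨V, hx, h1, h2.trans i.le, σ, hσ⟩

include hB in
theorem pred_iff {O : Opens X} (f : ∀ x : O, ShB.Stalk F x.1) : (pred F).pred (U := O) f ↔ LocF F f := by
  refine ⟨fun h x => ?_, fun h x P hP => ?_⟩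
  · obtain ⟨V, hx, -, h2, σ, hσ⟩ := h x O x.2
    exact ⟨V, hx, h2, σ, hσ⟩
  · obtain ⟨V, hx, h2, σ, hσ⟩ := h x
    obtain ⟨w, hw, hle⟩ := exists_mem hB ((V : Opens X) ⊓ P) x.1 ⟨hx, hP⟩
    refine ⟨w, hw, hle.trans inf_le_right, (hle.trans inf_le_left).trans h2, F.res (hle.trans inf_le_left) σ, fun y hy => ?_⟩
    rw [germ_res]
    exact hσ y _

include hB hF in
theorem exists_extension : ∃ G : TopCat.Sheaf (Type u) (TopCat.of X), Nonempty (ShB.Iso (ShB.restrict B G.presheaf) F) := by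
  refine ⟨TopCat.subsheafToTypes (pred F), ⟨?_⟩⟩
  let toF : ∀ U : B, {f : ∀ x : (U : Opens X), ShB.Stalk F x.1 // (pred F).pred (U := (U : Opens X)) f} → F.obj U :=
    fun U f => ((exists_section hB F hF U f.1).2 ((pred_iff hB F f.1).1 f.2)).choose
  have htoF : ∀ (U : B) (f : {f : ∀ x : (U : Opens X), ShB.Stalk F x.1 // (pred F).pred (U := (U : Opens X)) f}) (x : (U : Opens X)),
      ShB.germ F x.1 x.2 (toF U f) = f.1 x := fun U f =>
    ((exists_section hB F hF U f.1).2 ((pred_iff hB F f.1).1 f.2)).choose_spec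
  let ofF : ∀ U : B, F.obj U → {f : ∀ x : (U : Opens X), ShB.Stalk F x.1 // (pred F).pred (U := (U : Opens X)) f} :=
    fun U s => ⟨fun x => ShB.germ F x.1 x.2 s, (pred_iff hB F _).2 ((exists_section hB F hF U _).1 ⟨s, fun x => rfl⟩)⟩
  exact
    { hom :=
        { app := fun U f => toF U f
          natural := fun {U V} h f => ext_germ hB F hF V _ _ fun x hx => by
            rw [germ_res]
            refine (htoF U f ⟨x, h hx⟩).trans (Eq.trans ?_ (htoF V ((ShB.restrict B (TopCat.subsheafToTypes (pred F)).presheaf).res h f) ⟨x, hx⟩).symm)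
            rfl }
      inv :=
        { app := fun U s => ofF U s
          natural := fun {U V} h s => Subtype.ext (funext fun x => (germ_res F h x.1 x.2 s).symm) }
      hom_inv := fun U f => Subtype.ext (funext fun x => htoF U f x)
      inv_hom := fun U s => ext_germ hB F hF U _ _ fun x hx => htoF U (ofF U s) ⟨x, hx⟩ }

include hB in
theorem existsUnique_comparison (G G' : TopCat.Sheaf (Type u) (TopCat.of X)) (e : ShB.Iso (ShB.restrict B G.presheaf) F)
    (e' : ShB.Iso (ShB.restrict B G'.presheaf) F) :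
    ∃! φ : G ⟶ G', IsIso φ ∧ ∀ (U : B) (s : G.presheaf.obj (op (U : Opens X))),
      e'.hom.app U (φ.1.app (op (U : Opens X)) s) = e.hom.app U s := by
  let b : B → Opens (TopCat.of X) := Subtype.val
  have hb : Opens.IsBasis (Set.range b) := by
    rw [show Set.range b = B from Subtype.range_coe]; exact hB
  let α : (inducedFunctor b).op ⋙ G.presheaf ⟶ (inducedFunctor b).op ⋙ G'.presheaf :=
    { app := fun U => TypeCat.ofHom fun s => e'.inv.app U.unop (e.hom.app U.unop s)
      naturality := fun U V g => by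
        ext s
        have h1 := e.hom.natural (U := U.unop) (V := V.unop) g.unop.hom.le s
        have h2 := e'.inv.natural (U := U.unop) (V := V.unop) g.unop.hom.le (e.hom.app U.unop s)
        show e'.inv.app V.unop (e.hom.app V.unop _) = _
        rw [h1] at h2
        exact h2.symm }
  let φ : G ⟶ G' := ⟨TopCat.Sheaf.restrictHomEquivHom G.presheaf G' hb α⟩
  have hφ : ∀ (U : B) (s : G.presheaf.obj (op (U : Opens X))),
      φ.1.app (op (U : Opens X)) s = e'.inv.app U (e.hom.app U s) := fun U s => by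
    show (TopCat.Sheaf.restrictHomEquivHom G.presheaf G' hb α).app (op (b U)) s = _
    rw [TopCat.Sheaf.extend_hom_app]
    rfl
  refine ⟨φ, ⟨?_, fun U s => (congrArg (e'.hom.app U) (hφ U s)).trans (e'.inv_hom U _)⟩, fun ψ ⟨_, hψ⟩ => ?_⟩
  · refine TopCat.Sheaf.isIso_iff_isIso_basis hb fun U => ?_
    rw [isIso_iff_bijective]
    refine ⟨fun s t h => ?_, fun t => ⟨e.inv.app U (e'.hom.app U t), ?_⟩⟩
    · have := congrArg (e'.hom.app U) ((hφ U s).symm.trans (h.trans (hφ U t)))
      rw [e'.inv_hom, e'.inv_hom] at this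
      exact (e.hom_inv U s).symm.trans ((congrArg (e.inv.app U) this).trans (e.hom_inv U t))
    · exact (hφ U _).trans ((congrArg (e'.inv.app U) (e.inv_hom U _)).trans (e'.hom_inv U t))
  · apply ObjectProperty.hom_ext
    refine TopCat.Sheaf.hom_ext G.presheaf G' hb fun U => ?_
    ext s
    refine ((e'.hom_inv U _).symm.trans ?_).trans (hφ U s).symm
    exact congrArg (e'.inv.app U) (hψ U s)

end Groth.Agent.H9ShBExtend
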