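import Mathlib

/-! Pushforward of sheaves along inducing maps. -/

set_option autoImplicit false
set_option linter.all false
set_option synthInstance.maxHeartbeats 40000
set_option maxHeartbeats 400000
set_option backward.isDefEq.respectTransparency.types false
set_option backward.isDefEq.respectTransparency false

universe u v

open TopologicalSpace Opposite CategoryTheory CategoryTheory.Limits TopCat

namespace Groth.Agent.H9ShPush

variable {Z X : TopCat.{u}} (i : Z ⟶ X) (hi : Topology.IsInducing i)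

/-- The largest open with given preimage. -/
def ext (W : Opens Z) : Opens X := sSup {V | (Opens.map i).obj V ≤ W}

theorem ext_mono {W W' : Opens Z} (h : W ≤ W') : ext i W ≤ ext i W' :=
  sSup_le_sSup fun V hV => le_trans hV h

theorem le_ext (V : Opens X) : V ≤ ext i ((Opens.map i).obj V) := le_sSup (show (Opens.map i).obj V ≤ (Opens.map i).obj V from le_rfl)

include hi in
theorem map_ext (W : Opens Z) : (Opens.map i).obj (ext i W) = W := by
  refine le_antisymm (fun z hz => ?_) fun z hz => ?_
  · obtain ⟨V, hV, hzV⟩ := Opens.mem_sSup.1 (show i z ∈ ext i W from hz)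
    exact hV hzV
  · obtain ⟨t, ht, hW⟩ := hi.isOpen_iff.1 W.isOpen
    refine (Opens.mem_sSup.2 ⟨⟨t, ht⟩, fun y hy => (show y ∈ (W : Set Z) from hW ▸ hy), ?_⟩ : i z ∈ ext i W)
    exact (show z ∈ i ⁻¹' t from hW.symm ▸ hz)

include hi in
theorem full : (TopCat.Sheaf.pushforward (Type u) i).Full := by
  refine ⟨fun {F G} α => ?_⟩
  let a : ∀ V : Opens X, F.presheaf.obj (op ((Opens.map i).obj V)) ⟶ G.presheaf.obj (op ((Opens.map i).obj V)) :=
    fun V => α.hom.app (op V)
  have key : ∀ {V V' : Opens X} (k : V' ≤ V) {W W' : (Opens Z)ᵒᵖ} (p : W ⟶ op ((Opens.map i).obj V))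
      (p' : W ⟶ op ((Opens.map i).obj V')) (q : op ((Opens.map i).obj V') ⟶ W') (q' : op ((Opens.map i).obj V) ⟶ W'),
      F.presheaf.map p' ≫ a V' ≫ G.presheaf.map q = F.presheaf.map p ≫ a V ≫ G.presheaf.map q' := by
    intro V V' k W W' p p' q q'
    have hn : F.presheaf.map ((Opens.map i).map (homOfLE k)).op ≫ a V' = a V ≫ G.presheaf.map ((Opens.map i).map (homOfLE k)).op :=
      α.hom.naturality (homOfLE k).op
    rw [Subsingleton.elim p' (p ≫ ((Opens.map i).map (homOfLE k)).op),
      Subsingleton.elim q' (((Opens.map i).map (homOfLE k)).op ≫ q), F.presheaf.map_comp, G.presheaf.map_comp,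
      Category.assoc, reassoc_of% hn]
  let e : ∀ W : Opens Z, W = (Opens.map i).obj (ext i W) := fun W => (map_ext i hi W).symm
  let β : F.presheaf ⟶ G.presheaf :=
    { app := fun W => F.presheaf.map (eqToHom (e W.unop).symm).op ≫ a (ext i W.unop) ≫ G.presheaf.map (eqToHom (e W.unop)).op
      naturality := fun W W' g => by
        simp only [← Category.assoc]
        rw [← F.presheaf.map_comp]
        simp only [Category.assoc]
        rw [← G.presheaf.map_comp]
        exact key (ext_mono i g.unop.le) _ _ _ _ }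
  refine ⟨⟨β⟩, ?_⟩
  apply ObjectProperty.hom_ext
  ext V : 2
  show F.presheaf.map _ ≫ a _ ≫ G.presheaf.map _ = a V.unop
  refine (key (le_ext i V.unop) _ (𝟙 _) (𝟙 _) _).symm.trans ?_
  rw [F.presheaf.map_id, G.presheaf.map_id, Category.id_comp, Category.comp_id]

include hi in
theorem faithful : (TopCat.Sheaf.pushforward (Type u) i).Faithful := by
  refine ⟨fun {F G} α β h => ?_⟩
  apply ObjectProperty.hom_ext
  ext W : 2
  obtain ⟨V, rfl⟩ : ∃ V, W = op ((Opens.map i).obj V) := ⟨ext i W.unop, by rw [map_ext i hi]⟩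
  exact congrArg (fun γ => γ.hom.app (op V)) h

include hi in
theorem isIso_counit (F : Z.Sheaf (Type u)) :
    IsIso ((TopCat.Sheaf.pullbackPushforwardAdjunction (Type u) i).counit.app F) := by
  haveI := full i hi
  haveI := faithful i hi
  infer_instance

theorem unique_stalk (hcl : IsClosed (Set.range i)) (F : Z.Sheaf (Type u)) (x : X) (hx : x ∉ Set.range i) :
    Nonempty (Unique (((TopCat.Sheaf.pushforward (Type u) i).obj F).presheaf.stalk x)) := by
  let P := ((TopCat.Sheaf.pushforward (Type u) i).obj F).presheaf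
  let V₀ : Opens X := ⟨(Set.range i)ᶜ, hcl.isOpen_compl⟩
  have hsub : ∀ V : Opens X, V ≤ V₀ → Subsingleton (P.obj (op V)) ∧ Nonempty (P.obj (op V)) := fun V hV => by
    have e : (Opens.map i).obj V = ⊥ := le_bot_iff.1 fun z hz => (hV hz ⟨z, rfl⟩).elim
    show Subsingleton (F.presheaf.obj (op ((Opens.map i).obj V))) ∧ Nonempty (F.presheaf.obj (op ((Opens.map i).obj V)))
    rw [e]
    have t := (TopCat.Sheaf.isTerminalOfEqEmpty F (U := (⊥ : Opens Z)) rfl)
    have := Types.isTerminalEquivUnique _ t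
    exact ⟨@Unique.instSubsingleton _ this, ⟨this.default⟩⟩
  obtain ⟨-, ⟨s₀⟩⟩ := hsub V₀ le_rfl
  refine ⟨⟨⟨P.germ V₀ x hx s₀⟩, fun t => ?_⟩⟩
  obtain ⟨V, hxV, s, rfl⟩ := TopCat.Presheaf.germ_exist P t
  obtain ⟨hss, -⟩ := hsub (V ⊓ V₀) inf_le_right
  exact P.germ_ext (V ⊓ V₀) ⟨hxV, hx⟩ (homOfLE inf_le_left) (homOfLE inf_le_right) (hss.elim _ _)

include hi in
theorem essImage_iff (hcl : IsClosed (Set.range i)) (G : X.Sheaf (Type u)) :
    (TopCat.Sheaf.pushforward (Type u) i).essImage G ↔ ∀ x : X, x ∉ Set.range i → Nonempty (Unique (G.presheaf.stalk x)) := by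
  refine ⟨?_, fun h => ?_⟩
  · rintro ⟨F, ⟨e⟩⟩ x hx
    obtain ⟨u⟩ := unique_stalk i hcl F x hx
    let e' := ((TopCat.Presheaf.stalkFunctor (Type u) x).mapIso ((TopCat.Sheaf.forget (Type u) X).mapIso e)).toEquiv
    exact ⟨@Equiv.unique _ _ u e'.symm⟩
  · let adj := TopCat.Sheaf.pullbackPushforwardAdjunction (Type u) i
    haveI := full i hi
    haveI := faithful i hi
    refine ⟨(TopCat.Sheaf.pullback (Type u) i).obj G, ⟨?_⟩⟩
    suffices IsIso (adj.unit.app G) from (asIso (adj.unit.app G)).symm
    let η : G ⟶ (TopCat.Sheaf.pushforward (Type u) i).obj ((TopCat.Sheaf.pullback (Type u) i).obj G) := adj.unit.app G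
    show IsIso η
    haveI : ∀ x : X, IsIso ((TopCat.Presheaf.stalkFunctor (Type u) x).map η.hom) := fun x => by
      by_cases hx : x ∈ Set.range i
      · obtain ⟨z, rfl⟩ := hx
        classical
        let A := stalkSkyscraperSheafAdjunction (C := Type u) (i z)
        apply isIso_of_coyoneda_map_bijective
        intro T
        have hb : Function.Bijective (fun φ : (TopCat.Sheaf.pushforward (Type u) i).obj ((TopCat.Sheaf.pullback (Type u) i).obj G) ⟶
            (TopCat.Sheaf.pushforward (Type u) i).obj (skyscraperSheaf z T) => η ≫ φ) := by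
          refine ⟨fun φ ψ h => ?_, fun φ => ⟨(TopCat.Sheaf.pushforward (Type u) i).map ((adj.homEquiv _ _).symm φ), ?_⟩⟩
          · obtain ⟨φ', rfl⟩ := (TopCat.Sheaf.pushforward (Type u) i).map_surjective φ
            obtain ⟨ψ', rfl⟩ := (TopCat.Sheaf.pushforward (Type u) i).map_surjective ψ
            exact congrArg _ ((adj.homEquiv _ _).injective ((adj.homEquiv_unit _ _ _).trans (h.trans (adj.homEquiv_unit _ _ _).symm)))
          · exact (adj.homEquiv_unit _ _ _).symm.trans ((adj.homEquiv _ _).apply_symm_apply φ)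
        refine ⟨fun φ ψ h => (A.homEquiv _ _).injective (hb.1 ?_), fun φ => ?_⟩
        · exact (A.homEquiv_naturality_left η φ).symm.trans ((congrArg (A.homEquiv _ _) h).trans (A.homEquiv_naturality_left η ψ))
        · obtain ⟨ψ, hψ⟩ := hb.2 (A.homEquiv _ _ φ)
          refine ⟨(A.homEquiv _ _).symm ψ, (A.homEquiv _ _).injective ?_⟩
          exact (A.homEquiv_naturality_left η _).trans ((congrArg (η ≫ ·) ((A.homEquiv _ _).apply_symm_apply ψ)).trans hψ)
      · obtain ⟨a⟩ := h x hx
        obtain ⟨b⟩ := unique_stalk i hcl ((TopCat.Sheaf.pullback (Type u) i).obj G) x hx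
        rw [isIso_iff_bijective]
        exact ⟨fun p q _ => (a.uniq p).trans (a.uniq q).symm, fun q => ⟨a.default, (b.uniq _).trans (b.uniq q).symm⟩⟩
    exact TopCat.Presheaf.isIso_of_stalkFunctor_map_iso η

theorem exists_factor {C : Type (u + 1)} [LargeCategory C] [HasLimits C] (F : C ⥤ Type u) [F.ReflectsIsomorphisms]
    [PreservesLimits F] {A B C' : C} (f : A ⟶ B) (g : C' ⟶ B) (hg : Function.Injective (F.map g))
    (hfg : Set.range (F.map f) ⊆ Set.range (F.map g)) : ∃ t : A ⟶ C', t ≫ g = f := by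
  have sq := (IsPullback.of_hasPullback f g).map F
  have hiso : IsIso (F.map (pullback.fst f g)) := by
    rw [isIso_iff_bijective]
    refine ⟨fun p q h => ?_, fun a => ?_⟩
    · refine Types.ext_of_isPullback sq h (hg ?_)
      have h1 := ConcreteCategory.congr_hom sq.w p
      have h2 := ConcreteCategory.congr_hom sq.w q
      simp only [ConcreteCategory.comp_apply] at h1 h2
      rw [← h1, ← h2, h]
    · obtain ⟨c, hc⟩ := hfg ⟨a, rfl⟩
      obtain ⟨p, hp, -⟩ := Types.exists_of_isPullback sq a c hc.symm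
      exact ⟨p, hp⟩
  haveI := isIso_of_reflects_iso (pullback.fst f g) F
  exact ⟨inv (pullback.fst f g) ≫ pullback.snd f g, by rw [Category.assoc, ← pullback.condition, IsIso.inv_hom_id_assoc]⟩

end Groth.Agent.H9ShPush
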