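import Mathlib

/-! Locally surjective maps and epimorphisms of sheaves are stable under base change. -/

set_option autoImplicit false
set_option linter.all false
set_option synthInstance.maxHeartbeats 40000
set_option maxHeartbeats 400000
set_option backward.isDefEq.respectTransparency.types false
set_option backward.isDefEq.respectTransparency false

universe w v u

open CategoryTheory CategoryTheory.Limits Opposite

namespace Groth.Agent.H9ShfEpi

variable {C : Type u} [Category.{v} C] (J : GrothendieckTopology C)

theorem isLocallySurjective_of_isPullback {P F G H : Sheaf J (Type w)} (fst : P ⟶ F) (snd : P ⟶ H) (f : F ⟶ G) (g : H ⟶ G)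
    (sq : IsPullback fst snd f g) [Sheaf.IsLocallySurjective f] : Sheaf.IsLocallySurjective snd := by
  refine ⟨fun {U} y => J.superset_covering ?_ (Presheaf.imageSieve_mem J f.hom (g.hom.app (op U) y))⟩
  rintro V i ⟨t, ht⟩
  have sq' := (sq.map (sheafToPresheaf J (Type w))).map ((CategoryTheory.evaluation Cᵒᵖ (Type w)).obj (op V))
  have e : f.hom.app (op V) t = g.hom.app (op V) (H.obj.map i.op y) :=
    ht.trans (NatTrans.naturality_apply g.hom i.op y).symm
  obtain ⟨p, -, hp⟩ := Types.exists_of_isPullback sq' t (H.obj.map i.op y) e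
  exact ⟨p, hp⟩

theorem effectiveEpi_universally [HasSheafify J (Type w)] {X Y : Sheaf J (Type w)} (f : X ⟶ Y) [Epi f] :
    (MorphismProperty.universally (fun (A B : Sheaf J (Type w)) (p : A ⟶ B) => EffectiveEpi p)) f := by
  intro X' Y' i₁ i₂ f' h
  haveI : Sheaf.IsLocallySurjective f := (Sheaf.isLocallySurjective_iff_epi f).2 ‹_›
  haveI := isLocallySurjective_of_isPullback J i₁ f' f i₂ h.flip
  haveI : Epi f' := (Sheaf.isLocallySurjective_iff_epi f').1 ‹_›
  haveI := IsRegularEpiCategory.regularEpiOfEpi f'
  exact (isRegularEpi_iff_effectiveEpi f').1 this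

end Groth.Agent.H9ShfEpi
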