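import Groth.Agent.Lib.H9StAxes
/-! Abelian automorphism sheaves read on presheaves of isomorphism classes. -/

set_option autoImplicit false
set_option linter.style.haveILetI false
set_option linter.unusedVariables false
set_option linter.unusedSectionVars false
set_option backward.isDefEq.respectTransparency.types false

universe u

open CategoryTheory CategoryTheory.Limits AlgebraicGeometry Opposite
open Polynomial (C X evalRingHom)

noncomputable section

namespace Groth.Agent.H9St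

open H9Axes

variable {S : Scheme.{u}} {Xc : AlgSt.Cat S} [hX : FibCat.IsFibGrpd Xc.p] {T : Over S}

section Ext

variable (hs : Stk.IsStack (QuotSh.J Scheme.fppfPrecoverage S) Xc) (M : FibCat.overCat T ⥤ᵇ Xc)

include hs in
/-- Vertical endomorphisms agreeing on an open cover agree. -/
theorem vaut_ext_cover {a : Over T} {ι : Type u} {V : ι → Over T} (c : ∀ i, V i ⟶ a)
    (hc : ∀ i, IsOpenImmersion (c i).left.left) (hcov : ∀ z : ↥a.left.left, ∃ i, z ∈ Set.range (c i).left.left)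
    {s t : VAut M a} (h : ∀ i, res M (c i) s = res M (c i) t) : s = t := by
  let R : Sieve a.left := Sieve.generate (Presieve.ofArrows (fun i => (V i).left) (fun i => (c i).left))
  have hR : R ∈ QuotSh.J Scheme.fppfPrecoverage S a.left :=
    ASp.mem_of_openCover (fun i => (c i).left) hc hcov (fun i => ⟨_, 𝟙 _, (c i).left, ⟨i⟩, Category.id_comp _⟩)
  let ψ : up a.hom (𝟙 a.left) ≅ a := Over.isoMk (Iso.refl _) rfl
  obtain ⟨_, _, hu⟩ := existsUnique_glue M a.hom (isPrestackFor hs hR)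
    (fun f _ => res M (upMap a.hom f (𝟙 _) f (Category.comp_id f)) (res M ψ.hom s))
    (fun f g _ _ k hk => by
      rw [← res_comp]; congr 1
      refine Over.OverMorphism.ext ?_
      show k ≫ g = f
      exact hk)
  refine (res_bijective M ψ).1 ((hu (res M ψ.hom s) (fun f _ => rfl)).trans (hu (res M ψ.hom t) ?_).symm)
  rintro W f ⟨_, m, _, ⟨i⟩, rfl⟩
  have hw : m ≫ (V i).hom = (m ≫ (c i).left) ≫ a.hom := by rw [Category.assoc, Over.w (c i)]
  have e : upMap a.hom (m ≫ (c i).left) (𝟙 _) (m ≫ (c i).left) (Category.comp_id _) ≫ ψ.hom =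
      (Over.homMk m hw : up a.hom (m ≫ (c i).left) ⟶ V i) ≫ c i := by
    refine Over.OverMorphism.ext ?_
    exact Category.comp_id _
  rw [← res_comp, ← res_comp, e, res_comp, res_comp, h i]

include hs in
theorem vaut_ext_affine {a : Over T} {s t : VAut M a}
    (h : ∀ (R : Type u) [CommRing R] (f : sBase R ⟶ T.left) (k : ob f ⟶ a), IsOpenImmersion k.left.left →
      res M k s = res M k t) : s = t := by
  let 𝒰 := a.left.left.affineCover
  let g : ∀ i, sBase Γ(𝒰.X i, ⊤) ⟶ a.left.left := fun i => (𝒰.X i).isoSpec.inv ≫ 𝒰.f i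
  have hg : ∀ i, (g i ≫ a.hom.left) ≫ T.hom = g i ≫ a.hom.left ≫ T.hom := fun i => Category.assoc _ _ _
  have hg : ∀ i, g i ≫ a.left.hom = (g i ≫ a.hom.left) ≫ T.hom := fun i =>
    (congrArg (fun z => g i ≫ z) (Over.w a.hom).symm).trans (hg i).symm
  let k : ∀ i, ob (T := T) (g i ≫ a.hom.left) ⟶ a := fun i =>
    Over.homMk (Over.homMk (g i) (hg i)) (Over.OverMorphism.ext rfl)
  have hk : ∀ i, IsOpenImmersion (k i).left.left := fun i => by
    show IsOpenImmersion ((𝒰.X i).isoSpec.inv ≫ 𝒰.f i)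
    infer_instance
  refine vaut_ext_cover hs M (ι := 𝒰.I₀) k hk (fun z => ?_) (fun i => h Γ(𝒰.X i, ⊤) _ (k i) (hk i))
  obtain ⟨p, hp⟩ := 𝒰.covers z
  refine ⟨𝒰.idx z, (𝒰.X (𝒰.idx z)).isoSpec.hom p, ?_⟩
  show ((𝒰.X _).isoSpec.inv ≫ 𝒰.f _) _ = z
  rw [← Scheme.Hom.comp_apply, Iso.hom_inv_id_assoc]
  exact hp

end Ext

/-! ### Changing the axes -/

section Maps

variable {R R' : Type u} [CommRing R] [CommRing R'] {ι κ : Type} [Fintype ι] [DecidableEq ι] [Fintype κ] [DecidableEq κ]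

theorem inl_dblMap {P P' : OPair T} (kC : P'.C ⟶ P.C) (kW : P'.W ⟶ P.W) (hk : P'.j ≫ kC = kW ≫ P.j) :
    P'.inl ≫ dblMap kC kW hk = kC ≫ P.inl := OPair.inl_desc _ _ _ _

theorem inr_dblMap {P P' : OPair T} (kC : P'.C ⟶ P.C) (kW : P'.W ⟶ P.W) (hk : P'.j ≫ kC = kW ≫ P.j) :
    P'.inr ≫ dblMap kC kW hk = kC ≫ P.inr := OPair.inr_desc _ _ _ _

/-- A change of base ring and of axes. -/
structure AxMap (R R' : Type u) [CommRing R] [CommRing R'] (ι κ : Type) [Fintype ι] [DecidableEq ι] [Fintype κ]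
    [DecidableEq κ] where
  g : R →+* R'
  f : κ → ι
  φ : axes R ι →+* axes R' κ
  el' : φ (el R ι) = el R' κ
  const' : φ.comp (const R ι) = (const R' κ).comp g
  proj' : ∀ k, (proj R' κ k).comp φ = (Polynomial.mapRingHom g).comp (proj R ι (f k))

def AxMap.ofFun (R : Type u) [CommRing R] (f : κ → ι) : AxMap R R ι κ where
  g := RingHom.id R
  f := f
  φ := reindex R ι f
  el' := reindex_el R ι f
  const' := by rw [reindex_const, RingHom.comp_id]
  proj' k := by rw [proj_reindex, Polynomial.mapRingHom_id, RingHom.id_comp]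

def AxMap.ofRing (g : R →+* R') (ι : Type) [Fintype ι] [DecidableEq ι] : AxMap R R' ι ι where
  g := g
  f := id
  φ := ((RingHom.pi fun i => (Polynomial.mapRingHom g).comp (Pi.evalRingHom (fun _ : ι => Polynomial R) i)).comp
      (axes R ι).subtype).codRestrict (axes R' ι) fun p i k => by
    show ((p.1 i).map g).eval 0 = ((p.1 k).map g).eval 0
    rw [← Polynomial.coeff_zero_eq_eval_zero, ← Polynomial.coeff_zero_eq_eval_zero, Polynomial.coeff_map,
      Polynomial.coeff_map, Polynomial.coeff_zero_eq_eval_zero, Polynomial.coeff_zero_eq_eval_zero, p.2 i k]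
  el' := Subtype.ext (funext fun i => Polynomial.map_X g)
  const' := RingHom.ext fun r => Subtype.ext (funext fun i => Polynomial.map_C g)
  proj' k := RingHom.ext fun _ => rfl

variable (m : AxMap R R' ι κ) {a : sBase R ⟶ T.left} {a' : sBase R' ⟶ T.left}
  (ha : Spec.map (CommRingCat.ofHom m.g) ≫ a = a')

def AxMap.ψ : punct R ι →+* punct R' κ := (exists_map_punct m.φ m.el').choose

theorem AxMap.ψ_comp : m.ψ.comp (algebraMap _ _) = (algebraMap _ _).comp m.φ :=
  (exists_map_punct m.φ m.el').choose_spec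

/-- The change of Laurent polynomials. -/
def AxMap.lam : Localization.Away (X : Polynomial R) →+* Localization.Away (X : Polynomial R') :=
  IsLocalization.Away.lift (X : Polynomial R)
    (g := (algebraMap (Polynomial R') (Localization.Away (X : Polynomial R'))).comp (Polynomial.mapRingHom m.g))
    (by
      rw [RingHom.comp_apply, Polynomial.coe_mapRingHom, Polynomial.map_X]
      exact IsLocalization.Away.algebraMap_isUnit _)

theorem AxMap.proj_ψ (k : κ) : (punctProj R' κ k).comp m.ψ = m.lam.comp (punctProj R ι (m.f k)) := by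
  refine IsLocalization.ringHom_ext (Submonoid.powers (el R ι)) ?_
  rw [RingHom.comp_assoc, m.ψ_comp, ← RingHom.comp_assoc, punctProj_comp, RingHom.comp_assoc, m.proj',
    RingHom.comp_assoc, punctProj_comp]
  exact (RingHom.comp_assoc _ _ _).symm.trans ((congrArg (fun r => RingHom.comp r (proj R ι (m.f k)))
    (IsLocalization.Away.lift_comp _ _).symm).trans (RingHom.comp_assoc _ _ _))

include ha in
theorem AxMap.base : Spec.map (CommRingCat.ofHom m.φ) ≫ qAxes R ι ≫ a = qAxes R' κ ≫ a' := by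
  rw [← ha]
  simp only [qAxes, ← Spec.map_comp_assoc, ← CommRingCat.ofHom_comp, m.const']

def AxMap.kC : (axPair R' κ a').C ⟶ (axPair R ι a).C :=
  Over.homMk (Spec.map (CommRingCat.ofHom m.φ)) (by
    show Spec.map (CommRingCat.ofHom m.φ) ≫ (qAxes R ι ≫ a) ≫ T.hom = (qAxes R' κ ≫ a') ≫ T.hom
    rw [← m.base ha]; simp only [Category.assoc])

theorem AxMap.j_φ : jPunct R' κ ≫ Spec.map (CommRingCat.ofHom m.φ) =
    Spec.map (CommRingCat.ofHom m.ψ) ≫ jPunct R ι := by
  simp only [jPunct, ← Spec.map_comp, ← CommRingCat.ofHom_comp, m.ψ_comp]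

def AxMap.kW : (axPair R' κ a').W ⟶ (axPair R ι a).W :=
  Over.homMk (Spec.map (CommRingCat.ofHom m.ψ)) (by
    show Spec.map (CommRingCat.ofHom m.ψ) ≫ (jPunct R ι ≫ qAxes R ι ≫ a) ≫ T.hom =
      (jPunct R' κ ≫ qAxes R' κ ≫ a') ≫ T.hom
    rw [← m.base ha]
    simp only [Category.assoc]
    rw [← Category.assoc (Spec.map _), ← m.j_φ, Category.assoc])

theorem AxMap.sq : (axPair R' κ a').j ≫ m.kC ha = m.kW ha ≫ (axPair R ι a).j :=
  Over.OverMorphism.ext m.j_φ

theorem AxMap.kC_pC : m.kC ha ≫ (axPair R ι a).pC = (axPair R' κ a').pC :=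
  Over.OverMorphism.ext (m.base ha)

/-- The map of doubles. -/
def AxMap.kZ : (axPair R' κ a').dbl ⟶ (axPair R ι a).dbl := dblMap (m.kC ha) (m.kW ha) (m.sq ha)

include ha in
theorem AxMap.gm_base : Spec.map (CommRingCat.ofHom m.lam) ≫ jGm R ≫ qLine R ≫ a = jGm R' ≫ qLine R' ≫ a' := by
  rw [← ha]
  simp only [jGm, qLine, ← Spec.map_comp_assoc, ← CommRingCat.ofHom_comp]
  rw [AxMap.lam, ← RingHom.comp_assoc, IsLocalization.Away.lift_comp, RingHom.comp_assoc]
  congr 4
  exact RingHom.ext fun r => Polynomial.map_C m.g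

/-- Restriction of values along a change of axes. -/
def AxMap.resG (M : FibCat.overCat T ⥤ᵇ Xc) (v : ι → VG M a) : κ → VG M a' :=
  fun k => res M (obHom (Spec.map (CommRingCat.ofHom m.lam)) (m.gm_base ha)) (v (m.f k))

theorem AxMap.isVal_rc (hs : Stk.IsStack (QuotSh.J Scheme.fppfPrecoverage S) Xc) (x : Xc.p.Fiber T)
    {d : IsoNat.IsoCl Xc (axPair R ι a).dbl} {v : ι → VG (yFun x) a} (h : IsVal x a d v) :
    IsVal x a' (rc (m.kZ ha) d) (m.resG ha (yFun x) v) := by
  obtain ⟨y, u, rfl, hu, rfl⟩ := h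
  let oW' : (axPair R' κ a').oW ⟶ (axPair R ι a).oW := Over.homMk (m.kW ha) (by
    show m.kW ha ≫ (axPair R ι a).j ≫ (axPair R ι a).pC = (axPair R' κ a').j ≫ (axPair R' κ a').pC
    rw [← Category.assoc, ← m.sq ha, Category.assoc, m.kC_pC ha])
  refine ⟨pb (m.kZ ha) y, res (yFun x) oW' u, rfl,
    isTrans_pullback (yFun x) (m.kC ha) (m.kW ha) (m.sq ha) (m.kC_pC ha) (m.kZ ha) (inl_dblMap _ _ _)
      (inr_dblMap _ _ _) oW' rfl hu _ (pbMap (m.kZ ha) y) inferInstance, funext fun k => ?_⟩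
  simp only [vals, AxMap.resG]
  rw [← res_comp, ← res_comp]
  congr 1
  refine ob_hom_ext ?_
  show linP R' κ k ≫ Spec.map (CommRingCat.ofHom m.ψ) = Spec.map (CommRingCat.ofHom m.lam) ≫ linP R ι (m.f k)
  simp only [linP, ← Spec.map_comp, ← CommRingCat.ofHom_comp, m.proj_ψ]

end Maps

theorem AxMap.ofFun_ha {R : Type u} [CommRing R] {ι κ : Type} [Fintype ι] [DecidableEq ι] [Fintype κ] [DecidableEq κ]
    (f : κ → ι) (a : sBase R ⟶ T.left) :
    Spec.map (CommRingCat.ofHom (AxMap.ofFun R f).g) ≫ a = a :=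
  (congrArg (· ≫ a) (Spec.map_id (CommRingCat.of R))).trans (Category.id_comp a)

theorem AxMap.resG_ofFun {R : Type u} [CommRing R] {ι κ : Type} [Fintype ι] [DecidableEq ι] [Fintype κ] [DecidableEq κ]
    (f : κ → ι) (M : FibCat.overCat T ⥤ᵇ Xc) {a : sBase R ⟶ T.left} (v : ι → VG M a) :
    (AxMap.ofFun R f).resG (AxMap.ofFun_ha f a) M v = fun k => v (f k) := by
  funext k
  refine Eq.trans ?_ (res_id M (v (f k)))
  simp only [AxMap.resG]
  congr 1
  refine ob_hom_ext ?_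
  show Spec.map (CommRingCat.ofHom (AxMap.ofFun R f).lam) = 𝟙 _
  rw [← Spec.map_id]
  congr 2
  refine IsLocalization.ringHom_ext (Submonoid.powers (X : Polynomial R)) ?_
  rw [AxMap.lam, IsLocalization.Away.lift_comp]
  show _ = (RingHom.id _).comp _
  simp [AxMap.ofFun]

/-! ### The criterion for abelian automorphism sheaves -/

section Abelian

/-- Pullback along the pairs of axes `0, 2` and `1, 2`. -/
abbrev k02 (R : Type u) [CommRing R] (a : sBase R ⟶ T.left) : (axPair R (Fin 2) a).dbl ⟶ (axPair R (Fin 3) a).dbl :=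
  (AxMap.ofFun R (![0, 2] : Fin 2 → Fin 3)).kZ (AxMap.ofFun_ha _ a)

abbrev k12 (R : Type u) [CommRing R] (a : sBase R ⟶ T.left) : (axPair R (Fin 2) a).dbl ⟶ (axPair R (Fin 3) a).dbl :=
  (AxMap.ofFun R (![1, 2] : Fin 2 → Fin 3)).kZ (AxMap.ofFun_ha _ a)

abbrev k01 (R : Type u) [CommRing R] (a : sBase R ⟶ T.left) : (axPair R (Fin 2) a).dbl ⟶ (axPair R (Fin 3) a).dbl :=
  (AxMap.ofFun R (![0, 1] : Fin 2 → Fin 3)).kZ (AxMap.ofFun_ha _ a)

/-- Locally trivial classes on three doubled axes are determined by two pairs of axes. -/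
def AbCond (c : IsoNat.IsoCl Xc T) : Prop :=
  ∀ (R : Type u) [CommRing R] (a : sBase R ⟶ T.left) (d d' : IsoNat.IsoCl Xc (axPair R (Fin 3) a).dbl),
    LTriv _ c d → LTriv _ c d' → rc (k02 R a) d = rc (k02 R a) d' → rc (k12 R a) d = rc (k12 R a) d' → d = d'

variable (hs : Stk.IsStack (QuotSh.J Scheme.fppfPrecoverage S) Xc)
  (hd : AlgSt.RepByAlgSpWith (AlgSp.IsSeparatedMor ⊓ AlgSp.IsQuasiCompactMor) (FibCat.diag (FibCat.toSelf Xc)))
  (x : Xc.p.Fiber T)

/-- A constant value on the punctured line. -/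
abbrev cst (M : FibCat.overCat T ⥤ᵇ Xc) {R : Type u} [CommRing R] (a : sBase R ⟶ T.left) (s : VB M a) : VG M a :=
  toGm M a (toLine M a s)

include hd in
theorem eq_of_valRel_cst {R : Type u} [CommRing R] {ι : Type} [Fintype ι] [DecidableEq ι] {a : sBase R ⟶ T.left}
    {s t : ι → VB (yFun x) a} (i₀ : ι) (h : ValRel (yFun x) a (fun i => cst _ a (s i)) (fun i => cst _ a (t i))) :
    ∃ c c' : VB (yFun x) a, ∀ i, c * t i = s i * c' := by
  obtain ⟨f, f', h0, h0', e⟩ := h
  refine ⟨atZero _ a (f i₀), atZero _ a (f' i₀), fun i => ?_⟩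
  have e' : f i * toLine _ a (t i) = toLine _ a (s i) * f' i := toGm_injective (yFun x) a hd (by
    rw [toGm_mul, toGm_mul]; exact e i)
  have e0 := congrArg (atZero (yFun x) a) e'
  rw [atZero_mul, atZero_mul, atZero_toLine, atZero_toLine] at e0
  rw [h0 i₀ i, h0' i₀ i]; exact e0

theorem valRel_cst {R : Type u} [CommRing R] {ι : Type} [Fintype ι] [DecidableEq ι] {a : sBase R ⟶ T.left}
    {s t : ι → VB (yFun x) a} (c c' : VB (yFun x) a) (h : ∀ i, c * t i = s i * c') :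
    ValRel (yFun x) a (fun i => cst _ a (s i)) (fun i => cst _ a (t i)) :=
  ⟨fun _ => toLine _ a c, fun _ => toLine _ a c', fun _ _ => rfl, fun _ _ => rfl, fun i => by
    simp only [cst]; rw [← toGm_mul, ← toGm_mul, ← toLine_mul, ← toLine_mul, h i]⟩

include hs hd in
theorem abCond_of_comm (hab : ∀ (a : Over T) (s t : VAut (yFun x) a), s * t = t * s) :
    AbCond (IsoNat.cls x) := by
  intro R _ a d d' hl hl' e02 e12
  obtain ⟨v, hv⟩ := exists_isVal x a hl
  obtain ⟨v', hv'⟩ := exists_isVal x a hl'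
  refine (isVal_eq_iff hs x a hv hv').2 ?_
  have r02 := (isVal_eq_iff hs x a ((AxMap.ofFun R (![0, 2] : Fin 2 → Fin 3)).isVal_rc (AxMap.ofFun_ha _ a) hs x hv)
    ((AxMap.ofFun R (![0, 2] : Fin 2 → Fin 3)).isVal_rc (AxMap.ofFun_ha _ a) hs x hv')).1 e02
  have r12 := (isVal_eq_iff hs x a ((AxMap.ofFun R (![1, 2] : Fin 2 → Fin 3)).isVal_rc (AxMap.ofFun_ha _ a) hs x hv)
    ((AxMap.ofFun R (![1, 2] : Fin 2 → Fin 3)).isVal_rc (AxMap.ofFun_ha _ a) hs x hv')).1 e12
  rw [AxMap.resG_ofFun, AxMap.resG_ofFun] at r02 r12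
  obtain ⟨f, f', f0, f0', fe⟩ := r02
  obtain ⟨g, g', g0, g0', ge⟩ := r12
  have q : ∀ (h h' : VL (yFun x) a) (w w' : VG (yFun x) a),
      toGm (yFun x) a h * w' = w * toGm (yFun x) a h' → w' = w * toGm (yFun x) a (h' * h⁻¹) := fun h h' w w' e => by
    have e' : toGm (yFun x) a h * w' = toGm (yFun x) a h * (w * toGm (yFun x) a (h' * h⁻¹)) := by
      rw [e, toGm_mul, toGm_inv]
      rw [hab _ (toGm (yFun x) a h') (toGm (yFun x) a h)⁻¹, ← mul_assoc w, hab _ w (toGm (yFun x) a h)⁻¹]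
      simp only [← mul_assoc, mul_inv_cancel, one_mul]
    exact mul_left_cancel e'
  have a0 := q _ _ _ _ (fe 0)
  have a2 := q _ _ _ _ (fe 1)
  have b1 := q _ _ _ _ (ge 0)
  have b2 := q _ _ _ _ (ge 1)
  simp only [Matrix.cons_val_zero, Matrix.cons_val_one, Matrix.cons_val_fin_one] at a0 a2 b1 b2
  have hk : f' 1 * (f 1)⁻¹ = g' 1 * (g 1)⁻¹ :=
    toGm_injective (yFun x) a hd (mul_left_cancel (a2.symm.trans b2))
  let k : Fin 3 → VL (yFun x) a := ![f' 0 * (f 0)⁻¹, g' 0 * (g 0)⁻¹, f' 1 * (f 1)⁻¹]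
  have z : ∀ i, atZero (yFun x) a (k i) = atZero (yFun x) a (k 2) := by
    intro i
    fin_cases i
    · show atZero _ a (f' 0 * (f 0)⁻¹) = atZero _ a (f' 1 * (f 1)⁻¹)
      rw [atZero_mul, atZero_mul, atZero_inv, atZero_inv, f0 0 1, f0' 0 1]
    · show atZero _ a (g' 0 * (g 0)⁻¹) = atZero _ a (f' 1 * (f 1)⁻¹)
      rw [hk, atZero_mul, atZero_mul, atZero_inv, atZero_inv, g0 0 1, g0' 0 1]
    · rfl
  refine ⟨fun _ => 1, k, fun _ _ => rfl, fun i j => (z i).trans (z j).symm, fun i => ?_⟩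
  rw [toGm_one, one_mul]
  fin_cases i
  · exact a0
  · exact b1
  · exact a2

include hs hd in
theorem comm_of_abCond_affine (h : AbCond (IsoNat.cls x)) {R : Type u} [CommRing R] (a : sBase R ⟶ T.left)
    (s t : VB (yFun x) a) : s * t = t * s := by
  let v : Fin 3 → VB (yFun x) a := ![s, s, 1]
  let v' : Fin 3 → VB (yFun x) a := ![s, t * s * t⁻¹, 1]
  obtain ⟨d, hd1⟩ := exists_cls_isVal hs x a (fun i => cst _ a (v i))
  obtain ⟨d', hd2⟩ := exists_cls_isVal hs x a (fun i => cst _ a (v' i))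
  have e02 : rc (k02 R a) d = rc (k02 R a) d' := by
    refine (isVal_eq_iff hs x a ((AxMap.ofFun R (![0, 2] : Fin 2 → Fin 3)).isVal_rc (AxMap.ofFun_ha _ a) hs x hd1)
      ((AxMap.ofFun R (![0, 2] : Fin 2 → Fin 3)).isVal_rc (AxMap.ofFun_ha _ a) hs x hd2)).2 ?_
    rw [AxMap.resG_ofFun, AxMap.resG_ofFun]
    refine valRel_cst x 1 1 fun i => ?_
    fin_cases i <;> simp [v, v']
  have e12 : rc (k12 R a) d = rc (k12 R a) d' := by
    refine (isVal_eq_iff hs x a ((AxMap.ofFun R (![1, 2] : Fin 2 → Fin 3)).isVal_rc (AxMap.ofFun_ha _ a) hs x hd1)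
      ((AxMap.ofFun R (![1, 2] : Fin 2 → Fin 3)).isVal_rc (AxMap.ofFun_ha _ a) hs x hd2)).2 ?_
    rw [AxMap.resG_ofFun, AxMap.resG_ofFun]
    refine valRel_cst x t⁻¹ t⁻¹ fun i => ?_
    fin_cases i
    · simp [v, v', mul_assoc]
    · simp [v, v']
  have hdd := h R a d d' (lTriv_of_isVal x a hd1) (lTriv_of_isVal x a hd2) e02 e12
  obtain ⟨c, c', hc⟩ := eq_of_valRel_cst hd x 0 ((isVal_eq_iff hs x a hd1 hd2).1 hdd)
  have h0 := hc 0
  have h1 := hc 1
  simp [v, v'] at h0 h1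
  have key : s = t * s * t⁻¹ := mul_left_cancel (h0.trans h1.symm)
  calc s * t = t * s * t⁻¹ * t := by rw [← key]
    _ = t * s := inv_mul_cancel_right _ _

include hs hd in
theorem comm_of_abCond (h : AbCond (IsoNat.cls x)) (b : Over T) (s t : VAut (yFun x) b) : s * t = t * s :=
  vaut_ext_affine hs (yFun x) fun R _ f k _ => by
    rw [res_mul, res_mul]; exact comm_of_abCond_affine hs hd x h f _ _

end Abelian

theorem abCond_map {Yc : AlgSt.Cat S} [FibCat.IsFibGrpd Yc.p] (φ : IsoNat.FIso Xc Yc) {c : IsoNat.IsoCl Xc T}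
    (h : AbCond c) : AbCond (φ.toEquiv T c) := by
  intro R _ a d d' hl hl' e02 e12
  obtain ⟨d, rfl⟩ := (φ.toEquiv _).surjective d
  obtain ⟨d', rfl⟩ := (φ.toEquiv _).surjective d'
  have lt : ∀ {e : IsoNat.IsoCl Xc (axPair R (Fin 3) a).dbl},
      LTriv _ (φ.toEquiv T c) (φ.toEquiv _ e) → LTriv _ c e := fun {e} he =>
    ⟨(φ.toEquiv _).injective (by rw [fIso_rc, fIso_rc, fIso_rc]; exact he.1),
      (φ.toEquiv _).injective (by rw [fIso_rc, fIso_rc, fIso_rc]; exact he.2)⟩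
  exact congrArg _ (h R a d d' (lt hl) (lt hl') ((φ.toEquiv _).injective (by rw [fIso_rc, fIso_rc]; exact e02))
    ((φ.toEquiv _).injective (by rw [fIso_rc, fIso_rc]; exact e12)))

end Groth.Agent.H9St

namespace Groth.Agent.H9St

variable {S : Scheme.{u}} {Xc : AlgSt.Cat S} [hX : FibCat.IsFibGrpd Xc.p] {T : Over S}

/-- An automorphism of a chosen pullback as a vertical endomorphism. -/
def autToV (x : Xc.p.Fiber T) (b : Over T) (s : Aut (pb b.hom x)) : VAut (yFun x) b :=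
  ⟨s.hom.1, s.hom.2⟩

theorem autToV_mul (x : Xc.p.Fiber T) (b : Over T) (s t : Aut (pb b.hom x)) :
    autToV x b (s * t) = autToV x b t * autToV x b s := Subtype.ext rfl

theorem autToV_bijective (x : Xc.p.Fiber T) (b : Over T) : Function.Bijective (autToV x b) :=
  ⟨fun s t h => Iso.ext (Subtype.ext (congrArg Subtype.val h)),
    fun v => ⟨@fibIso (Over S) _ Xc _ b.left (pb b.hom x) (pb b.hom x) v.1 v.2, Subtype.ext rfl⟩⟩

theorem isAutAbelian_iff (x : Xc.p.Fiber T) :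
    IsoNat.IsAutAbelian x ↔ ∀ (b : Over T) (s t : VAut (yFun x) b), s * t = t * s := by
  constructor
  · intro h b s t
    obtain ⟨s, rfl⟩ := (autToV_bijective x b).2 s
    obtain ⟨t, rfl⟩ := (autToV_bijective x b).2 t
    rw [← autToV_mul, ← autToV_mul, h _ (pb b.hom x) (pbMap b.hom x) t s]
  · intro h T' y a s t
    let g : T' ⟶ T := eqToHom y.2.symm ≫ Xc.p.map a ≫ eqToHom x.2
    haveI : Xc.p.IsHomLift g a :=
      IsHomLift.of_fac Xc.p g a y.2 x.2 (by simp [g])
    obtain ⟨e⟩ := pb_iso_of_map g y a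
    let E := Aut.autMulEquivOfIso e
    have hb : (Over.mk g).hom = g := rfl
    refine E.injective ((autToV_bijective x (Over.mk g)).1 ?_)
    rw [map_mul, map_mul, autToV_mul, autToV_mul]
    exact h _ _ _

end Groth.Agent.H9St
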