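import Groth.Agent.Lib.H9FibEquiv
import Groth.Prelude.Def_AlgSt
import Mathlib.CategoryTheory.Sites.SheafOfTypes
/-! Stack conditions: invariance under equivalences, sheaves, fibre products. -/

set_option autoImplicit false
set_option linter.style.haveILetI false
set_option linter.unusedVariables false
set_option linter.unusedSectionVars false
set_option backward.isDefEq.respectTransparency.types false

universe v₁ u₁ v₄ u₄ v₃ u₃ v₂ u₂ w v u

open CategoryTheory CategoryTheory.Functor CategoryTheory.Limits Opposite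

noncomputable section

namespace Groth.Agent.H9Stk

variable {C : Type u} [Category.{v} C]
variable {A : BasedCategory.{v₂, u₂} C} {X : BasedCategory.{v₃, u₃} C} {Y : BasedCategory.{v₄, u₄} C}

theorem ext_app {F G : A ⥤ᵇ X} {α β : F ⟶ G} (h : ∀ a, α.toNatTrans.app a = β.toNatTrans.app a) : α = β := by
  apply BasedNatTrans.homCategory.ext
  ext a
  exact h a

theorem app_comp {F G H : A ⥤ᵇ X} (α : F ⟶ G) (β : G ⟶ H) (a : A.obj) :
    (α ≫ β).toNatTrans.app a = α.toNatTrans.app a ≫ β.toNatTrans.app a := rfl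

/-- Composition with a fixed functor over the base. -/
def post (A : BasedCategory.{v₂, u₂} C) (Φ : X ⥤ᵇ Y) : (A ⥤ᵇ X) ⥤ (A ⥤ᵇ Y) where
  obj G := BasedFunctor.comp G Φ
  map α := BasedCategory.whiskerRight α Φ
  map_id G := ext_app fun a => Φ.toFunctor.map_id _
  map_comp α β := ext_app fun a => Φ.toFunctor.map_comp _ _

theorem isEquivalence_post {Φ : X ⥤ᵇ Y} (h : FibCat.IsEquivOver Φ) : (post A Φ).IsEquivalence := by
  obtain ⟨Ψ, ⟨i⟩, ⟨j⟩⟩ := h
  let η : 𝟭 (A ⥤ᵇ X) ≅ post A Φ ⋙ post A Ψ :=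
    NatIso.ofComponents (fun G => (H9Fib.wLeft G i).symm) fun {G H} α => ext_app fun a => by
      show α.toNatTrans.app a ≫ i.inv.toNatTrans.app (H.obj a) =
        i.inv.toNatTrans.app (G.obj a) ≫ Ψ.map (Φ.map (α.toNatTrans.app a))
      exact i.inv.toNatTrans.naturality (α.toNatTrans.app a)
  let ε : post A Ψ ⋙ post A Φ ≅ 𝟭 (A ⥤ᵇ Y) :=
    NatIso.ofComponents (fun G => H9Fib.wLeft G j) fun {G H} α => ext_app fun a => by
      show Φ.map (Ψ.map (α.toNatTrans.app a)) ≫ j.hom.toNatTrans.app (H.obj a) =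
        j.hom.toNatTrans.app (G.obj a) ≫ α.toNatTrans.app a
      exact j.hom.toNatTrans.naturality (α.toNatTrans.app a)
  exact (CategoryTheory.Equivalence.mk (post A Φ) (post A Ψ) η ε).isEquivalence_functor

variable {U : C} (R : Sieve U)

/-- Restriction commutes with composition with a fixed functor. -/
def resPostIso (Φ : X ⥤ᵇ Y) :
    Stk.resSieve R X ⋙ post _ Φ ≅ post _ Φ ⋙ Stk.resSieve R Y :=
  NatIso.ofComponents (fun G => Iso.refl _) fun {G H} α => ext_app fun a => by
    exact (Category.comp_id _).trans (Category.id_comp _).symm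

theorem isStackFor_iff {Φ : X ⥤ᵇ Y} (h : FibCat.IsEquivOver Φ) :
    Stk.IsStackFor R X ↔ Stk.IsStackFor R Y := by
  haveI := isEquivalence_post (A := FibCat.overCat U) h
  haveI := isEquivalence_post (A := Stk.sieveCat R) h
  constructor
  · intro hX
    haveI : (Stk.resSieve R X).IsEquivalence := hX
    haveI : (post (FibCat.overCat U) Φ ⋙ Stk.resSieve R Y).IsEquivalence :=
      Functor.isEquivalence_of_iso (resPostIso R Φ)
    exact Functor.isEquivalence_of_comp_left (post (FibCat.overCat U) Φ) (Stk.resSieve R Y)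
  · intro hY
    haveI : (Stk.resSieve R Y).IsEquivalence := hY
    haveI : (Stk.resSieve R X ⋙ post (Stk.sieveCat R) Φ).IsEquivalence :=
      Functor.isEquivalence_of_iso (resPostIso R Φ).symm
    exact Functor.isEquivalence_of_comp_right (Stk.resSieve R X) (post (Stk.sieveCat R) Φ)

theorem isPrestackFor_iff {Φ : X ⥤ᵇ Y} (h : FibCat.IsEquivOver Φ) :
    Stk.IsPrestackFor R X ↔ Stk.IsPrestackFor R Y := by
  haveI := isEquivalence_post (A := FibCat.overCat U) h
  haveI := isEquivalence_post (A := Stk.sieveCat R) h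
  constructor
  · rintro ⟨h₁, h₂⟩
    haveI := h₁; haveI := h₂
    let e := asEquivalence (post (FibCat.overCat U) Φ)
    haveI : (post (FibCat.overCat U) Φ ⋙ Stk.resSieve R Y).Full := Functor.Full.of_iso (resPostIso R Φ)
    haveI : (post (FibCat.overCat U) Φ ⋙ Stk.resSieve R Y).Faithful := Functor.Faithful.of_iso (resPostIso R Φ)
    let i : e.inverse ⋙ post (FibCat.overCat U) Φ ⋙ Stk.resSieve R Y ≅ Stk.resSieve R Y :=
      (Functor.associator _ _ _).symm ≪≫ Functor.isoWhiskerRight e.counitIso _ ≪≫ Functor.leftUnitor _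
    exact ⟨Functor.Full.of_iso i, Functor.Faithful.of_iso i⟩
  · rintro ⟨h₁, h₂⟩
    haveI := h₁; haveI := h₂
    haveI : (Stk.resSieve R X ⋙ post (Stk.sieveCat R) Φ).Full := Functor.Full.of_iso (resPostIso R Φ).symm
    haveI : (Stk.resSieve R X ⋙ post (Stk.sieveCat R) Φ).Faithful := Functor.Faithful.of_iso (resPostIso R Φ).symm
    exact ⟨Functor.Full.of_comp_faithful (Stk.resSieve R X) (post (Stk.sieveCat R) Φ),
      Functor.Faithful.of_comp (Stk.resSieve R X) (post (Stk.sieveCat R) Φ)⟩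

theorem isEquivOver_symm' {F : X ⥤ᵇ Y} (h : FibCat.IsEquivOver F) : ∃ G : Y ⥤ᵇ X, FibCat.IsEquivOver G := by
  obtain ⟨G, a, b⟩ := h
  exact ⟨G, F, b, a⟩

theorem isFibGrpd_of_equiv {F : X ⥤ᵇ Y} (hF : FibCat.IsEquivOver F) [hX : FibCat.IsFibGrpd X.p] :
    FibCat.IsFibGrpd Y.p := by
  obtain ⟨hfull, hfaith, hs⟩ := H9Fib.full_of_isEquivOver hF
  refine { exists_lift := fun {η V} g => ?_, isStronglyCartesian := fun {η' η} φ => ⟨fun {z} g ψ hψ => ?_⟩ }
  · obtain ⟨ξ, e, he⟩ := hs η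
    have hξ : X.p.obj ξ = Y.p.obj η := (F.w_obj ξ).symm.trans (IsHomLift.domain_eq Y.p (𝟙 (Y.p.obj η)) e.hom)
    obtain ⟨a, α, hα⟩ := hX.exists_lift (x := ξ) (g ≫ eqToHom hξ.symm)
    haveI := he
    haveI : Y.p.IsHomLift (g ≫ eqToHom hξ.symm) (F.map α) := @BasedFunctor.preserves_isHomLift _ _ _ _ F _ _ _ _ _ α hα
    haveI : Y.p.IsHomLift ((g ≫ eqToHom hξ.symm) ≫ eqToHom hξ) (F.map α) := inferInstance
    haveI : Y.p.IsHomLift g (F.map α) := by simpa using this
    exact ⟨F.obj a, F.map α ≫ e.hom, by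
      have := @IsHomLift.comp _ _ _ _ Y.p _ _ _ _ _ _ g (𝟙 _) (F.map α) e.hom inferInstance he
      rwa [Category.comp_id] at this⟩
  · obtain ⟨ξ, e, he⟩ := hs η
    obtain ⟨ξ', e', he'⟩ := hs η'
    obtain ⟨ζ, ez, hez⟩ := hs z
    haveI := he; haveI := he'; haveI := hez; haveI := hψ
    haveI := hfull; haveI := hfaith
    have hk : Y.p.IsHomLift (Y.p.map φ) (e'.hom ≫ φ ≫ e.inv) := by
      haveI : Y.p.IsHomLift (𝟙 (Y.p.obj η)) e.inv := IsHomLift.lift_id_inv _ _ _
      haveI : Y.p.IsHomLift (Y.p.map φ) φ := .map φ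
      have := @IsHomLift.comp _ _ _ _ Y.p _ _ _ _ _ _ (𝟙 (Y.p.obj η')) (Y.p.map φ ≫ 𝟙 _) e'.hom (φ ≫ e.inv) he'
        (@IsHomLift.comp _ _ _ _ Y.p _ _ _ _ _ _ (Y.p.map φ) (𝟙 _) φ e.inv inferInstance inferInstance)
      rwa [Category.comp_id, Category.id_comp] at this
    have hm : Y.p.IsHomLift (g ≫ Y.p.map φ) (ez.hom ≫ ψ ≫ e.inv) := by
      haveI : Y.p.IsHomLift (𝟙 (Y.p.obj η)) e.inv := IsHomLift.lift_id_inv _ _ _
      have := @IsHomLift.comp _ _ _ _ Y.p _ _ _ _ _ _ (𝟙 (Y.p.obj z)) ((g ≫ Y.p.map φ) ≫ 𝟙 _) ez.hom (ψ ≫ e.inv) hez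
        (@IsHomLift.comp _ _ _ _ Y.p _ _ _ _ _ _ (g ≫ Y.p.map φ) (𝟙 _) ψ e.inv hψ inferInstance)
      rwa [Category.comp_id, Category.id_comp] at this
    let k := F.toFunctor.preimage (e'.hom ≫ φ ≫ e.inv)
    let m := F.toFunctor.preimage (ez.hom ≫ ψ ≫ e.inv)
    haveI lk : X.p.IsHomLift (Y.p.map φ) k := (BasedFunctor.isHomLift_iff F _ _).1
      (show Y.p.IsHomLift (Y.p.map φ) (F.map (F.toFunctor.preimage _)) by rw [F.toFunctor.map_preimage]; exact hk)
    haveI lm : X.p.IsHomLift (g ≫ Y.p.map φ) m := (BasedFunctor.isHomLift_iff F _ _).1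
      (show Y.p.IsHomLift (g ≫ Y.p.map φ) (F.map (F.toFunctor.preimage _)) by rw [F.toFunctor.map_preimage]; exact hm)
    obtain ⟨n, ⟨hn, hnk⟩, hu⟩ := H9Fib.desc g (Y.p.map φ) k m
    haveI := hn
    have eFk : F.map k = e'.hom ≫ φ ≫ e.inv := F.toFunctor.map_preimage _
    have eFm : F.map m = ez.hom ≫ ψ ≫ e.inv := F.toFunctor.map_preimage _
    have hnk' := congrArg F.map hnk
    rw [F.map_comp, eFk, eFm] at hnk'
    refine ⟨ez.inv ≫ F.map n ≫ e'.hom, ⟨?_, ?_⟩, ?_⟩
    · haveI : Y.p.IsHomLift (𝟙 (Y.p.obj z)) ez.inv := IsHomLift.lift_id_inv _ _ _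
      have := @IsHomLift.comp _ _ _ _ Y.p _ _ _ _ _ _ (𝟙 (Y.p.obj z)) (g ≫ 𝟙 _) ez.inv (F.map n ≫ e'.hom) inferInstance
        (@IsHomLift.comp _ _ _ _ Y.p _ _ _ _ _ _ g (𝟙 _) (F.map n) e'.hom inferInstance he')
      rwa [Category.comp_id, Category.id_comp] at this
    · simp only [Category.assoc]
      rw [← cancel_mono e.inv]
      simp only [Category.assoc]
      rw [hnk', Iso.inv_hom_id_assoc]
    · rintro χ ⟨hχ, hχe⟩
      haveI := hχ
      have hm' : Y.p.IsHomLift g (ez.hom ≫ χ ≫ e'.inv) := by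
        haveI : Y.p.IsHomLift (𝟙 (Y.p.obj η')) e'.inv := IsHomLift.lift_id_inv _ _ _
        have := @IsHomLift.comp _ _ _ _ Y.p _ _ _ _ _ _ (𝟙 (Y.p.obj z)) (g ≫ 𝟙 _) ez.hom (χ ≫ e'.inv) hez
          (@IsHomLift.comp _ _ _ _ Y.p _ _ _ _ _ _ g (𝟙 _) χ e'.inv hχ inferInstance)
        rwa [Category.comp_id, Category.id_comp] at this
      have h2 := hu (F.toFunctor.preimage (ez.hom ≫ χ ≫ e'.inv)) ⟨(BasedFunctor.isHomLift_iff F _ _).1
        (show Y.p.IsHomLift g (F.map (F.toFunctor.preimage _)) by rw [F.toFunctor.map_preimage]; exact hm'),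
        F.toFunctor.map_injective (by
          rw [F.toFunctor.map_comp, F.toFunctor.map_preimage]
          show (ez.hom ≫ χ ≫ e'.inv) ≫ F.map k = F.map m
          rw [eFk, eFm, ← hχe]; simp)⟩
      rw [← h2]
      show χ = ez.inv ≫ F.map (F.toFunctor.preimage _) ≫ e'.hom
      rw [F.toFunctor.map_preimage]; simp

theorem isFibGrpd_iff {F : X ⥤ᵇ Y} (hF : FibCat.IsEquivOver F) : FibCat.IsFibGrpd X.p ↔ FibCat.IsFibGrpd Y.p := by
  obtain ⟨G, a, b⟩ := id hF
  exact ⟨fun _ => isFibGrpd_of_equiv hF, fun _ => isFibGrpd_of_equiv (F := G) ⟨F, b, a⟩⟩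

theorem isStack_iff (J : GrothendieckTopology C) {F : X ⥤ᵇ Y} (hF : FibCat.IsEquivOver F) :
    Stk.IsStack J X ↔ Stk.IsStack J Y :=
  and_congr (isFibGrpd_iff hF) (forall_congr' fun U => forall_congr' fun R => imp_congr_right fun _ => isStackFor_iff R hF)

theorem isPrestack_iff (J : GrothendieckTopology C) {F : X ⥤ᵇ Y} (hF : FibCat.IsEquivOver F) :
    Stk.IsPrestack J X ↔ Stk.IsPrestack J Y :=
  and_congr (isFibGrpd_iff hF) (forall_congr' fun U => forall_congr' fun R => imp_congr_right fun _ => isPrestackFor_iff R hF)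

/-! Categories fibred in sets -/

section Psh

variable {P : Cᵒᵖ ⥤ Type w}

theorem map2 {x y z : C} (g : z ⟶ y) (f : y ⟶ x) (t : P.obj (op x)) :
    P.map g.op (P.map f.op t) = P.map (g ≫ f).op t :=
  (Functor.map_comp_apply P f.op g.op t).symm

theorem mapC {x y : C} {g h : y ⟶ x} (e : g = h) (t : P.obj (op x)) : P.map g.op t = P.map h.op t := by rw [e]

theorem map1 {x : C} (t : P.obj (op x)) : P.map (𝟙 x).op t = t := by simp

theorem e3 {a b c : C} (p : a = b) (q : b = c) : eqToHom p ≫ 𝟙 b ≫ eqToHom q = eqToHom (p.trans q) := by simp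

theorem bw (G : A ⥤ᵇ Stk.ofPsh P) (a : A.obj) : (G.obj a).base = A.p.obj a := G.w_obj a

theorem hom_map (G : A ⥤ᵇ Stk.ofPsh P) {a b : A.obj} (m : a ⟶ b) :
    (G.map m).hom = eqToHom (bw G a) ≫ A.p.map m ≫ eqToHom (bw G b).symm := Functor.congr_hom G.w m

theorem hom_app {G H : A ⥤ᵇ Stk.ofPsh P} (α : G ⟶ H) (a : A.obj) :
    (α.toNatTrans.app a).hom = eqToHom ((bw G a).trans (bw H a).symm) := by
  haveI := α.isHomLift' a
  exact (IsHomLift.fac' (Stk.ofPsh P).p (𝟙 (A.p.obj a)) (α.toNatTrans.app a)).trans (e3 _ _)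

/-- The section assigned by a functor into the category of a presheaf. -/
def secF (G : A ⥤ᵇ Stk.ofPsh P) (a : A.obj) : P.obj (op (A.p.obj a)) :=
  P.map (eqToHom (bw G a).symm).op (G.obj a).sec

theorem secF_nat (G : A ⥤ᵇ Stk.ofPsh P) {a b : A.obj} (m : a ⟶ b) :
    P.map (A.p.map m).op (secF G b) = secF G a :=
  (map2 _ _ _).trans ((mapC (by rw [hom_map G m]; simp) _).trans
    ((map2 (eqToHom (bw G a).symm) (G.map m).hom (G.obj b).sec).symm.trans
      (congrArg (P.map (eqToHom (bw G a).symm).op) (G.map m).map_sec)))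

/-- A compatible family of sections as a functor. -/
def mkF (s : ∀ a : A.obj, P.obj (op (A.p.obj a))) (hs : ∀ {a b : A.obj} (m : a ⟶ b), P.map (A.p.map m).op (s b) = s a) :
    A ⥤ᵇ Stk.ofPsh P where
  toFunctor :=
    { obj := fun a => ⟨A.p.obj a, s a⟩
      map := fun m => ⟨A.p.map m, hs m⟩
      map_id := fun a => Stk.EltObj.hom_ext (A.p.map_id a)
      map_comp := fun m n => Stk.EltObj.hom_ext (A.p.map_comp m n) }
  w := rfl

theorem secF_mkF (s : ∀ a : A.obj, P.obj (op (A.p.obj a)))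
    (hs : ∀ {a b : A.obj} (m : a ⟶ b), P.map (A.p.map m).op (s b) = s a) (a : A.obj) :
    secF (mkF s @hs) a = s a := by
  show P.map (eqToHom rfl).op (s a) = s a
  simp

/-- Functors with the same sections are isomorphic over the base. -/
def isoOfSecEq (G H : A ⥤ᵇ Stk.ofPsh P) (h : ∀ a, secF G a = secF H a) : G ⟶ H where
  toNatTrans :=
    { app := fun a => ⟨eqToHom ((bw G a).trans (bw H a).symm),
        ((mapC (eqToHom_trans (bw G a) (bw H a).symm).symm _).trans
          (map2 (eqToHom (bw G a)) (eqToHom (bw H a).symm) (H.obj a).sec).symm).trans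
          ((congrArg (P.map (eqToHom (bw G a)).op) (h a).symm).trans
            ((map2 _ _ _).trans ((mapC (by simp) _).trans (map1 _))))⟩
      naturality := fun a b m => Stk.EltObj.hom_ext (by
        show (G.map m).hom ≫ eqToHom ((bw G b).trans (bw H b).symm) =
          eqToHom ((bw G a).trans (bw H a).symm) ≫ (H.map m).hom
        rw [hom_map G m, hom_map H m]
        simp) }
  isHomLift' := fun a => IsHomLift.of_fac' (Stk.ofPsh P).p _ _ (bw G a) (bw H a) (e3 _ _).symm

theorem secF_eq_of_hom {G H : A ⥤ᵇ Stk.ofPsh P} (α : G ⟶ H) (a : A.obj) : secF G a = secF H a :=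
  ((congrArg (P.map (eqToHom (bw G a).symm).op) (α.toNatTrans.app a).map_sec).symm.trans
    ((map2 _ _ _).trans (mapC (by rw [hom_app α a]; simp) _)))

theorem subsingleton_hom (G H : A ⥤ᵇ Stk.ofPsh P) : Subsingleton (G ⟶ H) :=
  ⟨fun α β => ext_app fun a => Stk.EltObj.hom_ext ((hom_app α a).trans (hom_app β a).symm)⟩

/-- The isomorphism of functors with equal sections. -/
def isoSec (G H : A ⥤ᵇ Stk.ofPsh P) (h : ∀ a, secF G a = secF H a) : G ≅ H where
  hom := isoOfSecEq G H h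
  inv := isoOfSecEq H G fun a => (h a).symm
  hom_inv_id := (subsingleton_hom G G).elim _ _
  inv_hom_id := (subsingleton_hom H H).elim _ _

theorem secF_res {U : C} {R : Sieve U} (G : FibCat.overCat U ⥤ᵇ Stk.ofPsh P) (a : (Stk.sieveCat R).obj) :
    secF ((Stk.resSieve R (Stk.ofPsh P)).obj G) a = secF G a.obj := rfl

theorem secF_overCat {U : C} (G : FibCat.overCat U ⥤ᵇ Stk.ofPsh P) (a : Over U) :
    secF G a = P.map a.hom.op (secF G (Over.mk (𝟙 U))) :=
  (secF_nat G (Over.homMk a.hom (Category.comp_id a.hom) : a ⟶ Over.mk (𝟙 U))).symm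

theorem fam_congr {U V : C} {R : Presieve U} (x : Presieve.FamilyOfElements P R) {f g : V ⟶ U} (e : f = g)
    (hf : R f) (hg : R g) : x f hf = x g hg := by subst e; rfl

theorem isStackFor_ofPsh {U : C} (R : Sieve U) :
    Stk.IsStackFor R (Stk.ofPsh P) ↔ Presieve.IsSheafFor P (R : Presieve U) := by
  constructor
  · intro hR x hx
    haveI : (Stk.resSieve R (Stk.ofPsh P)).IsEquivalence := hR
    rw [Presieve.compatible_iff_sieveCompatible] at hx
    let D : Stk.sieveCat R ⥤ᵇ Stk.ofPsh P := mkF (A := Stk.sieveCat R) (fun a => x a.obj.hom a.property)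
      fun {a b} m => (hx b.obj.hom m.hom.left b.property).symm.trans (fam_congr x (Over.w m.hom) _ _)
    let G := (Stk.resSieve R (Stk.ofPsh P)).objPreimage D
    let i := (Stk.resSieve R (Stk.ofPsh P)).objObjPreimageIso D
    refine ⟨secF G (Over.mk (𝟙 U)), fun V f hf => ?_, fun t ht => ?_⟩
    · have := secF_eq_of_hom i.hom (⟨Over.mk f, hf⟩ : (Stk.sieveCat R).obj)
      rw [secF_res, secF_mkF] at this
      exact (secF_overCat G (Over.mk f)).symm.trans this
    · let H : FibCat.overCat U ⥤ᵇ Stk.ofPsh P := mkF (A := FibCat.overCat U) (fun a => P.map a.hom.op t)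
        fun {a b} m => (map2 _ _ _).trans (mapC (Over.w m) t)
      let β : (Stk.resSieve R (Stk.ofPsh P)).obj H ⟶ (Stk.resSieve R (Stk.ofPsh P)).obj G :=
        isoOfSecEq _ _ fun a => by
          have h1 := secF_eq_of_hom i.hom a
          rw [secF_mkF] at h1
          rw [h1, secF_res, secF_mkF]
          exact ht a.obj.hom a.property
      have := secF_eq_of_hom ((Stk.resSieve R (Stk.ofPsh P)).preimage β) (Over.mk (𝟙 U))
      rw [secF_mkF] at this
      exact (map1 t).symm.trans this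
  · intro h
    show (Stk.resSieve R (Stk.ofPsh P)).IsEquivalence
    refine { faithful := ⟨fun {G H} α β _ => (subsingleton_hom G H).elim α β⟩,
             full := ⟨fun {G H} α => ?_⟩, essSurj := ⟨fun D => ?_⟩ }
    · have hag : ∀ a, secF G a = secF H a := by
        have h1 : secF G (Over.mk (𝟙 U)) = secF H (Over.mk (𝟙 U)) := h.isSeparatedFor.ext fun V f hf => by
          have := secF_eq_of_hom α (⟨Over.mk f, hf⟩ : (Stk.sieveCat R).obj)
          rw [secF_res, secF_res, secF_overCat G, secF_overCat H] at this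
          exact this
        exact fun a => by rw [secF_overCat G, secF_overCat H, h1]
      exact ⟨isoOfSecEq G H hag, (subsingleton_hom _ _).elim _ _⟩
    · let x : Presieve.FamilyOfElements P (R : Presieve U) := fun V f hf => secF D ⟨Over.mk f, hf⟩
      have hx : x.Compatible := by
        rw [Presieve.compatible_iff_sieveCompatible]
        intro V W f g hf
        exact (secF_nat D (ObjectProperty.homMk (Over.homMk g rfl) :
          (⟨Over.mk (g ≫ f), R.downward_closed hf g⟩ : (Stk.sieveCat R).obj) ⟶ ⟨Over.mk f, hf⟩)).symm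
      obtain ⟨t, ht, -⟩ := h x hx
      let H : FibCat.overCat U ⥤ᵇ Stk.ofPsh P := mkF (A := FibCat.overCat U) (fun a => P.map a.hom.op t)
        fun {a b} m => (map2 _ _ _).trans (mapC (Over.w m) t)
      refine ⟨H, ⟨isoSec _ _ fun a => ?_⟩⟩
      rw [secF_res, secF_mkF]
      exact ht a.obj.hom a.property

theorem isStack_ofPsh (J : GrothendieckTopology C) : Stk.IsStack J (Stk.ofPsh P) ↔ Presieve.IsSheaf J P :=
  ⟨fun h U R hR => (isStackFor_ofPsh R).1 (h.2 R hR),
    fun h => ⟨Stk.isFibGrpd_ofPsh P, fun U R hR => (isStackFor_ofPsh R).2 (h R hR)⟩⟩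

end Psh

/-- A slice as the category of a representable presheaf. -/
def overToPsh (U : C) : FibCat.overCat U ⥤ᵇ Stk.ofPsh (yoneda.obj U) where
  toFunctor :=
    { obj := fun a => ⟨a.left, a.hom⟩
      map := fun m => ⟨m.left, Over.w m⟩ }
  w := rfl

theorem isEquivOver_overToPsh (U : C) : FibCat.IsEquivOver (overToPsh U) := by
  refine H9Fib.isEquivOver_of _ ⟨fun {a b} m => ⟨Over.homMk m.hom m.map_sec, Stk.EltObj.hom_ext rfl⟩⟩
    ⟨fun {a b m n} e => Over.OverMorphism.ext (congrArg Stk.EltObj.Hom.hom e)⟩ fun η => ?_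
  exact ⟨Over.mk η.sec, Iso.refl η, IsHomLift.id rfl⟩

theorem isStack_overCat (J : GrothendieckTopology C) (U : C) :
    Stk.IsStack J (FibCat.overCat U) ↔ Presieve.IsSheaf J (yoneda.obj U) :=
  (isStack_iff J (isEquivOver_overToPsh U)).trans (isStack_ofPsh J)

/-! Fibre products -/

section Fp

variable {Z : BasedCategory.{v₂, u₂} C} {F : X ⥤ᵇ Y} {G : Z ⥤ᵇ Y} {A' : BasedCategory.{v, max u v} C}

/-- The two composites of a functor into the fibre product. -/
def fpIsoAt (a : A' ⥤ᵇ FibCat.fp F G) :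
    BasedFunctor.comp (BasedFunctor.comp a (FibCat.fpFst F G)) F ⟶ BasedFunctor.comp (BasedFunctor.comp a (FibCat.fpSnd F G)) G :=
  (H9Fib.wLeft a (FibCat.fpIso F G)).hom

theorem isStackFor_fp {U : C} (R : Sieve U) (hX : Stk.IsStackFor R X) (hZ : Stk.IsStackFor R Z)
    (hY : Stk.IsPrestackFor R Y) : Stk.IsStackFor R (FibCat.fp F G) := by
  haveI : (Stk.resSieve R X).IsEquivalence := hX
  haveI : (Stk.resSieve R Z).IsEquivalence := hZ
  haveI : (Stk.resSieve R Y).Full := hY.1
  haveI : (Stk.resSieve R Y).Faithful := hY.2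
  let p₁ := FibCat.fpFst F G
  let p₂ := FibCat.fpSnd F G
  show (Stk.resSieve R (FibCat.fp F G)).IsEquivalence
  refine { faithful := ⟨fun {a b} α β e => ?_⟩, full := ⟨fun {a b} α => ?_⟩, essSurj := ⟨fun D => ?_⟩ }
  · refine ext_app fun c => ObjectProperty.hom_ext _ (CategoricalPullback.hom_ext ?_ ?_)
    · exact congrArg (fun t => t.toNatTrans.app c) ((Stk.resSieve R X).map_injective
        (a₁ := BasedCategory.whiskerRight α p₁) (a₂ := BasedCategory.whiskerRight β p₁)
        (ext_app fun d => congrArg (fun t => ((t.toNatTrans.app d)).hom.fst) e))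
    · exact congrArg (fun t => t.toNatTrans.app c) ((Stk.resSieve R Z).map_injective
        (a₁ := BasedCategory.whiskerRight α p₂) (a₂ := BasedCategory.whiskerRight β p₂)
        (ext_app fun d => congrArg (fun t => ((t.toNatTrans.app d)).hom.snd) e))
  · obtain ⟨α₁, h₁⟩ := (Stk.resSieve R X).map_surjective
      (show (Stk.resSieve R X).obj (BasedFunctor.comp a p₁) ⟶ (Stk.resSieve R X).obj (BasedFunctor.comp b p₁) from
        BasedCategory.whiskerRight α p₁)
    obtain ⟨α₂, h₂⟩ := (Stk.resSieve R Z).map_surjective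
      (show (Stk.resSieve R Z).obj (BasedFunctor.comp a p₂) ⟶ (Stk.resSieve R Z).obj (BasedFunctor.comp b p₂) from
        BasedCategory.whiskerRight α p₂)
    have hsq : BasedCategory.whiskerRight α₁ F ≫ fpIsoAt b = fpIsoAt a ≫ BasedCategory.whiskerRight α₂ G := by
      refine (Stk.resSieve R Y).map_injective (ext_app fun d => ?_)
      show F.map (α₁.toNatTrans.app d.obj) ≫ (b.obj d.obj).obj.iso.hom =
        (a.obj d.obj).obj.iso.hom ≫ G.map (α₂.toNatTrans.app d.obj)
      rw [show α₁.toNatTrans.app d.obj = (α.toNatTrans.app d).hom.fst from congrArg (fun t => t.toNatTrans.app d) h₁,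
        show α₂.toNatTrans.app d.obj = (α.toNatTrans.app d).hom.snd from congrArg (fun t => t.toNatTrans.app d) h₂]
      exact (α.toNatTrans.app d).hom.w
    refine ⟨{ toNatTrans :=
                { app := fun c => ObjectProperty.homMk
                    { fst := α₁.toNatTrans.app c, snd := α₂.toNatTrans.app c,
                      w := congrArg (fun t => t.toNatTrans.app c) hsq }
                  naturality := fun c c' m => ObjectProperty.hom_ext _ (CategoricalPullback.hom_ext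
                    (α₁.toNatTrans.naturality m) (α₂.toNatTrans.naturality m)) }
              isHomLift' := fun c => ?_ }, ?_⟩
    · haveI := α₁.isHomLift' c
      refine IsHomLift.of_fac' _ _ _ (a.w_obj c) (b.w_obj c) ?_
      exact IsHomLift.fac' X.p (𝟙 _) (α₁.toNatTrans.app c)
    · exact ext_app fun d => ObjectProperty.hom_ext _ (CategoricalPullback.hom_ext
        (congrArg (fun t => t.toNatTrans.app d) h₁) (congrArg (fun t => t.toNatTrans.app d) h₂))
  · let a := (Stk.resSieve R X).objPreimage (BasedFunctor.comp D p₁)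
    let ia := (Stk.resSieve R X).objObjPreimageIso (BasedFunctor.comp D p₁)
    let b := (Stk.resSieve R Z).objPreimage (BasedFunctor.comp D p₂)
    let ib := (Stk.resSieve R Z).objObjPreimageIso (BasedFunctor.comp D p₂)
    let ε : (Stk.resSieve R Y).obj (BasedFunctor.comp a F) ≅ (Stk.resSieve R Y).obj (BasedFunctor.comp b G) :=
      H9Fib.wRight ia F ≪≫ H9Fib.wLeft D (FibCat.fpIso F G) ≪≫ (H9Fib.wRight ib G).symm
    let e := (Stk.resSieve R Y).preimageIso ε
    have he : ∀ d, e.hom.toNatTrans.app d.obj = F.map (ia.hom.toNatTrans.app d) ≫ (D.obj d).obj.iso.hom ≫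
        G.map (ib.inv.toNatTrans.app d) := fun d => by
      have h : (Stk.resSieve R Y).map e.hom = ε.hom := (Stk.resSieve R Y).map_preimage ε.hom
      exact congrArg (fun t => t.toNatTrans.app d) h
    let Ia : ∀ d, a.obj d.obj ≅ (D.obj d).obj.fst := fun d => ((BasedNatTrans.forgetful _ _).mapIso ia).app d
    let Ib : ∀ d, b.obj d.obj ≅ (D.obj d).obj.snd := fun d => ((BasedNatTrans.forgetful _ _).mapIso ib).app d
    have hw : ∀ d, F.map (Ia d).hom ≫ (D.obj d).obj.iso.hom = e.hom.toNatTrans.app d.obj ≫ G.map (Ib d).hom := by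
      intro d
      rw [he d]
      refine Eq.symm ((Category.assoc _ _ _).trans (congrArg (F.map (Ia d).hom ≫ ·) ((Category.assoc _ _ _).trans ?_)))
      exact (congrArg ((D.obj d).obj.iso.hom ≫ ·) ((G.toFunctor.map_comp _ _).symm.trans
        ((congrArg G.toFunctor.map (Ib d).inv_hom_id).trans (G.toFunctor.map_id _)))).trans (Category.comp_id _)
    refine ⟨FibCat.fpLift a b e, ⟨BasedNatIso.mkNatIso (NatIso.ofComponents
      (fun d => (FibCat.fpProp F G).isoMk (CategoricalPullback.mkIso (Ia d) (Ib d) (hw d))) ?_) ?_⟩⟩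
    · intro d d' m
      exact ObjectProperty.hom_ext _ (CategoricalPullback.hom_ext (ia.hom.toNatTrans.naturality m)
        (ib.hom.toNatTrans.naturality m))
    · intro d
      haveI := ia.hom.isHomLift' d
      refine IsHomLift.of_fac' _ _ _ (a.w_obj d.obj) (D.w_obj d) ?_
      exact IsHomLift.fac' X.p (𝟙 _) (ia.hom.toNatTrans.app d)

theorem isStack_fp (J : GrothendieckTopology C) (hX : Stk.IsStack J X) (hZ : Stk.IsStack J Z)
    (hY : Stk.IsPrestack J Y) : Stk.IsStack J (FibCat.fp F G) := by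
  haveI := hX.1; haveI := hZ.1; haveI := hY.1
  exact ⟨H9Fib.isFibGrpd_fp F G, fun U R hR => isStackFor_fp R (hX.2 R hR) (hZ.2 R hR) (hY.2 R hR)⟩

theorem fib_map_eq {W : BasedCategory.{v₁, u₁} C} (hX : ∀ U : C, Quiver.IsThin (X.p.Fiber U)) (Φ : W ⥤ᵇ X)
    {U : C} {a b : W.p.Fiber U} (m n : a ⟶ b) : Φ.map m.1 = Φ.map n.1 := by
  haveI := hX U (Fiber.mk ((Φ.w_obj a.1).trans a.2)) (Fiber.mk ((Φ.w_obj b.1).trans b.2))
  exact congrArg Subtype.val (Subsingleton.elim
    (show Fiber.mk ((Φ.w_obj a.1).trans a.2) ⟶ Fiber.mk ((Φ.w_obj b.1).trans b.2) from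
      ⟨Φ.map m.1, @BasedFunctor.preserves_isHomLift _ _ _ _ Φ _ _ _ _ _ m.1 m.2⟩)
    ⟨Φ.map n.1, @BasedFunctor.preserves_isHomLift _ _ _ _ Φ _ _ _ _ _ n.1 n.2⟩)

theorem isThin_fp (hX : ∀ U : C, Quiver.IsThin (X.p.Fiber U))
    (hZ : ∀ U : C, Quiver.IsThin (Z.p.Fiber U)) (U : C) : Quiver.IsThin ((FibCat.fp F G).p.Fiber U) := fun a b =>
  ⟨fun m n => Subtype.ext (ObjectProperty.hom_ext _ (CategoricalPullback.hom_ext
    (fib_map_eq hX (FibCat.fpFst F G) m n) (fib_map_eq hZ (FibCat.fpSnd F G) m n)))⟩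

end Fp

theorem isPrestack_of_isStack {J : GrothendieckTopology C} (h : Stk.IsStack J X) : Stk.IsPrestack J X :=
  ⟨h.1, fun U R hR => by
    haveI : (Stk.resSieve R X).IsEquivalence := h.2 R hR
    exact ⟨inferInstance, inferInstance⟩⟩

theorem isThin_of_isEquivOver {Φ : X ⥤ᵇ Y} (h : FibCat.IsEquivOver Φ) (hY : ∀ U : C, Quiver.IsThin (Y.p.Fiber U))
    (U : C) : Quiver.IsThin (X.p.Fiber U) := fun a b => by
  obtain ⟨-, hf, -⟩ := H9Fib.full_of_isEquivOver h
  exact ⟨fun m n => Subtype.ext (hf.map_injective (fib_map_eq hY Φ m n))⟩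

end Groth.Agent.H9Stk
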