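import Groth.Agent.Lib.H9StProps2
import Groth.Agent.Lib.H9Stk
/-! Algebraic stacks: equivalences, spaces, fibre products. -/

set_option autoImplicit false
set_option linter.style.haveILetI false
set_option linter.unusedVariables false
set_option linter.unusedSectionVars false
set_option backward.isDefEq.respectTransparency.types false

universe u

open CategoryTheory CategoryTheory.Limits AlgebraicGeometry Opposite

noncomputable section

namespace Groth.Agent.H9St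

open H9Diag

variable {S : Scheme.{u}}

theorem standard_top : Standard (⊤ : MorphismProperty (AlgSp.Sp S)) :=
  ⟨fun _ _ _ _ _ _ _ _ _ _ _ _ _ _ => trivial, fun _ _ _ _ _ _ _ _ _ _ => trivial,
    fun _ _ _ _ _ _ _ _ _ _ _ _ _ _ _ => ⟨fun _ _ => trivial, fun _ => trivial⟩⟩

theorem locP_etale_of_iso {A B : AlgSp.Sp S} (m : A ⟶ B) [IsIso m] : AlgSp.LocP @Etale m := by
  intro U V a b α ha hb hab
  exact ASp.etale_of_charts α (MorphismProperty.RespectsIso.postcomp _ m _ ha) hb hab.symm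

theorem isSurjectiveMor_of_iso {A B : AlgSp.Sp S} (m : A ⟶ B) [IsIso m] : AlgSp.IsSurjectiveMor m := fun z =>
  ⟨AlgSp.Points.map (inv m) z, by rw [← AlgSp.Points.map_comp, IsIso.inv_hom_id, AlgSp.Points.map_id]⟩

theorem standard_smooth : Standard (AlgSp.LocP (S := S) @Smooth) :=
  ⟨fun _ _ _ _ hA hB _ hD a b a' b' sq h => ASp.locP_baseChange hA hB hD sq h,
    fun _ _ _ hA hB hC a b ha hb => ASp.locP_comp hA hB hC ha hb, local_fppf ASp.isLocalOnBase_locP⟩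

theorem standard_locEtale : Standard (AlgSp.LocP (S := S) @Etale) :=
  ⟨fun _ _ _ _ hA hB _ hD a b a' b' sq h => ASp.locP_baseChange hA hB hD sq h,
    fun _ _ _ hA hB hC a b ha hb => ASp.locP_comp hA hB hC ha hb, local_fppf ASp.isLocalOnBase_locP⟩

theorem repWith_isEtaleMor_iff {X Y : AlgSt.Cat S} {f : X ⥤ᵇ Y} :
    AlgSt.RepByAlgSpWith AlgSp.IsEtaleMor f ↔ AlgSt.RepByAlgSpWith (AlgSp.LocP @Etale) f :=
  ⟨fun h U y => (h U y).imp fun F ⟨e, he, hP⟩ => ⟨e, he, ASp.locP_etale_of_isEtaleMor hP⟩,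
    fun h U y => (h U y).imp fun F ⟨e, he, hP⟩ =>
      ⟨e, he, ASp.isEtaleMor_of_locP F.property (AlgSp.IsAlgSpace.yon_obj U) hP⟩⟩

theorem repWith_smooth_of_etale {X Y : AlgSt.Cat S} {f : X ⥤ᵇ Y} (h : AlgSt.RepByAlgSpWith (AlgSp.LocP @Etale) f) :
    AlgSt.RepByAlgSpWith (AlgSp.LocP @Smooth) f :=
  fun U y => (h U y).imp fun F ⟨e, he, hP⟩ =>
    ⟨e, he, ASp.locP_mono (fun _ _ f (_ : Etale f) => (inferInstance : Smooth f)) hP⟩

/-- An algebraic space has an etale atlas. -/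
theorem exists_etale_atlas {A : AlgSp.Sp S} (hA : AlgSp.IsAlgSpace A) :
    ∃ (U : Over S) (p : FibCat.overCat U ⥤ᵇ AlgSt.ofSp A), AlgSt.RepByAlgSpWith (AlgSp.LocP @Etale) p ∧
      AlgSt.RepByAlgSpWith AlgSp.IsSurjectiveMor p := by
  haveI : FibCat.IsFibGrpd (AlgSt.ofSp A).p := isFibGrpd_ofPsh A.obj
  obtain ⟨U, a, hae, has⟩ := hA.atlas
  haveI : FibCat.IsFibGrpd (FibCat.overCat U).p := isFibGrpd_overCat U
  obtain ⟨p, hp⟩ := exists_yFun (W := AlgSt.ofSp A) (U := U) (a.hom ≫ (clsOfPsh A.obj).inv)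
  have key : ∀ {Q : MorphismProperty (AlgSp.Sp S)} [Q.RespectsIso],
      (∀ {B : AlgSp.Sp S} {V : Over S} {b : (AlgSp.yon S).obj V ⟶ A} {q : B ⟶ (AlgSp.yon S).obj U}
        {r : B ⟶ (AlgSp.yon S).obj V}, IsPullback q r a b → Q r) → AlgSt.RepByAlgSpWith Q p :=
    fun {Q} _ hQ => repByAlgSpWith_of_space (T := AlgSt.ofSp A) hA (clsOfPsh A.obj) p a hp hQ
  refine ⟨U, p, key fun {B V b q r} sq => ASp.locP_of_repWith (AlgSp.IsAlgSpace.yon_obj V)
    (ASp.repWith_baseChange sq hae), key (Q := AlgSp.IsSurjectiveMor) fun {B V b q r} sq z => ?_⟩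
  obtain ⟨u, hu⟩ := ASp.surjective_ofPt_of_repWith has (AlgSp.Points.map b z)
  obtain ⟨w, hw, -⟩ := ASp.exists_of_isPullback sq.flip z (AlgSp.Points.schemeHomeo U u)
    (by rw [← hu, AlgSp.Points.ofPt_eq_map_ofScheme]; rfl)
  exact ⟨w, hw⟩

/-- A covering by an algebraic space gives an atlas. -/
theorem hasAtlas_of_space {W T : AlgSt.Cat S} [FibCat.IsFibGrpd W.p] [FibCat.IsFibGrpd T.p]
    {Q : MorphismProperty (AlgSp.Sp S)} [Q.RespectsIso] (hQ : Standard Q)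
    (hle : AlgSp.LocP @Etale ≤ Q) (hsm : Q ≤ AlgSp.LocP @Smooth) (hW : AlgSt.RepByAlgSp W) (u : W ⥤ᵇ T)
    (hu : AlgSt.RepByAlgSpWith Q u) (hus : AlgSt.RepByAlgSpWith AlgSp.IsSurjectiveMor u) :
    AlgSt.HasAtlas Q T := by
  obtain ⟨F, e, he⟩ := hW
  haveI : FibCat.IsFibGrpd (AlgSt.ofSp F.obj).p := isFibGrpd_ofPsh F.obj.obj
  obtain ⟨V, p, hp, hps⟩ := exists_etale_atlas F.property
  haveI : FibCat.IsFibGrpd (FibCat.overCat V).p := isFibGrpd_overCat V
  have hp' : AlgSt.RepByAlgSpWith Q p := fun U y => (hp U y).imp fun F ⟨e, he, hP⟩ => ⟨e, he, hle _ hP⟩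
  have he' : AlgSt.RepByAlgSpWith Q e := repByAlgSpWith_of_isEquivOver (fun m _ => hle _ (locP_etale_of_iso m)) he
  have h1 : AlgSt.RepByAlgSpWith Q (BasedFunctor.comp (BasedFunctor.comp p e) u) :=
    repWith_comp hQ (repWith_comp hQ hp' he') hu
  have h1' : AlgSt.RepByAlgSpWith (AlgSp.LocP @Smooth) (BasedFunctor.comp (BasedFunctor.comp p e) u) :=
    fun U y => (h1 U y).imp fun F ⟨e, he, hP⟩ => ⟨e, he, hsm _ hP⟩
  refine ⟨V, _, h1, surjectiveMor_of_surjective_ofChart h1' fun q => ?_⟩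
  obtain ⟨q₂, rfl⟩ := isSurjective_of_rep hus q
  obtain ⟨q₁, rfl⟩ := isSurjective_of_rep (repByAlgSpWith_of_isEquivOver (fun m _ => isSurjectiveMor_of_iso m) he) q₂
  obtain ⟨q₀, rfl⟩ := isSurjective_of_rep hps q₁
  rw [← Set.mem_range, range_ofChart, points_map_comp, points_map_comp]
  exact Set.mem_range_self q₀

/-- The base category, as a space. -/
theorem repByAlgSp_selfOver : AlgSt.RepByAlgSp (FibCat.selfOver (Over S)) := by
  haveI : FibCat.IsFibGrpd (FibCat.selfOver (Over S)).p := isFibGrpd_selfOver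
  refine repByAlgSp_congr (e := FibCat.toSelf (FibCat.overCat (Over.mk (𝟙 S)))) ?_ (repByAlgSp_overCat _)
  have ht : ∀ (B : Over S), ∀ u v : B ⟶ Over.mk (𝟙 S), u = v := fun B u v => Over.OverMorphism.ext
    (((Category.comp_id _).symm.trans (Over.w u)).trans ((Over.w v).symm.trans (Category.comp_id _)))
  refine H9Fib.isEquivOver_of _ ⟨fun {a b} m => ⟨Over.homMk m (ht _ _ _), rfl⟩⟩
    ⟨fun {a b m n} e => Over.OverMorphism.ext e⟩ fun η => ?_
  exact ⟨Over.mk (Over.homMk η.hom (Category.comp_id _) : η ⟶ Over.mk (𝟙 S)), Iso.refl η, IsHomLift.id rfl⟩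

variable {X Y Z W : AlgSt.Cat S} [hX : FibCat.IsFibGrpd X.p] [hY : FibCat.IsFibGrpd Y.p]
  [hZ : FibCat.IsFibGrpd Z.p] [hW : FibCat.IsFibGrpd W.p]

theorem rep1_toSelf (hW : AlgSt.RepByAlgSp W) : AlgSt.RepByAlgSp1 (FibCat.toSelf W) := by
  haveI : FibCat.IsFibGrpd (FibCat.selfOver (Over S)).p := isFibGrpd_selfOver
  exact repByAlgSp1_of_repByAlgSp hW repByAlgSp_selfOver _

/-- A category equivalent to an algebraic space has representable diagonal. -/
theorem rep1_diag_toSelf_of_repByAlgSp (hW : AlgSt.RepByAlgSp W) :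
    AlgSt.RepByAlgSp1 (FibCat.diag (FibCat.toSelf W)) := by
  haveI : FibCat.IsFibGrpd (FibCat.selfOver (Over S)).p := isFibGrpd_selfOver
  exact rep1_diag_of_rep1 (rep1_toSelf hW)

/-- A morphism from an algebraic space is representable when the diagonal of the target is. -/
theorem rep1_from_space (hΔ : AlgSt.RepByAlgSp1 (FibCat.diag (FibCat.toSelf Y))) (hX' : AlgSt.RepByAlgSp X)
    (f : X ⥤ᵇ Y) : AlgSt.RepByAlgSp1 f := by
  haveI : FibCat.IsFibGrpd (FibCat.selfOver (Over S)).p := isFibGrpd_selfOver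
  refine rep1_of_comp f (FibCat.toSelf Y) ?_ hΔ
  rw [comp_toSelf]
  exact rep1_toSelf hX'

/-- The diagonal along an equivalence. -/
theorem rep1_diag_toSelf_congr (e : X ⥤ᵇ Y) (he : FibCat.IsEquivOver e) :
    AlgSt.RepByAlgSp1 (FibCat.diag (FibCat.toSelf Y)) ↔ AlgSt.RepByAlgSp1 (FibCat.diag (FibCat.toSelf X)) := by
  haveI : FibCat.IsFibGrpd (FibCat.selfOver (Over S)).p := isFibGrpd_selfOver
  haveI : FibCat.IsFibGrpd (FibCat.fp (FibCat.toSelf X) (FibCat.toSelf X)).p := H9Fib.isFibGrpd_fp _ _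
  haveI : FibCat.IsFibGrpd (FibCat.fp (FibCat.toSelf Y) (FibCat.toSelf Y)).p := H9Fib.isFibGrpd_fp _ _
  let i : BasedFunctor.comp (FibCat.toSelf X) (BasedFunctor.id _) ≅ BasedFunctor.comp e (FibCat.toSelf Y) :=
    eqToIso (comp_toSelf e).symm
  let b := fpCongr e e (BasedFunctor.id _) i i
  rw [repByAlgSp1_iff_with, repByAlgSp1_iff_with]
  refine repByAlgSpWith_congr e b he (isEquivOver_fpCongr _ _ he he (H9Fib.isEquivOver_id _))
    (BasedNatIso.mkNatIso (NatIso.ofComponents (fun x => (FibCat.fpProp _ _).isoMk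
      (CategoricalPullback.mkIso (Iso.refl _) (Iso.refl _) ?_))
      (fun {x x'} m => ObjectProperty.hom_ext _ (CategoricalPullback.hom_ext
        ((Category.comp_id _).trans (Category.id_comp _).symm) ((Category.comp_id _).trans (Category.id_comp _).symm))))
      fun x => ?_)
  · show (FibCat.toSelf Y).map (𝟙 _) ≫ 𝟙 _ =
      (i.inv.toNatTrans.app x ≫ 𝟙 _ ≫ i.hom.toNatTrans.app x) ≫ (FibCat.toSelf Y).map (𝟙 _)
    have h : i.inv.toNatTrans.app x ≫ i.hom.toNatTrans.app x = 𝟙 _ :=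
      congrArg (fun q => q.toNatTrans.app x) i.inv_hom_id
    erw [(FibCat.toSelf Y).toFunctor.map_id, Category.comp_id, Category.id_comp, h]
    rfl
  · refine IsHomLift.of_fac' _ _ _ (e.w_obj x) (e.w_obj x) ?_
    show Y.p.map (𝟙 _) = _
    simp; rfl

omit hX hY in
theorem hasAtlas_congr {K : AlgSt.Cat S} {P : MorphismProperty (AlgSp.Sp S)} [FibCat.IsFibGrpd X.p] [FibCat.IsFibGrpd K.p]
    (e : X ⥤ᵇ K) (he : FibCat.IsEquivOver e) : AlgSt.HasAtlas P X → AlgSt.HasAtlas P K := by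
  rintro ⟨U, x, hx, hxs⟩
  haveI : FibCat.IsFibGrpd (FibCat.overCat U).p := isFibGrpd_overCat U
  exact ⟨U, BasedFunctor.comp x e,
    (repByAlgSpWith_congr (f := BasedFunctor.comp x e) (f' := x) (BasedFunctor.id _) e (H9Fib.isEquivOver_id _) he (Iso.refl _)).2 hx,
    (repByAlgSpWith_congr (f := BasedFunctor.comp x e) (f' := x) (BasedFunctor.id _) e (H9Fib.isEquivOver_id _) he (Iso.refl _)).2 hxs⟩

end Groth.Agent.H9St

namespace Groth.Agent.H9St

open H9Diag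

variable {S : Scheme.{u}}

/-- Algebraicity along an equivalence. -/
theorem isAlgStack_congr {K : Precoverage Scheme.{u}} {X Y : AlgSt.Cat S} (e : X ⥤ᵇ Y) (he : FibCat.IsEquivOver e) :
    AlgSt.IsAlgStack K X ↔ AlgSt.IsAlgStack K Y := by
  obtain ⟨e', he'⟩ := isEquivOver_symm he
  constructor
  · intro h
    haveI := h.isStack.1
    have hs := (H9Stk.isStack_iff (QuotSh.J K S) he).1 h.isStack
    haveI := hs.1
    exact ⟨hs, (rep1_diag_toSelf_congr e he).2 h.diag, hasAtlas_congr e he h.atlas⟩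
  · intro h
    haveI := h.isStack.1
    have hs := (H9Stk.isStack_iff (QuotSh.J K S) he).2 h.isStack
    haveI := hs.1
    exact ⟨hs, (rep1_diag_toSelf_congr e he).1 h.diag, hasAtlas_congr e' he' h.atlas⟩

/-- An algebraic space is a Deligne-Mumford stack. -/
theorem isDM_of_repByAlgSp {X : AlgSt.Cat S} [FibCat.IsFibGrpd X.p] (hr : AlgSt.RepByAlgSp X) :
    AlgSt.IsDM Scheme.fppfPrecoverage X := by
  obtain ⟨F, e, he⟩ := hr
  haveI : FibCat.IsFibGrpd (AlgSt.ofSp F.obj).p := isFibGrpd_ofPsh F.obj.obj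
  obtain ⟨U, p, hp, hps⟩ := exists_etale_atlas F.property
  have hst : Stk.IsStack (AlgSp.J S) (AlgSt.ofSp F.obj) :=
    (H9Stk.isStack_ofPsh _).2 ((isSheaf_iff_isSheaf_of_type _ _).1 F.obj.property)
  have hF : AlgSt.IsAlgStack Scheme.fppfPrecoverage (AlgSt.ofSp F.obj) :=
    ⟨hst, rep1_diag_toSelf_of_repByAlgSp ⟨F, _, H9Fib.isEquivOver_id _⟩, U, p, repWith_smooth_of_etale hp, hps⟩
  exact ⟨(isAlgStack_congr e he).1 hF, hasAtlas_congr e he ⟨U, p, repWith_isEtaleMor_iff.2 hp, hps⟩⟩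

/-- Change of the left leg is a base change of that leg. -/
theorem repWith_bcFun {P : MorphismProperty (AlgSp.Sp S)} {X Y Z W : AlgSt.Cat S} [FibCat.IsFibGrpd X.p]
    [FibCat.IsFibGrpd Y.p] [FibCat.IsFibGrpd Z.p] [FibCat.IsFibGrpd W.p] (h : W ⥤ᵇ Z) (g : Z ⥤ᵇ Y) (f : X ⥤ᵇ Y)
    (hh : AlgSt.RepByAlgSpWith P h) : AlgSt.RepByAlgSpWith P (bcFun h g f) := by
  haveI : FibCat.IsFibGrpd (FibCat.fp g f).p := H9Fib.isFibGrpd_fp _ _
  haveI : FibCat.IsFibGrpd (FibCat.fp (BasedFunctor.comp h g) f).p := H9Fib.isFibGrpd_fp _ _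
  haveI : FibCat.IsFibGrpd (FibCat.fp h (FibCat.fpFst g f)).p := H9Fib.isFibGrpd_fp _ _
  refine (repByAlgSpWith_congr (f := bcFun h g f) (f' := FibCat.fpSnd h (FibCat.fpFst g f)) (pasteFun h g f)
    (BasedFunctor.id _) (isEquivOver_paste h g f) (H9Fib.isEquivOver_id _) ?_).2
      (repByAlgSpWith_fpSnd h (FibCat.fpFst g f) hh)
  symm
  show BasedFunctor.comp (pasteFun h g f) (bcFun h g f) ≅
    BasedFunctor.comp (FibCat.fpSnd h (FibCat.fpFst g f)) (BasedFunctor.id _)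
  refine BasedNatIso.mkNatIso (NatIso.ofComponents (fun w => (FibCat.fpProp g f).isoMk
      (CategoricalPullback.mkIso w.obj.iso (Iso.refl _) ?_))
      (fun {w w'} m => ObjectProperty.hom_ext _ (CategoricalPullback.hom_ext m.hom.w
        ((Category.comp_id _).trans (Category.id_comp _).symm))))
      fun w => ?_
  · show g.map w.obj.iso.hom ≫ w.obj.snd.obj.iso.hom =
      (g.map w.obj.iso.hom ≫ w.obj.snd.obj.iso.hom) ≫ f.map (𝟙 _)
    erw [f.toFunctor.map_id, Category.comp_id]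
  · haveI := w.property
    refine IsHomLift.of_fac' _ _ _ (h.w_obj w.obj.fst)
      (@IsHomLift.codomain_eq _ _ _ _ Z.p _ _ _ _ (𝟙 (W.p.obj w.obj.fst)) w.obj.iso.hom w.property) ?_
    exact @IsHomLift.fac' _ _ _ _ Z.p _ _ _ _ (𝟙 (W.p.obj w.obj.fst)) w.obj.iso.hom w.property

/-- Change of the right leg is a base change of that leg. -/
theorem repWith_bcFunR {P : MorphismProperty (AlgSp.Sp S)} {X Y Z W : AlgSt.Cat S} [FibCat.IsFibGrpd X.p]
    [FibCat.IsFibGrpd Y.p] [FibCat.IsFibGrpd Z.p] [FibCat.IsFibGrpd W.p] (g : Z ⥤ᵇ Y) (h : W ⥤ᵇ X) (f : X ⥤ᵇ Y)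
    (hh : AlgSt.RepByAlgSpWith P h) :
    ∃ m : FibCat.fp g (BasedFunctor.comp h f) ⥤ᵇ FibCat.fp g f, AlgSt.RepByAlgSpWith P m := by
  haveI : FibCat.IsFibGrpd (FibCat.fp g f).p := H9Fib.isFibGrpd_fp _ _
  haveI : FibCat.IsFibGrpd (FibCat.fp f g).p := H9Fib.isFibGrpd_fp _ _
  haveI : FibCat.IsFibGrpd (FibCat.fp g (BasedFunctor.comp h f)).p := H9Fib.isFibGrpd_fp _ _
  haveI : FibCat.IsFibGrpd (FibCat.fp (BasedFunctor.comp h f) g).p := H9Fib.isFibGrpd_fp _ _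
  let s₁ := swapFun g (BasedFunctor.comp h f)
  let s₂ := swapFun f g
  refine ⟨BasedFunctor.comp (BasedFunctor.comp s₁ (bcFun h f g)) s₂, ?_⟩
  have h1 : AlgSt.RepByAlgSpWith P (BasedFunctor.comp s₁ (bcFun h f g)) :=
    (repByAlgSpWith_congr (f := bcFun h f g) (f' := BasedFunctor.comp s₁ (bcFun h f g)) s₁ (BasedFunctor.id _) (isEquivOver_swap _ _) (H9Fib.isEquivOver_id _) (Iso.refl _)).1
      (repWith_bcFun h f g hh)
  exact (repByAlgSpWith_congr (f := BasedFunctor.comp (BasedFunctor.comp s₁ (bcFun h f g)) s₂)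
    (f' := BasedFunctor.comp s₁ (bcFun h f g)) (BasedFunctor.id _) s₂ (H9Fib.isEquivOver_id _) (isEquivOver_swap f g)
    (Iso.refl _)).2 h1

/-- Atlases of fibre products. -/
theorem hasAtlas_fp2 {X Y Z : AlgSt.Cat S} [FibCat.IsFibGrpd X.p] [FibCat.IsFibGrpd Y.p] [FibCat.IsFibGrpd Z.p]
    {Q : MorphismProperty (AlgSp.Sp S)} [Q.RespectsIso] (hQ : Standard Q) (hle : AlgSp.LocP @Etale ≤ Q)
    (hsm : Q ≤ AlgSp.LocP @Smooth) (hXA : AlgSt.HasAtlas Q X) (hYA : AlgSt.HasAtlas Q Y)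
    (hΔ : AlgSt.RepByAlgSp1 (FibCat.diag (FibCat.toSelf Z))) (f : X ⥤ᵇ Z) (g : Y ⥤ᵇ Z) :
    AlgSt.HasAtlas Q (FibCat.fp f g) := by
  haveI : FibCat.IsFibGrpd (FibCat.fp f g).p := H9Fib.isFibGrpd_fp _ _
  obtain ⟨U, x, hx, hxs⟩ := hXA
  obtain ⟨V, y, hy, hys⟩ := hYA
  haveI : FibCat.IsFibGrpd (FibCat.overCat U).p := isFibGrpd_overCat U
  haveI : FibCat.IsFibGrpd (FibCat.overCat V).p := isFibGrpd_overCat V
  let xf := BasedFunctor.comp x f
  let yg := BasedFunctor.comp y g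
  haveI : FibCat.IsFibGrpd (FibCat.fp xf yg).p := H9Fib.isFibGrpd_fp _ _
  haveI : FibCat.IsFibGrpd (FibCat.fp xf g).p := H9Fib.isFibGrpd_fp _ _
  have hA : AlgSt.RepByAlgSp (FibCat.fp xf yg) :=
    repByAlgSp_fp (rep1_from_space hΔ (repByAlgSp_overCat V) yg) (repByAlgSp_overCat U) xf
  let mR : FibCat.fp xf yg ⥤ᵇ FibCat.fp xf g :=
    BasedFunctor.comp (BasedFunctor.comp (swapFun xf yg) (bcFun y g xf)) (swapFun g xf)
  have key : ∀ {P : MorphismProperty (AlgSp.Sp S)}, AlgSt.RepByAlgSpWith P y → AlgSt.RepByAlgSpWith P mR := by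
    intro P hP
    haveI : FibCat.IsFibGrpd (FibCat.fp yg xf).p := H9Fib.isFibGrpd_fp _ _
    haveI : FibCat.IsFibGrpd (FibCat.fp g xf).p := H9Fib.isFibGrpd_fp _ _
    exact (repByAlgSpWith_congr (f := bcFun y g xf) (f' := mR) (swapFun xf yg) (swapFun xf g) (isEquivOver_swap _ _)
      (isEquivOver_swap _ _) (BasedNatIso.mkNatIso (Iso.refl _) fun w => IsHomLift.id
        ((BasedFunctor.comp (BasedFunctor.comp (swapFun xf yg) (bcFun y g xf)) (BasedFunctor.id _)).w_obj w))).1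
      (repWith_bcFun y g xf hP)
  haveI := respectsIso_isSurjectiveMor (S := S)
  refine hasAtlas_of_space hQ hle hsm hA (BasedFunctor.comp mR (bcFun x f g))
    (repWith_comp hQ (key hy) (repWith_bcFun x f g hx)) ?_
  have h1 : AlgSt.RepByAlgSpWith Q (BasedFunctor.comp mR (bcFun x f g)) :=
    repWith_comp hQ (key hy) (repWith_bcFun x f g hx)
  intro W w
  obtain ⟨F, e, he, -⟩ := h1 W w
  haveI : FibCat.IsFibGrpd (FibCat.overCat W).p := isFibGrpd_overCat W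
  refine ⟨F, e, he, isSurjectiveMor_of_isSurjective (fun q => ?_) he⟩
  obtain ⟨q₁, rfl⟩ := isSurjective_of_rep (repWith_bcFun x f g hxs) q
  obtain ⟨q₀, rfl⟩ := isSurjective_of_rep (key hys) q₁
  exact ⟨q₀, (points_map_comp _ _ _).symm⟩


/-- Fibre products of algebraic stacks. -/
theorem isAlgStack_fp {X Y Z : AlgSt.Cat S} {K : Precoverage Scheme.{u}} (hX : AlgSt.IsAlgStack K X)
    (hY : AlgSt.IsAlgStack K Y) (hZ : Stk.IsPrestack (QuotSh.J K S) Z)
    (hΔ : AlgSt.RepByAlgSp1 (FibCat.diag (FibCat.toSelf Z))) (f : X ⥤ᵇ Z) (g : Y ⥤ᵇ Z) :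
    AlgSt.IsAlgStack K (FibCat.fp f g) := by
  haveI := hX.isStack.1; haveI := hY.isStack.1; haveI := hZ.1
  haveI : FibCat.IsFibGrpd (FibCat.selfOver (Over S)).p := isFibGrpd_selfOver
  haveI : FibCat.IsFibGrpd (FibCat.fp f g).p := H9Fib.isFibGrpd_fp _ _
  have hst := H9Stk.isStack_fp (F := f) (G := g) _ hX.isStack hY.isStack hZ
  refine ⟨hst, ?_, ?_⟩
  · have h1 := (repByAlgSp1_iff_with _).1 (rep1_diag g hY.diag hΔ)
    have h2 := repWith_diag_comp standard_top (repWith_diag_fpFst f g h1)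
      ((repByAlgSp1_iff_with _).1 hX.diag)
    have h3 : ∀ {P : MorphismProperty (AlgSp.Sp S)} {t : FibCat.fp f g ⥤ᵇ FibCat.selfOver (Over S)},
        t = FibCat.toSelf (FibCat.fp f g) → AlgSt.RepByAlgSpWith P (FibCat.diag t) →
          AlgSt.RepByAlgSpWith P (FibCat.diag (FibCat.toSelf (FibCat.fp f g))) := fun e h => e ▸ h
    haveI : FibCat.IsFibGrpd (FibCat.fp (FibCat.toSelf (FibCat.fp f g)) (FibCat.toSelf (FibCat.fp f g))).p :=
      H9Fib.isFibGrpd_fp _ _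
    replace h2 := h3 (comp_toSelf (FibCat.fpFst f g)) h2
    exact (repByAlgSp1_iff_with _).2 h2
  · exact hasAtlas_fp2 standard_smooth (fun _ _ _ h => ASp.locP_mono
      (fun _ _ q (_ : Etale q) => (inferInstance : Smooth q)) h) le_rfl hX.atlas hY.atlas hΔ f g

end Groth.Agent.H9St
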