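import Groth.Agent.Lib.H9StFib
import Groth.Prelude.Def_AlgSt
/-! Automorphism presheaf of an object of a stack in groupoids: restriction, gluing and twisted objects. -/

set_option autoImplicit false
set_option linter.style.haveILetI false
set_option backward.isDefEq.respectTransparency.types false

set_option linter.unusedVariables false

universe v₂ u₂ v u

open CategoryTheory CategoryTheory.Functor

namespace Groth.Agent.H9St

variable {C : Type u} [Category.{v} C] {X : BasedCategory.{v₂, u₂} C} [hX : FibCat.IsFibGrpd X.p]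
  {U : C} (M : FibCat.overCat U ⥤ᵇ X)

/-- The underlying functor on `Over U`. -/
abbrev fn : Over U ⥤ X.obj := M.toFunctor

/-- Vertical endomorphisms of the value of `M` at `a`. -/
abbrev VAut (a : Over U) := {s : (fn M).obj a ⟶ (fn M).obj a // X.p.IsHomLift (𝟙 a.left) s}

noncomputable instance (a : Over U) : Group (VAut M a) where
  mul s t := ⟨s.1 ≫ t.1, by have := s.2; have := t.2; infer_instance⟩
  one := ⟨𝟙 _, IsHomLift.id (M.w_obj a)⟩
  inv s :=
    haveI := s.2
    haveI := isIso_of_lift_id (U := a.left) s.1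
    ⟨inv s.1, IsHomLift.lift_id_inv_isIso X.p a.left s.1⟩
  mul_assoc s t r := Subtype.ext (Category.assoc _ _ _)
  one_mul s := Subtype.ext (Category.id_comp _)
  mul_one s := Subtype.ext (Category.comp_id _)
  inv_mul_cancel s := Subtype.ext (by
    haveI := s.2
    haveI := isIso_of_lift_id (U := a.left) s.1
    exact IsIso.inv_hom_id s.1)

theorem vaut_one_val (a : Over U) : (1 : VAut M a).1 = 𝟙 _ := rfl

theorem vaut_mul_val {a : Over U} (s t : VAut M a) : (s * t).1 = s.1 ≫ t.1 := rfl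

omit hX in
theorem lift_overMap {a b : Over U} (k : a ⟶ b) : X.p.IsHomLift k.left ((fn M).map k) := lift_map M k

theorem vaut_res_aux {a b : Over U} (k : a ⟶ b) (s : VAut M b) :
    ∃! χ : (fn M).obj a ⟶ (fn M).obj a, X.p.IsHomLift (𝟙 a.left) χ ∧ χ ≫ (fn M).map k = (fn M).map k ≫ s.1 := by
  haveI := lift_overMap M k
  haveI := s.2
  have h : X.p.IsHomLift (𝟙 a.left ≫ k.left) ((fn M).map k ≫ s.1) := by
    rw [Category.id_comp, ← Category.comp_id k.left]
    exact IsHomLift.comp X.p k.left (𝟙 b.left) _ _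
  exact @existsUnique_desc C _ X _ _ _ _ _ _ _ (𝟙 a.left) k.left ((fn M).map k) inferInstance _ h

/-- Restriction of a vertical endomorphism. -/
noncomputable def res {a b : Over U} (k : a ⟶ b) (s : VAut M b) : VAut M a :=
  ⟨(vaut_res_aux M k s).choose, (vaut_res_aux M k s).choose_spec.1.1⟩

theorem res_spec {a b : Over U} (k : a ⟶ b) (s : VAut M b) :
    (res M k s).1 ≫ (fn M).map k = (fn M).map k ≫ s.1 := (vaut_res_aux M k s).choose_spec.1.2

theorem res_unique {a b : Over U} (k : a ⟶ b) (s : VAut M b) (χ : VAut M a)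
    (h : χ.1 ≫ (fn M).map k = (fn M).map k ≫ s.1) : χ = res M k s :=
  Subtype.ext ((vaut_res_aux M k s).choose_spec.2 χ.1 ⟨χ.2, h⟩)

theorem res_id {a : Over U} (s : VAut M a) : res M (𝟙 a) s = s :=
  (res_unique M (𝟙 a) s s (by simp)).symm

theorem res_comp {a b c : Over U} (k : a ⟶ b) (l : b ⟶ c) (s : VAut M c) :
    res M (k ≫ l) s = res M k (res M l s) := by
  refine (res_unique M (k ≫ l) s _ ?_).symm
  rw [(fn M).map_comp, ← Category.assoc, res_spec, Category.assoc, res_spec, Category.assoc]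

theorem res_mul {a b : Over U} (k : a ⟶ b) (s t : VAut M b) :
    res M k (s * t) = res M k s * res M k t := by
  refine (res_unique M k _ _ ?_).symm
  rw [vaut_mul_val, vaut_mul_val, Category.assoc, res_spec, ← Category.assoc, res_spec, Category.assoc]

theorem res_one {a b : Over U} (k : a ⟶ b) : res M k (1 : VAut M b) = 1 :=
  (res_unique M k 1 1 (by simp [vaut_one_val])).symm

theorem res_inv {a b : Over U} (k : a ⟶ b) (s : VAut M b) : res M k s⁻¹ = (res M k s)⁻¹ :=
  eq_inv_of_mul_eq_one_left (by rw [← res_mul, inv_mul_cancel, res_one])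

theorem res_bijective {a b : Over U} (k : a ≅ b) : Function.Bijective (res M k.hom) :=
  ⟨fun s t h => by
    have := congrArg (res M k.inv) h
    rwa [← res_comp, ← res_comp, k.inv_hom_id, res_id, res_id] at this,
   fun s => ⟨res M k.inv s, by rw [← res_comp, k.hom_inv_id, res_id]⟩⟩

omit U in
theorem cancel_mono_assoc_helper {W' W : C} {a b : X.obj} {k : W' ⟶ W} {φ : a ⟶ b} (_ : X.p.IsHomLift k φ)
    {s t : a ⟶ a} (hs : X.p.IsHomLift (𝟙 W') s) (ht : X.p.IsHomLift (𝟙 W') t) (h : s ≫ φ = t ≫ φ) : s = t :=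
  @hom_ext C _ X _ _ _ _ _ _ (𝟙 W') s t hs ht φ h

section Glue

variable {Z : C} (π : Z ⟶ U)

/-- The object of `C/U` of an arrow into `Z`. -/
abbrev up {W : C} (f : W ⟶ Z) : Over U := Over.mk (f ≫ π)

/-- The morphism of `C/U` of a factorisation. -/
abbrev upMap {W' W : C} (f : W' ⟶ Z) (g : W ⟶ Z) (k : W' ⟶ W) (h : k ≫ g = f) : up π f ⟶ up π g :=
  Over.homMk k (by simp only [Over.mk_hom]; rw [← Category.assoc, h])

/-- The pullback of `M` to `C/Z`. -/
noncomputable def pullFun : FibCat.overCat Z ⥤ᵇ X :=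
  BasedFunctor.comp (show FibCat.overCat Z ⥤ᵇ FibCat.overCat U from
    { toFunctor := Over.map π, w := rfl }) M

omit hX in
theorem pullFun_obj (a : Over Z) : (pullFun M π).obj a = (fn M).obj (up π a.hom) := rfl

omit hX in
theorem pullFun_map {a b : Over Z} (k : a ⟶ b) :
    (pullFun M π).map k = (fn M).map (upMap π a.hom b.hom k.left (Over.w k)) := rfl

/-- Vertical endomorphisms glue uniquely along a sieve for which `X` is a prestack. -/
theorem existsUnique_glue {R : Sieve Z} (hp : Stk.IsPrestackFor R X)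
    (s : ∀ {W : C} (f : W ⟶ Z), R f → VAut M (up π f))
    (hs : ∀ {W' W : C} (f : W' ⟶ Z) (g : W ⟶ Z) (hf : R f) (hg : R g) (k : W' ⟶ W) (h : k ≫ g = f),
      res M (upMap π f g k h) (s g hg) = s f hf) :
    ∃! t : VAut M (up π (𝟙 Z)), ∀ {W : C} (f : W ⟶ Z) (hf : R f),
      res M (upMap π f (𝟙 Z) f (Category.comp_id f)) t = s f hf := by
  obtain ⟨hful, hfai⟩ := hp
  let G := pullFun M π
  obtain ⟨τ, hτ⟩ := exists_natTrans ((Stk.resSieve R X).obj G) ((Stk.resSieve R X).obj G)
    (fun a => (s a.obj.hom a.property).1) (fun a => (s a.obj.hom a.property).2) (fun a b k => by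
      show (fn M).map (upMap π a.obj.hom b.obj.hom k.hom.left (Over.w k.hom)) ≫ (s b.obj.hom b.property).1 =
        (s a.obj.hom a.property).1 ≫ (fn M).map (upMap π a.obj.hom b.obj.hom k.hom.left (Over.w k.hom))
      rw [← hs a.obj.hom b.obj.hom a.property b.property k.hom.left (Over.w k.hom), res_spec])
  obtain ⟨T, hT⟩ := (Stk.resSieve R X).map_surjective τ
  have key : ∀ (u : VAut M (up π (𝟙 Z))), (∀ {W : C} (f : W ⟶ Z) (hf : R f),
      res M (upMap π f (𝟙 Z) f (Category.comp_id f)) u = s f hf) →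
      ∃ S : G ⟶ G, S.toNatTrans.app (Over.mk (𝟙 Z)) = u.1 ∧ (Stk.resSieve R X).map S = τ := by
    intro u hu
    let r : ∀ a : Over Z, VAut M (up π a.hom) := fun a =>
      res M (upMap π a.hom (𝟙 Z) a.hom (Category.comp_id _)) u
    obtain ⟨S, hS⟩ := exists_natTrans G G (fun a => (r a).1) (fun a => (r a).2) (fun a b k => by
      show (fn M).map (upMap π a.hom b.hom k.left (Over.w k)) ≫ (r b).1 =
        (r a).1 ≫ (fn M).map (upMap π a.hom b.hom k.left (Over.w k))
      have : r a = res M (upMap π a.hom b.hom k.left (Over.w k)) (r b) := by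
        simp only [r]; rw [← res_comp]; congr 1
        exact Over.OverMorphism.ext (Over.w k).symm
      rw [this, res_spec])
    refine ⟨S, ?_, ?_⟩
    · rw [hS]
      have : upMap π (Over.mk (𝟙 Z)).hom (𝟙 Z) (Over.mk (𝟙 Z)).hom (Category.comp_id _) =
          𝟙 (up π (𝟙 Z)) := Over.OverMorphism.ext rfl
      show (res M _ u).1 = _
      exact congrArg Subtype.val ((congrArg (fun k => res M k u) this).trans (res_id M u))
    · refine BasedNatTrans.homCategory.ext _ _ (NatTrans.ext (funext fun a => ?_))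
      show S.toNatTrans.app a.obj = τ.toNatTrans.app a
      rw [hS, hτ]
      exact congrArg Subtype.val (hu a.obj.hom a.property)
  refine ⟨⟨T.toNatTrans.app (Over.mk (𝟙 Z)), T.isHomLift' (Over.mk (𝟙 Z))⟩, fun {W} f hf => ?_, fun u hu => ?_⟩
  · have h1 : ((Stk.resSieve R X).map T).toNatTrans.app ⟨Over.mk f, hf⟩ = (s f hf).1 := by rw [hT, hτ]; rfl
    refine (res_unique M _ _ (s f hf) ?_).symm
    rw [← h1]
    exact (T.toNatTrans.naturality (Over.homMk f (Category.comp_id f) : Over.mk f ⟶ Over.mk (𝟙 Z))).symm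
  · obtain ⟨S, hS1, hS2⟩ := key u hu
    obtain rfl : S = T := (Stk.resSieve R X).map_injective (hS2.trans hT.symm)
    exact Subtype.ext hS1.symm

end Glue

section Twist

variable {Z : C} (π : Z ⟶ U)

omit hX in
theorem atM_aux {W : C} (f : W ⟶ Z) : X.p.obj ((fn M).obj (up π f)) = W := M.w_obj (up π f)

/-- The fibre object of `M` over an arrow into `Z`. -/
def atM {W : C} (f : W ⟶ Z) : X.p.Fiber W := ⟨(fn M).obj (up π f), atM_aux M π f⟩

variable (A B : Sieve Z)

/-- Twisting data on the overlap of two sieves. -/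
structure TwData where
  val : ∀ {W : C} (f : W ⟶ Z), A f → B f → VAut M (up π f)
  nat : ∀ {W' W : C} (f : W' ⟶ Z) (g : W ⟶ Z) (hA : A f) (hB : B f) (hA' : A g) (hB' : B g) (k : W' ⟶ W)
    (h : k ≫ g = f), res M (upMap π f g k h) (val g hA' hB') = val f hA hB

variable {M π A B}

/-- The trivial twist. -/
noncomputable def TwData.one : TwData M π A B where
  val := fun _ _ _ => 1
  nat := fun _ _ _ _ _ _ _ _ => res_one M _

open scoped Classical in
/-- The automorphism inserted on a morphism of the sieve. -/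
noncomputable def TwData.step (σ : TwData M π A B) {W' W : C} (f : W' ⟶ Z) (g : W ⟶ Z) : VAut M (up π f) :=
  if h : A f ∧ B f ∧ ¬ A g then σ.val f h.1 h.2.1 else 1

theorem step_self (σ : TwData M π A B) {W : C} (f : W ⟶ Z) : σ.step f f = 1 :=
  dif_neg fun h => h.2.2 h.1

theorem step_comp {R : Sieve Z} (hR : ∀ {W : C} (f : W ⟶ Z), R f → A f ∨ B f) (σ : TwData M π A B)
    {W'' W' W : C} (e : W'' ⟶ Z) (f : W' ⟶ Z) (g : W ⟶ Z) (hf : R f) (hg : R g) (k : W'' ⟶ W') (l : W' ⟶ W)
    (hk : k ≫ f = e) (hl : l ≫ g = f) :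
    σ.step e g = σ.step e f * res M (upMap π e f k hk) (σ.step f g) := by
  by_cases hAg : A g
  · have hAf : A f := hl ▸ A.downward_closed hAg l
    rw [TwData.step, dif_neg (fun h => h.2.2 hAg), TwData.step, dif_neg (fun h => h.2.2 hAf), TwData.step,
      dif_neg (fun h => h.2.2 hAg), res_one, mul_one]
  have hBf : B f := hl ▸ B.downward_closed ((hR g hg).resolve_left hAg) l
  have hBe : B e := hk ▸ B.downward_closed hBf k
  by_cases hAf : A f
  · have hAe : A e := hk ▸ A.downward_closed hAf k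
    rw [TwData.step, dif_pos ⟨hAe, hBe, hAg⟩, TwData.step, dif_neg (fun h => h.2.2 hAf), TwData.step,
      dif_pos ⟨hAf, hBf, hAg⟩, one_mul, σ.nat e f]
  · have h1 : σ.step f g = 1 := dif_neg fun h => hAf h.1
    rw [h1, res_one, mul_one]
    unfold TwData.step
    by_cases hAe : A e
    · rw [dif_pos ⟨hAe, hBe, hAg⟩, dif_pos ⟨hAe, hBe, hAf⟩]
    · rw [dif_neg (fun h => hAe h.1), dif_neg (fun h => hAe h.1)]

variable {R : Sieve Z} (hR : ∀ {W : C} (f : W ⟶ Z), R f → A f ∨ B f)

/-- The descent datum obtained by twisting `M` along `σ`. -/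
noncomputable def TwData.func (σ : TwData M π A B) : Stk.sieveCat R ⥤ᵇ X where
  toFunctor :=
    { obj := fun a => (fn M).obj (up π a.obj.hom)
      map := fun {a b} k =>
        (σ.step a.obj.hom b.obj.hom).1 ≫
          (fn M).map (upMap π a.obj.hom b.obj.hom k.hom.left (Over.w k.hom))
      map_id := fun a => by
        rw [step_self, vaut_one_val, Category.id_comp]
        exact (congrArg (fn M).map (Over.OverMorphism.ext rfl)).trans ((fn M).map_id _)
      map_comp := fun {a b c} k l => by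
        rw [step_comp hR σ a.obj.hom b.obj.hom c.obj.hom b.property c.property k.hom.left l.hom.left
          (Over.w k.hom) (Over.w l.hom), vaut_mul_val]
        have e : upMap π a.obj.hom c.obj.hom (k ≫ l).hom.left (Over.w (k ≫ l).hom) =
            upMap π a.obj.hom b.obj.hom k.hom.left (Over.w k.hom) ≫
              upMap π b.obj.hom c.obj.hom l.hom.left (Over.w l.hom) := Over.OverMorphism.ext rfl
        rw [e, (fn M).map_comp]
        simp only [Category.assoc]
        rw [← Category.assoc (res M _ _).1, res_spec, Category.assoc] }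
  w := by
    refine CategoryTheory.Functor.ext (fun a => atM_aux M π a.obj.hom) fun a b k => ?_
    have h1 := (σ.step a.obj.hom b.obj.hom).2
    have h2 := lift_overMap M (upMap π a.obj.hom b.obj.hom k.hom.left (Over.w k.hom))
    haveI : X.p.IsHomLift k.hom.left ((σ.step a.obj.hom b.obj.hom).1 ≫
        (fn M).map (upMap π a.obj.hom b.obj.hom k.hom.left (Over.w k.hom))) := by
      simpa using @IsHomLift.comp _ _ _ _ X.p _ _ _ _ _ _ (𝟙 a.obj.left) k.hom.left _ _ h1 h2
    exact IsHomLift.fac' X.p k.hom.left _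

/-- `y` is the object glued from the twist `σ`. -/
def TwData.IsTwist (σ : TwData M π A B) (y : X.p.Fiber Z) : Prop :=
  Nonempty ((Stk.resSieve R X).obj (yFun y) ≅ σ.func hR)

theorem exists_twist (hs : Stk.IsStackFor R X) (σ : TwData M π A B) : ∃ y, σ.IsTwist hR y := by
  haveI : (Stk.resSieve R X).IsEquivalence := hs
  obtain ⟨G, ⟨e⟩⟩ := Functor.EssSurj.mem_essImage (F := Stk.resSieve R X) (σ.func hR)
  obtain ⟨i⟩ := yFun_at G
  exact ⟨_, ⟨(Stk.resSieve R X).mapIso i.symm ≪≫ e⟩⟩

theorem twist_local {σ : TwData M π A B} {y : X.p.Fiber Z} (h : σ.IsTwist hR y) {W : C} (f : W ⟶ Z)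
    (hf : R f) : Nonempty (pb f y ≅ atM M π f) := by
  obtain ⟨e⟩ := h
  exact ⟨@fibIso C _ X _ W (pb f y) (atM M π f) (e.hom.toNatTrans.app ⟨Over.mk f, hf⟩)
    (e.hom.isHomLift' ⟨Over.mk f, hf⟩)⟩

/-- Equivalence of twisting data. -/
def Cob (R : Sieve Z) (σ σ' : TwData M π A B) : Prop :=
  ∃ γ : ∀ {W : C} (f : W ⟶ Z), R f → VAut M (up π f),
    ∀ {W' W : C} (f : W' ⟶ Z) (g : W ⟶ Z) (hf : R f) (hg : R g) (k : W' ⟶ W) (h : k ≫ g = f),
      σ.step f g * res M (upMap π f g k h) (γ g hg) = γ f hf * σ'.step f g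

theorem iso_yFun_of_iso {V : C} {y y' : X.p.Fiber V} (e : y ≅ y') : Nonempty (yFun y ≅ yFun y') := by
  haveI : X.p.IsHomLift (𝟙 V) e.hom.1 := e.hom.2
  have hq : ∀ a : Over V, X.p.IsHomLift (𝟙 a.left ≫ a.hom) (pbMap a.hom y ≫ e.hom.1) := fun a => by
    rw [Category.id_comp]; infer_instance
  choose t ht using fun a : Over V =>
    (@existsUnique_desc C _ X _ _ _ _ _ _ _ (𝟙 a.left) a.hom (pbMap a.hom y') inferInstance _ (hq a)).exists
  refine natIso_of_family _ _ t (fun a => (ht a).1) fun a b k => ?_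
  obtain ⟨h1, h2⟩ := yFun_map y k
  obtain ⟨h3, h4⟩ := yFun_map y' k
  have l1 := @IsHomLift.comp _ _ _ _ X.p _ _ _ _ _ _ k.left (𝟙 b.left) ((yFun y).map k) (t b) h1 (ht b).1
  have l2 := @IsHomLift.comp _ _ _ _ X.p _ _ _ _ _ _ (𝟙 a.left) k.left (t a) ((yFun y').map k) (ht a).1 h3
  rw [Category.comp_id] at l1
  rw [Category.id_comp] at l2
  refine @hom_ext C _ X _ _ _ _ _ _ k.left _ _ l1 l2 (pbMap b.hom y') ?_
  exact (Category.assoc _ _ _).trans ((congrArg ((yFun y).map k ≫ ·) (ht b).2).trans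
    ((Category.assoc _ _ _).symm.trans ((congrArg (· ≫ e.hom.1) h2).trans
      (((ht a).2.symm.trans (congrArg (t a ≫ ·) h4.symm)).trans (Category.assoc _ _ _).symm))))

theorem twist_iso_iff (hs : Stk.IsStackFor R X) {σ σ' : TwData M π A B} {y y' : X.p.Fiber Z}
    (h : σ.IsTwist hR y) (h' : σ'.IsTwist hR y') : Nonempty (y ≅ y') ↔ Cob R σ σ' := by
  obtain ⟨e⟩ := h
  obtain ⟨e'⟩ := h'
  constructor
  · rintro ⟨i⟩
    obtain ⟨j⟩ := iso_yFun_of_iso i
    let φ := e.symm ≪≫ (Stk.resSieve R X).mapIso j ≪≫ e'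
    refine ⟨fun f hf => ⟨φ.hom.toNatTrans.app ⟨Over.mk f, hf⟩, φ.hom.isHomLift' ⟨Over.mk f, hf⟩⟩,
      fun {W' W} f g hf hg k h => Subtype.ext ?_⟩
    let a : (Stk.sieveCat R).obj := ⟨Over.mk f, hf⟩
    let b : (Stk.sieveCat R).obj := ⟨Over.mk g, hg⟩
    have n := φ.hom.toNatTrans.naturality (ObjectProperty.homMk (Over.homMk k h) : a ⟶ b)
    refine (cancel_mono_assoc_helper (X := X) (lift_overMap M (upMap π f g k h)) ?_ ?_ ?_)
    · exact (σ.step f g * res M (upMap π f g k h) _).2
    · exact (_ * σ'.step f g).2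
    · rw [vaut_mul_val, vaut_mul_val, Category.assoc, res_spec, ← Category.assoc]
      exact n.trans (Category.assoc _ _ _).symm
  · rintro ⟨γ, hγ⟩
    haveI : (Stk.resSieve R X).IsEquivalence := hs
    obtain ⟨j⟩ := natIso_of_family (σ.func hR) (σ'.func hR) (fun a => (γ a.obj.hom a.property).1)
      (fun a => (γ a.obj.hom a.property).2) (fun a b k => by
        have n := congrArg Subtype.val (hγ a.obj.hom b.obj.hom a.property b.property k.hom.left (Over.w k.hom))
        rw [vaut_mul_val, vaut_mul_val] at n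
        exact (Category.assoc _ _ _).trans ((congrArg _ (res_spec M _ _).symm).trans
          ((Category.assoc _ _ _).symm.trans ((congrArg (· ≫ _) n).trans (Category.assoc _ _ _)))))
    have i := (Stk.resSieve R X).preimageIso (e ≪≫ j ≪≫ e'.symm)
    obtain ⟨p1⟩ := pb_id y
    obtain ⟨p2⟩ := pb_id y'
    exact ⟨p1.symm ≪≫ @fibIso C _ X _ Z (pb (𝟙 Z) y) (pb (𝟙 Z) y') (i.hom.toNatTrans.app (Over.mk (𝟙 Z)))
      (i.hom.isHomLift' (Over.mk (𝟙 Z))) ≪≫ p2⟩

theorem isTwist_one : (TwData.one (M := M) (π := π) (A := A) (B := B)).IsTwist hR (atM M π (𝟙 Z)) := by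
  obtain ⟨i⟩ := yFun_at (pullFun M π)
  obtain ⟨j⟩ := natIso_of_family ((Stk.resSieve R X).obj (pullFun M π))
    ((TwData.one (M := M) (π := π) (A := A) (B := B)).func hR) (fun a => 𝟙 ((fn M).obj (up π a.obj.hom)))
    (fun a => IsHomLift.id (M.w_obj (up π a.obj.hom))) (fun a b k => by
      have : (TwData.one (M := M) (π := π) (A := A) (B := B)).step a.obj.hom b.obj.hom = 1 := by
        unfold TwData.step TwData.one; split <;> rfl
      exact (Category.comp_id _).trans (((congrArg (fun t : VAut M (up π a.obj.hom) => t.1 ≫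
        (fn M).map (upMap π a.obj.hom b.obj.hom k.hom.left (Over.w k.hom))) this).trans
          (Category.id_comp _)).symm.trans (Category.id_comp _).symm))
  exact ⟨(Stk.resSieve R X).mapIso i.symm ≪≫ j⟩

end Twist

end Groth.Agent.H9St
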