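import Groth.Agent.Lib.H9StConst
/-! An isomorphism of presheaves of classes carries abelian automorphism sheaves to each other. -/

set_option autoImplicit false
set_option linter.style.haveILetI false
set_option linter.unusedVariables false
set_option linter.unusedSectionVars false
set_option backward.isDefEq.respectTransparency.types false

universe u

open CategoryTheory CategoryTheory.Limits AlgebraicGeometry Opposite
open Polynomial (C X evalRingHom)

noncomputable section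

namespace Groth.Agent.H9St

open H9Axes

variable {S : Scheme.{u}} {Xc Yc : AlgSt.Cat S} [hX : FibCat.IsFibGrpd Xc.p] [hY : FibCat.IsFibGrpd Yc.p] {T : Over S}

theorem AxMap.resG_cst {R R' : Type u} [CommRing R] [CommRing R'] {ι κ : Type} [Fintype ι] [DecidableEq ι] [Fintype κ]
    [DecidableEq κ] (m : AxMap R R' ι κ) {a : sBase R ⟶ T.left} {a' : sBase R' ⟶ T.left}
    (ha : Spec.map (CommRingCat.ofHom m.g) ≫ a = a') (M : FibCat.overCat T ⥤ᵇ Xc) (s : ι → VB M a) :
    m.resG ha M (fun i => cst M a (s i)) =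
      fun k => cst M a' (res M (obHom (Spec.map (CommRingCat.ofHom m.g)) ha) (s (m.f k))) := by
  funext k
  simp only [AxMap.resG, cst, toGm, toLine]
  rw [← res_comp, ← res_comp, ← res_comp, ← res_comp]
  congr 1
  refine ob_hom_ext ?_
  show Spec.map (CommRingCat.ofHom m.lam) ≫ jGm R ≫ qLine R =
    jGm R' ≫ qLine R' ≫ Spec.map (CommRingCat.ofHom m.g)
  simp only [jGm, qLine, ← Spec.map_comp, ← CommRingCat.ofHom_comp]
  rw [AxMap.lam, ← RingHom.comp_assoc, IsLocalization.Away.lift_comp, RingHom.comp_assoc]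
  congr 3
  exact RingHom.ext fun r => Polynomial.map_C m.g

variable (hsX : Stk.IsStack (QuotSh.J Scheme.fppfPrecoverage S) Xc)
  (hsY : Stk.IsStack (QuotSh.J Scheme.fppfPrecoverage S) Yc)
  (hdX : AlgSt.RepByAlgSpWith (AlgSp.IsSeparatedMor ⊓ AlgSp.IsQuasiCompactMor) (FibCat.diag (FibCat.toSelf Xc)))
  (hdY : AlgSt.RepByAlgSpWith (AlgSp.IsSeparatedMor ⊓ AlgSp.IsQuasiCompactMor) (FibCat.diag (FibCat.toSelf Yc)))
  (φ : IsoNat.FIso Xc Yc) (x : Xc.p.Fiber T) (y : Yc.p.Fiber T)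
  (hxy : φ.toEquiv T (IsoNat.cls x) = IsoNat.cls y)
  (habX : ∀ (b : Over T) (s t : VAut (yFun x) b), s * t = t * s)
  (habY : ∀ (b : Over T) (s t : VAut (yFun y) b), s * t = t * s)

include hsY in
theorem valRel_trans {R : Type u} [CommRing R] {ι : Type} [Fintype ι] [DecidableEq ι] {a : sBase R ⟶ T.left}
    {e : IsoNat.IsoCl Yc (axPair R ι a).dbl} {v w : ι → VG (yFun y) a} (hv : IsVal y a e v)
    (h : ValRel (yFun y) a v w) : IsVal y a e w := by
  obtain ⟨e', he'⟩ := exists_cls_isVal hsY y a w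
  rwa [(isVal_eq_iff hsY y a hv he').2 h]

include hsX hsY hxy in
theorem exists_cst_map {R : Type u} [CommRing R] {ι : Type} [Fintype ι] [DecidableEq ι] (a : sBase R ⟶ T.left)
    {d : IsoNat.IsoCl Xc (axPair R ι a).dbl} {s : ι → VB (yFun x) a} (h : IsVal x a d (fun i => cst _ a (s i))) :
    ∃ w : ι → VB (yFun y) a, IsVal y a (φ.toEquiv _ d) (fun i => cst _ a (w i)) := by
  refine exists_cst_of_inv a hsY y ?_ (inv_map a φ (inv_of_isVal_cst a hsX x h))
  rw [← hxy]; exact lTriv_map φ (lTriv_of_isVal x a h)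

include hsY in
/-- Normalising the last constant to one. -/
theorem isVal_norm {R : Type u} [CommRing R] {a : sBase R ⟶ T.left} {e : IsoNat.IsoCl Yc (axPair R (Fin 2) a).dbl}
    {w : Fin 2 → VB (yFun y) a} (h : IsVal y a e (fun i => cst _ a (w i))) :
    IsVal y a e (fun i => cst _ a (![w 0 * (w 1)⁻¹, 1] i)) := by
  refine valRel_trans hsY y h (valRel_cst y 1 (w 1)⁻¹ fun i => ?_)
  fin_cases i <;> simp

include hsY hdY habY in
theorem isVal_uniq {R : Type u} [CommRing R] {a : sBase R ⟶ T.left} {e : IsoNat.IsoCl Yc (axPair R (Fin 2) a).dbl}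
    {s t : VB (yFun y) a} (hs : IsVal y a e (fun i => cst _ a (![s, 1] i)))
    (ht : IsVal y a e (fun i => cst _ a (![t, 1] i))) : s = t := by
  obtain ⟨c, c', hc⟩ := eq_of_valRel_cst hdY y 0 ((isVal_eq_iff hsY y a hs ht).1 rfl)
  have h0 := hc 0
  have h1 := hc 1
  simp only [Matrix.cons_val_zero, Matrix.cons_val_one, Matrix.cons_val_fin_one, mul_one, one_mul] at h0 h1
  rw [h1, habY _ s c'] at h0
  exact (mul_left_cancel h0).symm

include hsX hsY hdY hxy habY in
theorem existsUnique_cor {R : Type u} [CommRing R] (a : sBase R ⟶ T.left) (s : VB (yFun x) a) :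
    ∃! s', ∀ d, IsVal x a d (fun i => cst _ a (![s, 1] i)) →
      IsVal y a (φ.toEquiv _ d) (fun i => cst _ a (![s', 1] i)) := by
  obtain ⟨d, hd⟩ := exists_cls_isVal hsX x a (fun i => cst _ a (![s, 1] i))
  obtain ⟨w, hw⟩ := exists_cst_map hsX hsY φ x y hxy a hd
  refine ⟨w 0 * (w 1)⁻¹, fun d' hd' => ?_, fun t ht => isVal_uniq hsY hdY y habY (ht d hd) (isVal_norm hsY y hw)⟩
  rw [(isVal_eq_iff hsX x a hd' hd).2 (valRel_cst x 1 1 fun i => by simp)]
  exact isVal_norm hsY y hw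

include hsX hsY hdY hxy habY in
/-- The transported automorphism over an affine scheme. -/
def psiA {R : Type u} [CommRing R] (a : sBase R ⟶ T.left) (s : VB (yFun x) a) : VB (yFun y) a :=
  (existsUnique_cor hsX hsY hdY φ x y hxy habY a s).choose

theorem psiA_spec {R : Type u} [CommRing R] (a : sBase R ⟶ T.left) (s : VB (yFun x) a) :
    ∀ d, IsVal x a d (fun i => cst _ a (![s, 1] i)) →
      IsVal y a (φ.toEquiv _ d) (fun i => cst _ a (![psiA hsX hsY hdY φ x y hxy habY a s, 1] i)) :=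
  (existsUnique_cor hsX hsY hdY φ x y hxy habY a s).choose_spec.1

theorem psiA_unique {R : Type u} [CommRing R] {a : sBase R ⟶ T.left} {s : VB (yFun x) a} {s' : VB (yFun y) a}
    {d : IsoNat.IsoCl Xc (axPair R (Fin 2) a).dbl} (hd : IsVal x a d (fun i => cst _ a (![s, 1] i)))
    (h : IsVal y a (φ.toEquiv _ d) (fun i => cst _ a (![s', 1] i))) : psiA hsX hsY hdY φ x y hxy habY a s = s' :=
  isVal_uniq hsY hdY y habY (psiA_spec hsX hsY hdY φ x y hxy habY a s d hd) h

include hsX in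
theorem isVal_ofFun {R : Type u} [CommRing R] {ι κ : Type} [Fintype ι] [DecidableEq ι] [Fintype κ] [DecidableEq κ]
    (f : κ → ι) {a : sBase R ⟶ T.left} {d : IsoNat.IsoCl Xc (axPair R ι a).dbl} {v : ι → VB (yFun x) a}
    (h : IsVal x a d (fun i => cst _ a (v i))) :
    IsVal x a (rc ((AxMap.ofFun R f).kZ (AxMap.ofFun_ha f a)) d) (fun k => cst _ a (v (f k))) := by
  have := (AxMap.ofFun R f).isVal_rc (AxMap.ofFun_ha f a) hsX x h
  rwa [AxMap.resG_ofFun] at this

theorem psiA_mul {R : Type u} [CommRing R] (a : sBase R ⟶ T.left) (s t : VB (yFun x) a) :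
    psiA hsX hsY hdY φ x y hxy habY a (s * t) =
      psiA hsX hsY hdY φ x y hxy habY a s * psiA hsX hsY hdY φ x y hxy habY a t := by
  obtain ⟨d, hd⟩ := exists_cls_isVal hsX x a (fun i => cst _ a (![s * t, t, 1] i))
  obtain ⟨w, hw⟩ := exists_cst_map hsX hsY φ x y hxy a hd
  have img : ∀ (f : Fin 2 → Fin 3), IsVal y a (φ.toEquiv _ (rc ((AxMap.ofFun R f).kZ (AxMap.ofFun_ha f a)) d))
      (fun i => cst _ a (![w (f 0) * (w (f 1))⁻¹, 1] i)) := fun f => by
    rw [fIso_rc]; exact isVal_norm hsY y (isVal_ofFun hsY y f hw)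
  have e1 : ∀ (f : Fin 2 → Fin 3) (r : VB (yFun x) a),
      (fun i => (![s * t, t, 1] : Fin 3 → VB (yFun x) a) (f i)) = ![r, 1] →
      psiA hsX hsY hdY φ x y hxy habY a r = w (f 0) * (w (f 1))⁻¹ := fun f r hr => by
    have := isVal_ofFun hsX x f hd
    rw [show (fun k => cst (yFun x) a ((![s * t, t, 1] : Fin 3 → VB (yFun x) a) (f k))) =
      fun i => cst _ a (![r, 1] i) from funext fun i => congrArg (cst (yFun x) a) (congr_fun hr i)] at this
    exact psiA_unique hsX hsY hdY φ x y hxy habY this (img f)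
  have p02 := e1 ![0, 2] (s * t) (by funext i; fin_cases i <;> rfl)
  have p12 := e1 ![1, 2] t (by funext i; fin_cases i <;> rfl)
  obtain ⟨d01, h01⟩ := exists_cls_isVal hsX x a (fun i => cst _ a (![s, 1] i))
  have hk := isVal_ofFun hsX x (![0, 1] : Fin 2 → Fin 3) hd
  have hd01 : rc ((AxMap.ofFun R (![0, 1] : Fin 2 → Fin 3)).kZ (AxMap.ofFun_ha _ a)) d = d01 := by
    refine (isVal_eq_iff hsX x a hk h01).2 (valRel_cst x 1 t⁻¹ fun i => ?_)
    fin_cases i <;> simp
  have p01 : psiA hsX hsY hdY φ x y hxy habY a s = w 0 * (w 1)⁻¹ :=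
    psiA_unique hsX hsY hdY φ x y hxy habY h01 (hd01 ▸ img ![0, 1])
  rw [p02, p12, p01]
  simp [mul_assoc]

theorem psiA_res {R R' : Type u} [CommRing R] [CommRing R'] (g : R →+* R') {a : sBase R ⟶ T.left}
    {a' : sBase R' ⟶ T.left} (ha : Spec.map (CommRingCat.ofHom g) ≫ a = a') (s : VB (yFun x) a) :
    psiA hsX hsY hdY φ x y hxy habY a' (res (yFun x) (obHom (Spec.map (CommRingCat.ofHom g)) ha) s) =
      res (yFun y) (obHom (Spec.map (CommRingCat.ofHom g)) ha) (psiA hsX hsY hdY φ x y hxy habY a s) := by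
  obtain ⟨d, hd⟩ := exists_cls_isVal hsX x a (fun i => cst _ a (![s, 1] i))
  have hg := psiA_spec hsX hsY hdY φ x y hxy habY a s d hd
  let m : AxMap R R' (Fin 2) (Fin 2) := AxMap.ofRing g (Fin 2)
  have h1 := m.isVal_rc (a := a) (a' := a') ha hsX x hd
  have h2 := m.isVal_rc (a := a) (a' := a') ha hsY y hg
  rw [m.resG_cst ha] at h1 h2
  rw [← fIso_rc] at h2
  refine psiA_unique hsX hsY hdY φ x y hxy habY (d := rc (m.kZ ha) d) ?_ ?_
  · convert h1 using 1
    funext k; congr 1; fin_cases k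
    · rfl
    · exact (res_one _ _).symm
  · convert h2 using 1
    funext k; congr 1; fin_cases k
    · rfl
    · exact (res_one _ _).symm

include hdX habX in
theorem psiA_symm {R : Type u} [CommRing R] (a : sBase R ⟶ T.left) (s : VB (yFun x) a) :
    psiA hsY hsX hdX (fIsoSymm φ) y x ((φ.toEquiv T).symm_apply_eq.2 hxy.symm) habX a
      (psiA hsX hsY hdY φ x y hxy habY a s) = s := by
  obtain ⟨d, hd⟩ := exists_cls_isVal hsX x a (fun i => cst _ a (![s, 1] i))
  refine psiA_unique hsY hsX hdX (fIsoSymm φ) y x _ habX (psiA_spec hsX hsY hdY φ x y hxy habY a s d hd) ?_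
  rwa [show (fIsoSymm φ).toEquiv _ (φ.toEquiv _ d) = d from (φ.toEquiv _).symm_apply_apply d]

end Groth.Agent.H9St

namespace Groth.Agent.H9St

variable {S : Scheme.{u}} {Xc Yc : AlgSt.Cat S} [hX : FibCat.IsFibGrpd Xc.p] [hY : FibCat.IsFibGrpd Yc.p] {T : Over S}
variable (hsX : Stk.IsStack (QuotSh.J Scheme.fppfPrecoverage S) Xc)
  (hsY : Stk.IsStack (QuotSh.J Scheme.fppfPrecoverage S) Yc)
  (hdX : AlgSt.RepByAlgSpWith (AlgSp.IsSeparatedMor ⊓ AlgSp.IsQuasiCompactMor) (FibCat.diag (FibCat.toSelf Xc)))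
  (hdY : AlgSt.RepByAlgSpWith (AlgSp.IsSeparatedMor ⊓ AlgSp.IsQuasiCompactMor) (FibCat.diag (FibCat.toSelf Yc)))
  (φ : IsoNat.FIso Xc Yc) (x : Xc.p.Fiber T) (y : Yc.p.Fiber T)
  (hxy : φ.toEquiv T (IsoNat.cls x) = IsoNat.cls y)
  (habX : ∀ (b : Over T) (s t : VAut (yFun x) b), s * t = t * s)
  (habY : ∀ (b : Over T) (s t : VAut (yFun y) b), s * t = t * s)

theorem psiA_map {R R' : Type u} [CommRing R] [CommRing R'] {f : sBase R ⟶ T.left} {h : sBase R' ⟶ T.left}
    (k : ob (T := T) h ⟶ ob f) (s : VB (yFun x) f) :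
    psiA hsX hsY hdY φ x y hxy habY h (res (yFun x) k s) = res (yFun y) k (psiA hsX hsY hdY φ x y hxy habY f s) := by
  let g : CommRingCat.of R ⟶ CommRingCat.of R' := Spec.preimage k.left.left
  have hg : Spec.map (CommRingCat.ofHom g.hom) = k.left.left := Spec.map_preimage _
  have ha : Spec.map (CommRingCat.ofHom g.hom) ≫ f = h := by
    rw [hg]; exact congrArg CommaMorphism.left (Over.w k)
  have hk : k = obHom (Spec.map (CommRingCat.ofHom g.hom)) ha := ob_hom_ext hg.symm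
  rw [hk]
  exact psiA_res hsX hsY hdY φ x y hxy habY g.hom ha s

/-- The map to the terminal object. -/
def top {R : Type u} [CommRing R] (f : sBase R ⟶ T.left) : ob (T := T) f ⟶ Over.mk (𝟙 T) :=
  Over.homMk (Over.homMk f rfl) (Category.comp_id _)

theorem top_unique {b : Over T} (k l : b ⟶ Over.mk (𝟙 T)) : k = l :=
  Over.OverMorphism.ext ((Category.comp_id _).symm.trans ((Over.w k).trans ((Over.w l).symm.trans (Category.comp_id _))))

include hsX hsY hdY hxy habY in
theorem existsUnique_glob (s : VAut (yFun x) (Over.mk (𝟙 T))) : ∃! s' : VAut (yFun y) (Over.mk (𝟙 T)),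
    ∀ (R : Type u) [CommRing R] (f : sBase R ⟶ T.left),
      res (yFun y) (top f) s' = psiA hsX hsY hdY φ x y hxy habY f (res (yFun x) (top f) s) := by
  classical
  let 𝒰 := T.left.affineCover
  let A : 𝒰.I₀ → Type u := fun i => Γ(𝒰.X i, ⊤)
  let g : ∀ i, sBase (A i) ⟶ T.left := fun i => (𝒰.X i).isoSpec.inv ≫ 𝒰.f i
  let V : 𝒰.I₀ → Over S := fun i => Over.mk (g i ≫ T.hom)
  let c : ∀ i, V i ⟶ T := fun i => Over.homMk (g i) rfl
  let R' : Sieve T := Sieve.generate (Presieve.ofArrows V c)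
  have hR' : R' ∈ QuotSh.J Scheme.fppfPrecoverage S T := by
    refine ASp.mem_of_openCover (W := V) c (fun i => ?_) (fun z => ?_) (fun i => ⟨_, 𝟙 _, c i, ⟨i⟩, Category.id_comp _⟩)
    · show IsOpenImmersion ((𝒰.X i).isoSpec.inv ≫ 𝒰.f i)
      infer_instance
    · obtain ⟨p, hp⟩ := 𝒰.covers z
      refine ⟨𝒰.idx z, (𝒰.X (𝒰.idx z)).isoSpec.hom p, ?_⟩
      show ((𝒰.X _).isoSpec.inv ≫ 𝒰.f _) _ = z
      rw [← Scheme.Hom.comp_apply, Iso.hom_inv_id_assoc]
      exact hp
  have hfac : ∀ {W : Over S} (f : W ⟶ T), R' f → ∃ (i : 𝒰.I₀) (m : W ⟶ V i), m ≫ c i = f := by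
    rintro W f ⟨_, m, _, ⟨i⟩, rfl⟩; exact ⟨i, m, rfl⟩
  have hup : ∀ {W : Over S} (i : 𝒰.I₀) (m : W ⟶ V i) (f : W ⟶ T) (h : m ≫ c i = f),
      m ≫ (ob (T := T) (g i)).hom = f ≫ 𝟙 T := fun i m f h => by rw [Category.comp_id, ← h]; rfl
  let val : ∀ i, VB (yFun y) (g i) := fun i =>
    psiA hsX hsY hdY φ x y hxy habY (g i) (res (yFun x) (top (g i)) s)
  let sec : ∀ {W : Over S} (f : W ⟶ T), R' f → VAut (yFun y) (up (𝟙 T) f) := fun f hf =>
    res (yFun y) (Over.homMk (hfac f hf).choose_spec.choose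
      (hup _ _ f (hfac f hf).choose_spec.choose_spec) : up (𝟙 T) f ⟶ ob (g (hfac f hf).choose))
      (val (hfac f hf).choose)
  have eq2 : ∀ {b : Over T} (i k : 𝒰.I₀) (m : b ⟶ ob (g i)) (l : b ⟶ ob (g k)),
      res (yFun y) m (val i) = res (yFun y) l (val k) := by
    intro b i k m l
    refine vaut_ext_affine hsY (yFun y) fun R _ f q _ => ?_
    rw [← res_comp, ← res_comp, ← psiA_map hsX hsY hdY φ x y hxy habY, ← psiA_map hsX hsY hdY φ x y hxy habY,
      ← res_comp, ← res_comp, top_unique ((q ≫ m) ≫ top (g i)) ((q ≫ l) ≫ top (g k))]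
  obtain ⟨t, ht, -⟩ := existsUnique_glue (yFun y) (𝟙 T) (isPrestackFor hsY hR') sec (by
    intro W' W f g' hf hg k h
    simp only [sec]
    rw [← res_comp]
    exact eq2 _ _ _ _)
  let ψ : up (𝟙 T) (𝟙 T) ≅ Over.mk (𝟙 T) :=
    Over.isoMk (Iso.refl _) (show 𝟙 T ≫ 𝟙 T = 𝟙 T ≫ 𝟙 T from rfl)
  have main : ∀ (R : Type u) [CommRing R] (f : sBase R ⟶ T.left),
      res (yFun y) (top f) (res (yFun y) ψ.inv t) = psiA hsX hsY hdY φ x y hxy habY f (res (yFun x) (top f) s) := by
    intro R _ f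
    refine vaut_ext_cover hsY (yFun y) (a := ob f) (ι := 𝒰.I₀)
      (V := fun i => ob (pullback.fst f (g i) ≫ f))
      (fun i => obHom (pullback.fst f (g i)) rfl)
      (fun i => (inferInstanceAs (IsOpenImmersion (pullback.fst f (g i))))) (fun z => ?_) (fun i => ?_)
    · obtain ⟨p, hp⟩ := 𝒰.covers (f z)
      obtain ⟨q, hq, -⟩ := Scheme.Pullback.exists_preimage_pullback z ((𝒰.X (𝒰.idx (f z))).isoSpec.hom p)
        (f := f) (g := g (𝒰.idx (f z))) (by
          show f z = ((𝒰.X _).isoSpec.inv ≫ 𝒰.f _) _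
          rw [← Scheme.Hom.comp_apply, Iso.hom_inv_id_assoc]
          exact hp.symm)
      exact ⟨𝒰.idx (f z), q, hq⟩
    · refine vaut_ext_affine hsY (yFun y) fun R₂ _ f₂ q _ => ?_
      let m : ob (T := T) (pullback.fst f (g i) ≫ f) ⟶ ob (g i) :=
        obHom (pullback.snd f (g i)) pullback.condition.symm
      have hf2 : R' (c i) := ⟨_, 𝟙 _, c i, ⟨i⟩, Category.id_comp _⟩
      let u : ob (T := T) (g i) ⟶ up (𝟙 T) (c i) :=
        Over.homMk (𝟙 _) ((Category.id_comp _).trans (Category.comp_id _))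
      have hu : res (yFun y) (u ≫ upMap (𝟙 T) (c i) (𝟙 T) (c i) (Category.comp_id _)) t = val i := by
        rw [res_comp, ht (c i) hf2]
        simp only [sec]
        rw [← res_comp, eq2 _ i _ (𝟙 _), res_id]
      rw [← res_comp, ← res_comp, ← res_comp, ← res_comp, ← psiA_map hsX hsY hdY φ x y hxy habY, ← res_comp]
      simp only [Category.assoc]
      rw [show q ≫ obHom (pullback.fst f (g i)) rfl ≫ top f ≫ ψ.inv =
        (q ≫ m) ≫ u ≫ upMap (𝟙 T) (c i) (𝟙 T) (c i) (Category.comp_id _) from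
          (cancel_mono ψ.hom).1 (top_unique _ _), res_comp, hu, ← psiA_map hsX hsY hdY φ x y hxy habY, ← res_comp,
        top_unique ((q ≫ m) ≫ top (g i)) (q ≫ obHom (pullback.fst f (g i)) rfl ≫ top f)]
  refine ⟨_, main, fun t' ht' => vaut_ext_affine hsY (yFun y) fun R _ f k _ => ?_⟩
  rw [top_unique k (top f), ht' R f, main R f]

/-- The transported automorphism. -/
def psiG (s : VAut (yFun x) (Over.mk (𝟙 T))) : VAut (yFun y) (Over.mk (𝟙 T)) :=
  (existsUnique_glob hsX hsY hdY φ x y hxy habY s).choose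

theorem psiG_spec (s : VAut (yFun x) (Over.mk (𝟙 T))) {R : Type u} [CommRing R] (f : sBase R ⟶ T.left) :
    res (yFun y) (top f) (psiG hsX hsY hdY φ x y hxy habY s) =
      psiA hsX hsY hdY φ x y hxy habY f (res (yFun x) (top f) s) :=
  (existsUnique_glob hsX hsY hdY φ x y hxy habY s).choose_spec.1 R f

theorem psiG_mul (s t : VAut (yFun x) (Over.mk (𝟙 T))) : psiG hsX hsY hdY φ x y hxy habY (s * t) =
    psiG hsX hsY hdY φ x y hxy habY s * psiG hsX hsY hdY φ x y hxy habY t :=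
  vaut_ext_affine hsY (yFun y) fun R _ f k _ => by
    rw [top_unique k (top f), res_mul, psiG_spec, psiG_spec, psiG_spec, res_mul, psiA_mul]

include hdX habX in
theorem psiG_symm (s : VAut (yFun x) (Over.mk (𝟙 T))) :
    psiG hsY hsX hdX (fIsoSymm φ) y x ((φ.toEquiv T).symm_apply_eq.2 hxy.symm) habX
      (psiG hsX hsY hdY φ x y hxy habY s) = s :=
  vaut_ext_affine hsX (yFun x) fun R _ f k _ => by
    rw [top_unique k (top f), psiG_spec, psiG_spec, psiA_symm hsX hsY hdX hdY φ x y hxy habX habY]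

/-- The automorphism of the object and its chosen pullback along the identity. -/
def autVIso (z : Xc.p.Fiber T) : (Aut z)ᵐᵒᵖ ≃* VAut (yFun z) (Over.mk (𝟙 T)) :=
  (MulEquiv.op (Aut.autMulEquivOfIso (pb_id z).some.symm)).trans
    { Equiv.ofBijective (fun s : (Aut (pb (𝟙 T) z))ᵐᵒᵖ => autToV z (Over.mk (𝟙 T)) s.unop)
        ((autToV_bijective z (Over.mk (𝟙 T))).comp MulOpposite.unop_bijective) with
      map_mul' := fun s t => autToV_mul z (Over.mk (𝟙 T)) t.unop s.unop }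

end Groth.Agent.H9St
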