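import Groth.Agent.Lib.H9StDouble
/-! Locally trivial classes on the doubled union of axes, by the values of their transition automorphisms. -/

set_option autoImplicit false
set_option linter.style.haveILetI false
set_option linter.unusedVariables false
set_option linter.unusedSectionVars false
set_option backward.isDefEq.respectTransparency.types false

universe u

open CategoryTheory CategoryTheory.Limits AlgebraicGeometry Opposite
open Polynomial (C X evalRingHom)

noncomputable section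

namespace Groth.Agent.H9St

open H9Axes

variable {S : Scheme.{u}}

/-- A scheme over `T.left` as an object of the slice. -/
abbrev ob {T : Over S} {V : Scheme.{u}} (f : V ⟶ T.left) : Over T :=
  Over.mk (Over.homMk f rfl : Over.mk (f ≫ T.hom) ⟶ T)

/-- A morphism of schemes over `T.left` in the slice. -/
abbrev obHom {T : Over S} {V' V : Scheme.{u}} {f' : V' ⟶ T.left} {f : V ⟶ T.left} (k : V' ⟶ V) (h : k ≫ f = f') :
    ob (T := T) f' ⟶ ob f :=
  Over.homMk (Over.homMk k (by show k ≫ f ≫ T.hom = f' ≫ T.hom; rw [← Category.assoc, h])) (Over.OverMorphism.ext h)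

theorem ob_hom_ext {T : Over S} {a b : Over T} {k l : a ⟶ b} (h : k.left.left = l.left.left) : k = l :=
  Over.OverMorphism.ext (Over.OverMorphism.ext h)

/-- The pair of an open immersion of schemes over `T.left`. -/
def mkPair {T : Over S} {W V : Scheme.{u}} (j : W ⟶ V) (hj : IsOpenImmersion j) (f : V ⟶ T.left) : OPair T where
  C := Over.mk (f ≫ T.hom)
  W := Over.mk ((j ≫ f) ≫ T.hom)
  pC := Over.homMk f rfl
  j := Over.homMk j (Category.assoc _ _ _).symm
  open' := hj

section Rings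

variable (R : Type u) [CommRing R] (ι : Type) [Fintype ι] [DecidableEq ι]

abbrev sAxes : Scheme.{u} := Spec (CommRingCat.of (axes R ι))
abbrev sPunct : Scheme.{u} := Spec (CommRingCat.of (punct R ι))
abbrev sLine : Scheme.{u} := Spec (CommRingCat.of (Polynomial R))
abbrev sGm : Scheme.{u} := Spec (CommRingCat.of (Localization.Away (X : Polynomial R)))
abbrev sBase : Scheme.{u} := Spec (CommRingCat.of R)

def jPunct : sPunct R ι ⟶ sAxes R ι := Spec.map (CommRingCat.ofHom (algebraMap (axes R ι) (punct R ι)))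

instance : IsOpenImmersion (jPunct R ι) := IsOpenImmersion.of_isLocalization (el R ι)

def qAxes : sAxes R ι ⟶ sBase R := Spec.map (CommRingCat.ofHom (const R ι))
def qLine : sLine R ⟶ sBase R := Spec.map (CommRingCat.ofHom (C : R →+* Polynomial R))
def jGm : sGm R ⟶ sLine R :=
  Spec.map (CommRingCat.ofHom (algebraMap (Polynomial R) (Localization.Away (X : Polynomial R))))
def zSec : sBase R ⟶ sLine R := Spec.map (CommRingCat.ofHom (evalRingHom (0 : R)))
def lin (i : ι) : sLine R ⟶ sAxes R ι := Spec.map (CommRingCat.ofHom (proj R ι i))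
def linP (i : ι) : sGm R ⟶ sPunct R ι := Spec.map (CommRingCat.ofHom (punctProj R ι i))
def ret (i : ι) : sAxes R ι ⟶ sLine R := Spec.map (CommRingCat.ofHom (retr R ι i))

theorem zSec_qLine : zSec R ≫ qLine R = 𝟙 _ := by
  simp only [zSec, qLine, ← Spec.map_comp, ← CommRingCat.ofHom_comp]
  rw [← Spec.map_id]; congr 1; ext r; simp

theorem lin_qAxes (i : ι) : lin R ι i ≫ qAxes R ι = qLine R := by
  simp only [lin, qAxes, qLine, ← Spec.map_comp, ← CommRingCat.ofHom_comp, proj_const]

theorem ret_qLine (i : ι) : ret R ι i ≫ qLine R = qAxes R ι := by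
  simp only [ret, qAxes, qLine, ← Spec.map_comp, ← CommRingCat.ofHom_comp, retr_comp_C]

theorem lin_ret_self (i : ι) : lin R ι i ≫ ret R ι i = 𝟙 _ := by
  simp only [lin, ret, ← Spec.map_comp, ← CommRingCat.ofHom_comp, proj_retr_self]
  exact Spec.map_id _

theorem lin_ret_ne {i k : ι} (h : k ≠ i) : lin R ι k ≫ ret R ι i = qLine R ≫ zSec R := by
  simp only [lin, ret, qLine, zSec, ← Spec.map_comp, ← CommRingCat.ofHom_comp, proj_retr_ne R ι h]

theorem zSec_lin (i k : ι) : zSec R ≫ lin R ι i = zSec R ≫ lin R ι k := by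
  simp only [zSec, lin, ← Spec.map_comp, ← CommRingCat.ofHom_comp, zero_proj R ι i k]

theorem linP_jPunct (i : ι) : linP R ι i ≫ jPunct R ι = jGm R ≫ lin R ι i := by
  simp only [linP, jPunct, jGm, lin, ← Spec.map_comp, ← CommRingCat.ofHom_comp, punctProj_comp]

def linPIso (i : ι) : sGm R ≅ Spec (CommRingCat.of (Localization.Away (idem R ι i))) :=
  Scheme.Spec.mapIso (RingEquiv.ofBijective _ (bijective_lift_idem R ι i)).toCommRingCatIso.op

theorem linP_eq (i : ι) : linP R ι i = (linPIso R ι i).hom ≫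
    Spec.map (CommRingCat.ofHom (algebraMap (punct R ι) (Localization.Away (idem R ι i)))) := by
  show _ = Spec.map (CommRingCat.ofHom (IsLocalization.Away.lift (idem R ι i) (isUnit_punctProj_idem R ι i) :
      Localization.Away (idem R ι i) →+* Localization.Away (X : Polynomial R))) ≫ _
  rw [← Spec.map_comp, ← CommRingCat.ofHom_comp, IsLocalization.Away.lift_comp]
  rfl

instance isOpenImmersion_linP (i : ι) : IsOpenImmersion (linP R ι i) := by
  haveI : IsOpenImmersion (Spec.map (CommRingCat.ofHom (algebraMap (punct R ι) (Localization.Away (idem R ι i))))) :=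
    IsOpenImmersion.of_isLocalization (idem R ι i)
  rw [linP_eq]; infer_instance

theorem range_linP (i : ι) : Set.range ⇑(linP R ι i) =
    (PrimeSpectrum.basicOpen (idem R ι i) : Set (PrimeSpectrum (punct R ι))) := by
  rw [linP_eq]
  refine (Set.range_comp (Spec.map (CommRingCat.ofHom (algebraMap (punct R ι) (Localization.Away (idem R ι i)))))
    (linPIso R ι i).hom).trans ?_
  rw [show Set.range ⇑(linPIso R ι i).hom = Set.univ from Set.range_eq_univ.2 fun z =>
    ⟨(linPIso R ι i).inv z, by rw [← Scheme.Hom.comp_apply, Iso.inv_hom_id]; rfl⟩, Set.image_univ]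
  exact PrimeSpectrum.localization_away_comap_range (Localization.Away (idem R ι i)) (idem R ι i)

theorem linP_cover (p : ↥(sPunct R ι)) : ∃ i, p ∈ Set.range ⇑(linP R ι i) := by
  by_contra hc
  simp only [not_exists, range_linP] at hc
  refine (p : PrimeSpectrum (punct R ι)).isPrime.ne_top ((Ideal.eq_top_iff_one _).2
    (sum_idem R ι ▸ Ideal.sum_mem _ fun q _ => ?_))
  by_contra hq
  exact hc q hq

theorem linP_disjoint {i k : ι} (h : i ≠ k) {p q : ↥(sGm R)} : linP R ι i p ≠ linP R ι k q := by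
  intro e
  have m1 : linP R ι i p ∈ Set.range ⇑(linP R ι i) := ⟨p, rfl⟩
  have m2 : linP R ι i p ∈ Set.range ⇑(linP R ι k) := ⟨q, e.symm⟩
  rw [range_linP] at m1 m2
  have : (linP R ι i p : PrimeSpectrum (punct R ι)) ∈ (PrimeSpectrum.basicOpen (idem R ι i) ⊓ PrimeSpectrum.basicOpen (idem R ι k) :
      TopologicalSpace.Opens (PrimeSpectrum (punct R ι))) := ⟨m1, m2⟩
  rw [← PrimeSpectrum.basicOpen_mul, idem_mul R ι h, PrimeSpectrum.basicOpen_zero] at this
  exact this.elim

end Rings

variable {Xc : AlgSt.Cat S} [hX : FibCat.IsFibGrpd Xc.p] {T : Over S}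

/-- The doubled union of axes over an affine scheme over `T`. -/
abbrev axPair (R : Type u) [CommRing R] (ι : Type) [Fintype ι] [DecidableEq ι] (a : sBase R ⟶ T.left) : OPair T :=
  mkPair (jPunct R ι) inferInstance (qAxes R ι ≫ a)

section Vals

variable (M : FibCat.overCat T ⥤ᵇ Xc) (hs : Stk.IsStack (QuotSh.J Scheme.fppfPrecoverage S) Xc)
  {R : Type u} [CommRing R] {ι : Type} [Fintype ι] [DecidableEq ι] (a : sBase R ⟶ T.left)

abbrev VB := VAut M (ob a)
abbrev VL := VAut M (ob (qLine R ≫ a))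
abbrev VG := VAut M (ob (jGm R ≫ qLine R ≫ a))

/-- The constant section on the line. -/
abbrev toLine (s : VB M a) : VL M a := res M (obHom (qLine R) rfl) s
/-- The restriction to the punctured line. -/
abbrev toGm (h : VL M a) : VG M a := res M (obHom (jGm R) rfl) h
/-- The value at the origin. -/
abbrev atZero (h : VL M a) : VB M a := res M (obHom (zSec R) (by rw [← Category.assoc, zSec_qLine, Category.id_comp])) h

theorem atZero_toLine (s : VB M a) : atZero M a (toLine M a s) = s := by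
  simp only [atZero, toLine]
  rw [← res_comp]
  refine Eq.trans ?_ (res_id M s)
  congr 1
  exact ob_hom_ext (zSec_qLine R)

variable (ι)

theorem linP_base (i : ι) : linP R ι i ≫ jPunct R ι ≫ qAxes R ι ≫ a = jGm R ≫ qLine R ≫ a := by
  rw [← Category.assoc, linP_jPunct, Category.assoc, ← Category.assoc (lin R ι i), lin_qAxes]

abbrev oLinP (i : ι) : ob (T := T) (jGm R ≫ qLine R ≫ a) ⟶ (axPair R ι a).oW :=
  Over.homMk (Over.homMk (linP R ι i) (by
      show linP R ι i ≫ (jPunct R ι ≫ qAxes R ι ≫ a) ≫ T.hom = (jGm R ≫ qLine R ≫ a) ≫ T.hom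
      rw [← Category.assoc, linP_base]))
    (Over.OverMorphism.ext (linP_base ι a i))

abbrev oLin (i : ι) : ob (T := T) (qLine R ≫ a) ⟶ (axPair R ι a).oC :=
  obHom (lin R ι i) (by rw [← Category.assoc, lin_qAxes])

/-- The values of an automorphism on the punctured axes. -/
def vals (u : VAut M (axPair R ι a).oW) (i : ι) : VG M a := res M (oLinP ι a i) u

/-- The values of an automorphism on the axes. -/
def valsC (g : VAut M (axPair R ι a).oC) (i : ι) : VL M a := res M (oLin ι a i) g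

variable {ι}

theorem vals_res_oj (g : VAut M (axPair R ι a).oC) (i : ι) :
    vals M ι a (res M (axPair R ι a).oj g) i = toGm M a (valsC M ι a g i) := by
  simp only [vals, valsC, toGm]
  rw [← res_comp, ← res_comp]
  congr 1
  exact ob_hom_ext (linP_jPunct R ι i)

theorem vals_mul (u u' : VAut M (axPair R ι a).oW) (i : ι) :
    vals M ι a (u * u') i = vals M ι a u i * vals M ι a u' i := res_mul _ _ _ _

theorem atZero_valsC (g : VAut M (axPair R ι a).oC) (i k : ι) :
    atZero M a (valsC M ι a g i) = atZero M a (valsC M ι a g k) := by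
  simp only [valsC, atZero]
  rw [← res_comp, ← res_comp]
  congr 1
  exact ob_hom_ext (zSec_lin R ι i k)

include hs in
theorem existsUnique_vals (v : ι → VG M a) : ∃! u : VAut M (axPair R ι a).oW, ∀ i, vals M ι a u i = v i := by
  classical
  let P := axPair R ι a
  let Gi : Over S := Over.mk ((jGm R ≫ qLine R ≫ a) ≫ T.hom)
  let c : ι → (Gi ⟶ P.W) := fun i => (oLinP ι a i).left
  let R' : Sieve P.W := Sieve.generate (Presieve.ofArrows (fun _ : ι => Gi) c)
  have hR' : R' ∈ QuotSh.J Scheme.fppfPrecoverage S P.W := by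
    refine ASp.mem_of_openCover (W := fun k : ULift.{u} ι => Gi) (fun k => c k.down)
      (fun k => inferInstanceAs (IsOpenImmersion (linP R ι k.down)))
      (fun p => (linP_cover R ι p).elim fun i hi => ⟨⟨i⟩, hi⟩)
      (fun k => ⟨_, 𝟙 _, c k.down, ⟨k.down⟩, Category.id_comp _⟩)
  have hfac : ∀ {V : Over S} (f : V ⟶ P.W), R' f → ∃ (i : ι) (m : V ⟶ Gi), m ≫ c i = f := by
    rintro V f ⟨_, m, _, ⟨i⟩, rfl⟩; exact ⟨i, m, rfl⟩
  have hup : ∀ {V : Over S} (i : ι) (m : V ⟶ Gi) (f : V ⟶ P.W) (h : m ≫ c i = f),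
      m ≫ (ob (T := T) (jGm R ≫ qLine R ≫ a)).hom = f ≫ P.j ≫ P.pC := fun i m f h => by
    rw [← h, Category.assoc]
    exact congrArg (m ≫ ·) (Over.w (oLinP ι a i)).symm
  let sec : ∀ {V : Over S} (f : V ⟶ P.W), R' f → VAut M (up (P.j ≫ P.pC) f) := fun f hf =>
    res M (Over.homMk (hfac f hf).choose_spec.choose
      (hup _ _ f (hfac f hf).choose_spec.choose_spec) : up (P.j ≫ P.pC) f ⟶ ob (jGm R ≫ qLine R ≫ a))
      (v (hfac f hf).choose)
  have emp : ∀ {V : Over S} {i k : ι} (m l : V ⟶ Gi), i ≠ k → m ≫ c i = l ≫ c k → IsEmpty ↥V.left :=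
    fun {V i k} m l hik h => ⟨fun p => linP_disjoint R ι hik (congrArg (fun r : V ⟶ P.W => r.left p) h)⟩
  have mono : ∀ {V : Over S} (i : ι) (m l : V ⟶ Gi), m ≫ c i = l ≫ c i → m = l := fun {V} i m l h => by
    exact Over.OverMorphism.ext ((cancel_mono (linP R ι i)).1 (congrArg CommaMorphism.left h))
  have key : ∀ {V : Over S} (f : V ⟶ P.W) (hf : R' f) (i : ι) (m : V ⟶ Gi) (h : m ≫ c i = f),
      sec f hf = res M (Over.homMk m (hup i m f h) : up (P.j ≫ P.pC) f ⟶ ob (jGm R ≫ qLine R ≫ a)) (v i) := by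
    intro V f hf i m h
    by_cases e : (hfac f hf).choose = i
    · subst e
      show res M _ _ = _
      congr 1
      exact Over.OverMorphism.ext (mono _ _ _ ((hfac f hf).choose_spec.choose_spec.trans h.symm))
    · exact vaut_subsingleton hs M
        (emp _ m e ((hfac f hf).choose_spec.choose_spec.trans h.symm)) _ _
  obtain ⟨t, ht, htu⟩ := existsUnique_glue M (P.j ≫ P.pC) (isPrestackFor hs hR') sec (by
    intro V' V f g hf hg k h
    obtain ⟨i, m, hm⟩ := hfac g hg
    rw [key g hg i m hm, key f hf i (k ≫ m) (by rw [Category.assoc, hm, h]), ← res_comp]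
    congr 1)
  let ψ : up (P.j ≫ P.pC) (𝟙 P.W) ≅ P.oW :=
    Over.isoMk (Iso.refl _) (by show 𝟙 _ ≫ P.j ≫ P.pC = 𝟙 _ ≫ P.j ≫ P.pC; rfl)
  have tr : ∀ (u : VAut M P.oW) {V : Over S} (f : V ⟶ P.W) (hf : R' f),
      (∀ i, vals M ι a u i = v i) → res M (upMap (P.j ≫ P.pC) f (𝟙 P.W) f (Category.comp_id f)) (res M ψ.hom u) = sec f hf := by
    intro u V f hf hu
    obtain ⟨i, m, hm⟩ := hfac f hf
    rw [key f hf i m hm, ← hu i]
    simp only [vals]
    rw [← res_comp, ← res_comp]
    congr 1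
    exact Over.OverMorphism.ext (((congrArg (f ≫ ·) rfl : _ = f ≫ 𝟙 _).trans (Category.comp_id f)).trans hm.symm)
  refine ⟨res M ψ.inv t, fun i => ?_, fun u hu => ?_⟩
  · have hf : R' (c i) := ⟨_, 𝟙 _, c i, ⟨i⟩, Category.id_comp _⟩
    have h := ht (c i) hf
    rw [key (c i) hf i (𝟙 Gi) (Category.id_comp _)] at h
    let e : ob (T := T) (jGm R ≫ qLine R ≫ a) ⟶ up (P.j ≫ P.pC) (c i) :=
      Over.homMk (𝟙 Gi) ((Category.id_comp _).trans (Over.w (oLinP ι a i)))
    have h' := congrArg (res M e) h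
    rw [← res_comp, ← res_comp] at h'
    refine Eq.trans ?_ (h'.trans ?_)
    · simp only [vals]; rw [← res_comp]
      congr 1
    · refine Eq.trans ?_ (res_id M (v i))
      congr 1
  · have := htu (res M ψ.hom u) (fun f hf => tr u f hf hu)
    rw [← this, ← res_comp, Iso.inv_hom_id, res_id]

include hs in
theorem vals_injective {u u' : VAut M (axPair R ι a).oW} (h : ∀ i, vals M ι a u i = vals M ι a u' i) : u = u' :=
  (existsUnique_vals M hs a (vals M ι a u')).unique h (fun _ => rfl)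

/-- Sections on the axes with the same value at the origin come from the union. -/
theorem exists_valsC (h : ι → VL M a) (h0 : ∀ i k, atZero M a (h i) = atZero M a (h k)) :
    ∃ g : VAut M (axPair R ι a).oC, ∀ i, valsC M ι a g i = h i := by
  classical
  rcases isEmpty_or_nonempty ι with he | ⟨⟨i₀⟩⟩
  · exact ⟨1, fun i => he.elim i⟩
  let c := atZero M a (h i₀)
  let cC : VAut M (axPair R ι a).oC := res M (obHom (qAxes R ι) rfl : (axPair R ι a).oC ⟶ ob a) c
  let r : ι → ((axPair R ι a).oC ⟶ ob (T := T) (qLine R ≫ a)) := fun i =>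
    obHom (ret R ι i) (by rw [← Category.assoc, ret_qLine])
  have hcC : ∀ i, valsC M ι a cC i = toLine M a c := fun i => by
    simp only [valsC, cC, toLine]; rw [← res_comp]; congr 1
    exact ob_hom_ext (lin_qAxes R ι i)
  have hr1 : ∀ i, valsC M ι a (res M (r i) (h i)) i = h i := fun i => by
    simp only [valsC]; rw [← res_comp]
    refine Eq.trans ?_ (res_id M (h i))
    congr 1
    exact ob_hom_ext (lin_ret_self R ι i)
  have hr2 : ∀ i k, k ≠ i → valsC M ι a (res M (r i) (h i)) k = toLine M a c := fun i k hik => by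
    simp only [valsC, c, h0 i₀ i, toLine, atZero]; rw [← res_comp, ← res_comp]; congr 1
    exact ob_hom_ext (lin_ret_ne R ι hik)
  suffices ∀ F : Finset ι, ∃ g : VAut M (axPair R ι a).oC,
      ∀ i, valsC M ι a g i = if i ∈ F then h i else toLine M a c by
    obtain ⟨g, hg⟩ := this Finset.univ
    exact ⟨g, fun i => by rw [hg i, if_pos (Finset.mem_univ i)]⟩
  intro F
  induction F using Finset.induction with
  | empty => exact ⟨cC, fun i => by rw [hcC i, if_neg (Finset.notMem_empty i)]⟩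
  | insert k F hk ih =>
    obtain ⟨g, hg⟩ := ih
    refine ⟨g * cC⁻¹ * res M (r k) (h k), fun i => ?_⟩
    have : valsC M ι a (g * cC⁻¹ * res M (r k) (h k)) i =
        valsC M ι a g i * (valsC M ι a cC i)⁻¹ * valsC M ι a (res M (r k) (h k)) i := by
      simp only [valsC, res_mul, res_inv]
    rw [this, hg i, hcC i]
    by_cases e : i = k
    · subst e
      rw [hr1, if_neg hk, if_pos (Finset.mem_insert_self _ _), mul_inv_cancel, one_mul]
    · rw [hr2 k i e]
      simp only [Finset.mem_insert, e, false_or]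
      rw [inv_mul_cancel_right]

variable (hd : AlgSt.RepByAlgSpWith (AlgSp.IsSeparatedMor ⊓ AlgSp.IsQuasiCompactMor) (FibCat.diag (FibCat.toSelf Xc)))

include hd in
theorem toGm_injective : Function.Injective (toGm M a) :=
  res_injective M hd inf_le_left _ (schDominant_of_injective _ (injective_away R))

theorem toGm_mul (h h' : VL M a) : toGm M a (h * h') = toGm M a h * toGm M a h' := res_mul _ _ _ _
theorem toGm_inv (h : VL M a) : toGm M a h⁻¹ = (toGm M a h)⁻¹ := res_inv _ _ _
theorem toGm_one : toGm M a 1 = 1 := res_one _ _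
theorem atZero_mul (h h' : VL M a) : atZero M a (h * h') = atZero M a h * atZero M a h' := res_mul _ _ _ _
theorem atZero_inv (h : VL M a) : atZero M a h⁻¹ = (atZero M a h)⁻¹ := res_inv _ _ _
theorem atZero_one : atZero M a 1 = 1 := res_one _ _
theorem toLine_mul (s t : VB M a) : toLine M a (s * t) = toLine M a s * toLine M a t := res_mul _ _ _ _
theorem toLine_inv (s : VB M a) : toLine M a s⁻¹ = (toLine M a s)⁻¹ := res_inv _ _ _
theorem toLine_one : toLine M a 1 = 1 := res_one _ _

/-- Equality of classes read on the values. -/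
def ValRel (v v' : ι → VG M a) : Prop :=
  ∃ h h' : ι → VL M a, (∀ i k, atZero M a (h i) = atZero M a (h k)) ∧
    (∀ i k, atZero M a (h' i) = atZero M a (h' k)) ∧ ∀ i, toGm M a (h i) * v' i = v i * toGm M a (h' i)

include hs in
theorem rel_iff_vals (u u' : VAut M (axPair R ι a).oW) :
    (∃ α β : VAut M (axPair R ι a).oC,
      res M (axPair R ι a).oj α * u' = u * res M (axPair R ι a).oj β) ↔
    ValRel M a (vals M ι a u) (vals M ι a u') := by
  constructor
  · rintro ⟨α, β, h⟩
    refine ⟨valsC M ι a α, valsC M ι a β, atZero_valsC M a α, atZero_valsC M a β, fun i => ?_⟩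
    rw [← vals_res_oj, ← vals_res_oj, ← vals_mul, ← vals_mul, h]
  · rintro ⟨h, h', h0, h0', e⟩
    obtain ⟨α, hα⟩ := exists_valsC M a h h0
    obtain ⟨β, hβ⟩ := exists_valsC M a h' h0'
    refine ⟨α, β, vals_injective M hs a fun i => ?_⟩
    rw [vals_mul, vals_mul, vals_res_oj, vals_res_oj, hα, hβ, e i]

end Vals

section Classes

variable (hs : Stk.IsStack (QuotSh.J Scheme.fppfPrecoverage S) Xc) (x : Xc.p.Fiber T)

/-- A class on a double is trivial on both copies. -/
def LTriv (P : OPair T) (c : IsoNat.IsoCl Xc T) (d : IsoNat.IsoCl Xc P.dbl) : Prop :=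
  rc P.inl d = rc P.inl (rc P.pZ c) ∧ rc P.inr d = rc P.inr (rc P.pZ c)

variable {R : Type u} [CommRing R] {ι : Type} [Fintype ι] [DecidableEq ι] (a : sBase R ⟶ T.left)

/-- The class is given by the values. -/
def IsVal (d : IsoNat.IsoCl Xc (axPair R ι a).dbl) (v : ι → VG (yFun x) a) : Prop :=
  ∃ y u, IsoNat.cls y = d ∧ IsTrans (yFun x) (axPair R ι a) y u ∧ vals (yFun x) ι a u = v

theorem exists_isVal {d : IsoNat.IsoCl Xc (axPair R ι a).dbl}
    (hd : LTriv (axPair R ι a) (IsoNat.cls x) d) : ∃ v, IsVal x a d v := by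
  obtain ⟨y, rfl⟩ := Quotient.exists_rep d
  have h1 : rc (axPair R ι a).inl (IsoNat.cls y) = rc (axPair R ι a).pC (IsoNat.cls x) := by
    rw [← OPair.inl_pZ, ← rc_comp]; exact hd.1
  have h2 : rc (axPair R ι a).inr (IsoNat.cls y) = rc (axPair R ι a).pC (IsoNat.cls x) := by
    rw [← OPair.inr_pZ, ← rc_comp]; exact hd.2
  rw [rc_cls, rc_cls] at h1 h2
  obtain ⟨e1⟩ := (cls_eq_iff _ _).1 h1
  obtain ⟨e2⟩ := (cls_eq_iff _ _).1 h2
  obtain ⟨u, hu⟩ := exists_isTrans_of_local (yFun x) (axPair R ι a) y ⟨e1.hom.1, e1.hom.2⟩ ⟨e2.hom.1, e2.hom.2⟩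
  exact ⟨_, y, u, rfl, hu, rfl⟩

theorem lTriv_of_isVal {d : IsoNat.IsoCl Xc (axPair R ι a).dbl} {v : ι → VG (yFun x) a} (h : IsVal x a d v) :
    LTriv (axPair R ι a) (IsoNat.cls x) d := by
  obtain ⟨y, u, rfl, ⟨ea, eb, χ, la, lb, -⟩, -⟩ := h
  constructor
  · rw [rc_comp, OPair.inl_pZ, rc_cls, rc_cls]
    exact (cls_eq_iff _ _).2 ⟨@fibIso _ _ Xc _ _ (pb (axPair R ι a).inl y) (pb (axPair R ι a).pC x) ea la⟩
  · rw [rc_comp, OPair.inr_pZ, rc_cls, rc_cls]
    exact (cls_eq_iff _ _).2 ⟨@fibIso _ _ Xc _ _ (pb (axPair R ι a).inr y) (pb (axPair R ι a).pC x) eb lb⟩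

include hs in
theorem exists_cls_isVal (v : ι → VG (yFun x) a) : ∃ d, IsVal x a d v := by
  obtain ⟨u, hu, -⟩ := existsUnique_vals (yFun x) hs a v
  obtain ⟨y, hy⟩ := exists_isTrans (yFun x) hs (axPair R ι a) u
  exact ⟨_, y, u, rfl, hy, funext hu⟩

include hs in
theorem isVal_eq_iff {d d' : IsoNat.IsoCl Xc (axPair R ι a).dbl} {v v' : ι → VG (yFun x) a}
    (h : IsVal x a d v) (h' : IsVal x a d' v') : d = d' ↔ ValRel (yFun x) a v v' := by
  obtain ⟨y, u, rfl, hu, rfl⟩ := h
  obtain ⟨y', u', rfl, hu', rfl⟩ := h'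
  rw [cls_eq_iff, trans_iso_iff (yFun x) _ hu hu' hs, rel_iff_vals (yFun x) hs a]

theorem isVal_one : IsVal x a (rc (axPair R ι a).pZ (IsoNat.cls x)) (fun _ => 1) := by
  refine ⟨pb (axPair R ι a).pZ x, 1, rfl, isTrans_one (yFun x) (axPair R ι a) _ (𝟙 (pb (axPair R ι a).pZ x).1)
    (IsHomLift.id (pb (axPair R ι a).pZ x).2), funext fun i => res_one _ _⟩

/-- A map of doubles. -/
def dblMap {P P' : OPair T} (kC : P'.C ⟶ P.C) (kW : P'.W ⟶ P.W) (hk : P'.j ≫ kC = kW ≫ P.j) : P'.dbl ⟶ P.dbl :=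
  P'.desc (kC ≫ P.inl) (kC ≫ P.inr) (by rw [reassoc_of% hk, reassoc_of% hk, P.condition])

theorem lTriv_rc {P P' : OPair T} (kC : P'.C ⟶ P.C) (kW : P'.W ⟶ P.W) (hk : P'.j ≫ kC = kW ≫ P.j)
    (hp : kC ≫ P.pC = P'.pC) {c : IsoNat.IsoCl Xc T} {d : IsoNat.IsoCl Xc P.dbl} (h : LTriv P c d) :
    LTriv P' c (rc (dblMap kC kW hk) d) := by
  constructor
  · rw [rc_comp, rc_comp, dblMap, OPair.inl_desc, OPair.inl_pZ, ← hp, ← OPair.inl_pZ, ← rc_comp, h.1, rc_comp,
      rc_comp, Category.assoc]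
  · rw [rc_comp, rc_comp, dblMap, OPair.inr_desc, OPair.inr_pZ, ← hp, ← OPair.inr_pZ, ← rc_comp, h.2, rc_comp,
      rc_comp, Category.assoc]

/-- Reindexing the axes and changing the base ring. -/
theorem exists_map_punct {R' : Type u} [CommRing R'] {κ : Type} [Fintype κ] [DecidableEq κ]
    (φ : axes R ι →+* axes R' κ) (hφ : φ (el R ι) = el R' κ) :
    ∃ ψ : punct R ι →+* punct R' κ, ψ.comp (algebraMap _ _) = (algebraMap _ _).comp φ := by
  refine ⟨IsLocalization.Away.lift (el R ι) (g := (algebraMap (axes R' κ) (punct R' κ)).comp φ) ?_,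
    IsLocalization.Away.lift_comp _ _⟩
  rw [RingHom.comp_apply, hφ]
  exact IsLocalization.Away.algebraMap_isUnit _

end Classes

end Groth.Agent.H9St
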