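import Groth.Agent.Lib.H9StRep2
import Groth.Agent.Lib.AlgSpLocal
/-! Charts and the topology on the points of an algebraic stack. -/

set_option autoImplicit false
set_option linter.style.haveILetI false
set_option linter.unusedVariables false
set_option linter.unusedSectionVars false
set_option backward.isDefEq.respectTransparency.types false

universe u

open CategoryTheory CategoryTheory.Limits AlgebraicGeometry Opposite

noncomputable section

namespace Groth.Agent.H9St

variable {S : Scheme.{u}} {X Y Z : AlgSt.Cat S}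

/-- The point of `U` under a field-valued point of `(Sch/U)`. -/
def val {U : Over S} (p : AlgSt.FPt (FibCat.overCat U)) : ↥U.left :=
  (eqToHom p.lies.symm ≫ p.obj.hom : Over.mk p.str ⟶ U).left (IsLocalRing.closedPoint p.K)

theorem eqToHom_collapse {C : Type*} [Category C] {A₀ A A' B' B T : C} (a : A₀ = A) (b : A = A') (m : A' ⟶ B')
    (c : B' = B) (d : B = T) (e : A₀ = A') (hT : B' = T) :
    eqToHom a ≫ (eqToHom b ≫ m ≫ eqToHom c) ≫ eqToHom d = eqToHom e ≫ m ≫ eqToHom hT := by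
  subst a b c d
  simp

theorem val_eq {U : Over S} (p : AlgSt.FPt (FibCat.overCat U)) {A : Over U} {T : Over S} (hA : A.left = T)
    (m : p.obj ⟶ A) :
    val p = (eqToHom hA.symm ≫ A.hom).left
      ((eqToHom p.lies.symm ≫ m.left ≫ eqToHom hA : Over.mk p.str ⟶ T).left (IsLocalRing.closedPoint p.K)) := by
  subst hA
  rw [val, ← Scheme.Hom.comp_apply, ← Over.comp_left]
  have e : (eqToHom p.lies.symm ≫ p.obj.hom : Over.mk p.str ⟶ U) =
      (eqToHom p.lies.symm ≫ m.left ≫ eqToHom (rfl : A.left = A.left)) ≫ eqToHom (rfl : A.left = A.left).symm ≫ A.hom := by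
    simp only [eqToHom_refl, Category.comp_id, Category.id_comp, Category.assoc]
    exact congrArg (eqToHom p.lies.symm ≫ ·) (Over.w m).symm
  exact congrArg (fun q : Over.mk p.str ⟶ U => q.left (IsLocalRing.closedPoint p.K)) e

/-- A field-valued point of `(Sch/U)` from a morphism. -/
def chartPt {U : Over S} {L : Type u} [Field L] {str : Spec (CommRingCat.of L) ⟶ S} (p : Over.mk str ⟶ U) :
    AlgSt.FPt (FibCat.overCat U) :=
  { K := L, str := str, obj := Over.mk p, lies := rfl }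

theorem val_chartPt {U : Over S} {L : Type u} [Field L] {str : Spec (CommRingCat.of L) ⟶ S} (p : Over.mk str ⟶ U) :
    val (chartPt p) = p.left (IsLocalRing.closedPoint L) :=
  congrArg (fun q : Over.mk str ⟶ U => q.left (IsLocalRing.closedPoint L)) (Category.id_comp p)

/-- The canonical field-valued point at a point of `U`. -/
def ptAt {U : Over S} (t : ↥U.left) : AlgSt.FPt (FibCat.overCat U) :=
  chartPt (L := ↥(U.left.residueField t))
    (Over.homMk (U.left.fromSpecResidueField t) rfl : Over.mk (U.left.fromSpecResidueField t ≫ U.hom) ⟶ U)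

theorem val_ptAt {U : Over S} (t : ↥U.left) : val (ptAt t) = t :=
  (val_chartPt _).trans (U.left.fromSpecResidueField_apply t _)

theorem ofChart_eq_map {U : Over S} (x : FibCat.overCat U ⥤ᵇ X) (t : ↥U.left) :
    AlgSt.Points.ofChart x t = AlgSt.Points.map x (AlgSt.Points.mk (ptAt t)) := rfl

theorem mk_eq_ptAt_val {U : Over S} (p : AlgSt.FPt (FibCat.overCat U)) :
    AlgSt.Points.mk p = AlgSt.Points.mk (ptAt (val p)) := by
  let q : Over.mk p.str ⟶ U := eqToHom p.lies.symm ≫ p.obj.hom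
  obtain ⟨⟨x, φ⟩, h⟩ : ∃ a, a = Scheme.SpecToEquivOfField p.K U.left q.left := ⟨_, rfl⟩
  have h1 : Spec.map φ ≫ U.left.fromSpecResidueField x = q.left := by
    have h' := congrArg (Scheme.SpecToEquivOfField p.K U.left).symm h
    rw [Equiv.symm_apply_apply] at h'
    exact h'
  have hx : val p = x := by
    show q.left (IsLocalRing.closedPoint p.K) = x
    rw [← h1]
    exact U.left.fromSpecResidueField_apply x _
  subst hx
  let g : Over.mk p.str ⟶ Over.mk (U.left.fromSpecResidueField (val p) ≫ U.hom) :=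
    Over.homMk (Spec.map φ) (by
      show Spec.map φ ≫ U.left.fromSpecResidueField _ ≫ U.hom = p.str
      rw [← Category.assoc, h1]; exact Over.w q)
  refine AlgSt.Points.sound ⟨p, 𝟙 _, (Over.homMk (eqToHom p.lies ≫ g) ?_ : p.obj ⟶ (ptAt (val p)).obj), trivial⟩
  have e : g ≫ (Over.homMk (U.left.fromSpecResidueField (val p)) rfl :
      Over.mk (U.left.fromSpecResidueField (val p) ≫ U.hom) ⟶ U) = q := Over.OverMorphism.ext h1
  show (eqToHom p.lies ≫ g) ≫ _ = p.obj.hom
  exact (Category.assoc _ _ _).trans ((congrArg (eqToHom p.lies ≫ ·) e).trans (by simp [q]))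

theorem map_mk_eq_ofChart {U : Over S} (x : FibCat.overCat U ⥤ᵇ X) (p : AlgSt.FPt (FibCat.overCat U)) :
    AlgSt.Points.map x (AlgSt.Points.mk p) = AlgSt.Points.ofChart x (val p) := by
  rw [ofChart_eq_map, ← mk_eq_ptAt_val]

theorem range_ofChart {U : Over S} (x : FibCat.overCat U ⥤ᵇ X) :
    Set.range (AlgSt.Points.ofChart x) = Set.range (AlgSt.Points.map x) := by
  ext z
  constructor
  · rintro ⟨t, rfl⟩; exact ⟨_, (ofChart_eq_map x t).symm⟩
  · rintro ⟨p, rfl⟩
    obtain ⟨p, rfl⟩ := AlgSt.Points.mk_surjective p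
    exact ⟨val p, (map_mk_eq_ofChart x p).symm⟩

theorem points_map_comp (f : X ⥤ᵇ Y) (g : Y ⥤ᵇ Z) (p : AlgSt.Points X) :
    AlgSt.Points.map g (AlgSt.Points.map f p) = AlgSt.Points.map (BasedFunctor.comp f g) p := by
  obtain ⟨p, rfl⟩ := AlgSt.Points.mk_surjective p
  rfl

variable [hX : FibCat.IsFibGrpd X.p] [hY : FibCat.IsFibGrpd Y.p]

theorem points_map_fp_comm (g : Z ⥤ᵇ Y) (f : X ⥤ᵇ Y) (w : AlgSt.Points (FibCat.fp g f)) :
    AlgSt.Points.map g (AlgSt.Points.map (FibCat.fpFst g f) w) =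
      AlgSt.Points.map f (AlgSt.Points.map (FibCat.fpSnd g f) w) := by
  obtain ⟨w, rfl⟩ := AlgSt.Points.mk_surjective w
  exact AlgSt.Points.sound ⟨(w.map (FibCat.fpFst g f)).map g, 𝟙 _, w.obj.obj.iso.hom, trivial⟩

/-- Lifting a chart through a representable morphism: the projection of a scheme covering a base change. -/
theorem exists_chart_fp' [hZ : FibCat.IsFibGrpd Z.p] {P : MorphismProperty (AlgSp.Sp S)} {x : Z ⥤ᵇ X}
    (hx : AlgSt.RepByAlgSpWith P x) {V : Over S} (g : FibCat.overCat V ⥤ᵇ X) :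
    ∃ (F : AlgSp.Sp S) (π : F ⟶ (AlgSp.yon S).obj V), AlgSp.IsAlgSpace F ∧ P π ∧
      ∀ (W : Over S) (a : (AlgSp.yon S).obj W ⟶ F), Function.Surjective (AlgSp.Points.ofPt a) →
      ∃ (h : W ⟶ V) (B : Z.p.Fiber W), a ≫ π = (AlgSp.yon S).map h ∧
      (∀ w, AlgSt.Points.ofChart g (h.left w) = AlgSt.Points.map x (AlgSt.Points.ofChart (yFun B) w)) ∧
      (∀ v q, AlgSt.Points.ofChart g v = AlgSt.Points.map x q →
        ∃ w, h.left w = v ∧ AlgSt.Points.ofChart (yFun B) w = q) := by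
  haveI hV : FibCat.IsFibGrpd (FibCat.overCat V).p := isFibGrpd_overCat V
  obtain ⟨F, E, hE, hP⟩ := hx V g
  set π := AlgSt.spMapOfOver (BasedFunctor.comp E (FibCat.fpFst g x)) with hπ
  refine ⟨F.obj, π, F.property, hP, fun W a has => ?_⟩
  let cW : (AlgSt.ofSp F.obj).obj := ⟨W, ASp.sec a⟩
  let eW := E.obj cW
  have hA : eW.obj.fst.left = W := E.w_obj cW
  have hB : Z.p.obj eW.obj.snd = W := (snd_base g x eW).trans hA
  let h : W ⟶ V := eqToHom hA.symm ≫ eW.obj.fst.hom
  let B : Z.p.Fiber W := ⟨eW.obj.snd, hB⟩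
  -- restrictions of the universal object
  have key : ∀ (r : AlgSt.FPt (AlgSt.ofSp F.obj)) (ψ : r.obj ⟶ cW),
      AlgSt.Points.map (FibCat.fpFst g x) (AlgSt.Points.map E (AlgSt.Points.mk r)) =
          AlgSt.Points.mk (ptAt (h.left ((eqToHom r.lies.symm ≫ ψ.hom).left (IsLocalRing.closedPoint r.K)))) ∧
      AlgSt.Points.map (FibCat.fpSnd g x) (AlgSt.Points.map E (AlgSt.Points.mk r)) =
          AlgSt.Points.ofChart (yFun B) ((eqToHom r.lies.symm ≫ ψ.hom).left (IsLocalRing.closedPoint r.K)) := by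
    intro r ψ
    refine ⟨?_, ?_⟩
    · refine (mk_eq_ptAt_val _).trans ?_
      congr 2
      refine (val_eq ((r.map E).map (FibCat.fpFst g x)) hA (E.map ψ).hom.fst).trans ?_
      refine congrArg (fun (q : Over.mk r.str ⟶ W) => h.left (q.left (IsLocalRing.closedPoint r.K))) ?_
      have e := Functor.congr_hom E.w ψ
      simp only [Functor.comp_map] at e
      show eqToHom _ ≫ (E.map ψ).hom.fst.left ≫ eqToHom _ = _
      erw [show (E.map ψ).hom.fst.left = (FibCat.fp g x).p.map (E.map ψ) from rfl, e]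
      refine (eqToHom_collapse (B' := W) (T := W) _ _ ψ.hom _ _ r.lies.symm rfl).trans ?_
      exact congrArg (eqToHom r.lies.symm ≫ ·) (Category.comp_id ψ.hom)
    · let q : Over.mk r.str ⟶ W := eqToHom r.lies.symm ≫ ψ.hom
      refine Eq.trans ?_ ((map_mk_eq_ofChart (yFun B) (chartPt q)).trans (congrArg _ (val_chartPt q)))
      let fz : Z.p.Fiber W := B
      have hl : Z.p.IsHomLift q (E.map ψ).hom.snd := by
        have e := Functor.congr_hom (BasedFunctor.comp E (FibCat.fpSnd g x)).w ψ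
        simp only [Functor.comp_map] at e
        refine IsHomLift.of_fac' _ _ _ ((((BasedFunctor.comp E (FibCat.fpSnd g x)).w_obj r.obj)).trans r.lies) hB ?_
        show Z.p.map ((BasedFunctor.comp E (FibCat.fpSnd g x)).map ψ) = _
        rw [e]; simp [q, cW]; rfl
      obtain ⟨χ, ⟨-, -⟩, -⟩ := @existsUnique_desc _ _ Z _ _ _ _ _ _ _ (𝟙 (Over.mk r.str)) q (pbMap q fz) _
        (E.map ψ).hom.snd (by rw [Category.id_comp]; exact hl)
      exact AlgSt.Points.sound ⟨(r.map E).map (FibCat.fpSnd g x), 𝟙 _, χ, trivial⟩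
  refine ⟨h, B, ?_, fun w => ?_, fun v q hvq => ?_⟩
  · refine ASp.sec.injective ?_
    rw [ASp.sec_comp]
    show π.hom.app (op cW.base) cW.sec = _
    rw [hπ, AlgSt.spMapOfOver_app]
    exact congrArg ULift.up (Category.id_comp h).symm
  · let i : Over.mk (W.left.fromSpecResidueField w ≫ W.hom) ⟶ W := Over.homMk (W.left.fromSpecResidueField w) rfl
    let r : AlgSt.FPt (AlgSt.ofSp F.obj) :=
      { K := ↥(W.left.residueField w), str := W.left.fromSpecResidueField w ≫ W.hom,
        obj := ⟨Over.mk (W.left.fromSpecResidueField w ≫ W.hom), F.obj.obj.map i.op (ASp.sec a)⟩, lies := rfl }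
    obtain ⟨h1, h2⟩ := key r (⟨i, rfl⟩ : r.obj ⟶ cW)
    have ev : (eqToHom r.lies.symm ≫ i).left (IsLocalRing.closedPoint r.K) = w :=
      (congrArg (fun q : Over.mk r.str ⟶ W => q.left (IsLocalRing.closedPoint r.K)) (Category.id_comp i)).trans
        (W.left.fromSpecResidueField_apply w _)
    rw [ev] at h1 h2
    rw [ofChart_eq_map, ← h1, points_map_fp_comm, h2]
  · obtain ⟨z, hz₁, hz₂⟩ := exists_fp_point x g (AlgSt.Points.mk (ptAt v)) q hvq
    obtain ⟨z, rfl⟩ := AlgSt.Points.mk_surjective z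
    obtain ⟨G, -, ⟨d⟩⟩ := hE
    let c := G.obj z.obj
    have hc : c.base = Over.mk z.str := (G.w_obj z.obj).trans z.lies
    let σ : F.obj.obj.obj (op (Over.mk z.str)) := F.obj.obj.map (eqToHom hc.symm).op c.sec
    obtain ⟨w, hw⟩ := has (AlgSp.Points.mk ⟨z.K, z.str, σ⟩)
    obtain ⟨R, _, str, a₁, b₁, e⟩ := AlgSp.Points.mk_eq_mk_iff.1 hw
    let r : AlgSt.FPt (AlgSt.ofSp F.obj) :=
      { K := R, str := str, obj := ⟨Over.mk str, F.obj.obj.map (b₁ ≫ eqToHom hc.symm).op c.sec⟩, lies := rfl }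
    let ψ : r.obj ⟶ cW := ⟨a₁ ≫ Over.homMk (W.left.fromSpecResidueField w) rfl, by
      show F.obj.obj.map _ (ASp.sec a) = F.obj.obj.map (b₁ ≫ eqToHom hc.symm).op c.sec
      rw [op_comp, op_comp, Functor.map_comp, Functor.map_comp]
      refine Eq.trans ?_ e
      refine congrArg (F.obj.obj.map a₁.op) ((ASp.sec_map a _).trans ?_)
      exact congrArg (fun i => a.hom.app _ ⟨i⟩) (Category.id_comp (Over.homMk (W.left.fromSpecResidueField w) rfl : Over.mk (W.left.fromSpecResidueField w ≫ W.hom) ⟶ W))⟩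
    obtain ⟨h1, h2⟩ := key r ψ
    have ev : (eqToHom r.lies.symm ≫ ψ.hom).left (IsLocalRing.closedPoint r.K) = w := by
      refine (congrArg (fun q : Over.mk r.str ⟶ W => q.left (IsLocalRing.closedPoint r.K)) (Category.id_comp _)).trans ?_
      exact W.left.fromSpecResidueField_apply w _
    rw [ev] at h1 h2
    have hEz : AlgSt.Points.map E (AlgSt.Points.mk r) = AlgSt.Points.mk z := by
      let δ : E.obj c ≅ z.obj := ((BasedNatTrans.forgetful _ _).mapIso d).app z.obj
      exact AlgSt.Points.sound ⟨r.map E, 𝟙 _,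
        E.map (⟨b₁ ≫ eqToHom hc.symm, rfl⟩ : r.obj ⟶ c) ≫ δ.hom, trivial⟩
    rw [hEz, hz₁] at h1
    rw [hEz, hz₂] at h2
    refine ⟨w, ?_, h2.symm⟩
    have hv : ∀ (s t : ↥V.left), AlgSt.Points.mk (ptAt s) = AlgSt.Points.mk (ptAt t) → s = t := by
      intro s t hst
      obtain ⟨r', m₁, m₂, -⟩ := mk_eq_mk.1 hst
      have e₁ := val_eq r' (rfl : (ptAt s).obj.left = (ptAt s).obj.left) m₁
      have e₂ := val_eq r' (rfl : (ptAt t).obj.left = (ptAt t).obj.left) m₂
      have c₁ : ∀ (t : ↥V.left) (y : ↥(ptAt t).obj.left.left), (eqToHom rfl ≫ (ptAt t).obj.hom).left y = t := fun t y =>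
        (congrArg (fun q : (ptAt t).obj.left ⟶ V => q.left y) (Category.id_comp _)).trans
          (V.left.fromSpecResidueField_apply t y)
      rw [c₁] at e₁ e₂
      exact e₁.symm.trans e₂
    exact (hv _ _ h1).symm

/-- Lifting a chart, with an etale atlas of the base change. -/
theorem exists_chart_fp [hZ : FibCat.IsFibGrpd Z.p] {P : MorphismProperty (AlgSp.Sp S)} {x : Z ⥤ᵇ X}
    (hx : AlgSt.RepByAlgSpWith P x) {V : Over S} (g : FibCat.overCat V ⥤ᵇ X) :
    ∃ (F : AlgSp.Sp S) (π : F ⟶ (AlgSp.yon S).obj V) (W : Over S) (a : (AlgSp.yon S).obj W ⟶ F) (h : W ⟶ V)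
      (B : Z.p.Fiber W), AlgSp.IsAlgSpace F ∧ P π ∧ AlgSp.RepWith @Etale a ∧ a ≫ π = (AlgSp.yon S).map h ∧
      (∀ w, AlgSt.Points.ofChart g (h.left w) = AlgSt.Points.map x (AlgSt.Points.ofChart (yFun B) w)) ∧
      (∀ v q, AlgSt.Points.ofChart g v = AlgSt.Points.map x q →
        ∃ w, h.left w = v ∧ AlgSt.Points.ofChart (yFun B) w = q) := by
  obtain ⟨F, π, hF, hP, H⟩ := exists_chart_fp' hx g
  obtain ⟨W, a, hae, has⟩ := hF.atlas
  obtain ⟨h, B, h1, h2, h3⟩ := H W a (ASp.surjective_ofPt_of_repWith has)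
  exact ⟨F, π, W, a, h, B, hF, hP, hae, h1, h2, h3⟩

end Groth.Agent.H9St
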