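import Groth.Agent.Lib.H9StFib
import Groth.Agent.Lib.AlgSpBasic
import Groth.Prelude.Def_AlgSt2
/-! Separated diagonal: vertical morphisms agreeing after a schematically dominant pullback agree. -/

set_option autoImplicit false
set_option linter.style.haveILetI false
set_option linter.unusedVariables false
set_option linter.unusedSectionVars false
set_option backward.isDefEq.respectTransparency.types false

universe u

open CategoryTheory CategoryTheory.Limits AlgebraicGeometry Opposite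

namespace Groth.Agent.H9St

variable {S : Scheme.{u}} {X : AlgSt.Cat S} [hX : FibCat.IsFibGrpd X.p]

/-- The morphism defined by a section over an object identified with `T`. -/
noncomputable def secMor {F : AlgSp.Sp S} {T : Over S} (c : (AlgSt.ofSp F).obj) (h : c.base = T) :
    (AlgSp.yon S).obj T ⟶ F :=
  ASp.sec.symm (F.obj.map (eqToHom h.symm).op c.sec)

theorem map_secMor {F : AlgSp.Sp S} {T' T : Over S} {c' c : (AlgSt.ofSp F).obj} (h' : c'.base = T')
    (h : c.base = T) (q : T' ⟶ T) (m : c' ⟶ c) [(AlgSt.ofSp F).p.IsHomLift q m] :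
    (AlgSp.yon S).map q ≫ secMor c h = secMor c' h' := by
  apply ASp.sec.injective
  rw [← ASp.sec_map]
  show F.obj.map q.op (ASp.sec (ASp.sec.symm _)) = ASp.sec (ASp.sec.symm _)
  rw [Equiv.apply_symm_apply, Equiv.apply_symm_apply]
  subst h'; subst h
  have hm : m.hom = q := by
    have := IsHomLift.fac' (AlgSt.ofSp F).p q m
    simpa using this
  simp only [eqToHom_refl, op_id]
  erw [F.obj.map_id, F.obj.map_id]
  exact (hm ▸ m.map_sec)

theorem secMor_comp {F : AlgSp.Sp S} {T : Over S} (Φ : AlgSt.ofSp F ⥤ᵇ FibCat.overCat T)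
    (c : (AlgSt.ofSp F).obj) (h : c.base = T) (hΦ : AlgSt.secHom Φ c = eqToHom h) :
    secMor c h ≫ AlgSt.spMapOfOver Φ = 𝟙 _ := by
  apply ASp.sec.injective
  rw [ASp.sec_comp]
  show (AlgSt.spMapOfOver Φ).hom.app (op T) (ASp.sec (ASp.sec.symm _)) = _
  rw [Equiv.apply_symm_apply, AlgSt.spMapOfOver_app]
  subst h
  simp only [eqToHom_refl, op_id] at hΦ ⊢
  erw [F.obj.map_id]
  exact congrArg ULift.up hΦ

/-- A morphism `q` is schematically dominant. -/
def SchDominant {T' T : Scheme.{u}} (q : T' ⟶ T) : Prop :=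
  ∀ {Z : Scheme.{u}} (i : Z ⟶ T), IsClosedImmersion i → (∃ l : T' ⟶ Z, l ≫ i = q) → IsIso i

theorem eq_of_separated {F : AlgSp.Sp S} {T' T : Over S} {π : F ⟶ (AlgSp.yon S).obj T}
    (hπ : AlgSp.IsSeparatedMor π) {a b : (AlgSp.yon S).obj T ⟶ F} (ha : a ≫ π = 𝟙 _) (hb : b ≫ π = 𝟙 _)
    (q : T' ⟶ T) (hq : SchDominant q.left) (h : (AlgSp.yon S).map q ≫ a = (AlgSp.yon S).map q ≫ b) :
    a = b := by
  obtain ⟨V, fst, snd, sq, hi⟩ := ASp.exists_sq_prop hπ (pullback.lift a b (ha.trans hb.symm))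
  have hpair : ((AlgSp.yon S).map q ≫ a) ≫ pullback.diagonal π =
      (AlgSp.yon S).map q ≫ pullback.lift a b (ha.trans hb.symm) := by
    apply pullback.hom_ext
    · simp only [Category.assoc, pullback.diagonal_fst, Category.comp_id]; erw [pullback.lift_fst]
    · simp only [Category.assoc, pullback.diagonal_snd, Category.comp_id]; erw [pullback.lift_snd]; exact h
  obtain ⟨l, hl⟩ := (AlgSp.yon S).map_surjective (sq.lift _ _ hpair)
  have hls : (AlgSp.yon S).map (l ≫ snd) = (AlgSp.yon S).map q := by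
    rw [Functor.map_comp, hl]; exact sq.lift_snd _ _ _
  have hiso : IsIso snd.left := hq snd.left hi ⟨l.left, by
    rw [← Over.comp_left, ASp.map_cancel hls]⟩
  have : IsIso snd := by
    haveI := hiso
    exact (Over.isoMk (asIso snd.left) (Over.w snd)).isIso_hom
  have h1 := congrArg (fun t => t ≫ pullback.fst π π) sq.w
  have h2 := congrArg (fun t => t ≫ pullback.snd π π) sq.w
  simp only [Category.assoc, pullback.diagonal_fst, pullback.diagonal_snd, pullback.lift_fst,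
    pullback.lift_snd, Category.comp_id] at h1 h2
  exact (cancel_epi ((AlgSp.yon S).map snd)).1 (h1.symm.trans h2)

theorem pairEq {T : Over S} (x y : X.p.Fiber T) :
    BasedFunctor.comp (yFun x) (FibCat.toSelf X) = BasedFunctor.comp (yFun y) (FibCat.toSelf X) := by
  have h : (BasedFunctor.comp (yFun x) (FibCat.toSelf X)).toFunctor =
      (BasedFunctor.comp (yFun y) (FibCat.toSelf X)).toFunctor := (yFun x).w.trans (yFun y).w.symm
  revert h
  generalize (BasedFunctor.comp (yFun x) (FibCat.toSelf X)) = P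
  generalize (BasedFunctor.comp (yFun y) (FibCat.toSelf X)) = Q
  intro h
  cases P; cases Q; cases h; rfl

/-- The pair of pullback functors of two objects. -/
noncomputable def pairFun {T : Over S} (x y : X.p.Fiber T) :
    FibCat.overCat T ⥤ᵇ FibCat.fp (FibCat.toSelf X) (FibCat.toSelf X) :=
  FibCat.fpLift (yFun x) (yFun y) (eqToIso (pairEq x y))

theorem eqToIso_based_app {A B : AlgSt.Cat S} {P Q : A ⥤ᵇ B} (e : P = Q) (b : A.obj) :
    (eqToIso e).hom.toNatTrans.app b = eqToHom (by rw [e]) := by subst e; rfl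

theorem map_vertical {T : Over S} (x y : X.p.Fiber T) (b : Over T) {v : (yFun x).obj b ⟶ (yFun y).obj b}
    (hv : X.p.IsHomLift (𝟙 b.left) v) :
    X.p.map v = eqToHom (((yFun x).w_obj b).trans ((yFun y).w_obj b).symm) := by
  haveI := hv
  simpa using IsHomLift.fac' X.p (𝟙 b.left) v

/-- The iso of pairs given by a vertical morphism. -/
noncomputable def pairIso {T : Over S} (x y : X.p.Fiber T) (b : Over T)
    (v : (yFun x).obj b ⟶ (yFun y).obj b) (hv : X.p.IsHomLift (𝟙 b.left) v) :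
    (pairFun x y).obj b ≅ (FibCat.diag (FibCat.toSelf X)).obj ((yFun y).obj b) :=
  ObjectProperty.isoMk _ (CategoricalPullback.mkIso
    (@asIso _ _ ((yFun x).obj b) ((yFun y).obj b) v (@isIso_of_lift_id _ _ X _ b.left _ _ v hv))
    (Iso.refl ((yFun y).obj b)) (by
      show (X.p.map v ≫ 𝟙 _ : _ ⟶ X.p.obj ((yFun y).obj b)) =
        ((pairFun x y).obj b).obj.iso.hom ≫ X.p.map (𝟙 ((yFun y).obj b))
      erw [Category.comp_id, X.p.map_id, Category.comp_id, map_vertical x y b hv]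
      exact (eqToIso_based_app (A := FibCat.overCat T) (pairEq x y) b).symm))

/-- The object of the 2-fibre product given by a vertical morphism. -/
noncomputable def pairObj {T : Over S} (x y : X.p.Fiber T) (b : Over T)
    (v : (yFun x).obj b ⟶ (yFun y).obj b) (hv : X.p.IsHomLift (𝟙 b.left) v) :
    (FibCat.fp (pairFun x y) (FibCat.diag (FibCat.toSelf X))).obj :=
  ⟨{ fst := b, snd := (yFun y).obj b, iso := pairIso x y b v hv }, by
    show (FibCat.fp (FibCat.toSelf X) (FibCat.toSelf X)).p.IsHomLift (𝟙 b.left) (pairIso x y b v hv).hom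
    refine IsHomLift.of_fac' _ _ _ ((yFun x).w_obj b) ((yFun y).w_obj b) ?_
    show X.p.map v = _
    rw [map_vertical x y b hv]; simp; rfl⟩

/-- Vertical morphisms agreeing after a schematically dominant pullback agree, for separated diagonal. -/
theorem eq_of_schDominant {P : MorphismProperty (AlgSp.Sp S)}
    (hd : AlgSt.RepByAlgSpWith P (FibCat.diag (FibCat.toSelf X))) (hP : P ≤ AlgSp.IsSeparatedMor)
    {T' T : Over S} (q : T' ⟶ T) (hq : SchDominant q.left) (x y : X.p.Fiber T) (s t : x.1 ⟶ y.1)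
    (hs : X.p.IsHomLift (𝟙 T) s) (ht : X.p.IsHomLift (𝟙 T) t) (h : pbMap q x ≫ s = pbMap q x ≫ t) :
    s = t := by
  let Mx := yFun x
  let My := yFun y
  obtain ⟨F, e, he, hsep⟩ := hd T (pairFun x y)
  obtain ⟨G, -, ⟨d⟩⟩ := he
  let a : Over T := Over.mk (𝟙 T)
  let a' : Over T := Over.mk q
  let k : a' ⟶ a := Over.homMk q (Category.comp_id q)
  obtain ⟨hkx, hkx'⟩ := yFun_map x k
  obtain ⟨hky, hky'⟩ := yFun_map y k
  -- the sections
  have conj : ∀ u : x.1 ⟶ y.1, X.p.IsHomLift (𝟙 T) u → ∃! u' : Mx.obj a ⟶ My.obj a,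
      X.p.IsHomLift (𝟙 T) u' ∧ u' ≫ pbMap (𝟙 T) y = pbMap (𝟙 T) x ≫ u := fun u hu =>
    @existsUnique_desc _ _ X _ _ _ _ _ _ _ (𝟙 T) (𝟙 T) (pbMap (𝟙 T) y) inferInstance _
      (@IsHomLift.comp _ _ _ _ X.p _ _ _ _ _ _ (𝟙 T) (𝟙 T) (pbMap (𝟙 T) x) u inferInstance hu)
  obtain ⟨s', ⟨hs', hs'y⟩, -⟩ := conj s hs
  obtain ⟨t', ⟨ht', ht'y⟩, -⟩ := conj t ht
  have hst : Mx.map k ≫ s' = Mx.map k ≫ t' := by
    have l1 := @IsHomLift.comp _ _ _ _ X.p _ _ _ _ _ _ q (𝟙 T) _ _ hkx hs'
    have l2 := @IsHomLift.comp _ _ _ _ X.p _ _ _ _ _ _ q (𝟙 T) _ _ hkx ht'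
    rw [Category.comp_id] at l1 l2
    refine @hom_ext _ _ X _ _ _ _ _ _ q _ _ l1 l2 (pbMap (𝟙 T) y) ?_
    exact (Category.assoc _ _ _).trans ((congrArg (Mx.map k ≫ ·) hs'y).trans ((Category.assoc _ _ _).symm.trans
      ((congrArg (· ≫ s) hkx').trans (h.trans ((congrArg (· ≫ t) hkx').symm.trans ((Category.assoc _ _ _).trans
        ((congrArg (Mx.map k ≫ ·) ht'y.symm).trans (Category.assoc _ _ _).symm)))))))
  have hσ : ∃ σ : Mx.obj a' ⟶ My.obj a', X.p.IsHomLift (𝟙 T') σ ∧ σ ≫ My.map k = Mx.map k ≫ s' := by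
    have l1 := @IsHomLift.comp _ _ _ _ X.p _ _ _ _ _ _ q (𝟙 T) _ _ hkx hs'
    rw [Category.comp_id, ← Category.id_comp q] at l1
    exact (@existsUnique_desc _ _ X _ _ _ _ _ _ _ (𝟙 T') q (My.map k) hky _ l1).exists
  obtain ⟨σ, hσ1, hσ2⟩ := hσ
  let o' := pairObj x y a' σ hσ1
  let os := pairObj x y a s' hs'
  let ot := pairObj x y a t' ht'
  have mor : ∀ (u : Mx.obj a ⟶ My.obj a) (hu' : X.p.IsHomLift (𝟙 T) u), σ ≫ My.map k = Mx.map k ≫ u →
      ∃ m : o' ⟶ pairObj x y a u hu',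
        (FibCat.fp (pairFun x y) (FibCat.diag (FibCat.toSelf X))).p.IsHomLift q m := by
    intro u hu' hu
    let r : o' ⟶ pairObj x y a u hu' := ObjectProperty.homMk { fst := k, snd := My.map k, w := ?_ }
    · exact ⟨r, IsHomLift.map (FibCat.fp (pairFun x y) (FibCat.diag (FibCat.toSelf X))).p r⟩
    refine ObjectProperty.hom_ext _ (CategoricalPullback.hom_ext ?_ ?_)
    · show Mx.map k ≫ u = σ ≫ My.map k
      exact hu.symm
    · show My.map k ≫ 𝟙 _ = 𝟙 _ ≫ My.map k
      rw [Category.comp_id, Category.id_comp]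
  obtain ⟨ms, hms⟩ := mor s' hs' hσ2
  obtain ⟨mt, hmt⟩ := mor t' ht' (hσ2.trans hst)
  have hΦ : ∀ (u : Mx.obj a ⟶ My.obj a) (hu : X.p.IsHomLift (𝟙 T) u),
      AlgSt.secHom (BasedFunctor.comp e (FibCat.fpFst (pairFun x y) (FibCat.diag (FibCat.toSelf X))))
        (G.obj (pairObj x y a u hu)) = eqToHom (G.w_obj (pairObj x y a u hu)) := by
    intro u hu
    haveI := d.hom.isHomLift' (pairObj x y a u hu)
    have w := Over.w (d.hom.toNatTrans.app (pairObj x y a u hu)).hom.fst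
    have w' : (d.hom.toNatTrans.app (pairObj x y a u hu)).hom.fst.left = _ :=
      IsHomLift.fac' (FibCat.fp (pairFun x y) (FibCat.diag (FibCat.toSelf X))).p
        (𝟙 ((FibCat.fp (pairFun x y) (FibCat.diag (FibCat.toSelf X))).p.obj (pairObj x y a u hu)))
        (d.hom.toNatTrans.app (pairObj x y a u hu))
    show eqToHom _ ≫ _ = _
    erw [← w, w']
    simp only [Category.id_comp, eqToHom_trans, eqToHom_trans_assoc, Category.assoc]
    show eqToHom _ ≫ eqToHom _ ≫ 𝟙 T = _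
    erw [Category.comp_id, eqToHom_trans]
    rfl
  have key : secMor (G.obj os) (G.w_obj os) = secMor (G.obj ot) (G.w_obj ot) := by
    refine eq_of_separated (hP _ hsep) (secMor_comp _ _ _ (hΦ s' hs')) (secMor_comp _ _ _ (hΦ t' ht')) q hq ?_
    exact (@map_secMor S F.obj _ _ _ _ (G.w_obj o') (G.w_obj os) q (G.map ms)
        (@BasedFunctor.preserves_isHomLift _ _ _ _ G _ _ _ _ q ms hms)).trans
      (@map_secMor S F.obj _ _ _ _ (G.w_obj o') (G.w_obj ot) q (G.map mt)
        (@BasedFunctor.preserves_isHomLift _ _ _ _ G _ _ _ _ q mt hmt)).symm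
  have hiso : Nonempty {m : os ⟶ ot //
      (FibCat.fp (pairFun x y) (FibCat.diag (FibCat.toSelf X))).p.IsHomLift (𝟙 T) m} := by
    have hc : ∀ (c c' : (AlgSt.ofSp F.obj).obj) (hc : c.base = T) (hc' : c'.base = T),
        secMor c hc = secMor c' hc' → ∃ m : c ⟶ c', (AlgSt.ofSp F.obj).p.IsHomLift (𝟙 T) m := by
      rintro ⟨b, u⟩ ⟨b', u'⟩ (rfl : b = T) (rfl : b' = b) hcc
      have : u = u' := by simpa [secMor] using ASp.sec.symm.injective hcc
      subst this
      exact ⟨𝟙 _, IsHomLift.id rfl⟩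
    obtain ⟨m, hm⟩ := hc _ _ _ _ key
    haveI := hm
    haveI : ∀ o, (FibCat.fp (pairFun x y) (FibCat.diag (FibCat.toSelf X))).p.IsHomLift (𝟙 _) (d.hom.toNatTrans.app o) :=
      d.hom.isHomLift'
    haveI : ∀ o, (FibCat.fp (pairFun x y) (FibCat.diag (FibCat.toSelf X))).p.IsHomLift (𝟙 _) (d.inv.toNatTrans.app o) :=
      d.inv.isHomLift'
    have l0 := d.inv.isHomLift (a := os) (S := T) rfl
    have l2 := d.hom.isHomLift (a := ot) (S := T) rfl
    have l1 := @BasedFunctor.preserves_isHomLift _ _ _ _ e _ _ _ _ (𝟙 T) m hm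
    exact ⟨⟨d.inv.toNatTrans.app os ≫ e.map m ≫ d.hom.toNatTrans.app ot,
      @IsHomLift.comp_of_lift_id _ _ _ _ _ T _ _ _ _ _ l0
        (@IsHomLift.comp_of_lift_id _ _ _ _ _ T _ _ _ _ _ l1 l2)⟩⟩
  obtain ⟨⟨m, hm⟩⟩ := hiso
  have hst' : s' = t' := by
    haveI := hm
    have hfst : m.hom.fst = 𝟙 a := Over.OverMorphism.ext (by
      have := Over.w m.hom.fst
      simpa [a, os, ot, pairObj] using this)
    have w1 : Mx.map m.hom.fst ≫ t' = s' ≫ m.hom.snd := congrArg (fun r => r.hom.fst) m.hom.w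
    have w2 : My.map m.hom.fst ≫ 𝟙 _ = 𝟙 _ ≫ m.hom.snd := congrArg (fun r => r.hom.snd) m.hom.w
    rw [hfst] at w1 w2
    erw [Mx.map_id, Category.id_comp] at w1
    erw [My.map_id, Category.id_comp, Category.id_comp] at w2
    rw [← w2] at w1
    erw [Category.comp_id] at w1
    exact w1.symm
  haveI := isIso_of_lift_id (U := T) (pbMap (𝟙 T) x)
  refine (cancel_epi (pbMap (𝟙 T) x)).1 ?_
  rw [← hs'y, ← ht'y, hst']

end Groth.Agent.H9St
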