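import Groth.Agent.Lib.H9StCls
import Groth.Agent.Lib.H9StSep
import Groth.Agent.Lib.H9AxesDouble
import Groth.Agent.Lib.AlgSpAffineGlobal
/-! Twisting on the double of the axes: an object whose locally trivial forms are trivial is clean. -/

set_option autoImplicit false
set_option linter.style.haveILetI false
set_option linter.unusedVariables false
set_option linter.unusedSectionVars false
set_option backward.isDefEq.respectTransparency.types false

universe u

open CategoryTheory CategoryTheory.Limits AlgebraicGeometry Opposite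

noncomputable section

namespace Groth.Agent.H9St

variable {S : Scheme.{u}} {Xc : AlgSt.Cat S} [hX : FibCat.IsFibGrpd Xc.p]

theorem schDominant_of_injective {A B : CommRingCat.{u}} (f : A ⟶ B) (hf : Function.Injective f) :
    SchDominant (Spec.map f) := by
  intro Z i hi ⟨l, hl⟩
  haveI := hi
  haveI : IsAffine Z := IsClosedImmersion.isAffine_surjective_of_isAffine i |>.1
  refine IsClosedImmersion.isIso_iff_ker_eq_bot.2 (Scheme.IdealSheafData.ext_of_isAffine ?_)
  rw [i.ker_apply ⟨⊤, isAffineOpen_top _⟩, Scheme.IdealSheafData.ideal_bot, Pi.bot_apply,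
    ← RingHom.injective_iff_ker_eq_bot]
  have h2 : Function.Injective (Spec.map f).appTop := by
    have := (Scheme.ΓSpecIso_naturality f)
    have e : (Spec.map f).appTop = (Scheme.ΓSpecIso A).hom ≫ f ≫ (Scheme.ΓSpecIso B).inv := by
      rw [← Category.assoc, ← this, Category.assoc, Iso.hom_inv_id, Category.comp_id]
    rw [e]
    exact (ConcreteCategory.bijective_of_isIso (Scheme.ΓSpecIso B).inv).1.comp
      (hf.comp (ConcreteCategory.bijective_of_isIso (Scheme.ΓSpecIso A).hom).1)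
  rw [← hl, Scheme.Hom.comp_appTop] at h2
  exact Function.Injective.of_comp (f := l.appTop.hom) h2

theorem bot_mem_of_isEmpty {V : Over S} (h : IsEmpty ↥V.left) :
    (⊥ : Sieve V) ∈ QuotSh.J Scheme.fppfPrecoverage S V :=
  ASp.mem_of_openCover (W := fun k : PEmpty.{u + 1} => k.elim) (fun k => k.elim) (fun k => k.elim)
    (fun t => h.elim t) (fun k => k.elim)

variable (hs : Stk.IsStack (QuotSh.J Scheme.fppfPrecoverage S) Xc)

section Obj

variable {T : Over S} (M : FibCat.overCat T ⥤ᵇ Xc)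

include hs in
theorem isPrestackFor {Z : Over S} {R : Sieve Z} (hR : R ∈ QuotSh.J Scheme.fppfPrecoverage S Z) :
    Stk.IsPrestackFor R Xc :=
  have : (Stk.resSieve R Xc).IsEquivalence := hs.2 R hR
  ⟨inferInstance, inferInstance⟩

include hs in
theorem vaut_subsingleton {a : Over T} (h : IsEmpty ↥a.left.left) (s t : VAut M a) : s = t := by
  have key := existsUnique_glue (R := (⊥ : Sieve a.left)) M a.hom (isPrestackFor hs (bot_mem_of_isEmpty h))
    (fun f hf => False.elim hf) (fun f g hf => False.elim hf)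
  let e : up a.hom (𝟙 a.left) ≅ a := Over.isoMk (Iso.refl _) (by simp)
  refine (res_bijective M e).1 (key.unique (fun f hf => False.elim hf) (fun f hf => False.elim hf))

/-- Vertical endomorphisms are detected on schematically dominant pullbacks. -/
theorem res_injective {P : MorphismProperty (AlgSp.Sp S)}
    (hd : AlgSt.RepByAlgSpWith P (FibCat.diag (FibCat.toSelf Xc))) (hP : P ≤ AlgSp.IsSeparatedMor)
    {a b : Over T} (k : a ⟶ b) (hk : SchDominant k.left.left) : Function.Injective (res M k) := by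
  intro s t h
  let x : Xc.p.Fiber b.left := ⟨(fn M).obj b, M.w_obj b⟩
  refine Subtype.ext (eq_of_schDominant hd hP k.left hk x x s.1 t.1 s.2 t.2 ?_)
  have l : Xc.p.IsHomLift (𝟙 a.left ≫ k.left) (pbMap k.left x) := by rw [Category.id_comp]; infer_instance
  obtain ⟨χ, ⟨-, hχ⟩, -⟩ := @existsUnique_desc _ _ Xc _ _ _ _ _ _ _ (𝟙 a.left) k.left ((fn M).map k)
    (lift_overMap M k) (pbMap k.left x) l
  rw [← hχ, Category.assoc, Category.assoc, ← res_spec, ← res_spec, h]

end Obj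

variable {ι : Type} [Fintype ι] [DecidableEq ι]

open H9Axes Polynomial in
include hs in
/-- If every locally trivial form is trivial, all families of automorphisms on the axes are constant. -/
theorem eq_of_locTriv {P : MorphismProperty (AlgSp.Sp S)}
    (hd : AlgSt.RepByAlgSpWith P (FibCat.diag (FibCat.toSelf Xc))) (hP : P ≤ AlgSp.IsSeparatedMor)
    (A : CommRingCat.{u}) (str : Spec A ⟶ S) (x : Xc.p.Fiber (Over.mk str))
    (hx : LocTriv2 (IsoNat.cls x))
    (s : ι → VAut (yFun x) (Over.mk (𝟙 (Over.mk str)))) (i₀ i₁ : ι) : s i₀ = s i₁ := by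
  let T : Over S := Over.mk str
  let M := yFun x
  rcases isEmpty_or_nonempty ↥(Spec A) with hA | ⟨⟨t⟩⟩
  · exact vaut_subsingleton hs M hA _ _
  -- schemes
  let cA : CommRingCat.{u} := CommRingCat.of (axes A ι)
  let πC : Spec cA ⟶ Spec A := Spec.map (CommRingCat.ofHom (const A ι))
  let line : ι → (Spec (CommRingCat.of (Polynomial A)) ⟶ Spec cA) := fun i =>
    Spec.map (CommRingCat.ofHom (proj A ι i))
  let zero : Spec A ⟶ Spec (CommRingCat.of (Polynomial A)) := Spec.map (CommRingCat.ofHom (evalRingHom (0 : A)))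
  let jW : Spec (CommRingCat.of (punct A ι)) ⟶ Spec cA :=
    Spec.map (CommRingCat.ofHom (algebraMap (axes A ι) (punct A ι)))
  let jG : Spec (CommRingCat.of (Localization.Away (X : Polynomial A))) ⟶ Spec (CommRingCat.of (Polynomial A)) :=
    Spec.map (CommRingCat.ofHom (algebraMap (Polynomial A) (Localization.Away (X : Polynomial A))))
  let lW : ι → (Spec (CommRingCat.of (Localization.Away (X : Polynomial A))) ⟶ Spec (CommRingCat.of (punct A ι))) :=
    fun i => Spec.map (CommRingCat.ofHom (punctProj A ι i))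
  have hlW : ∀ i, lW i ≫ jW = jG ≫ line i := fun i => by
    simp only [lW, jW, jG, line, ← Spec.map_comp, ← CommRingCat.ofHom_comp]
    rw [punctProj_comp]
  have hzl : ∀ i, (zero ≫ line i) ≫ πC = 𝟙 _ := fun i => by
    simp only [zero, line, πC, ← Spec.map_comp, ← CommRingCat.ofHom_comp, RingHom.comp_assoc, proj_const]
    rw [← Spec.map_id A]
    congr 1
    ext r
    simp
  have hzero : ∀ i k, zero ≫ line i = zero ≫ line k := fun i k => by
    simp only [zero, line, ← Spec.map_comp, ← CommRingCat.ofHom_comp]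
    rw [zero_proj A ι i k]
  haveI : IsOpenImmersion jW := IsOpenImmersion.of_isLocalization (el A ι)
  obtain ⟨Zs, za, zb, zr, hza, hzb, hjz, har, hbr, hcov, hint⟩ := exists_double jW
  -- over S
  let Z : Over S := Over.mk (zr ≫ πC ≫ str)
  let πZ : Z ⟶ T := Over.homMk (zr ≫ πC) (Category.assoc _ _ _)
  let C' : Over S := Over.mk (πC ≫ str)
  let pC : C' ⟶ T := Over.homMk πC rfl
  let aS : C' ⟶ Z := Over.homMk za (by simp [Z, C', reassoc_of% har])
  let bS : C' ⟶ Z := Over.homMk zb (by simp [Z, C', reassoc_of% hbr])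
  let W' : Over S := Over.mk (jW ≫ πC ≫ str)
  let jS : W' ⟶ C' := Over.homMk jW rfl
  let w : W' ⟶ Z := jS ≫ aS
  have hwb : jS ≫ bS = w := Over.OverMorphism.ext hjz.symm
  haveI : Mono za := inferInstance
  haveI : IsOpenImmersion (jW ≫ za) := inferInstance
  have wmono : ∀ {V : Over S} (m m' : V ⟶ W'), m ≫ w = m' ≫ w → m = m' := fun m m' h =>
    Over.OverMorphism.ext ((cancel_mono (jW ≫ za)).1 (congrArg CommaMorphism.left h))
  let SA : Sieve Z := Sieve.generate (Presieve.singleton aS)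
  let SB : Sieve Z := Sieve.generate (Presieve.singleton bS)
  let R : Sieve Z := SA ⊔ SB
  have hR : ∀ {V : Over S} (f : V ⟶ Z), R f → SA f ∨ SB f := fun f h => h
  have hRc : R ∈ QuotSh.J Scheme.fppfPrecoverage S Z := by
    refine ASp.mem_of_openCover (W := fun k : ULift.{u} Bool => C') (fun k => if k.down then aS else bS) ?_ ?_ ?_
    · rintro ⟨_ | _⟩ <;> assumption
    · intro z
      rcases hcov z with h | h
      · exact ⟨⟨true⟩, h⟩
      · exact ⟨⟨false⟩, h⟩
    · rintro ⟨_ | _⟩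
      · exact Or.inr ⟨_, 𝟙 _, bS, ⟨⟩, Category.id_comp _⟩
      · exact Or.inl ⟨_, 𝟙 _, aS, ⟨⟩, Category.id_comp _⟩
  -- the automorphism on the punctured axes
  let Wi : ι → Over S := fun i =>
    Over.mk (Spec.map (CommRingCat.ofHom (algebraMap (punct A ι) (Localization.Away (idem A ι i)))) ≫ W'.hom)
  let wi : ∀ i, Wi i ⟶ W' := fun i =>
    Over.homMk (Spec.map (CommRingCat.ofHom (algebraMap (punct A ι) (Localization.Away (idem A ι i))))) rfl
  let pW : W' ⟶ T := w ≫ πZ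
  have hdis : ∀ {V : Over S} {i k : ι} (f : V ⟶ Wi i) (g : V ⟶ Wi k), i ≠ k → f ≫ wi i = g ≫ wi k →
      IsEmpty ↥V.left := by
    intro V i k f g hik h
    refine ⟨fun v => ?_⟩
    have m1 : (wi i).left (f.left v) ∈ Set.range (wi i).left := ⟨_, rfl⟩
    have m2 : (wi k).left (g.left v) ∈ Set.range (wi k).left := ⟨_, rfl⟩
    have e : (wi i).left (f.left v) = (wi k).left (g.left v) :=
      congrArg (fun (r : V ⟶ W') => r.left v) h
    rw [e] at m1
    simp only [wi, Over.homMk_left] at m1 m2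
    have r : ∀ q : ι, Set.range ⇑(Spec.map (CommRingCat.ofHom (algebraMap (punct A ι) (Localization.Away (idem A ι q))))) =
        (PrimeSpectrum.basicOpen (idem A ι q) : Set (PrimeSpectrum (punct A ι))) :=
      fun q => PrimeSpectrum.localization_away_comap_range (Localization.Away (idem A ι q)) (idem A ι q)
    rw [r] at m1 m2
    have : (⟨_, m1⟩ : {p // p ∈ (PrimeSpectrum.basicOpen (idem A ι i) : Set (PrimeSpectrum (punct A ι)))}).1 ∈
        (PrimeSpectrum.basicOpen (idem A ι i) ⊓ PrimeSpectrum.basicOpen (idem A ι k) :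
          TopologicalSpace.Opens (PrimeSpectrum (punct A ι))) := ⟨m1, m2⟩
    rw [← PrimeSpectrum.basicOpen_mul, idem_mul A ι hik, PrimeSpectrum.basicOpen_zero] at this
    exact this.elim
  let RW : Sieve W' := Sieve.generate (Presieve.ofArrows Wi wi)
  have hRW : RW ∈ QuotSh.J Scheme.fppfPrecoverage S W' := by
    refine ASp.mem_of_openCover (W := fun k : ULift.{u} ι => Wi k.down) (fun k => wi k.down)
      (fun k => IsOpenImmersion.of_isLocalization (idem A ι k.down)) ?_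
      (fun k => ⟨_, 𝟙 _, wi k.down, ⟨k.down⟩, Category.id_comp _⟩)
    intro p
    by_contra hc
    simp only [not_exists] at hc
    have hmem : ∀ q : ι, idem A ι q ∈ (p : PrimeSpectrum (punct A ι)).asIdeal := fun q => by
      by_contra hq
      refine hc ⟨q⟩ ?_
      show p ∈ Set.range ⇑(Spec.map _)
      erw [PrimeSpectrum.localization_away_comap_range (Localization.Away (idem A ι q)) (idem A ι q)]
      exact hq
    exact (p : PrimeSpectrum (punct A ι)).isPrime.ne_top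
      ((Ideal.eq_top_iff_one _).2 (sum_idem A ι ▸ Ideal.sum_mem _ fun q _ => hmem q))
  have hfac : ∀ {V : Over S} (f : V ⟶ W'), RW f → ∃ (i : ι) (m : V ⟶ Wi i), m ≫ wi i = f := by
    rintro V f ⟨_, m, _, ⟨i⟩, rfl⟩; exact ⟨i, m, rfl⟩
  let sW : ∀ {V : Over S} (f : V ⟶ W'), RW f → VAut M (up pW f) := fun f hf =>
    res M (Over.homMk (f ≫ pW) (Category.comp_id _) : up pW f ⟶ Over.mk (𝟙 T)) (s (hfac f hf).choose)
  obtain ⟨σW, hσW, -⟩ := existsUnique_glue M pW (isPrestackFor hs hRW) sW (by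
    intro V' V f g hf hg k h
    obtain ⟨m, hm⟩ := (hfac g hg).choose_spec
    obtain ⟨m', hm'⟩ := (hfac f hf).choose_spec
    by_cases e : (hfac f hf).choose = (hfac g hg).choose
    · simp only [sW]; rw [← res_comp, e]; congr 1
      exact Over.OverMorphism.ext (by simp [← h])
    · exact vaut_subsingleton hs M (hdis m' (k ≫ m) e (by rw [Category.assoc, hm, hm', h])) _ _)
  -- twisting
  have hov : ∀ {V : Over S} (f : V ⟶ Z), SA f → SB f → ∃ m : V ⟶ W', m ≫ w = f := by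
    rintro V f ⟨_, k, _, ⟨⟩, rfl⟩ ⟨_, l, _, ⟨⟩, hl⟩
    have hrange : Set.range k.left ⊆ Set.range jW := by
      rintro _ ⟨v, rfl⟩
      have := congrArg (fun (r : V ⟶ Z) => r.left v) hl
      obtain ⟨q, hq, -⟩ := hint (k.left v) (l.left v) this.symm
      exact ⟨q, hq⟩
    refine ⟨Over.homMk (IsOpenImmersion.lift jW k.left hrange) ?_, ?_⟩
    · show IsOpenImmersion.lift jW k.left hrange ≫ jW ≫ πC ≫ str = _
      rw [IsOpenImmersion.lift_fac_assoc]; exact Over.w k
    · refine Over.OverMorphism.ext ?_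
      show IsOpenImmersion.lift jW k.left hrange ≫ jW ≫ za = k.left ≫ za
      rw [IsOpenImmersion.lift_fac_assoc]
  let σ : TwData M πZ SA SB :=
    { val := fun f hA hB => res M (Over.homMk (hov f hA hB).choose (by
        show (hov f hA hB).choose ≫ 𝟙 W' ≫ pW = f ≫ πZ
        rw [Category.id_comp, ← Category.assoc, (hov f hA hB).choose_spec]) : up πZ f ⟶ up pW (𝟙 W')) σW
      nat := by
        intro V' V f g hA hB hA' hB' k h
        rw [← res_comp]; congr 1
        exact Over.OverMorphism.ext (wmono _ _ (by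
          simp only [Over.comp_left, Over.homMk_left, Category.assoc]
          rw [(hov g hA' hB').choose_spec, (hov f hA hB).choose_spec, h])) }
  obtain ⟨y, hy⟩ := exists_twist (R := R) hR (hs.2 R hRc) σ
  have hloc : ∀ {V : Over S} (f : V ⟶ Z), R f → rc f (IsoNat.cls y) = rc f (rc πZ (IsoNat.cls x)) := fun f hf => by
    rw [rc_comp, rc_cls, rc_cls]
    exact (cls_eq_iff _ _).2 (twist_local hR hy f hf)
  have htriv : IsoNat.cls y = rc πZ (IsoNat.cls x) := hx Z πZ C' C' aS bS hza hzb hcov _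
    (hloc aS (Or.inl ⟨_, 𝟙 _, aS, ⟨⟩, Category.id_comp _⟩)) (hloc bS (Or.inr ⟨_, 𝟙 _, bS, ⟨⟩, Category.id_comp _⟩))
  obtain ⟨e0⟩ := (cls_eq_iff _ _).1 htriv
  have e1 : Nonempty (pb πZ x ≅ atM M πZ (𝟙 Z)) := by
    have : Nonempty (pb πZ x ≅ pb (𝟙 Z ≫ πZ) x) := by rw [Category.id_comp]; exact ⟨Iso.refl _⟩
    exact this
  obtain ⟨γ, hγ⟩ := (twist_iso_iff hR (hs.2 R hRc) hy (isTwist_one hR)).1 ⟨e0 ≪≫ e1.some⟩
  have haR : R aS := Or.inl ⟨_, 𝟙 _, aS, ⟨⟩, Category.id_comp _⟩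
  have hbR : R bS := Or.inr ⟨_, 𝟙 _, bS, ⟨⟩, Category.id_comp _⟩
  have hwA : SA w := ⟨_, jS, aS, ⟨⟩, rfl⟩
  have hwB : SB w := ⟨_, jS, bS, ⟨⟩, hwb⟩
  have hbA : ¬ SA bS := by
    rintro ⟨_, k, _, ⟨⟩, hk⟩
    let o := zero ≫ line i₀
    obtain ⟨q, -, hq⟩ := hint (k.left (o t)) (o t) (congrArg (fun (r : C' ⟶ Z) => r.left (o t)) hk)
    have : (o t : PrimeSpectrum (axes A ι)) ∈ (PrimeSpectrum.basicOpen (el A ι) : Set (PrimeSpectrum (axes A ι))) := by
      rw [← PrimeSpectrum.localization_away_comap_range (punct A ι) (el A ι)]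
      exact ⟨q, hq⟩
    apply this
    show (evalRingHom (0 : A)) (proj A ι i₀ (el A ι)) ∈ (t : PrimeSpectrum A).asIdeal
    simp [proj_el]
  have step1 : (TwData.one (M := M) (π := πZ) (A := SA) (B := SB)).step w aS = 1 :=
    dif_neg fun h => h.2.2 ⟨_, 𝟙 _, aS, ⟨⟩, Category.id_comp _⟩
  have step1' : (TwData.one (M := M) (π := πZ) (A := SA) (B := SB)).step w bS = 1 := by
    unfold TwData.step TwData.one; split <;> rfl
  have step2 : σ.step w aS = 1 := dif_neg fun h => h.2.2 ⟨_, 𝟙 _, aS, ⟨⟩, Category.id_comp _⟩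
  have ea := hγ w aS (Or.inl hwA) haR jS rfl
  have eb := hγ w bS (Or.inl hwA) hbR jS hwb
  rw [step1, step2, one_mul, mul_one] at ea
  rw [step1', mul_one] at eb
  have step3 : σ.step w bS = σ.val w hwA hwB := dif_pos ⟨hwA, hwB, hbA⟩
  rw [step3, ← ea] at eb
  -- transport to the axes
  let ua : Over.mk pC ⟶ up πZ aS := Over.homMk (𝟙 C') (Over.OverMorphism.ext (by
    show 𝟙 _ ≫ za ≫ zr ≫ πC = πC
    rw [Category.id_comp, reassoc_of% har]))
  let ub : Over.mk pC ⟶ up πZ bS := Over.homMk (𝟙 C') (Over.OverMorphism.ext (by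
    show 𝟙 _ ≫ zb ≫ zr ≫ πC = πC
    rw [Category.id_comp, reassoc_of% hbr]))
  obtain ⟨α, hα⟩ : ∃ α, α = res M ua (γ aS haR) := ⟨_, rfl⟩
  obtain ⟨β, hβ⟩ : ∃ β, β = res M ub (γ bS hbR) := ⟨_, rfl⟩
  let L : Over S := Over.mk (Spec.map (CommRingCat.ofHom (Polynomial.C : A →+* Polynomial A)) ≫ str)
  let pL : L ⟶ T := Over.homMk (Spec.map (CommRingCat.ofHom (Polynomial.C : A →+* Polynomial A))) rfl
  have hl : ∀ i, line i ≫ πC = Spec.map (CommRingCat.ofHom (Polynomial.C : A →+* Polynomial A)) := fun i => by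
    simp only [line, πC, ← Spec.map_comp, ← CommRingCat.ofHom_comp, proj_const]
  let lS : ∀ i, Over.mk pL ⟶ Over.mk pC := fun i =>
    Over.homMk (Over.homMk (line i) (by show line i ≫ πC ≫ str = _; rw [reassoc_of% hl i]; rfl))
      (Over.OverMorphism.ext (hl i))
  let toT : Over.mk pL ⟶ Over.mk (𝟙 T) := Over.homMk pL (Category.comp_id _)
  let G : Over S := Over.mk (jG ≫ L.hom)
  let qG : G ⟶ L := Over.homMk jG rfl
  let kG : Over.mk (qG ≫ pL) ⟶ Over.mk pL := Over.homMk qG rfl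
  have hrel : ∀ i, res M (lS i) α = res M toT (s i) * res M (lS i) β := by
    intro i
    refine res_injective M hd hP kG (schDominant_of_injective _ (injective_away A)) ?_
    rw [res_mul, ← res_comp, ← res_comp, ← res_comp]
    let n : Over.mk (qG ≫ pL) ⟶ up πZ w := Over.homMk (Over.homMk (lW i) (by
        show lW i ≫ jW ≫ πC ≫ str = jG ≫ _
        rw [reassoc_of% hlW i, reassoc_of% hl i]; rfl)) (Over.OverMorphism.ext (by
        show lW i ≫ (jW ≫ za) ≫ zr ≫ πC = jG ≫ _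
        rw [Category.assoc, reassoc_of% har, reassoc_of% hlW i, hl i]; rfl))
    have n1 : (kG ≫ lS i) ≫ ua = n ≫ upMap πZ w aS jS rfl := by
      refine Over.OverMorphism.ext (Over.OverMorphism.ext ?_)
      show (jG ≫ line i) ≫ 𝟙 _ = lW i ≫ jW
      rw [Category.comp_id, hlW]
    have n2 : (kG ≫ lS i) ≫ ub = n ≫ upMap πZ w bS jS hwb := by
      refine Over.OverMorphism.ext (Over.OverMorphism.ext ?_)
      show (jG ≫ line i) ≫ 𝟙 _ = lW i ≫ jW
      rw [Category.comp_id, hlW]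
    have e := congrArg (res M n) eb
    have a1 : res M n (res M (upMap πZ w aS jS rfl) (γ aS haR)) = res M (kG ≫ lS i) α := by
      rw [hα, ← res_comp, ← n1, res_comp]
    have b1 : res M n (res M (upMap πZ w bS jS hwb) (γ bS hbR)) = res M (kG ≫ lS i) β := by
      rw [hβ, ← res_comp, ← n2, res_comp]
    rw [res_mul, a1, b1] at e
    refine e.symm.trans ?_
    congr 1
    simp only [σ]
    rw [← res_comp]
    -- the glued automorphism on the i-th punctured axis
    let mi : G ⟶ Wi i := Over.homMk (Spec.map (CommRingCat.ofHom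
      (IsLocalization.Away.lift (idem A ι i) (isUnit_punctProj_idem A ι i) :
        Localization.Away (idem A ι i) →+* Localization.Away (X : Polynomial A)))) (by
      show Spec.map _ ≫ Spec.map _ ≫ jW ≫ πC ≫ str = jG ≫ _
      rw [← Spec.map_comp_assoc, ← CommRingCat.ofHom_comp, IsLocalization.Away.lift_comp]
      change lW i ≫ _ = _
      rw [reassoc_of% hlW i, reassoc_of% hl i]; rfl)
    have hmi : (mi ≫ wi i).left = lW i := by
      simp only [mi, wi, Over.comp_left, Over.homMk_left, ← Spec.map_comp, ← CommRingCat.ofHom_comp,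
        IsLocalization.Away.lift_comp, lW]
    have hf : RW (mi ≫ wi i) := ⟨_, mi, wi i, ⟨i⟩, rfl⟩
    let n' : Over.mk (qG ≫ pL) ⟶ up pW (mi ≫ wi i) := Over.homMk (𝟙 G) (Over.OverMorphism.ext (by
      show 𝟙 _ ≫ (mi ≫ wi i).left ≫ (jW ≫ za) ≫ zr ≫ πC = jG ≫ _
      rw [hmi, Category.id_comp, Category.assoc, reassoc_of% har, reassoc_of% hlW i, hl i]
      rfl))
    have hc := (hfac (mi ≫ wi i) hf).choose_spec
    have heq : (hfac (mi ≫ wi i) hf).choose = i := by
      by_contra hne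
      obtain ⟨m', hm'⟩ := hc
      haveI := hdis m' mi hne hm'
      have hG : IsEmpty ↥G.left := hdis m' mi hne hm'
      have : Nontrivial (Localization.Away (X : Polynomial A)) := by
        haveI : Nontrivial A := ⟨⟨0, 1, fun h => (t : PrimeSpectrum A).isPrime.ne_top
          ((Ideal.eq_top_iff_one _).2 (h ▸ Submodule.zero_mem _))⟩⟩
        exact (injective_away A).nontrivial
      exact hG.elim (Classical.arbitrary (PrimeSpectrum (Localization.Away (X : Polynomial A))))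
    have h1 := congrArg (res M n') (hσW (mi ≫ wi i) hf)
    simp only [sW] at h1
    rw [heq, ← res_comp, ← res_comp] at h1
    refine Eq.trans ?_ (h1.trans ?_)
    · congr 1
      refine Over.OverMorphism.ext (wmono _ _ ?_)
      simp only [Over.comp_left, Over.homMk_left, Category.assoc]
      rw [(hov w hwA hwB).choose_spec]
      refine Over.OverMorphism.ext ?_
      show lW i ≫ jW ≫ za = 𝟙 _ ≫ (mi ≫ wi i).left ≫ jW ≫ za
      rw [hmi, Category.id_comp]
    · congr 1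
      refine Over.OverMorphism.ext (Over.OverMorphism.ext ?_)
      show 𝟙 _ ≫ (mi ≫ wi i).left ≫ (jW ≫ za) ≫ zr ≫ πC = jG ≫ _
      rw [hmi, Category.id_comp, Category.assoc, reassoc_of% har, reassoc_of% hlW i, hl i]; rfl
  have hzC : zero ≫ Spec.map (CommRingCat.ofHom (Polynomial.C : A →+* Polynomial A)) = 𝟙 _ := by
    rw [← hl i₀, ← Category.assoc, hzl]
  let z0 : Over.mk (𝟙 T) ⟶ Over.mk pL := Over.homMk (Over.homMk zero (by
      show zero ≫ _ ≫ str = str
      rw [← reassoc_of% hl i₀, reassoc_of% hzl i₀])) (Over.OverMorphism.ext (by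
      exact hzC))
  have hz : ∀ i, z0 ≫ lS i = z0 ≫ lS i₀ := fun i => Over.OverMorphism.ext (Over.OverMorphism.ext (hzero i i₀))
  have hT : z0 ≫ toT = 𝟙 _ := Over.OverMorphism.ext (Over.OverMorphism.ext (by
    exact hzC))
  have key : ∀ i, res M (z0 ≫ lS i₀) α = s i * res M (z0 ≫ lS i₀) β := fun i => by
    have := congrArg (res M z0) (hrel i)
    rw [res_mul, ← res_comp, ← res_comp, ← res_comp, hz, hT, res_id] at this
    exact this
  exact mul_right_cancel ((key i₀).symm.trans (key i₁))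

theorem lift_congr {W' W : Over S} {f g : W' ⟶ W} (e : f = g) {a b : Xc.obj} {φ : a ⟶ b}
    (h : Xc.p.IsHomLift f φ) : Xc.p.IsHomLift g φ := e ▸ h

theorem endo_eq_of_vaut {T : Over S} (x : Xc.p.Fiber T)
    (h : ∀ s : VAut (yFun x) (Over.mk (𝟙 T)), s = 1) (s : x.1 ⟶ x.1) (hs' : Xc.p.IsHomLift (𝟙 T) s) :
    s = 𝟙 x.1 := by
  haveI := hs'
  haveI hiso : IsIso (pbMap (𝟙 T) x) := isIso_of_lift_id (U := T) _
  have l1 : Xc.p.IsHomLift (𝟙 T) (inv (pbMap (𝟙 T) x)) := IsHomLift.lift_id_inv_isIso _ _ _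
  let σ : (pb (𝟙 T) x).1 ⟶ (pb (𝟙 T) x).1 := pbMap (𝟙 T) x ≫ s ≫ inv (pbMap (𝟙 T) x)
  have lσ : Xc.p.IsHomLift (𝟙 T) σ := @IsHomLift.comp_of_lift_id _ _ _ _ _ T _ _ _ _ _ inferInstance
    (@IsHomLift.comp_of_lift_id _ _ _ _ _ T _ _ _ _ _ hs' l1)
  have e := h ⟨σ, lσ⟩
  have e' : pbMap (𝟙 T) x ≫ s ≫ inv (pbMap (𝟙 T) x) = 𝟙 (pb (𝟙 T) x).1 := congrArg Subtype.val e
  have := congrArg (fun r => inv (pbMap (𝟙 T) x) ≫ r ≫ pbMap (𝟙 T) x) e'
  simpa using this

include hs in
/-- An object whose locally trivial forms are trivial is clean. -/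
theorem cleanF_of_locTriv {P : MorphismProperty (AlgSp.Sp S)}
    (hd : AlgSt.RepByAlgSpWith P (FibCat.diag (FibCat.toSelf Xc))) (hP : P ≤ AlgSp.IsSeparatedMor)
    {T : Over S} {x : Xc.p.Fiber T} (hx : LocTriv2 (IsoNat.cls x)) : CleanF x := by
  intro W g y φ hφ s hs'
  haveI := hφ
  have hy : LocTriv2 (IsoNat.cls y) := by
    rw [rc_of_map g y φ]; exact locTriv2_rc g hx
  refine endo_eq_of_vaut y (fun σ => ?_) s hs'
  let 𝒰 := W.left.affineCover
  let c : ∀ k : 𝒰.I₀, Over.mk (𝒰.f k ≫ W.hom) ⟶ W := fun k => Over.homMk (𝒰.f k) rfl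
  have hcov : Sieve.generate (Presieve.ofArrows _ c) ∈ QuotSh.J Scheme.fppfPrecoverage S W :=
    ASp.mem_of_openCover c (fun k => show IsOpenImmersion (𝒰.f k) from inferInstance)
      (fun z => ⟨𝒰.idx z, 𝒰.covers z⟩) (fun k => ⟨_, 𝟙 _, c k, ⟨k⟩, Category.id_comp _⟩)
  obtain ⟨u, -, hu⟩ := existsUnique_glue (R := Sieve.generate (Presieve.ofArrows _ c)) (yFun y) (𝟙 W)
    (isPrestackFor hs hcov) (fun f hf => 1) (fun f g hf hg k h => res_one _ _)
  let ψ : up (𝟙 W) (𝟙 W) ⟶ Over.mk (𝟙 W) := Over.homMk (𝟙 W) (by simp)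
  haveI : IsIso ψ := ⟨⟨Over.homMk (𝟙 W) (by simp), Over.OverMorphism.ext (Category.id_comp _),
    Over.OverMorphism.ext (Category.id_comp _)⟩⟩
  refine (res_bijective (yFun y) (asIso ψ)).1 ((hu _ fun {V} f hf => ?_).trans (hu 1 fun f hf => res_one _ _).symm |>.trans (res_one _ _).symm)
  obtain ⟨V', m, _, ⟨k⟩, rfl⟩ := hf
  rw [← res_comp]
  -- the automorphism on an affine open
  let Vk : Over S := Over.mk (𝒰.f k ≫ W.hom)
  let a : Over W := Over.mk (c k)
  let τ : VAut (yFun y) a := res (yFun y) (Over.homMk (c k) (Category.comp_id _) : a ⟶ Over.mk (𝟙 W)) σ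
  let xk : Xc.p.Fiber Vk := pb (c k) y
  have hxk : LocTriv2 (IsoNat.cls xk) := by
    rw [← rc_cls]; exact locTriv2_rc _ hy
  have hτ : τ = 1 := by
    refine Subtype.ext (endo_eq_of_vaut xk (fun t => ?_) τ.1 τ.2)
    exact eq_of_locTriv hs hd hP _ _ xk hxk (fun b : Bool => if b then t else 1) true false
  have := congrArg (res (yFun y) (Over.homMk m : up (𝟙 W) (m ≫ c k) ⟶ a)) hτ
  rw [res_one, ← res_comp] at this
  refine Eq.trans ?_ this
  congr 1

include hs in
/-- Objects isomorphic compatibly on two opens covering the scheme are isomorphic. -/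
theorem iso_of_two {Z : Over S} {x y : Xc.p.Fiber Z} {V₁ V₂ : Over S} (a : V₁ ⟶ Z) (b : V₂ ⟶ Z)
    [IsOpenImmersion a.left] [IsOpenImmersion b.left]
    (hc : ∀ z : ↥Z.left, z ∈ Set.range a.left ∨ z ∈ Set.range b.left)
    (ea : pb a x ≅ pb a y) (eb : pb b x ≅ pb b y)
    (hag : ∀ {V : Over S} (m : V ⟶ V₁) (l : V ⟶ V₂) (h : m ≫ a = l ≫ b),
      ∃ ν : (pb (m ≫ a) x).1 ⟶ (pb (m ≫ a) y).1, Xc.p.IsHomLift (𝟙 V) ν ∧
        ν ≫ (yFun y).map (Over.homMk m rfl : Over.mk (m ≫ a) ⟶ Over.mk a) =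
          (yFun x).map (Over.homMk m rfl : Over.mk (m ≫ a) ⟶ Over.mk a) ≫ ea.hom.1 ∧
        ν ≫ (yFun y).map (Over.homMk l h.symm : Over.mk (m ≫ a) ⟶ Over.mk b) =
          (yFun x).map (Over.homMk l h.symm : Over.mk (m ≫ a) ⟶ Over.mk b) ≫ eb.hom.1) : Nonempty (x ≅ y) := by
  classical
  haveI ha : Mono a := ⟨fun m m' e => Over.OverMorphism.ext ((cancel_mono a.left).1 (congrArg CommaMorphism.left e))⟩
  haveI hb : Mono b := ⟨fun m m' e => Over.OverMorphism.ext ((cancel_mono b.left).1 (congrArg CommaMorphism.left e))⟩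
  let R := Sieve.generate (Presieve.singleton a) ⊔ Sieve.generate (Presieve.singleton b)
  have hcov : R ∈ QuotSh.J Scheme.fppfPrecoverage S Z := by
    refine ASp.mem_of_openCover (W := fun k : ULift.{u} Bool => if k.down then V₁ else V₂)
      (fun k => match k with | ⟨true⟩ => a | ⟨false⟩ => b) ?_ ?_ ?_
    · rintro ⟨_ | _⟩ <;> assumption
    · intro z
      rcases hc z with h | h
      · exact ⟨⟨true⟩, h⟩
      · exact ⟨⟨false⟩, h⟩
    · rintro ⟨_ | _⟩
      · exact Or.inr ⟨_, 𝟙 _, b, ⟨⟩, Category.id_comp _⟩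
      · exact Or.inl ⟨_, 𝟙 _, a, ⟨⟩, Category.id_comp _⟩
  have ex : ∀ f : (Stk.sieveCat R).obj, ∃ t : (pb f.obj.hom x).1 ⟶ (pb f.obj.hom y).1,
      Xc.p.IsHomLift (𝟙 f.obj.left) t ∧
      (∀ (m : f.obj.left ⟶ V₁) (h : m ≫ a = f.obj.hom),
        t ≫ (yFun y).map (Over.homMk m h : f.obj ⟶ Over.mk a) = (yFun x).map (Over.homMk m h : f.obj ⟶ Over.mk a) ≫ ea.hom.1) ∧
      (∀ (m : f.obj.left ⟶ V₂) (h : m ≫ b = f.obj.hom),
        t ≫ (yFun y).map (Over.homMk m h : f.obj ⟶ Over.mk b) = (yFun x).map (Over.homMk m h : f.obj ⟶ Over.mk b) ≫ eb.hom.1) := by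
    intro f
    have mk : ∀ {V : Over S} (c : V ⟶ Z) (e : pb c x ≅ pb c y) (m : f.obj.left ⟶ V) (h : m ≫ c = f.obj.hom),
        ∃! t : (pb f.obj.hom x).1 ⟶ (pb f.obj.hom y).1, Xc.p.IsHomLift (𝟙 f.obj.left) t ∧
          t ≫ (yFun y).map (Over.homMk m h : f.obj ⟶ Over.mk c) = (yFun x).map (Over.homMk m h : f.obj ⟶ Over.mk c) ≫ e.hom.1 := by
      intro V c e m h
      obtain ⟨h1, -⟩ := yFun_map x (Over.homMk m h : f.obj ⟶ Over.mk c)
      obtain ⟨h2, -⟩ := yFun_map y (Over.homMk m h : f.obj ⟶ Over.mk c)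
      have l := @IsHomLift.comp _ _ _ _ Xc.p _ _ _ _ _ _ m (𝟙 V) _ e.hom.1 h1 e.hom.2
      exact @existsUnique_desc _ _ Xc _ _ _ _ _ _ _ (𝟙 f.obj.left) m _ h2 _
        (lift_congr ((Category.comp_id m).trans (Category.id_comp m).symm) l)
    have both' : ∀ {W : Over S} (g : W ⟶ Z) (m : W ⟶ V₁) (l : W ⟶ V₂) (hm : m ≫ a = g) (hl : l ≫ b = g),
        ∃ ν : (pb g x).1 ⟶ (pb g y).1, Xc.p.IsHomLift (𝟙 W) ν ∧
        ν ≫ (yFun y).map (Over.homMk m hm : Over.mk g ⟶ Over.mk a) = (yFun x).map (Over.homMk m hm : Over.mk g ⟶ Over.mk a) ≫ ea.hom.1 ∧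
        ν ≫ (yFun y).map (Over.homMk l hl : Over.mk g ⟶ Over.mk b) = (yFun x).map (Over.homMk l hl : Over.mk g ⟶ Over.mk b) ≫ eb.hom.1 := by
      intro W g m l hm hl
      subst hm
      exact hag m l hl.symm
    have both := both' f.obj.hom
    rcases f.property with ⟨_, m, _, ⟨⟩, hm⟩ | ⟨_, m, _, ⟨⟩, hm⟩
    · obtain ⟨t, ⟨h1, h2⟩, hu⟩ := mk a ea m hm
      refine ⟨t, h1, fun m' h' => ?_, fun m' h' => ?_⟩
      · obtain rfl : m' = m := (cancel_mono a).1 (h'.trans hm.symm)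
        exact h2
      · obtain ⟨ν, hν, hν1, hν2⟩ := both m m' hm h'
        rw [← hu ν ⟨hν, hν1⟩]; exact hν2
    · obtain ⟨t, ⟨h1, h2⟩, hu⟩ := mk b eb m hm
      refine ⟨t, h1, fun m' h' => ?_, fun m' h' => ?_⟩
      · obtain ⟨ν, hν, hν1, hν2⟩ := both m' m h' hm
        rw [← hu ν ⟨hν, hν2⟩]; exact hν1
      · obtain rfl : m' = m := (cancel_mono b).1 (h'.trans hm.symm)
        exact h2
  choose t ht1 hta htb using ex
  obtain ⟨j⟩ := natIso_of_family ((Stk.resSieve R Xc).obj (yFun x)) ((Stk.resSieve R Xc).obj (yFun y)) t ht1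
    (fun f f' k => by
      obtain ⟨hx1, -⟩ := yFun_map x k.hom
      obtain ⟨hy1, -⟩ := yFun_map y k.hom
      have l1 := @IsHomLift.comp _ _ _ _ Xc.p _ _ _ _ _ _ k.hom.left (𝟙 f'.obj.left) _ _ hx1 (ht1 f')
      have l2 := @IsHomLift.comp _ _ _ _ Xc.p _ _ _ _ _ _ (𝟙 f.obj.left) k.hom.left _ _ (ht1 f) hy1
      rw [Category.comp_id] at l1
      rw [Category.id_comp] at l2
      rcases f'.property with ⟨_, m, _, ⟨⟩, hm⟩ | ⟨_, m, _, ⟨⟩, hm⟩
      · let q : f'.obj ⟶ Over.mk a := Over.homMk m hm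
        refine @hom_ext _ _ Xc _ _ _ _ _ _ k.hom.left _ _ l1 l2 ((yFun y).map q) ?_
        have h := hta f (k.hom.left ≫ m) ((Category.assoc _ _ _).trans ((congrArg _ hm).trans (Over.w k.hom)))
        have e : (Over.homMk (k.hom.left ≫ m) ((Category.assoc _ _ _).trans ((congrArg _ hm).trans
            (Over.w k.hom))) : f.obj ⟶ Over.mk a) = k.hom ≫ q := Over.OverMorphism.ext rfl
        rw [e] at h
        exact (Category.assoc _ _ _).trans ((congrArg _ (hta f' m hm)).trans ((Category.assoc _ _ _).symm.trans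
          ((congrArg (· ≫ ea.hom.1) ((yFun x).map_comp k.hom q).symm).trans (h.symm.trans
            ((congrArg _ ((yFun y).map_comp k.hom q)).trans (Category.assoc _ _ _).symm)))))
      · let q : f'.obj ⟶ Over.mk b := Over.homMk m hm
        refine @hom_ext _ _ Xc _ _ _ _ _ _ k.hom.left _ _ l1 l2 ((yFun y).map q) ?_
        have h := htb f (k.hom.left ≫ m) ((Category.assoc _ _ _).trans ((congrArg _ hm).trans (Over.w k.hom)))
        have e : (Over.homMk (k.hom.left ≫ m) ((Category.assoc _ _ _).trans ((congrArg _ hm).trans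
            (Over.w k.hom))) : f.obj ⟶ Over.mk b) = k.hom ≫ q := Over.OverMorphism.ext rfl
        rw [e] at h
        exact (Category.assoc _ _ _).trans ((congrArg _ (htb f' m hm)).trans ((Category.assoc _ _ _).symm.trans
          ((congrArg (· ≫ eb.hom.1) ((yFun x).map_comp k.hom q).symm).trans (h.symm.trans
            ((congrArg _ ((yFun y).map_comp k.hom q)).trans (Category.assoc _ _ _).symm))))))
  haveI : (Stk.resSieve R Xc).IsEquivalence := hs.2 R hcov
  have i := (Stk.resSieve R Xc).preimageIso j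
  obtain ⟨p1⟩ := pb_id x
  obtain ⟨p2⟩ := pb_id y
  exact ⟨p1.symm ≪≫ @fibIso (Over S) _ Xc _ Z (pb (𝟙 Z) x) (pb (𝟙 Z) y)
    (i.hom.toNatTrans.app (Over.mk (𝟙 Z))) (i.hom.isHomLift' (Over.mk (𝟙 Z))) ≪≫ p2⟩

include hs in
/-- Objects isomorphic on a disjoint cover are isomorphic. -/
theorem iso_of_disjoint {Z : Over S} {x y : Xc.p.Fiber Z} {V₁ V₂ : Over S} (a : V₁ ⟶ Z) (b : V₂ ⟶ Z)
    (hcov : Sieve.generate (Presieve.singleton a) ⊔ Sieve.generate (Presieve.singleton b) ∈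
      QuotSh.J Scheme.fppfPrecoverage S Z)
    (ha : Mono a) (hb : Mono b) (hdis : ∀ {V : Over S} (m : V ⟶ V₁) (l : V ⟶ V₂), m ≫ a = l ≫ b → IsEmpty ↥V.left)
    (ea : pb a x ≅ pb a y) (eb : pb b x ≅ pb b y) : Nonempty (x ≅ y) := by
  classical
  let R := Sieve.generate (Presieve.singleton a) ⊔ Sieve.generate (Presieve.singleton b)
  have sub : ∀ {V : Over S} (z : Xc.p.Fiber V), IsEmpty ↥V.left → ∀ s : z.1 ⟶ z.1,
      Xc.p.IsHomLift (𝟙 V) s → s = 𝟙 z.1 := fun z h s hs' =>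
    endo_eq_of_vaut z (fun t => vaut_subsingleton hs (yFun z) h t 1) s hs'
  have ex : ∀ f : (Stk.sieveCat R).obj, ∃ t : (pb f.obj.hom x).1 ⟶ (pb f.obj.hom y).1,
      Xc.p.IsHomLift (𝟙 f.obj.left) t ∧
      (∀ (m : f.obj.left ⟶ V₁) (h : m ≫ a = f.obj.hom),
        t ≫ (yFun y).map (Over.homMk m h : f.obj ⟶ Over.mk a) = (yFun x).map (Over.homMk m h : f.obj ⟶ Over.mk a) ≫ ea.hom.1) ∧
      (∀ (m : f.obj.left ⟶ V₂) (h : m ≫ b = f.obj.hom),
        t ≫ (yFun y).map (Over.homMk m h : f.obj ⟶ Over.mk b) = (yFun x).map (Over.homMk m h : f.obj ⟶ Over.mk b) ≫ eb.hom.1) := by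
    intro f
    have mk : ∀ {V : Over S} (c : V ⟶ Z) (e : pb c x ≅ pb c y) (m : f.obj.left ⟶ V) (h : m ≫ c = f.obj.hom),
        ∃! t : (pb f.obj.hom x).1 ⟶ (pb f.obj.hom y).1, Xc.p.IsHomLift (𝟙 f.obj.left) t ∧
          t ≫ (yFun y).map (Over.homMk m h : f.obj ⟶ Over.mk c) = (yFun x).map (Over.homMk m h : f.obj ⟶ Over.mk c) ≫ e.hom.1 := by
      intro V c e m h
      obtain ⟨h1, -⟩ := yFun_map x (Over.homMk m h : f.obj ⟶ Over.mk c)
      obtain ⟨h2, -⟩ := yFun_map y (Over.homMk m h : f.obj ⟶ Over.mk c)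
      have l := @IsHomLift.comp _ _ _ _ Xc.p _ _ _ _ _ _ m (𝟙 V) _ e.hom.1 h1 e.hom.2
      exact @existsUnique_desc _ _ Xc _ _ _ _ _ _ _ (𝟙 f.obj.left) m _ h2 _
        (lift_congr ((Category.comp_id m).trans (Category.id_comp m).symm) l)
    rcases f.property with ⟨_, m, _, ⟨⟩, hm⟩ | ⟨_, m, _, ⟨⟩, hm⟩
    · obtain ⟨t, ⟨h1, h2⟩, hu⟩ := mk a ea m hm
      refine ⟨t, h1, fun m' h' => ?_, fun m' h' => ?_⟩
      · obtain rfl : m' = m := (cancel_mono a).1 (h'.trans hm.symm)
        exact h2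
      · obtain ⟨t', ⟨h1', h2'⟩, -⟩ := mk b eb m' h'
        haveI := isIso_of_lift_id (U := f.obj.left) t'
        have l := @IsHomLift.lift_id_inv_isIso _ _ _ _ Xc.p f.obj.left _ _ t' _ h1'
        have : t ≫ inv t' = 𝟙 _ := sub (pb f.obj.hom x) (hdis m m' (hm.trans h'.symm)) _
          (@IsHomLift.comp_of_lift_id _ _ _ _ _ _ _ _ _ _ _ h1 l)
        rw [IsIso.comp_inv_eq, Category.id_comp] at this
        rw [this]; exact h2'
    · obtain ⟨t, ⟨h1, h2⟩, hu⟩ := mk b eb m hm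
      refine ⟨t, h1, fun m' h' => ?_, fun m' h' => ?_⟩
      · obtain ⟨t', ⟨h1', h2'⟩, -⟩ := mk a ea m' h'
        haveI := isIso_of_lift_id (U := f.obj.left) t'
        have l := @IsHomLift.lift_id_inv_isIso _ _ _ _ Xc.p f.obj.left _ _ t' _ h1'
        have : t ≫ inv t' = 𝟙 _ := sub (pb f.obj.hom x) (hdis m' m (h'.trans hm.symm)) _
          (@IsHomLift.comp_of_lift_id _ _ _ _ _ _ _ _ _ _ _ h1 l)
        rw [IsIso.comp_inv_eq, Category.id_comp] at this
        rw [this]; exact h2'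
      · obtain rfl : m' = m := (cancel_mono b).1 (h'.trans hm.symm)
        exact h2
  choose t ht1 hta htb using ex
  obtain ⟨j⟩ := natIso_of_family ((Stk.resSieve R Xc).obj (yFun x)) ((Stk.resSieve R Xc).obj (yFun y)) t ht1
    (fun f f' k => by
      obtain ⟨hx1, -⟩ := yFun_map x k.hom
      obtain ⟨hy1, -⟩ := yFun_map y k.hom
      have l1 := @IsHomLift.comp _ _ _ _ Xc.p _ _ _ _ _ _ k.hom.left (𝟙 f'.obj.left) _ _ hx1 (ht1 f')
      have l2 := @IsHomLift.comp _ _ _ _ Xc.p _ _ _ _ _ _ (𝟙 f.obj.left) k.hom.left _ _ (ht1 f) hy1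
      rw [Category.comp_id] at l1
      rw [Category.id_comp] at l2
      rcases f'.property with ⟨_, m, _, ⟨⟩, hm⟩ | ⟨_, m, _, ⟨⟩, hm⟩
      · let q : f'.obj ⟶ Over.mk a := Over.homMk m hm
        refine @hom_ext _ _ Xc _ _ _ _ _ _ k.hom.left _ _ l1 l2 ((yFun y).map q) ?_
        have h := hta f (k.hom.left ≫ m) ((Category.assoc _ _ _).trans ((congrArg _ hm).trans (Over.w k.hom)))
        have e : (Over.homMk (k.hom.left ≫ m) ((Category.assoc _ _ _).trans ((congrArg _ hm).trans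
            (Over.w k.hom))) : f.obj ⟶ Over.mk a) = k.hom ≫ q := Over.OverMorphism.ext rfl
        rw [e] at h
        exact (Category.assoc _ _ _).trans ((congrArg _ (hta f' m hm)).trans ((Category.assoc _ _ _).symm.trans
          ((congrArg (· ≫ ea.hom.1) ((yFun x).map_comp k.hom q).symm).trans (h.symm.trans
            ((congrArg _ ((yFun y).map_comp k.hom q)).trans (Category.assoc _ _ _).symm)))))
      · let q : f'.obj ⟶ Over.mk b := Over.homMk m hm
        refine @hom_ext _ _ Xc _ _ _ _ _ _ k.hom.left _ _ l1 l2 ((yFun y).map q) ?_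
        have h := htb f (k.hom.left ≫ m) ((Category.assoc _ _ _).trans ((congrArg _ hm).trans (Over.w k.hom)))
        have e : (Over.homMk (k.hom.left ≫ m) ((Category.assoc _ _ _).trans ((congrArg _ hm).trans
            (Over.w k.hom))) : f.obj ⟶ Over.mk b) = k.hom ≫ q := Over.OverMorphism.ext rfl
        rw [e] at h
        exact (Category.assoc _ _ _).trans ((congrArg _ (htb f' m hm)).trans ((Category.assoc _ _ _).symm.trans
          ((congrArg (· ≫ eb.hom.1) ((yFun x).map_comp k.hom q).symm).trans (h.symm.trans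
            ((congrArg _ ((yFun y).map_comp k.hom q)).trans (Category.assoc _ _ _).symm))))))
  haveI : (Stk.resSieve R Xc).IsEquivalence := hs.2 R hcov
  have i := (Stk.resSieve R Xc).preimageIso j
  obtain ⟨p1⟩ := pb_id x
  obtain ⟨p2⟩ := pb_id y
  exact ⟨p1.symm ≪≫ @fibIso (Over S) _ Xc _ Z (pb (𝟙 Z) x) (pb (𝟙 Z) y)
    (i.hom.toNatTrans.app (Over.mk (𝟙 Z))) (i.hom.isHomLift' (Over.mk (𝟙 Z))) ≪≫ p2⟩

end Groth.Agent.H9St
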