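import Groth.Agent.Lib.H9StAut
import Groth.Prelude.Def_W4c2isonaturalstkIso
/-! Presheaves of isomorphism classes: restriction, naturality, clean objects, equivalences of clean categories. -/

set_option autoImplicit false
set_option linter.style.haveILetI false
set_option linter.unusedVariables false
set_option linter.unusedSectionVars false
set_option backward.isDefEq.respectTransparency.types false

universe u

open CategoryTheory CategoryTheory.Functor AlgebraicGeometry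

namespace Groth.Agent.H9St

variable {S : Scheme.{u}} {X Y : AlgSt.Cat S}

theorem cls_eq_iff {T : Over S} (x y : X.p.Fiber T) : IsoNat.cls x = IsoNat.cls y ↔ Nonempty (x ≅ y) :=
  ⟨fun h => Quotient.exact (s := isIsomorphicSetoid (X.p.Fiber T)) h,
   fun h => Quotient.sound (s := isIsomorphicSetoid (X.p.Fiber T)) h⟩

variable [hX : FibCat.IsFibGrpd X.p] [hY : FibCat.IsFibGrpd Y.p]

/-- Restriction of isomorphism classes. -/
noncomputable def rc {T' T : Over S} (g : T' ⟶ T) : IsoNat.IsoCl X T → IsoNat.IsoCl X T' :=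
  Quotient.lift (fun x => IsoNat.cls (pb g x)) fun x x' h =>
    (cls_eq_iff _ _).2 (h.elim fun e => pb_congr g e)

theorem rc_cls {T' T : Over S} (g : T' ⟶ T) (x : X.p.Fiber T) : rc g (IsoNat.cls x) = IsoNat.cls (pb g x) := rfl

theorem rc_of_map {T' T : Over S} (g : T' ⟶ T) {x : X.p.Fiber T} (x' : X.p.Fiber T') (a : x'.1 ⟶ x.1)
    [X.p.IsHomLift g a] : IsoNat.cls x' = rc g (IsoNat.cls x) := (cls_eq_iff _ _).2 (pb_iso_of_map g x' a)

theorem rc_id {T : Over S} (c : IsoNat.IsoCl X T) : rc (𝟙 T) c = c := by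
  induction c using Quotient.ind with
  | _ x => exact (cls_eq_iff _ _).2 (pb_id x)

theorem rc_comp {T'' T' T : Over S} (h : T'' ⟶ T') (g : T' ⟶ T) (c : IsoNat.IsoCl X T) :
    rc h (rc g c) = rc (h ≫ g) c := by
  induction c using Quotient.ind with
  | _ x => exact (cls_eq_iff _ _).2 (pb_comp h g x)

/-- An isomorphism of presheaves of classes commutes with restriction. -/
theorem fIso_rc (φ : IsoNat.FIso X Y) {T' T : Over S} (g : T' ⟶ T) (c : IsoNat.IsoCl X T) :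
    φ.toEquiv T' (rc g c) = rc g (φ.toEquiv T c) := by
  induction c using Quotient.ind with
  | _ x =>
    obtain ⟨y', y, b, hb, h1, h2⟩ := φ.natural g (pb g x) x (pbMap g x) inferInstance
    change φ.toEquiv T' (IsoNat.cls (pb g x)) = rc g (φ.toEquiv T (IsoNat.cls x))
    haveI := hb
    rw [h1, h2]; exact rc_of_map g y' b

/-- The inverse isomorphism of presheaves of classes. -/
noncomputable def fIsoSymm (φ : IsoNat.FIso X Y) : IsoNat.FIso Y X where
  toEquiv T := (φ.toEquiv T).symm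
  natural {T' T} g y' y a ha := by
    obtain ⟨x, hx⟩ := Quotient.exists_rep ((φ.toEquiv T).symm (IsoNat.cls y))
    have hx' : IsoNat.cls x = (φ.toEquiv T).symm (IsoNat.cls y) := hx
    refine ⟨pb g x, x, pbMap g x, inferInstance, ?_, hx'.symm⟩
    apply (φ.toEquiv T').injective
    rw [Equiv.apply_symm_apply, ← rc_cls g x, fIso_rc, hx', Equiv.apply_symm_apply]
    haveI := ha
    exact rc_of_map g y' a

/-- Every pullback of `x` has no vertical endomorphism but the identity. -/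
def CleanF {T : Over S} (x : X.p.Fiber T) : Prop :=
  ∀ ⦃W : Over S⦄ (g : W ⟶ T) (y : X.p.Fiber W) (φ : y.1 ⟶ x.1), X.p.IsHomLift g φ →
    ∀ s : y.1 ⟶ y.1, X.p.IsHomLift (𝟙 W) s → s = 𝟙 y.1

omit hX in
theorem isClean_iff {T : Over S} (x : X.p.Fiber T) : IsoNat.IsClean x.1 ↔ CleanF x := by
  constructor
  · intro h W g y φ hφ s hs
    refine h y.1 φ s ?_
    have := IsHomLift.fac' X.p (𝟙 W) s
    simpa using this
  · intro h z φ s hs
    haveI : X.p.IsHomLift (X.p.map φ ≫ eqToHom x.2) φ := inferInstance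
    refine h (W := X.p.obj z) (X.p.map φ ≫ eqToHom x.2) ⟨z, rfl⟩ φ inferInstance s ?_
    rw [← hs]; exact .map s

omit hX in
theorem cleanF_of_map {T' T : Over S} (g : T' ⟶ T) {x : X.p.Fiber T} (y : X.p.Fiber T') (φ : y.1 ⟶ x.1)
    [X.p.IsHomLift g φ] (h : CleanF x) : CleanF y := by
  intro W k z ψ hψ s hs
  haveI := hψ
  exact h (k ≫ g) z (ψ ≫ φ) inferInstance s hs

theorem cleanF_pb {T' T : Over S} (g : T' ⟶ T) {x : X.p.Fiber T} (h : CleanF x) : CleanF (pb g x) :=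
  cleanF_of_map g _ (pbMap g x) h

/-- Parallel morphisms out of a pullback of a clean object agree. -/
theorem eq_of_cleanF {T' T : Over S} (g : T' ⟶ T) {x : X.p.Fiber T} {y : X.p.Fiber T'} (hy : CleanF y)
    (φ ψ : y.1 ⟶ x.1) [X.p.IsHomLift g φ] [X.p.IsHomLift g ψ] : φ = ψ := by
  haveI : X.p.IsHomLift (𝟙 T' ≫ g) φ := by rw [Category.id_comp]; infer_instance
  obtain ⟨χ, ⟨h1, h2⟩, -⟩ := existsUnique_desc (𝟙 T') g ψ φ
  have : χ = 𝟙 y.1 := hy (𝟙 T') y (𝟙 y.1) (IsHomLift.id y.2) χ h1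
  rw [← h2, this, Category.id_comp]

/-- Locally trivial classes are trivial. -/
def LocTriv (J : GrothendieckTopology (Over S)) {T : Over S} (c : IsoNat.IsoCl X T) : Prop :=
  ∀ (Z : Over S) (g : Z ⟶ T) (R : Sieve Z), R ∈ J Z → ∀ d : IsoNat.IsoCl X Z,
    (∀ (W : Over S) (f : W ⟶ Z), R f → rc f d = rc f (rc g c)) → d = rc g c

/-- Classes trivial on two opens covering the scheme are trivial. -/
def LocTriv2 {T : Over S} (c : IsoNat.IsoCl X T) : Prop :=
  ∀ (Z : Over S) (g : Z ⟶ T) (V₁ V₂ : Over S) (a : V₁ ⟶ Z) (b : V₂ ⟶ Z), IsOpenImmersion a.left →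
    IsOpenImmersion b.left → (∀ z : ↥Z.left, z ∈ Set.range a.left ∨ z ∈ Set.range b.left) →
    ∀ d : IsoNat.IsoCl X Z, rc a d = rc a (rc g c) → rc b d = rc b (rc g c) → d = rc g c

theorem locTriv2_map (φ : IsoNat.FIso X Y) {T : Over S} {c : IsoNat.IsoCl X T} (h : LocTriv2 c) :
    LocTriv2 (φ.toEquiv T c) := by
  intro Z g V₁ V₂ a b ha hb hcov d h1 h2
  obtain ⟨d, rfl⟩ := (φ.toEquiv Z).surjective d
  rw [h Z g V₁ V₂ a b ha hb hcov d ((φ.toEquiv V₁).injective (by rw [fIso_rc, fIso_rc, fIso_rc]; exact h1))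
    ((φ.toEquiv V₂).injective (by rw [fIso_rc, fIso_rc, fIso_rc]; exact h2)), fIso_rc]

theorem locTriv2_rc {T' T : Over S} (g : T' ⟶ T) {c : IsoNat.IsoCl X T} (h : LocTriv2 c) :
    LocTriv2 (rc g c) := by
  intro Z k V₁ V₂ a b ha hb hcov d h1 h2
  rw [rc_comp] at h1 h2 ⊢
  rw [rc_comp] at h1 h2
  exact h Z (k ≫ g) V₁ V₂ a b ha hb hcov d (by rw [rc_comp]; exact h1) (by rw [rc_comp]; exact h2)

theorem iso_of_cleanF_of_local {J : GrothendieckTopology (Over S)} (hs : Stk.IsStack J X) {Z : Over S}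
    {x y : X.p.Fiber Z} (hx : CleanF x) {R : Sieve Z} (hR : R ∈ J Z)
    (h : ∀ (W : Over S) (f : W ⟶ Z), R f → Nonempty (pb f y ≅ pb f x)) : Nonempty (y ≅ x) := by
  let e : ∀ a : (Stk.sieveCat R).obj, pb a.obj.hom y ≅ pb a.obj.hom x := fun a =>
    (h a.obj.left a.obj.hom a.property).some
  have hc : ∀ a : (Stk.sieveCat R).obj, CleanF (pb a.obj.hom y) := fun a => by
    haveI : X.p.IsHomLift (𝟙 a.obj.left) (e a).hom.1 := (e a).hom.2
    exact cleanF_of_map (𝟙 _) _ (e a).hom.1 (cleanF_pb _ hx)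
  obtain ⟨j⟩ := natIso_of_family ((Stk.resSieve R X).obj (yFun y)) ((Stk.resSieve R X).obj (yFun x))
    (fun a => (e a).hom.1) (fun a => (e a).hom.2) (fun a b k => by
      have h1 := (yFun_map y k.hom).1
      have h2 := (yFun_map x k.hom).1
      have l1 := @IsHomLift.comp _ _ _ _ X.p _ _ _ _ _ _ k.hom.left (𝟙 b.obj.left) _ _ h1 (e b).hom.2
      have l2 := @IsHomLift.comp _ _ _ _ X.p _ _ _ _ _ _ (𝟙 a.obj.left) k.hom.left _ _ (e a).hom.2 h2
      rw [Category.comp_id] at l1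
      rw [Category.id_comp] at l2
      exact @eq_of_cleanF S X hX _ _ k.hom.left _ _ (hc a) _ _ l1 l2)
  haveI : (Stk.resSieve R X).IsEquivalence := hs.2 R hR
  have i := (Stk.resSieve R X).preimageIso j
  obtain ⟨p1⟩ := pb_id y
  obtain ⟨p2⟩ := pb_id x
  exact ⟨p1.symm ≪≫ @fibIso (Over S) _ X _ Z (pb (𝟙 Z) y) (pb (𝟙 Z) x)
    (i.hom.toNatTrans.app (Over.mk (𝟙 Z))) (i.hom.isHomLift' (Over.mk (𝟙 Z))) ≪≫ p2⟩

theorem locTriv_of_cleanF {J : GrothendieckTopology (Over S)} (hs : Stk.IsStack J X) {T : Over S}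
    {x : X.p.Fiber T} (hx : CleanF x) : LocTriv J (IsoNat.cls x) := by
  intro Z g R hR d hd
  induction d using Quotient.ind with
  | _ y =>
    exact (cls_eq_iff _ _).2 (iso_of_cleanF_of_local hs (cleanF_pb g hx) hR
      fun W f hf => (cls_eq_iff _ _).1 (hd W f hf))

theorem locTriv_map {J : GrothendieckTopology (Over S)} (φ : IsoNat.FIso X Y) {T : Over S}
    {c : IsoNat.IsoCl X T} (h : LocTriv J c) : LocTriv J (φ.toEquiv T c) := by
  intro Z g R hR d hd
  obtain ⟨d, rfl⟩ := (φ.toEquiv Z).surjective d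
  rw [h Z g R hR d fun W f hf => (φ.toEquiv W).injective (by rw [fIso_rc, fIso_rc, fIso_rc]; exact hd W f hf),
    fIso_rc]

omit hX in
theorem exists_functor (φ : IsoNat.FIso X Y) (hY' : ∀ (T : Over S) (y : Y.p.Fiber T), CleanF y) :
    ∃ F : X ⥤ᵇ Y, ∀ a : X.obj,
      IsoNat.cls (at' F a) = φ.toEquiv (X.p.obj a) (IsoNat.cls (⟨a, rfl⟩ : X.p.Fiber (X.p.obj a))) := by
  choose o ho using fun a : X.obj =>
    Quotient.exists_rep (φ.toEquiv (X.p.obj a) (IsoNat.cls (⟨a, rfl⟩ : X.p.Fiber (X.p.obj a))))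
  have he : ∀ (a b : X.obj) (k : a ⟶ b), ∃ m : (o a).1 ⟶ (o b).1, Y.p.IsHomLift (X.p.map k) m := by
    intro a b k
    obtain ⟨y', y, m, hm, h1, h2⟩ := φ.natural (X.p.map k) ⟨a, rfl⟩ ⟨b, rfl⟩ k (.map k)
    obtain ⟨e1⟩ := (cls_eq_iff _ _).1 ((ho a).trans h1)
    obtain ⟨e2⟩ := (cls_eq_iff _ _).1 (h2.symm.trans (ho b).symm)
    haveI := e1.hom.2
    haveI := e2.hom.2
    haveI := hm
    exact ⟨e1.hom.1 ≫ m ≫ e2.hom.1, inferInstance⟩
  choose m hm using he
  have hu : ∀ (a b : X.obj) (k : a ⟶ b) (m' : (o a).1 ⟶ (o b).1), Y.p.IsHomLift (X.p.map k) m' → m a b k = m' :=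
    fun a b k m' h => @eq_of_cleanF S Y hY _ _ (X.p.map k) (o b) (o a) (hY' _ _) _ _ (hm a b k) h
  let F : X.obj ⥤ Y.obj :=
    { obj := fun a => (o a).1
      map := fun {a b} k => m a b k
      map_id := fun a => hu a a (𝟙 a) _ (by rw [X.p.map_id]; exact IsHomLift.id (o a).2)
      map_comp := fun {a b c} k l => hu a c (k ≫ l) _ (by
        rw [X.p.map_comp]
        exact @IsHomLift.comp _ _ _ _ Y.p _ _ _ _ _ _ _ _ _ _ (hm a b k) (hm b c l)) }
  refine ⟨{ toFunctor := F, w := CategoryTheory.Functor.ext (fun a => (o a).2) (fun a b k => by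
    haveI := hm a b k
    exact IsHomLift.fac' Y.p (X.p.map k) (m a b k)) }, fun a => ?_⟩
  exact ho a

theorem isEquivOver_of_clean (φ : IsoNat.FIso X Y) (hX' : ∀ (T : Over S) (x : X.p.Fiber T), CleanF x)
    (hY' : ∀ (T : Over S) (y : Y.p.Fiber T), CleanF y) : ∃ F : X ⥤ᵇ Y, FibCat.IsEquivOver F := by
  obtain ⟨F, hF⟩ := exists_functor φ hY'
  obtain ⟨G, hG⟩ := exists_functor (fIsoSymm φ) hX'
  have key : ∀ {A : AlgSt.Cat S} [FibCat.IsFibGrpd A.p] (_ : ∀ (T : Over S) (x : A.p.Fiber T), CleanF x)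
      (E : A ⥤ᵇ A), (∀ a, IsoNat.cls (at' E a) = IsoNat.cls (⟨a, rfl⟩ : A.p.Fiber (A.p.obj a))) →
      Nonempty (E ≅ BasedFunctor.id A) := by
    intro A _ hA E hE
    have e := fun a => ((cls_eq_iff _ _).1 (hE a)).some
    refine natIso_of_family E (BasedFunctor.id A) (fun a => (e a).hom.1) (fun a => (e a).hom.2) fun a b k => ?_
    have l1 := @IsHomLift.comp _ _ _ _ A.p _ _ _ _ _ _ (A.p.map k) (𝟙 _) _ _ (lift_map E k) (e b).hom.2
    have l2 := @IsHomLift.comp _ _ _ _ A.p _ _ _ _ _ _ (𝟙 _) (A.p.map k) _ _ (e a).hom.2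
      (lift_map (BasedFunctor.id A) k)
    rw [Category.comp_id] at l1
    rw [Category.id_comp] at l2
    exact @eq_of_cleanF S A _ _ _ (A.p.map k) ⟨b, rfl⟩ (at' E a) (hA _ _) _ _ l1 l2
  refine ⟨F, G, key hX' _ fun a => ?_, key hY' _ fun b => ?_⟩
  · have h := hG (F.obj a)
    have aux : ∀ (T : Over S) (h' : Y.p.obj (F.obj a) = T), IsoNat.cls (⟨G.obj (F.obj a), (G.w_obj _).trans h'⟩ :
        X.p.Fiber T) = (φ.toEquiv T).symm (IsoNat.cls (⟨F.obj a, h'⟩ : Y.p.Fiber T)) := by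
      rintro T rfl; exact h
    refine (aux _ (F.w_obj a)).trans ?_
    exact (congrArg _ (hF a)).trans ((φ.toEquiv _).symm_apply_apply _)
  · have h := hF (G.obj b)
    have aux : ∀ (T : Over S) (h' : X.p.obj (G.obj b) = T), IsoNat.cls (⟨F.obj (G.obj b), (F.w_obj _).trans h'⟩ :
        Y.p.Fiber T) = φ.toEquiv T (IsoNat.cls (⟨G.obj b, h'⟩ : X.p.Fiber T)) := by
      rintro T rfl; exact h
    refine (aux _ (G.w_obj b)).trans ?_
    exact (congrArg _ (hG b)).trans ((φ.toEquiv _).apply_symm_apply _)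

omit hX hY in
theorem isEquivOver_comp {A B D : AlgSt.Cat S} {F : A ⥤ᵇ B} {G : B ⥤ᵇ D} (hF : FibCat.IsEquivOver F)
    (hG : FibCat.IsEquivOver G) : FibCat.IsEquivOver (BasedFunctor.comp F G) := by
  obtain ⟨F', ⟨a⟩, ⟨b⟩⟩ := hF
  obtain ⟨G', ⟨c⟩, ⟨d⟩⟩ := hG
  let wL {A B D : AlgSt.Cat S} (P : A ⥤ᵇ B) {Q R : B ⥤ᵇ D} (i : Q ≅ R) :
      BasedFunctor.comp P Q ≅ BasedFunctor.comp P R :=
    { hom := BasedCategory.whiskerLeft P i.hom
      inv := BasedCategory.whiskerLeft P i.inv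
      hom_inv_id := by ext a; exact congrArg (fun t => t.toNatTrans.app (P.obj a)) i.hom_inv_id
      inv_hom_id := by ext a; exact congrArg (fun t => t.toNatTrans.app (P.obj a)) i.inv_hom_id }
  let wR {A B D : AlgSt.Cat S} {Q R : A ⥤ᵇ B} (i : Q ≅ R) (P : B ⥤ᵇ D) :
      BasedFunctor.comp Q P ≅ BasedFunctor.comp R P :=
    { hom := BasedCategory.whiskerRight i.hom P
      inv := BasedCategory.whiskerRight i.inv P
      hom_inv_id := by
        ext a
        exact ((P.toFunctor.map_comp _ _).symm.trans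
          (congrArg P.toFunctor.map (congrArg (fun t => t.toNatTrans.app a) i.hom_inv_id))).trans
            (P.toFunctor.map_id _)
      inv_hom_id := by
        ext a
        exact ((P.toFunctor.map_comp _ _).symm.trans
          (congrArg P.toFunctor.map (congrArg (fun t => t.toNatTrans.app a) i.inv_hom_id))).trans
            (P.toFunctor.map_id _) }
  exact ⟨BasedFunctor.comp G' F', ⟨wL F (wR c F') ≪≫ a⟩, ⟨wL G' (wR b G) ≪≫ d⟩⟩

/-- An algebraic space has no vertical endomorphisms but identities. -/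
theorem cleanF_of_equiv {F : AlgSp.Sp S} {e : AlgSt.ofSp F ⥤ᵇ X} (he : FibCat.IsEquivOver e) {T : Over S}
    (x : X.p.Fiber T) : CleanF x := by
  intro W g y φ hφ s hs
  obtain ⟨G, -, ⟨d⟩⟩ := he
  haveI := hs
  have h1 : G.map s = 𝟙 (G.obj y.1) := by
    refine Stk.EltObj.hom_ext ?_
    haveI : (AlgSt.ofSp F).p.IsHomLift (𝟙 W) (G.map s) := @BasedFunctor.preserves_isHomLift _ _ _ _ G _ _ _ _ (𝟙 W) s hs
    haveI : (AlgSt.ofSp F).p.IsHomLift (𝟙 W) (𝟙 (G.obj y.1)) := IsHomLift.id ((G.w_obj _).trans y.2)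
    exact (IsHomLift.fac' (AlgSt.ofSp F).p (𝟙 W) (G.map s)).trans
      (IsHomLift.fac' (AlgSt.ofSp F).p (𝟙 W) (𝟙 (G.obj y.1))).symm
  have n := d.hom.toNatTrans.naturality s
  have h2 : (BasedFunctor.comp G e).map s = 𝟙 _ := (congrArg e.map h1).trans (e.map_id _)
  haveI : IsIso (d.hom.toNatTrans.app y.1) :=
    haveI := d.hom.isHomLift' y.1
    isIso_of_lift_id (U := X.p.obj y.1) _
  refine (cancel_epi (d.hom.toNatTrans.app y.1)).1 ?_
  have n' : (BasedFunctor.comp G e).map s ≫ d.hom.toNatTrans.app y.1 = d.hom.toNatTrans.app y.1 ≫ s := n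
  rw [← n', h2]
  exact (Category.id_comp _).trans (Category.comp_id _).symm

end Groth.Agent.H9St
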