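import Groth.Agent.Lib.H9StTop
import Groth.Prelude.Def_AlgSpCov
/-! Composition of representable morphisms with a property local on the base. -/

set_option autoImplicit false
set_option linter.style.haveILetI false
set_option linter.unusedVariables false
set_option linter.unusedSectionVars false
set_option backward.isDefEq.respectTransparency.types false

universe u

open CategoryTheory CategoryTheory.Limits AlgebraicGeometry Opposite

noncomputable section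

namespace Groth.Agent.H9St

variable {S : Scheme.{u}}

/-- A property of morphisms read only between algebraic spaces. -/
def onSpaces (P : MorphismProperty (AlgSp.Sp S)) : MorphismProperty (AlgSp.Sp S) :=
  fun A B m => AlgSp.IsAlgSpace A → AlgSp.IsAlgSpace B → P m

theorem respectsIso_onSpaces (P : MorphismProperty (AlgSp.Sp S))
    (hPb : ∀ ⦃X₁ Y₁ X₂ Y₂ : AlgSp.Sp S⦄, AlgSp.IsAlgSpace X₁ → AlgSp.IsAlgSpace Y₁ → AlgSp.IsAlgSpace X₂ →
      AlgSp.IsAlgSpace Y₂ → ∀ (a : X₁ ⟶ Y₁) (b : Y₂ ⟶ Y₁) (a' : X₂ ⟶ Y₂) (b' : X₂ ⟶ X₁),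
        IsPullback b' a' a b → P a → P a') : (onSpaces P).RespectsIso :=
  MorphismProperty.RespectsIso.mk _
    (fun {A B C} e f hf hA hC => hPb (hA.of_iso e) hC hA hC f (𝟙 C) (e.hom ≫ f) e.hom
      (IsPullback.of_horiz_isIso ⟨by simp⟩) (hf (hA.of_iso e) hC))
    (fun {A B C} e f hf hA hC => hPb hA (hC.of_iso e.symm) hA hC f e.inv (f ≫ e.hom) (𝟙 A)
      (IsPullback.of_horiz_isIso ⟨by simp⟩) (hf hA (hC.of_iso e.symm)))

theorem repByAlgSpWith_onSpaces {X Y : AlgSt.Cat S} (P : MorphismProperty (AlgSp.Sp S)) (f : X ⥤ᵇ Y) :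
    AlgSt.RepByAlgSpWith (onSpaces P) f ↔ AlgSt.RepByAlgSpWith P f :=
  ⟨fun h U y => (h U y).imp fun F ⟨e, he, hP⟩ => ⟨e, he, hP F.property (AlgSp.IsAlgSpace.yon_obj U)⟩,
    fun h U y => (h U y).imp fun F ⟨e, he, hP⟩ => ⟨e, he, fun _ _ => hP⟩⟩

theorem isFppfCover_atlas {B : AlgSp.Sp S} {V : Over S} {b : (AlgSp.yon S).obj V ⟶ B} (hB : AlgSp.IsAlgSpace B)
    (hbe : AlgSp.RepWith @Etale b) (hbs : AlgSp.RepWith @Surjective b) :
    AlgSp.IsFppfCover (ι := PUnit.{u + 1}) (fun _ => (AlgSp.yon S).obj V) (fun _ => b) := by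
  refine ⟨fun _ => ⟨?_, ?_⟩, fun z => ?_⟩
  · exact ASp.locP_mono (fun _ _ f (_ : Etale f) => (inferInstance : Flat f)) (ASp.locP_of_repWith hB hbe)
  · exact ASp.locP_mono (fun _ _ f (_ : Etale f) => (inferInstance : LocallyOfFinitePresentation f))
      (ASp.locP_of_repWith hB hbe)
  · obtain ⟨v, rfl⟩ := ASp.surjective_ofPt_of_repWith hbs z
    exact ⟨PUnit.unit, AlgSp.Points.ofScheme V v, by rw [AlgSp.Points.ofPt_eq_map_ofScheme]⟩

theorem repByAlgSpWith_comp_of_local {X Y Z : AlgSt.Cat S} [FibCat.IsFibGrpd X.p] [FibCat.IsFibGrpd Y.p]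
    [FibCat.IsFibGrpd Z.p] (P : MorphismProperty (AlgSp.Sp S))
    (hPb : ∀ ⦃X₁ Y₁ X₂ Y₂ : AlgSp.Sp S⦄, AlgSp.IsAlgSpace X₁ → AlgSp.IsAlgSpace Y₁ → AlgSp.IsAlgSpace X₂ →
      AlgSp.IsAlgSpace Y₂ → ∀ (a : X₁ ⟶ Y₁) (b : Y₂ ⟶ Y₁) (a' : X₂ ⟶ Y₂) (b' : X₂ ⟶ X₁),
        IsPullback b' a' a b → P a → P a')
    (hPc : ∀ ⦃A B C : AlgSp.Sp S⦄, AlgSp.IsAlgSpace A → AlgSp.IsAlgSpace B → AlgSp.IsAlgSpace C →
      ∀ (a : A ⟶ B) (b : B ⟶ C), P a → P b → P (a ≫ b))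
    (hP : AlgSp.IsLocalOnBase AlgSp.IsFppfCover P) {f : X ⥤ᵇ Y} {g : Y ⥤ᵇ Z}
    (hf : AlgSt.RepByAlgSpWith P f) (hg : AlgSt.RepByAlgSpWith P g) :
    AlgSt.RepByAlgSpWith P (BasedFunctor.comp f g) := by
  haveI := respectsIso_onSpaces P hPb
  rw [← repByAlgSpWith_onSpaces] at hf hg ⊢
  refine repByAlgSpWith_comp (fun A B U m n hA hB hm hn _ hU => hPc hA hB hU m n ?_ (hn hB hU)) f g hf hg
  obtain ⟨V, b, hbe, hbs⟩ := hB.atlas
  obtain ⟨F, fst, snd, sq, hQ⟩ := exists_pullback_prop hm b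
  have hF : AlgSp.IsAlgSpace F := (ASp.isAlgSpace_pullback m b hA (AlgSp.IsAlgSpace.yon_obj V) hB).of_iso
    ((IsPullback.of_hasPullback m b).isoIsPullback _ _ sq)
  exact (hP (ι := PUnit.{u + 1}) (fun _ => (AlgSp.yon S).obj V) (fun _ => b) hB
    (fun _ => AlgSp.IsAlgSpace.yon_obj V) (isFppfCover_atlas hB hbe hbs) m hA (fun _ => F) (fun _ => snd)
    (fun _ => fst) (fun _ => hF) (fun _ => sq)).2 fun _ => hQ hF (AlgSp.IsAlgSpace.yon_obj V)

end Groth.Agent.H9St
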