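import Groth.Agent.Lib.H9StTop
/-! Invariance of representability under equivalences. -/

set_option autoImplicit false
set_option linter.style.haveILetI false
set_option linter.unusedVariables false
set_option linter.unusedSectionVars false
set_option backward.isDefEq.respectTransparency.types false

universe u

open CategoryTheory CategoryTheory.Limits AlgebraicGeometry Opposite

noncomputable section

namespace Groth.Agent.H9St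

variable {S : Scheme.{u}} {X X' Y Y' W W' Z : AlgSt.Cat S}

theorem vertical_comp {T : Over S} {a b c : Z.obj} (φ : a ⟶ b) (ψ : b ⟶ c) (h₁ : Z.p.IsHomLift (𝟙 T) φ)
    (h₂ : Z.p.IsHomLift (𝟙 T) ψ) : Z.p.IsHomLift (𝟙 T) (φ ≫ ψ) :=
  @IsHomLift.comp_of_lift_id _ _ _ _ _ _ _ _ _ _ _ h₁ h₂

theorem vertical_app {F G : X ⥤ᵇ Y} (i : F ≅ G) {x : X.obj} {T : Over S} (h : X.p.obj x = T) :
    Y.p.IsHomLift (𝟙 T) (i.hom.toNatTrans.app x) := BasedNatTrans.isHomLift i.hom h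

theorem naturality' {F G : X ⥤ᵇ Y} (i : F ≅ G) {a b : X.obj} (n : a ⟶ b) :
    F.map n ≫ i.hom.toNatTrans.app b = i.hom.toNatTrans.app a ≫ G.map n := i.hom.toNatTrans.naturality n

theorem sq_transfer {C : Type*} [Category C] {G₀ G₁ P₀ P₁ F₀ F₁ Q₀ Q₁ : C} {A : G₀ ⟶ G₁} {B : P₀ ⟶ P₁}
    {c : G₀ ⟶ F₀} {d : G₁ ⟶ F₁} {E : F₀ ⟶ F₁} {H : Q₀ ⟶ Q₁} (p₀ : G₀ ≅ P₀) (p₁ : G₁ ≅ P₁) (q₀ : F₀ ≅ Q₀)
    (q₁ : F₁ ≅ Q₁) (h₁ : A ≫ p₁.hom = p₀.hom ≫ B) (h₂ : E ≫ q₁.hom = q₀.hom ≫ H)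
    (hm : B ≫ p₁.inv ≫ d ≫ q₁.hom = (p₀.inv ≫ c ≫ q₀.hom) ≫ H) : A ≫ d = c ≫ E := by
  rw [← cancel_mono q₁.hom, Category.assoc, Category.assoc, h₂]
  calc A ≫ d ≫ q₁.hom = (A ≫ p₁.hom) ≫ p₁.inv ≫ d ≫ q₁.hom := by simp
    _ = p₀.hom ≫ (p₀.inv ≫ c ≫ q₀.hom) ≫ H := by rw [h₁, Category.assoc, hm]
    _ = c ≫ q₀.hom ≫ H := by simp

theorem iso_cancel {C : Type*} [Category C] {A₁ A₂ A₃ A₄ B₁ B₂ : C} (a : B₁ ≅ A₁) (b : A₁ ⟶ A₂) (c : A₂ ⟶ A₃)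
    (d : A₃ ⟶ A₄) (e : B₂ ≅ A₄) (m : B₁ ⟶ B₂) (h : m = a.hom ≫ b ≫ c ≫ d ≫ e.inv) :
    a.inv ≫ m ≫ e.hom = b ≫ c ≫ d := by
  subst h; simp

/-- The comparison of fibre products. -/
def fpCongr {g : W ⥤ᵇ Y} {f : X ⥤ᵇ Y} {g' : W' ⥤ᵇ Y'} {f' : X' ⥤ᵇ Y'} (α : W' ⥤ᵇ W) (a : X' ⥤ᵇ X) (β : Y' ⥤ᵇ Y)
    (i₁ : BasedFunctor.comp g' β ≅ BasedFunctor.comp α g) (i₂ : BasedFunctor.comp f' β ≅ BasedFunctor.comp a f) :
    FibCat.fp g' f' ⥤ᵇ FibCat.fp g f :=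
  FibCat.fpLift (BasedFunctor.comp (FibCat.fpFst g' f') α) (BasedFunctor.comp (FibCat.fpSnd g' f') a)
    ((H9Fib.wLeft (FibCat.fpFst g' f') i₁).symm ≪≫ H9Fib.wRight (FibCat.fpIso g' f') β ≪≫
      H9Fib.wLeft (FibCat.fpSnd g' f') i₂)

theorem isEquivOver_fpCongr [FibCat.IsFibGrpd X.p] [FibCat.IsFibGrpd X'.p] [FibCat.IsFibGrpd Y.p]
    [FibCat.IsFibGrpd Y'.p] [FibCat.IsFibGrpd W.p] [FibCat.IsFibGrpd W'.p]
    {g : W ⥤ᵇ Y} {f : X ⥤ᵇ Y} {g' : W' ⥤ᵇ Y'} {f' : X' ⥤ᵇ Y'} {α : W' ⥤ᵇ W} {a : X' ⥤ᵇ X} {β : Y' ⥤ᵇ Y}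
    (i₁ : BasedFunctor.comp g' β ≅ BasedFunctor.comp α g) (i₂ : BasedFunctor.comp f' β ≅ BasedFunctor.comp a f)
    (hα : FibCat.IsEquivOver α) (ha : FibCat.IsEquivOver a) (hβ : FibCat.IsEquivOver β) :
    FibCat.IsEquivOver (fpCongr α a β i₁ i₂) := by
  obtain ⟨hαF, hαf, hαs⟩ := H9Fib.full_of_isEquivOver hα
  obtain ⟨haF, haf, has⟩ := H9Fib.full_of_isEquivOver ha
  obtain ⟨hβF, hβf, hβs⟩ := H9Fib.full_of_isEquivOver hβ
  refine H9Fib.isEquivOver_of _ ⟨fun {w w'} m => ?_⟩ ⟨fun {w w' n n'} e => ?_⟩ fun η => ?_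
  · obtain ⟨n₁, hn₁⟩ := hαF.map_surjective m.hom.fst
    obtain ⟨n₂, hn₂⟩ := haF.map_surjective m.hom.snd
    have hm : g.map m.hom.fst ≫ ((fpCongr α a β i₁ i₂).obj w').obj.iso.hom =
        ((fpCongr α a β i₁ i₂).obj w).obj.iso.hom ≫ f.map m.hom.snd := m.hom.w
    rw [← hn₁, ← hn₂] at hm
    have sq : g'.map n₁ ≫ w'.obj.iso.hom = w.obj.iso.hom ≫ f'.map n₂ := by
      refine hβf.map_injective ((β.toFunctor.map_comp _ _).trans (Eq.trans ?_ (β.toFunctor.map_comp _ _).symm))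
      exact sq_transfer (((BasedNatTrans.forgetful _ _).mapIso i₁).app w.obj.fst)
        (((BasedNatTrans.forgetful _ _).mapIso i₁).app w'.obj.fst)
        (((BasedNatTrans.forgetful _ _).mapIso i₂).app w.obj.snd)
        (((BasedNatTrans.forgetful _ _).mapIso i₂).app w'.obj.snd)
        (naturality' i₁ n₁) (naturality' i₂ n₂) hm
    refine ⟨ObjectProperty.homMk { fst := n₁, snd := n₂, w := sq }, ?_⟩
    exact ObjectProperty.hom_ext _ (CategoricalPullback.hom_ext hn₁ hn₂)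
  · refine ObjectProperty.hom_ext _ (CategoricalPullback.hom_ext ?_ ?_)
    · exact hαf.map_injective (congrArg (fun q => q.hom.fst) e)
    · exact haf.map_injective (congrArg (fun q => q.hom.snd) e)
  · let T := W.p.obj η.obj.fst
    obtain ⟨w₁, e₁, he₁⟩ := hαs η.obj.fst
    obtain ⟨x₁, e₂, he₂⟩ := has η.obj.snd
    have hx : X.p.obj η.obj.snd = T := snd_base g f η
    rw [hx] at he₂
    haveI := he₁; haveI := he₂
    have hw₁ : W'.p.obj w₁ = T := (α.w_obj w₁).symm.trans (IsHomLift.domain_eq W.p (𝟙 T) e₁.hom)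
    have hx₁ : X'.p.obj x₁ = T := (a.w_obj x₁).symm.trans (IsHomLift.domain_eq X.p (𝟙 T) e₂.hom)
    let i₁' : (BasedFunctor.comp g' β).obj w₁ ≅ (BasedFunctor.comp α g).obj w₁ :=
      ((BasedNatTrans.forgetful _ _).mapIso i₁).app w₁
    let i₂' : (BasedFunctor.comp f' β).obj x₁ ≅ (BasedFunctor.comp a f).obj x₁ :=
      ((BasedNatTrans.forgetful _ _).mapIso i₂).app x₁
    let ι : β.obj (g'.obj w₁) ≅ β.obj (f'.obj x₁) :=
      i₁' ≪≫ g.toFunctor.mapIso e₁ ≪≫ η.obj.iso ≪≫ (f.toFunctor.mapIso e₂).symm ≪≫ i₂'.symm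
    haveI := hβF; haveI := hβf
    let ι' : g'.obj w₁ ≅ f'.obj x₁ := β.toFunctor.preimageIso ι
    have lη : Y.p.IsHomLift (𝟙 T) η.obj.iso.hom := η.property
    have le₁ : Y.p.IsHomLift (𝟙 T) (g.map e₁.hom) := inferInstance
    have le₂ : Y.p.IsHomLift (𝟙 T) (f.map e₂.inv) :=
      @BasedFunctor.preserves_isHomLift _ _ _ _ f _ _ _ _ _ e₂.inv (IsHomLift.lift_id_inv _ _ _)
    have lι : Y.p.IsHomLift (𝟙 T) ι.hom := by
      refine vertical_comp _ _ (vertical_app i₁ hw₁) (vertical_comp _ _ le₁ (vertical_comp _ _ lη (vertical_comp _ _ le₂ ?_)))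
      exact @IsHomLift.lift_id_inv _ _ _ _ Y.p T _ _ i₂' (vertical_app i₂ hx₁)
    have lι' : Y'.p.IsHomLift (𝟙 T) ι'.hom := (BasedFunctor.isHomLift_iff β _ _).1 (by
      show Y.p.IsHomLift (𝟙 T) (β.map (β.toFunctor.preimage ι.hom))
      rw [β.toFunctor.map_preimage]; exact lι)
    let ξ : (FibCat.fp g' f').obj := ⟨{ fst := w₁, snd := x₁, iso := ι' }, by
      show Y'.p.IsHomLift (𝟙 (W'.p.obj w₁)) ι'.hom
      rw [hw₁]; exact lι'⟩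
    have k : ((fpCongr α a β i₁ i₂).obj ξ).obj.iso.hom = g.map e₁.hom ≫ η.obj.iso.hom ≫ f.map e₂.inv := by
      show i₁'.inv ≫ β.map (β.toFunctor.preimage ι.hom) ≫ i₂'.hom = _
      rw [β.toFunctor.map_preimage]
      exact iso_cancel i₁' (g.map e₁.hom) η.obj.iso.hom (f.map e₂.inv) i₂' ι.hom rfl
    refine ⟨ξ, (FibCat.fpProp g f).isoMk (CategoricalPullback.mkIso e₁ e₂ ?_), ?_⟩
    · show g.map e₁.hom ≫ η.obj.iso.hom = ((fpCongr α a β i₁ i₂).obj ξ).obj.iso.hom ≫ f.map e₂.hom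
      rw [k]
      refine Eq.symm ((Category.assoc _ _ _).trans (congrArg (g.map e₁.hom ≫ ·) ((Category.assoc _ _ _).trans ?_)))
      exact (congrArg (η.obj.iso.hom ≫ ·) ((f.toFunctor.map_comp _ _).symm.trans
        ((congrArg f.toFunctor.map e₂.inv_hom_id).trans (f.toFunctor.map_id _)))).trans (Category.comp_id _)
    · refine IsHomLift.of_fac' _ _ _ ((α.w_obj w₁).trans hw₁) rfl ?_
      exact @IsHomLift.fac' _ _ _ _ W.p _ _ _ _ (𝟙 T) e₁.hom he₁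

end Groth.Agent.H9St
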