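import Groth.Agent.Lib.H9StAbelian
/-! Locally trivial classes on doubled axes with constant values are those invariant under dilations. -/

set_option autoImplicit false
set_option linter.style.haveILetI false
set_option linter.unusedVariables false
set_option linter.unusedSectionVars false
set_option backward.isDefEq.respectTransparency.types false

universe u

open CategoryTheory CategoryTheory.Limits AlgebraicGeometry Opposite
open Polynomial (C X evalRingHom)

noncomputable section

namespace Groth.Agent.H9St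

open H9Axes

section Rings

variable (R : Type u) [CommRing R] (ι : Type) [Fintype ι] [DecidableEq ι]

theorem punctProj_idem (i k : ι) : punctProj R ι i (idem R ι k) = if k = i then 1 else 0 := by
  have h := congrArg (punctProj R ι i) (IsLocalization.mk'_spec (punct R ι) (coord R ι k)
    (⟨el R ι, Submonoid.mem_powers _⟩ : Submonoid.powers (el R ι)))
  rw [map_mul, punctProj_algebraMap, punctProj_algebraMap, proj_el] at h
  have hX : IsUnit (algebraMap (Polynomial R) (Localization.Away (X : Polynomial R)) X) :=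
    IsLocalization.Away.algebraMap_isUnit _
  refine hX.mul_left_inj.1 (h.trans ?_)
  have hp : proj R ι i (coord R ι k) = if k = i then X else 0 := by
    show (Pi.single k X : ι → Polynomial R) i = _
    by_cases e : k = i
    · subst e; simp
    · simp [Ne.symm e, e]
  rw [hp]
  split <;> simp

theorem idem_sq (i : ι) : idem R ι i * idem R ι i = idem R ι i := by
  conv_rhs => rw [← mul_one (idem R ι i), ← sum_idem R ι, Finset.mul_sum]
  rw [Finset.sum_eq_single i (fun k _ hk => idem_mul R ι (Ne.symm hk)) (fun h => absurd (Finset.mem_univ i) h)]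

/-- Constants of the punctured axes. -/
def cP : R →+* punct R ι := (algebraMap (axes R ι) (punct R ι)).comp (const R ι)

/-- One constant on each punctured axis. -/
def rho : (ι → R) →+* punct R ι where
  toFun r := ∑ i, cP R ι (r i) * idem R ι i
  map_one' := by simp [sum_idem]
  map_zero' := by simp
  map_add' r s := by simp [add_mul, Finset.sum_add_distrib]
  map_mul' r s := by
    rw [Finset.sum_mul_sum]
    refine Finset.sum_congr rfl fun i _ => ?_
    rw [Finset.sum_eq_single i (fun k _ hk => by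
      rw [mul_mul_mul_comm, idem_mul R ι (Ne.symm hk), mul_zero]) (fun h => absurd (Finset.mem_univ i) h)]
    rw [Pi.mul_apply, map_mul, mul_mul_mul_comm, idem_sq]

/-- Evaluation at the point one of the punctured line. -/
def ev1 : Localization.Away (X : Polynomial R) →+* R :=
  IsLocalization.Away.lift (X : Polynomial R) (g := evalRingHom (1 : R)) (by simp)

theorem ev1_comp : (ev1 R).comp (algebraMap (Polynomial R) (Localization.Away (X : Polynomial R))) = evalRingHom (1 : R) :=
  IsLocalization.Away.lift_comp _ _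

/-- Constants of the punctured line. -/
def cG : R →+* Localization.Away (X : Polynomial R) :=
  (algebraMap (Polynomial R) (Localization.Away (X : Polynomial R))).comp C

/-- Values at one, spread out. -/
def flat : punct R ι →+* punct R ι := (rho R ι).comp (RingHom.pi fun i => (ev1 R).comp (punctProj R ι i))

theorem punctProj_flat (i : ι) :
    (punctProj R ι i).comp (flat R ι) = ((cG R).comp (ev1 R)).comp (punctProj R ι i) := by
  refine RingHom.ext fun q => ?_
  simp only [flat, rho, RingHom.comp_apply, RingHom.coe_mk, MonoidHom.coe_mk, OneHom.coe_mk, map_sum, map_mul,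
    punctProj_idem]
  rw [Finset.sum_eq_single i (fun k _ hk => by simp [hk]) (fun h => absurd (Finset.mem_univ i) h)]
  simp only [if_true, mul_one, RingHom.pi_apply, RingHom.comp_apply, cP, punctProj_algebraMap]
  rfl

/-- The union of axes over the line, with the open complement of the zeros of `t * el`. -/
abbrev dPunct : Type u := Localization.Away (const (Polynomial R) ι X * el (Polynomial R) ι)

abbrev dAlg : axes (Polynomial R) ι →+* dPunct R ι := algebraMap _ _

theorem isUnit_dAlg : IsUnit (dAlg R ι (const (Polynomial R) ι X)) ∧ IsUnit (dAlg R ι (el (Polynomial R) ι)) := by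
  have h : IsUnit (dAlg R ι (const (Polynomial R) ι X) * dAlg R ι (el (Polynomial R) ι)) := by
    rw [← map_mul]; exact IsLocalization.Away.algebraMap_isUnit _
  exact IsUnit.mul_iff.1 h

/-- The dilation. -/
def dilM : axes R ι →+* axes (Polynomial R) ι :=
  ((RingHom.pi fun i => (Polynomial.eval₂RingHom ((C : Polynomial R →+* Polynomial (Polynomial R)).comp C)
      (C X * X)).comp (Pi.evalRingHom (fun _ : ι => Polynomial R) i)).comp (axes R ι).subtype).codRestrict
    (axes (Polynomial R) ι) fun p i k => by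
      have h : ∀ q : Polynomial R, (q.eval₂ ((C : Polynomial R →+* Polynomial (Polynomial R)).comp C)
          (C X * X : Polynomial (Polynomial R))).eval 0 = C (q.eval 0) := fun q => by
        induction q using Polynomial.induction_on' with
        | add a b ha hb => simp [Polynomial.eval₂_add, ha, hb]
        | monomial n r => cases n <;> simp [Polynomial.eval₂_monomial]
      exact (h (p.1 i)).trans ((congrArg C (p.2 i k)).trans (h (p.1 k)).symm)

/-- The projection. -/
def dilP : axes R ι →+* axes (Polynomial R) ι := (AxMap.ofRing (C : R →+* Polynomial R) ι).φ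

theorem dilM_const : (dilM R ι).comp (const R ι) = (const (Polynomial R) ι).comp C :=
  RingHom.ext fun r => Subtype.ext (funext fun i => Polynomial.eval₂_C _ _)

theorem dilP_const : (dilP R ι).comp (const R ι) = (const (Polynomial R) ι).comp C := AxMap.const' _

theorem dilM_el : dilM R ι (el R ι) = const (Polynomial R) ι X * el (Polynomial R) ι :=
  Subtype.ext (funext fun i => Polynomial.eval₂_X _ _)

theorem dilP_el : dilP R ι (el R ι) = el (Polynomial R) ι := AxMap.el' _

theorem dilM_coord (k : ι) : dilM R ι (coord R ι k) = const (Polynomial R) ι X * coord (Polynomial R) ι k := by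
  refine Subtype.ext (funext fun i => ?_)
  show ((Pi.single k X : ι → Polynomial R) i).eval₂ _ _ = C X * (Pi.single k X : ι → Polynomial (Polynomial R)) i
  by_cases e : i = k
  · subst e; simp
  · simp [e]

theorem dilP_coord (k : ι) : dilP R ι (coord R ι k) = coord (Polynomial R) ι k := by
  refine Subtype.ext (funext fun i => ?_)
  show ((Pi.single k X : ι → Polynomial R) i).map C = (Pi.single k X : ι → Polynomial (Polynomial R)) i
  by_cases e : i = k
  · subst e; simp
  · simp [e]

def psiM : punct R ι →+* dPunct R ι :=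
  IsLocalization.Away.lift (el R ι) (g := (dAlg R ι).comp (dilM R ι)) (by
    rw [RingHom.comp_apply, dilM_el]; exact IsLocalization.Away.algebraMap_isUnit _)

def psiP : punct R ι →+* dPunct R ι :=
  IsLocalization.Away.lift (el R ι) (g := (dAlg R ι).comp (dilP R ι)) (by
    rw [RingHom.comp_apply, dilP_el]; exact (isUnit_dAlg R ι).2)

theorem psiM_comp : (psiM R ι).comp (algebraMap _ _) = (dAlg R ι).comp (dilM R ι) := IsLocalization.Away.lift_comp _ _
theorem psiP_comp : (psiP R ι).comp (algebraMap _ _) = (dAlg R ι).comp (dilP R ι) := IsLocalization.Away.lift_comp _ _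

theorem psi_idem (k : ι) : psiM R ι (idem R ι k) = psiP R ι (idem R ι k) := by
  have hs := IsLocalization.mk'_spec (punct R ι) (coord R ι k)
    (⟨el R ι, Submonoid.mem_powers _⟩ : Submonoid.powers (el R ι))
  have hm := congrArg (psiM R ι) hs
  have hp := congrArg (psiP R ι) hs
  simp only [map_mul] at hm hp
  have m1 : ∀ c, psiM R ι (algebraMap _ _ c) = dAlg R ι (dilM R ι c) := fun c => DFunLike.congr_fun (psiM_comp R ι) c
  have p1 : ∀ c, psiP R ι (algebraMap _ _ c) = dAlg R ι (dilP R ι c) := fun c => DFunLike.congr_fun (psiP_comp R ι) c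
  rw [m1, m1, dilM_el, dilM_coord, map_mul, map_mul] at hm
  rw [p1, p1, dilP_el, dilP_coord] at hp
  obtain ⟨ht, he⟩ := isUnit_dAlg R ι
  refine (ht.mul he).mul_left_inj.1 (hm.trans ?_)
  rw [← hp]; exact mul_left_comm _ _ _

theorem psi_flat : (psiM R ι).comp (flat R ι) = (psiP R ι).comp (flat R ι) := by
  refine RingHom.ext fun q => ?_
  simp only [flat, rho, RingHom.comp_apply, RingHom.coe_mk, MonoidHom.coe_mk, OneHom.coe_mk, map_sum, map_mul,
    psi_idem]
  refine Finset.sum_congr rfl fun i _ => ?_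
  congr 1
  simp only [cP, ← RingHom.comp_apply, ← RingHom.comp_assoc, psiM_comp, psiP_comp]
  simp only [RingHom.comp_assoc, dilM_const, dilP_const]

/-- The substitution `t ↦ X`, `X ↦ 1` on one axis. -/
def sub1 (i : ι) : axes (Polynomial R) ι →+* Polynomial R :=
  (evalRingHom (1 : Polynomial R)).comp (proj (Polynomial R) ι i)

def sub1P (i : ι) : dPunct R ι →+* Localization.Away (X : Polynomial R) :=
  IsLocalization.Away.lift (const (Polynomial R) ι X * el (Polynomial R) ι)
    (g := (algebraMap (Polynomial R) (Localization.Away (X : Polynomial R))).comp (sub1 R ι i)) (by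
      have : sub1 R ι i (const (Polynomial R) ι X * el (Polynomial R) ι) = X := by
        show ((C X : Polynomial (Polynomial R)) * X).eval 1 = X
        simp
      rw [RingHom.comp_apply, this]; exact IsLocalization.Away.algebraMap_isUnit _)

theorem sub1P_comp (i : ι) : (sub1P R ι i).comp (dAlg R ι) = (algebraMap _ _).comp (sub1 R ι i) :=
  IsLocalization.Away.lift_comp _ _

theorem sub1_const (i : ι) : (sub1 R ι i).comp (const (Polynomial R) ι) = RingHom.id _ :=
  RingHom.ext fun b => by show ((C b : Polynomial (Polynomial R))).eval 1 = b; simp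

theorem sub1P_psiM (i : ι) : (sub1P R ι i).comp (psiM R ι) = punctProj R ι i := by
  refine IsLocalization.ringHom_ext (Submonoid.powers (el R ι)) ?_
  rw [RingHom.comp_assoc, psiM_comp, ← RingHom.comp_assoc, sub1P_comp, punctProj_comp, RingHom.comp_assoc]
  congr 1
  refine RingHom.ext fun p => ?_
  show ((p.1 i).eval₂ ((C : Polynomial R →+* Polynomial (Polynomial R)).comp C) (C X * X)).eval 1 = p.1 i
  induction p.1 i using Polynomial.induction_on' with
  | add a b ha hb => simp [Polynomial.eval₂_add, ha, hb]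
  | monomial n r => simp [Polynomial.eval₂_monomial, ← Polynomial.C_mul_X_pow_eq_monomial]

theorem sub1P_psiP (i : ι) : (sub1P R ι i).comp (psiP R ι) = ((cG R).comp (ev1 R)).comp (punctProj R ι i) := by
  refine IsLocalization.ringHom_ext (Submonoid.powers (el R ι)) (RingHom.ext fun p => ?_)
  simp only [RingHom.comp_apply]
  have e1 := DFunLike.congr_fun (psiP_comp R ι) p
  have e2 := DFunLike.congr_fun (sub1P_comp R ι i) (dilP R ι p)
  have e3 := DFunLike.congr_fun (punctProj_comp R ι i) p
  have e4 := DFunLike.congr_fun (ev1_comp R) (proj R ι i p)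
  simp only [RingHom.comp_apply] at e1 e2 e3 e4
  rw [e1, e2, e3, e4]
  show _ = algebraMap _ _ (C ((p.1 i).eval 1))
  congr 1
  show ((p.1 i).map (C : R →+* Polynomial R)).eval 1 = C ((p.1 i).eval 1)
  exact Polynomial.eval_one_map _ _

end Rings

end Groth.Agent.H9St

namespace Groth.Agent.H9St

open H9Axes

variable {S : Scheme.{u}} {Xc : AlgSt.Cat S} [hX : FibCat.IsFibGrpd Xc.p] {T : Over S}
variable {R : Type u} [CommRing R] {ι : Type} [Fintype ι] [DecidableEq ι] (a : sBase R ⟶ T.left)

section Dil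

variable (R ι)

abbrev sDPunct : Scheme.{u} := Spec (CommRingCat.of (dPunct R ι))

def jDil : sDPunct R ι ⟶ sAxes (Polynomial R) ι := Spec.map (CommRingCat.ofHom (dAlg R ι))

instance : IsOpenImmersion (jDil R ι) :=
  IsOpenImmersion.of_isLocalization (const (Polynomial R) ι X * el (Polynomial R) ι)

variable {R}

/-- The doubled dilation space. -/
abbrev dilPair : OPair T := mkPair (jDil R ι) inferInstance (qAxes (Polynomial R) ι ≫ qLine R ≫ a)

variable {ι}
variable (φ : axes R ι →+* axes (Polynomial R) ι) (ψ : punct R ι →+* dPunct R ι)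
  (hφ : φ.comp (const R ι) = (const (Polynomial R) ι).comp C)
  (hψ : ψ.comp (algebraMap _ _) = (dAlg R ι).comp φ)

include hφ in
theorem dil_base : Spec.map (CommRingCat.ofHom φ) ≫ qAxes R ι ≫ a = qAxes (Polynomial R) ι ≫ qLine R ≫ a := by
  simp only [qAxes, qLine, ← Spec.map_comp_assoc, ← CommRingCat.ofHom_comp, hφ]

include hψ in
theorem dil_sq : jDil R ι ≫ Spec.map (CommRingCat.ofHom φ) = Spec.map (CommRingCat.ofHom ψ) ≫ jPunct R ι := by
  simp only [jPunct, jDil, ← Spec.map_comp, ← CommRingCat.ofHom_comp, hψ]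

def dilC : (dilPair ι a).C ⟶ (axPair R ι a).C :=
  Over.homMk (Spec.map (CommRingCat.ofHom φ)) (by
    show Spec.map (CommRingCat.ofHom φ) ≫ (qAxes R ι ≫ a) ≫ T.hom =
      (qAxes (Polynomial R) ι ≫ qLine R ≫ a) ≫ T.hom
    rw [← dil_base a φ hφ]; simp only [Category.assoc])

include hφ hψ in
theorem dil_baseW : Spec.map (CommRingCat.ofHom ψ) ≫ jPunct R ι ≫ qAxes R ι ≫ a =
    jDil R ι ≫ qAxes (Polynomial R) ι ≫ qLine R ≫ a := by
  rw [← dil_base a φ hφ, ← Category.assoc (jDil R ι), dil_sq φ ψ hψ, Category.assoc]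

def dilW : (dilPair ι a).W ⟶ (axPair R ι a).W :=
  Over.homMk (Spec.map (CommRingCat.ofHom ψ)) (by
    show Spec.map (CommRingCat.ofHom ψ) ≫ (jPunct R ι ≫ qAxes R ι ≫ a) ≫ T.hom =
      (jDil R ι ≫ qAxes (Polynomial R) ι ≫ qLine R ≫ a) ≫ T.hom
    rw [← dil_baseW a φ ψ hφ hψ]; simp only [Category.assoc])

theorem dil_hk : (dilPair ι a).j ≫ dilC a φ hφ = dilW a φ ψ hφ hψ ≫ (axPair R ι a).j :=
  Over.OverMorphism.ext (dil_sq φ ψ hψ)

theorem dil_hp : dilC a φ hφ ≫ (axPair R ι a).pC = (dilPair ι a).pC := Over.OverMorphism.ext (dil_base a φ hφ)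

def dilZ : (dilPair ι a).dbl ⟶ (axPair R ι a).dbl :=
  dblMap (dilC a φ hφ) (dilW a φ ψ hφ hψ) (dil_hk a φ ψ hφ hψ)

def dilO : (dilPair ι a).oW ⟶ (axPair R ι a).oW :=
  Over.homMk (dilW a φ ψ hφ hψ) (Over.OverMorphism.ext (dil_baseW a φ ψ hφ hψ))

theorem isTrans_dil (M : FibCat.overCat T ⥤ᵇ Xc) {y : Xc.p.Fiber (axPair R ι a).dbl}
    {u : VAut M (axPair R ι a).oW} (h : IsTrans M (axPair R ι a) y u) :
    IsTrans M (dilPair ι a) (pb (dilZ a φ ψ hφ hψ) y) (res M (dilO a φ ψ hφ hψ) u) :=
  isTrans_pullback M (dilC a φ hφ) (dilW a φ ψ hφ hψ) (dil_hk a φ ψ hφ hψ) (dil_hp a φ hφ)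
    (dilZ a φ ψ hφ hψ) (inl_dblMap _ _ _) (inr_dblMap _ _ _) _ rfl h _ (pbMap _ y) inferInstance

end Dil

variable (ι) in
/-- The two maps from the dilation space. -/
abbrev kDilM : (dilPair ι a).dbl ⟶ (axPair R ι a).dbl :=
  dilZ a (dilM R ι) (psiM R ι) (dilM_const R ι) (psiM_comp R ι)

variable (ι) in
abbrev kDilP : (dilPair ι a).dbl ⟶ (axPair R ι a).dbl :=
  dilZ a (dilP R ι) (psiP R ι) (dilP_const R ι) (psiP_comp R ι)

/-- Invariance under dilations. -/
def Inv (d : IsoNat.IsoCl Xc (axPair R ι a).dbl) : Prop := rc (kDilM ι a) d = rc (kDilP ι a) d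

theorem cG_base : Spec.map (CommRingCat.ofHom (cG R)) ≫ a = jGm R ≫ qLine R ≫ a := by
  simp only [cG, jGm, qLine, ← Spec.map_comp_assoc, ← CommRingCat.ofHom_comp]

theorem flat_base : Spec.map (CommRingCat.ofHom (flat R ι)) ≫ jPunct R ι ≫ qAxes R ι ≫ a =
    jPunct R ι ≫ qAxes R ι ≫ a := by
  simp only [jPunct, qAxes, ← Spec.map_comp_assoc, ← CommRingCat.ofHom_comp]
  congr 3
  refine RingHom.ext fun r => ?_
  show rho R ι (fun i => ev1 R (punctProj R ι i (algebraMap _ _ (const R ι r)))) = algebraMap _ _ (const R ι r)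
  have : ∀ i, ev1 R (punctProj R ι i (algebraMap _ _ (const R ι r))) = r := fun i => by
    rw [punctProj_algebraMap]
    refine (DFunLike.congr_fun (ev1_comp R) _).trans ?_
    show (C r : Polynomial R).eval 1 = r
    simp
  simp only [this]
  show ∑ i, cP R ι r * idem R ι i = _
  rw [← Finset.mul_sum, sum_idem, mul_one]; rfl

variable (ι) in
def oFlat : (axPair R ι a).oW ⟶ (axPair R ι a).oW :=
  Over.homMk (Over.homMk (Spec.map (CommRingCat.ofHom (flat R ι))) (by
      show Spec.map (CommRingCat.ofHom (flat R ι)) ≫ (jPunct R ι ≫ qAxes R ι ≫ a) ≫ T.hom =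
        (jPunct R ι ≫ qAxes R ι ≫ a) ≫ T.hom
      conv_rhs => rw [← flat_base a]
      simp only [Category.assoc]))
    (Over.OverMorphism.ext (flat_base a))

/-- A point of the punctured line over the point one. -/
def oEv1 : ob (T := T) a ⟶ ob (jGm R ≫ qLine R ≫ a) :=
  obHom (Spec.map (CommRingCat.ofHom (ev1 R))) (by
    simp only [jGm, qLine, ← Spec.map_comp_assoc, ← CommRingCat.ofHom_comp, ← RingHom.comp_assoc, ev1_comp]
    rw [show (evalRingHom (1 : R)).comp C = RingHom.id R from RingHom.ext fun r => by simp]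
    exact (congrArg (· ≫ a) (Spec.map_id (CommRingCat.of R))).trans (Category.id_comp a))

def oCG : ob (T := T) (jGm R ≫ qLine R ≫ a) ⟶ ob a := obHom (Spec.map (CommRingCat.ofHom (cG R))) (cG_base a)

theorem res_oCG (M : FibCat.overCat T ⥤ᵇ Xc) (s : VB M a) : res M (oCG a) s = cst M a s := by
  simp only [cst, toGm, toLine]
  rw [← res_comp]
  congr 1
  refine ob_hom_ext ?_
  show Spec.map (CommRingCat.ofHom (cG R)) = jGm R ≫ qLine R
  simp only [cG, jGm, qLine, ← Spec.map_comp, ← CommRingCat.ofHom_comp]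

theorem res_ev1_cst (M : FibCat.overCat T ⥤ᵇ Xc) (s : VB M a) : res M (oEv1 a) (cst M a s) = s := by
  simp only [cst, toGm, toLine]
  rw [← res_comp, ← res_comp]
  refine Eq.trans ?_ (res_id M s)
  congr 1
  refine ob_hom_ext ?_
  show Spec.map (CommRingCat.ofHom (ev1 R)) ≫ jGm R ≫ qLine R = 𝟙 _
  simp only [jGm, qLine, ← Spec.map_comp, ← CommRingCat.ofHom_comp, ← RingHom.comp_assoc, ev1_comp]
  rw [← Spec.map_id]; congr 2; exact RingHom.ext fun r => by simp

theorem cst_mul (M : FibCat.overCat T ⥤ᵇ Xc) (s t : VB M a) : cst M a (s * t) = cst M a s * cst M a t := by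
  simp only [cst]; rw [toLine_mul, toGm_mul]

variable (hs : Stk.IsStack (QuotSh.J Scheme.fppfPrecoverage S) Xc) (x : Xc.p.Fiber T)

include hs in
/-- Constant values give invariant classes. -/
theorem inv_of_isVal_cst {d : IsoNat.IsoCl Xc (axPair R ι a).dbl} {s : ι → VB (yFun x) a}
    (h : IsVal x a d (fun i => cst _ a (s i))) : Inv a d := by
  obtain ⟨y, u, rfl, hu, hv⟩ := h
  have hflat : res (yFun x) (oFlat ι a) u = u := by
    refine vals_injective (yFun x) hs a fun i => ?_
    have e : oLinP ι a i ≫ oFlat ι a = oCG a ≫ oEv1 a ≫ oLinP ι a i := by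
      refine ob_hom_ext ?_
      show linP R ι i ≫ Spec.map (CommRingCat.ofHom (flat R ι)) =
        Spec.map (CommRingCat.ofHom (cG R)) ≫ Spec.map (CommRingCat.ofHom (ev1 R)) ≫ linP R ι i
      simp only [linP, ← Spec.map_comp, ← CommRingCat.ofHom_comp]
      congr 2
      exact (punctProj_flat R ι i).trans rfl
    show res (yFun x) (oLinP ι a i) (res (yFun x) (oFlat ι a) u) = res (yFun x) (oLinP ι a i) u
    rw [← res_comp, e, res_comp, res_comp]
    show res (yFun x) (oCG a) (res (yFun x) (oEv1 a) (vals (yFun x) ι a u i)) = vals (yFun x) ι a u i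
    rw [congr_fun hv i, res_ev1_cst, res_oCG]
  have e : dilO a (dilM R ι) (psiM R ι) (dilM_const R ι) (psiM_comp R ι) ≫ oFlat ι a =
      dilO a (dilP R ι) (psiP R ι) (dilP_const R ι) (psiP_comp R ι) ≫ oFlat ι a := by
    refine ob_hom_ext ?_
    show Spec.map (CommRingCat.ofHom (psiM R ι)) ≫ Spec.map (CommRingCat.ofHom (flat R ι)) =
      Spec.map (CommRingCat.ofHom (psiP R ι)) ≫ Spec.map (CommRingCat.ofHom (flat R ι))
    simp only [← Spec.map_comp, ← CommRingCat.ofHom_comp, psi_flat]
  have hm := isTrans_dil a (dilM R ι) (psiM R ι) (dilM_const R ι) (psiM_comp R ι) (yFun x) hu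
  have hp := isTrans_dil a (dilP R ι) (psiP R ι) (dilP_const R ι) (psiP_comp R ι) (yFun x) hu
  rw [← hflat, ← res_comp, e, res_comp, hflat] at hm
  unfold Inv
  rw [rc_cls, rc_cls, cls_eq_iff, trans_iso_iff (yFun x) _ hm hp hs]
  exact ⟨1, 1, by rw [res_one, one_mul, mul_one]⟩

theorem sub1P_base (i : ι) : Spec.map (CommRingCat.ofHom (sub1P R ι i)) ≫ jDil R ι ≫ qAxes (Polynomial R) ι ≫ qLine R ≫ a =
    jGm R ≫ qLine R ≫ a := by
  simp only [jDil, qAxes, jGm, qLine, ← Spec.map_comp_assoc, ← CommRingCat.ofHom_comp, ← RingHom.comp_assoc,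
    sub1P_comp]
  simp only [RingHom.comp_assoc]
  rw [← RingHom.comp_assoc _ (const (Polynomial R) ι) (sub1 R ι i), sub1_const, RingHom.id_comp]

variable (ι) in
def oSubW (i : ι) : ob (T := T) (jGm R ≫ qLine R ≫ a) ⟶ (dilPair ι a).oW :=
  Over.homMk (Over.homMk (Spec.map (CommRingCat.ofHom (sub1P R ι i))) (by
      show Spec.map (CommRingCat.ofHom (sub1P R ι i)) ≫ (jDil R ι ≫ qAxes (Polynomial R) ι ≫ qLine R ≫ a) ≫ T.hom =
        (jGm R ≫ qLine R ≫ a) ≫ T.hom
      rw [← sub1P_base a i]; simp only [Category.assoc]))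
    (Over.OverMorphism.ext (sub1P_base a i))

variable (ι) in
def oSubC (i : ι) : ob (T := T) (qLine R ≫ a) ⟶ (dilPair ι a).oC :=
  obHom (Spec.map (CommRingCat.ofHom (sub1 R ι i))) (by
    simp only [qAxes, qLine, ← Spec.map_comp_assoc, ← CommRingCat.ofHom_comp, ← RingHom.comp_assoc,
      sub1_const, RingHom.id_comp])

include hs in
/-- Invariant classes have constant values. -/
theorem exists_cst_of_inv {d : IsoNat.IsoCl Xc (axPair R ι a).dbl}
    (hl : LTriv (axPair R ι a) (IsoNat.cls x) d) (hi : Inv a d) :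
    ∃ s : ι → VB (yFun x) a, IsVal x a d (fun i => cst _ a (s i)) := by
  obtain ⟨v, hv⟩ := exists_isVal x a hl
  obtain ⟨y, u, rfl, hu, hvu⟩ := hv
  have hm := isTrans_dil a (dilM R ι) (psiM R ι) (dilM_const R ι) (psiM_comp R ι) (yFun x) hu
  have hp := isTrans_dil a (dilP R ι) (psiP R ι) (dilP_const R ι) (psiP_comp R ι) (yFun x) hu
  unfold Inv at hi
  rw [rc_cls, rc_cls, cls_eq_iff, trans_iso_iff (yFun x) _ hm hp hs] at hi
  obtain ⟨α, β, hab⟩ := hi
  have key : ∀ i, ∃ h : VL (yFun x) a, toGm (yFun x) a h = v i := fun i => by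
    refine ⟨res (yFun x) (oSubC ι a i) α * toLine _ a (res (yFun x) (oEv1 a) (v i)) *
      (res (yFun x) (oSubC ι a i) β)⁻¹, ?_⟩
    have hab' := congrArg (res (yFun x) (oSubW ι a i)) hab
    rw [res_mul, res_mul, ← res_comp, ← res_comp, ← res_comp, ← res_comp] at hab'
    have eC : oSubW ι a i ≫ (dilPair ι a).oj = obHom (jGm R) rfl ≫ oSubC ι a i := by
      refine ob_hom_ext ?_
      show Spec.map (CommRingCat.ofHom (sub1P R ι i)) ≫ jDil R ι = jGm R ≫ Spec.map (CommRingCat.ofHom (sub1 R ι i))
      simp only [jDil, jGm, ← Spec.map_comp, ← CommRingCat.ofHom_comp, sub1P_comp]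
    have eM : oSubW ι a i ≫ dilO a (dilM R ι) (psiM R ι) (dilM_const R ι) (psiM_comp R ι) = oLinP ι a i := by
      refine ob_hom_ext ?_
      show Spec.map (CommRingCat.ofHom (sub1P R ι i)) ≫ Spec.map (CommRingCat.ofHom (psiM R ι)) = linP R ι i
      simp only [linP, ← Spec.map_comp, ← CommRingCat.ofHom_comp, sub1P_psiM]
    have eP : oSubW ι a i ≫ dilO a (dilP R ι) (psiP R ι) (dilP_const R ι) (psiP_comp R ι) =
        oCG a ≫ oEv1 a ≫ oLinP ι a i := by
      refine ob_hom_ext ?_
      show Spec.map (CommRingCat.ofHom (sub1P R ι i)) ≫ Spec.map (CommRingCat.ofHom (psiP R ι)) =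
        Spec.map (CommRingCat.ofHom (cG R)) ≫ Spec.map (CommRingCat.ofHom (ev1 R)) ≫ linP R ι i
      simp only [linP, ← Spec.map_comp, ← CommRingCat.ofHom_comp, sub1P_psiP]
    rw [eM, eP, eC, res_comp, res_comp (yFun x) (oCG a), res_comp (yFun x) (oEv1 a), res_comp, res_oCG] at hab'
    simp only [cst] at hab'
    rw [← hvu, toGm_mul, toGm_mul, toGm_inv, eq_comm, eq_mul_inv_iff_mul_eq]
    exact hab'.symm
  choose h hh using key
  let w : ι → VB (yFun x) a := fun i => atZero _ a (h i)
  obtain ⟨d', hd'⟩ := exists_cls_isVal hs x a (fun i => cst _ a (w i))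
  have : IsoNat.cls y = d' := by
    refine (isVal_eq_iff hs x a ⟨y, u, rfl, hu, hvu⟩ hd').2
      ⟨fun _ => 1, fun i => (h i)⁻¹ * toLine _ a (w i), fun _ _ => rfl, fun i k => ?_, fun i => ?_⟩
    · rw [atZero_mul, atZero_mul, atZero_inv, atZero_inv, atZero_toLine, atZero_toLine]
      simp [w]
    · rw [← hh i, toGm_one, one_mul, toGm_mul, toGm_inv, mul_inv_cancel_left]
  exact ⟨w, this ▸ hd'⟩

theorem inv_map {Yc : AlgSt.Cat S} [FibCat.IsFibGrpd Yc.p] (φ : IsoNat.FIso Xc Yc)
    {d : IsoNat.IsoCl Xc (axPair R ι a).dbl} (h : Inv a d) : Inv a (φ.toEquiv _ d) := by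
  unfold Inv at *
  rw [← fIso_rc, ← fIso_rc, h]

theorem lTriv_map {Yc : AlgSt.Cat S} [FibCat.IsFibGrpd Yc.p] (φ : IsoNat.FIso Xc Yc) {P : OPair T}
    {c : IsoNat.IsoCl Xc T} {d : IsoNat.IsoCl Xc P.dbl} (h : LTriv P c d) :
    LTriv P (φ.toEquiv T c) (φ.toEquiv _ d) := by
  constructor
  · rw [← fIso_rc, ← fIso_rc, ← fIso_rc, h.1]
  · rw [← fIso_rc, ← fIso_rc, ← fIso_rc, h.2]

end Groth.Agent.H9St
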