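import Groth.Agent.Lib.H9StTop
/-! Morphisms of presheaves and the functors they induce. -/

set_option autoImplicit false
set_option linter.style.haveILetI false
set_option linter.unusedVariables false
set_option linter.unusedSectionVars false
set_option backward.isDefEq.respectTransparency.types false

universe u

open CategoryTheory CategoryTheory.Limits AlgebraicGeometry Opposite

noncomputable section

namespace Groth.Agent.H9St

variable {S : Scheme.{u}} {F G : AlgSp.PSp S}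

theorem clsMap_ofPshMap (a : F ⟶ G) [FibCat.IsFibGrpd (Stk.ofPsh F).p] [FibCat.IsFibGrpd (Stk.ofPsh G).p] :
    clsMap (Stk.ofPshMap a) ≫ (clsOfPsh G).hom = (clsOfPsh F).hom ≫ a := by
  ext T c
  obtain ⟨T⟩ := T
  induction c using Quotient.ind with | _ d => ?_
  have key : ∀ {T : Over S} (d : (Stk.ofPsh F).p.Fiber T),
      secAt G ((IsoNat.fibFun (Stk.ofPshMap a) T).obj d) = a.app (op T) (secAt F d) := by
    rintro _ ⟨d, rfl⟩
    exact (NatTrans.naturality_apply a _ _).symm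
  exact key d

theorem repBySpWith_iff_ofPshMap (Q : MorphismProperty (AlgSp.Sp S)) [Q.RespectsIso] (a : F ⟶ G) :
    AlgSp.RepBySpWith Q a ↔ AlgSt.RepByAlgSpWith Q (Stk.ofPshMap a) := by
  haveI : FibCat.IsFibGrpd (Stk.ofPsh F).p := isFibGrpd_ofPsh F
  haveI : FibCat.IsFibGrpd (Stk.ofPsh G).p := isFibGrpd_ofPsh G
  have hff : (Stk.ofPshMap a).toFunctor.Faithful := ⟨fun {c d} φ ψ e => eq_of_base φ ψ (by
    have h := congrArg (Stk.ofPsh G).p.map e
    have h1 := Functor.congr_hom (Stk.ofPshMap a).w φ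
    have h2 := Functor.congr_hom (Stk.ofPshMap a).w ψ
    simp only [Functor.comp_map] at h1 h2
    rw [h1, h2] at h
    exact eqToHom_cancel _ _ h)⟩
  have sq : ∀ {U : Over S} (y : FibCat.overCat U ⥤ᵇ Stk.ofPsh G) [FibCat.IsFibGrpd (FibCat.overCat U).p]
      [FibCat.IsFibGrpd (FibCat.fp y (Stk.ofPshMap a)).p],
      IsPullback (clsMap (FibCat.fpSnd y (Stk.ofPshMap a)) ≫ (clsOfPsh F).hom) (projU y (Stk.ofPshMap a)) a
        ((clsOverCat U).inv ≫ clsMap y ≫ (clsOfPsh G).hom) := fun {U} y _ _ =>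
    (isPullback_fp y (Stk.ofPshMap a)).flip.of_iso (Iso.refl _) (clsOfPsh F) (clsOverCat U) (clsOfPsh G) (by simp)
      (by simp [projU]) (clsMap_ofPshMap a) (by simp)
  constructor
  · intro h
    refine (repByAlgSpWith_iff _).2 fun U y => ?_
    haveI : FibCat.IsFibGrpd (FibCat.overCat U).p := isFibGrpd_overCat U
    haveI : FibCat.IsFibGrpd (FibCat.fp y (Stk.ofPshMap a)).p := H9Fib.isFibGrpd_fp y (Stk.ofPshMap a)
    obtain ⟨hs, hA, hQ⟩ := h _ _ _ (sq y)
    exact ⟨disc_fp_of_faithful y _ hff, hs, hA, hQ⟩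
  · intro h U ξ F' fst snd hsq
    haveI : FibCat.IsFibGrpd (FibCat.overCat U).p := isFibGrpd_overCat U
    obtain ⟨y, hy⟩ := exists_yFun (W := Stk.ofPsh G) (ξ ≫ (clsOfPsh G).inv)
    haveI : FibCat.IsFibGrpd (FibCat.fp y (Stk.ofPshMap a)).p := H9Fib.isFibGrpd_fp y (Stk.ofPshMap a)
    obtain ⟨-, hsh, hA, hQ⟩ := (repByAlgSpWith_iff _).1 h U y
    have e : (clsOverCat U).inv ≫ clsMap y ≫ (clsOfPsh G).hom = ξ := by rw [hy]; simp
    have sq' := sq y
    rw [e] at sq'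
    let i := hsq.isoIsPullback _ _ sq'
    have hF' : Presheaf.IsSheaf (AlgSp.J S) F' := (Presheaf.isSheaf_of_iso_iff i).2 hsh
    let i' : (⟨F', hF'⟩ : AlgSp.Sp S) ≅ ⟨clsPsh (FibCat.fp y (Stk.ofPshMap a)), hsh⟩ :=
      (fullyFaithfulSheafToPresheaf (AlgSp.J S) (Type (u + 1))).preimageIso
        (X := (⟨F', hF'⟩ : AlgSp.Sp S)) (Y := (⟨clsPsh (FibCat.fp y (Stk.ofPshMap a)), hsh⟩ : AlgSp.Sp S)) i
    refine ⟨hF', hA.of_iso i'.symm, ?_⟩
    have : (ObjectProperty.homMk snd : (⟨F', hF'⟩ : AlgSp.Sp S) ⟶ (AlgSp.yon S).obj U) =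
        i'.hom ≫ ObjectProperty.homMk (projU y (Stk.ofPshMap a)) :=
      ObjectProperty.hom_ext _ (hsq.isoIsPullback_hom_snd _ _ sq').symm
    rw [this, Q.cancel_left_of_respectsIso]
    exact hQ

theorem repBySp_iff_with (a : F ⟶ G) : AlgSp.RepBySp a ↔ AlgSp.RepBySpWith (⊤ : MorphismProperty (AlgSp.Sp S)) a :=
  ⟨fun h U ξ F' fst snd sq => (h ξ fst snd sq).elim fun hs hA => ⟨hs, hA, trivial⟩, fun h => h.repBySp⟩

end Groth.Agent.H9St
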