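import Groth.Agent.Lib.H9StAlg
import Groth.Agent.Lib.H9StPshMap
import Groth.Agent.Lib.AlgSpFppf
/-! Properties of representable morphisms of stacks are local for fppf coverings of the target. -/

set_option autoImplicit false
set_option linter.style.haveILetI false
set_option linter.unusedVariables false
set_option linter.unusedSectionVars false
set_option backward.isDefEq.respectTransparency.types false

universe u

open CategoryTheory CategoryTheory.Limits AlgebraicGeometry Opposite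

noncomputable section

namespace Groth.Agent.H9St

open H9Diag

variable {S : Scheme.{u}}

theorem clsMap_overMap {U' U : Over S} [FibCat.IsFibGrpd (FibCat.overCat U').p] [FibCat.IsFibGrpd (FibCat.overCat U).p]
    (c : U' ⟶ U) : clsMap (AlgSt.overMap c) ≫ (clsOverCat U).hom = (clsOverCat U').hom ≫ (AlgSp.pyon S).map c := by
  ext T x
  obtain ⟨T⟩ := T
  induction x using Quotient.ind with | _ d => ?_
  have key : ∀ {T : Over S} (d : (FibCat.overCat U').p.Fiber T),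
      ovAt U ((IsoNat.fibFun (AlgSt.overMap c) T).obj d) = ⟨(ovAt U' d).down ≫ c⟩ := by
    rintro _ ⟨d, rfl⟩
    exact congrArg ULift.up (Category.assoc _ _ _).symm
  exact key d

theorem isFppfCover_yon {U : Over S} {ι : Type u} (V : ι → Over S) (c : ∀ i, V i ⟶ U) (hf : ∀ i, Flat (c i).left)
    (hp : ∀ i, LocallyOfFinitePresentation (c i).left) (hs : ∀ x : ↥U.left, ∃ i, x ∈ Set.range (c i).left) :
    AlgSp.IsFppfCover (fun i => (AlgSp.yon S).obj (V i)) (fun i => (AlgSp.yon S).map (c i)) := by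
  refine ⟨fun i => ⟨ASp.locP_of_repWith (AlgSp.IsAlgSpace.yon_obj U) ((AlgSp.repWith_yon_map_iff _ (c i)).2 (hf i)),
    ASp.locP_of_repWith (AlgSp.IsAlgSpace.yon_obj U) ((AlgSp.repWith_yon_map_iff _ (c i)).2 (hp i))⟩, fun x => ?_⟩
  obtain ⟨t, rfl⟩ := (AlgSp.Points.schemeHomeo U).surjective x
  obtain ⟨i, v, hv⟩ := hs t
  exact ⟨i, AlgSp.Points.schemeHomeo (V i) v, by rw [AlgSp.Points.map_yon_map_apply, hv]⟩

variable {X Y Z W : AlgSt.Cat S} [hX : FibCat.IsFibGrpd X.p] [hY : FibCat.IsFibGrpd Y.p] [hZ : FibCat.IsFibGrpd Z.p]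
variable (P : MorphismProperty (AlgSp.Sp S))
  (hPb : ∀ ⦃X₁ Y₁ X₂ Y₂ : AlgSp.Sp S⦄, AlgSp.IsAlgSpace X₁ → AlgSp.IsAlgSpace Y₁ → AlgSp.IsAlgSpace X₂ →
    AlgSp.IsAlgSpace Y₂ → ∀ (a : X₁ ⟶ Y₁) (b : Y₂ ⟶ Y₁) (a' : X₂ ⟶ Y₂) (b' : X₂ ⟶ X₁),
      IsPullback b' a' a b → P a → P a')
  (hP : AlgSp.IsLocalOnBase AlgSp.IsFppfCover P)

include hPb hP

/-- A property holds as soon as it holds locally over every test scheme. -/
theorem repWith_of_cover {f : X ⥤ᵇ Y} (hf : AlgSt.RepByAlgSp1 f)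
    (h : ∀ (U : Over S) (y : FibCat.overCat U ⥤ᵇ Y), ∃ (ι : Type u) (V : ι → Over S) (c : ∀ i, V i ⟶ U),
      (∀ i, Flat (c i).left) ∧ (∀ i, LocallyOfFinitePresentation (c i).left) ∧
        (∀ x : ↥U.left, ∃ i, x ∈ Set.range (c i).left) ∧
        ∀ i, ∃ (F : AlgSp.Space S) (e : AlgSt.ofSp F.obj ⥤ᵇ FibCat.fp (BasedFunctor.comp (AlgSt.overMap (c i)) y) f),
          FibCat.IsEquivOver e ∧ P (AlgSt.spMapOfOver (BasedFunctor.comp e
            (FibCat.fpFst (BasedFunctor.comp (AlgSt.overMap (c i)) y) f)))) :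
    AlgSt.RepByAlgSpWith P f := by
  haveI := respectsIso_onSpaces P hPb
  rw [← repByAlgSpWith_onSpaces]
  refine (repByAlgSpWith_iff f).2 fun U y => ?_
  haveI hU : FibCat.IsFibGrpd (FibCat.overCat U).p := isFibGrpd_overCat U
  haveI : FibCat.IsFibGrpd (FibCat.fp y f).p := H9Fib.isFibGrpd_fp _ _
  obtain ⟨hd, hsh, hA⟩ := repByAlgSp_iff.1 (hf U y)
  refine ⟨hd, hsh, hA, fun _ _ => ?_⟩
  obtain ⟨ι, V, c, h₁, h₂, h₃, h₄⟩ := h U y
  let A : AlgSp.Sp S := ⟨clsPsh (FibCat.fp y f), hsh⟩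
  let m : A ⟶ (AlgSp.yon S).obj U := ObjectProperty.homMk (projU y f)
  haveI : ∀ i, FibCat.IsFibGrpd (FibCat.overCat (V i)).p := fun i => isFibGrpd_overCat (V i)
  haveI : ∀ i, FibCat.IsFibGrpd (FibCat.fp (BasedFunctor.comp (AlgSt.overMap (c i)) y) f).p :=
    fun i => H9Fib.isFibGrpd_fp _ _
  have sheaf : ∀ i, Presheaf.IsSheaf (AlgSp.J S) (clsPsh (FibCat.fp (BasedFunctor.comp (AlgSt.overMap (c i)) y) f)) ∧
      Disc (FibCat.fp (BasedFunctor.comp (AlgSt.overMap (c i)) y) f) := fun i => by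
    obtain ⟨F, e, he, -⟩ := h₄ i
    obtain ⟨d, s, -⟩ := repByAlgSp_iff.1 ⟨F, e, he⟩
    exact ⟨s, d⟩
  let Xi : ι → AlgSp.Sp S := fun i => ⟨_, (sheaf i).1⟩
  let p : ∀ i, Xi i ⟶ (AlgSp.yon S).obj (V i) := fun i =>
    ObjectProperty.homMk (projU (BasedFunctor.comp (AlgSt.overMap (c i)) y) f)
  let q : ∀ i, Xi i ⟶ A := fun i => ObjectProperty.homMk (clsMap (bcFun (AlgSt.overMap (c i)) y f))
  have hXi : ∀ i, AlgSp.IsAlgSpace (Xi i) := fun i => by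
    obtain ⟨F, e, he, -⟩ := h₄ i
    obtain ⟨d, s, a⟩ := repByAlgSp_iff.1 ⟨F, e, he⟩
    exact a
  have hsq : ∀ i, IsPullback (q i) (p i) m ((AlgSp.yon S).map (c i)) := fun i => by
    have sq0 := isPullback_bc (AlgSt.overMap (c i)) y f
    have sq1 : IsPullback (clsMap (bcFun (AlgSt.overMap (c i)) y f))
        (projU (BasedFunctor.comp (AlgSt.overMap (c i)) y) f) (projU y f) ((AlgSp.pyon S).map (c i)) :=
      sq0.of_iso (Iso.refl _) (Iso.refl _) (clsOverCat (V i)) (clsOverCat U) (by simp) (by simp [projU])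
        (by simp [projU]) (clsMap_overMap (c i))
    exact IsPullback.of_map (ASp.toP S) (ObjectProperty.hom_ext _ sq1.w) sq1
  refine (hP (fun i => (AlgSp.yon S).obj (V i)) (fun i => (AlgSp.yon S).map (c i)) (AlgSp.IsAlgSpace.yon_obj U)
    (fun i => AlgSp.IsAlgSpace.yon_obj (V i)) (isFppfCover_yon V c h₁ h₂ h₃) m hA Xi p q hXi hsq).2 fun i => ?_
  obtain ⟨F, e, he, hPe⟩ := h₄ i
  haveI := isIso_clsMap he
  let j : F.obj ≅ Xi i :=
    (fullyFaithfulSheafToPresheaf (AlgSp.J S) (Type (u + 1))).preimageIso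
      (X := F.obj) (Y := Xi i) ((clsOfPsh F.obj.obj).symm ≪≫ asIso (clsMap e))
  have e1 : AlgSt.spMapOfOver (BasedFunctor.comp e (FibCat.fpFst (BasedFunctor.comp (AlgSt.overMap (c i)) y) f)) =
      j.hom ≫ p i :=
    ObjectProperty.hom_ext _ (clsMap_equiv_spMap e (FibCat.fpFst (BasedFunctor.comp (AlgSt.overMap (c i)) y) f))
  rw [e1] at hPe
  exact hPb F.property (AlgSp.IsAlgSpace.yon_obj _) (hXi i) (AlgSp.IsAlgSpace.yon_obj _) (j.hom ≫ p i) (𝟙 _) (p i)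
    j.inv (IsPullback.of_horiz_isIso ⟨by simp⟩) hPe

/-- The value of a property at an algebraic space. -/
theorem prop_clsMap_fpFst [hW : FibCat.IsFibGrpd W.p] [Disc W] {f : X ⥤ᵇ Y} (hf : AlgSt.RepByAlgSpWith P f)
    (y : W ⥤ᵇ Y) (hs : Presheaf.IsSheaf (AlgSp.J S) (clsPsh W))
    (hB : AlgSp.IsAlgSpace (⟨clsPsh W, hs⟩ : AlgSp.Sp S)) [FibCat.IsFibGrpd (FibCat.fp y f).p]
    (hs' : Presheaf.IsSheaf (AlgSp.J S) (clsPsh (FibCat.fp y f)))
    (hA : AlgSp.IsAlgSpace (⟨clsPsh (FibCat.fp y f), hs'⟩ : AlgSp.Sp S)) :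
    P (ObjectProperty.homMk (clsMap (FibCat.fpFst y f)) :
      (⟨clsPsh (FibCat.fp y f), hs'⟩ : AlgSp.Sp S) ⟶ (⟨clsPsh W, hs⟩ : AlgSp.Sp S)) := by
  haveI := respectsIso_onSpaces P hPb
  have hm := repBySpWith_of_rep ((repByAlgSpWith_onSpaces P f).2 hf) y
  obtain ⟨V, b, hbe, hbs⟩ := hB.atlas
  obtain ⟨F, fst, snd, sq, hQ⟩ := exists_pullback_prop (m := (ObjectProperty.homMk (clsMap (FibCat.fpFst y f)) :
      (⟨clsPsh (FibCat.fp y f), hs'⟩ : AlgSp.Sp S) ⟶ (⟨clsPsh W, hs⟩ : AlgSp.Sp S))) hm b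
  have hF : AlgSp.IsAlgSpace F := (ASp.isAlgSpace_pullback _ b hA (AlgSp.IsAlgSpace.yon_obj V) hB).of_iso
    ((IsPullback.of_hasPullback _ b).isoIsPullback _ _ sq)
  exact (hP (ι := PUnit.{u + 1}) (fun _ => (AlgSp.yon S).obj V) (fun _ => b) hB
    (fun _ => AlgSp.IsAlgSpace.yon_obj V) (isFppfCover_atlas hB hbe hbs) _ hA (fun _ => F) (fun _ => snd)
    (fun _ => fst) (fun _ => hF) (fun _ => sq)).2 fun _ => hQ hF (AlgSp.IsAlgSpace.yon_obj V)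

omit hPb hP in
/-- Functors to a setoid fibred category are determined by their classes. -/
theorem exists_iso_of_clsMap_eq {A B : AlgSt.Cat S} [FibCat.IsFibGrpd A.p] [FibCat.IsFibGrpd B.p] [Disc B]
    {F G : A ⥤ᵇ B} (h : clsMap F = clsMap G) : Nonempty (F ≅ G) := by
  have h' : ∀ a : A.obj, IsoNat.cls (⟨F.obj a, F.w_obj a⟩ : B.p.Fiber (A.p.obj a)) =
      IsoNat.cls (⟨G.obj a, G.w_obj a⟩ : B.p.Fiber (A.p.obj a)) := fun a => by
    have h0 := ConcreteCategory.congr_hom (NatTrans.congr_app h (op (A.p.obj a)))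
      (IsoNat.cls (⟨a, rfl⟩ : A.p.Fiber (A.p.obj a)))
    exact (cls_congr rfl).trans (h0.trans (cls_congr rfl))
  let e := fun a => Classical.choice ((cls_eq_iff _ _).1 (h' a))
  let i : ∀ a, F.obj a ≅ G.obj a := fun a =>
    { hom := (e a).hom.1
      inv := (e a).inv.1
      hom_inv_id := congrArg Subtype.val (e a).hom_inv_id
      inv_hom_id := congrArg Subtype.val (e a).inv_hom_id }
  refine ⟨BasedNatIso.mkNatIso (NatIso.ofComponents i fun {a b} m => ?_) fun a => (e a).hom.2⟩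
  have l1 : B.p.IsHomLift (A.p.map m) (F.map m) :=
    @BasedFunctor.preserves_isHomLift _ _ _ _ F _ _ _ _ (A.p.map m) m (.map m)
  have l2 : B.p.IsHomLift (A.p.map m) (G.map m) :=
    @BasedFunctor.preserves_isHomLift _ _ _ _ G _ _ _ _ (A.p.map m) m (.map m)
  refine eq_vertical (A.p.map m) _ _ ?_ ?_
  · have := @IsHomLift.comp _ _ _ _ B.p _ _ _ _ _ _ (A.p.map m) (𝟙 _) (F.map m) (i b).hom l1 (e b).hom.2
    rwa [Category.comp_id] at this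
  · have := @IsHomLift.comp _ _ _ _ B.p _ _ _ _ _ _ (𝟙 _) (A.p.map m) (i a).hom (G.map m) (e a).hom.2 l2
    rwa [Category.id_comp] at this

omit hPb hP in
/-- Lifts along a covering from an algebraic stack. -/
theorem exists_cover_lift {z : Z ⥤ᵇ Y} (hz₁ : AlgSt.RepByAlgSpWith (AlgSp.LocP @Flat) z)
    (hz₂ : AlgSt.RepByAlgSpWith (AlgSp.LocP @LocallyOfFinitePresentation) z)
    (hz₃ : AlgSt.RepByAlgSpWith AlgSp.IsSurjectiveMor z) (U : Over S) (y : FibCat.overCat U ⥤ᵇ Y) :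
    ∃ (V : Over S) (c : V ⟶ U) (l : FibCat.overCat V ⥤ᵇ Z), Flat c.left ∧ LocallyOfFinitePresentation c.left ∧
      Function.Surjective c.left ∧
        Nonempty (BasedFunctor.comp l z ≅ BasedFunctor.comp (AlgSt.overMap c) y) := by
  haveI := respectsIso_isSurjectiveMor (S := S)
  haveI hU : FibCat.IsFibGrpd (FibCat.overCat U).p := isFibGrpd_overCat U
  haveI : FibCat.IsFibGrpd (FibCat.fp y z).p := H9Fib.isFibGrpd_fp _ _
  obtain ⟨hd, hsh, hA, h₁⟩ := (repByAlgSpWith_iff z).1 hz₁ U y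
  obtain ⟨_, _, _, h₂⟩ := (repByAlgSpWith_iff z).1 hz₂ U y
  obtain ⟨_, _, _, h₃⟩ := (repByAlgSpWith_iff z).1 hz₃ U y
  let A : AlgSp.Sp S := ⟨clsPsh (FibCat.fp y z), hsh⟩
  let π : A ⟶ (AlgSp.yon S).obj U := ObjectProperty.homMk (projU y z)
  obtain ⟨V, a, hae, has⟩ := hA.atlas
  obtain ⟨c, hc⟩ := (AlgSp.yon S).map_surjective (a ≫ π)
  haveI : FibCat.IsFibGrpd (FibCat.overCat V).p := isFibGrpd_overCat V
  obtain ⟨w, hw⟩ := exists_yFun (W := FibCat.fp y z) (U := V) a.hom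
  refine ⟨V, c, BasedFunctor.comp w (FibCat.fpSnd y z), locP_yon hae hc.symm h₁, locP_yon hae hc.symm h₂, ?_, ?_⟩
  · intro t
    obtain ⟨q, hq⟩ := h₃ (AlgSp.Points.schemeHomeo U t)
    obtain ⟨v, rfl⟩ := ASp.surjective_ofPt_of_repWith has q
    refine ⟨v, (AlgSp.Points.schemeHomeo U).injective ?_⟩
    rw [← hq, ← AlgSp.Points.map_yon_map_apply, hc, AlgSp.Points.map_comp, AlgSp.Points.ofPt_eq_map_ofScheme]
    rfl
  · have e : clsMap (BasedFunctor.comp w (FibCat.fpFst y z)) = clsMap (AlgSt.overMap c) := by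
      rw [← cancel_mono (clsOverCat U).hom, clsMap_overMap, clsMap_comp, hw, Category.assoc, Category.assoc]
      refine congrArg ((clsOverCat V).hom ≫ ·) ?_
      exact (congrArg (fun k => (ASp.toP S).map k) hc).symm
    obtain ⟨i⟩ := exists_iso_of_clsMap_eq e
    exact ⟨(H9Fib.wLeft w (FibCat.fpIso y z)).symm ≪≫ H9Fib.wRight i y⟩

/-- A property descends along a covering from an algebraic stack. -/
theorem repWith_of_fpFst_cover {f : X ⥤ᵇ Y} (hf : AlgSt.RepByAlgSp1 f) (z : Z ⥤ᵇ Y)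
    (hz₁ : AlgSt.RepByAlgSpWith (AlgSp.LocP @Flat) z)
    (hz₂ : AlgSt.RepByAlgSpWith (AlgSp.LocP @LocallyOfFinitePresentation) z)
    (hz₃ : AlgSt.RepByAlgSpWith AlgSp.IsSurjectiveMor z)
    (h : AlgSt.RepByAlgSpWith P (FibCat.fpFst z f)) : AlgSt.RepByAlgSpWith P f := by
  refine repWith_of_cover P hPb hP hf fun U y => ?_
  obtain ⟨V, c, l, h₁, h₂, h₃, ⟨i⟩⟩ := exists_cover_lift hz₁ hz₂ hz₃ U y
  refine ⟨PUnit.{u + 1}, fun _ => V, fun _ => c, fun _ => h₁, fun _ => h₂, fun t => ⟨PUnit.unit, h₃ t⟩, fun _ => ?_⟩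
  haveI : FibCat.IsFibGrpd (FibCat.overCat V).p := isFibGrpd_overCat V
  haveI : FibCat.IsFibGrpd (FibCat.overCat U).p := isFibGrpd_overCat U
  haveI : FibCat.IsFibGrpd (FibCat.fp z f).p := H9Fib.isFibGrpd_fp _ _
  have hp := repByAlgSpWith_transport (f := f) (f' := FibCat.fpFst z f) (y := BasedFunctor.comp l z) (y' := l)
    (pasteFun l z f) (isEquivOver_paste l z f) rfl (h V l)
  let Φ := fpCongr (g := BasedFunctor.comp (AlgSt.overMap c) y) (f := f) (g' := BasedFunctor.comp l z) (f' := f)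
    (BasedFunctor.id (FibCat.overCat V)) (BasedFunctor.id X) (BasedFunctor.id Y) i (Iso.refl _)
  exact repByAlgSpWith_transport Φ (isEquivOver_fpCongr _ _ (H9Fib.isEquivOver_id _) (H9Fib.isEquivOver_id _)
    (H9Fib.isEquivOver_id _)) rfl hp

end Groth.Agent.H9St

namespace Groth.Agent.H9St

open H9Diag

variable {S : Scheme.{u}}

/-- A covering sieve contains a jointly surjective family of flat and locally finitely presented morphisms. -/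
theorem exists_family_of_mem {U : Over S} {R : Sieve U} (hR : R ∈ (QuotSh.J Scheme.fppfPrecoverage S) U) :
    ∃ (ι : Type u) (V : ι → Over S) (c : ∀ i, V i ⟶ U), (∀ i, Flat (c i).left) ∧
      (∀ i, LocallyOfFinitePresentation (c i).left) ∧ (∀ x : ↥U.left, ∃ i, x ∈ Set.range (c i).left) ∧
        ∀ i, R.arrows (c i) := by
  obtain ⟨C, hC, hle⟩ := ASp.exists_cover_le (T := U) hR
  obtain ⟨κ, Y, g, rfl⟩ := Presieve.exists_eq_ofArrows C
  obtain ⟨hs, hP⟩ := (Scheme.ofArrows_mem_precoverage_iff _).1 hC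
  choose k hk using hs
  exact ⟨↥U.left, fun x => Over.mk (g (k x) ≫ U.hom), fun x => Over.homMk (g (k x)) rfl,
    fun x => (hP (k x)).1, fun x => (hP (k x)).2, fun x => ⟨x, hk x⟩, fun x => hle _ ⟨k x⟩⟩

variable {X Y W : AlgSt.Cat S} [hX : FibCat.IsFibGrpd X.p] [hY : FibCat.IsFibGrpd Y.p] [hW : FibCat.IsFibGrpd W.p]
variable (P : MorphismProperty (AlgSp.Sp S))
  (hPb : ∀ ⦃X₁ Y₁ X₂ Y₂ : AlgSp.Sp S⦄, AlgSp.IsAlgSpace X₁ → AlgSp.IsAlgSpace Y₁ → AlgSp.IsAlgSpace X₂ →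
    AlgSp.IsAlgSpace Y₂ → ∀ (a : X₁ ⟶ Y₁) (b : Y₂ ⟶ Y₁) (a' : X₂ ⟶ Y₂) (b' : X₂ ⟶ X₁),
      IsPullback b' a' a b → P a → P a')

include hPb

/-- A space model of a fibre product over an algebraic space. -/
theorem exists_space_model (hP : AlgSp.IsLocalOnBase AlgSp.IsFppfCover P) {f : X ⥤ᵇ Y}
    (hf : AlgSt.RepByAlgSpWith P f) (Z : AlgSp.Space S) (z : AlgSt.ofSp Z.obj ⥤ᵇ Y) :
    ∃ (V : AlgSp.Space S) (a : V ⟶ Z) (e : AlgSt.ofSp V.obj ⥤ᵇ FibCat.fp z f),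
      FibCat.IsEquivOver e ∧ Nonempty (BasedFunctor.comp e (FibCat.fpFst z f) ≅ AlgSt.ofSpMap a.hom) ∧ P a.hom := by
  haveI : FibCat.IsFibGrpd (AlgSt.ofSp Z.obj).p := isFibGrpd_ofPsh Z.obj.obj
  haveI : FibCat.IsFibGrpd (FibCat.fp z f).p := H9Fib.isFibGrpd_fp _ _
  have hZr : AlgSt.RepByAlgSp (AlgSt.ofSp Z.obj) := ⟨Z, _, H9Fib.isEquivOver_id _⟩
  obtain ⟨dZ, sZ, aZ⟩ := repByAlgSp_iff.1 hZr
  obtain ⟨dF, sF, aF⟩ := repByAlgSp_iff.1 (repByAlgSp_fp (rep1_of_with hf) hZr z)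
  have hp := prop_clsMap_fpFst P hPb hP hf z sZ aZ sF aF
  let i : (⟨clsPsh (AlgSt.ofSp Z.obj), sZ⟩ : AlgSp.Sp S) ≅ Z.obj :=
    (fullyFaithfulSheafToPresheaf (AlgSp.J S) (Type (u + 1))).preimageIso
      (X := (⟨clsPsh (AlgSt.ofSp Z.obj), sZ⟩ : AlgSp.Sp S)) (Y := Z.obj) (clsOfPsh Z.obj.obj)
  let m : (⟨clsPsh (FibCat.fp z f), sF⟩ : AlgSp.Sp S) ⟶ (⟨clsPsh (AlgSt.ofSp Z.obj), sZ⟩ : AlgSp.Sp S) :=
    ObjectProperty.homMk (clsMap (FibCat.fpFst z f))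
  obtain ⟨Φ, hΦ, hc⟩ := exists_clsEquiv (FibCat.fp z f)
  haveI : FibCat.IsFibGrpd (Stk.ofPsh (clsPsh (FibCat.fp z f))).p := isFibGrpd_ofPsh _
  refine ⟨⟨_, aF⟩, ObjectProperty.homMk (m ≫ i.hom), Φ, hΦ, ?_, ?_⟩
  · refine exists_iso_of_clsMap_eq ?_
    have h2 : clsMap (Stk.ofPshMap ((m ≫ i.hom).hom)) =
        (clsOfPsh (clsPsh (FibCat.fp z f))).hom ≫ (m ≫ i.hom).hom ≫ (clsOfPsh Z.obj.obj).inv := by
      rw [← Category.assoc, Iso.eq_comp_inv]; exact clsMap_ofPshMap _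
    refine ((clsMap_comp Φ (FibCat.fpFst z f)).trans ?_).trans h2.symm
    rw [hc]
    refine congrArg ((clsOfPsh (clsPsh (FibCat.fp z f))).hom ≫ ·) ?_
    show clsMap (FibCat.fpFst z f) =
      (clsMap (FibCat.fpFst z f) ≫ (clsOfPsh Z.obj.obj).hom) ≫ (clsOfPsh Z.obj.obj).inv
    rw [Category.assoc, Iso.hom_inv_id, Category.comp_id]
  · exact hPb aF aZ aF Z.property m i.inv (m ≫ i.hom) (𝟙 _) (IsPullback.of_horiz_isIso ⟨by simp⟩) hp

/-- A space model with the property gives the property of the base change. -/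
theorem repWith_fpFst_of_model {f : X ⥤ᵇ Y} (Z V : AlgSp.Space S) (z : AlgSt.ofSp Z.obj ⥤ᵇ Y) (a : V ⟶ Z)
    (e : AlgSt.ofSp V.obj ⥤ᵇ FibCat.fp z f) (he : FibCat.IsEquivOver e)
    (i : BasedFunctor.comp e (FibCat.fpFst z f) ≅ AlgSt.ofSpMap a.hom) (ha : P a.hom) :
    AlgSt.RepByAlgSpWith P (FibCat.fpFst z f) := by
  haveI : FibCat.IsFibGrpd (AlgSt.ofSp Z.obj).p := isFibGrpd_ofPsh Z.obj.obj
  haveI : FibCat.IsFibGrpd (AlgSt.ofSp V.obj).p := isFibGrpd_ofPsh V.obj.obj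
  haveI : FibCat.IsFibGrpd (FibCat.fp z f).p := H9Fib.isFibGrpd_fp _ _
  have hVr : AlgSt.RepByAlgSp (AlgSt.ofSp V.obj) := ⟨V, _, H9Fib.isEquivOver_id _⟩
  have hZr : AlgSt.RepByAlgSp (AlgSt.ofSp Z.obj) := ⟨Z, _, H9Fib.isEquivOver_id _⟩
  haveI := respectsIso_onSpaces P hPb
  refine (repByAlgSpWith_congr (f := FibCat.fpFst z f) (f' := AlgSt.ofSpMap a.hom) e (BasedFunctor.id _) he
    (H9Fib.isEquivOver_id _) i.symm).2 ?_
  rw [← repByAlgSpWith_onSpaces]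
  refine repWith_of_map hVr hZr _ fun hs hs' U b hA hB hF hU => ?_
  let iV : (⟨clsPsh (AlgSt.ofSp V.obj), hs⟩ : AlgSp.Sp S) ≅ V.obj :=
    (fullyFaithfulSheafToPresheaf (AlgSp.J S) (Type (u + 1))).preimageIso
      (X := (⟨clsPsh (AlgSt.ofSp V.obj), hs⟩ : AlgSp.Sp S)) (Y := V.obj) (clsOfPsh V.obj.obj)
  let iZ : (⟨clsPsh (AlgSt.ofSp Z.obj), hs'⟩ : AlgSp.Sp S) ≅ Z.obj :=
    (fullyFaithfulSheafToPresheaf (AlgSp.J S) (Type (u + 1))).preimageIso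
      (X := (⟨clsPsh (AlgSt.ofSp Z.obj), hs'⟩ : AlgSp.Sp S)) (Y := Z.obj) (clsOfPsh Z.obj.obj)
  let m : (⟨clsPsh (AlgSt.ofSp V.obj), hs⟩ : AlgSp.Sp S) ⟶ (⟨clsPsh (AlgSt.ofSp Z.obj), hs'⟩ : AlgSp.Sp S) :=
    ObjectProperty.homMk (clsMap (AlgSt.ofSpMap a.hom))
  have hm : m = iV.hom ≫ a.hom ≫ iZ.inv := ObjectProperty.hom_ext _ (by
    show clsMap (Stk.ofPshMap a.hom.hom) = (clsOfPsh V.obj.obj).hom ≫ a.hom.hom ≫ (clsOfPsh Z.obj.obj).inv
    rw [← Category.assoc, Iso.eq_comp_inv]; exact clsMap_ofPshMap _)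
  have hPm : P m := hPb V.property Z.property hA hB a.hom iZ.hom m iV.hom
    (IsPullback.of_horiz_isIso ⟨by rw [hm]; simp⟩) ha
  exact hPb hA hB hF hU m b _ _ (IsPullback.of_hasPullback m b) hPm

end Groth.Agent.H9St

namespace Groth.Agent.H9St

open H9Diag

variable {S : Scheme.{u}} {X Y Z : AlgSt.Cat S} [hX : FibCat.IsFibGrpd X.p] [hY : FibCat.IsFibGrpd Y.p]
  [hZ : FibCat.IsFibGrpd Z.p]

/-- A property local on the source descends along a covering of the source. -/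
theorem repWith_of_comp_cover (P : MorphismProperty (AlgSp.Sp S))
    (hPb : ∀ ⦃X₁ Y₁ X₂ Y₂ : AlgSp.Sp S⦄, AlgSp.IsAlgSpace X₁ → AlgSp.IsAlgSpace Y₁ → AlgSp.IsAlgSpace X₂ →
      AlgSp.IsAlgSpace Y₂ → ∀ (a : X₁ ⟶ Y₁) (b : Y₂ ⟶ Y₁) (a' : X₂ ⟶ Y₂) (b' : X₂ ⟶ X₁),
        IsPullback b' a' a b → P a → P a') (τ : AlgSp.CovNotion S) (hP' : AlgSp.IsLocalOnSource τ P)
    (x : X ⥤ᵇ Y) (y : Y ⥤ᵇ Z) (hy : AlgSt.RepByAlgSp1 y) (hx : AlgSt.RepByAlgSpWith AlgSp.IsSurjectiveMor x)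
    (hτ : ∀ (U : Over S) (c : FibCat.overCat U ⥤ᵇ Z) [FibCat.IsFibGrpd (FibCat.fp c y).p]
      [FibCat.IsFibGrpd (FibCat.fp (FibCat.fpSnd c y) x).p] [Disc (FibCat.fp c y)] (s₂ : Presheaf.IsSheaf (AlgSp.J S)
      (clsPsh (FibCat.fp (FibCat.fpSnd c y) x))) (s₁ : Presheaf.IsSheaf (AlgSp.J S) (clsPsh (FibCat.fp c y))),
      AlgSp.IsAlgSpace (⟨_, s₂⟩ : AlgSp.Sp S) → AlgSp.IsAlgSpace (⟨_, s₁⟩ : AlgSp.Sp S) →
      ∀ (m : (⟨_, s₂⟩ : AlgSp.Sp S) ⟶ (⟨_, s₁⟩ : AlgSp.Sp S)), m.hom = clsMap (FibCat.fpFst (FibCat.fpSnd c y) x) →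
        (∀ z, ∃ w, AlgSp.Points.map m w = z) →
        τ (ι := PUnit.{u + 1}) (fun _ => (⟨_, s₂⟩ : AlgSp.Sp S)) (fun _ => m))
    (h : AlgSt.RepByAlgSpWith P (BasedFunctor.comp x y)) : AlgSt.RepByAlgSpWith P y := by
  haveI := respectsIso_onSpaces P hPb
  haveI := respectsIso_isSurjectiveMor (S := S)
  rw [← repByAlgSpWith_onSpaces] at h ⊢
  refine (repByAlgSpWith_iff y).2 fun U c => ?_
  haveI hU : FibCat.IsFibGrpd (FibCat.overCat U).p := isFibGrpd_overCat U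
  haveI : FibCat.IsFibGrpd (FibCat.fp c y).p := H9Fib.isFibGrpd_fp _ _
  haveI : FibCat.IsFibGrpd (FibCat.fp (FibCat.fpSnd c y) x).p := H9Fib.isFibGrpd_fp _ _
  haveI : FibCat.IsFibGrpd (FibCat.fp c (BasedFunctor.comp x y)).p := H9Fib.isFibGrpd_fp _ _
  obtain ⟨hd, s₁, A₁⟩ := repByAlgSp_iff.1 (hy U c)
  refine ⟨hd, s₁, A₁, fun _ _ => ?_⟩
  obtain ⟨hd₂, s₂, A₂⟩ := repByAlgSp_iff.1 (repByAlgSp_fp (rep1_of_with hx) (hy U c) (FibCat.fpSnd c y))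
  obtain ⟨hd₃, s₃, A₃, h₃⟩ := (repByAlgSpWith_iff _).1 h U c
  let A : AlgSp.Sp S := ⟨clsPsh (FibCat.fp c y), s₁⟩
  let B : AlgSp.Sp S := ⟨clsPsh (FibCat.fp (FibCat.fpSnd c y) x), s₂⟩
  let m : B ⟶ A := ObjectProperty.homMk (clsMap (FibCat.fpFst (FibCat.fpSnd c y) x))
  let n : A ⟶ (AlgSp.yon S).obj U := ObjectProperty.homMk (projU c y)
  haveI := isIso_clsMap (isEquivOver_compFun c x y)
  let i : B ≅ (⟨clsPsh (FibCat.fp c (BasedFunctor.comp x y)), s₃⟩ : AlgSp.Sp S) :=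
    (fullyFaithfulSheafToPresheaf (AlgSp.J S) (Type (u + 1))).preimageIso
      (X := B) (Y := (⟨clsPsh (FibCat.fp c (BasedFunctor.comp x y)), s₃⟩ : AlgSp.Sp S)) (asIso (clsMap (compFun c x y)))
  have e : m ≫ n = i.hom ≫ (ObjectProperty.homMk (projU c (BasedFunctor.comp x y)) :
      (⟨clsPsh (FibCat.fp c (BasedFunctor.comp x y)), s₃⟩ : AlgSp.Sp S) ⟶ (AlgSp.yon S).obj U) := by
    refine ObjectProperty.hom_ext _ ?_
    show clsMap _ ≫ clsMap _ ≫ _ = clsMap (compFun c x y) ≫ clsMap _ ≫ _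
    rw [← Category.assoc, ← clsMap_comp, ← Category.assoc (clsMap (compFun c x y)), ← clsMap_comp]
    rfl
  have hU' := AlgSp.IsAlgSpace.yon_obj U
  have hmn : P (m ≫ n) := hPb A₃ hU' A₂ hU' _ (𝟙 _) (m ≫ n) i.hom
    (IsPullback.of_horiz_isIso ⟨by rw [e]; simp⟩) (h₃ A₃ hU')
  have hsurj : ∀ z, ∃ w, AlgSp.Points.map m w = z := fun z => by
    obtain ⟨V, b, hbe, hbs⟩ := A₁.atlas
    obtain ⟨F, fst, snd, sq, hQ⟩ := exists_pullback_prop (m := m) (repBySpWith_of_rep hx (FibCat.fpSnd c y)) b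
    obtain ⟨v, rfl⟩ := ASp.surjective_ofPt_of_repWith hbs z
    obtain ⟨w, hw⟩ := hQ (AlgSp.Points.schemeHomeo V v)
    refine ⟨AlgSp.Points.map fst w, ?_⟩
    rw [← AlgSp.Points.map_comp, sq.w, AlgSp.Points.map_comp, hw, AlgSp.Points.ofPt_eq_map_ofScheme]
    rfl
  exact (hP' (ι := PUnit.{u + 1}) (fun _ => B) (fun _ => m) A₁ (fun _ => A₂) (hτ U c s₂ s₁ A₂ A₁ m rfl hsurj) n
    hU').2 fun _ => hmn

theorem standard_flat : Standard (AlgSp.LocP (S := S) @Flat) :=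
  ⟨fun _ _ _ _ hA hB _ hD a b a' b' sq h => ASp.locP_baseChange hA hB hD sq h,
    fun _ _ _ hA hB hC a b ha hb => ASp.locP_comp hA hB hC ha hb, local_fppf ASp.isLocalOnBase_locP⟩

theorem standard_lfp : Standard (AlgSp.LocP (S := S) @LocallyOfFinitePresentation) :=
  ⟨fun _ _ _ _ hA hB _ hD a b a' b' sq h => ASp.locP_baseChange hA hB hD sq h,
    fun _ _ _ hA hB hC a b ha hb => ASp.locP_comp hA hB hC ha hb, local_fppf ASp.isLocalOnBase_locP⟩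

end Groth.Agent.H9St
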