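import Groth.Agent.Lib.H9StCongr
/-! Base change of smooth charts; atlases of fibre products. -/

set_option autoImplicit false
set_option linter.style.haveILetI false
set_option linter.unusedVariables false
set_option linter.unusedSectionVars false
set_option backward.isDefEq.respectTransparency.types false

universe u

open CategoryTheory CategoryTheory.Limits AlgebraicGeometry Opposite

noncomputable section

namespace Groth.Agent.H9St

variable {S : Scheme.{u}} {X X' Y Y' Z W : AlgSt.Cat S}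

/-- Transport of representability along an equivalence over the slice. -/
theorem repByAlgSpWith_transport {P : MorphismProperty (AlgSp.Sp S)} [FibCat.IsFibGrpd X.p] [FibCat.IsFibGrpd Y.p]
    [FibCat.IsFibGrpd X'.p] [FibCat.IsFibGrpd Y'.p] {f : X ⥤ᵇ Y} {f' : X' ⥤ᵇ Y'} {U : Over S}
    [FibCat.IsFibGrpd (FibCat.overCat U).p] {y : FibCat.overCat U ⥤ᵇ Y} {y' : FibCat.overCat U ⥤ᵇ Y'}
    (Φ : FibCat.fp y' f' ⥤ᵇ FibCat.fp y f) (hΦ : FibCat.IsEquivOver Φ)
    (hc : clsMap (BasedFunctor.comp Φ (FibCat.fpFst y f)) = clsMap (FibCat.fpFst y' f'))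
    (h : ∃ (F : AlgSp.Space S) (e : AlgSt.ofSp F.obj ⥤ᵇ FibCat.fp y' f'), FibCat.IsEquivOver e ∧
      P (AlgSt.spMapOfOver (BasedFunctor.comp e (FibCat.fpFst y' f')))) :
    ∃ (F : AlgSp.Space S) (e : AlgSt.ofSp F.obj ⥤ᵇ FibCat.fp y f), FibCat.IsEquivOver e ∧
      P (AlgSt.spMapOfOver (BasedFunctor.comp e (FibCat.fpFst y f))) := by
  obtain ⟨F, e, he, hP⟩ := h
  haveI : FibCat.IsFibGrpd (AlgSt.ofSp F.obj).p := isFibGrpd_ofPsh F.obj.obj
  haveI : FibCat.IsFibGrpd (FibCat.fp y f).p := H9Fib.isFibGrpd_fp y f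
  haveI : FibCat.IsFibGrpd (FibCat.fp y' f').p := H9Fib.isFibGrpd_fp y' f'
  refine ⟨F, BasedFunctor.comp e Φ, H9Fib.isEquivOver_trans he hΦ, ?_⟩
  have : AlgSt.spMapOfOver (BasedFunctor.comp (BasedFunctor.comp e Φ) (FibCat.fpFst y f)) =
      AlgSt.spMapOfOver (BasedFunctor.comp e (FibCat.fpFst y' f')) := by
    refine ObjectProperty.hom_ext _ ?_
    rw [spMapOfOver_eq, spMapOfOver_eq]
    refine congrArg (fun q => (clsOfPsh F.obj.obj).inv ≫ q ≫ (clsOverCat U).hom) ?_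
    rw [clsMap_comp (BasedFunctor.comp e Φ), clsMap_comp e Φ, clsMap_comp e (FibCat.fpFst y' f'), ← hc, clsMap_comp Φ, Category.assoc]
  rwa [this]

variable [hX : FibCat.IsFibGrpd X.p] [hY : FibCat.IsFibGrpd Y.p] [hX' : FibCat.IsFibGrpd X'.p]
  [hY' : FibCat.IsFibGrpd Y'.p]

/-- Representability only depends on the morphism up to equivalence. -/
theorem repByAlgSpWith_congr {P : MorphismProperty (AlgSp.Sp S)} {f : X ⥤ᵇ Y} {f' : X' ⥤ᵇ Y'} (a : X' ⥤ᵇ X)
    (b : Y' ⥤ᵇ Y) (ha : FibCat.IsEquivOver a) (hb : FibCat.IsEquivOver b)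
    (e : BasedFunctor.comp f' b ≅ BasedFunctor.comp a f) :
    AlgSt.RepByAlgSpWith P f ↔ AlgSt.RepByAlgSpWith P f' := by
  constructor
  · intro h U y'
    haveI hU : FibCat.IsFibGrpd (FibCat.overCat U).p := isFibGrpd_overCat U
    let y := BasedFunctor.comp y' b
    let i₁ : BasedFunctor.comp y' b ≅ BasedFunctor.comp (BasedFunctor.id (FibCat.overCat U)) y := Iso.refl y
    let Φ := fpCongr (g' := y') (BasedFunctor.id (FibCat.overCat U)) a b i₁ e
    have hΦ : FibCat.IsEquivOver Φ := isEquivOver_fpCongr _ _ (H9Fib.isEquivOver_id _) ha hb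
    obtain ⟨G, ⟨i⟩, ⟨j⟩⟩ := id hΦ
    haveI : FibCat.IsFibGrpd (FibCat.fp y f).p := H9Fib.isFibGrpd_fp y f
    haveI : FibCat.IsFibGrpd (FibCat.fp y' f').p := H9Fib.isFibGrpd_fp y' f'
    refine repByAlgSpWith_transport G ⟨Φ, ⟨j⟩, ⟨i⟩⟩ ?_ (h U y)
    have e1 : clsMap (BasedFunctor.comp G Φ) = 𝟙 _ := (clsMap_congr j).trans clsMap_id
    have e2 : clsMap (BasedFunctor.comp Φ (FibCat.fpFst y f)) = clsMap (FibCat.fpFst y' f') := rfl
    rw [clsMap_comp, ← e2, clsMap_comp, ← Category.assoc, ← clsMap_comp, e1, Category.id_comp]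
  · intro h U y
    haveI hU : FibCat.IsFibGrpd (FibCat.overCat U).p := isFibGrpd_overCat U
    obtain ⟨b', ⟨i⟩, ⟨j⟩⟩ := id hb
    let y' := BasedFunctor.comp y b'
    let i₁ : BasedFunctor.comp y' b ≅ BasedFunctor.comp (BasedFunctor.id (FibCat.overCat U)) y := H9Fib.wLeft y j
    let Φ := fpCongr (BasedFunctor.id (FibCat.overCat U)) a b i₁ e
    exact repByAlgSpWith_transport Φ (isEquivOver_fpCongr _ _ (H9Fib.isEquivOver_id _) ha hb) rfl (h U y')

omit hX hX' hY' in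
theorem isEquivOver_fpFst_id [hW : FibCat.IsFibGrpd W.p] (y : W ⥤ᵇ Y) :
    FibCat.IsEquivOver (FibCat.fpFst y (BasedFunctor.id Y)) := by
  refine H9Fib.isEquivOver_of _ ⟨fun {w w'} m => ?_⟩ ⟨fun {w w' n n'} e => ?_⟩ fun η => ?_
  · refine ⟨ObjectProperty.homMk { fst := m, snd := w.obj.iso.inv ≫ y.map m ≫ w'.obj.iso.hom, w := ?_ }, rfl⟩
    exact (Iso.hom_inv_id_assoc w.obj.iso _).symm
  · refine ObjectProperty.hom_ext _ (CategoricalPullback.hom_ext e ?_)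
    have h₁ : y.map n.hom.fst ≫ w'.obj.iso.hom = w.obj.iso.hom ≫ n.hom.snd := n.hom.w
    have h₂ : y.map n'.hom.fst ≫ w'.obj.iso.hom = w.obj.iso.hom ≫ n'.hom.snd := n'.hom.w
    rw [show n.hom.fst = n'.hom.fst from e] at h₁
    exact (cancel_epi w.obj.iso.hom).1 (h₁.symm.trans h₂)
  · refine ⟨⟨{ fst := η, snd := y.obj η, iso := Iso.refl _ }, IsHomLift.id (y.w_obj η)⟩, Iso.refl η, ?_⟩
    exact IsHomLift.id rfl

theorem repByAlgSpWith_id {P : MorphismProperty (AlgSp.Sp S)} [P.RespectsIso]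
    (hP : ∀ {A B : AlgSp.Sp S} (m : A ⟶ B) [IsIso m], P m) : AlgSt.RepByAlgSpWith P (BasedFunctor.id Y) := by
  refine (repByAlgSpWith_iff _).2 fun U y => ?_
  haveI hU : FibCat.IsFibGrpd (FibCat.overCat U).p := isFibGrpd_overCat U
  haveI : FibCat.IsFibGrpd (FibCat.fp y (BasedFunctor.id Y)).p := H9Fib.isFibGrpd_fp y (BasedFunctor.id Y)
  haveI hi := isIso_clsMap (isEquivOver_fpFst_id y)
  haveI : IsIso (projU y (BasedFunctor.id Y)) := by unfold projU; infer_instance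
  let i := asIso (projU y (BasedFunctor.id Y))
  have hsh : Presheaf.IsSheaf (AlgSp.J S) (clsPsh (FibCat.fp y (BasedFunctor.id Y))) :=
    (Presheaf.isSheaf_of_iso_iff i).2 ((AlgSp.yon S).obj U).property
  let i' : (⟨clsPsh (FibCat.fp y (BasedFunctor.id Y)), hsh⟩ : AlgSp.Sp S) ≅ (AlgSp.yon S).obj U :=
    (fullyFaithfulSheafToPresheaf (AlgSp.J S) (Type (u + 1))).preimageIso
      (X := (⟨clsPsh (FibCat.fp y (BasedFunctor.id Y)), hsh⟩ : AlgSp.Sp S)) (Y := (AlgSp.yon S).obj U) i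
  refine ⟨disc_fp_of_faithful y _ ⟨fun {a b φ ψ} h => h⟩, hsh, (AlgSp.IsAlgSpace.yon_obj U).of_iso i'.symm, ?_⟩
  haveI : IsIso (ObjectProperty.homMk (projU y (BasedFunctor.id Y)) :
      (⟨clsPsh (FibCat.fp y (BasedFunctor.id Y)), hsh⟩ : AlgSp.Sp S) ⟶ (AlgSp.yon S).obj U) :=
    inferInstanceAs (IsIso i'.hom)
  exact hP _

/-- Equivalences are representable. -/
theorem repByAlgSpWith_of_isEquivOver {P : MorphismProperty (AlgSp.Sp S)} [P.RespectsIso]
    (hP : ∀ {A B : AlgSp.Sp S} (m : A ⟶ B) [IsIso m], P m) {f : X ⥤ᵇ Y} (hf : FibCat.IsEquivOver f) :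
    AlgSt.RepByAlgSpWith P f :=
  (repByAlgSpWith_congr (f := BasedFunctor.id Y) (f' := f) f (BasedFunctor.id Y) hf (H9Fib.isEquivOver_id _)
    (Iso.refl _)).1 (repByAlgSpWith_id hP)

/-- The second projection of a fibre product by a representable morphism. -/
theorem repByAlgSpWith_fpSnd [hZ : FibCat.IsFibGrpd Z.p] {P : MorphismProperty (AlgSp.Sp S)} (g : Z ⥤ᵇ Y)
    (f : X ⥤ᵇ Y) (hg : AlgSt.RepByAlgSpWith P g) : AlgSt.RepByAlgSpWith P (FibCat.fpSnd g f) := by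
  haveI : FibCat.IsFibGrpd (FibCat.fp g f).p := H9Fib.isFibGrpd_fp g f
  haveI : FibCat.IsFibGrpd (FibCat.fp f g).p := H9Fib.isFibGrpd_fp f g
  exact (repByAlgSpWith_congr (f := FibCat.fpFst f g) (f' := FibCat.fpSnd g f) (swapFun g f) (BasedFunctor.id X)
    (isEquivOver_swap g f) (H9Fib.isEquivOver_id _) (Iso.refl _)).1 (repByAlgSpWith_fpFst g f hg)

theorem locP_smooth_of_iso {A B : AlgSp.Sp S} (m : A ⟶ B) [IsIso m] : AlgSp.LocP @Smooth m := by
  intro U V a b α ha hb hab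
  haveI : Etale α.left := ASp.etale_of_charts α (MorphismProperty.RespectsIso.postcomp _ m _ ha) hb hab.symm
  exact (inferInstance : Smooth α.left)

theorem smooth_comp' [hZ : FibCat.IsFibGrpd Z.p] {f : X ⥤ᵇ Y} {g : Y ⥤ᵇ Z}
    (hf : AlgSt.RepByAlgSpWith (AlgSp.LocP @Smooth) f) (hg : AlgSt.RepByAlgSpWith (AlgSp.LocP @Smooth) g) :
    AlgSt.RepByAlgSpWith (AlgSp.LocP @Smooth) (BasedFunctor.comp f g) :=
  repByAlgSpWith_comp (fun A B W m n hA hB hm hn => smooth_comp hA hB hm hn) f g hf hg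

/-- The fibre product by a representable morphism has a smooth atlas. -/
theorem hasAtlas_fp [hZ : FibCat.IsFibGrpd Z.p] (g : Z ⥤ᵇ Y) {f : X ⥤ᵇ Y} (hf : AlgSt.RepByAlgSp1 f)
    (hA : AlgSt.HasAtlas (AlgSp.LocP @Smooth) Z) : AlgSt.HasAtlas (AlgSp.LocP @Smooth) (FibCat.fp g f) := by
  obtain ⟨V, z, hz, hzs⟩ := hA
  haveI : FibCat.IsFibGrpd (FibCat.overCat V).p := isFibGrpd_overCat V
  haveI : FibCat.IsFibGrpd (FibCat.fp g f).p := H9Fib.isFibGrpd_fp g f
  let π := FibCat.fpFst g f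
  haveI : FibCat.IsFibGrpd (FibCat.fp z π).p := H9Fib.isFibGrpd_fp z π
  obtain ⟨F, e, he, -⟩ := repByAlgSpWith_fpFst f g ((repByAlgSp1_iff_with f).1 hf) V z
  haveI : FibCat.IsFibGrpd (AlgSt.ofSp F.obj).p := isFibGrpd_ofPsh F.obj.obj
  obtain ⟨W, p, hp, hps⟩ := hasAtlas_ofSp F.property
  haveI : FibCat.IsFibGrpd (FibCat.overCat W).p := isFibGrpd_overCat W
  have h1 : AlgSt.RepByAlgSpWith (AlgSp.LocP @Smooth) (BasedFunctor.comp (BasedFunctor.comp p e) (FibCat.fpSnd z π)) :=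
    smooth_comp' (smooth_comp' hp (repByAlgSpWith_of_isEquivOver (fun m _ => locP_smooth_of_iso m) he))
      (repByAlgSpWith_fpSnd z π hz)
  refine ⟨W, _, h1, surjectiveMor_of_surjective_ofChart h1 fun q => ?_⟩
  have s1 : Function.Surjective (AlgSt.Points.map p) := isSurjective_of_rep hps
  have s2 : Function.Surjective (AlgSt.Points.map e) := isSurjective_of_rep
    (repByAlgSpWith_of_isEquivOver (fun m _ z => ⟨AlgSp.Points.map (inv m) z, by
      rw [← AlgSp.Points.map_comp, IsIso.inv_hom_id, AlgSp.Points.map_id]⟩) he)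
  have s3 : Function.Surjective (AlgSt.Points.map (FibCat.fpSnd z π)) := fun q => by
    obtain ⟨v, hv⟩ := isSurjective_of_rep hzs (AlgSt.Points.map π q)
    obtain ⟨w, -, hw⟩ := exists_fp_point π z v q hv
    exact ⟨w, hw⟩
  obtain ⟨q₂, rfl⟩ := s3 q
  obtain ⟨q₁, rfl⟩ := s2 q₂
  obtain ⟨q₀, rfl⟩ := s1 q₁
  rw [← Set.mem_range, range_ofChart, points_map_comp, points_map_comp]
  exact Set.mem_range_self q₀

end Groth.Agent.H9St
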