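import Groth.Agent.Lib.H9StComp
import Groth.Agent.Lib.H9StOps
import Groth.Prelude.Def_AlgSt3
/-! Diagonals of morphisms of stacks: comparison maps as base changes of diagonals. -/

set_option autoImplicit false
set_option linter.style.haveILetI false
set_option linter.unusedVariables false
set_option linter.unusedSectionVars false
set_option backward.isDefEq.respectTransparency.types false

universe v₅ u₅ v₄ u₄ v₃ u₃ v₂ u₂ v u

open CategoryTheory CategoryTheory.Functor CategoryTheory.Limits AlgebraicGeometry Opposite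

noncomputable section

namespace Groth.Agent.H9Diag

section General

variable {C : Type u} [Category.{v} C]
variable {X : BasedCategory.{v₂, u₂} C} {Y : BasedCategory.{v₃, u₃} C} {Z : BasedCategory.{v₄, u₄} C}
  {T : BasedCategory.{v₅, u₅} C}

theorem comp_comp {A B : Type*} [Category A] [Category B] (G : A ⥤ B) {a b c : A} (p : a ≅ b) (q : c ≅ b) :
    G.map (p.hom ≫ q.inv) ≫ G.map q.hom = G.map p.hom := by
  rw [← G.map_comp, Category.assoc, Iso.inv_hom_id, Category.comp_id]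

section Bc

variable (f : X ⥤ᵇ Z) (g : Y ⥤ᵇ Z) (t : Z ⥤ᵇ T)

/-- The comparison isomorphism. -/
def cmpIso : BasedFunctor.comp (FibCat.fpFst f g) (BasedFunctor.comp f t) ≅
    BasedFunctor.comp (FibCat.fpSnd f g) (BasedFunctor.comp g t) :=
  H9Fib.wRight (FibCat.fpIso f g) t

/-- The comparison of fibre products over `Z` and over `T`. -/
def cmp : FibCat.fp f g ⥤ᵇ FibCat.fp (BasedFunctor.comp f t) (BasedFunctor.comp g t) :=
  FibCat.fpLift (FibCat.fpFst f g) (FibCat.fpSnd f g) (cmpIso f g t)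

/-- The pair of the two maps to `Z`. -/
def pair : FibCat.fp (BasedFunctor.comp f t) (BasedFunctor.comp g t) ⥤ᵇ FibCat.fp t t :=
  FibCat.fpLift (BasedFunctor.comp (FibCat.fpFst (BasedFunctor.comp f t) (BasedFunctor.comp g t)) f)
    (BasedFunctor.comp (FibCat.fpSnd (BasedFunctor.comp f t) (BasedFunctor.comp g t)) g)
    (FibCat.fpIso (BasedFunctor.comp f t) (BasedFunctor.comp g t))

/-- The square of the comparison and the diagonal commutes. -/
def cmpSq : BasedFunctor.comp (cmp f g t) (pair f g t) ≅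
    BasedFunctor.comp (BasedFunctor.comp (FibCat.fpSnd f g) g) (FibCat.diag t) :=
  BasedNatIso.mkNatIso (NatIso.ofComponents (fun w => (FibCat.fpProp t t).isoMk
      (CategoricalPullback.mkIso w.obj.iso (Iso.refl _) (congrArg (t.toFunctor.map w.obj.iso.hom ≫ ·) rfl |>.trans
        (by
          show t.map w.obj.iso.hom ≫ 𝟙 _ = t.map w.obj.iso.hom ≫ t.map (𝟙 _)
          exact congrArg (_ ≫ ·) (t.toFunctor.map_id _).symm))))
    (fun {w w'} m => ObjectProperty.hom_ext _ (CategoricalPullback.hom_ext m.hom.w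
      (by show g.map m.hom.snd ≫ 𝟙 _ = 𝟙 _ ≫ g.map m.hom.snd; exact (Category.comp_id _).trans (Category.id_comp _).symm))))
    fun w => by
      refine IsHomLift.of_fac' _ _ _ ?_ ?_ ?_
      · exact f.w_obj w.obj.fst
      · exact @IsHomLift.codomain_eq _ _ _ _ Z.p _ _ _ _ (𝟙 (X.p.obj w.obj.fst)) w.obj.iso.hom w.property
      · exact @IsHomLift.fac' _ _ _ _ Z.p _ _ _ _ (𝟙 (X.p.obj w.obj.fst)) w.obj.iso.hom w.property

/-- The comparison is a base change of the diagonal. -/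
def cmpEquiv : FibCat.fp f g ⥤ᵇ FibCat.fp (pair f g t) (FibCat.diag t) :=
  FibCat.fpLift (cmp f g t) (BasedFunctor.comp (FibCat.fpSnd f g) g) (cmpSq f g t)

theorem isEquivOver_cmpEquiv : FibCat.IsEquivOver (cmpEquiv f g t) := by
  refine H9Fib.isEquivOver_of _ ⟨fun {w w'} m => ?_⟩ ⟨fun {w w'} {n n'} e => ?_⟩ fun η => ?_
  · have h₁ : f.map m.hom.fst.hom.fst ≫ w'.obj.iso.hom = w.obj.iso.hom ≫ m.hom.snd :=
      congrArg (fun q => q.hom.fst) m.hom.w
    have h₂ : g.map m.hom.fst.hom.snd ≫ 𝟙 _ = 𝟙 _ ≫ m.hom.snd := congrArg (fun q => q.hom.snd) m.hom.w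
    have hc : g.map m.hom.fst.hom.snd = m.hom.snd := ((Category.comp_id _).symm.trans h₂).trans (Category.id_comp _)
    refine ⟨ObjectProperty.homMk
      { fst := m.hom.fst.hom.fst, snd := m.hom.fst.hom.snd, w := h₁.trans (congrArg (_ ≫ ·) hc.symm) }, ?_⟩
    exact ObjectProperty.hom_ext _ (CategoricalPullback.hom_ext
      (ObjectProperty.hom_ext _ (CategoricalPullback.hom_ext rfl rfl)) hc)
  · exact ObjectProperty.hom_ext _ (CategoricalPullback.hom_ext (congrArg (fun q => q.hom.fst.hom.fst) e)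
      (congrArg (fun q => q.hom.fst.hom.snd) e))
  · let a := η.obj.fst
    let z := η.obj.snd
    let p : f.obj a.obj.fst ≅ z :=
      ((FibCat.fpFst t t).toFunctor.mapIso η.obj.iso)
    let q : g.obj a.obj.snd ≅ z :=
      ((FibCat.fpSnd t t).toFunctor.mapIso η.obj.iso)
    have hi : (FibCat.fp t t).p.IsHomLift (𝟙 (X.p.obj a.obj.fst)) η.obj.iso.hom := η.property
    haveI hp : Z.p.IsHomLift (𝟙 (X.p.obj a.obj.fst)) p.hom :=
      @BasedFunctor.preserves_isHomLift _ _ _ _ (FibCat.fpFst t t) _ _ _ _ _ η.obj.iso.hom hi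
    haveI hq : Z.p.IsHomLift (𝟙 (X.p.obj a.obj.fst)) q.hom :=
      @BasedFunctor.preserves_isHomLift _ _ _ _ (FibCat.fpSnd t t) _ _ _ _ _ η.obj.iso.hom hi
    have hq' : Z.p.IsHomLift (𝟙 (X.p.obj a.obj.fst)) q.inv := IsHomLift.lift_id_inv _ _ _
    have hsq : t.map p.hom ≫ 𝟙 _ = a.obj.iso.hom ≫ t.map q.hom := η.obj.iso.hom.hom.w
    let ξ : (FibCat.fp f g).obj := ⟨{ fst := a.obj.fst, snd := a.obj.snd, iso := p ≪≫ q.symm },
      @IsHomLift.comp_of_lift_id _ _ _ _ _ _ _ _ _ _ _ hp hq'⟩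
    have key : t.map (p.hom ≫ q.inv) = a.obj.iso.hom :=
      (cancel_mono (t.map q.hom)).1 ((comp_comp t.toFunctor p q).trans ((Category.comp_id _).symm.trans hsq))
    let e₁ : (cmp f g t).obj ξ ≅ a := (FibCat.fpProp _ _).isoMk (CategoricalPullback.mkIso (Iso.refl _) (Iso.refl _) (by
      show t.map (f.map (𝟙 _)) ≫ a.obj.iso.hom = t.map (p.hom ≫ q.inv) ≫ t.map (g.map (𝟙 _))
      rw [key]
      exact (congrArg (· ≫ a.obj.iso.hom) ((congrArg t.toFunctor.map (f.map_id _)).trans (t.toFunctor.map_id _))).trans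
        ((Category.id_comp _).trans ((Category.comp_id _).symm.trans
          (congrArg (_ ≫ ·) ((congrArg t.toFunctor.map (g.map_id _)).trans (t.toFunctor.map_id _)).symm)))))
    refine ⟨ξ, (FibCat.fpProp _ _).isoMk (CategoricalPullback.mkIso e₁ q (ObjectProperty.hom_ext _
      (CategoricalPullback.hom_ext ?_ ?_))), ?_⟩
    · show f.map (𝟙 _) ≫ p.hom = (p.hom ≫ q.inv) ≫ q.hom
      rw [f.map_id, Category.id_comp, Category.assoc, Iso.inv_hom_id, Category.comp_id]
    · show g.map (𝟙 _) ≫ q.hom = 𝟙 _ ≫ q.hom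
      rw [g.map_id]
    · refine IsHomLift.of_fac' _ _ _ rfl rfl ?_
      show X.p.map (𝟙 _) = _
      simp; rfl

end Bc

section Dg

variable (g : Y ⥤ᵇ Z) (f : X ⥤ᵇ Z)

/-- The isomorphism behind `sqPair`. -/
def sqPairIso : BasedFunctor.comp (BasedFunctor.comp (FibCat.fpFst (FibCat.fpFst g f) (FibCat.fpFst g f)) (FibCat.fpSnd g f)) f ≅
    BasedFunctor.comp (BasedFunctor.comp (FibCat.fpSnd (FibCat.fpFst g f) (FibCat.fpFst g f)) (FibCat.fpSnd g f)) f :=
  H9Fib.wLeft (FibCat.fpFst (FibCat.fpFst g f) (FibCat.fpFst g f)) (FibCat.fpIso g f).symm ≪≫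
    H9Fib.wRight (FibCat.fpIso (FibCat.fpFst g f) (FibCat.fpFst g f)) g ≪≫
      H9Fib.wLeft (FibCat.fpSnd (FibCat.fpFst g f) (FibCat.fpFst g f)) (FibCat.fpIso g f)

/-- The pair of second components. -/
def sqPair : FibCat.fp (FibCat.fpFst g f) (FibCat.fpFst g f) ⥤ᵇ FibCat.fp f f :=
  FibCat.fpLift (BasedFunctor.comp (FibCat.fpFst (FibCat.fpFst g f) (FibCat.fpFst g f)) (FibCat.fpSnd g f))
    (BasedFunctor.comp (FibCat.fpSnd (FibCat.fpFst g f) (FibCat.fpFst g f)) (FibCat.fpSnd g f)) (sqPairIso g f)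

/-- The square of diagonals commutes. -/
def dgSq : BasedFunctor.comp (FibCat.diag (FibCat.fpFst g f)) (sqPair g f) ≅
    BasedFunctor.comp (FibCat.fpSnd g f) (FibCat.diag f) :=
  BasedNatIso.mkNatIso (NatIso.ofComponents (fun w => (FibCat.fpProp f f).isoMk
      (CategoricalPullback.mkIso (Iso.refl _) (Iso.refl _) (by
        show f.map (𝟙 _) ≫ 𝟙 _ = (w.obj.iso.inv ≫ g.map (𝟙 _) ≫ w.obj.iso.hom) ≫ f.map (𝟙 _)
        erw [g.toFunctor.map_id, Category.id_comp, Iso.inv_hom_id, f.toFunctor.map_id, Category.id_comp])))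
    (fun {w w'} m => ObjectProperty.hom_ext _ (CategoricalPullback.hom_ext
      ((Category.comp_id _).trans (Category.id_comp _).symm) ((Category.comp_id _).trans (Category.id_comp _).symm))))
    fun w => by
      refine IsHomLift.of_fac' _ _ _ ((FibCat.fpSnd g f).w_obj w) ((FibCat.fpSnd g f).w_obj w) ?_
      show X.p.map (𝟙 _) = _
      simp; rfl

/-- The diagonal of a base change is a base change of the diagonal. -/
def dgEquiv : FibCat.fp g f ⥤ᵇ FibCat.fp (sqPair g f) (FibCat.diag f) :=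
  FibCat.fpLift (FibCat.diag (FibCat.fpFst g f)) (FibCat.fpSnd g f) (dgSq g f)

theorem isEquivOver_dgEquiv : FibCat.IsEquivOver (dgEquiv g f) := by
  refine H9Fib.isEquivOver_of _ ⟨fun {w w'} m => ?_⟩ ⟨fun {w w'} {n n'} e => ?_⟩ fun η => ?_
  · have h0 : m.hom.fst.hom.fst.hom.fst = m.hom.fst.hom.snd.hom.fst :=
      ((Category.comp_id _).symm.trans m.hom.fst.hom.w).trans (Category.id_comp _)
    have h1 : m.hom.fst.hom.fst.hom.snd = m.hom.snd :=
      ((Category.comp_id _).symm.trans (congrArg (fun q => q.hom.fst) m.hom.w)).trans (Category.id_comp _)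
    have h2 : m.hom.fst.hom.snd.hom.snd = m.hom.snd :=
      ((Category.comp_id _).symm.trans (congrArg (fun q => q.hom.snd) m.hom.w)).trans (Category.id_comp _)
    refine ⟨m.hom.fst.hom.fst, ObjectProperty.hom_ext _ (CategoricalPullback.hom_ext
      (ObjectProperty.hom_ext _ (CategoricalPullback.hom_ext rfl
        (ObjectProperty.hom_ext _ (CategoricalPullback.hom_ext h0 (h1.trans h2.symm))))) h1)⟩
  · exact congrArg (fun q => q.hom.fst.hom.fst) e
  · let a := η.obj.fst
    let p : a.obj.fst.obj.snd ≅ η.obj.snd := (FibCat.fpFst f f).toFunctor.mapIso η.obj.iso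
    let q : a.obj.snd.obj.snd ≅ η.obj.snd := (FibCat.fpSnd f f).toFunctor.mapIso η.obj.iso
    have hsq : f.map p.hom ≫ 𝟙 _ = (a.obj.fst.obj.iso.inv ≫ g.map a.obj.iso.hom ≫ a.obj.snd.obj.iso.hom) ≫ f.map q.hom :=
      η.obj.iso.hom.hom.w
    have key : f.map (p.hom ≫ q.inv) = a.obj.fst.obj.iso.inv ≫ g.map a.obj.iso.hom ≫ a.obj.snd.obj.iso.hom :=
      (cancel_mono (f.map q.hom)).1 ((comp_comp f.toFunctor p q).trans ((Category.comp_id _).symm.trans hsq))
    let k : a.obj.fst ≅ a.obj.snd := (FibCat.fpProp g f).isoMk (CategoricalPullback.mkIso a.obj.iso (p ≪≫ q.symm) (by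
      show g.map a.obj.iso.hom ≫ a.obj.snd.obj.iso.hom = a.obj.fst.obj.iso.hom ≫ f.map (p.hom ≫ q.inv)
      rw [key]; exact (Iso.hom_inv_id_assoc _ _).symm))
    let e₁ : (FibCat.diag (FibCat.fpFst g f)).obj a.obj.fst ≅ a :=
      (FibCat.fpProp _ _).isoMk (CategoricalPullback.mkIso (Iso.refl _) k (by
        show 𝟙 _ ≫ a.obj.iso.hom = 𝟙 _ ≫ a.obj.iso.hom
        rfl))
    refine ⟨a.obj.fst, (FibCat.fpProp _ _).isoMk (CategoricalPullback.mkIso e₁ p (ObjectProperty.hom_ext _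
      (CategoricalPullback.hom_ext ?_ ?_))), ?_⟩
    · show 𝟙 _ ≫ p.hom = 𝟙 _ ≫ p.hom
      rfl
    · show (p.hom ≫ q.inv) ≫ q.hom = 𝟙 _ ≫ p.hom
      rw [Category.assoc, Iso.inv_hom_id, Category.comp_id, Category.id_comp]
    · refine IsHomLift.of_fac' _ _ _ rfl rfl ?_
      show Y.p.map (𝟙 _) = _
      simp; rfl

end Dg

section DiagComp

/-- The diagonal of a composite factors through the comparison map. -/
def diagCompIso (f : X ⥤ᵇ Z) (t : Z ⥤ᵇ T) :
    BasedFunctor.comp (FibCat.diag f) (cmp f f t) ≅ FibCat.diag (BasedFunctor.comp f t) :=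
  BasedNatIso.mkNatIso (NatIso.ofComponents (fun x => (FibCat.fpProp _ _).isoMk
      (CategoricalPullback.mkIso (Iso.refl _) (Iso.refl _) (by
        show t.map (f.map (𝟙 _)) ≫ 𝟙 _ = t.map (𝟙 _) ≫ t.map (f.map (𝟙 _))
        rw [f.toFunctor.map_id, t.toFunctor.map_id])))
    (fun {x x'} m => ObjectProperty.hom_ext _ (CategoricalPullback.hom_ext
      ((Category.comp_id _).trans (Category.id_comp _).symm) ((Category.comp_id _).trans (Category.id_comp _).symm))))
    fun x => by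
      refine IsHomLift.of_fac' _ _ _ rfl rfl ?_
      show X.p.map (𝟙 _) = _
      simp; rfl

end DiagComp

end General

end Groth.Agent.H9Diag
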