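import Groth.Agent.Lib.H9StLFT
import Groth.Agent.Lib.AlgSpUnivClosedQC
/-! Properties of morphisms read off their diagonals. -/

set_option autoImplicit false
set_option linter.style.haveILetI false
set_option linter.unusedVariables false
set_option linter.unusedSectionVars false
set_option backward.isDefEq.respectTransparency.types false

universe u

open CategoryTheory CategoryTheory.Limits AlgebraicGeometry Opposite

noncomputable section

namespace Groth.Agent.H9St

open H9Diag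

variable {S : Scheme.{u}} {X Y : AlgSt.Cat S} [hX : FibCat.IsFibGrpd X.p] [hY : FibCat.IsFibGrpd Y.p]
variable {P : MorphismProperty (AlgSp.Sp S)}

/-- The value of a property on a test scheme, for morphisms of spaces. -/
theorem prop_pullback_snd [P.RespectsIso] [Disc X] [Disc Y] {f : X ⥤ᵇ Y} (hf : AlgSt.RepByAlgSpWith P f)
    (hs : Presheaf.IsSheaf (AlgSp.J S) (clsPsh X)) (hs' : Presheaf.IsSheaf (AlgSp.J S) (clsPsh Y))
    (U : Over S) (b : (AlgSp.yon S).obj U ⟶ (⟨clsPsh Y, hs'⟩ : AlgSp.Sp S)) :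
    P (pullback.snd (ObjectProperty.homMk (clsMap f) :
      (⟨clsPsh X, hs⟩ : AlgSp.Sp S) ⟶ (⟨clsPsh Y, hs'⟩ : AlgSp.Sp S)) b) := by
  haveI hU : FibCat.IsFibGrpd (FibCat.overCat U).p := isFibGrpd_overCat U
  obtain ⟨y, hy⟩ := exists_yFun (W := Y) (U := U) b.hom
  obtain ⟨dF, sF, aF, hP⟩ := (repByAlgSpWith_iff f).1 hf U y
  let a : (⟨clsPsh X, hs⟩ : AlgSp.Sp S) ⟶ (⟨clsPsh Y, hs'⟩ : AlgSp.Sp S) := ObjectProperty.homMk (clsMap f)
  have sqS := (IsPullback.of_hasPullback a b).map (ASp.toP S)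
  have sq0 : IsPullback (clsMap (FibCat.fpSnd y f)) (projU y f) (clsMap f) b.hom :=
    (isPullback_fp y f).flip.of_iso (Iso.refl _) (Iso.refl _) (clsOverCat U) (Iso.refl _) (by simp) (by simp [projU])
      (by simp) (by simp [hy])
  let i : (⟨clsPsh (FibCat.fp y f), sF⟩ : AlgSp.Sp S) ≅ pullback a b :=
    (fullyFaithfulSheafToPresheaf (AlgSp.J S) (Type (u + 1))).preimageIso
      (X := (⟨clsPsh (FibCat.fp y f), sF⟩ : AlgSp.Sp S)) (Y := pullback a b) (sq0.isoIsPullback _ _ sqS)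
  have e : (ObjectProperty.homMk (projU y f) :
      (⟨clsPsh (FibCat.fp y f), sF⟩ : AlgSp.Sp S) ⟶ (AlgSp.yon S).obj U) = i.hom ≫ pullback.snd a b :=
    ObjectProperty.hom_ext _ (sq0.isoIsPullback_hom_snd _ _ sqS).symm
  rw [e, P.cancel_left_of_respectsIso] at hP
  exact hP

/-- A property read off the base changes of the diagonal. -/
theorem repWith_of_diag {Q : MorphismProperty (AlgSp.Sp S)} [P.RespectsIso] [Q.RespectsIso] {f : X ⥤ᵇ Y}
    (hf : AlgSt.RepByAlgSp1 f) (h : AlgSt.RepByAlgSpWith P (FibCat.diag f))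
    (hPQ : ∀ (A B : AlgSp.Sp S) (a : A ⟶ B), AlgSp.IsAlgSpace A → AlgSp.IsAlgSpace B →
      (∀ (U : Over S) (b : (AlgSp.yon S).obj U ⟶ pullback a a), P (pullback.snd (pullback.diagonal a) b)) → Q a) :
    AlgSt.RepByAlgSpWith Q f := by
  refine (repByAlgSpWith_iff f).2 fun U y => ?_
  haveI hU : FibCat.IsFibGrpd (FibCat.overCat U).p := isFibGrpd_overCat U
  haveI : FibCat.IsFibGrpd (FibCat.fp y f).p := H9Fib.isFibGrpd_fp _ _
  let π := FibCat.fpFst y f
  haveI : FibCat.IsFibGrpd (FibCat.fp π π).p := H9Fib.isFibGrpd_fp _ _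
  have hUr : AlgSt.RepByAlgSp (FibCat.overCat U) := repByAlgSp_overCat U
  have hw : AlgSt.RepByAlgSp (FibCat.fp y f) := hf U y
  have hww : AlgSt.RepByAlgSp (FibCat.fp π π) := repByAlgSp_fp (repByAlgSp1_of_repByAlgSp hw hUr π) hw π
  obtain ⟨dw, sw, aw⟩ := repByAlgSp_iff.1 hw
  obtain ⟨dU, sU, aU⟩ := repByAlgSp_iff.1 hUr
  obtain ⟨dF, sF, aF⟩ := repByAlgSp_iff.1 hww
  refine ⟨dw, sw, aw, ?_⟩
  let A : AlgSp.Sp S := ⟨clsPsh (FibCat.fp y f), sw⟩
  let B : AlgSp.Sp S := ⟨clsPsh (FibCat.overCat U), sU⟩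
  let a : A ⟶ B := ObjectProperty.homMk (clsMap π)
  let i : B ≅ (AlgSp.yon S).obj U :=
    (fullyFaithfulSheafToPresheaf (AlgSp.J S) (Type (u + 1))).preimageIso (X := B) (Y := (AlgSp.yon S).obj U)
      (clsOverCat U)
  have hQa : Q a := by
    refine hPQ A B a aw aU fun V b => ?_
    let FF : AlgSp.Sp S := ⟨clsPsh (FibCat.fp π π), sF⟩
    let p₁ : FF ⟶ A := ObjectProperty.homMk (clsMap (FibCat.fpFst π π))
    let p₂ : FF ⟶ A := ObjectProperty.homMk (clsMap (FibCat.fpSnd π π))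
    have sq : IsPullback p₁ p₂ a a := IsPullback.of_map (ASp.toP S)
      (ObjectProperty.hom_ext _ (isPullback_fp π π).w) (isPullback_fp π π)
    let δ : A ⟶ FF := ObjectProperty.homMk (clsMap (FibCat.diag π))
    have e₁ : δ ≫ p₁ = 𝟙 A := ObjectProperty.hom_ext _
      ((clsMap_comp (FibCat.diag π) (FibCat.fpFst π π)).symm.trans clsMap_id)
    have e₂ : δ ≫ p₂ = 𝟙 A := ObjectProperty.hom_ext _
      ((clsMap_comp (FibCat.diag π) (FibCat.fpSnd π π)).symm.trans clsMap_id)
    have ed : δ ≫ sq.isoPullback.hom = pullback.diagonal a := by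
      apply pullback.hom_ext
      · rw [Category.assoc, sq.isoPullback_hom_fst, pullback.diagonal_fst]; exact e₁
      · rw [Category.assoc, sq.isoPullback_hom_snd, pullback.diagonal_snd]; exact e₂
    have sqδ : IsPullback (𝟙 A) (pullback.diagonal a) δ sq.isoPullback.inv :=
      IsPullback.of_horiz_isIso ⟨by rw [← ed, Category.assoc, Iso.hom_inv_id, Category.comp_id, Category.id_comp]⟩
    have sq₂ := (IsPullback.of_hasPullback (pullback.diagonal a) b).paste_horiz sqδ
    have h' := prop_pullback_snd (repWith_diag_fpFst y f h) sw sF V (b ≫ sq.isoPullback.inv)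
    rw [← sq₂.isoIsPullback_hom_snd _ _ (IsPullback.of_hasPullback δ (b ≫ sq.isoPullback.inv))]
    exact (MorphismProperty.cancel_left_of_respectsIso P _ _).2 h'
  have e : (ObjectProperty.homMk (projU y f) : A ⟶ (AlgSp.yon S).obj U) = a ≫ i.hom :=
    ObjectProperty.hom_ext _ rfl
  show Q (ObjectProperty.homMk (projU y f) : A ⟶ (AlgSp.yon S).obj U)
  rw [e]
  exact (MorphismProperty.cancel_right_of_respectsIso Q a i.hom).2 hQa

/-- A scheme property of the diagonal from its base changes. -/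
theorem repWith_diagonal_of_forall {T : MorphismProperty Scheme.{u}} [T.RespectsIso] {A B : AlgSp.Sp S}
    (a : A ⟶ B) (hA : AlgSp.IsAlgSpace A)
    (h : ∀ (U : Over S) (b : (AlgSp.yon S).obj U ⟶ pullback a a),
      AlgSp.RepWith T (pullback.snd (pullback.diagonal a) b)) : AlgSp.RepWith T (pullback.diagonal a) := by
  refine ASp.repWith_of_forall (ASp.representable_diagonal hA a) fun U V g fst snd sq => ?_
  let i := sq.isoIsPullback _ _ (IsPullback.of_hasPullback (pullback.diagonal a) g)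
  have hi : i.hom ≫ pullback.snd (pullback.diagonal a) g = (AlgSp.yon S).map snd := sq.isoIsPullback_hom_snd _ _ _
  exact (h U g).2 (𝟙 _) i.hom snd (IsPullback.of_horiz_isIso ⟨by rw [Category.comp_id, hi]⟩)

theorem separated_of_univClosed_diag {f : X ⥤ᵇ Y} (hf : AlgSt.RepByAlgSp1 f)
    (h : AlgSt.RepByAlgSpWith AlgSp.IsUnivClosedMor (FibCat.diag f)) :
    AlgSt.RepByAlgSpWith AlgSp.IsSeparatedMor f :=
  repWith_of_diag hf h fun A B a hA hB h => repWith_diagonal_of_forall a hA fun U b => by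
    obtain ⟨hrep, hlft, hmono, hsep, -⟩ :=
      ASp.MonoLFT.props (ASp.repWith_baseChange (IsPullback.of_hasPullback _ b) (ASp.monoLFT_diagonal hA a))
    have hc := (ASp.repWith_universallyClosed_iff hrep).2 (h U b)
    refine ASp.repWith_of_forall hrep fun T W g fst snd sq => ?_
    have : Mono snd.left := hmono.2 g fst snd sq
    have : LocallyOfFiniteType snd.left := hlft.2 g fst snd sq
    have : UniversallyClosed snd.left := hc.2 g fst snd sq
    have : IsSeparated snd.left := hsep.2 g fst snd sq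
    exact (IsClosedImmersion.iff_isProper_and_mono _).2 ⟨{ }, ‹_›⟩

theorem qs_of_qc_diag {f : X ⥤ᵇ Y} (hf : AlgSt.RepByAlgSp1 f)
    (h : AlgSt.RepByAlgSpWith AlgSp.IsQuasiCompactMor (FibCat.diag f)) :
    AlgSt.RepByAlgSpWith AlgSp.IsQuasiSeparatedMor f :=
  repWith_of_diag hf h fun A B a hA hB h => repWith_diagonal_of_forall a hA fun U b =>
    (ASp.repWith_quasiCompact_iff
      (ASp.repWith_baseChange (IsPullback.of_hasPullback _ b) (ASp.monoLFT_diagonal hA a) :
        ASp.MonoLFT (pullback.snd (pullback.diagonal a) b)).rep).2 (h U b)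

theorem mono_repWith {P Q : MorphismProperty (AlgSp.Sp S)} {f : X ⥤ᵇ Y} (h : AlgSt.RepByAlgSpWith P f) (hle : P ≤ Q) :
    AlgSt.RepByAlgSpWith Q f :=
  fun U y => (h U y).imp fun F ⟨e, he, hP⟩ => ⟨e, he, hle _ hP⟩

theorem closedImm_diag_of_separated {f : X ⥤ᵇ Y} (hf : AlgSt.RepByAlgSpWith AlgSp.IsSeparatedMor f)
    [(AlgSp.RepWith (S := S) @IsClosedImmersion).RespectsIso] :
    AlgSt.IsClosedImm (FibCat.diag f) :=
  repWith_diag_of_with hf standard_separated fun A B a U b _ _ h =>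
    ASp.repWith_baseChange (IsPullback.of_hasPullback _ b) h

theorem proper_of_closedImm {f : X ⥤ᵇ Y} (hf : AlgSt.IsClosedImm f) : AlgSt.RepByAlgSpWith AlgSp.IsProperMor f :=
  fun U y => (hf U y).imp fun F ⟨e, he, hP⟩ =>
    ⟨e, he, ASp.isProperMor_of_closedImmersion (AlgSp.IsAlgSpace.yon_obj U) hP⟩

end Groth.Agent.H9St
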