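import Groth.Agent.Lib.H9StQC
/-! Diagonal of a stack and morphisms from schemes. -/

set_option autoImplicit false
set_option linter.style.haveILetI false
set_option linter.unusedVariables false
set_option linter.unusedSectionVars false
set_option backward.isDefEq.respectTransparency.types false

universe u

open CategoryTheory CategoryTheory.Limits AlgebraicGeometry

noncomputable section

namespace Groth.Agent.H9St

open H9Diag

variable {S : Scheme.{u}} {X : AlgSt.Cat S} [hX : FibCat.IsFibGrpd X.p]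

/-- If every morphism from a scheme is representable, so is the diagonal. -/
theorem rep1_diag_of_forall_rep1 (h : ∀ (U : Over S) (x : FibCat.overCat U ⥤ᵇ X), AlgSt.RepByAlgSp1 x) :
    AlgSt.RepByAlgSp1 (FibCat.diag (FibCat.toSelf X)) := by
  intro U y
  haveI : FibCat.IsFibGrpd (FibCat.overCat U).p := isFibGrpd_overCat U
  haveI : FibCat.IsFibGrpd (FibCat.selfOver (Over S)).p := isFibGrpd_selfOver
  let t := FibCat.toSelf X
  let x1 := BasedFunctor.comp y (FibCat.fpFst t t)
  let x2 := BasedFunctor.comp y (FibCat.fpSnd t t)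
  let T := FibCat.fp (BasedFunctor.comp x1 t) (BasedFunctor.comp x2 t)
  haveI : FibCat.IsFibGrpd (FibCat.fp t t).p := H9Fib.isFibGrpd_fp _ _
  haveI : FibCat.IsFibGrpd (FibCat.fp x1 x2).p := H9Fib.isFibGrpd_fp _ _
  haveI : FibCat.IsFibGrpd T.p := H9Fib.isFibGrpd_fp _ _
  haveI : FibCat.IsFibGrpd (FibCat.fp (pair x1 x2 t) (FibCat.diag t)).p := H9Fib.isFibGrpd_fp _ _
  have hU1 : ∀ x : FibCat.overCat U ⥤ᵇ X, AlgSt.RepByAlgSp1 (BasedFunctor.comp x t) := fun x => by
    rw [comp_toSelf]
    exact rep1_toSelf (repByAlgSp_overCat U)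
  have hT : AlgSt.RepByAlgSp T := repByAlgSp_fp (hU1 x2) (repByAlgSp_overCat U) (BasedFunctor.comp x1 t)
  have hp : AlgSt.RepByAlgSp (FibCat.fp (pair x1 x2 t) (FibCat.diag t)) :=
    repByAlgSp_congr (isEquivOver_cmpEquiv x1 x2 t) (h U x2 U x1)
  have hq : AlgSt.RepByAlgSp1 (FibCat.fpFst (pair x1 x2 t) (FibCat.diag t)) :=
    rep1_from_space (isDM_of_repByAlgSp hT).1.diag hp _
  let δ : FibCat.overCat U ⥤ᵇ T := FibCat.fpLift (BasedFunctor.id _) (BasedFunctor.id _)
    (H9Fib.wLeft y (FibCat.fpIso t t))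
  haveI : FibCat.IsFibGrpd (FibCat.fp δ (FibCat.fpFst (pair x1 x2 t) (FibCat.diag t))).p := H9Fib.isFibGrpd_fp _ _
  have h2 : AlgSt.RepByAlgSp (FibCat.fp (BasedFunctor.comp δ (pair x1 x2 t)) (FibCat.diag t)) :=
    repByAlgSp_congr (isEquivOver_paste δ (pair x1 x2 t) (FibCat.diag t)) (hq U δ)
  let i : BasedFunctor.comp δ (pair x1 x2 t) ≅ y :=
    BasedNatIso.mkNatIso (NatIso.ofComponents (fun a => (FibCat.fpProp t t).isoMk
        (CategoricalPullback.mkIso (Iso.refl _) (Iso.refl _) (by
          show t.map (𝟙 _) ≫ _ = _ ≫ t.map (𝟙 _)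
          exact (congrArg (· ≫ _) (t.toFunctor.map_id _)).trans ((Category.id_comp _).trans
            ((Category.comp_id _).symm.trans (congrArg (_ ≫ ·) (t.toFunctor.map_id _).symm))))))
      (fun {a b} m => ObjectProperty.hom_ext _ (CategoricalPullback.hom_ext
        ((Category.comp_id _).trans (Category.id_comp _).symm) ((Category.comp_id _).trans (Category.id_comp _).symm))))
      fun a => by
        refine IsHomLift.of_fac' _ _ _ (y.w_obj a) (y.w_obj a) ?_
        show X.p.map (𝟙 _) = _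
        simp; rfl
  let Φ := fpCongr (g := y) (f := FibCat.diag t) (g' := BasedFunctor.comp δ (pair x1 x2 t)) (f' := FibCat.diag t)
    (BasedFunctor.id (FibCat.overCat U)) (BasedFunctor.id X) (BasedFunctor.id _) i (Iso.refl _)
  exact repByAlgSp_congr (e := Φ) (isEquivOver_fpCongr _ _ (H9Fib.isEquivOver_id _) (H9Fib.isEquivOver_id _)
    (H9Fib.isEquivOver_id _)) h2

end Groth.Agent.H9St
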