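import Mathlib
import Groth.Agent.Lib.H5TopPatch
/-! Open quotients of spectral spaces by spectral relations. -/

set_option autoImplicit false

universe u w

open Topology TopologicalSpace

namespace Groth.Agent.H9Top

variable {U R X : Type*} [TopologicalSpace U] [TopologicalSpace R] [TopologicalSpace X]

/-- A maximal generization inside a patch-closed subset. -/
theorem exists_maximal {U : Type u} [TopologicalSpace U] [SpectralSpace U] {E : Set U}
    (hE : H5Top.PClosed E) {x : U} (hx : x ∈ E) :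
    ∃ e ∈ E, ∀ e' ∈ E, e' ⤳ e → e' = e := by
  haveI := H5Top.spectral_subspace E hE
  let C := irreducibleComponent (⟨x, hx⟩ : E)
  obtain ⟨g, hg⟩ := QuasiSober.sober (S := C) isIrreducible_irreducibleComponent isClosed_irreducibleComponent
  refine ⟨g.1, g.2, fun e' he' hsp => ?_⟩
  have h1 : (⟨e', he'⟩ : E) ⤳ g := (subtype_specializes_iff _ _).2 hsp
  have h2 : C ⊆ closure {(⟨e', he'⟩ : E)} := by
    intro c hc
    exact specializes_iff_mem_closure.1 (h1.trans (hg.specializes hc))
  have h3 : closure {(⟨e', he'⟩ : E)} = C :=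
    ((irreducibleComponent_property (⟨x, hx⟩ : E)).2.2 _ isIrreducible_singleton.closure.isPreirreducible h2)
  have h4 : g ⤳ (⟨e', he'⟩ : E) := hg.specializes (h3 ▸ subset_closure rfl)
  exact congrArg Subtype.val (h1.antisymm h4).eq

variable {π : U → X} {s t : R → U}

theorem preimage_image_eq (hrel : ∀ a b, π a = π b ↔ ∃ r, s r = a ∧ t r = b) (W : Set U) :
    π ⁻¹' (π '' W) = s '' (t ⁻¹' W) := by
  ext a
  constructor
  · rintro ⟨b, hb, he⟩
    obtain ⟨r, hs, ht⟩ := (hrel a b).1 he.symm
    exact ⟨r, by show t r ∈ W; rw [ht]; exact hb, hs⟩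
  · rintro ⟨r, hr, rfl⟩
    exact ⟨t r, hr, ((hrel (s r) (t r)).2 ⟨r, rfl, rfl⟩).symm⟩

/-- A spectral space modulo an open spectral relation is spectral. -/
theorem spectralSpace_of_open_quotient {U R : Type u} {X : Type w} [TopologicalSpace U] [TopologicalSpace R]
    [TopologicalSpace X] [SpectralSpace U] [SpectralSpace R] {π : U → X} {s t : R → U}
    (hπc : Continuous π) (hπo : IsOpenMap π) (hπs : Function.Surjective π)
    (hs : IsSpectralMap s) (ht : IsSpectralMap t)
    (hrel : ∀ a b, π a = π b ↔ ∃ r, s r = a ∧ t r = b) : SpectralSpace X := by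
  have hct := (H5Top.isSpectralMap_iff_patch t ht.continuous).1 ht
  have hcs := (H5Top.isSpectralMap_iff_patch s hs.continuous).1 hs
  have cls : ∀ y : U, H5Top.PClosed (π ⁻¹' {π y}) := by
    intro y
    have h1 : H5Top.PClosed (t ⁻¹' {y}) := @IsClosed.preimage R U (constructibleTopology R) (constructibleTopology U)
      t hct {y} (@isClosed_singleton U (constructibleTopology U)
        (@T2Space.t1Space U (constructibleTopology U) H5Top.patch_t2) y)
    have h2 : H5Top.PClosed (s '' (t ⁻¹' {y})) :=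
      @IsCompact.isClosed U (constructibleTopology U) H5Top.patch_t2 _
        (@IsCompact.image R U (constructibleTopology R) (constructibleTopology U) _ s
          (@IsClosed.isCompact R (constructibleTopology R) _ H5Top.patch_compactSpace h1) hcs)
    have h3 : π ⁻¹' {π y} = s '' (t ⁻¹' {y}) := by
      rw [← preimage_image_eq hrel, Set.image_singleton]
    rw [h3]; exact h2
  have gen : ∀ x y : U, π y ⤳ π x → ∃ e, π e = π y ∧ e ⤳ x := by
    intro x y h
    have : x ∈ closure (π ⁻¹' {π y}) := by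
      rw [← hπo.preimage_closure_eq_closure_preimage hπc]
      exact specializes_iff_mem_closure.1 h
    obtain ⟨e, he, hex⟩ := H5Top.exists_specializes (cls y) this
    exact ⟨e, he, hex⟩
  have ht0 : T0Space X := by
    refine ⟨fun a b hab => ?_⟩
    obtain ⟨x, rfl⟩ := hπs a
    obtain ⟨y, rfl⟩ := hπs b
    obtain ⟨e, he, hmax⟩ := exists_maximal (cls x) (x := x) rfl
    obtain ⟨f, hf, hfe⟩ := gen e y (by rw [he]; exact hab.specializes')
    obtain ⟨e', he', hef⟩ := gen f x (by rw [hf]; exact hab.specializes)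
    obtain rfl := hmax e' he' (hef.trans hfe)
    rw [← he, ← hf]
    exact congrArg π (hef.antisymm hfe).eq
  let B : Set (Set X) := Set.image (π '' ·) {V : Set U | IsOpen V ∧ IsCompact V}
  have hB : IsTopologicalBasis B := PrespectralSpace.isTopologicalBasis.isQuotientMap (hπo.isQuotientMap hπc hπs) hπo
  haveI hpre : PrespectralSpace X := PrespectralSpace.of_isTopologicalBasis hB (by
    rintro _ ⟨V, hV, rfl⟩; exact hV.2.image hπc)
  haveI : CompactSpace X := ⟨by rw [← hπs.range_eq, ← Set.image_univ]; exact isCompact_univ.image hπc⟩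
  haveI : QuasiSeparatedSpace X := by
    refine QuasiSeparatedSpace.of_isTopologicalBasis (b := fun V : {V : Set U // IsOpen V ∧ IsCompact V} => π '' V.1)
      ?_ (fun V W => ?_)
    · convert hB using 1
      ext A; constructor
      · rintro ⟨V, rfl⟩; exact ⟨V.1, V.2, rfl⟩
      · rintro ⟨V, hV, rfl⟩; exact ⟨⟨V, hV⟩, rfl⟩
    · rw [← Set.image_inter_preimage]
      refine (QuasiSeparatedSpace.inter_isCompact V.1 _ V.2.1 V.2.2 ?_ ?_).image hπc
      · exact (hπo _ W.2.1).preimage hπc
      · rw [preimage_image_eq hrel]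
        exact (ht.isCompact_preimage_of_isOpen W.2.1 W.2.2).image hs.continuous
  haveI : QuasiSober X := ⟨fun {Z} hZ hZc => by
    let I := {V : Set U // IsOpen V ∧ IsCompact V ∧ (π '' V ∩ Z).Nonempty}
    obtain ⟨z, hz⟩ := hZ.nonempty
    obtain ⟨u, rfl⟩ := hπs z
    haveI : Nonempty X := ⟨π u⟩
    have pc : ∀ o : Option I, H5Top.PClosed (o.elim (π ⁻¹' Z) (fun i => π ⁻¹' (π '' i.1))) := by
      rintro (_ | i)
      · exact H5Top.pclosed_of_isClosed (hZc.preimage hπc)
      · refine H5Top.pclosed_compactOpen ((hπo _ i.2.1).preimage hπc) ?_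
        show IsCompact (π ⁻¹' (π '' i.1))
        rw [preimage_image_eq hrel]
        exact (ht.isCompact_preimage_of_isOpen i.2.1 i.2.2.1).image hs.continuous
    obtain ⟨w, hw⟩ := H5Top.patch_iInter_nonempty _ pc (fun F => by
      classical
      have : ∃ O : Set X, IsOpen O ∧ (O ∩ Z).Nonempty ∧
          π ⁻¹' (O ∩ Z) ⊆ ⋂ o ∈ F, o.elim (π ⁻¹' Z) (fun i : I => π ⁻¹' (π '' i.1)) := by
        induction F using Finset.induction_on with
        | empty => exact ⟨Set.univ, isOpen_univ, by simpa using hZ.nonempty, by simp⟩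
        | insert o F _ ih =>
          obtain ⟨O, hO, hne, hsub⟩ := ih
          cases o with
          | none => exact ⟨O, hO, hne, by rw [Finset.set_biInter_insert]; exact fun a ha => ⟨ha.2, hsub ha⟩⟩
          | some i =>
            refine ⟨O ∩ π '' i.1, hO.inter (hπo _ i.2.1), ?_, ?_⟩
            · obtain ⟨a, ha⟩ := hne; obtain ⟨b, hb⟩ := i.2.2.2
              obtain ⟨c, hc, hc1, hc2⟩ := hZ.2 O (π '' i.1) hO (hπo _ i.2.1) ⟨a, ha.2, ha.1⟩ ⟨b, hb.2, hb.1⟩
              exact ⟨c, ⟨hc1, hc2⟩, hc⟩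
            · rw [Finset.set_biInter_insert]
              exact fun a ha => ⟨ha.1.2, hsub ⟨ha.1.1, ha.2⟩⟩
      obtain ⟨O, hO, ⟨a, ha⟩, hsub⟩ := this
      obtain ⟨b, rfl⟩ := hπs a
      exact ⟨b, hsub ha⟩)
    rw [Set.mem_iInter] at hw
    refine ⟨π w, isGenericPoint_iff_specializes.2 fun y => ⟨fun h => h.mem_closed hZc (hw none), fun hy => ?_⟩⟩
    rw [hB.nhds_hasBasis.specializes_iff]
    rintro _ ⟨⟨V, hV, rfl⟩, hyV⟩
    exact hw (some ⟨V, hV.1, hV.2, y, hyV, hy⟩)⟩
  exact {}

end Groth.Agent.H9Top
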