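import Groth.Agent.Lib.H9StTop
import Groth.Agent.Lib.H9TopQuot
import Groth.Agent.Lib.H9AlgSpSpectral
import Groth.Agent.Lib.AlgSpTop
/-! Algebraic stacks with quasi-compact diagonal have spectral spaces of points. -/

set_option autoImplicit false
set_option linter.style.haveILetI false
set_option linter.unusedVariables false
set_option linter.unusedSectionVars false
set_option backward.isDefEq.respectTransparency.types false

universe u

open CategoryTheory CategoryTheory.Limits AlgebraicGeometry Opposite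

noncomputable section

namespace Groth.Agent.H9St

variable {S : Scheme.{u}} {X : AlgSt.Cat S}

theorem isFibGrpd_selfOver : FibCat.IsFibGrpd (FibCat.selfOver (Over S)).p where
  exists_lift {x V} g := ⟨V, g, IsHomLift.map (𝟭 (Over S)) g⟩
  isStronglyCartesian {b a} φ :=
    { universal_property' := fun {a'} g φ' hl => by
        haveI := hl
        have e : φ' = g ≫ φ := by
          have h' := IsHomLift.fac' (FibCat.selfOver (Over S)).p (g ≫ (FibCat.selfOver (Over S)).p.map φ) φ'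
          simp at h'
          exact h'
        refine ⟨g, ⟨IsHomLift.map (𝟭 (Over S)) g, e.symm⟩, ?_⟩
        rintro χ ⟨hχ, -⟩
        haveI := hχ
        have h' := IsHomLift.fac' (FibCat.selfOver (Over S)).p g χ
        simp at h'
        exact h' }

theorem toSelf_map_eqToHom {A B A' B' : Over S} {χ : A ⟶ B} (h₁ : A = A') (h₂ : A' = B) (he : χ = eqToHom (h₁.trans h₂))
    (k : A = B') (k' : B' = B) : χ = eqToHom k ≫ eqToHom k' := by
  subst he; simp

variable [hX : FibCat.IsFibGrpd X.p]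

theorem map_eq_eqToHom {a b : X.obj} {T : Over S} (φ : a ⟶ b) (h : X.p.IsHomLift (𝟙 T) φ) :
    X.p.map φ = eqToHom ((IsHomLift.domain_eq X.p (𝟙 T) φ).trans (IsHomLift.codomain_eq X.p (𝟙 T) φ).symm) := by
  haveI := h
  have := IsHomLift.fac' X.p (𝟙 T) φ
  simp at this
  exact this

theorem spectralSpace_range (hA : AlgSt.HasAtlas (AlgSp.LocP @Smooth) X)
    (hΔ : AlgSt.RepByAlgSpWith AlgSp.IsQuasiCompactMor (FibCat.diag (FibCat.toSelf X))) {U : Over S} [IsAffine U.left]
    [CompactSpace ↥(pullback U.hom U.hom)] {p : FibCat.overCat U ⥤ᵇ X}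
    (hp : AlgSt.RepByAlgSpWith (AlgSp.LocP @Smooth) p) :
    SpectralSpace ↥(Set.range (AlgSt.Points.ofChart p)) := by
  haveI hU : FibCat.IsFibGrpd (FibCat.overCat U).p := isFibGrpd_overCat U
  let P : Over S := Over.mk (pullback.fst U.hom U.hom ≫ U.hom)
  let p₁ : P ⟶ U := Over.homMk (pullback.fst U.hom U.hom) rfl
  let p₂ : P ⟶ U := Over.homMk (pullback.snd U.hom U.hom) pullback.condition.symm
  haveI hP : FibCat.IsFibGrpd (FibCat.overCat P).p := isFibGrpd_overCat P
  haveI hSelf : FibCat.IsFibGrpd (FibCat.selfOver (Over S)).p := isFibGrpd_selfOver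
  haveI hXX : FibCat.IsFibGrpd (FibCat.fp (FibCat.toSelf X) (FibCat.toSelf X)).p :=
    H9Fib.isFibGrpd_fp (FibCat.toSelf X) (FibCat.toSelf X)
  let y₁ := BasedFunctor.comp (AlgSt.overMap p₁) p
  let y₂ := BasedFunctor.comp (AlgSt.overMap p₂) p
  have hb : ∀ A : (FibCat.overCat P).obj, X.p.obj (y₁.obj A) = X.p.obj (y₂.obj A) := fun A =>
    (y₁.w_obj A).trans (y₂.w_obj A).symm
  let ε : BasedFunctor.comp y₁ (FibCat.toSelf X) ≅ BasedFunctor.comp y₂ (FibCat.toSelf X) :=
    BasedNatIso.mkNatIso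
      (NatIso.ofComponents (fun A => eqToIso (hb A)) fun {A B} m => by
        show X.p.map (y₁.map m) ≫ eqToHom (hb B) = eqToHom (hb A) ≫ X.p.map (y₂.map m)
        have h1 := Functor.congr_hom y₁.w m
        have h2 := Functor.congr_hom y₂.w m
        simp only [Functor.comp_map] at h1 h2
        rw [h1, h2]
        simp)
      (fun A => IsHomLift.of_fac' _ _ _ (y₁.w_obj A) (y₂.w_obj A) (by simp; rfl))
  let y := FibCat.fpLift y₁ y₂ ε
  obtain ⟨F, π, hF, hqc, H⟩ := exists_chart_fp' hΔ y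
  haveI : CompactSpace P.left := inferInstanceAs (CompactSpace ↥(pullback U.hom U.hom))
  have hFc : AlgSp.IsQuasiCompactSp F :=
    hqc (AlgSp.IsAlgSpace.yon_obj P) (ASp.isQuasiCompactSp_yon ‹_›) (𝟙 _) (𝟙 F) π
      (IsPullback.of_horiz_isIso ⟨by simp⟩)
  obtain ⟨W, a, -, has, hW⟩ := hFc
  haveI : CompactSpace W.left := hW
  obtain ⟨h, B, -, h1, h2⟩ := H W a (ASp.surjective_ofPt_of_repWith has)
  obtain ⟨R', g, hg⟩ := compactSpace_iff_exists.mp (inferInstance : CompactSpace W.left)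
  let s : Spec R' ⟶ U.left := g ≫ h.left ≫ pullback.fst U.hom U.hom
  let t : Spec R' ⟶ U.left := g ≫ h.left ≫ pullback.snd U.hom U.hom
  haveI := ASp.spectral_of_affine U.left
  haveI := ASp.spectral_of_affine (Spec R')
  refine H9Top.spectralSpace_of_open_quotient (π := Set.rangeFactorization (AlgSt.Points.ofChart p)) (s := s) (t := t)
    ((continuous_ofChart_of_atlas hA p).rangeFactorization)
    ((isOpenMap_ofChart (smooth_flat_lfp hp).1 (smooth_flat_lfp hp).2).subtype_mk _)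
    Set.rangeFactorization_surjective (ASp.isSpectralMap_of_qc s) (ASp.isSpectralMap_of_qc t)
    fun u u' => Subtype.ext_iff.trans ⟨fun he => ?_, ?_⟩
  · obtain ⟨r, a₁, b₁, -⟩ := mk_eq_mk.1 he
    let A := (ptAt u).obj
    let A' := (ptAt u').obj
    have la : X.p.obj (p.obj A) = Over.mk (ptAt u).str := p.w_obj A
    have lb : X.p.obj (p.obj A') = Over.mk (ptAt u').str := p.w_obj A'
    let γ₁ : Over.mk r.str ⟶ Over.mk (ptAt u).str := baseHom r.lies la a₁
    let γ₂ : Over.mk r.str ⟶ Over.mk (ptAt u').str := baseHom r.lies lb b₁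
    let g₁ : Over.mk r.str ⟶ U := γ₁ ≫ (A.hom : Over.mk (ptAt u).str ⟶ U)
    let g₂ : Over.mk r.str ⟶ U := γ₂ ≫ (A'.hom : Over.mk (ptAt u').str ⟶ U)
    let v : Over.mk r.str ⟶ P := Over.homMk (pullback.lift g₁.left g₂.left ((Over.w g₁).trans (Over.w g₂).symm)) (by
      show _ ≫ pullback.fst U.hom U.hom ≫ U.hom = _
      rw [pullback.lift_fst_assoc]; exact Over.w g₁)
    have hv₁ : v ≫ p₁ = g₁ := Over.OverMorphism.ext (pullback.lift_fst _ _ _)
    have hv₂ : v ≫ p₂ = g₂ := Over.OverMorphism.ext (pullback.lift_snd _ _ _)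
    let z : (FibCat.overCat P).obj := Over.mk v
    let m₁ : (Over.mk (v ≫ p₁) : Over U) ⟶ A := Over.homMk γ₁ hv₁.symm
    let m₂ : (Over.mk (v ≫ p₂) : Over U) ⟶ A' := Over.homMk γ₂ hv₂.symm
    have lm₁ : X.p.IsHomLift (𝟙 (Over.mk r.str) ≫ γ₁) a₁ := by
      rw [Category.id_comp]; exact lift_baseHom r.lies la a₁
    have lm₂ : X.p.IsHomLift (𝟙 (Over.mk r.str) ≫ γ₂) b₁ := by
      rw [Category.id_comp]; exact lift_baseHom r.lies lb b₁
    have lp₁ : X.p.IsHomLift γ₁ (p.map m₁) :=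
      @BasedFunctor.preserves_isHomLift _ _ _ _ p _ _ _ _ γ₁ m₁ (IsHomLift.map (FibCat.overCat U).p m₁)
    have lp₂ : X.p.IsHomLift γ₂ (p.map m₂) :=
      @BasedFunctor.preserves_isHomLift _ _ _ _ p _ _ _ _ γ₂ m₂ (IsHomLift.map (FibCat.overCat U).p m₂)
    obtain ⟨χ₁, ⟨lχ₁, -⟩, -⟩ := @existsUnique_desc _ _ X _ _ _ _ _ _ _ (𝟙 (Over.mk r.str)) γ₁ (p.map m₁) lp₁ a₁ lm₁
    obtain ⟨χ₂, ⟨lχ₂, -⟩, -⟩ := @existsUnique_desc _ _ X _ _ _ _ _ _ _ (𝟙 (Over.mk r.str)) γ₂ (p.map m₂) lp₂ b₁ lm₂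
    let ψ : (FibCat.diag (FibCat.toSelf X)).obj r.obj ⟶ y.obj z := ObjectProperty.homMk
      { fst := χ₁, snd := χ₂, w := by
          show X.p.map χ₁ ≫ eqToHom (hb z) = 𝟙 _ ≫ X.p.map χ₂
          rw [map_eq_eqToHom χ₁ lχ₁, map_eq_eqToHom χ₂ lχ₂, eqToHom_trans]
          exact (Category.id_comp _).symm }
    let q : AlgSt.FPt (FibCat.overCat P) := { K := r.K, str := r.str, obj := z, lies := rfl }
    have hpts : AlgSt.Points.ofChart y (val q) = AlgSt.Points.map (FibCat.diag (FibCat.toSelf X)) (AlgSt.Points.mk r) := by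
      rw [← map_mk_eq_ofChart]
      have hrel : AlgSt.FPt.Rel (r.map (FibCat.diag (FibCat.toSelf X))) (q.map y) :=
        ⟨r.map (FibCat.diag (FibCat.toSelf X)), 𝟙 _, ψ, trivial⟩
      exact (AlgSt.Points.sound hrel).symm
    obtain ⟨w, hw, -⟩ := h2 (val q) (AlgSt.Points.mk r) hpts
    obtain ⟨l, hl⟩ := hg w
    have hval : val q = v.left (IsLocalRing.closedPoint r.K) :=
      congrArg (fun k : Over.mk r.str ⟶ P => k.left _) (Category.id_comp v)
    refine ⟨l, ?_, ?_⟩
    · show pullback.fst U.hom U.hom (h.left (g l)) = u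
      rw [hl, hw, hval, ← Scheme.Hom.comp_apply]
      show ((v ≫ p₁).left) _ = u
      rw [hv₁]
      exact U.left.fromSpecResidueField_apply u _
    · show pullback.snd U.hom U.hom (h.left (g l)) = u'
      rw [hl, hw, hval, ← Scheme.Hom.comp_apply]
      show ((v ≫ p₂).left) _ = u'
      rw [hv₂]
      exact U.left.fromSpecResidueField_apply u' _
  · rintro ⟨l, rfl, rfl⟩
    show AlgSt.Points.ofChart p ((h ≫ p₁).left (g l)) = AlgSt.Points.ofChart p ((h ≫ p₂).left (g l))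
    have e := h1 (g l)
    obtain ⟨c, hc⟩ := AlgSt.Points.mk_surjective (AlgSt.Points.ofChart (yFun B) (g l))
    rw [← hc] at e
    have e₁ := congrArg (AlgSt.Points.map (FibCat.fpFst (FibCat.toSelf X) (FibCat.toSelf X))) e
    have e₂ := congrArg (AlgSt.Points.map (FibCat.fpSnd (FibCat.toSelf X) (FibCat.toSelf X))) e
    have k₁ := ofChart_overMap_comp p₁ p (h.left (g l))
    have k₂ := ofChart_overMap_comp p₂ p (h.left (g l))
    exact k₁.symm.trans (e₁.trans (e₂.symm.trans k₂))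

theorem exists_spectral_nhd (hA : AlgSt.HasAtlas (AlgSp.LocP @Smooth) X)
    (hΔ : AlgSt.RepByAlgSpWith AlgSp.IsQuasiCompactMor (FibCat.diag (FibCat.toSelf X))) (x : AlgSt.Points X) :
    ∃ W : Set (AlgSt.Points X), IsOpen W ∧ x ∈ W ∧ SpectralSpace ↥W := by
  obtain ⟨U, p, hp, hps⟩ := id hA
  haveI : FibCat.IsFibGrpd (FibCat.overCat U).p := isFibGrpd_overCat U
  obtain ⟨u, rfl⟩ := surjective_ofChart (Y := X) hps x
  obtain ⟨S₀, hS₀, huS, -⟩ := exists_isAffineOpen_mem_and_subset (X := S) (x := U.hom u) (U := ⊤) trivial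
  obtain ⟨V, hV, huV, hVS⟩ := exists_isAffineOpen_mem_and_subset (X := U.left) (x := u) (U := U.hom ⁻¹ᵁ S₀) huS
  let U' : Over S := Over.mk (V.ι ≫ U.hom)
  let c : U' ⟶ U := Over.homMk V.ι rfl
  haveI : IsAffine U'.left := hV
  haveI : IsAffine (S₀ : Scheme.{u}) := hS₀
  haveI : IsAffine (V : Scheme.{u}) := hV
  have hrange : Set.range (V.ι ≫ U.hom) ⊆ Set.range S₀.ι := by
    rintro _ ⟨v, rfl⟩
    rw [Scheme.Opens.range_ι]
    exact hVS v.2
  let k : (V : Scheme.{u}) ⟶ S₀ := IsOpenImmersion.lift S₀.ι (V.ι ≫ U.hom) hrange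
  have hk : k ≫ S₀.ι = V.ι ≫ U.hom := IsOpenImmersion.lift_fac _ _ _
  haveI : CompactSpace ↥(pullback U'.hom U'.hom) := by
    let m : pullback k k ⟶ pullback (V.ι ≫ U.hom) (V.ι ≫ U.hom) :=
      pullback.lift (pullback.fst k k) (pullback.snd k k) (by rw [← hk, pullback.condition_assoc])
    let n : pullback (V.ι ≫ U.hom) (V.ι ≫ U.hom) ⟶ pullback k k :=
      pullback.lift (pullback.fst _ _) (pullback.snd _ _) (by
        rw [← cancel_mono S₀.ι, Category.assoc, Category.assoc, hk, pullback.condition])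
    have hnm : n ≫ m = 𝟙 _ := pullback.hom_ext
      (by rw [Category.assoc, Category.id_comp]; simp only [m]; rw [pullback.lift_fst]; exact pullback.lift_fst _ _ _)
      (by rw [Category.assoc, Category.id_comp]; simp only [m]; rw [pullback.lift_snd]; exact pullback.lift_snd _ _ _)
    exact Function.Surjective.compactSpace m.continuous (f := m)
      (fun z => ⟨n z, by rw [← Scheme.Hom.comp_apply, hnm]; rfl⟩)
  have hs := smooth_overMap_comp c (inferInstanceAs (Smooth V.ι)) hp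
  exact ⟨_, (isOpenMap_ofChart (smooth_flat_lfp hs).1 (smooth_flat_lfp hs).2).isOpen_range,
    ⟨⟨u, huV⟩, ofChart_overMap_comp c p _⟩, spectralSpace_range hA hΔ hs⟩

end Groth.Agent.H9St
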