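import Groth.Agent.Lib.H9StDiag
import Groth.Agent.Lib.H9StSpectral
import Groth.Agent.Lib.AlgSpDiag
/-! Representability of diagonals, sections, graphs and comparison maps of stacks. -/

set_option autoImplicit false
set_option linter.style.haveILetI false
set_option linter.unusedVariables false
set_option linter.unusedSectionVars false
set_option backward.isDefEq.respectTransparency.types false

universe u

open CategoryTheory CategoryTheory.Limits AlgebraicGeometry Opposite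

noncomputable section

namespace Groth.Agent.H9St

open H9Diag

variable {S : Scheme.{u}} {X Y Z W T : AlgSt.Cat S}
  [hX : FibCat.IsFibGrpd X.p] [hY : FibCat.IsFibGrpd Y.p] [hZ : FibCat.IsFibGrpd Z.p]
  [hW : FibCat.IsFibGrpd W.p] [hT : FibCat.IsFibGrpd T.p]
variable {P : MorphismProperty (AlgSp.Sp S)}

theorem repByAlgSp_overCat (U : Over S) : AlgSt.RepByAlgSp (FibCat.overCat U) := by
  haveI : FibCat.IsFibGrpd (FibCat.overCat U).p := isFibGrpd_overCat U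
  exact repByAlgSp_iff.2 ⟨inferInstance,
    ((AlgSp.isAlgSpaceP_obj_iff _).2 (AlgSp.IsAlgSpace.yon_obj U)).of_iso (clsOverCat U).symm⟩

theorem comp_toSelf (f : X ⥤ᵇ Y) : BasedFunctor.comp f (FibCat.toSelf Y) = FibCat.toSelf X := by
  obtain ⟨F, w⟩ := f
  show BasedFunctor.mk _ _ = BasedFunctor.mk _ _
  congr 1

/-- The comparison map has the properties of the diagonal. -/
theorem repWith_cmp (f : X ⥤ᵇ Z) (g : Y ⥤ᵇ Z) (t : Z ⥤ᵇ T) (h : AlgSt.RepByAlgSpWith P (FibCat.diag t)) :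
    AlgSt.RepByAlgSpWith P (cmp f g t) := by
  haveI : FibCat.IsFibGrpd (FibCat.fp f g).p := H9Fib.isFibGrpd_fp _ _
  haveI : FibCat.IsFibGrpd (FibCat.fp t t).p := H9Fib.isFibGrpd_fp _ _
  haveI : FibCat.IsFibGrpd (FibCat.fp (BasedFunctor.comp f t) (BasedFunctor.comp g t)).p := H9Fib.isFibGrpd_fp _ _
  haveI : FibCat.IsFibGrpd (FibCat.fp (pair f g t) (FibCat.diag t)).p := H9Fib.isFibGrpd_fp _ _
  exact (repByAlgSpWith_congr (f := FibCat.fpFst (pair f g t) (FibCat.diag t)) (f' := cmp f g t) (cmpEquiv f g t)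
    (BasedFunctor.id _) (isEquivOver_cmpEquiv f g t) (H9Fib.isEquivOver_id _) (Iso.refl _)).1
      (repByAlgSpWith_fpFst _ _ h)

/-- The diagonal of a base change. -/
theorem repWith_diag_fpFst (g : Y ⥤ᵇ Z) (f : X ⥤ᵇ Z) (h : AlgSt.RepByAlgSpWith P (FibCat.diag f)) :
    AlgSt.RepByAlgSpWith P (FibCat.diag (FibCat.fpFst g f)) := by
  haveI : FibCat.IsFibGrpd (FibCat.fp g f).p := H9Fib.isFibGrpd_fp _ _
  haveI : FibCat.IsFibGrpd (FibCat.fp f f).p := H9Fib.isFibGrpd_fp _ _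
  haveI : FibCat.IsFibGrpd (FibCat.fp (FibCat.fpFst g f) (FibCat.fpFst g f)).p := H9Fib.isFibGrpd_fp _ _
  haveI : FibCat.IsFibGrpd (FibCat.fp (sqPair g f) (FibCat.diag f)).p := H9Fib.isFibGrpd_fp _ _
  exact (repByAlgSpWith_congr (f := FibCat.fpFst (sqPair g f) (FibCat.diag f)) (f' := FibCat.diag (FibCat.fpFst g f))
    (dgEquiv g f) (BasedFunctor.id _) (isEquivOver_dgEquiv g f) (H9Fib.isEquivOver_id _) (Iso.refl _)).1
      (repByAlgSpWith_fpFst _ _ h)

/-- Cancellation. -/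
theorem rep1_of_comp (f : X ⥤ᵇ Y) (g : Y ⥤ᵇ Z) (hgf : AlgSt.RepByAlgSp1 (BasedFunctor.comp f g))
    (hΔ : AlgSt.RepByAlgSp1 (FibCat.diag g)) : AlgSt.RepByAlgSp1 f := by
  intro U y
  haveI : FibCat.IsFibGrpd (FibCat.overCat U).p := isFibGrpd_overCat U
  haveI : FibCat.IsFibGrpd (FibCat.fp (BasedFunctor.comp y g) (BasedFunctor.comp f g)).p := H9Fib.isFibGrpd_fp _ _
  obtain ⟨e, he⟩ := isEquivOver_symm (isEquivOver_cmpEquiv y f g)
  exact repByAlgSp_congr he (repByAlgSp_fp hΔ (hgf U (BasedFunctor.comp y g)) (pair y f g))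

/-- The diagonal of a composite, up to the comparison. -/
theorem repWith_diag_comp_iff (f : X ⥤ᵇ Y) (g : Y ⥤ᵇ Z) :
    AlgSt.RepByAlgSpWith P (BasedFunctor.comp (FibCat.diag f) (cmp f f g)) ↔
      AlgSt.RepByAlgSpWith P (FibCat.diag (BasedFunctor.comp f g)) :=
  repByAlgSpWith_congr (BasedFunctor.id _) (BasedFunctor.id _) (H9Fib.isEquivOver_id _) (H9Fib.isEquivOver_id _)
    (diagCompIso f g).symm

/-- The point of `W ×_U W` attached to a point of `X ×_Z X`. -/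
def sAt (f : X ⥤ᵇ Z) {U : Over S} (y : FibCat.overCat U ⥤ᵇ FibCat.fp f f) :
    FibCat.overCat U ⥤ᵇ FibCat.fp (FibCat.fpFst (BasedFunctor.comp (BasedFunctor.comp y (FibCat.fpFst f f)) f) f)
      (FibCat.fpFst (BasedFunctor.comp (BasedFunctor.comp y (FibCat.fpFst f f)) f) f) :=
  FibCat.fpLift
    (FibCat.fpLift (BasedFunctor.id _) (BasedFunctor.comp y (FibCat.fpFst f f))
      (Iso.refl (BasedFunctor.comp (BasedFunctor.comp y (FibCat.fpFst f f)) f)))
    (FibCat.fpLift (BasedFunctor.id _) (BasedFunctor.comp y (FibCat.fpSnd f f))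
      (H9Fib.wLeft y (FibCat.fpIso f f)))
    (Iso.refl _)

/-- The attached point lies over the given one. -/
def sAtIso (f : X ⥤ᵇ Z) {U : Over S} (y : FibCat.overCat U ⥤ᵇ FibCat.fp f f) :
    y ≅ BasedFunctor.comp (sAt f y)
      (sqPair (BasedFunctor.comp (BasedFunctor.comp y (FibCat.fpFst f f)) f) f) :=
  BasedNatIso.mkNatIso (NatIso.ofComponents (fun a => (FibCat.fpProp f f).isoMk
      (CategoricalPullback.mkIso (Iso.refl _) (Iso.refl _) (by
        show f.map (𝟙 _) ≫ (𝟙 _ ≫ (BasedFunctor.comp (BasedFunctor.comp y (FibCat.fpFst f f)) f).map (𝟙 a) ≫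
            (y.obj a).obj.iso.hom) = (y.obj a).obj.iso.hom ≫ f.map (𝟙 _)
        erw [f.toFunctor.map_id, f.toFunctor.map_id, Category.id_comp, Category.id_comp,
          (BasedFunctor.comp (BasedFunctor.comp y (FibCat.fpFst f f)) f).toFunctor.map_id, Category.comp_id, Category.id_comp])))
    (fun {a b} m => ObjectProperty.hom_ext _ (CategoricalPullback.hom_ext
      ((Category.comp_id _).trans (Category.id_comp _).symm) ((Category.comp_id _).trans (Category.id_comp _).symm))))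
    fun a => by
      refine IsHomLift.of_fac' _ _ _ (y.w_obj a) (y.w_obj a) ?_
      show X.p.map (𝟙 _) = _
      simp; rfl

/-- A property of the diagonal can be tested after base change to schemes. -/
theorem repWith_diag_of_forall {f : X ⥤ᵇ Z}
    (h : ∀ (U : Over S) (y : FibCat.overCat U ⥤ᵇ Z), AlgSt.RepByAlgSpWith P (FibCat.diag (FibCat.fpFst y f))) :
    AlgSt.RepByAlgSpWith P (FibCat.diag f) := by
  intro U y
  haveI hU : FibCat.IsFibGrpd (FibCat.overCat U).p := isFibGrpd_overCat U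
  let y₀ := BasedFunctor.comp (BasedFunctor.comp y (FibCat.fpFst f f)) f
  let π := FibCat.fpFst y₀ f
  let q := sqPair y₀ f
  let s := sAt f y
  haveI : FibCat.IsFibGrpd (FibCat.fp y₀ f).p := H9Fib.isFibGrpd_fp _ _
  haveI : FibCat.IsFibGrpd (FibCat.fp f f).p := H9Fib.isFibGrpd_fp _ _
  haveI : FibCat.IsFibGrpd (FibCat.fp π π).p := H9Fib.isFibGrpd_fp _ _
  haveI : FibCat.IsFibGrpd (FibCat.fp q (FibCat.diag f)).p := H9Fib.isFibGrpd_fp _ _
  have h1 : AlgSt.RepByAlgSpWith P (FibCat.fpFst q (FibCat.diag f)) :=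
    (repByAlgSpWith_congr (f := FibCat.fpFst q (FibCat.diag f)) (f' := FibCat.diag π)
      (dgEquiv y₀ f) (BasedFunctor.id _) (isEquivOver_dgEquiv y₀ f) (H9Fib.isEquivOver_id _) (Iso.refl _)).2 (h U y₀)
  have hp := repByAlgSpWith_transport (f := FibCat.diag f) (f' := FibCat.fpFst q (FibCat.diag f))
    (y := BasedFunctor.comp s q) (y' := s) (pasteFun s q (FibCat.diag f)) (isEquivOver_paste s q (FibCat.diag f)) rfl
    (h1 U s)
  let Φ := fpCongr (g := y) (f := FibCat.diag f) (g' := BasedFunctor.comp s q) (f' := FibCat.diag f)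
    (BasedFunctor.id (FibCat.overCat U)) (BasedFunctor.id X) (BasedFunctor.id _) (sAtIso f y).symm (Iso.refl _)
  exact repByAlgSpWith_transport Φ (isEquivOver_fpCongr _ _ (H9Fib.isEquivOver_id _) (H9Fib.isEquivOver_id _)
    (H9Fib.isEquivOver_id _)) rfl hp

/-- Morphisms of setoid fibred categories given by algebraic spaces. -/
theorem repWith_of_map (h1 : AlgSt.RepByAlgSp X) (h2 : AlgSt.RepByAlgSp Y) (f : X ⥤ᵇ Y) [P.RespectsIso]
    (hP : ∀ (hs : Presheaf.IsSheaf (AlgSp.J S) (clsPsh X)) (hs' : Presheaf.IsSheaf (AlgSp.J S) (clsPsh Y))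
      (U : Over S) (b : (AlgSp.yon S).obj U ⟶ (⟨clsPsh Y, hs'⟩ : AlgSp.Sp S)),
      AlgSp.IsAlgSpace (⟨clsPsh X, hs⟩ : AlgSp.Sp S) → AlgSp.IsAlgSpace (⟨clsPsh Y, hs'⟩ : AlgSp.Sp S) →
      P (pullback.snd (ObjectProperty.homMk (clsMap f) :
        (⟨clsPsh X, hs⟩ : AlgSp.Sp S) ⟶ (⟨clsPsh Y, hs'⟩ : AlgSp.Sp S)) b)) :
    AlgSt.RepByAlgSpWith P f := by
  refine (repByAlgSpWith_iff f).2 fun U y => ?_
  haveI hU : FibCat.IsFibGrpd (FibCat.overCat U).p := isFibGrpd_overCat U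
  obtain ⟨dX, sX, aX⟩ := repByAlgSp_iff.1 h1
  obtain ⟨dY, sY, aY⟩ := repByAlgSp_iff.1 h2
  obtain ⟨dF, sF, aF⟩ := repByAlgSp_iff.1 (repByAlgSp1_of_repByAlgSp h1 h2 f U y)
  refine ⟨dF, sF, aF, ?_⟩
  let a : (⟨clsPsh X, sX⟩ : AlgSp.Sp S) ⟶ (⟨clsPsh Y, sY⟩ : AlgSp.Sp S) := ObjectProperty.homMk (clsMap f)
  let b : (AlgSp.yon S).obj U ⟶ (⟨clsPsh Y, sY⟩ : AlgSp.Sp S) := ObjectProperty.homMk ((clsOverCat U).inv ≫ clsMap y)
  have sqS := (IsPullback.of_hasPullback a b).map (ASp.toP S)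
  have sq0 : IsPullback (clsMap (FibCat.fpSnd y f)) (projU y f) (clsMap f) ((clsOverCat U).inv ≫ clsMap y) :=
    (isPullback_fp y f).flip.of_iso (Iso.refl _) (Iso.refl _) (clsOverCat U) (Iso.refl _) (by simp) (by simp [projU])
      (by simp) (by simp)
  let i : (⟨clsPsh (FibCat.fp y f), sF⟩ : AlgSp.Sp S) ≅ pullback a b :=
    (fullyFaithfulSheafToPresheaf (AlgSp.J S) (Type (u + 1))).preimageIso
      (X := (⟨clsPsh (FibCat.fp y f), sF⟩ : AlgSp.Sp S)) (Y := pullback a b) (sq0.isoIsPullback _ _ sqS)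
  have e : (ObjectProperty.homMk (projU y f) :
      (⟨clsPsh (FibCat.fp y f), sF⟩ : AlgSp.Sp S) ⟶ (AlgSp.yon S).obj U) = i.hom ≫ pullback.snd a b :=
    ObjectProperty.hom_ext _ (sq0.isoIsPullback_hom_snd _ _ sqS).symm
  rw [e, P.cancel_left_of_respectsIso]
  exact hP sX sY U b aX aY

/-- The diagonal of a morphism of setoid fibred categories given by algebraic spaces. -/
theorem monoLFT_clsMap_diag (h1 : AlgSt.RepByAlgSp X) (h2 : AlgSt.RepByAlgSp Y) (f : X ⥤ᵇ Y)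
    (hs : Presheaf.IsSheaf (AlgSp.J S) (clsPsh X)) (hs' : Presheaf.IsSheaf (AlgSp.J S) (clsPsh (FibCat.fp f f))) :
    ASp.MonoLFT (ObjectProperty.homMk (clsMap (FibCat.diag f)) :
      (⟨clsPsh X, hs⟩ : AlgSp.Sp S) ⟶ (⟨clsPsh (FibCat.fp f f), hs'⟩ : AlgSp.Sp S)) := by
  obtain ⟨dX, sX, aX⟩ := repByAlgSp_iff.1 h1
  obtain ⟨dY, sY, aY⟩ := repByAlgSp_iff.1 h2
  let A : AlgSp.Sp S := ⟨clsPsh X, sX⟩
  let a : A ⟶ (⟨clsPsh Y, sY⟩ : AlgSp.Sp S) := ObjectProperty.homMk (clsMap f)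
  let δ : A ⟶ (⟨clsPsh (FibCat.fp f f), hs'⟩ : AlgSp.Sp S) := ObjectProperty.homMk (clsMap (FibCat.diag f))
  let p₁ : (⟨clsPsh (FibCat.fp f f), hs'⟩ : AlgSp.Sp S) ⟶ A := ObjectProperty.homMk (clsMap (FibCat.fpFst f f))
  let p₂ : (⟨clsPsh (FibCat.fp f f), hs'⟩ : AlgSp.Sp S) ⟶ A := ObjectProperty.homMk (clsMap (FibCat.fpSnd f f))
  have sq : IsPullback p₁ p₂ a a := IsPullback.of_map (ASp.toP S)
    (ObjectProperty.hom_ext _ (isPullback_fp f f).w) (isPullback_fp f f)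
  have e₁ : δ ≫ p₁ = 𝟙 A := ObjectProperty.hom_ext _
    ((clsMap_comp (FibCat.diag f) (FibCat.fpFst f f)).symm.trans clsMap_id)
  have e₂ : δ ≫ p₂ = 𝟙 A := ObjectProperty.hom_ext _
    ((clsMap_comp (FibCat.diag f) (FibCat.fpSnd f f)).symm.trans clsMap_id)
  refine ASp.repWith_baseChange (g := sq.isoPullback.hom) (g' := 𝟙 A) (f := pullback.diagonal a) ?_
    (ASp.monoLFT_diagonal aX a)
  refine IsPullback.of_horiz_isIso ⟨?_⟩
  apply pullback.hom_ext
  · rw [Category.id_comp, pullback.diagonal_fst, Category.assoc, sq.isoPullback_hom_fst]; exact e₁.symm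
  · rw [Category.id_comp, pullback.diagonal_snd, Category.assoc, sq.isoPullback_hom_snd]; exact e₂.symm

/-- Diagonals of representable morphisms: criterion. -/
theorem repWith_diag_of_rep1 [P.RespectsIso] {f : X ⥤ᵇ Y} (hf : AlgSt.RepByAlgSp1 f)
    (hP : ∀ (F : AlgSp.Sp S) (U : Over S) (m : F ⟶ (AlgSp.yon S).obj U), AlgSp.IsAlgSpace F → ASp.MonoLFT m → P m) :
    AlgSt.RepByAlgSpWith P (FibCat.diag f) := by
  refine repWith_diag_of_forall fun U y => ?_
  haveI hU : FibCat.IsFibGrpd (FibCat.overCat U).p := isFibGrpd_overCat U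
  haveI : FibCat.IsFibGrpd (FibCat.fp y f).p := H9Fib.isFibGrpd_fp _ _
  let π := FibCat.fpFst y f
  haveI : FibCat.IsFibGrpd (FibCat.fp π π).p := H9Fib.isFibGrpd_fp _ _
  have hUr : AlgSt.RepByAlgSp (FibCat.overCat U) := repByAlgSp_overCat U
  have hw : AlgSt.RepByAlgSp (FibCat.fp y f) := hf U y
  have hww : AlgSt.RepByAlgSp (FibCat.fp π π) := repByAlgSp_fp (repByAlgSp1_of_repByAlgSp hw hUr π) hw π
  refine repWith_of_map hw hww (FibCat.diag π) fun hs hs' V b hA hB => hP _ V _ ?_ ?_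
  · exact ASp.isAlgSpace_pullback _ b hA (AlgSp.IsAlgSpace.yon_obj V) hB
  · exact ASp.repWith_baseChange (IsPullback.of_hasPullback _ b) (monoLFT_clsMap_diag hw hUr π hs hs')

/-- The diagonal of a representable morphism is representable. -/
theorem rep1_diag_of_rep1 {f : X ⥤ᵇ Y} (hf : AlgSt.RepByAlgSp1 f) : AlgSt.RepByAlgSp1 (FibCat.diag f) :=
  (repByAlgSp1_iff_with _).2 (repWith_diag_of_rep1 hf fun _ _ _ _ _ => trivial)

/-- The diagonal of a morphism is representable when the absolute diagonals are. -/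
theorem rep1_diag (f : X ⥤ᵇ Y) (hΔX : AlgSt.RepByAlgSp1 (FibCat.diag (FibCat.toSelf X)))
    (hΔY : AlgSt.RepByAlgSp1 (FibCat.diag (FibCat.toSelf Y))) : AlgSt.RepByAlgSp1 (FibCat.diag f) := by
  haveI : FibCat.IsFibGrpd (FibCat.selfOver (Over S)).p := isFibGrpd_selfOver
  refine rep1_of_comp _ (cmp f f (FibCat.toSelf Y)) ?_
    (rep1_diag_of_rep1 ((repByAlgSp1_iff_with _).2 (repWith_cmp f f (FibCat.toSelf Y) ((repByAlgSp1_iff_with _).1 hΔY))))
  refine (repByAlgSp1_iff_with _).2 ((repWith_diag_comp_iff f (FibCat.toSelf Y)).2 ?_)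
  rw [comp_toSelf]
  exact (repByAlgSp1_iff_with _).1 hΔX

end Groth.Agent.H9St
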