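import Groth.Agent.Lib.H9StClean
/-! Classes on the double of a scheme along an open subscheme, as classes of transition automorphisms. -/

set_option autoImplicit false
set_option linter.style.haveILetI false
set_option linter.unusedVariables false
set_option linter.unusedSectionVars false
set_option backward.isDefEq.respectTransparency.types false

universe u

open CategoryTheory CategoryTheory.Limits AlgebraicGeometry Opposite

noncomputable section

namespace Groth.Agent.H9St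

variable {S : Scheme.{u}}

/-- An open immersion over a base. -/
structure OPair (T : Over S) where
  C : Over S
  W : Over S
  pC : C ⟶ T
  j : W ⟶ C
  open' : IsOpenImmersion j.left

namespace OPair

variable {T : Over S} (P : OPair T)

instance : IsOpenImmersion P.j.left := P.open'

/-- The double. -/
def dbl : Over S := Over.mk (pushout.desc P.C.hom P.C.hom rfl : pushout P.j.left P.j.left ⟶ S)

def inl : P.C ⟶ P.dbl := Over.homMk (pushout.inl P.j.left P.j.left) (pushout.inl_desc _ _ _)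

def inr : P.C ⟶ P.dbl := Over.homMk (pushout.inr P.j.left P.j.left) (pushout.inr_desc _ _ _)

theorem condition : P.j ≫ P.inl = P.j ≫ P.inr := Over.OverMorphism.ext pushout.condition

theorem dbl_hom_ext {V : Over S} {f g : P.dbl ⟶ V} (h1 : P.inl ≫ f = P.inl ≫ g) (h2 : P.inr ≫ f = P.inr ≫ g) :
    f = g :=
  Over.OverMorphism.ext (pushout.hom_ext (congrArg CommaMorphism.left h1) (congrArg CommaMorphism.left h2))

def desc {V : Over S} (f g : P.C ⟶ V) (h : P.j ≫ f = P.j ≫ g) : P.dbl ⟶ V :=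
  Over.homMk (pushout.desc f.left g.left (congrArg CommaMorphism.left h)) (pushout.hom_ext
    ((pushout.inl_desc_assoc _ _ _ _).trans ((Over.w f).trans (pushout.inl_desc _ _ _).symm))
    ((pushout.inr_desc_assoc _ _ _ _).trans ((Over.w g).trans (pushout.inr_desc _ _ _).symm)))

theorem inl_desc {V : Over S} (f g : P.C ⟶ V) (h : P.j ≫ f = P.j ≫ g) : P.inl ≫ P.desc f g h = f :=
  Over.OverMorphism.ext (pushout.inl_desc _ _ _)

theorem inr_desc {V : Over S} (f g : P.C ⟶ V) (h : P.j ≫ f = P.j ≫ g) : P.inr ≫ P.desc f g h = g :=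
  Over.OverMorphism.ext (pushout.inr_desc _ _ _)

/-- The projection of the double to the base. -/
def pZ : P.dbl ⟶ T := P.desc P.pC P.pC rfl

theorem inl_pZ : P.inl ≫ P.pZ = P.pC := P.inl_desc _ _ _

theorem inr_pZ : P.inr ≫ P.pZ = P.pC := P.inr_desc _ _ _

instance isOpenImmersion_inl : IsOpenImmersion P.inl.left :=
  inferInstanceAs (IsOpenImmersion (colimit.ι (span P.j.left P.j.left) WalkingSpan.left))

instance isOpenImmersion_inr : IsOpenImmersion P.inr.left :=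
  inferInstanceAs (IsOpenImmersion (colimit.ι (span P.j.left P.j.left) WalkingSpan.right))

theorem cover (z : ↥P.dbl.left) : z ∈ Set.range P.inl.left ∨ z ∈ Set.range P.inr.left := by
  let j := P.j.left
  obtain ⟨i, xi, hi⟩ := Scheme.IsLocallyDirected.ι_jointly_surjective (span j j) z
  rcases i with _ | _ | _
  · refine Or.inl ⟨j xi, ?_⟩
    show (pushout.inl j j) (j xi) = z
    rw [← Scheme.Hom.comp_apply, ← hi]
    exact congrArg (fun f : P.W.left ⟶ pushout j j => f xi) (colimit.w (span j j) WalkingSpan.Hom.fst)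
  · exact Or.inl ⟨xi, hi⟩
  · exact Or.inr ⟨xi, hi⟩

theorem inl_eq_inr {p q : ↥P.C.left} (h : P.inl.left p = P.inr.left q) : p ∈ Set.range P.j.left ∧ p = q := by
  obtain ⟨k, fi, fk, x, h1, h2⟩ := (Scheme.IsLocallyDirected.ι_eq_ι_iff (span P.j.left P.j.left)
    (i := WalkingSpan.left) (j := WalkingSpan.right)).1 h
  rcases k with _ | _ | _
  · obtain rfl : fi = WalkingSpan.Hom.fst := Subsingleton.elim _ _
    obtain rfl : fk = WalkingSpan.Hom.snd := Subsingleton.elim _ _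
    exact ⟨⟨x, h1⟩, h1.symm.trans h2⟩
  · exact nomatch (show WidePushoutShape.Hom _ _ from fk)
  · exact nomatch (show WidePushoutShape.Hom _ _ from fi)

theorem exists_overlap {V : Over S} (k l : V ⟶ P.C) (h : k ≫ P.inl = l ≫ P.inr) :
    ∃ m : V ⟶ P.W, m ≫ P.j = k ∧ m ≫ P.j = l := by
  have hr : Set.range k.left ⊆ Set.range P.j.left := by
    rintro _ ⟨v, rfl⟩
    exact (P.inl_eq_inr (congrArg (fun r : V ⟶ P.dbl => r.left v) h)).1
  let m : V ⟶ P.W := Over.homMk (IsOpenImmersion.lift P.j.left k.left hr) (by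
    rw [← Over.w P.j, IsOpenImmersion.lift_fac_assoc]; exact Over.w k)
  have hm : m ≫ P.j = k := Over.OverMorphism.ext (IsOpenImmersion.lift_fac P.j.left k.left hr)
  refine ⟨m, hm, ?_⟩
  haveI : Mono P.inr := ⟨fun a b e => Over.OverMorphism.ext ((cancel_mono P.inr.left).1
    (congrArg CommaMorphism.left e))⟩
  rw [← cancel_mono P.inr, ← h, ← hm, Category.assoc, Category.assoc, P.condition]

instance mono_inl : Mono P.inl :=
  ⟨fun a b e => Over.OverMorphism.ext ((cancel_mono P.inl.left).1 (congrArg CommaMorphism.left e))⟩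

instance mono_inr : Mono P.inr :=
  ⟨fun a b e => Over.OverMorphism.ext ((cancel_mono P.inr.left).1 (congrArg CommaMorphism.left e))⟩

instance mono_j : Mono P.j :=
  ⟨fun a b e => Over.OverMorphism.ext ((cancel_mono P.j.left).1 (congrArg CommaMorphism.left e))⟩

/-- The object of the slice of the base given by the overlap. -/
abbrev oW : Over T := Over.mk (P.j ≫ P.pC)

/-- The object of the slice of the base given by one piece. -/
abbrev oC : Over T := Over.mk P.pC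

/-- The inclusion of the overlap. -/
abbrev oj : P.oW ⟶ P.oC := Over.homMk P.j rfl

/-- The inclusion of the first piece. -/
abbrev cl : Over.mk (P.j ≫ P.inl) ⟶ Over.mk P.inl := Over.homMk P.j rfl

/-- The inclusion of the overlap in the second piece. -/
abbrev cr : Over.mk (P.j ≫ P.inl) ⟶ Over.mk P.inr := Over.homMk P.j P.condition.symm

end OPair

variable {Xc : AlgSt.Cat S} [hX : FibCat.IsFibGrpd Xc.p] {T : Over S} (M : FibCat.overCat T ⥤ᵇ Xc)

section PbTo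

variable {V' V Z : Over S} (x : Xc.p.Fiber Z)

/-- The morphism between pullbacks given by a factorisation. -/
def pbTo {f : V' ⟶ Z} {g : V ⟶ Z} (k : V' ⟶ V) (h : k ≫ g = f) : (pb f x).1 ⟶ (pb g x).1 :=
  (yFun x).map (Over.homMk k h : Over.mk f ⟶ Over.mk g)

theorem pbTo_lift {f : V' ⟶ Z} {g : V ⟶ Z} (k : V' ⟶ V) (h : k ≫ g = f) : Xc.p.IsHomLift k (pbTo x k h) :=
  (yFun_map x (Over.homMk k h : Over.mk f ⟶ Over.mk g)).1

theorem pbTo_pbMap {f : V' ⟶ Z} {g : V ⟶ Z} (k : V' ⟶ V) (h : k ≫ g = f) : pbTo x k h ≫ pbMap g x = pbMap f x :=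
  (yFun_map x (Over.homMk k h : Over.mk f ⟶ Over.mk g)).2

theorem pbTo_comp {V'' : Over S} {e : V'' ⟶ Z} {f : V' ⟶ Z} {g : V ⟶ Z} (k : V'' ⟶ V') (hk : k ≫ f = e)
    (l : V' ⟶ V) (hl : l ≫ g = f) :
    pbTo x (k ≫ l) (by rw [Category.assoc, hl, hk]) = pbTo x k hk ≫ pbTo x l hl :=
  (congrArg (fun t => (yFun x).map t) (Over.OverMorphism.ext rfl : (Over.homMk (k ≫ l) (by
      show (k ≫ l) ≫ g = e
      rw [Category.assoc, hl, hk]) : Over.mk e ⟶ Over.mk g) =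
    (Over.homMk k hk : Over.mk e ⟶ Over.mk f) ≫ (Over.homMk l hl : Over.mk f ⟶ Over.mk g))).trans
    ((yFun x).map_comp (Over.homMk k hk : Over.mk e ⟶ Over.mk f) (Over.homMk l hl : Over.mk f ⟶ Over.mk g))

/-- A component of a morphism of pullback functors. -/
def appAt {y : Xc.p.Fiber Z} (τ : yFun x ⟶ yFun y) (f : V ⟶ Z) : (pb f x).1 ⟶ (pb f y).1 :=
  τ.toNatTrans.app (Over.mk f)

theorem appAt_natural {y : Xc.p.Fiber Z} (τ : yFun x ⟶ yFun y) {f : V' ⟶ Z} {g : V ⟶ Z} (k : V' ⟶ V) (h : k ≫ g = f) :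
    pbTo x k h ≫ appAt x τ g = appAt x τ f ≫ pbTo y k h :=
  τ.toNatTrans.naturality (Over.homMk k h : Over.mk f ⟶ Over.mk g)

end PbTo

/-- `y` is trivialised on the two copies of the double, with transition automorphism `u`. -/
def IsTrans (P : OPair T) (y : Xc.p.Fiber P.dbl) (u : VAut M P.oW) : Prop :=
  ∃ (ea : (pb P.inl y).1 ⟶ (fn M).obj P.oC) (eb : (pb P.inr y).1 ⟶ (fn M).obj P.oC)
    (χ : (pb (P.j ≫ P.inl) y).1 ⟶ (fn M).obj P.oW),
    Xc.p.IsHomLift (𝟙 P.C) ea ∧ Xc.p.IsHomLift (𝟙 P.C) eb ∧ Xc.p.IsHomLift (𝟙 P.W) χ ∧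
      pbTo y P.j (rfl : P.j ≫ P.inl = _) ≫ ea = χ ≫ (fn M).map P.oj ∧ pbTo y P.j P.condition.symm ≫ eb = χ ≫ u.1 ≫ (fn M).map P.oj

variable (hs : Stk.IsStack (QuotSh.J Scheme.fppfPrecoverage S) Xc)

theorem comp_lift {a b c : Xc.obj} {V W : Over S} {f : V ⟶ W} {φ : a ⟶ b} {ψ : b ⟶ c}
    (h : Xc.p.IsHomLift f φ) (h' : Xc.p.IsHomLift (𝟙 W) ψ) : Xc.p.IsHomLift f (φ ≫ ψ) :=
  lift_congr (Category.comp_id f) (@IsHomLift.comp _ _ _ _ Xc.p _ _ _ _ _ _ f (𝟙 W) φ ψ h h')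

theorem comp_lift' {a b c : Xc.obj} {V W : Over S} {f : V ⟶ W} {φ : a ⟶ b} {ψ : b ⟶ c}
    (h : Xc.p.IsHomLift (𝟙 V) φ) (h' : Xc.p.IsHomLift f ψ) : Xc.p.IsHomLift f (φ ≫ ψ) :=
  lift_congr (Category.id_comp f) (@IsHomLift.comp _ _ _ _ Xc.p _ _ _ _ _ _ (𝟙 V) f φ ψ h h')

/-- Locally trivial classes have transition automorphisms. -/
theorem exists_isTrans_of_local (P : OPair T) (y : Xc.p.Fiber P.dbl)
    (ha : ∃ e : (pb P.inl y).1 ⟶ (fn M).obj P.oC, Xc.p.IsHomLift (𝟙 P.C) e)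
    (hb : ∃ e : (pb P.inr y).1 ⟶ (fn M).obj P.oC, Xc.p.IsHomLift (𝟙 P.C) e) : ∃ u, IsTrans M P y u := by
  obtain ⟨ea, hea⟩ := ha
  obtain ⟨eb, heb⟩ := hb
  have l1 : Xc.p.IsHomLift (𝟙 P.W ≫ P.j) (pbTo y P.j (rfl : P.j ≫ P.inl = _) ≫ ea) :=
    lift_congr (Category.id_comp P.j).symm (comp_lift (pbTo_lift y P.j rfl) hea)
  obtain ⟨χ, ⟨hχ, hχ'⟩, -⟩ := @existsUnique_desc _ _ Xc _ _ _ _ _ _ _ (𝟙 P.W) P.j ((fn M).map P.oj)
    (lift_overMap M P.oj) _ l1
  haveI := @isIso_of_lift_id _ _ Xc _ P.W _ _ χ hχ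
  have hχi : Xc.p.IsHomLift (𝟙 P.W) (inv χ) := @IsHomLift.lift_id_inv_isIso _ _ _ _ Xc.p P.W _ _ χ _ hχ
  have l2 : Xc.p.IsHomLift (𝟙 P.W ≫ P.j) (inv χ ≫ pbTo y P.j P.condition.symm ≫ eb) :=
    lift_congr (Category.id_comp P.j).symm (comp_lift' hχi (comp_lift (pbTo_lift y P.j P.condition.symm) heb))
  obtain ⟨u, ⟨hu, hu'⟩, -⟩ := @existsUnique_desc _ _ Xc _ _ _ _ _ _ _ (𝟙 P.W) P.j ((fn M).map P.oj)
    (lift_overMap M P.oj) _ l2
  refine ⟨⟨u, hu⟩, ea, eb, χ, hea, heb, hχ, hχ'.symm, ?_⟩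
  rw [hu', IsIso.hom_inv_id_assoc]

include hs in
theorem exists_isTrans (P : OPair T) (u : VAut M P.oW) : ∃ y, IsTrans M P y u := by
  by_cases hh : ∃ k : P.C ⟶ P.C, k ≫ P.inl = P.inr
  · obtain ⟨k, hk⟩ := hh
    have hsur : Function.Surjective P.j.left := fun p => by
      obtain ⟨⟨w, hw⟩, hkp⟩ := P.inl_eq_inr (p := k.left p) (q := p) (congrArg (fun r : P.C ⟶ P.dbl => r.left p) hk)
      exact ⟨w, hw.trans hkp⟩
    haveI : IsIso P.j.left := by
      haveI : Epi P.j.left.base := (TopCat.epi_iff_surjective _).2 hsur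
      exact IsOpenImmersion.isIso P.j.left
    haveI : IsIso P.j := (Over.isoMk (asIso P.j.left) (Over.w P.j)).isIso_hom
    haveI : IsIso P.oj := ⟨⟨Over.homMk (inv P.j) (by simp), Over.OverMorphism.ext (IsIso.hom_inv_id P.j),
      Over.OverMorphism.ext (IsIso.inv_hom_id P.j)⟩⟩
    obtain ⟨β, hβ⟩ := (res_bijective M (asIso P.oj)).2 u
    let y : Xc.p.Fiber P.dbl := ⟨(fn M).obj (Over.mk P.pZ), M.w_obj _⟩
    let ka : P.oC ⟶ Over.mk P.pZ := Over.homMk P.inl P.inl_pZ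
    let kb : P.oC ⟶ Over.mk P.pZ := Over.homMk P.inr P.inr_pZ
    let kw : P.oW ⟶ Over.mk P.pZ := Over.homMk (P.j ≫ P.inl) (by
      show (P.j ≫ P.inl) ≫ P.pZ = P.j ≫ P.pC
      rw [Category.assoc, P.inl_pZ])
    have mk : ∀ {V : Over S} (f : V ⟶ P.dbl) (a : Over T) (ha : a.left = V) (k : a ⟶ Over.mk P.pZ)
        (hk : eqToHom ha.symm ≫ k.left = f), ∃ e : (pb f y).1 ⟶ (fn M).obj a,
          Xc.p.IsHomLift (𝟙 V) e ∧ e ≫ (fn M).map k = pbMap f y := by
      intro V f a ha k hk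
      subst ha
      simp only [eqToHom_refl, Category.id_comp] at hk
      subst hk
      have l : Xc.p.IsHomLift (𝟙 a.left ≫ k.left) (pbMap k.left y) := lift_congr (Category.id_comp _).symm inferInstance
      exact (@existsUnique_desc _ _ Xc _ _ _ _ _ _ _ (𝟙 a.left) k.left ((fn M).map k) (lift_overMap M k) _ l).exists
    obtain ⟨ea, hea, hea'⟩ := mk P.inl P.oC rfl ka (Category.id_comp _)
    obtain ⟨eb, heb, heb'⟩ := mk P.inr P.oC rfl kb (Category.id_comp _)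
    obtain ⟨χ, hχ, hχ'⟩ := mk (P.j ≫ P.inl) P.oW rfl kw (Category.id_comp _)
    refine ⟨y, ea, eb ≫ β.1, χ, hea, comp_lift heb β.2, hχ, ?_, ?_⟩
    · refine @hom_ext _ _ Xc _ _ _ _ _ _ P.j _ _ (comp_lift (pbTo_lift y P.j rfl) hea)
        (comp_lift' hχ (lift_overMap M P.oj)) ((fn M).map ka) ?_
      rw [Category.assoc, Category.assoc, hea', ← (fn M).map_comp,
        show P.oj ≫ ka = kw from Over.OverMorphism.ext rfl, hχ']
      exact (pbTo_pbMap y P.j rfl)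
    · have h0 : pbTo y P.j P.condition.symm ≫ eb = χ ≫ (fn M).map P.oj := by
        refine @hom_ext _ _ Xc _ _ _ _ _ _ P.j _ _ (comp_lift (pbTo_lift y P.j P.condition.symm) heb)
          (comp_lift' hχ (lift_overMap M P.oj)) ((fn M).map kb) ?_
        rw [Category.assoc, Category.assoc, heb', ← (fn M).map_comp,
          show P.oj ≫ kb = kw from Over.OverMorphism.ext P.condition.symm, hχ']
        exact (pbTo_pbMap y P.j P.condition.symm)
      rw [← Category.assoc, h0, Category.assoc, ← hβ]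
      exact congrArg (χ ≫ ·) (res_spec M _ β).symm
  let SA : Sieve P.dbl := Sieve.generate (Presieve.singleton P.inl)
  let SB : Sieve P.dbl := Sieve.generate (Presieve.singleton P.inr)
  let R : Sieve P.dbl := SA ⊔ SB
  have hR : ∀ {V : Over S} (f : V ⟶ P.dbl), R f → SA f ∨ SB f := fun f h => h
  have hRc : R ∈ QuotSh.J Scheme.fppfPrecoverage S P.dbl := by
    refine ASp.mem_of_openCover (W := fun k : ULift.{u} Bool => P.C) (fun k => if k.down then P.inl else P.inr) ?_ ?_ ?_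
    · rintro ⟨_ | _⟩
      · exact inferInstanceAs (IsOpenImmersion P.inr.left)
      · exact inferInstanceAs (IsOpenImmersion P.inl.left)
    · intro z
      rcases P.cover z with h | h
      · exact ⟨⟨true⟩, h⟩
      · exact ⟨⟨false⟩, h⟩
    · rintro ⟨_ | _⟩
      · exact Or.inr ⟨_, 𝟙 _, P.inr, ⟨⟩, Category.id_comp _⟩
      · exact Or.inl ⟨_, 𝟙 _, P.inl, ⟨⟩, Category.id_comp _⟩
  have hov : ∀ {V : Over S} (f : V ⟶ P.dbl), SA f → SB f → ∃ m : V ⟶ P.W, m ≫ P.j ≫ P.inl = f := by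
    rintro V f ⟨_, k, _, ⟨⟩, rfl⟩ ⟨_, l, _, ⟨⟩, hl⟩
    obtain ⟨m, hm, -⟩ := P.exists_overlap k l hl.symm
    exact ⟨m, by rw [← Category.assoc, hm]⟩
  have hmono : ∀ {V : Over S} (m m' : V ⟶ P.W), m ≫ P.j ≫ P.inl = m' ≫ P.j ≫ P.inl → m = m' :=
    fun m m' h => (cancel_mono (P.j ≫ P.inl)).1 h
  have hwz : P.j ≫ P.pC = (P.j ≫ P.inl) ≫ P.pZ := by rw [Category.assoc, P.inl_pZ]
  let σ : TwData M P.pZ SA SB :=
    { val := fun f hA hB => res M (Over.homMk (hov f hA hB).choose (by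
        show (hov f hA hB).choose ≫ P.j ≫ P.pC = f ≫ P.pZ
        rw [hwz, ← Category.assoc, (hov f hA hB).choose_spec]) : up P.pZ f ⟶ P.oW) u
      nat := by
        intro V' V f g hA hB hA' hB' k h
        rw [← res_comp]; congr 1
        exact Over.OverMorphism.ext (hmono _ _ (by
          simp only [Over.comp_left, Over.homMk_left, Category.assoc]
          rw [(hov g hA' hB').choose_spec, (hov f hA hB).choose_spec, h])) }
  obtain ⟨y, ⟨e⟩⟩ := exists_twist (R := R) hR (hs.2 R hRc) σ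
  have hwA : SA (P.j ≫ P.inl) := ⟨_, P.j, P.inl, ⟨⟩, rfl⟩
  have hwB : SB (P.j ≫ P.inl) := ⟨_, P.j, P.inr, ⟨⟩, P.condition.symm⟩
  have hbA : ¬ SA P.inr := fun ⟨_, k, _, ⟨⟩, hk⟩ => hh ⟨k, hk⟩
  let oa : (Stk.sieveCat R).obj := ⟨Over.mk P.inl, Or.inl ⟨_, 𝟙 _, P.inl, ⟨⟩, Category.id_comp _⟩⟩
  let ob : (Stk.sieveCat R).obj := ⟨Over.mk P.inr, Or.inr ⟨_, 𝟙 _, P.inr, ⟨⟩, Category.id_comp _⟩⟩
  let ow : (Stk.sieveCat R).obj := ⟨Over.mk (P.j ≫ P.inl), Or.inl hwA⟩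
  let iA : up P.pZ P.inl ⟶ P.oC := Over.homMk (𝟙 P.C) ((Category.id_comp _).trans P.inl_pZ.symm)
  let iB : up P.pZ P.inr ⟶ P.oC := Over.homMk (𝟙 P.C) ((Category.id_comp _).trans P.inr_pZ.symm)
  let iW : up P.pZ (P.j ≫ P.inl) ⟶ P.oW := Over.homMk (𝟙 P.W) ((Category.id_comp _).trans hwz)
  let ta : (pb P.inl y).1 ⟶ (fn M).obj (up P.pZ P.inl) := e.hom.toNatTrans.app oa
  let tb : (pb P.inr y).1 ⟶ (fn M).obj (up P.pZ P.inr) := e.hom.toNatTrans.app ob
  let tw : (pb (P.j ≫ P.inl) y).1 ⟶ (fn M).obj (up P.pZ (P.j ≫ P.inl)) := e.hom.toNatTrans.app ow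
  refine ⟨y, ta ≫ (fn M).map iA, tb ≫ (fn M).map iB, tw ≫ (fn M).map iW, comp_lift (e.hom.isHomLift' oa) (lift_overMap M iA),
    comp_lift (e.hom.isHomLift' ob) (lift_overMap M iB), comp_lift (e.hom.isHomLift' ow) (lift_overMap M iW), ?_, ?_⟩
  · have n := e.hom.toNatTrans.naturality (ObjectProperty.homMk P.cl : ow ⟶ oa)
    have hstep : σ.step (P.j ≫ P.inl) P.inl = 1 := dif_neg fun h => h.2.2 ⟨_, 𝟙 _, P.inl, ⟨⟩, Category.id_comp _⟩
    change pbTo y P.j (rfl : P.j ≫ P.inl = _) ≫ ta = tw ≫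
      ((σ.step (P.j ≫ P.inl) P.inl).1 ≫ (fn M).map (upMap P.pZ (P.j ≫ P.inl) P.inl P.j rfl)) at n
    rw [hstep, vaut_one_val, Category.id_comp] at n
    rw [← Category.assoc, n, Category.assoc, Category.assoc, ← (fn M).map_comp, ← (fn M).map_comp]
    congr 2
  · have n := e.hom.toNatTrans.naturality (ObjectProperty.homMk P.cr : ow ⟶ ob)
    have hstep : σ.step (P.j ≫ P.inl) P.inr = res M iW u := by
      rw [show σ.step (P.j ≫ P.inl) P.inr = σ.val _ hwA hwB from dif_pos ⟨hwA, hwB, hbA⟩]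
      show res M _ u = _
      congr 1
      exact Over.OverMorphism.ext (hmono _ _ (by
        simp only [Over.homMk_left]
        rw [(hov _ hwA hwB).choose_spec]
        exact (Category.id_comp _).symm))
    change pbTo y P.j P.condition.symm ≫ tb = tw ≫
      ((σ.step (P.j ≫ P.inl) P.inr).1 ≫ (fn M).map (upMap P.pZ (P.j ≫ P.inl) P.inr P.j P.condition.symm)) at n
    rw [hstep] at n
    rw [← Category.assoc, n, Category.assoc, Category.assoc, Category.assoc, ← (fn M).map_comp]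
    congr 1
    rw [← Category.assoc ((fn M).map iW), ← res_spec, Category.assoc, ← (fn M).map_comp]
    congr 2

theorem vaut_val_injective {a : Over T} {s t : VAut M a} (h : s.1 = t.1) : s = t := Subtype.ext h

/-- The criterion for two classes to be equal. -/
theorem trans_iso_iff (P : OPair T) {y y' : Xc.p.Fiber P.dbl} {u u' : VAut M P.oW}
    (h : IsTrans M P y u) (h' : IsTrans M P y' u') (hs : Stk.IsStack (QuotSh.J Scheme.fppfPrecoverage S) Xc) :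
    Nonempty (y ≅ y') ↔ ∃ α β : VAut M P.oC, res M P.oj α * u' = u * res M P.oj β := by
  obtain ⟨ea, eb, χ, la, lb, lχ, ha, hb⟩ := h
  obtain ⟨ea', eb', χ', la', lb', lχ', ha', hb'⟩ := h'
  haveI := @isIso_of_lift_id _ _ Xc _ P.C _ _ ea la
  haveI := @isIso_of_lift_id _ _ Xc _ P.C _ _ eb lb
  haveI := @isIso_of_lift_id _ _ Xc _ P.W _ _ χ lχ
  haveI := @isIso_of_lift_id _ _ Xc _ P.C _ _ ea' la'
  haveI := @isIso_of_lift_id _ _ Xc _ P.C _ _ eb' lb'
  haveI := @isIso_of_lift_id _ _ Xc _ P.W _ _ χ' lχ'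
  have lai := @IsHomLift.lift_id_inv_isIso _ _ _ _ Xc.p P.C _ _ ea _ la
  have lbi := @IsHomLift.lift_id_inv_isIso _ _ _ _ Xc.p P.C _ _ eb _ lb
  have lai' := @IsHomLift.lift_id_inv_isIso _ _ _ _ Xc.p P.C _ _ ea' _ la'
  have lbi' := @IsHomLift.lift_id_inv_isIso _ _ _ _ Xc.p P.C _ _ eb' _ lb'
  have lχi := @IsHomLift.lift_id_inv_isIso _ _ _ _ Xc.p P.W _ _ χ _ lχ
  constructor
  · rintro ⟨i⟩
    obtain ⟨j⟩ := iso_yFun_of_iso i
    let ja := appAt y j.hom P.inl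
    let jb := appAt y j.hom P.inr
    let jw := appAt y j.hom (P.j ≫ P.inl)
    let α : VAut M P.oC := ⟨inv ea ≫ ja ≫ ea', comp_lift lai (comp_lift (j.hom.isHomLift' (Over.mk P.inl)) la')⟩
    let β : VAut M P.oC := ⟨inv eb ≫ jb ≫ eb', comp_lift lbi (comp_lift (j.hom.isHomLift' (Over.mk P.inr)) lb')⟩
    refine ⟨α, β, ?_⟩
    let w : VAut M P.oW := ⟨inv χ ≫ jw ≫ χ', comp_lift lχi (comp_lift (j.hom.isHomLift' (Over.mk (P.j ≫ P.inl))) lχ')⟩
    have na : pbTo y P.j (rfl : P.j ≫ P.inl = _) ≫ ja = jw ≫ pbTo y' P.j (rfl : P.j ≫ P.inl = _) := appAt_natural y j.hom P.j rfl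
    have nb : pbTo y P.j P.condition.symm ≫ jb = jw ≫ pbTo y' P.j P.condition.symm := appAt_natural y j.hom P.j P.condition.symm
    have h1 : w = res M P.oj α := by
      refine res_unique M _ _ w ((cancel_epi χ).1 ?_)
      show χ ≫ (inv χ ≫ jw ≫ χ') ≫ (fn M).map P.oj = χ ≫ (fn M).map P.oj ≫ inv ea ≫ ja ≫ ea'
      simp only [Category.assoc, IsIso.hom_inv_id_assoc]
      rw [← ha', ← Category.assoc jw, ← na, ← Category.assoc χ, ← ha]
      simp only [Category.assoc, IsIso.hom_inv_id_assoc]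
    haveI : IsIso u.1 := @isIso_of_lift_id _ _ Xc _ P.W _ _ u.1 u.2
    have h2 : u⁻¹ * (w * u') = res M P.oj β := by
      refine res_unique M _ _ _ ((cancel_epi (χ ≫ u.1)).1 ?_)
      have hu : u.1 ≫ (u⁻¹ * (w * u')).1 = (w * u').1 := by
        rw [← vaut_mul_val, mul_inv_cancel_left]
      show (χ ≫ u.1) ≫ (u⁻¹ * (w * u')).1 ≫ (fn M).map P.oj = (χ ≫ u.1) ≫ (fn M).map P.oj ≫ inv eb ≫ jb ≫ eb'
      calc _ = χ ≫ ((w * u').1 ≫ (fn M).map P.oj) := by rw [Category.assoc, ← Category.assoc u.1, hu]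
        _ = jw ≫ (χ' ≫ u'.1 ≫ (fn M).map P.oj) := by
          show χ ≫ ((inv χ ≫ jw ≫ χ') ≫ u'.1) ≫ (fn M).map P.oj = _
          simp only [Category.assoc, IsIso.hom_inv_id_assoc]
        _ = (jw ≫ pbTo y' P.j P.condition.symm) ≫ eb' := by rw [← hb', Category.assoc]
        _ = (χ ≫ u.1 ≫ (fn M).map P.oj) ≫ inv eb ≫ jb ≫ eb' := by
          rw [← nb, ← hb]; simp only [Category.assoc, IsIso.hom_inv_id_assoc]
        _ = _ := by simp only [Category.assoc]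
    rw [← h1, ← h2, mul_inv_cancel_left]
  · rintro ⟨α, β, hαβ⟩
    have l1 := comp_lift la (comp_lift α.2 lai')
    have l2 := comp_lift lb (comp_lift β.2 lbi')
    let ia : pb P.inl y ≅ pb P.inl y' := @fibIso _ _ Xc _ P.C (pb P.inl y) (pb P.inl y') (ea ≫ α.1 ≫ inv ea') l1
    let ib : pb P.inr y ≅ pb P.inr y' := @fibIso _ _ Xc _ P.C (pb P.inr y) (pb P.inr y') (eb ≫ β.1 ≫ inv eb') l2
    refine iso_of_two hs P.inl P.inr (fun z => P.cover z) ia ib (fun {V} m l h => ?_)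
    obtain ⟨n, hn1, hn2⟩ := P.exists_overlap m l h
    subst hn1; subst hn2
    let μ : (pb (P.j ≫ P.inl) y).1 ⟶ (pb (P.j ≫ P.inl) y').1 := χ ≫ (res M P.oj α).1 ≫ inv χ'
    have lμ : Xc.p.IsHomLift (𝟙 P.W) μ := comp_lift lχ (comp_lift (res M P.oj α).2
      (@IsHomLift.lift_id_inv_isIso _ _ _ _ Xc.p P.W _ _ χ' _ lχ'))
    have e1 : μ ≫ pbTo y' P.j (rfl : P.j ≫ P.inl = _) = pbTo y P.j (rfl : P.j ≫ P.inl = _) ≫ ia.hom.1 := by
      show (χ ≫ (res M P.oj α).1 ≫ inv χ') ≫ _ = pbTo y P.j (rfl : P.j ≫ P.inl = _) ≫ ea ≫ α.1 ≫ inv ea'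
      rw [← cancel_mono ea']
      simp only [Category.assoc, IsIso.inv_hom_id, Category.comp_id]
      rw [ha', IsIso.inv_hom_id_assoc, res_spec, ← Category.assoc χ, ← ha, Category.assoc]
    have e2 : μ ≫ pbTo y' P.j P.condition.symm = pbTo y P.j P.condition.symm ≫ ib.hom.1 := by
      show (χ ≫ (res M P.oj α).1 ≫ inv χ') ≫ _ = pbTo y P.j P.condition.symm ≫ eb ≫ β.1 ≫ inv eb'
      rw [← cancel_mono eb']
      simp only [Category.assoc, IsIso.inv_hom_id, Category.comp_id]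
      rw [hb', IsIso.inv_hom_id_assoc, ← Category.assoc (res M P.oj α).1, ← vaut_mul_val, hαβ, vaut_mul_val,
        Category.assoc, res_spec, ← Category.assoc u.1, ← Category.assoc χ, ← hb, Category.assoc]
    have hkn : n ≫ P.j ≫ P.inl = (n ≫ P.j) ≫ P.inl := (Category.assoc _ _ _).symm
    have lν := comp_lift (pbTo_lift y n hkn) lμ
    obtain ⟨ν, ⟨lν1, hν⟩, -⟩ := @existsUnique_desc _ _ Xc _ _ _ _ _ _ _ (𝟙 V) n (pbTo y' n hkn)
      (pbTo_lift y' n hkn) _ (lift_congr (Category.id_comp n).symm lν)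
    refine ⟨ν, lν1, ?_, ?_⟩
    · show ν ≫ pbTo y' (n ≫ P.j) rfl = pbTo y (n ≫ P.j) rfl ≫ ia.hom.1
      rw [pbTo_comp y n hkn P.j rfl, pbTo_comp y' n hkn P.j rfl]
      exact (Category.assoc _ _ _).symm.trans ((congrArg (· ≫ pbTo y' P.j rfl) hν).trans
        ((Category.assoc _ _ _).trans ((congrArg (pbTo y n hkn ≫ ·) e1).trans (Category.assoc _ _ _).symm)))
    · show ν ≫ pbTo y' (n ≫ P.j) h.symm = pbTo y (n ≫ P.j) h.symm ≫ ib.hom.1
      rw [pbTo_comp y n hkn P.j P.condition.symm, pbTo_comp y' n hkn P.j P.condition.symm]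
      exact (Category.assoc _ _ _).symm.trans ((congrArg (· ≫ pbTo y' P.j P.condition.symm) hν).trans
        ((Category.assoc _ _ _).trans ((congrArg (pbTo y n hkn ≫ ·) e2).trans (Category.assoc _ _ _).symm)))

/-- The trivial class has trivial transition. -/
theorem isTrans_one (P : OPair T) (y : Xc.p.Fiber P.dbl) (φ : y.1 ⟶ (fn M).obj (Over.mk P.pZ))
    (hφ : Xc.p.IsHomLift (𝟙 P.dbl) φ) : IsTrans M P y 1 := by
  let ka : P.oC ⟶ Over.mk P.pZ := Over.homMk P.inl P.inl_pZ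
  let kb : P.oC ⟶ Over.mk P.pZ := Over.homMk P.inr P.inr_pZ
  let kw : P.oW ⟶ Over.mk P.pZ := Over.homMk (P.j ≫ P.inl) (by
    show (P.j ≫ P.inl) ≫ P.pZ = P.j ≫ P.pC
    rw [Category.assoc, P.inl_pZ])
  have la : Xc.p.IsHomLift (𝟙 P.C ≫ P.inl) (pbMap P.inl y ≫ φ) :=
    lift_congr (Category.id_comp _).symm (comp_lift inferInstance hφ)
  have lb : Xc.p.IsHomLift (𝟙 P.C ≫ P.inr) (pbMap P.inr y ≫ φ) :=
    lift_congr (Category.id_comp _).symm (comp_lift inferInstance hφ)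
  have lw : Xc.p.IsHomLift (𝟙 P.W ≫ P.j ≫ P.inl) (pbMap (P.j ≫ P.inl) y ≫ φ) :=
    lift_congr (Category.id_comp _).symm (comp_lift inferInstance hφ)
  obtain ⟨ea, ⟨hea, hea'⟩, -⟩ := @existsUnique_desc _ _ Xc _ _ _ _ _ _ _ (𝟙 P.C) P.inl ((fn M).map ka) (lift_overMap M ka) _ la
  obtain ⟨eb, ⟨heb, heb'⟩, -⟩ := @existsUnique_desc _ _ Xc _ _ _ _ _ _ _ (𝟙 P.C) P.inr ((fn M).map kb) (lift_overMap M kb) _ lb
  obtain ⟨χ, ⟨hχ, hχ'⟩, -⟩ := @existsUnique_desc _ _ Xc _ _ _ _ _ _ _ (𝟙 P.W) (P.j ≫ P.inl) ((fn M).map kw) (lift_overMap M kw) _ lw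
  refine ⟨ea, eb, χ, hea, heb, hχ, ?_, ?_⟩
  · refine @hom_ext _ _ Xc _ _ _ _ _ _ P.j _ _ (comp_lift (pbTo_lift y P.j rfl) hea)
      (comp_lift' hχ (lift_overMap M P.oj)) ((fn M).map ka) ?_
    rw [Category.assoc, Category.assoc, hea', ← (fn M).map_comp,
      show P.oj ≫ ka = kw from Over.OverMorphism.ext rfl, hχ', ← Category.assoc]
    exact congrArg (· ≫ φ) (pbTo_pbMap y P.j rfl)
  · rw [vaut_one_val, Category.id_comp]
    refine @hom_ext _ _ Xc _ _ _ _ _ _ P.j _ _ (comp_lift (pbTo_lift y P.j P.condition.symm) heb)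
      (comp_lift' hχ (lift_overMap M P.oj)) ((fn M).map kb) ?_
    rw [Category.assoc, Category.assoc, heb', ← (fn M).map_comp,
      show P.oj ≫ kb = kw from Over.OverMorphism.ext P.condition.symm, hχ', ← Category.assoc]
    exact congrArg (· ≫ φ) (pbTo_pbMap y P.j P.condition.symm)

/-- Transition automorphisms pull back. -/
theorem isTrans_pullback {P P' : OPair T} (kC : P'.C ⟶ P.C) (kW : P'.W ⟶ P.W) (hk : P'.j ≫ kC = kW ≫ P.j)
    (hp : kC ≫ P.pC = P'.pC) (kZ : P'.dbl ⟶ P.dbl) (hl : P'.inl ≫ kZ = kC ≫ P.inl) (hr : P'.inr ≫ kZ = kC ≫ P.inr)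
    (oW' : P'.oW ⟶ P.oW) (hoW : oW'.left = kW)
    {y : Xc.p.Fiber P.dbl} {u : VAut M P.oW} (h : IsTrans M P y u) (y' : Xc.p.Fiber P'.dbl)
    (φ : y'.1 ⟶ y.1) (hφ : Xc.p.IsHomLift kZ φ) : IsTrans M P' y' (res M oW' u) := by
  obtain ⟨ea, eb, χ, la, lb, lχ, ha, hb⟩ := h
  let oC' : P'.oC ⟶ P.oC := Over.homMk kC hp
  have base : ∀ {V' V : Over S} (f' : V' ⟶ P'.dbl) (f : V ⟶ P.dbl) (k : V' ⟶ V), f' ≫ kZ = k ≫ f →
      ∃ p : (pb f' y').1 ⟶ (pb f y).1, Xc.p.IsHomLift k p ∧ p ≫ pbMap f y = pbMap f' y' ≫ φ := by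
    intro V' V f' f k e
    have l : Xc.p.IsHomLift (k ≫ f) (pbMap f' y' ≫ φ) :=
      lift_congr e (@IsHomLift.comp _ _ _ _ Xc.p _ _ _ _ _ _ f' kZ _ φ inferInstance hφ)
    exact (@existsUnique_desc _ _ Xc _ _ _ _ _ _ _ k f (pbMap f y) inferInstance _ l).exists
  obtain ⟨pa, lpa, hpa⟩ := base P'.inl P.inl kC hl
  obtain ⟨pr, lpr, hpr⟩ := base P'.inr P.inr kC hr
  have hw : (P'.j ≫ P'.inl) ≫ kZ = kW ≫ P.j ≫ P.inl := by
    rw [Category.assoc, hl, ← Category.assoc, hk, Category.assoc]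
  obtain ⟨pw, lpw, hpw⟩ := base (P'.j ≫ P'.inl) (P.j ≫ P.inl) kW hw
  obtain ⟨ea', ⟨la', ha'⟩, -⟩ := @existsUnique_desc _ _ Xc _ _ _ _ _ _ _ (𝟙 P'.C) kC ((fn M).map oC') (lift_overMap M oC') _
    (lift_congr (Category.id_comp _).symm (comp_lift lpa la))
  obtain ⟨eb', ⟨lb', hb'⟩, -⟩ := @existsUnique_desc _ _ Xc _ _ _ _ _ _ _ (𝟙 P'.C) kC ((fn M).map oC') (lift_overMap M oC') _
    (lift_congr (Category.id_comp _).symm (comp_lift lpr lb))
  have lW : Xc.p.IsHomLift kW ((fn M).map oW') := hoW ▸ lift_overMap M oW'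
  obtain ⟨χ', ⟨lχ', hχ'⟩, -⟩ := @existsUnique_desc _ _ Xc _ _ _ _ _ _ _ (𝟙 P'.W) kW ((fn M).map oW') lW _
    (lift_congr (Category.id_comp _).symm (comp_lift lpw lχ))
  have sq : oW' ≫ P.oj = P'.oj ≫ oC' := Over.OverMorphism.ext (by
    show oW'.left ≫ P.j = P'.j ≫ kC
    rw [hoW, hk])
  have ta : pbTo y' P'.j (rfl : P'.j ≫ P'.inl = _) ≫ pa = pw ≫ pbTo y P.j (rfl : P.j ≫ P.inl = _) := by
    refine @hom_ext _ _ Xc _ _ _ _ _ _ (P'.j ≫ kC) _ _
      (@IsHomLift.comp _ _ _ _ Xc.p _ _ _ _ _ _ P'.j kC _ pa (pbTo_lift y' P'.j rfl) lpa)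
      (lift_congr hk.symm (@IsHomLift.comp _ _ _ _ Xc.p _ _ _ _ _ _ kW P.j pw _ lpw (pbTo_lift y P.j rfl)))
      (pbMap P.inl y) ?_
    refine ((Category.assoc _ _ _).trans ((congrArg _ hpa).trans ((Category.assoc _ _ _).symm.trans
      (congrArg (· ≫ φ) (pbTo_pbMap y' P'.j rfl))))).trans ?_
    exact hpw.symm.trans ((congrArg _ (pbTo_pbMap y P.j rfl).symm).trans (Category.assoc _ _ _).symm)
  have tb : pbTo y' P'.j P'.condition.symm ≫ pr = pw ≫ pbTo y P.j P.condition.symm := by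
    refine @hom_ext _ _ Xc _ _ _ _ _ _ (P'.j ≫ kC) _ _
      (@IsHomLift.comp _ _ _ _ Xc.p _ _ _ _ _ _ P'.j kC _ pr (pbTo_lift y' P'.j P'.condition.symm) lpr)
      (lift_congr hk.symm (@IsHomLift.comp _ _ _ _ Xc.p _ _ _ _ _ _ kW P.j pw _ lpw (pbTo_lift y P.j P.condition.symm)))
      (pbMap P.inr y) ?_
    refine ((Category.assoc _ _ _).trans ((congrArg _ hpr).trans ((Category.assoc _ _ _).symm.trans
      (congrArg (· ≫ φ) (pbTo_pbMap y' P'.j P'.condition.symm))))).trans ?_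
    exact hpw.symm.trans ((congrArg _ (pbTo_pbMap y P.j P.condition.symm).symm).trans (Category.assoc _ _ _).symm)
  refine ⟨ea', eb', χ', la', lb', lχ', ?_, ?_⟩
  · refine @hom_ext _ _ Xc _ _ _ _ _ _ P'.j _ _ (comp_lift (pbTo_lift y' P'.j rfl) la')
      (comp_lift' lχ' (lift_overMap M P'.oj)) ((fn M).map oC') ?_
    rw [Category.assoc, Category.assoc, ha', ← (fn M).map_comp, ← sq, (fn M).map_comp, reassoc_of% hχ',
      ← Category.assoc, ta, Category.assoc, ha]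
  · refine @hom_ext _ _ Xc _ _ _ _ _ _ P'.j _ _ (comp_lift (pbTo_lift y' P'.j P'.condition.symm) lb')
      (comp_lift' lχ' (comp_lift' (res M oW' u).2 (lift_overMap M P'.oj))) ((fn M).map oC') ?_
    rw [Category.assoc, Category.assoc, Category.assoc, hb', ← (fn M).map_comp, ← sq, (fn M).map_comp,
      reassoc_of% (res_spec M oW' u), reassoc_of% hχ', ← Category.assoc, tb, Category.assoc, hb]

end Groth.Agent.H9St
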