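import Groth.Agent.Lib.H9StFib
import Groth.Agent.Lib.AlgSpBasic
import Groth.Prelude.Def_AlgSt2
import Groth.Prelude.Def_AlgSt4
/-! Field-valued points of categories fibred in groupoids. -/

set_option autoImplicit false
set_option linter.style.haveILetI false
set_option linter.unusedVariables false
set_option linter.unusedSectionVars false
set_option backward.isDefEq.respectTransparency.types false

universe u

open CategoryTheory CategoryTheory.Limits AlgebraicGeometry Opposite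

noncomputable section

namespace Groth.Agent.H9St

variable {S : Scheme.{u}} {X Y Z : AlgSt.Cat S}

/-- A point over a field extension of two morphisms of spectra. -/
theorem exists_common {K₁ K₂ K : Type u} [Field K₁] [Field K₂] [Field K]
    {s₁ : Spec (CommRingCat.of K₁) ⟶ S} {s₂ : Spec (CommRingCat.of K₂) ⟶ S} {s : Spec (CommRingCat.of K) ⟶ S}
    (g₁ : Over.mk s₁ ⟶ Over.mk s) (g₂ : Over.mk s₂ ⟶ Over.mk s) :
    ∃ (L : Type u) (_ : Field L) (w : Spec (CommRingCat.of L) ⟶ S) (h₁ : Over.mk w ⟶ Over.mk s₁)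
      (h₂ : Over.mk w ⟶ Over.mk s₂), h₁ ≫ g₁ = h₂ ≫ g₂ := by
  obtain ⟨t, -, -⟩ := Scheme.Pullback.exists_preimage_pullback (f := g₁.left) (g := g₂.left)
    (IsLocalRing.closedPoint K₁) (IsLocalRing.closedPoint K₂) (Subsingleton.elim (α := PrimeSpectrum K) _ _)
  let P := pullback g₁.left g₂.left
  let k := P.fromSpecResidueField t
  refine ⟨P.residueField t, inferInstance, k ≫ pullback.fst _ _ ≫ s₁,
    Over.homMk (k ≫ pullback.fst _ _) (Category.assoc _ _ _), Over.homMk (k ≫ pullback.snd _ _) ?_, ?_⟩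
  · show (k ≫ pullback.snd _ _) ≫ s₂ = k ≫ pullback.fst _ _ ≫ s₁
    rw [Category.assoc]
    congr 1
    have e₁ : g₁.left ≫ s = s₁ := Over.w g₁
    have e₂ : g₂.left ≫ s = s₂ := Over.w g₂
    exact (congrArg (fun r => pullback.snd _ _ ≫ r) e₂.symm).trans ((pullback.condition_assoc s).symm.trans
      (congrArg (fun r => pullback.fst _ _ ≫ r) e₁))
  · refine Over.OverMorphism.ext ?_
    show (k ≫ pullback.fst _ _) ≫ g₁.left = (k ≫ pullback.snd _ _) ≫ g₂.left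
    rw [Category.assoc, Category.assoc, pullback.condition]

/-- The base morphism of a morphism of objects over given objects. -/
def baseHom {a b : X.obj} {A B : Over S} (ha : X.p.obj a = A) (hb : X.p.obj b = B) (φ : a ⟶ b) : A ⟶ B :=
  eqToHom ha.symm ≫ X.p.map φ ≫ eqToHom hb

theorem lift_baseHom {a b : X.obj} {A B : Over S} (ha : X.p.obj a = A) (hb : X.p.obj b = B) (φ : a ⟶ b) :
    X.p.IsHomLift (baseHom ha hb φ) φ := IsHomLift.of_fac X.p _ φ ha hb (by simp [baseHom])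

section Rel

variable [hX : FibCat.IsFibGrpd X.p]

theorem fptRel_trans {p q s : AlgSt.FPt X} (h : AlgSt.FPt.Rel p q) (h' : AlgSt.FPt.Rel q s) : AlgSt.FPt.Rel p s := by
  obtain ⟨r₁, a₁, b₁, -⟩ := h
  obtain ⟨r₂, a₂, b₂, -⟩ := h'
  let g₁ := baseHom r₁.lies q.lies b₁
  let g₂ := baseHom r₂.lies q.lies a₂
  haveI := lift_baseHom r₁.lies q.lies b₁
  haveI := lift_baseHom r₂.lies q.lies a₂
  obtain ⟨L, _, w, h₁, h₂, e⟩ := exists_common g₁ g₂
  let z := pb h₁ (⟨r₁.obj, r₁.lies⟩ : X.p.Fiber (Over.mk r₁.str))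
  let c : z.1 ⟶ r₁.obj := pbMap h₁ (⟨r₁.obj, r₁.lies⟩ : X.p.Fiber (Over.mk r₁.str))
  haveI : X.p.IsHomLift h₁ c := inferInstance
  haveI : X.p.IsHomLift (h₂ ≫ g₂) (c ≫ b₁) := by rw [← e]; exact IsHomLift.comp X.p h₁ g₁ _ _
  obtain ⟨χ, ⟨-, -⟩, -⟩ := existsUnique_desc h₂ g₂ a₂ (c ≫ b₁)
  exact ⟨{ K := L, str := w, obj := z.1, lies := z.2 }, c ≫ a₁, χ ≫ b₂, trivial⟩

theorem fptRel_equivalence : Equivalence (@AlgSt.FPt.Rel S X) :=
  ⟨fun p => ⟨p, 𝟙 _, 𝟙 _, trivial⟩, fun ⟨r, a, b, _⟩ => ⟨r, b, a, trivial⟩, fptRel_trans⟩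

theorem mk_eq_mk {p q : AlgSt.FPt X} : AlgSt.Points.mk p = AlgSt.Points.mk q ↔ AlgSt.FPt.Rel p q :=
  ⟨fun h => fptRel_equivalence.eqvGen_iff.1 (Quot.eqvGen_exact h), AlgSt.Points.sound⟩

end Rel

/-- The morphism defined by a section over an object identified with `T`. -/
def secMor' {F : AlgSp.Sp S} {T : Over S} (c : (AlgSt.ofSp F).obj) (h : c.base = T) :
    (AlgSp.yon S).obj T ⟶ F :=
  ASp.sec.symm (F.obj.map (eqToHom h.symm).op c.sec)

theorem sec_secMor' {F : AlgSp.Sp S} {T : Over S} (c : (AlgSt.ofSp F).obj) (h : c.base = T) :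
    ASp.sec (secMor' c h) = F.obj.map (eqToHom h.symm).op c.sec := Equiv.apply_symm_apply _ _

theorem eq_of_secMor' {F : AlgSp.Sp S} {T : Over S} {c c' : (AlgSt.ofSp F).obj} (h : c.base = T) (h' : c'.base = T)
    (e : secMor' c h = secMor' c' h') : c = c' := by
  obtain ⟨b, s⟩ := c
  obtain ⟨b', s'⟩ := c'
  cases h
  cases h'
  have := ASp.sec.symm.injective e
  simp only [eqToHom_refl, op_id] at this
  erw [F.obj.map_id] at this
  exact congrArg (Stk.EltObj.mk _) this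

variable [hX : FibCat.IsFibGrpd X.p] [hY : FibCat.IsFibGrpd Y.p]

/-- An object of the 2-fibre product. -/
def fpMk (f : X ⥤ᵇ Y) (g : Z ⥤ᵇ Y) {W : Over S} (x : X.p.Fiber W) (z : Z.p.Fiber W) (β : g.obj z.1 ⟶ f.obj x.1)
    (hβ : Y.p.IsHomLift (𝟙 W) β) : (FibCat.fp g f).obj :=
  ⟨{ fst := z.1, snd := x.1, iso := @asIso _ _ _ _ β (@isIso_of_lift_id _ _ Y _ W _ _ β hβ) }, by
    show Y.p.IsHomLift (𝟙 (Z.p.obj z.1)) β
    rw [z.2]; exact hβ⟩

theorem exists_fp_point [hZ : FibCat.IsFibGrpd Z.p] (f : X ⥤ᵇ Y) (g : Z ⥤ᵇ Y) (z : AlgSt.Points Z)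
    (x : AlgSt.Points X) (h : AlgSt.Points.map g z = AlgSt.Points.map f x) :
    ∃ w : AlgSt.Points (FibCat.fp g f),
      AlgSt.Points.map (FibCat.fpFst g f) w = z ∧ AlgSt.Points.map (FibCat.fpSnd g f) w = x := by
  obtain ⟨pz, rfl⟩ := AlgSt.Points.mk_surjective z
  obtain ⟨px, rfl⟩ := AlgSt.Points.mk_surjective x
  obtain ⟨r, a, b, -⟩ := mk_eq_mk.1 h
  have lz : Y.p.obj (g.obj pz.obj) = Over.mk pz.str := (g.w_obj _).trans pz.lies
  have lx : Y.p.obj (f.obj px.obj) = Over.mk px.str := (f.w_obj _).trans px.lies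
  let γz : Over.mk r.str ⟶ Over.mk pz.str := baseHom r.lies lz a
  let γx : Over.mk r.str ⟶ Over.mk px.str := baseHom r.lies lx b
  let fz : Z.p.Fiber (Over.mk pz.str) := ⟨pz.obj, pz.lies⟩
  let fx : X.p.Fiber (Over.mk px.str) := ⟨px.obj, px.lies⟩
  haveI : Y.p.IsHomLift γz a := lift_baseHom r.lies lz a
  haveI : Y.p.IsHomLift γx b := lift_baseHom r.lies lx b
  haveI : Y.p.IsHomLift γz (g.map (pbMap γz fz)) := inferInstance
  haveI : Y.p.IsHomLift γx (f.map (pbMap γx fx)) := inferInstance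
  have i1 : Y.p.IsHomLift (𝟙 (Over.mk r.str) ≫ γz) (g.map (pbMap γz fz)) := by rw [Category.id_comp]; assumption
  have i2 : Y.p.IsHomLift (𝟙 (Over.mk r.str) ≫ γx) b := by rw [Category.id_comp]; assumption
  obtain ⟨χz, ⟨lχz, eχz⟩, -⟩ := @existsUnique_desc _ _ Y _ _ _ _ _ _ _ (𝟙 (Over.mk r.str)) γz a _
    (g.map (pbMap γz fz)) i1
  obtain ⟨χx, ⟨lχx, eχx⟩, -⟩ := @existsUnique_desc _ _ Y _ _ _ _ _ _ _ (𝟙 (Over.mk r.str)) γx
    (f.map (pbMap γx fx)) _ b i2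
  let w : AlgSt.FPt (FibCat.fp g f) :=
    { K := r.K, str := r.str
      obj := fpMk f g (pb γx fx) (pb γz fz) (χz ≫ χx)
        (@IsHomLift.comp_of_lift_id _ _ _ _ _ _ _ _ _ _ _ lχz lχx)
      lies := (pb γz fz).2 }
  refine ⟨AlgSt.Points.mk w, AlgSt.Points.sound ?_, AlgSt.Points.sound ?_⟩
  · exact ⟨w.map (FibCat.fpFst g f), 𝟙 _, pbMap γz fz, trivial⟩
  · exact ⟨w.map (FibCat.fpSnd g f), 𝟙 _, pbMap γx fx, trivial⟩

theorem isSurjective_fpFst [hZ : FibCat.IsFibGrpd Z.p] (f : X ⥤ᵇ Y) (g : Z ⥤ᵇ Y) (hf : AlgSt.IsSurjective f) :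
    AlgSt.IsSurjective (FibCat.fpFst g f) := fun z => by
  obtain ⟨x, hx⟩ := hf (AlgSt.Points.map g z)
  obtain ⟨w, hw, -⟩ := exists_fp_point f g z x hx.symm
  exact ⟨w, hw⟩

section Rep

variable {f : X ⥤ᵇ Y} {U : Over S} {y : FibCat.overCat U ⥤ᵇ Y}
  {F : AlgSp.Sp S} {e : AlgSt.ofSp F ⥤ᵇ FibCat.fp y f}

omit hX hY in
theorem left_eq_id {a : Over U} {T : Over S} (ψ : a ⟶ a) (hT : a.left = T)
    (h : (FibCat.overCat U).p.IsHomLift (𝟙 T) ψ) : ψ = 𝟙 a := by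
  subst hT
  haveI := h
  refine Over.OverMorphism.ext ?_
  have h' := IsHomLift.fac' (FibCat.overCat U).p (𝟙 a.left) ψ
  simp at h'
  exact h'

omit hX hY in
/-- Objects of the representing category come from sections. -/
theorem exists_sec (he : FibCat.IsEquivOver e) (w : (FibCat.fp y f).obj) {T : Over S} (hT : w.obj.fst.left = T) :
    ∃ (c : (AlgSt.ofSp F).obj) (hc : c.base = T) (δ : e.obj c ≅ w),
      (FibCat.fp y f).p.IsHomLift (𝟙 T) δ.hom ∧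
      secMor' c hc ≫ AlgSt.spMapOfOver (BasedFunctor.comp e (FibCat.fpFst y f)) =
        (AlgSp.yon S).map (eqToHom hT.symm ≫ w.obj.fst.hom) := by
  obtain ⟨G, -, ⟨d⟩⟩ := he
  let c := G.obj w
  have hc : c.base = T := (G.w_obj w).trans hT
  let δ : e.obj c ≅ w := ((BasedNatTrans.forgetful _ _).mapIso d).app w
  have hδ : (FibCat.fp y f).p.IsHomLift (𝟙 T) δ.hom := BasedNatTrans.isHomLift d.hom hT
  refine ⟨c, hc, δ, hδ, ASp.sec.injective ?_⟩
  rw [ASp.sec_comp, sec_secMor']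
  subst hc
  show (AlgSt.spMapOfOver _).hom.app (op c.base) (F.obj.map (eqToHom rfl).op c.sec) = _
  rw [eqToHom_refl, op_id, F.obj.map_id]
  show (AlgSt.spMapOfOver _).hom.app (op c.base) c.sec = _
  rw [AlgSt.spMapOfOver_app]
  refine congrArg ULift.up ?_
  haveI := hδ
  have l1 : δ.hom.hom.fst.left = eqToHom (((e.w_obj c).trans rfl).trans hT.symm) := by
    have := IsHomLift.fac' (FibCat.fp y f).p (𝟙 c.base) δ.hom
    simp at this
    exact this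
  have l2 := Over.w δ.hom.hom.fst
  rw [l1] at l2
  show eqToHom _ ≫ (e.obj c).obj.fst.hom = _
  rw [← l2]
  exact ((Category.assoc _ _ _).symm.trans (congrArg (· ≫ w.obj.fst.hom) (eqToHom_trans _ _))).trans
    (Category.id_comp _).symm

end Rep

end Groth.Agent.H9St

namespace Groth.Agent.H9St

variable {S : Scheme.{u}} {X Y : AlgSt.Cat S} [hX : FibCat.IsFibGrpd X.p] [hY : FibCat.IsFibGrpd Y.p]
  {f : X ⥤ᵇ Y}

/-- The identity object of a slice read on the functor of an object. -/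
def selfIso {T : Over S} (z : Y.p.Fiber T) : (yFun z).obj (Over.mk (𝟙 T)) ⟶ z.1 := pbMap (𝟙 T) z

omit hX hY in
theorem endo_eq_id {U : Over S} {y : FibCat.overCat U ⥤ᵇ Y} {F : AlgSp.Sp S}
    {e : AlgSt.ofSp F ⥤ᵇ FibCat.fp y f} (he : FibCat.IsEquivOver e) (w : (FibCat.fp y f).obj) (ψ : w ⟶ w)
    {T : Over S} (h : (FibCat.fp y f).p.IsHomLift (𝟙 T) ψ) : ψ = 𝟙 w := by
  obtain ⟨G, -, ⟨d⟩⟩ := he
  haveI := h
  haveI : (AlgSt.ofSp F).p.IsHomLift (𝟙 T) (G.map ψ) := @BasedFunctor.preserves_isHomLift _ _ _ _ G _ _ _ _ (𝟙 T) ψ h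
  have hw : (FibCat.fp y f).p.obj w = T := IsHomLift.domain_eq (FibCat.fp y f).p (𝟙 T) ψ
  haveI : (AlgSt.ofSp F).p.IsHomLift (𝟙 T) (𝟙 (G.obj w)) := IsHomLift.id ((G.w_obj w).trans hw)
  have h1 : G.map ψ = 𝟙 _ := Stk.EltObj.hom_ext ((IsHomLift.fac' (AlgSt.ofSp F).p (𝟙 T) (G.map ψ)).trans
      (IsHomLift.fac' (AlgSt.ofSp F).p (𝟙 T) (𝟙 (G.obj w))).symm)
  let δ : e.obj (G.obj w) ≅ w := ((BasedNatTrans.forgetful _ _).mapIso d).app w
  have h2 : (BasedFunctor.comp G e).map ψ = 𝟙 _ := (congrArg e.map h1).trans (e.map_id _)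
  have h3 : (BasedFunctor.comp G e).map ψ ≫ δ.hom = δ.hom ≫ ψ := d.hom.toNatTrans.naturality ψ
  rw [h2] at h3
  exact (cancel_epi δ.hom).1 (h3.symm.trans ((Category.id_comp _).trans (Category.comp_id _).symm))

/-- Vertical endomorphisms killed by a functor representable by spaces are trivial. -/
theorem endo_eq_id_of_rep {P : MorphismProperty (AlgSp.Sp S)} (hf : AlgSt.RepByAlgSpWith P f) {T : Over S}
    (x : X.p.Fiber T) (γ : x.1 ⟶ x.1) (hγ : X.p.IsHomLift (𝟙 T) γ) (e : f.map γ = 𝟙 _) : γ = 𝟙 _ := by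
  let z : Y.p.Fiber T := ⟨f.obj x.1, (f.w_obj _).trans x.2⟩
  obtain ⟨F, E, hE, -⟩ := hf T (yFun z)
  let w : (FibCat.fp (yFun z) f).obj :=
    fpMk f (yFun z) x (⟨Over.mk (𝟙 T), rfl⟩ : (FibCat.overCat T).p.Fiber T) (selfIso z)
      (inferInstanceAs (Y.p.IsHomLift (𝟙 T) (pbMap (𝟙 T) z)))
  let ψ : w ⟶ w := ObjectProperty.homMk
    { fst := 𝟙 _, snd := γ, w := by
        show (yFun z).map (𝟙 _) ≫ w.obj.iso.hom = w.obj.iso.hom ≫ f.map γ
        exact (congrArg (· ≫ w.obj.iso.hom) ((yFun z).map_id _)).trans ((Category.id_comp _).trans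
          ((Category.comp_id _).symm.trans (congrArg (w.obj.iso.hom ≫ ·) e.symm))) }
  have hψ : (FibCat.fp (yFun z) f).p.IsHomLift (𝟙 T) ψ := by
    refine IsHomLift.of_fac' _ _ _ rfl rfl ?_
    show (𝟙 _ : T ⟶ T) = _
    simp; rfl
  exact congrArg (fun q : w ⟶ w => q.hom.snd) (endo_eq_id hE w ψ hψ)

end Groth.Agent.H9St

namespace Groth.Agent.H9St

variable {S : Scheme.{u}} {X Y : AlgSt.Cat S} [hX : FibCat.IsFibGrpd X.p] [hY : FibCat.IsFibGrpd Y.p]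
  {f : X ⥤ᵇ Y}

theorem isFibGrpd_overCat (U : Over S) : FibCat.IsFibGrpd (FibCat.overCat U).p where
  exists_lift {x V} g := ⟨Over.mk (g ≫ x.hom), Over.homMk g rfl,
    @IsHomLift.of_fac' _ _ _ _ (FibCat.overCat U).p _ _ _ _ g (Over.homMk g rfl : Over.mk (g ≫ x.hom) ⟶ x) rfl rfl
      (by show g = _; simp; rfl)⟩
  isStronglyCartesian {b a} φ :=
    { universal_property' := fun {a'} g φ' hl => by
        haveI := hl
        have e : φ'.left = g ≫ φ.left :=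
          ((Category.id_comp _).symm.trans ((congrArg (𝟙 _ ≫ ·) (Category.comp_id _).symm).trans
            (IsHomLift.fac (FibCat.overCat U).p (g ≫ (FibCat.overCat U).p.map φ) φ').symm))
        have hw : g ≫ b.hom = a'.hom := by
          rw [← Over.w φ, ← Over.w φ', e]
          exact (Category.assoc _ _ _).symm
        refine ⟨Over.homMk g hw, ⟨IsHomLift.of_fac' _ _ _ rfl rfl (by show g = _; simp),
          Over.OverMorphism.ext e.symm⟩, ?_⟩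
        rintro χ ⟨hχ, -⟩
        haveI := hχ
        refine Over.OverMorphism.ext ?_
        have h' := IsHomLift.fac' (FibCat.overCat U).p g χ
        simp at h'
        exact h' }

theorem full_vertical (hf : AlgSt.IsMono f) {T : Over S} (x₁ x₂ : X.p.Fiber T) (β : f.obj x₁.1 ⟶ f.obj x₂.1)
    (hβ : Y.p.IsHomLift (𝟙 T) β) : ∃ α : x₁.1 ⟶ x₂.1, X.p.IsHomLift (𝟙 T) α ∧ f.map α = β := by
  let z : Y.p.Fiber T := ⟨f.obj x₁.1, (f.w_obj _).trans x₁.2⟩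
  let y := yFun z
  obtain ⟨F, E, hE, hm⟩ := hf T y
  let a : (FibCat.overCat T).p.Fiber T := ⟨Over.mk (𝟙 T), rfl⟩
  have hsel : Y.p.IsHomLift (𝟙 T) (selfIso z) := inferInstanceAs (Y.p.IsHomLift (𝟙 T) (pbMap (𝟙 T) z))
  have hsel2 : Y.p.IsHomLift (𝟙 T) (selfIso z ≫ β) := @IsHomLift.comp_of_lift_id _ _ _ _ _ _ _ _ _ _ _ hsel hβ
  let w₁ : (FibCat.fp y f).obj := fpMk f y x₁ a (selfIso z) hsel
  let w₂ : (FibCat.fp y f).obj := fpMk f y x₂ a (selfIso z ≫ β) hsel2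
  obtain ⟨c₁, h₁, δ₁, l₁, e₁⟩ := exists_sec hE w₁ (T := T) rfl
  obtain ⟨c₂, h₂, δ₂, l₂, e₂⟩ := exists_sec hE w₂ (T := T) rfl
  haveI : Mono (AlgSt.spMapOfOver (BasedFunctor.comp E (FibCat.fpFst y f))) := hm
  obtain rfl : c₁ = c₂ := eq_of_secMor' h₁ h₂ ((cancel_mono _).1 (e₁.trans e₂.symm))
  let ψ : w₁ ⟶ w₂ := δ₁.inv ≫ δ₂.hom
  haveI := l₁; haveI := l₂
  haveI lψ : (FibCat.fp y f).p.IsHomLift (𝟙 T) ψ :=
    @IsHomLift.comp_of_lift_id _ _ _ _ _ _ _ _ _ _ _ (IsHomLift.lift_id_inv _ T δ₁) l₂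
  have hfst : ψ.hom.fst = 𝟙 a.1 := left_eq_id (U := T) ψ.hom.fst rfl
    (@BasedFunctor.preserves_isHomLift _ _ _ _ (FibCat.fpFst y f) _ _ _ _ (𝟙 T) ψ lψ)
  have hsnd : X.p.IsHomLift (𝟙 T) ψ.hom.snd :=
    @BasedFunctor.preserves_isHomLift _ _ _ _ (FibCat.fpSnd y f) _ _ _ _ (𝟙 T) ψ lψ
  refine ⟨ψ.hom.snd, hsnd, ?_⟩
  have hw : y.map ψ.hom.fst ≫ w₂.obj.iso.hom = w₁.obj.iso.hom ≫ f.map ψ.hom.snd := ψ.hom.w
  rw [hfst] at hw
  haveI : IsIso (selfIso z) := @isIso_of_lift_id _ _ Y _ T _ _ _ hsel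
  exact (cancel_epi (selfIso z)).1 (hw.symm.trans ((congrArg (· ≫ w₂.obj.iso.hom) (y.map_id _)).trans
    (Category.id_comp _)))

/-- A monomorphism is fully faithful. -/
theorem full_of_isMono (hf : AlgSt.IsMono f) {a b : X.obj} (β : f.obj a ⟶ f.obj b) : ∃ α, f.map α = β := by
  let x₁ : X.p.Fiber (X.p.obj a) := ⟨a, rfl⟩
  let x₂ : X.p.Fiber (X.p.obj b) := ⟨b, rfl⟩
  let g := baseHom (f.w_obj a) (f.w_obj b) β
  haveI : Y.p.IsHomLift g β := lift_baseHom _ _ β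
  haveI : Y.p.IsHomLift (𝟙 (X.p.obj a) ≫ g) β := by rw [Category.id_comp]; infer_instance
  obtain ⟨χ, ⟨lχ, eχ⟩, -⟩ := existsUnique_desc (𝟙 (X.p.obj a)) g (f.map (pbMap g x₂)) β
  obtain ⟨α, -, hα⟩ := full_vertical hf x₁ (pb g x₂) χ lχ
  exact ⟨α ≫ pbMap g x₂, by rw [f.map_comp, hα, eχ]⟩

theorem faithful_of_rep {P : MorphismProperty (AlgSp.Sp S)} (hf : AlgSt.RepByAlgSpWith P f) {a b : X.obj}
    {α α' : a ⟶ b} (e : f.map α = f.map α') : α = α' := by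
  have hb : X.p.map α = X.p.map α' := by
    have h := congrArg Y.p.map e
    have h1 := Functor.congr_hom f.w α
    have h2 := Functor.congr_hom f.w α'
    simp only [Functor.comp_map] at h1 h2
    rw [h1, h2] at h
    exact (cancel_mono _).1 ((cancel_epi _).1 h)
  haveI : X.p.IsHomLift (X.p.map α) α := .map α
  haveI l' : X.p.IsHomLift (X.p.map α) α' := hb ▸ .map α'
  haveI : X.p.IsHomLift (𝟙 (X.p.obj a) ≫ X.p.map α) α' := by rw [Category.id_comp]; infer_instance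
  obtain ⟨γ, ⟨lγ, eγ⟩, -⟩ := existsUnique_desc (𝟙 (X.p.obj a)) (X.p.map α) α α'
  have lfγ : Y.p.IsHomLift (𝟙 (X.p.obj a)) (f.map γ) := @BasedFunctor.preserves_isHomLift _ _ _ _ f _ _ _ _ _ γ lγ
  have lf1 : Y.p.IsHomLift (𝟙 (X.p.obj a)) (𝟙 (f.obj a)) := IsHomLift.id (f.w_obj a)
  have e2 : f.map γ = 𝟙 _ := @hom_ext _ _ Y _ _ _ _ _ _ (𝟙 (X.p.obj a)) _ _ lfγ lf1 (f.map α)
    (by rw [Category.id_comp, ← f.map_comp, eγ, e])
  rw [← eγ, endo_eq_id_of_rep hf (⟨a, rfl⟩ : X.p.Fiber (X.p.obj a)) γ lγ e2, Category.id_comp]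

theorem injective_of_isMono (hf : AlgSt.IsMono f) : Function.Injective (AlgSt.Points.map f) := by
  intro p q h
  obtain ⟨p, rfl⟩ := AlgSt.Points.mk_surjective p
  obtain ⟨q, rfl⟩ := AlgSt.Points.mk_surjective q
  obtain ⟨w, hw₁, hw₂⟩ := exists_fp_point f f (AlgSt.Points.mk p) (AlgSt.Points.mk q) h
  obtain ⟨w, rfl⟩ := AlgSt.Points.mk_surjective w
  obtain ⟨α, -⟩ := full_of_isMono hf w.obj.obj.iso.hom
  rw [← hw₁, ← hw₂]
  exact AlgSt.Points.sound ⟨w.map (FibCat.fpFst f f), 𝟙 _, α, trivial⟩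

theorem isSurjective_of_rep (hf : AlgSt.RepByAlgSpWith AlgSp.IsSurjectiveMor f) : AlgSt.IsSurjective f := by
  intro q
  obtain ⟨q, rfl⟩ := AlgSt.Points.mk_surjective q
  let U : Over S := Over.mk q.str
  let z : Y.p.Fiber U := ⟨q.obj, q.lies⟩
  obtain ⟨F, E, hE, hm⟩ := hf U (yFun z)
  obtain ⟨v, -⟩ := hm (AlgSp.Points.mk ⟨q.K, q.str, ⟨𝟙 U⟩⟩)
  obtain ⟨v, rfl⟩ := AlgSp.Points.mk_surjective v
  let w := E.obj ⟨Over.mk v.str, v.val⟩
  let p : AlgSt.FPt X :=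
    { K := v.K, str := v.str, obj := w.obj.snd
      lies := ((FibCat.fpSnd (yFun z) f).w_obj w).trans (E.w_obj _) }
  exact ⟨AlgSt.Points.mk p, AlgSt.Points.sound
    ⟨p.map f, 𝟙 _, w.obj.iso.inv ≫ pbMap w.obj.fst.hom z, trivial⟩⟩

omit hX hY in
theorem fieldPt_rel {U : Over S} {F : AlgSp.Sp S} (m : F ⟶ (AlgSp.yon S).obj U) (p : AlgSp.FieldPt ((AlgSp.yon S).obj U))
    {L : Type u} [Field L] {str : Spec (CommRingCat.of L) ⟶ S} (g : (AlgSp.yon S).obj (Over.mk str) ⟶ F)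
    (h : Over.mk str ⟶ U) (hg : g ≫ m = (AlgSp.yon S).map h) {R : Type u} [Field R]
    {w : Spec (CommRingCat.of R) ⟶ S} (a : Over.mk w ⟶ Over.mk str) (b : Over.mk w ⟶ p.pt)
    (e : a ≫ h = b ≫ p.val.down) :
    AlgSp.Points.map m (AlgSp.Points.mk ⟨L, str, ASp.sec g⟩) = AlgSp.Points.mk p := by
  have hv : m.hom.app (op (Over.mk str)) (ASp.sec g) = ⟨h⟩ := by
    rw [← ASp.sec_comp, hg]
    exact congrArg ULift.up (Category.id_comp h)
  refine AlgSp.Points.sound ⟨R, inferInstance, w, a, b, ?_⟩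
  show ((AlgSp.yon S).obj U).obj.map a.op (m.hom.app (op (Over.mk str)) (ASp.sec g)) = _
  rw [hv]
  exact congrArg ULift.up e

omit hX hY in
theorem base_comp {U : Over S} {A B C : Over U} {T₁ T₂ T₃ : Over S} (hA : A.left = T₁) (hB : B.left = T₂)
    (hC : C.left = T₃) (m₁ : A ⟶ B) (m₂ : A ⟶ C) :
    (eqToHom hA.symm ≫ m₁.left ≫ eqToHom hB) ≫ eqToHom hB.symm ≫ B.hom =
      (eqToHom hA.symm ≫ m₂.left ≫ eqToHom hC) ≫ eqToHom hC.symm ≫ C.hom := by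
  subst hA hB hC
  simp [Over.w m₁, Over.w m₂]

theorem isSurjectiveMor_of_isSurjective (hf : AlgSt.IsSurjective f) {U : Over S} {y : FibCat.overCat U ⥤ᵇ Y}
    {F : AlgSp.Sp S} {E : AlgSt.ofSp F ⥤ᵇ FibCat.fp y f} (hE : FibCat.IsEquivOver E) :
    AlgSp.IsSurjectiveMor (AlgSt.spMapOfOver (BasedFunctor.comp E (FibCat.fpFst y f))) := by
  intro t
  obtain ⟨p, rfl⟩ := AlgSp.Points.mk_surjective t
  let a : Over U := Over.mk p.val.down
  let zp : AlgSt.FPt (FibCat.overCat U) := { K := p.K, str := p.str, obj := a, lies := rfl }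
  obtain ⟨x, hx⟩ := hf (AlgSt.Points.map y (AlgSt.Points.mk zp))
  haveI hU : FibCat.IsFibGrpd (FibCat.overCat U).p := isFibGrpd_overCat U
  obtain ⟨w, hw, -⟩ := exists_fp_point f y _ x hx.symm
  obtain ⟨w, rfl⟩ := AlgSt.Points.mk_surjective w
  obtain ⟨r, m₁, m₂, -⟩ := mk_eq_mk.1 hw
  obtain ⟨c, hc, δ, -, ec⟩ := exists_sec hE w.obj (T := Over.mk w.str) w.lies
  refine ⟨_, fieldPt_rel _ p (secMor' c hc) _ ec (eqToHom r.lies.symm ≫ m₁.left ≫ eqToHom w.lies)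
    (eqToHom r.lies.symm ≫ m₂.left ≫ eqToHom (rfl : a.left = Over.mk p.str)) ?_⟩
  refine (base_comp r.lies w.lies (rfl : a.left = Over.mk p.str) m₁ m₂).trans ?_
  exact congrArg (fun z => (eqToHom r.lies.symm ≫ m₂.left ≫ eqToHom (rfl : a.left = Over.mk p.str)) ≫ z)
    (Category.id_comp _)

end Groth.Agent.H9St
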