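import Mathlib.CategoryTheory.FiberedCategory.Fiber
import Groth.Prelude.Def_FibCat2
/-! Categories fibred in groupoids: lifts, 2-Yoneda functors, fibres. -/

set_option autoImplicit false
set_option linter.style.haveILetI false
set_option backward.isDefEq.respectTransparency.types false

universe v₂ u₂ v₃ u₃ v u

open CategoryTheory CategoryTheory.Functor

namespace Groth.Agent.H9St

variable {C : Type u} [Category.{v} C] {X : BasedCategory.{v₂, u₂} C} [hX : FibCat.IsFibGrpd X.p]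

theorem stronglyCartesian {V U : C} {y x : X.obj} (f : V ⟶ U) (φ : y ⟶ x) [X.p.IsHomLift f φ] :
    X.p.IsStronglyCartesian f φ := by
  subst_hom_lift X.p f φ
  exact hX.isStronglyCartesian φ

theorem existsUnique_desc {W V U : C} {z y x : X.obj} (g : W ⟶ V) (f : V ⟶ U) (φ : y ⟶ x)
    [X.p.IsHomLift f φ] (ψ : z ⟶ x) [X.p.IsHomLift (g ≫ f) ψ] :
    ∃! χ : z ⟶ y, X.p.IsHomLift g χ ∧ χ ≫ φ = ψ := by
  have := stronglyCartesian f φ
  obtain rfl := IsHomLift.domain_eq X.p (g ≫ f) ψ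
  exact IsStronglyCartesian.universal_property' (p := X.p) (f := f) g ψ

/-- Two morphisms over the same arrow with the same composite into a third object are equal. -/
theorem hom_ext {W V : C} {z y x : X.obj} (g : W ⟶ V) {χ χ' : z ⟶ y} [X.p.IsHomLift g χ]
    [X.p.IsHomLift g χ'] (φ : y ⟶ x) (h : χ ≫ φ = χ' ≫ φ) : χ = χ' := by
  have h1 : X.p.IsHomLift (X.p.map χ) χ := .map χ
  have h2 : X.p.IsHomLift (X.p.map χ) χ' := by
    obtain rfl := IsHomLift.domain_eq X.p g χ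
    obtain rfl := IsHomLift.codomain_eq X.p g χ
    rw [← IsHomLift.eq_of_isHomLift X.p g χ]; assumption
  have : X.p.IsHomLift (X.p.map χ ≫ X.p.map φ) (χ ≫ φ) := inferInstance
  exact (existsUnique_desc (X.p.map χ) (X.p.map φ) φ (χ ≫ φ)).unique ⟨h1, rfl⟩ ⟨h2, h.symm⟩

/-- A morphism over an identity is an isomorphism. -/
theorem isIso_of_lift_id {U : C} {y x : X.obj} (φ : y ⟶ x) [X.p.IsHomLift (𝟙 U) φ] : IsIso φ := by
  have hx := IsHomLift.codomain_eq X.p (𝟙 U) φ
  haveI : X.p.IsHomLift (𝟙 U) (𝟙 x) := IsHomLift.id hx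
  haveI : X.p.IsHomLift (𝟙 U ≫ 𝟙 U) (𝟙 x) := by rw [Category.id_comp]; infer_instance
  obtain ⟨χ, ⟨h1, h2⟩, -⟩ := existsUnique_desc (𝟙 U) (𝟙 U) φ (𝟙 x)
  haveI : X.p.IsHomLift (𝟙 U) (𝟙 y) := IsHomLift.id (IsHomLift.domain_eq X.p (𝟙 U) φ)
  exact ⟨χ, hom_ext (𝟙 U) φ (by simp [h2]), h2⟩

/-- An isomorphism of a fibre from a morphism over the identity. -/
noncomputable def fibIso {U : C} (x y : X.p.Fiber U) (φ : x.1 ⟶ y.1) [X.p.IsHomLift (𝟙 U) φ] : x ≅ y :=
  haveI := isIso_of_lift_id (U := U) φ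
  { hom := ⟨φ, inferInstance⟩
    inv := ⟨inv φ, IsHomLift.lift_id_inv_isIso X.p U φ⟩
    hom_inv_id := Subtype.ext (IsIso.hom_inv_id φ)
    inv_hom_id := Subtype.ext (IsIso.inv_hom_id φ) }

theorem exists_lift' {U V : C} (f : V ⟶ U) (x : X.p.Fiber U) :
    ∃ (y : X.p.Fiber V) (φ : y.1 ⟶ x.1), X.p.IsHomLift f φ := by
  obtain ⟨x, rfl⟩ := x
  obtain ⟨y, φ, h⟩ := hX.exists_lift (x := x) f
  exact ⟨⟨y, IsHomLift.domain_eq X.p f φ⟩, φ, h⟩

/-- A chosen pullback. -/
noncomputable def pb {U V : C} (f : V ⟶ U) (x : X.p.Fiber U) : X.p.Fiber V :=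
  (exists_lift' f x).choose

noncomputable def pbMap {U V : C} (f : V ⟶ U) (x : X.p.Fiber U) : (pb f x).1 ⟶ x.1 :=
  (exists_lift' f x).choose_spec.choose

instance {U V : C} (f : V ⟶ U) (x : X.p.Fiber U) : X.p.IsHomLift f (pbMap f x) :=
  (exists_lift' f x).choose_spec.choose_spec

theorem pb_iso_of_map {U V : C} (f : V ⟶ U) {x : X.p.Fiber U} (y : X.p.Fiber V) (φ : y.1 ⟶ x.1)
    [X.p.IsHomLift f φ] : Nonempty (y ≅ pb f x) := by
  haveI : X.p.IsHomLift (𝟙 V ≫ f) φ := by rw [Category.id_comp]; infer_instance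
  obtain ⟨χ, ⟨h1, -⟩, -⟩ := existsUnique_desc (𝟙 V) f (pbMap f x) φ
  exact ⟨fibIso y _ χ⟩

theorem pb_congr {U V : C} (f : V ⟶ U) {x x' : X.p.Fiber U} (e : x ≅ x') : Nonempty (pb f x ≅ pb f x') := by
  haveI : X.p.IsHomLift (𝟙 U) e.hom.1 := e.hom.2
  exact pb_iso_of_map f (pb f x) (pbMap f x ≫ e.hom.1)

theorem pb_id {U : C} (x : X.p.Fiber U) : Nonempty (pb (𝟙 U) x ≅ x) := ⟨fibIso _ _ (pbMap (𝟙 U) x)⟩

theorem pb_comp {U V W : C} (g : W ⟶ V) (f : V ⟶ U) (x : X.p.Fiber U) :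
    Nonempty (pb g (pb f x) ≅ pb (g ≫ f) x) := pb_iso_of_map (g ≫ f) _ (pbMap g _ ≫ pbMap f x)

/-- The chosen pullback along `a` for an object `a` of the slice. -/
noncomputable def yFun {U : C} (x : X.p.Fiber U) : FibCat.overCat U ⥤ᵇ X where
  toFunctor :=
    { obj := fun a => (pb a.hom x).1
      map := fun {a b} k =>
        haveI : X.p.IsHomLift (k.left ≫ b.hom) (pbMap a.hom x) := by rw [Over.w k]; infer_instance
        (existsUnique_desc k.left b.hom (pbMap b.hom x) (pbMap a.hom x)).choose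
      map_id := fun a => by
        haveI : X.p.IsHomLift ((𝟙 a : a ⟶ a).left ≫ a.hom) (pbMap a.hom x) := by
          rw [Over.w (𝟙 a)]; infer_instance
        refine ((existsUnique_desc (𝟙 a : a ⟶ a).left a.hom (pbMap a.hom x) (pbMap a.hom x)).choose_spec.2 _
          ⟨?_, Category.id_comp _⟩).symm
        exact IsHomLift.id (pb a.hom x).2
      map_comp := fun {a b c} k l => by
        haveI : X.p.IsHomLift (k.left ≫ b.hom) (pbMap a.hom x) := by rw [Over.w k]; infer_instance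
        haveI : X.p.IsHomLift (l.left ≫ c.hom) (pbMap b.hom x) := by rw [Over.w l]; infer_instance
        haveI : X.p.IsHomLift ((k ≫ l).left ≫ c.hom) (pbMap a.hom x) :=
          (Over.w (k ≫ l)).symm ▸ inferInstanceAs (X.p.IsHomLift a.hom (pbMap a.hom x))
        have h1 := (existsUnique_desc k.left b.hom (pbMap b.hom x) (pbMap a.hom x)).choose_spec.1
        have h2 := (existsUnique_desc l.left c.hom (pbMap c.hom x) (pbMap b.hom x)).choose_spec.1
        refine ((existsUnique_desc (k ≫ l).left c.hom (pbMap c.hom x) (pbMap a.hom x)).choose_spec.2 _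
          ⟨?_, ?_⟩).symm
        · haveI := h1.1; haveI := h2.1
          exact IsHomLift.comp X.p k.left l.left _ _
        · rw [Category.assoc, h2.2, h1.2] }
  w := by
    refine Functor.ext (fun a => (pb a.hom x).2) fun a b k => ?_
    haveI : X.p.IsHomLift (k.left ≫ b.hom) (pbMap a.hom x) := by rw [Over.w k]; infer_instance
    haveI := (existsUnique_desc k.left b.hom (pbMap b.hom x) (pbMap a.hom x)).choose_spec.1.1
    exact IsHomLift.fac' X.p k.left _

theorem yFun_map {U : C} (x : X.p.Fiber U) {a b : Over U} (k : a ⟶ b) :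
    X.p.IsHomLift k.left ((yFun x).map k) ∧ (yFun x).map k ≫ pbMap b.hom x = pbMap a.hom x := by
  haveI : X.p.IsHomLift (k.left ≫ b.hom) (pbMap a.hom x) := by rw [Over.w k]; infer_instance
  exact (existsUnique_desc k.left b.hom (pbMap b.hom x) (pbMap a.hom x)).choose_spec.1

/-- The fibre object of a based functor at an object of the source. -/
def at' {A : BasedCategory.{v₃, u₃} C} (F : A ⥤ᵇ X) (a : A.obj) : X.p.Fiber (A.p.obj a) :=
  ⟨F.obj a, F.w_obj a⟩

omit hX in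
theorem lift_map {A : BasedCategory.{v₃, u₃} C} (F : A ⥤ᵇ X) {a b : A.obj} (k : a ⟶ b) :
    X.p.IsHomLift (A.p.map k) (F.map k) := inferInstance

omit hX in
/-- A natural family of morphisms over identities is a morphism of based functors. -/
theorem exists_natTrans {A : BasedCategory.{v₃, u₃} C} (F G : A ⥤ᵇ X) (t : ∀ a, F.obj a ⟶ G.obj a)
    (h1 : ∀ a, X.p.IsHomLift (𝟙 (A.p.obj a)) (t a))
    (h2 : ∀ a b (k : a ⟶ b), F.map k ≫ t b = t a ≫ G.map k) :
    ∃ τ : F ⟶ G, ∀ a, τ.toNatTrans.app a = t a :=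
  ⟨{ toNatTrans := { app := t, naturality := fun a b k => h2 a b k }, isHomLift' := h1 }, fun _ => rfl⟩

theorem natIso_of_family {A : BasedCategory.{v₃, u₃} C} (F G : A ⥤ᵇ X) (t : ∀ a, F.obj a ⟶ G.obj a)
    (h1 : ∀ a, X.p.IsHomLift (𝟙 (A.p.obj a)) (t a))
    (h2 : ∀ a b (k : a ⟶ b), F.map k ≫ t b = t a ≫ G.map k) : Nonempty (F ≅ G) := by
  haveI : ∀ a, IsIso (t a) := fun a => haveI := h1 a; isIso_of_lift_id (U := A.p.obj a) (t a)
  exact ⟨BasedNatIso.mkNatIso (NatIso.ofComponents (fun a => asIso (t a)) (fun {a b} k => h2 a b k)) h1⟩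

/-- A functor on the slice is isomorphic to the pullbacks of its value at the terminal object. -/
theorem yFun_at {U : C} (G : FibCat.overCat U ⥤ᵇ X) :
    Nonempty (G ≅ yFun (U := U) (at' G (Over.mk (𝟙 U)))) := by
  let x : X.p.Fiber U := at' G (Over.mk (𝟙 U))
  let q : ∀ a : Over U, a ⟶ Over.mk (𝟙 U) := fun a => Over.homMk a.hom (by simp)
  have hq : ∀ a : Over U, X.p.IsHomLift (𝟙 a.left ≫ a.hom) (G.map (q a)) := fun a => by
    rw [Category.id_comp]; exact lift_map G (q a)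
  have hd : ∀ a : Over U, ∃ χ : G.obj a ⟶ (pb a.hom x).1,
      X.p.IsHomLift (𝟙 a.left) χ ∧ χ ≫ pbMap a.hom x = G.map (q a) := fun a =>
    (@existsUnique_desc C _ X _ _ _ _ _ _ _ (𝟙 a.left) a.hom (pbMap a.hom x) inferInstance
      (G.map (q a)) (hq a)).exists
  choose t ht using hd
  refine natIso_of_family G (yFun x) t (fun a => (ht a).1) fun a b k => ?_
  have h0 : X.p.IsHomLift k.left (G.map k) := lift_map G k
  obtain ⟨h3, h4⟩ := yFun_map x k
  have l1 := @IsHomLift.comp _ _ _ _ X.p _ _ _ _ _ _ k.left (𝟙 b.left) (G.map k) (t b) h0 (ht b).1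
  have l2 := @IsHomLift.comp _ _ _ _ X.p _ _ _ _ _ _ (𝟙 a.left) k.left (t a) ((yFun x).map k) (ht a).1 h3
  rw [Category.comp_id] at l1
  rw [Category.id_comp] at l2
  refine @hom_ext C _ X _ _ _ _ _ _ k.left _ _ l1 l2 (pbMap b.hom x) ?_
  have hkq : k ≫ q b = q a := Over.OverMorphism.ext (show k.left ≫ b.hom = a.hom from Over.w k)
  exact (Category.assoc _ _ _).trans ((congrArg (G.map k ≫ ·) (ht b).2).trans
    (((G.map_comp k (q b)).symm.trans (congrArg (fun h => G.map h) hkq)).trans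
      (((ht a).2.symm.trans (congrArg (t a ≫ ·) h4.symm)).trans (Category.assoc _ _ _).symm)))

end Groth.Agent.H9St
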