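import Groth.Agent.Lib.H9StUniv
/-! Universally injective morphisms of algebraic stacks. -/

set_option autoImplicit false
set_option linter.style.haveILetI false
set_option linter.unusedVariables false
set_option linter.unusedSectionVars false
set_option backward.isDefEq.respectTransparency.types false

universe u

open CategoryTheory CategoryTheory.Limits AlgebraicGeometry Opposite

noncomputable section

namespace Groth.Agent.H9St

open H9Diag

variable {S : Scheme.{u}} {X Y : AlgSt.Cat S}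

theorem map_diag_fst (f : X ⥤ᵇ Y) (x : AlgSt.Points X) :
    AlgSt.Points.map (FibCat.fpFst f f) (AlgSt.Points.map (FibCat.diag f) x) = x :=
  (points_map_comp _ _ x).trans (points_map_id x)

theorem map_diag_snd (f : X ⥤ᵇ Y) (x : AlgSt.Points X) :
    AlgSt.Points.map (FibCat.fpSnd f f) (AlgSt.Points.map (FibCat.diag f) x) = x :=
  (points_map_comp _ _ x).trans (points_map_id x)

section Grpd

variable [FibCat.IsFibGrpd X.p] [FibCat.IsFibGrpd Y.p]

theorem surjective_diag_fpFst {Z : AlgSt.Cat S} [FibCat.IsFibGrpd Z.p] (g : Z ⥤ᵇ Y) (f : X ⥤ᵇ Y)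
    (h : AlgSt.IsSurjective (FibCat.diag f)) : AlgSt.IsSurjective (FibCat.diag (FibCat.fpFst g f)) := by
  haveI : FibCat.IsFibGrpd (FibCat.fp g f).p := H9Fib.isFibGrpd_fp _ _
  haveI : FibCat.IsFibGrpd (FibCat.fp f f).p := H9Fib.isFibGrpd_fp _ _
  haveI : FibCat.IsFibGrpd (FibCat.fp (FibCat.fpFst g f) (FibCat.fpFst g f)).p := H9Fib.isFibGrpd_fp _ _
  haveI : FibCat.IsFibGrpd (FibCat.fp (sqPair g f) (FibCat.diag f)).p := H9Fib.isFibGrpd_fp _ _
  intro q
  obtain ⟨r, hr⟩ := isSurjective_fpFst (FibCat.diag f) (sqPair g f) h q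
  obtain ⟨w, rfl⟩ := surjective_points_equiv (isEquivOver_dgEquiv g f) r
  refine ⟨w, Eq.trans ?_ hr⟩
  exact (points_map_comp (dgEquiv g f) (FibCat.fpFst (sqPair g f) (FibCat.diag f)) w).symm

theorem injective_of_surjective_diag {Z : AlgSt.Cat S} [FibCat.IsFibGrpd Z.p] (f : X ⥤ᵇ Y)
    (h : AlgSt.IsSurjective (FibCat.diag f)) (g : Z ⥤ᵇ Y) :
    Function.Injective (AlgSt.Points.map (FibCat.fpFst g f)) := by
  haveI : FibCat.IsFibGrpd (FibCat.fp g f).p := H9Fib.isFibGrpd_fp _ _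
  intro q q' e
  obtain ⟨v, h1, h2⟩ := exists_fp_point (FibCat.fpFst g f) (FibCat.fpFst g f) q q' e
  obtain ⟨w, rfl⟩ := surjective_diag_fpFst g f h v
  rw [map_diag_fst] at h1
  rw [map_diag_snd] at h2
  exact h1.symm.trans h2

end Grpd

theorem univInjective_iff (hX : AlgSt.IsAlgStack Scheme.fppfPrecoverage X) (hY : AlgSt.IsAlgStack Scheme.fppfPrecoverage Y)
    (f : X ⥤ᵇ Y) : AlgSt.IsUnivInjective Scheme.fppfPrecoverage f ↔ AlgSt.IsSurjective (FibCat.diag f) := by
  haveI := hX.isStack.1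
  haveI := hY.isStack.1
  refine ⟨fun h w => ⟨AlgSt.Points.map (FibCat.fpFst f f) w, h X hX f ?_⟩,
    fun h Z hZ g => by haveI := hZ.isStack.1; exact injective_of_surjective_diag f h g⟩
  rw [map_diag_fst]

variable [FibCat.IsFibGrpd X.p] [FibCat.IsFibGrpd Y.p]

/-- Injectivity over a chart controls the diagonal over it. -/
theorem mem_range_diag_of_chart {W : AlgSt.Cat S} [FibCat.IsFibGrpd W.p] (z : W ⥤ᵇ Y) (f : X ⥤ᵇ Y)
    (h : AlgSt.IsSurjective (FibCat.diag (FibCat.fpFst z f))) (v : AlgSt.Points (FibCat.fp f f)) (w : AlgSt.Points W)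
    (hv : AlgSt.Points.map z w = AlgSt.Points.map (BasedFunctor.comp (FibCat.fpFst f f) f) v) :
    v ∈ Set.range (AlgSt.Points.map (FibCat.diag f)) := by
  haveI : FibCat.IsFibGrpd (FibCat.fp f f).p := H9Fib.isFibGrpd_fp _ _
  haveI : FibCat.IsFibGrpd (FibCat.fp z f).p := H9Fib.isFibGrpd_fp _ _
  haveI : FibCat.IsFibGrpd (FibCat.fp (FibCat.fpFst z f) (FibCat.fpFst z f)).p := H9Fib.isFibGrpd_fp _ _
  let c := BasedFunctor.comp (FibCat.fpFst f f) f
  haveI : FibCat.IsFibGrpd (FibCat.fp z c).p := H9Fib.isFibGrpd_fp _ _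
  let i : BasedFunctor.comp (FibCat.fpFst z c) z ≅
      BasedFunctor.comp (BasedFunctor.comp (FibCat.fpSnd z c) (FibCat.fpFst f f)) f := FibCat.fpIso z c
  let i' : BasedFunctor.comp (FibCat.fpFst z c) z ≅
      BasedFunctor.comp (BasedFunctor.comp (FibCat.fpSnd z c) (FibCat.fpSnd f f)) f :=
    i ≪≫ H9Fib.wLeft (FibCat.fpSnd z c) (FibCat.fpIso f f)
  let a : FibCat.fp z c ⥤ᵇ FibCat.fp z f := FibCat.fpLift _ _ i
  let b : FibCat.fp z c ⥤ᵇ FibCat.fp z f := FibCat.fpLift _ _ i'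
  let j : BasedFunctor.comp a (FibCat.fpFst z f) ≅ BasedFunctor.comp b (FibCat.fpFst z f) :=
    eqToIso rfl
  let Ψ : FibCat.fp z c ⥤ᵇ FibCat.fp (FibCat.fpFst z f) (FibCat.fpFst z f) := FibCat.fpLift a b j
  let k : BasedFunctor.comp Ψ (sqPair z f) ≅ FibCat.fpSnd z c :=
    BasedNatIso.mkNatIso (NatIso.ofComponents (fun r => (FibCat.fpProp f f).isoMk
        (CategoricalPullback.mkIso (Iso.refl _) (Iso.refl _) (by
          show f.map (𝟙 _) ≫ r.obj.snd.obj.iso.hom =
            (r.obj.iso.inv ≫ z.map (𝟙 _) ≫ r.obj.iso.hom ≫ r.obj.snd.obj.iso.hom) ≫ f.map (𝟙 _)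
          erw [z.toFunctor.map_id, Category.id_comp, Iso.inv_hom_id_assoc, f.toFunctor.map_id,
            Category.id_comp]
          exact (((congrArg (r.obj.snd.obj.iso.hom ≫ ·) (f.toFunctor.map_id _))).trans (Category.comp_id _)).symm)))
      (fun {r r'} m => ObjectProperty.hom_ext _ (CategoricalPullback.hom_ext
        ((Category.comp_id _).trans (Category.id_comp _).symm) ((Category.comp_id _).trans (Category.id_comp _).symm))))
      fun r => by
        refine IsHomLift.of_fac' _ _ _ ((BasedFunctor.comp Ψ (sqPair z f)).w_obj r) ((FibCat.fpSnd z c).w_obj r) ?_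
        show X.p.map (𝟙 _) = _
        simp; rfl
  obtain ⟨r, -, hr⟩ := exists_fp_point c z w v hv
  obtain ⟨t, ht⟩ := h (AlgSt.Points.map Ψ r)
  refine ⟨AlgSt.Points.map (FibCat.fpSnd z f) t, Eq.trans ?_ hr⟩
  rw [← points_map_iso k r, ← points_map_comp Ψ (sqPair z f), ← ht]
  exact (points_map_comp _ _ t).trans ((points_map_iso (dgSq z f) t).symm.trans (points_map_comp _ _ t).symm)

end Groth.Agent.H9St
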