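import Groth.Agent.Lib.H9StLoc2
import Groth.Agent.Lib.H9StUnivInj
/-! Descent along fppf coverings of algebraic stacks. -/

set_option autoImplicit false
set_option linter.style.haveILetI false
set_option linter.unusedVariables false
set_option linter.unusedSectionVars false
set_option backward.isDefEq.respectTransparency.types false

universe u

open CategoryTheory CategoryTheory.Limits AlgebraicGeometry Opposite

noncomputable section

namespace Groth.Agent.H9St

open H9Diag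

variable {S : Scheme.{u}}

theorem standard_surjective : Standard (AlgSp.IsSurjectiveMor (S := S)) :=
  ⟨fun _ _ _ _ _ _ _ _ a b a' b' sq h => ASp.surjective_baseChange sq h,
    fun _ _ _ _ _ _ a b ha hb z => by
      obtain ⟨y, rfl⟩ := hb z
      obtain ⟨x, rfl⟩ := ha y
      exact ⟨x, AlgSp.Points.map_comp a b x⟩,
    surjective_bc_loc _ rfl⟩

variable {X Y : AlgSt.Cat S} [hX : FibCat.IsFibGrpd X.p] [hY : FibCat.IsFibGrpd Y.p]

/-- The square through which a base change controls the diagonal. -/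
theorem exists_psi {W : AlgSt.Cat S} [FibCat.IsFibGrpd W.p] (z : W ⥤ᵇ Y) (f : X ⥤ᵇ Y) :
    ∃ Ψ : FibCat.fp z (BasedFunctor.comp (FibCat.fpFst f f) f) ⥤ᵇ FibCat.fp (FibCat.fpFst z f) (FibCat.fpFst z f),
      Nonempty (BasedFunctor.comp Ψ (sqPair z f) ≅ FibCat.fpSnd z (BasedFunctor.comp (FibCat.fpFst f f) f)) := by
  let c := BasedFunctor.comp (FibCat.fpFst f f) f
  let i : BasedFunctor.comp (FibCat.fpFst z c) z ≅
      BasedFunctor.comp (BasedFunctor.comp (FibCat.fpSnd z c) (FibCat.fpFst f f)) f := FibCat.fpIso z c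
  let i' : BasedFunctor.comp (FibCat.fpFst z c) z ≅
      BasedFunctor.comp (BasedFunctor.comp (FibCat.fpSnd z c) (FibCat.fpSnd f f)) f :=
    i ≪≫ H9Fib.wLeft (FibCat.fpSnd z c) (FibCat.fpIso f f)
  let a : FibCat.fp z c ⥤ᵇ FibCat.fp z f := FibCat.fpLift _ _ i
  let b : FibCat.fp z c ⥤ᵇ FibCat.fp z f := FibCat.fpLift _ _ i'
  let j : BasedFunctor.comp a (FibCat.fpFst z f) ≅ BasedFunctor.comp b (FibCat.fpFst z f) :=
    eqToIso rfl
  let Ψ : FibCat.fp z c ⥤ᵇ FibCat.fp (FibCat.fpFst z f) (FibCat.fpFst z f) := FibCat.fpLift a b j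
  let k : BasedFunctor.comp Ψ (sqPair z f) ≅ FibCat.fpSnd z c :=
    BasedNatIso.mkNatIso (NatIso.ofComponents (fun r => (FibCat.fpProp f f).isoMk
        (CategoricalPullback.mkIso (Iso.refl _) (Iso.refl _) (by
          show f.map (𝟙 _) ≫ r.obj.snd.obj.iso.hom =
            (r.obj.iso.inv ≫ z.map (𝟙 _) ≫ r.obj.iso.hom ≫ r.obj.snd.obj.iso.hom) ≫ f.map (𝟙 _)
          erw [z.toFunctor.map_id, Category.id_comp, Iso.inv_hom_id_assoc, f.toFunctor.map_id,
            Category.id_comp]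
          exact (((congrArg (r.obj.snd.obj.iso.hom ≫ ·) (f.toFunctor.map_id _))).trans (Category.comp_id _)).symm)))
      (fun {r r'} m => ObjectProperty.hom_ext _ (CategoricalPullback.hom_ext
        ((Category.comp_id _).trans (Category.id_comp _).symm) ((Category.comp_id _).trans (Category.id_comp _).symm))))
      fun r => by
        refine IsHomLift.of_fac' _ _ _ ((BasedFunctor.comp Ψ (sqPair z f)).w_obj r) ((FibCat.fpSnd z c).w_obj r) ?_
        show X.p.map (𝟙 _) = _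
        simp; rfl
  exact ⟨Ψ, ⟨k⟩⟩

variable {P : MorphismProperty (AlgSp.Sp S)}

/-- Properties of diagonals descend along fppf coverings of the target. -/
theorem diag_descent (hP : Standard P) {W : AlgSt.Cat S} [FibCat.IsFibGrpd W.p] {f : X ⥤ᵇ Y}
    (hΔ : AlgSt.RepByAlgSp1 (FibCat.diag f)) (z : W ⥤ᵇ Y) (hz₁ : AlgSt.RepByAlgSpWith (AlgSp.LocP @Flat) z)
    (hz₂ : AlgSt.RepByAlgSpWith (AlgSp.LocP @LocallyOfFinitePresentation) z)
    (hz₃ : AlgSt.RepByAlgSpWith AlgSp.IsSurjectiveMor z)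
    (h : AlgSt.RepByAlgSpWith P (FibCat.diag (FibCat.fpFst z f))) : AlgSt.RepByAlgSpWith P (FibCat.diag f) := by
  let c := BasedFunctor.comp (FibCat.fpFst f f) f
  let π := FibCat.fpFst z f
  haveI : FibCat.IsFibGrpd (FibCat.fp f f).p := H9Fib.isFibGrpd_fp _ _
  haveI : FibCat.IsFibGrpd (FibCat.fp z f).p := H9Fib.isFibGrpd_fp _ _
  haveI : FibCat.IsFibGrpd (FibCat.fp π π).p := H9Fib.isFibGrpd_fp _ _
  haveI : FibCat.IsFibGrpd (FibCat.fp z c).p := H9Fib.isFibGrpd_fp _ _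
  haveI : FibCat.IsFibGrpd (FibCat.fp (sqPair z f) (FibCat.diag f)).p := H9Fib.isFibGrpd_fp _ _
  obtain ⟨Ψ, ⟨k⟩⟩ := exists_psi z f
  haveI : FibCat.IsFibGrpd (FibCat.fp (FibCat.fpSnd z c) (FibCat.diag f)).p := H9Fib.isFibGrpd_fp _ _
  haveI : FibCat.IsFibGrpd (FibCat.fp (BasedFunctor.comp Ψ (sqPair z f)) (FibCat.diag f)).p := H9Fib.isFibGrpd_fp _ _
  haveI : FibCat.IsFibGrpd (FibCat.fp Ψ (FibCat.fpFst (sqPair z f) (FibCat.diag f))).p := H9Fib.isFibGrpd_fp _ _
  have h1 : AlgSt.RepByAlgSpWith P (FibCat.fpFst (sqPair z f) (FibCat.diag f)) :=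
    (repByAlgSpWith_congr (f := FibCat.fpFst (sqPair z f) (FibCat.diag f)) (f' := FibCat.diag π)
      (dgEquiv z f) (BasedFunctor.id _) (isEquivOver_dgEquiv z f) (H9Fib.isEquivOver_id _) (Iso.refl _)).2 h
  have h2 : AlgSt.RepByAlgSpWith P (FibCat.fpFst (BasedFunctor.comp Ψ (sqPair z f)) (FibCat.diag f)) :=
    (repByAlgSpWith_congr (f := FibCat.fpFst (BasedFunctor.comp Ψ (sqPair z f)) (FibCat.diag f))
      (f' := FibCat.fpFst Ψ (FibCat.fpFst (sqPair z f) (FibCat.diag f))) (pasteFun Ψ (sqPair z f) (FibCat.diag f))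
      (BasedFunctor.id _) (isEquivOver_paste _ _ _) (H9Fib.isEquivOver_id _) (Iso.refl _)).2
      (repByAlgSpWith_fpFst _ Ψ h1)
  let i₁ : BasedFunctor.comp (BasedFunctor.comp Ψ (sqPair z f)) (BasedFunctor.id _) ≅
      BasedFunctor.comp (BasedFunctor.id _) (FibCat.fpSnd z c) := k
  let i₂ : BasedFunctor.comp (FibCat.diag f) (BasedFunctor.id _) ≅ BasedFunctor.comp (BasedFunctor.id _) (FibCat.diag f) :=
    Iso.refl _
  let G := fpCongr (BasedFunctor.id (FibCat.fp z c)) (BasedFunctor.id X) (BasedFunctor.id (FibCat.fp f f)) i₁ i₂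
  have h3 : AlgSt.RepByAlgSpWith P (FibCat.fpFst (FibCat.fpSnd z c) (FibCat.diag f)) :=
    (repByAlgSpWith_congr (f := FibCat.fpFst (FibCat.fpSnd z c) (FibCat.diag f))
      (f' := FibCat.fpFst (BasedFunctor.comp Ψ (sqPair z f)) (FibCat.diag f)) G (BasedFunctor.id _)
      (isEquivOver_fpCongr _ _ (H9Fib.isEquivOver_id _) (H9Fib.isEquivOver_id _) (H9Fib.isEquivOver_id _))
      (H9Fib.isEquivOver_id _) (Iso.refl _)).2 h2
  exact repWith_of_fpFst_cover P hP.bc hP.loc hΔ (FibCat.fpSnd z c) (repByAlgSpWith_fpSnd z c hz₁)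
    (repByAlgSpWith_fpSnd z c hz₂) (repByAlgSpWith_fpSnd z c hz₃) h3

/-- An fppf covering by a space controls the absolute diagonal. -/
theorem diag_toSelf_of_cover (hP : Standard P) [P.RespectsIso]
    (hmono : ∀ (F : AlgSp.Sp S) (U : Over S) (m : F ⟶ (AlgSp.yon S).obj U), AlgSp.IsAlgSpace F → ASp.MonoLFT m → P m)
    (hΔ : AlgSt.RepByAlgSp1 (FibCat.diag (FibCat.toSelf X))) {W : AlgSt.Cat S} [FibCat.IsFibGrpd W.p]
    (hW : AlgSt.RepByAlgSp W) (u : W ⥤ᵇ X) (hu₁ : AlgSt.RepByAlgSpWith (AlgSp.LocP @Flat) u)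
    (hu₂ : AlgSt.RepByAlgSpWith (AlgSp.LocP @LocallyOfFinitePresentation) u)
    (hu₃ : AlgSt.RepByAlgSpWith AlgSp.IsSurjectiveMor u) (hu : AlgSt.RepByAlgSpWith P u) :
    AlgSt.RepByAlgSpWith P (FibCat.diag (FibCat.toSelf X)) := by
  let t := FibCat.toSelf X
  haveI hS : FibCat.IsFibGrpd (FibCat.selfOver (Over S)).p := isFibGrpd_selfOver
  let q := BasedFunctor.comp u t
  haveI : FibCat.IsFibGrpd (FibCat.fp q q).p := H9Fib.isFibGrpd_fp _ _
  haveI : FibCat.IsFibGrpd (FibCat.fp t t).p := H9Fib.isFibGrpd_fp _ _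
  haveI : FibCat.IsFibGrpd (FibCat.fp u u).p := H9Fib.isFibGrpd_fp _ _
  haveI : FibCat.IsFibGrpd (FibCat.fp (pair u u t) (FibCat.diag t)).p := H9Fib.isFibGrpd_fp _ _
  have h1 : AlgSt.RepByAlgSpWith P (BasedFunctor.comp (cmp u u t) (FibCat.fpFst q q)) :=
    (repByAlgSpWith_congr (f := BasedFunctor.comp (cmp u u t) (FibCat.fpFst q q)) (f' := FibCat.fpFst u u)
      (BasedFunctor.id _) (BasedFunctor.id _) (H9Fib.isEquivOver_id _) (H9Fib.isEquivOver_id _) (Iso.refl _)).2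
      (repByAlgSpWith_fpFst u u hu)
  have hq : AlgSt.RepByAlgSp1 q := repByAlgSp1_of_repByAlgSp hW repByAlgSp_selfOver q
  have h2 := repWith_of_comp hP (cmp u u t) (FibCat.fpFst q q) h1
    (repWith_diag_of_rep1 ((repByAlgSp1_iff_with _).2 (repByAlgSpWith_fpFst q q ((repByAlgSp1_iff_with _).1 hq))) hmono)
  have h3 : AlgSt.RepByAlgSpWith P (FibCat.fpFst (pair u u t) (FibCat.diag t)) :=
    (repByAlgSpWith_congr (f := FibCat.fpFst (pair u u t) (FibCat.diag t)) (f' := cmp u u t) (cmpEquiv u u t)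
      (BasedFunctor.id _) (isEquivOver_cmpEquiv u u t) (H9Fib.isEquivOver_id _) (Iso.refl _)).2 h2
  exact repWith_of_fpFst_cover _ hP.bc hP.loc hΔ (pair u u t) (repWith_pair standard_flat u t hu₁)
    (repWith_pair standard_lfp u t hu₂) (repWith_pair standard_surjective u t hu₃) h3

/-- A flat, locally finitely presented covering stack gives a covering by a scheme. -/
theorem exists_scheme_cover {Z : AlgSt.Cat S} (hZ : AlgSt.IsAlgStack Scheme.fppfPrecoverage Z)
    (hYa : AlgSt.IsAlgStack Scheme.fppfPrecoverage Y) (z : Z ⥤ᵇ Y) (hz₁ : AlgSt.LocQ (AlgSp.LocP @Flat) z)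
    (hz₂ : AlgSt.LocQ (AlgSp.LocP @LocallyOfFinitePresentation) z) (hz₃ : AlgSt.IsSurjective z) :
    ∃ (U : Over S) (u : FibCat.overCat U ⥤ᵇ Z),
      AlgSt.RepByAlgSpWith (AlgSp.LocP @Flat) (BasedFunctor.comp u z) ∧
      AlgSt.RepByAlgSpWith (AlgSp.LocP @LocallyOfFinitePresentation) (BasedFunctor.comp u z) ∧
      AlgSt.RepByAlgSpWith AlgSp.IsSurjectiveMor (BasedFunctor.comp u z) := by
  haveI := hZ.isStack.1
  obtain ⟨U, u, hu, hus⟩ := hZ.atlas
  haveI : FibCat.IsFibGrpd (FibCat.overCat U).p := isFibGrpd_overCat U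
  have hrep : AlgSt.RepByAlgSp1 (BasedFunctor.comp u z) := rep1_from_space hYa.diag (repByAlgSp_overCat U) _
  refine ⟨U, u, ?_, ?_, standard_surjective_rep hrep fun q => ?_⟩
  · refine rep_of_locQ ASp.isSmoothLocalST_locP standard_flat.bc standard_flat.loc (isAlgStack_overCat U) hYa hrep
      (locQ_comp ASp.isSmoothLocalST_locP standard_flat.comp (isAlgStack_overCat U) hZ hYa
        (locQ_of_rep (fun F T V hA a m ha hm => ASp.locP_comp (AlgSp.IsAlgSpace.yon_obj T) hA (AlgSp.IsAlgSpace.yon_obj V)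
          (ASp.locP_of_repWith hA (ASp.repWith_mono (fun _ _ f (_ : Etale f) => (inferInstance : Flat f)) ha)) hm)
          (isAlgStack_overCat U) hZ (smooth_flat_lfp hu).1) hz₁)
  · refine rep_of_locQ ASp.isSmoothLocalST_locP standard_lfp.bc standard_lfp.loc (isAlgStack_overCat U) hYa hrep
      (locQ_comp ASp.isSmoothLocalST_locP standard_lfp.comp (isAlgStack_overCat U) hZ hYa
        (locQ_of_rep (fun F T V hA a m ha hm => ASp.locP_comp (AlgSp.IsAlgSpace.yon_obj T) hA (AlgSp.IsAlgSpace.yon_obj V)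
          (ASp.locP_of_repWith hA (ASp.repWith_mono (fun _ _ f (_ : Etale f) => (inferInstance : LocallyOfFinitePresentation f)) ha)) hm)
          (isAlgStack_overCat U) hZ (smooth_flat_lfp hu).2) hz₂)
  · obtain ⟨p, rfl⟩ := hz₃ q
    obtain ⟨p₀, rfl⟩ := isSurjective_of_rep hus p
    exact ⟨p₀, (points_map_comp u z p₀).symm⟩

/-- An immersion into a locally Noetherian stack is quasi-compact. -/
theorem qcMor_of_isImm (hXa : AlgSt.IsAlgStack Scheme.fppfPrecoverage X)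
    (hYa : AlgSt.IsAlgStack Scheme.fppfPrecoverage Y) {j : X ⥤ᵇ Y} (hj : AlgSt.IsImm j)
    (hn : AlgSt.SmoothLocally (fun T => IsLocallyNoetherian T) Y) :
    AlgSt.IsQuasiCompactMor Scheme.fppfPrecoverage j := by
  obtain ⟨V, y, hy, hys⟩ := hYa.atlas
  haveI : IsLocallyNoetherian V.left := hn V y hy
  haveI : FibCat.IsFibGrpd (FibCat.overCat V).p := isFibGrpd_overCat V
  haveI : FibCat.IsFibGrpd (FibCat.fp y j).p := H9Fib.isFibGrpd_fp _ _
  obtain ⟨F, e, he, hP⟩ := hj V y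
  have hq : AlgSp.IsQuasiCompactMor (AlgSt.spMapOfOver (BasedFunctor.comp e (FibCat.fpFst y j))) := by
    let m := AlgSt.spMapOfOver (BasedFunctor.comp e (FibCat.fpFst y j))
    obtain ⟨W, fst, snd, sq, hs⟩ := ASp.exists_sq_prop (P := @IsImmersion) hP (𝟙 ((AlgSp.yon S).obj V))
    haveI : IsImmersion snd.left := hs
    haveI := sq.isIso_fst_of_isIso
    refine ASp.isQuasiCompactMor_of_repWith ?_
    have h1 : AlgSp.RepWith @QuasiCompact ((AlgSp.yon S).map snd) :=
      (AlgSp.repWith_yon_map_iff _ snd).2 (show QuasiCompact snd.left by rw [← snd.left.liftCoborder_ι]; infer_instance)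
    exact ASp.repWith_baseChange (IsPullback.of_horiz_isIso
      (fst := inv fst) (snd := m) (f := (AlgSp.yon S).map snd) (g := 𝟙 _)
      ⟨by rw [Category.comp_id, IsIso.inv_comp_eq]; exact ((sq.w).trans (Category.comp_id _)).symm⟩) h1
  haveI := respectsIso_qcMor (S := S)
  have hs := isQuasiCompact_iff_compact (isAlgStack_overCat V)
  refine qcMor_of_cover (isAlgStack_overCat V) hXa hYa y (smooth_flat_lfp hy).1 (smooth_flat_lfp hy).2 hys
    (qcMor_of_rep (isAlgStack_fp' (isAlgStack_overCat V) hXa hYa y j) (isAlgStack_overCat V) ?_)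
  rw [← repByAlgSpWith_onSpaces]
  haveI := respectsIso_onSpaces _ standard_qc.bc (S := S)
  refine repWith_of_map (⟨F, e, he⟩) (repByAlgSp_overCat V) _ fun hsA hsB T b hA hB hF hT => ?_
  haveI := isIso_clsMap he
  haveI : FibCat.IsFibGrpd (AlgSt.ofSp F.obj).p := isFibGrpd_ofPsh F.obj.obj
  let iV : (⟨clsPsh (FibCat.overCat V), hsB⟩ : AlgSp.Sp S) ≅ (AlgSp.yon S).obj V :=
    (fullyFaithfulSheafToPresheaf (AlgSp.J S) (Type (u + 1))).preimageIso
      (X := (⟨clsPsh (FibCat.overCat V), hsB⟩ : AlgSp.Sp S)) (Y := (AlgSp.yon S).obj V) (clsOverCat V)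
  let iF : F.obj ≅ (⟨clsPsh (FibCat.fp y j), hsA⟩ : AlgSp.Sp S) :=
    (fullyFaithfulSheafToPresheaf (AlgSp.J S) (Type (u + 1))).preimageIso
      (X := F.obj) (Y := (⟨clsPsh (FibCat.fp y j), hsA⟩ : AlgSp.Sp S)) ((clsOfPsh F.obj.obj).symm ≪≫ asIso (clsMap e))
  have em : AlgSt.spMapOfOver (BasedFunctor.comp e (FibCat.fpFst y j)) ≫ iV.inv =
      iF.hom ≫ ObjectProperty.homMk (clsMap (FibCat.fpFst y j)) := ObjectProperty.hom_ext _ (by
    show (AlgSt.spMapOfOver _).hom ≫ (clsOverCat V).inv = ((clsOfPsh F.obj.obj).inv ≫ clsMap e) ≫ clsMap (FibCat.fpFst y j)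
    rw [clsMap_equiv_spMap]
    simp only [Category.assoc]
    erw [Category.assoc, Category.assoc, Category.assoc, Iso.hom_inv_id, Category.comp_id])
  have hm : AlgSp.IsQuasiCompactMor (ObjectProperty.homMk (clsMap (FibCat.fpFst y j)) :
      (⟨clsPsh (FibCat.fp y j), hsA⟩ : AlgSp.Sp S) ⟶ (⟨clsPsh (FibCat.overCat V), hsB⟩ : AlgSp.Sp S)) :=
    ASp.isQuasiCompactMor_baseChange (IsPullback.of_horiz_isIso
      (fst := iF.inv) (snd := ObjectProperty.homMk (clsMap (FibCat.fpFst y j)))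
      (f := AlgSt.spMapOfOver (BasedFunctor.comp e (FibCat.fpFst y j))) (g := iV.hom)
      ⟨by rw [Iso.inv_comp_eq, ← Category.assoc, ← em, Category.assoc, iV.inv_hom_id, Category.comp_id]⟩) hq
  exact ASp.isQuasiCompactMor_baseChange (IsPullback.of_hasPullback _ b) hm

end Groth.Agent.H9St
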