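import Groth.Agent.Lib.H9StDescent
/-! Diagonals of algebraic stacks are locally of finite type. -/

set_option autoImplicit false
set_option linter.style.haveILetI false
set_option linter.unusedVariables false
set_option linter.unusedSectionVars false
set_option backward.isDefEq.respectTransparency.types false

universe u

open CategoryTheory CategoryTheory.Limits AlgebraicGeometry Opposite

noncomputable section

namespace Groth.Agent.H9St

open H9Diag

variable {S : Scheme.{u}}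

/-- The pair of a morphism with itself is composed of two base changes. -/
theorem repWith_pair {P : MorphismProperty (AlgSp.Sp S)} (hP : Standard P) {X W T : AlgSt.Cat S}
    [FibCat.IsFibGrpd X.p] [FibCat.IsFibGrpd W.p] [FibCat.IsFibGrpd T.p] (u : W ⥤ᵇ X) (t : X ⥤ᵇ T)
    (hu : AlgSt.RepByAlgSpWith P u) : AlgSt.RepByAlgSpWith P (pair u u t) := by
  let q := BasedFunctor.comp u t
  haveI : FibCat.IsFibGrpd (FibCat.fp q q).p := H9Fib.isFibGrpd_fp _ _
  haveI : FibCat.IsFibGrpd (FibCat.fp t t).p := H9Fib.isFibGrpd_fp _ _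
  haveI : FibCat.IsFibGrpd (FibCat.fp q t).p := H9Fib.isFibGrpd_fp _ _
  haveI : FibCat.IsFibGrpd (FibCat.fp t q).p := H9Fib.isFibGrpd_fp _ _
  let m : FibCat.fp q q ⥤ᵇ FibCat.fp q t :=
    BasedFunctor.comp (BasedFunctor.comp (swapFun q q) (bcFun u t q)) (swapFun t q)
  have hm : AlgSt.RepByAlgSpWith P m :=
    (repByAlgSpWith_congr (f := bcFun u t q) (f' := m) (swapFun q q) (swapFun q t) (isEquivOver_swap _ _)
      (isEquivOver_swap _ _) (BasedNatIso.mkNatIso (Iso.refl _) fun w => IsHomLift.id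
        ((BasedFunctor.comp m (swapFun q t)).w_obj w))).1
      (repWith_bcFun u t q hu)
  have h2 := repWith_comp hP hm (repWith_bcFun u t t hu)
  refine (repByAlgSpWith_congr (f := pair u u t) (f' := BasedFunctor.comp m (bcFun u t t)) (BasedFunctor.id _)
    (BasedFunctor.id _) (H9Fib.isEquivOver_id _) (H9Fib.isEquivOver_id _) ?_).2 h2
  refine BasedNatIso.mkNatIso (NatIso.ofComponents (fun w => (FibCat.fpProp t t).isoMk
      (CategoricalPullback.mkIso (Iso.refl _) (Iso.refl _) ?_))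
      (fun {w w'} k => ObjectProperty.hom_ext _ (CategoricalPullback.hom_ext
        ((Category.comp_id _).trans (Category.id_comp _).symm) ((Category.comp_id _).trans (Category.id_comp _).symm))))
      fun w => ?_
  · show t.map (𝟙 _) ≫ w.obj.iso.hom = w.obj.iso.hom ≫ t.map (𝟙 _)
    erw [t.toFunctor.map_id, t.toFunctor.map_id, Category.comp_id, Category.id_comp]
  · refine IsHomLift.of_fac' _ _ _ (u.w_obj w.obj.fst) (u.w_obj w.obj.fst) ?_
    show X.p.map (𝟙 _) = _
    simp; rfl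

theorem standard_surjective_rep {X Y : AlgSt.Cat S} [FibCat.IsFibGrpd X.p] [FibCat.IsFibGrpd Y.p]
    {f : X ⥤ᵇ Y} (hf : AlgSt.RepByAlgSp1 f) (hs : AlgSt.IsSurjective f) :
    AlgSt.RepByAlgSpWith AlgSp.IsSurjectiveMor f := fun U y => by
  obtain ⟨F, e, he⟩ := hf U y
  haveI : FibCat.IsFibGrpd (FibCat.overCat U).p := isFibGrpd_overCat U
  exact ⟨F, e, he, isSurjectiveMor_of_isSurjective hs he⟩

/-- The absolute diagonal of an algebraic stack is locally of finite type. -/
theorem lft_diag_toSelf {X : AlgSt.Cat S} [FibCat.IsFibGrpd X.p]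
    (hΔ : AlgSt.RepByAlgSp1 (FibCat.diag (FibCat.toSelf X))) (hA : AlgSt.HasAtlas (AlgSp.LocP @Smooth) X) :
    AlgSt.RepByAlgSpWith (AlgSp.LocP @LocallyOfFiniteType) (FibCat.diag (FibCat.toSelf X)) := by
  obtain ⟨U, u, hu, hus⟩ := hA
  let t := FibCat.toSelf X
  haveI hS : FibCat.IsFibGrpd (FibCat.selfOver (Over S)).p := isFibGrpd_selfOver
  haveI : FibCat.IsFibGrpd (FibCat.overCat U).p := isFibGrpd_overCat U
  let q := BasedFunctor.comp u t
  haveI : FibCat.IsFibGrpd (FibCat.fp q q).p := H9Fib.isFibGrpd_fp _ _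
  haveI : FibCat.IsFibGrpd (FibCat.fp t t).p := H9Fib.isFibGrpd_fp _ _
  haveI : FibCat.IsFibGrpd (FibCat.fp u u).p := H9Fib.isFibGrpd_fp _ _
  haveI : FibCat.IsFibGrpd (FibCat.fp (pair u u t) (FibCat.diag t)).p := H9Fib.isFibGrpd_fp _ _
  have hlft : ∀ {A B : AlgSt.Cat S} {f : A ⥤ᵇ B}, AlgSt.RepByAlgSpWith (AlgSp.LocP @Smooth) f →
      AlgSt.RepByAlgSpWith (AlgSp.LocP @LocallyOfFiniteType) f := fun h V y => (h V y).imp fun F ⟨e, he, hP⟩ =>
    ⟨e, he, ASp.locP_mono (fun _ _ f (_ : Smooth f) => (inferInstance : LocallyOfFiniteType f)) hP⟩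
  have h1 : AlgSt.RepByAlgSpWith (AlgSp.LocP @LocallyOfFiniteType) (BasedFunctor.comp (cmp u u t) (FibCat.fpFst q q)) :=
    (repByAlgSpWith_congr (f := BasedFunctor.comp (cmp u u t) (FibCat.fpFst q q)) (f' := FibCat.fpFst u u)
      (BasedFunctor.id _) (BasedFunctor.id _) (H9Fib.isEquivOver_id _) (H9Fib.isEquivOver_id _) (Iso.refl _)).2
      (repByAlgSpWith_fpFst u u (hlft hu))
  have hq : AlgSt.RepByAlgSp1 q := repByAlgSp1_of_repByAlgSp (repByAlgSp_overCat U) repByAlgSp_selfOver q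
  have h2 := repWith_of_comp standard_lft (cmp u u t) (FibCat.fpFst q q) h1
    (repWith_diag_of_rep1 ((repByAlgSp1_iff_with _).2 (repByAlgSpWith_fpFst q q ((repByAlgSp1_iff_with _).1 hq)))
      fun F U m _ hm => MonoLFT.lft hm)
  have h3 : AlgSt.RepByAlgSpWith (AlgSp.LocP @LocallyOfFiniteType) (FibCat.fpFst (pair u u t) (FibCat.diag t)) :=
    (repByAlgSpWith_congr (f := FibCat.fpFst (pair u u t) (FibCat.diag t)) (f' := cmp u u t) (cmpEquiv u u t)
      (BasedFunctor.id _) (isEquivOver_cmpEquiv u u t) (H9Fib.isEquivOver_id _) (Iso.refl _)).2 h2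
  have hp := repWith_pair standard_smooth u t hu
  refine repWith_of_fpFst_cover _ standard_lft.bc standard_lft.loc hΔ (pair u u t) ?_ ?_ ?_ h3
  · exact fun V y => (hp V y).imp fun F ⟨e, he, hP⟩ =>
      ⟨e, he, ASp.locP_mono (fun _ _ f (_ : Smooth f) => (inferInstance : Flat f)) hP⟩
  · exact fun V y => (hp V y).imp fun F ⟨e, he, hP⟩ =>
      ⟨e, he, ASp.locP_mono (fun _ _ f (_ : Smooth f) => (inferInstance : LocallyOfFinitePresentation f)) hP⟩
  · have htop := (repByAlgSp1_iff_with _).2 (repWith_pair standard_top u t ((repByAlgSp1_iff_with _).1 (rep1_of_with hu)))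
    haveI := respectsIso_isSurjectiveMor (S := S)
    haveI : FibCat.IsFibGrpd (FibCat.fp q t).p := H9Fib.isFibGrpd_fp _ _
    haveI : FibCat.IsFibGrpd (FibCat.fp t q).p := H9Fib.isFibGrpd_fp _ _
    refine standard_surjective_rep htop fun z => ?_
    obtain ⟨z₁, rfl⟩ := isSurjective_of_rep (repWith_bcFun u t t hus) z
    let m : FibCat.fp q q ⥤ᵇ FibCat.fp q t :=
      BasedFunctor.comp (BasedFunctor.comp (swapFun q q) (bcFun u t q)) (swapFun t q)
    have hm : AlgSt.RepByAlgSpWith AlgSp.IsSurjectiveMor m :=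
      (repByAlgSpWith_congr (f := bcFun u t q) (f' := m) (swapFun q q) (swapFun q t) (isEquivOver_swap _ _)
        (isEquivOver_swap _ _) (BasedNatIso.mkNatIso (Iso.refl _) fun w => IsHomLift.id
          ((BasedFunctor.comp m (swapFun q t)).w_obj w))).1
        (repWith_bcFun u t q hus)
    obtain ⟨z₀, rfl⟩ := isSurjective_of_rep hm z₁
    refine ⟨z₀, ?_⟩
    obtain ⟨z₀, rfl⟩ := AlgSt.Points.mk_surjective z₀
    exact congrArg AlgSt.Points.mk rfl

/-- The diagonal of a morphism of algebraic stacks is locally of finite type. -/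
theorem lft_diag {K : Precoverage Scheme.{u}} {X Y : AlgSt.Cat S} (hX : AlgSt.IsAlgStack K X)
    (hY : AlgSt.IsAlgStack K Y) (f : X ⥤ᵇ Y) :
    AlgSt.RepByAlgSpWith (AlgSp.LocP @LocallyOfFiniteType) (FibCat.diag f) := by
  haveI := hX.isStack.1; haveI := hY.isStack.1
  haveI : FibCat.IsFibGrpd (FibCat.selfOver (Over S)).p := isFibGrpd_selfOver
  refine repWith_diag_of_comp standard_lft f (FibCat.toSelf Y) ?_
    (repWith_diag_of_rep1 ((repByAlgSp1_iff_with _).2 (repWith_cmp f f (FibCat.toSelf Y) ((repByAlgSp1_iff_with _).1 hY.diag)))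
      fun F U m _ hm => MonoLFT.lft hm)
  rw [comp_toSelf]
  exact lft_diag_toSelf hX.diag hX.atlas

end Groth.Agent.H9St
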