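import Groth.Agent.Lib.AlgSpLocalRows
import Groth.Agent.Lib.AlgSpTop
/-! Properties smooth local on source and target, from properties of schemes. -/

set_option autoImplicit false
set_option linter.style.haveILetI false
set_option linter.unusedVariables false
set_option linter.unusedSectionVars false
set_option backward.isDefEq.respectTransparency.types false

universe u

open CategoryTheory CategoryTheory.Limits AlgebraicGeometry Opposite AlgSp

noncomputable section

namespace Groth.Agent.ASp

variable {S : Scheme.{u}}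

/-- A property of morphisms of schemes held by smooth morphisms and descending along smooth coverings of the source. -/
class SmSource (P : MorphismProperty Scheme.{u}) : Prop extends EtaleLocal P, IsZariskiLocalAtSource P where
  of_smooth : ∀ {A B : Scheme.{u}} (f : A ⟶ B), Smooth f → P f
  source_smooth : ∀ {A' A B : Scheme.{u}} (a : A' ⟶ A) (g : A ⟶ B), Smooth a → Surjective a → P (a ≫ g) → P g

instance : SmSource (@Flat : MorphismProperty Scheme.{u}) where
  of_smooth f (_ : Smooth f) := (inferInstance : Flat f)
  source_smooth a g _ _ (_ : Flat (a ≫ g)) := H6.flat_cancel a g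

instance : SmSource (@LocallyOfFiniteType : MorphismProperty Scheme.{u}) where
  of_smooth f (_ : Smooth f) := (inferInstance : LocallyOfFiniteType f)
  source_smooth a g _ _ (_ : LocallyOfFiniteType (a ≫ g)) := SourceDescent.locallyOfFiniteType_of_smooth a g

instance : SmSource (@LocallyOfFinitePresentation : MorphismProperty Scheme.{u}) where
  of_smooth f (_ : Smooth f) := (inferInstance : LocallyOfFinitePresentation f)
  source_smooth a g _ _ (_ : LocallyOfFinitePresentation (a ≫ g)) :=
    SourceDescent.locallyOfFinitePresentation_of_smooth a g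

variable {P : MorphismProperty Scheme.{u}} [SmSource P]

theorem locP_of_smooth {F G : Sp S} {f : F ⟶ G} (h : LocP @Smooth f) : LocP P f :=
  locP_mono (fun _ _ g hg => SmSource.of_smooth g hg) h

/-- `LocP P` descends along jointly surjective smooth morphisms to the source. -/
theorem locP_of_smooth_source {X Y : Sp S} (hY : IsAlgSpace Y) (hX : IsAlgSpace X) {f : X ⟶ Y}
    (h : ∀ x : Points X, ∃ (A : Sp S) (a : A ⟶ X) (v : Points A), IsAlgSpace A ∧ LocP @Smooth a ∧
      Points.map a v = x ∧ LocP P (a ≫ f)) : LocP P f := by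
  intro U V a₀ b₀ α ha₀ hb₀ e
  have key : ∀ u : ↥U.left, ∃ (W : Over S) (c : W ⟶ U), Smooth c.left ∧ P (c ≫ α).left ∧ u ∈ Set.range c.left := by
    intro u
    obtain ⟨A, a, v, hA, has, hv, hP⟩ := h (Points.ofPt a₀ u)
    have sq := IsPullback.of_hasPullback a₀ a
    have hQ : IsAlgSpace (pullback a₀ a) := isAlgSpace_pullback a₀ a (IsAlgSpace.yon_obj U) hA hX
    obtain ⟨W, q, hqe, hqs⟩ := hQ.atlas
    obtain ⟨c, hc⟩ := (yon S).map_surjective (q ≫ pullback.fst a₀ a)
    have hsm : LocP @Smooth (pullback.fst a₀ a) := locP_baseChange hA hX (IsAlgSpace.yon_obj U) sq.flip has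
    refine ⟨W, c, hsm q (𝟙 _) c hqe (repWith_id _ U) (hc.symm.trans (Category.comp_id _).symm), ?_, ?_⟩
    · refine hP (q ≫ pullback.snd a₀ a) b₀ (c ≫ α) (repWith_comp hqe (repWith_baseChange sq ha₀)) hb₀ ?_
      rw [Category.assoc, ← pullback.condition_assoc, e, Functor.map_comp, Category.assoc, hc, Category.assoc]
    · obtain ⟨p, hp, -⟩ := exists_of_isPullback sq (Points.schemeHomeo U u) v
        (by rw [hv, Points.ofPt_eq_map_ofScheme]; rfl)
      obtain ⟨w, rfl⟩ := surjective_ofPt_of_repWith hqs p
      refine ⟨w, (Points.schemeHomeo U).injective ?_⟩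
      rw [← hp, ← Points.map_yon_map_apply, hc, Points.map_comp, Points.ofPt_eq_map_ofScheme]
      rfl
  choose W c hc hP hu using key
  let d : (∐ fun u => (W u).left) ⟶ U.left := Sigma.desc fun u => (c u).left
  have hd : ∀ u, Sigma.ι (fun u => (W u).left) u ≫ d = (c u).left := Sigma.ι_desc _
  have : Smooth d := (IsZariskiLocalAtSource.iff_of_openCover (P := @Smooth) (sigmaOpenCover _)).2 fun u => by
    change Smooth (Sigma.ι (fun u => (W u).left) u ≫ d)
    rw [hd]
    exact hc u
  have : Surjective d := ⟨fun u => by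
    obtain ⟨w, hw⟩ := hu u
    exact ⟨Sigma.ι (fun u => (W u).left) u w, by rw [← Scheme.Hom.comp_apply, hd, hw]⟩⟩
  refine SmSource.source_smooth d α.left inferInstance inferInstance ?_
  refine (IsZariskiLocalAtSource.iff_of_openCover (P := P) (sigmaOpenCover _)).2 fun u => ?_
  change P (Sigma.ι (fun u => (W u).left) u ≫ d ≫ α.left)
  rw [← Category.assoc, hd, ← Over.comp_left]
  exact hP u

theorem isSmoothLocalST_locP : IsSmoothLocalST (LocP (S := S) P) where
  precomp _ _ _ hX hY hZ f g hf hg := locP_comp hX hY hZ (locP_of_smooth hf) hg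
  baseChange _ _ _ _ hX hY hX' hY' f g f' g' sq _ hf := locP_baseChange hX hY hY' sq hf
  locality X Y hX hY f := by
    constructor
    · intro hf x
      exact ⟨X, Y, 𝟙 X, 𝟙 Y, f, x, hX, hY, locP_smooth_id hX, locP_smooth_id hY,
        by rw [Category.id_comp, Category.comp_id], Points.map_id x, hf⟩
    · intro h
      refine locP_of_smooth_source hY hX fun x => ?_
      obtain ⟨U, V, a, b, k, v, hU, hV, ha, hb, e, hv, hk⟩ := h x
      exact ⟨U, a, v, hU, ha, hv, e ▸ locP_comp hU hV hY hk (locP_of_smooth hb)⟩
where
  locP_smooth_id {A : Sp S} (hA : IsAlgSpace A) : LocP @Smooth (𝟙 A) :=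
    locP_mono (fun _ _ f (_ : Etale f) => (inferInstance : Smooth f))
      (fun U V a b α ha hb hab => etale_of_charts α (by rwa [Category.comp_id] at *) hb hab.symm)

end Groth.Agent.ASp
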