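import Groth.Agent.Lib.H9StUniv
import Groth.Agent.Lib.H9StLocST
/-! Smooth charts of algebraic stacks and properties read on them. -/

set_option autoImplicit false
set_option linter.style.haveILetI false
set_option linter.unusedVariables false
set_option linter.unusedSectionVars false
set_option backward.isDefEq.respectTransparency.types false

universe u

open CategoryTheory CategoryTheory.Limits AlgebraicGeometry Opposite

noncomputable section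

namespace Groth.Agent.H9St

open H9Diag

variable {S : Scheme.{u}}

/-- A morphism of slices comes from a morphism of schemes. -/
theorem exists_overMap {U V : Over S} (F : FibCat.overCat U ⥤ᵇ FibCat.overCat V) :
    ∃ h : U ⟶ V, Nonempty (F ≅ AlgSt.overMap h) := by
  haveI : FibCat.IsFibGrpd (FibCat.overCat U).p := isFibGrpd_overCat U
  haveI : FibCat.IsFibGrpd (FibCat.overCat V).p := isFibGrpd_overCat V
  obtain ⟨h, hh⟩ := (AlgSp.yon S).map_surjective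
    (ObjectProperty.homMk ((clsOverCat U).inv ≫ clsMap F ≫ (clsOverCat V).hom))
  refine ⟨h, exists_iso_of_clsMap_eq ?_⟩
  rw [← cancel_mono (clsOverCat V).hom, clsMap_overMap, ← Iso.inv_comp_eq]
  exact (congrArg (fun k => (ASp.toP S).map k) hh).symm

variable {X Y : AlgSt.Cat S} [hX : FibCat.IsFibGrpd X.p] [hY : FibCat.IsFibGrpd Y.p]

/-- The map to the scheme along the second leg has the property of the first leg. -/
theorem prop_sndU {Q : MorphismProperty (AlgSp.Sp S)} [Q.RespectsIso] {f : X ⥤ᵇ Y}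
    (hf : AlgSt.RepByAlgSpWith Q f) {U : Over S} (y : FibCat.overCat U ⥤ᵇ Y)
    [FibCat.IsFibGrpd (FibCat.overCat U).p] (hsh : Presheaf.IsSheaf (AlgSp.J S) (clsPsh (FibCat.fp f y))) :
    Q (ObjectProperty.homMk (clsMap (FibCat.fpSnd f y) ≫ (clsOverCat U).hom) :
      (⟨clsPsh (FibCat.fp f y), hsh⟩ : AlgSp.Sp S) ⟶ (AlgSp.yon S).obj U) := by
  haveI : FibCat.IsFibGrpd (FibCat.fp f y).p := H9Fib.isFibGrpd_fp _ _
  haveI : FibCat.IsFibGrpd (FibCat.fp y f).p := H9Fib.isFibGrpd_fp _ _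
  obtain ⟨hd, hsh', hA, hQ⟩ := (repByAlgSpWith_iff f).1 hf U y
  haveI := isIso_clsMap (isEquivOver_swap f y)
  let i : (⟨clsPsh (FibCat.fp f y), hsh⟩ : AlgSp.Sp S) ≅ ⟨clsPsh (FibCat.fp y f), hsh'⟩ :=
    (fullyFaithfulSheafToPresheaf (AlgSp.J S) (Type (u + 1))).preimageIso
      (X := (⟨clsPsh (FibCat.fp f y), hsh⟩ : AlgSp.Sp S)) (Y := (⟨clsPsh (FibCat.fp y f), hsh'⟩ : AlgSp.Sp S))
      (asIso (clsMap (swapFun f y)))
  have e : (ObjectProperty.homMk (clsMap (FibCat.fpSnd f y) ≫ (clsOverCat U).hom) :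
      (⟨clsPsh (FibCat.fp f y), hsh⟩ : AlgSp.Sp S) ⟶ (AlgSp.yon S).obj U) =
      i.hom ≫ ObjectProperty.homMk (projU y f) := ObjectProperty.hom_ext _ (by
    show clsMap (FibCat.fpSnd f y) ≫ _ = clsMap (swapFun f y) ≫ clsMap (FibCat.fpFst y f) ≫ _
    rw [← Category.assoc (clsMap (swapFun f y)), ← clsMap_comp]
    rfl)
  rw [e, Q.cancel_left_of_respectsIso]
  exact hQ

theorem mk_iso {A B : AlgSt.Cat S} [FibCat.IsFibGrpd A.p] [FibCat.IsFibGrpd B.p] (e : A ⥤ᵇ B)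
    (he : FibCat.IsEquivOver e) (hs : Presheaf.IsSheaf (AlgSp.J S) (clsPsh A))
    (hs' : Presheaf.IsSheaf (AlgSp.J S) (clsPsh B)) :
    ∃ i : (⟨clsPsh A, hs⟩ : AlgSp.Sp S) ≅ ⟨clsPsh B, hs'⟩, i.hom.hom = clsMap e := by
  haveI := isIso_clsMap he
  exact ⟨(fullyFaithfulSheafToPresheaf (AlgSp.J S) (Type (u + 1))).preimageIso
    (X := (⟨clsPsh A, hs⟩ : AlgSp.Sp S)) (Y := (⟨clsPsh B, hs'⟩ : AlgSp.Sp S)) (asIso (clsMap e)), rfl⟩

/-- Master comparison: a property read on one square of charts holds on every square. -/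
theorem prop_of_chart_square {P : MorphismProperty (AlgSp.Sp S)} (hP : AlgSp.IsSmoothLocalST P)
    (hΔ : AlgSt.RepByAlgSp1 (FibCat.diag (FibCat.toSelf Y))) {f : X ⥤ᵇ Y} {U₀ V₀ : Over S}
    {x₀ : FibCat.overCat U₀ ⥤ᵇ X} {y₀ : FibCat.overCat V₀ ⥤ᵇ Y} {h₀ : U₀ ⟶ V₀}
    (α₀ : BasedFunctor.comp x₀ f ≅ BasedFunctor.comp (AlgSt.overMap h₀) y₀)
    (hx₀ : AlgSt.RepByAlgSpWith (AlgSp.LocP @Smooth) x₀) (hxs₀ : AlgSt.RepByAlgSpWith AlgSp.IsSurjectiveMor x₀)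
    (hy₀ : AlgSt.RepByAlgSpWith (AlgSp.LocP @Smooth) y₀) (hP₀ : P ((AlgSp.yon S).map h₀))
    {U V : Over S} (y : FibCat.overCat V ⥤ᵇ Y) (t : FibCat.overCat U ⥤ᵇ FibCat.fp f y)
    (ht : AlgSt.RepByAlgSpWith (AlgSp.LocP @Smooth) t) (h : U ⟶ V)
    (e : BasedFunctor.comp t (FibCat.fpSnd f y) ≅ AlgSt.overMap h)
    (hbc : AlgSt.RepByAlgSpWith (AlgSp.LocP @Smooth) y ∨
      ∀ ⦃X₁ Y₁ X₂ Y₂ : AlgSp.Sp S⦄, AlgSp.IsAlgSpace X₁ → AlgSp.IsAlgSpace Y₁ → AlgSp.IsAlgSpace X₂ →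
        AlgSp.IsAlgSpace Y₂ → ∀ (a : X₁ ⟶ Y₁) (b : Y₂ ⟶ Y₁) (a' : X₂ ⟶ Y₂) (b' : X₂ ⟶ X₁),
          IsPullback b' a' a b → P a → P a') :
    P ((AlgSp.yon S).map h) := by
  haveI : FibCat.IsFibGrpd (FibCat.overCat U).p := isFibGrpd_overCat U
  haveI : FibCat.IsFibGrpd (FibCat.overCat U₀).p := isFibGrpd_overCat U₀
  haveI : FibCat.IsFibGrpd (FibCat.overCat V).p := isFibGrpd_overCat V
  haveI : FibCat.IsFibGrpd (FibCat.overCat V₀).p := isFibGrpd_overCat V₀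
  haveI := respectsIso_isSurjectiveMor (S := S)
  let y₀' := BasedFunctor.comp (AlgSt.overMap h₀) y₀
  haveI : FibCat.IsFibGrpd (FibCat.fp f y).p := H9Fib.isFibGrpd_fp _ _
  haveI : FibCat.IsFibGrpd (FibCat.fp y₀ y).p := H9Fib.isFibGrpd_fp _ _
  haveI : FibCat.IsFibGrpd (FibCat.fp y₀' y).p := H9Fib.isFibGrpd_fp _ _
  haveI : FibCat.IsFibGrpd (FibCat.fp (BasedFunctor.comp x₀ f) y).p := H9Fib.isFibGrpd_fp _ _
  have hy : AlgSt.RepByAlgSp1 y := rep1_from_space hΔ (repByAlgSp_overCat V) y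
  obtain ⟨dB, sB, aB⟩ := repByAlgSp_iff.1 (hy V₀ y₀)
  obtain ⟨dB', sB', aB'⟩ := repByAlgSp_iff.1 (hy U₀ y₀')
  obtain ⟨dT, sT, aT⟩ := repByAlgSp_iff.1 (hy U₀ (BasedFunctor.comp x₀ f))
  let c := bcFun x₀ f y
  have hcr : AlgSt.RepByAlgSpWith (AlgSp.LocP @Smooth) c := repWith_bcFun x₀ f y hx₀
  have hcs : AlgSt.RepByAlgSpWith AlgSp.IsSurjectiveMor c := repWith_bcFun x₀ f y hxs₀
  haveI : FibCat.IsFibGrpd (FibCat.fp c t).p := H9Fib.isFibGrpd_fp _ _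
  have hTr : AlgSt.RepByAlgSp (FibCat.fp (BasedFunctor.comp x₀ f) y) := hy U₀ _
  obtain ⟨dA, sA, aA⟩ := repByAlgSp_iff.1 (repByAlgSp_fp (rep1_of_with ht) hTr c)
  let A : AlgSp.Sp S := ⟨clsPsh (FibCat.fp c t), sA⟩
  let T : AlgSp.Sp S := ⟨clsPsh (FibCat.fp (BasedFunctor.comp x₀ f) y), sT⟩
  let B' : AlgSp.Sp S := ⟨clsPsh (FibCat.fp y₀' y), sB'⟩
  let B : AlgSp.Sp S := ⟨clsPsh (FibCat.fp y₀ y), sB⟩
  let a : A ⟶ (AlgSp.yon S).obj U := ObjectProperty.homMk (clsMap (FibCat.fpSnd c t) ≫ (clsOverCat U).hom)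
  let k : A ⟶ T := ObjectProperty.homMk (clsMap (FibCat.fpFst c t))
  let G := fpCongr (g := y₀') (f := y) (g' := BasedFunctor.comp x₀ f) (f' := y)
    (BasedFunctor.id (FibCat.overCat U₀)) (BasedFunctor.id (FibCat.overCat V)) (BasedFunctor.id Y) α₀ (Iso.refl _)
  obtain ⟨iG, hiG⟩ := mk_iso G (isEquivOver_fpCongr (g := y₀') (f := y) (g' := BasedFunctor.comp x₀ f) (f' := y)
    (α := BasedFunctor.id (FibCat.overCat U₀)) (a := BasedFunctor.id (FibCat.overCat V)) (β := BasedFunctor.id Y)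
    α₀ (Iso.refl _) (H9Fib.isEquivOver_id _) (H9Fib.isEquivOver_id _) (H9Fib.isEquivOver_id _)) sT sB'
  let r : B' ⟶ B := ObjectProperty.homMk (clsMap (bcFun (AlgSt.overMap h₀) y₀ y))
  let q : B' ⟶ (AlgSp.yon S).obj U₀ := ObjectProperty.homMk (projU y₀' y)
  let b₀ : B ⟶ (AlgSp.yon S).obj V₀ := ObjectProperty.homMk (projU y₀ y)
  let b : B ⟶ (AlgSp.yon S).obj V := ObjectProperty.homMk (clsMap (FibCat.fpSnd y₀ y) ≫ (clsOverCat V).hom)
  haveI := dB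
  have sq₀ : IsPullback (clsMap (bcFun (AlgSt.overMap h₀) y₀ y)) (projU y₀' y) (projU y₀ y) ((AlgSp.pyon S).map h₀) :=
    (isPullback_bc (AlgSt.overMap h₀) y₀ y).of_iso (Iso.refl _) (Iso.refl _) (clsOverCat U₀) (clsOverCat V₀)
      (by simp) (by simp [projU]; rfl) (by simp [projU]) (clsMap_overMap h₀)
  have sq : IsPullback q r ((AlgSp.yon S).map h₀) b₀ :=
    (IsPullback.of_map (ASp.toP S) (h := b₀) (i := (AlgSp.yon S).map h₀) (f := r) (g := q)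
      (ObjectProperty.hom_ext _ sq₀.w) sq₀).flip
  have hU := AlgSp.IsAlgSpace.yon_obj U
  have hU₀ := AlgSp.IsAlgSpace.yon_obj U₀
  have hV₀ := AlgSp.IsAlgSpace.yon_obj V₀
  have hr : P r := by
    rcases hbc with hys | hPb
    · obtain ⟨_, _, _, hb₀⟩ := (repByAlgSpWith_iff y).1 hys V₀ y₀
      exact hP.baseChange hU₀ hV₀ aB' aB _ b₀ r q sq hb₀ hP₀
    · exact hPb hU₀ hV₀ aB' aB _ b₀ r q sq hP₀
  have hk : AlgSp.LocP @Smooth k :=
    prop_clsMap_fpFst _ standard_smooth.bc standard_smooth.loc ht c sT aT sA aA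
  have hG : AlgSp.LocP @Smooth iG.hom := locP_smooth_of_iso _
  have hm : P ((k ≫ iG.hom) ≫ r) :=
    hP.precomp aA aB' aB _ r (ASp.locP_comp aA aT aB' hk hG) hr
  refine (hP.locality hU (AlgSp.IsAlgSpace.yon_obj V) _).2 fun x => ?_
  obtain ⟨v, hv⟩ := prop_sndU hcs t sA x
  refine ⟨A, B, a, b, (k ≫ iG.hom) ≫ r, v, aA, aB, prop_sndU hcr t sA, prop_sndU hy₀ y sB, ?_, hv, hm⟩
  refine ObjectProperty.hom_ext _ ?_
  show (clsMap (FibCat.fpSnd c t) ≫ (clsOverCat U).hom) ≫ (AlgSp.pyon S).map h =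
    ((clsMap (FibCat.fpFst c t) ≫ iG.hom.hom) ≫ clsMap (bcFun (AlgSt.overMap h₀) y₀ y)) ≫
      clsMap (FibCat.fpSnd y₀ y) ≫ (clsOverCat V).hom
  rw [hiG, Category.assoc, ← clsMap_overMap h]
  simp only [← Category.assoc, ← clsMap_comp]
  congr 1
  refine clsMap_congr ((H9Fib.wLeft (FibCat.fpSnd c t) e).symm ≪≫
    (H9Fib.wRight (FibCat.fpIso c t) (FibCat.fpSnd f y)).symm ≪≫ eqToIso rfl)

end Groth.Agent.H9St

namespace Groth.Agent.H9St

open H9Diag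

variable {S : Scheme.{u}} {X Y : AlgSt.Cat S}

theorem overMap_comp_iso {U V W : Over S} (a : U ⟶ V) (b : V ⟶ W) :
    Nonempty (BasedFunctor.comp (AlgSt.overMap a) (AlgSt.overMap b) ≅ AlgSt.overMap (a ≫ b)) := by
  haveI : FibCat.IsFibGrpd (FibCat.overCat U).p := isFibGrpd_overCat U
  haveI : FibCat.IsFibGrpd (FibCat.overCat V).p := isFibGrpd_overCat V
  haveI : FibCat.IsFibGrpd (FibCat.overCat W).p := isFibGrpd_overCat W
  refine exists_iso_of_clsMap_eq ?_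
  rw [← cancel_mono (clsOverCat W).hom, clsMap_overMap, clsMap_comp, Category.assoc, clsMap_overMap,
    ← Category.assoc, clsMap_overMap, Category.assoc, Functor.map_comp]

theorem surjective_comp {Z : AlgSt.Cat S} [FibCat.IsFibGrpd X.p] [FibCat.IsFibGrpd Y.p] [FibCat.IsFibGrpd Z.p]
    {f : X ⥤ᵇ Y} {g : Y ⥤ᵇ Z} (hfg : AlgSt.RepByAlgSp1 (BasedFunctor.comp f g))
    (hf : AlgSt.RepByAlgSpWith AlgSp.IsSurjectiveMor f) (hg : AlgSt.RepByAlgSpWith AlgSp.IsSurjectiveMor g) :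
    AlgSt.RepByAlgSpWith AlgSp.IsSurjectiveMor (BasedFunctor.comp f g) := by
  refine standard_surjective_rep hfg fun z => ?_
  obtain ⟨y, rfl⟩ := isSurjective_of_rep hg z
  obtain ⟨x, rfl⟩ := isSurjective_of_rep hf y
  exact ⟨x, (points_map_comp f g x).symm⟩

/-- A chart of the source over a given smooth chart of the target. -/
theorem exists_square_over (hX : AlgSt.IsAlgStack Scheme.fppfPrecoverage X)
    (hY : AlgSt.IsAlgStack Scheme.fppfPrecoverage Y) (f : X ⥤ᵇ Y) {V : Over S} (y : FibCat.overCat V ⥤ᵇ Y)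
    (hy : AlgSt.RepByAlgSpWith (AlgSp.LocP @Smooth) y) :
    ∃ (U : Over S) (h : U ⟶ V) (x : FibCat.overCat U ⥤ᵇ X)
      (α : BasedFunctor.comp x f ≅ BasedFunctor.comp (AlgSt.overMap h) y),
      AlgSt.RepByAlgSpWith (AlgSp.LocP @Smooth) x ∧
      AlgSt.RepByAlgSpWith (AlgSp.LocP @Smooth) (FibCat.fpLift x (AlgSt.overMap h) α) ∧
      (AlgSt.RepByAlgSpWith AlgSp.IsSurjectiveMor y → AlgSt.RepByAlgSpWith AlgSp.IsSurjectiveMor x) := by
  haveI := hX.isStack.1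
  haveI := hY.isStack.1
  have hP := isAlgStack_fp' hX (isAlgStack_overCat V) hY f y
  haveI := hP.isStack.1
  haveI : FibCat.IsFibGrpd (FibCat.overCat V).p := isFibGrpd_overCat V
  obtain ⟨U, t, ht, hts⟩ := hP.atlas
  haveI : FibCat.IsFibGrpd (FibCat.overCat U).p := isFibGrpd_overCat U
  obtain ⟨h, ⟨j⟩⟩ := exists_overMap (BasedFunctor.comp t (FibCat.fpSnd f y))
  let α : BasedFunctor.comp (BasedFunctor.comp t (FibCat.fpFst f y)) f ≅ BasedFunctor.comp (AlgSt.overMap h) y :=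
    H9Fib.wLeft t (FibCat.fpIso f y) ≪≫ H9Fib.wRight j y
  let k : t ≅ FibCat.fpLift (BasedFunctor.comp t (FibCat.fpFst f y)) (AlgSt.overMap h) α :=
    BasedNatIso.mkNatIso (NatIso.ofComponents (fun w => (FibCat.fpProp f y).isoMk
        (CategoricalPullback.mkIso (Iso.refl _) ((NatIso.ofComponents
          (fun w => (⟨j.hom.toNatTrans.app w, j.inv.toNatTrans.app w,
            congrArg (fun q => q.toNatTrans.app w) j.hom_inv_id, congrArg (fun q => q.toNatTrans.app w) j.inv_hom_id⟩ :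
              (BasedFunctor.comp t (FibCat.fpSnd f y)).obj w ≅ (AlgSt.overMap h).obj w))
          (fun m => j.hom.toNatTrans.naturality m) :
            (BasedFunctor.comp t (FibCat.fpSnd f y)).toFunctor ≅ (AlgSt.overMap h).toFunctor).app w) (by
          show f.map (𝟙 _) ≫ (t.obj w).obj.iso.hom ≫ y.map (j.hom.toNatTrans.app w) =
            (t.obj w).obj.iso.hom ≫ y.map (j.hom.toNatTrans.app w)
          erw [f.toFunctor.map_id, Category.id_comp])))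
      (fun {w w'} m => ObjectProperty.hom_ext _ (CategoricalPullback.hom_ext
        ((Category.comp_id _).trans (Category.id_comp _).symm) (j.hom.toNatTrans.naturality m))))
      fun w => by
        refine IsHomLift.of_fac' _ _ _ (t.w_obj w) ((BasedFunctor.comp t (FibCat.fpFst f y)).w_obj w) ?_
        show X.p.map (𝟙 _) = _
        simp; rfl
  have hx : AlgSt.RepByAlgSpWith (AlgSp.LocP @Smooth) (BasedFunctor.comp t (FibCat.fpFst f y)) :=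
    repWith_comp standard_smooth ht (repByAlgSpWith_fpFst y f hy)
  exact ⟨U, h, _, α, hx, (repByAlgSpWith_congr (f := FibCat.fpLift _ (AlgSt.overMap h) α) (f' := t)
      (BasedFunctor.id _) (BasedFunctor.id _) (H9Fib.isEquivOver_id _) (H9Fib.isEquivOver_id _) k).2 ht,
    fun hys => surjective_comp (rep1_of_with hx) hts (repByAlgSpWith_fpFst y f hys)⟩

/-- The witness form of `LocQ` gives the property on every square of charts. -/
theorem prop_of_square {P : MorphismProperty (AlgSp.Sp S)} (hP : AlgSp.IsSmoothLocalST P)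
    (hX : AlgSt.IsAlgStack Scheme.fppfPrecoverage X) (hY : AlgSt.IsAlgStack Scheme.fppfPrecoverage Y)
    {f : X ⥤ᵇ Y} (hf : AlgSt.LocQ P f) {U V : Over S} {x : FibCat.overCat U ⥤ᵇ X} {y : FibCat.overCat V ⥤ᵇ Y}
    {h : U ⟶ V} (α : BasedFunctor.comp x f ≅ BasedFunctor.comp (AlgSt.overMap h) y)
    (ht : AlgSt.RepByAlgSpWith (AlgSp.LocP @Smooth) (FibCat.fpLift x (AlgSt.overMap h) α))
    (hy : AlgSt.RepByAlgSpWith (AlgSp.LocP @Smooth) y) : P ((AlgSp.yon S).map h) := by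
  haveI := hX.isStack.1
  haveI := hY.isStack.1
  obtain ⟨U₀, V₀, x₀, y₀, h₀, α₀, hx₀, hxs₀, hy₀, hP₀⟩ := hf
  exact prop_of_chart_square hP hY.diag α₀ hx₀ hxs₀ hy₀ hP₀ y _ ht h (eqToIso rfl) (Or.inl hy)

theorem locQ_iff_squares {P : MorphismProperty (AlgSp.Sp S)} (hP : AlgSp.IsSmoothLocalST P)
    (hX : AlgSt.IsAlgStack Scheme.fppfPrecoverage X) (hY : AlgSt.IsAlgStack Scheme.fppfPrecoverage Y)
    (f : X ⥤ᵇ Y) : AlgSt.LocQ P f ↔ ∀ (U V : Over S) (x : FibCat.overCat U ⥤ᵇ X) (y : FibCat.overCat V ⥤ᵇ Y)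
      (h : U ⟶ V) (α : BasedFunctor.comp x f ≅ BasedFunctor.comp (AlgSt.overMap h) y),
      AlgSt.RepByAlgSpWith (AlgSp.LocP @Smooth) x → AlgSt.RepByAlgSpWith (AlgSp.LocP @Smooth) y →
      AlgSt.RepByAlgSpWith (AlgSp.LocP @Smooth) (FibCat.fpLift x (AlgSt.overMap h) α) → P ((AlgSp.yon S).map h) := by
  refine ⟨fun hf U V x y h α _ hy ht => prop_of_square hP hX hY hf α ht hy, fun H => ?_⟩
  obtain ⟨V, y, hy, hys⟩ := hY.atlas
  obtain ⟨U, h, x, α, hx, ht, hxs⟩ := exists_square_over hX hY f y hy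
  exact ⟨U, V, x, y, h, α, hx, hxs hys, hy, H U V x y h α hx hy ht⟩

theorem locQ_comp {P : MorphismProperty (AlgSp.Sp S)} (hP : AlgSp.IsSmoothLocalST P)
    (hPc : ∀ ⦃X₁ Y₁ Z₁ : AlgSp.Sp S⦄, AlgSp.IsAlgSpace X₁ → AlgSp.IsAlgSpace Y₁ → AlgSp.IsAlgSpace Z₁ →
      ∀ (a : X₁ ⟶ Y₁) (b : Y₁ ⟶ Z₁), P a → P b → P (a ≫ b))
    {Z : AlgSt.Cat S} (hX : AlgSt.IsAlgStack Scheme.fppfPrecoverage X) (hY : AlgSt.IsAlgStack Scheme.fppfPrecoverage Y)
    (hZ : AlgSt.IsAlgStack Scheme.fppfPrecoverage Z) {f : X ⥤ᵇ Y} {g : Y ⥤ᵇ Z} (hf : AlgSt.LocQ P f)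
    (hg : AlgSt.LocQ P g) : AlgSt.LocQ P (BasedFunctor.comp f g) := by
  obtain ⟨W, z, hz, hzs⟩ := hZ.atlas
  obtain ⟨V, b, y, β, hy, htg, hys⟩ := exists_square_over hY hZ g z hz
  obtain ⟨U, a, x, α, hx, htf, hxs⟩ := exists_square_over hX hY f y hy
  obtain ⟨j⟩ := overMap_comp_iso a b
  refine ⟨U, W, x, z, a ≫ b, ?_, hx, hxs (hys hzs), hz, ?_⟩
  · exact H9Fib.wRight α g ≪≫ H9Fib.wLeft (AlgSt.overMap a) β ≪≫ H9Fib.wRight j z
  · rw [Functor.map_comp]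
    exact hPc (AlgSp.IsAlgSpace.yon_obj U) (AlgSp.IsAlgSpace.yon_obj V) (AlgSp.IsAlgSpace.yon_obj W) _ _
      (prop_of_square hP hX hY hf α htf hy) (prop_of_square hP hY hZ hg β htg hz)

theorem locQ_fpFst {P : MorphismProperty (AlgSp.Sp S)} (hP : AlgSp.IsSmoothLocalST P)
    (hPb : ∀ ⦃X₁ Y₁ X₂ Y₂ : AlgSp.Sp S⦄, AlgSp.IsAlgSpace X₁ → AlgSp.IsAlgSpace Y₁ → AlgSp.IsAlgSpace X₂ →
      AlgSp.IsAlgSpace Y₂ → ∀ (a : X₁ ⟶ Y₁) (b : Y₂ ⟶ Y₁) (a' : X₂ ⟶ Y₂) (b' : X₂ ⟶ X₁),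
        IsPullback b' a' a b → P a → P a')
    {Y' : AlgSt.Cat S} (hX : AlgSt.IsAlgStack Scheme.fppfPrecoverage X) (hY : AlgSt.IsAlgStack Scheme.fppfPrecoverage Y)
    (hY' : AlgSt.IsAlgStack Scheme.fppfPrecoverage Y') {f : X ⥤ᵇ Y} (g : Y' ⥤ᵇ Y) (hf : AlgSt.LocQ P f) :
    AlgSt.LocQ P (FibCat.fpFst g f) := by
  haveI := hX.isStack.1
  haveI := hY.isStack.1
  haveI := hY'.isStack.1
  obtain ⟨V, y', hy', hys'⟩ := hY'.atlas
  haveI : FibCat.IsFibGrpd (FibCat.overCat V).p := isFibGrpd_overCat V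
  let y := BasedFunctor.comp y' g
  have hA := isAlgStack_fp' hX (isAlgStack_overCat V) hY f y
  have hB := isAlgStack_fp' (isAlgStack_overCat V) hX hY y f
  haveI := hA.isStack.1
  haveI := hB.isStack.1
  haveI := (isAlgStack_fp' hY' hX hY g f).isStack.1
  obtain ⟨U, t, ht, hts⟩ := hA.atlas
  haveI : FibCat.IsFibGrpd (FibCat.overCat U).p := isFibGrpd_overCat U
  obtain ⟨h, ⟨j⟩⟩ := exists_overMap (BasedFunctor.comp t (FibCat.fpSnd f y))
  obtain ⟨U₀, V₀, x₀, y₀, h₀, α₀, hx₀, hxs₀, hy₀, hP₀⟩ := hf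
  have hh : P ((AlgSp.yon S).map h) :=
    prop_of_chart_square hP hY.diag α₀ hx₀ hxs₀ hy₀ hP₀ y t ht h j (Or.inr hPb)
  have hs₁ : AlgSt.RepByAlgSpWith (AlgSp.LocP @Smooth) (BasedFunctor.comp t (swapFun f y)) :=
    repWith_comp standard_smooth ht (repByAlgSpWith_of_isEquivOver (fun m _ => locP_smooth_of_iso m) (isEquivOver_swap _ _))
  have hx := repWith_comp standard_smooth hs₁ (repWith_bcFun y' g f hy')
  refine ⟨U, V, _, y', h, ?_, hx, surjective_comp (rep1_of_with hx)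
    (surjective_comp (rep1_of_with hs₁) hts
      (repByAlgSpWith_of_isEquivOver (fun m _ => isSurjectiveMor_of_iso m) (isEquivOver_swap _ _)))
    (repWith_bcFun y' g f hys'), hy', hh⟩
  exact H9Fib.wRight j y'

/-- Charts of a representable morphism over a chart of the target. -/
theorem exists_chart_rep1 [FibCat.IsFibGrpd X.p] [FibCat.IsFibGrpd Y.p] {f : X ⥤ᵇ Y} (hf : AlgSt.RepByAlgSp1 f)
    {V : Over S} (y : FibCat.overCat V ⥤ᵇ Y) (hs : Presheaf.IsSheaf (AlgSp.J S) (clsPsh (FibCat.fp y f)))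
    (hA : AlgSp.IsAlgSpace (⟨clsPsh (FibCat.fp y f), hs⟩ : AlgSp.Sp S)) :
    ∃ (U : Over S) (a : (AlgSp.yon S).obj U ⟶ (⟨clsPsh (FibCat.fp y f), hs⟩ : AlgSp.Sp S)) (h : U ⟶ V)
      (t : FibCat.overCat U ⥤ᵇ FibCat.fp y f), AlgSp.RepWith @Etale a ∧ AlgSp.RepWith @Surjective a ∧
      a ≫ (ObjectProperty.homMk (projU y f) : (⟨clsPsh (FibCat.fp y f), hs⟩ : AlgSp.Sp S) ⟶ (AlgSp.yon S).obj V) =
        (AlgSp.yon S).map h ∧
      AlgSt.RepByAlgSpWith (AlgSp.LocP @Smooth) t ∧ AlgSt.RepByAlgSpWith AlgSp.IsSurjectiveMor t ∧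
      Nonempty (BasedFunctor.comp t (FibCat.fpFst y f) ≅ AlgSt.overMap h) := by
  haveI : FibCat.IsFibGrpd (FibCat.overCat V).p := isFibGrpd_overCat V
  haveI : FibCat.IsFibGrpd (FibCat.fp y f).p := H9Fib.isFibGrpd_fp _ _
  obtain ⟨hd, -, -⟩ := repByAlgSp_iff.1 (hf V y)
  haveI := hd
  haveI := respectsIso_isSurjectiveMor (S := S)
  let π : (⟨clsPsh (FibCat.fp y f), hs⟩ : AlgSp.Sp S) ⟶ (AlgSp.yon S).obj V := ObjectProperty.homMk (projU y f)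
  obtain ⟨U, a, hae, has⟩ := hA.atlas
  haveI : FibCat.IsFibGrpd (FibCat.overCat U).p := isFibGrpd_overCat U
  obtain ⟨h, hh⟩ := (AlgSp.yon S).map_surjective (a ≫ π)
  obtain ⟨t, ht⟩ := exists_yFun (W := FibCat.fp y f) (U := U) a.hom
  have hp : clsMap t = (clsOverCat U).hom ≫ a.hom ≫ (Iso.refl (clsPsh (FibCat.fp y f))).inv :=
    ht.trans (congrArg ((clsOverCat U).hom ≫ ·) (Category.comp_id _).symm)
  refine ⟨U, a, h, t, hae, has, hh.symm,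
    repByAlgSpWith_of_space hA (Iso.refl _) t a hp (fun {B V b q r} sq =>
      locP_smooth_of_repWith_etale (ASp.repWith_baseChange sq hae)),
    repByAlgSpWith_of_space (Q := AlgSp.IsSurjectiveMor) hA (Iso.refl _) t a hp (fun {B V b q r} sq z => by
      obtain ⟨u, hu⟩ := ASp.surjective_ofPt_of_repWith has (AlgSp.Points.map b z)
      obtain ⟨w, hw, -⟩ := ASp.exists_of_isPullback sq.flip z (AlgSp.Points.schemeHomeo U u)
        (by rw [← hu, AlgSp.Points.ofPt_eq_map_ofScheme]; rfl)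
      exact ⟨w, hw⟩), exists_iso_of_clsMap_eq ?_⟩
  rw [← cancel_mono (clsOverCat V).hom, clsMap_overMap, clsMap_comp, ht, Category.assoc, Category.assoc]
  exact congrArg ((clsOverCat U).hom ≫ ·) (congrArg (fun k => (ASp.toP S).map k) hh).symm

/-- A representable morphism with a property has it on charts. -/
theorem locQ_of_rep {P : MorphismProperty (AlgSp.Sp S)} [P.RespectsIso]
    (hpre : ∀ ⦃F : AlgSp.Sp S⦄ ⦃U V : Over S⦄, AlgSp.IsAlgSpace F → ∀ (a : (AlgSp.yon S).obj U ⟶ F)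
      (m : F ⟶ (AlgSp.yon S).obj V), AlgSp.RepWith @Etale a → P m → P (a ≫ m))
    (hX : AlgSt.IsAlgStack Scheme.fppfPrecoverage X) (hY : AlgSt.IsAlgStack Scheme.fppfPrecoverage Y)
    {f : X ⥤ᵇ Y} (hf : AlgSt.RepByAlgSpWith P f) : AlgSt.LocQ P f := by
  haveI := hX.isStack.1
  haveI := hY.isStack.1
  obtain ⟨V, y, hy, hys⟩ := hY.atlas
  haveI : FibCat.IsFibGrpd (FibCat.overCat V).p := isFibGrpd_overCat V
  haveI : FibCat.IsFibGrpd (FibCat.fp y f).p := H9Fib.isFibGrpd_fp _ _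
  obtain ⟨hd, hs, hA, hπ⟩ := (repByAlgSpWith_iff f).1 hf V y
  obtain ⟨U, a, h, t, hae, -, e, ht, hts, ⟨j⟩⟩ := exists_chart_rep1 (rep1_of_with hf) y hs hA
  haveI : FibCat.IsFibGrpd (FibCat.overCat U).p := isFibGrpd_overCat U
  have hx := repWith_comp standard_smooth ht (repByAlgSpWith_fpSnd y f hy)
  exact ⟨U, V, _, y, h, H9Fib.wLeft t (FibCat.fpIso y f).symm ≪≫ H9Fib.wRight j y, hx,
    surjective_comp (rep1_of_with hx) hts (repByAlgSpWith_fpSnd y f hys), hy, e ▸ hpre hA a _ hae hπ⟩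

theorem rep_of_locQ {P : MorphismProperty (AlgSp.Sp S)} (hP : AlgSp.IsSmoothLocalST P)
    (hPb : ∀ ⦃X₁ Y₁ X₂ Y₂ : AlgSp.Sp S⦄, AlgSp.IsAlgSpace X₁ → AlgSp.IsAlgSpace Y₁ → AlgSp.IsAlgSpace X₂ →
      AlgSp.IsAlgSpace Y₂ → ∀ (a : X₁ ⟶ Y₁) (b : Y₂ ⟶ Y₁) (a' : X₂ ⟶ Y₂) (b' : X₂ ⟶ X₁),
        IsPullback b' a' a b → P a → P a')
    (hP₂ : AlgSp.IsLocalOnBase AlgSp.IsFppfCover P) (hX : AlgSt.IsAlgStack Scheme.fppfPrecoverage X)
    (hY : AlgSt.IsAlgStack Scheme.fppfPrecoverage Y) {f : X ⥤ᵇ Y} (hf : AlgSt.RepByAlgSp1 f)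
    (hq : AlgSt.LocQ P f) : AlgSt.RepByAlgSpWith P f := by
  haveI := hX.isStack.1
  haveI := hY.isStack.1
  obtain ⟨V, y, hy, hys⟩ := hY.atlas
  haveI : FibCat.IsFibGrpd (FibCat.overCat V).p := isFibGrpd_overCat V
  haveI : FibCat.IsFibGrpd (FibCat.fp y f).p := H9Fib.isFibGrpd_fp _ _
  haveI : FibCat.IsFibGrpd (FibCat.fp f y).p := H9Fib.isFibGrpd_fp _ _
  refine repWith_of_fpFst_cover P hPb hP₂ hf y (smooth_flat_lfp hy).1 (smooth_flat_lfp hy).2 hys ?_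
  haveI := respectsIso_onSpaces P hPb
  rw [← repByAlgSpWith_onSpaces]
  refine repWith_of_map (hf V y) (repByAlgSp_overCat V) (FibCat.fpFst y f) fun hs hs' T b hA hB hF hT => ?_
  obtain ⟨U, a, h, t, hae, has, e, ht, -, ⟨j⟩⟩ := exists_chart_rep1 hf y hs hA
  haveI : FibCat.IsFibGrpd (FibCat.overCat U).p := isFibGrpd_overCat U
  obtain ⟨U₀, V₀, x₀, y₀, h₀, α₀, hx₀, hxs₀, hy₀, hP₀⟩ := hq
  have hh : P ((AlgSp.yon S).map h) := prop_of_chart_square hP hY.diag α₀ hx₀ hxs₀ hy₀ hP₀ y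
    (BasedFunctor.comp t (swapFun y f))
    (repWith_comp standard_smooth ht (repByAlgSpWith_of_isEquivOver (fun m _ => locP_smooth_of_iso m) (isEquivOver_swap _ _)))
    h j (Or.inl hy)
  let π : (⟨clsPsh (FibCat.fp y f), hs⟩ : AlgSp.Sp S) ⟶ (AlgSp.yon S).obj V := ObjectProperty.homMk (projU y f)
  have hV := AlgSp.IsAlgSpace.yon_obj V
  have hπ : P π := (hP.locality hA hV π).2 fun x => by
    obtain ⟨u, hu⟩ := ASp.surjective_ofPt_of_repWith has x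
    exact ⟨_, _, a, 𝟙 _, (AlgSp.yon S).map h, AlgSp.Points.schemeHomeo U u, AlgSp.IsAlgSpace.yon_obj U, hV,
      locP_smooth_of_repWith_etale' hA hae, locP_smooth_of_iso _, by rw [Category.comp_id]; exact e,
      by rw [← hu, AlgSp.Points.ofPt_eq_map_ofScheme]; rfl, hh⟩
  let iV : (⟨clsPsh (FibCat.overCat V), hs'⟩ : AlgSp.Sp S) ≅ (AlgSp.yon S).obj V :=
    (fullyFaithfulSheafToPresheaf (AlgSp.J S) (Type (u + 1))).preimageIso
      (X := (⟨clsPsh (FibCat.overCat V), hs'⟩ : AlgSp.Sp S)) (Y := (AlgSp.yon S).obj V) (clsOverCat V)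
  have hm : P (ObjectProperty.homMk (clsMap (FibCat.fpFst y f)) :
      (⟨clsPsh (FibCat.fp y f), hs⟩ : AlgSp.Sp S) ⟶ (⟨clsPsh (FibCat.overCat V), hs'⟩ : AlgSp.Sp S)) :=
    hPb hA hV hA hB π iV.hom _ (𝟙 _) (IsPullback.of_horiz_isIso ⟨(Category.id_comp _)⟩) hπ
  exact hPb hA hB hF hT _ b _ _ (IsPullback.of_hasPullback _ b) hm
where
  locP_smooth_of_repWith_etale' {A : AlgSp.Sp S} {U : Over S} (hA : AlgSp.IsAlgSpace A)
      {a : (AlgSp.yon S).obj U ⟶ A} (h : AlgSp.RepWith @Etale a) : AlgSp.LocP @Smooth a :=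
    ASp.locP_of_repWith hA (ASp.repWith_mono (fun _ _ f (_ : Etale f) => (inferInstance : Smooth f)) h)

end Groth.Agent.H9St
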