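import Groth.Agent.Lib.H9StSmLoc
/-! More on properties read on charts: charts by spaces, cancellation. -/

set_option autoImplicit false
set_option linter.style.haveILetI false
set_option linter.unusedVariables false
set_option linter.unusedSectionVars false
set_option backward.isDefEq.respectTransparency.types false

universe u

open CategoryTheory CategoryTheory.Limits AlgebraicGeometry Opposite

noncomputable section

namespace Groth.Agent.H9St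

open H9Diag

variable {S : Scheme.{u}}

theorem surjective_bc_loc : ∀ (P : MorphismProperty (AlgSp.Sp S)), P = AlgSp.IsSurjectiveMor →
    AlgSp.IsLocalOnBase AlgSp.IsFppfCover P := by
  rintro P rfl ι Y Yi g hY hYi hg X f hX Xi p q hXi sq
  refine ⟨fun h i => ASp.surjective_baseChange (sq i) h, fun h y => ?_⟩
  obtain ⟨i, z, rfl⟩ := hg.2 y
  obtain ⟨w, rfl⟩ := h i z
  exact ⟨AlgSp.Points.map (q i) w, by rw [← AlgSp.Points.map_comp, ← AlgSp.Points.map_comp, (sq i).w]⟩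

/-- The morphism of sheaves of a representable morphism of setoids has its property. -/
theorem prop_cls {P : MorphismProperty (AlgSp.Sp S)}
    (hPb : ∀ ⦃X₁ Y₁ X₂ Y₂ : AlgSp.Sp S⦄, AlgSp.IsAlgSpace X₁ → AlgSp.IsAlgSpace Y₁ → AlgSp.IsAlgSpace X₂ →
      AlgSp.IsAlgSpace Y₂ → ∀ (a : X₁ ⟶ Y₁) (b : Y₂ ⟶ Y₁) (a' : X₂ ⟶ Y₂) (b' : X₂ ⟶ X₁),
        IsPullback b' a' a b → P a → P a')
    (hP : AlgSp.IsLocalOnBase AlgSp.IsFppfCover P) {A B : AlgSt.Cat S} [FibCat.IsFibGrpd A.p] [FibCat.IsFibGrpd B.p]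
    {x : A ⥤ᵇ B} (hA : AlgSt.RepByAlgSp A) (hB : AlgSt.RepByAlgSp B) (hx : AlgSt.RepByAlgSpWith P x)
    (sA : Presheaf.IsSheaf (AlgSp.J S) (clsPsh A)) (sB : Presheaf.IsSheaf (AlgSp.J S) (clsPsh B)) :
    P (ObjectProperty.homMk (clsMap x) : (⟨clsPsh A, sA⟩ : AlgSp.Sp S) ⟶ (⟨clsPsh B, sB⟩ : AlgSp.Sp S)) := by
  haveI : FibCat.IsFibGrpd (FibCat.fp (BasedFunctor.id B) x).p := H9Fib.isFibGrpd_fp _ _
  obtain ⟨dB, sB', aB⟩ := repByAlgSp_iff.1 hB
  obtain ⟨dA, sA', aA⟩ := repByAlgSp_iff.1 hA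
  haveI := dB
  obtain ⟨dF, sF, aF⟩ := repByAlgSp_iff.1 (repByAlgSp_fp (rep1_of_with hx) hB (BasedFunctor.id B))
  have h := prop_clsMap_fpFst P hPb hP hx (BasedFunctor.id B) sB aB sF aF
  obtain ⟨i, hi⟩ := mk_iso (FibCat.fpSnd (BasedFunctor.id B) x) (isEquivOver_fpSnd_id x) sF sA
  refine hPb aF aB aA aB _ (𝟙 _) _ i.inv (IsPullback.of_horiz_isIso ⟨?_⟩) h
  rw [Iso.inv_comp_eq, Category.comp_id]
  refine ObjectProperty.hom_ext _ ?_
  show clsMap (FibCat.fpFst (BasedFunctor.id B) x) = i.hom.hom ≫ clsMap x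
  rw [hi, ← clsMap_comp]
  exact clsMap_congr ((eqToIso rfl) ≪≫ FibCat.fpIso (BasedFunctor.id B) x)

/-- Charts of a morphism of spaces with a property. -/
theorem exists_chart_prop {P : MorphismProperty (AlgSp.Sp S)} (hP : AlgSp.IsSmoothLocalST P) {F G : AlgSp.Space S}
    (m : F ⟶ G) (hm : P m.hom) :
    ∃ (U V : Over S) (a : (AlgSp.yon S).obj U ⟶ F.obj) (b : (AlgSp.yon S).obj V ⟶ G.obj) (h : U ⟶ V),
      AlgSp.RepWith @Etale a ∧ AlgSp.RepWith @Surjective a ∧ AlgSp.RepWith @Etale b ∧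
      a ≫ m.hom = (AlgSp.yon S).map h ≫ b ∧ P ((AlgSp.yon S).map h) := by
  obtain ⟨V, b, hbe, hbs⟩ := G.property.atlas
  have hV := AlgSp.IsAlgSpace.yon_obj V
  have sq := IsPullback.of_hasPullback m.hom b
  have hQ : AlgSp.IsAlgSpace (pullback m.hom b) := ASp.isAlgSpace_pullback _ _ F.property hV G.property
  obtain ⟨U, c, hce, hcs⟩ := hQ.atlas
  obtain ⟨h, hh⟩ := (AlgSp.yon S).map_surjective (c ≫ pullback.snd m.hom b)
  have hsm : ∀ {A : AlgSp.Sp S} {T : Over S} (hA : AlgSp.IsAlgSpace A) (e : (AlgSp.yon S).obj T ⟶ A),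
      AlgSp.RepWith @Etale e → AlgSp.LocP @Smooth e := fun hA e he =>
    ASp.locP_of_repWith hA (ASp.repWith_mono (fun _ _ f (_ : Etale f) => (inferInstance : Smooth f)) he)
  refine ⟨U, V, c ≫ pullback.fst m.hom b, b, h, ASp.repWith_comp hce (ASp.repWith_baseChange sq.flip hbe),
    ASp.repWith_comp hcs (ASp.repWith_baseChange sq.flip hbs), hbe, ?_, ?_⟩
  · rw [hh, Category.assoc, Category.assoc, pullback.condition]
  · rw [hh]
    exact hP.precomp (AlgSp.IsAlgSpace.yon_obj U) hQ hV _ _ (hsm hQ c hce)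
      (hP.baseChange F.property G.property hQ hV m.hom b _ _ sq (hsm G.property b hbe) hm)

/-- The functor of a chart. -/
theorem exists_chartFun' {F : AlgSp.Space S} {U : Over S} [FibCat.IsFibGrpd (FibCat.overCat U).p]
    [FibCat.IsFibGrpd (AlgSt.ofSp F.obj).p]
    (a : (AlgSp.yon S).obj U ⟶ F.obj) (hae : AlgSp.RepWith @Etale a) :
    ∃ p : FibCat.overCat U ⥤ᵇ AlgSt.ofSp F.obj, clsMap p = (clsOverCat U).hom ≫ a.hom ≫ (clsOfPsh F.obj.obj).inv ∧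
      AlgSt.RepByAlgSpWith (AlgSp.LocP @Smooth) p ∧
      (AlgSp.RepWith @Surjective a → AlgSt.RepByAlgSpWith AlgSp.IsSurjectiveMor p) := by
  haveI := respectsIso_isSurjectiveMor (S := S)
  obtain ⟨p, hp⟩ := exists_yFun (W := AlgSt.ofSp F.obj) (U := U) (a.hom ≫ (clsOfPsh F.obj.obj).inv)
  refine ⟨p, hp, repByAlgSpWith_of_space (T := AlgSt.ofSp F.obj) F.property (clsOfPsh F.obj.obj) p a hp
      fun {B V b q r} sq => locP_smooth_of_repWith_etale (ASp.repWith_baseChange sq hae),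
    fun has => repByAlgSpWith_of_space (T := AlgSt.ofSp F.obj) (Q := AlgSp.IsSurjectiveMor) F.property
      (clsOfPsh F.obj.obj) p a hp fun {B V b q r} sq z => ?_⟩
  obtain ⟨u, hu⟩ := ASp.surjective_ofPt_of_repWith has (AlgSp.Points.map b z)
  obtain ⟨w, hw, -⟩ := ASp.exists_of_isPullback sq.flip z (AlgSp.Points.schemeHomeo U u)
    (by rw [← hu, AlgSp.Points.ofPt_eq_map_ofScheme]; rfl)
  exact ⟨w, hw⟩

theorem chartFun_square {F G : AlgSp.Space S} {U V : Over S} (m : F ⟶ G) (a : (AlgSp.yon S).obj U ⟶ F.obj)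
    (b : (AlgSp.yon S).obj V ⟶ G.obj) (h : U ⟶ V) (e : a ≫ m.hom = (AlgSp.yon S).map h ≫ b)
    [FibCat.IsFibGrpd (FibCat.overCat U).p] [FibCat.IsFibGrpd (FibCat.overCat V).p]
    [FibCat.IsFibGrpd (AlgSt.ofSp F.obj).p] [FibCat.IsFibGrpd (AlgSt.ofSp G.obj).p]
    {p : FibCat.overCat U ⥤ᵇ AlgSt.ofSp F.obj} {q : FibCat.overCat V ⥤ᵇ AlgSt.ofSp G.obj}
    (hp : clsMap p = (clsOverCat U).hom ≫ a.hom ≫ (clsOfPsh F.obj.obj).inv)
    (hq : clsMap q = (clsOverCat V).hom ≫ b.hom ≫ (clsOfPsh G.obj.obj).inv) :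
    Nonempty (BasedFunctor.comp p (AlgSt.ofSpMap m.hom) ≅ BasedFunctor.comp (AlgSt.overMap h) q) := by
  refine exists_iso_of_clsMap_eq ?_
  have h2 : clsMap (Stk.ofPshMap m.hom.hom) ≫ (clsOfPsh G.obj.obj).hom = (clsOfPsh F.obj.obj).hom ≫ m.hom.hom :=
    clsMap_ofPshMap _
  have e' : a.hom ≫ m.hom.hom = (AlgSp.pyon S).map h ≫ b.hom := congrArg (fun k => (ASp.toP S).map k) e
  rw [← cancel_mono (clsOfPsh G.obj.obj).hom, clsMap_comp, clsMap_comp, Category.assoc, Category.assoc]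
  refine (congrArg (clsMap p ≫ ·) h2).trans ?_
  rw [hp, hq]
  simp only [Category.assoc, Iso.inv_hom_id_assoc, Iso.inv_hom_id, Category.comp_id]
  rw [← Category.assoc (clsMap (AlgSt.overMap h)), clsMap_overMap, Category.assoc]
  exact congrArg ((clsOverCat U).hom ≫ ·) e'

theorem locQ_of_space_square {X Y : AlgSt.Cat S} {P : MorphismProperty (AlgSp.Sp S)} (hP : AlgSp.IsSmoothLocalST P)
    (hX : AlgSt.IsAlgStack Scheme.fppfPrecoverage X) (hY : AlgSt.IsAlgStack Scheme.fppfPrecoverage Y)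
    {f : X ⥤ᵇ Y} {F G : AlgSp.Space S} {x : AlgSt.ofSp F.obj ⥤ᵇ X} {y : AlgSt.ofSp G.obj ⥤ᵇ Y} {m : F ⟶ G}
    (α : BasedFunctor.comp x f ≅ BasedFunctor.comp (AlgSt.ofSpMap m.hom) y)
    (hx : AlgSt.RepByAlgSpWith (AlgSp.LocP @Smooth) x) (hxs : AlgSt.RepByAlgSpWith AlgSp.IsSurjectiveMor x)
    (hy : AlgSt.RepByAlgSpWith (AlgSp.LocP @Smooth) y) (hm : P m.hom) : AlgSt.LocQ P f := by
  haveI := hX.isStack.1
  haveI := hY.isStack.1
  haveI : FibCat.IsFibGrpd (AlgSt.ofSp F.obj).p := isFibGrpd_ofPsh F.obj.obj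
  haveI : FibCat.IsFibGrpd (AlgSt.ofSp G.obj).p := isFibGrpd_ofPsh G.obj.obj
  obtain ⟨U, V, a, b, h, hae, has, hbe, e, hh⟩ := exists_chart_prop hP m hm
  haveI : FibCat.IsFibGrpd (FibCat.overCat U).p := isFibGrpd_overCat U
  haveI : FibCat.IsFibGrpd (FibCat.overCat V).p := isFibGrpd_overCat V
  obtain ⟨p, hp, hps, hpsu⟩ := exists_chartFun' a hae
  obtain ⟨q, hq, hqs, -⟩ := exists_chartFun' b hbe
  obtain ⟨j⟩ := chartFun_square m a b h e hp hq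
  have h1 := repWith_comp standard_smooth hps hx
  exact ⟨U, V, _, BasedFunctor.comp q y, h, H9Fib.wLeft p α ≪≫ H9Fib.wRight j y, h1,
    surjective_comp (rep1_of_with h1) (hpsu has) hxs, repWith_comp standard_smooth hqs hy, hh⟩

theorem isEquivOver_toOverCat (U : Over S) : FibCat.IsEquivOver (AlgSt.toOverCat U) :=
  ⟨AlgSt.ofOverCat U, ⟨eqToIso rfl⟩, ⟨eqToIso rfl⟩⟩

theorem exists_space_square_of_locQ {X Y : AlgSt.Cat S} {P : MorphismProperty (AlgSp.Sp S)}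
    (hX : AlgSt.IsAlgStack Scheme.fppfPrecoverage X) (hY : AlgSt.IsAlgStack Scheme.fppfPrecoverage Y)
    {f : X ⥤ᵇ Y} (hf : AlgSt.LocQ P f) :
    ∃ (F G : AlgSp.Space S) (x : AlgSt.ofSp F.obj ⥤ᵇ X) (y : AlgSt.ofSp G.obj ⥤ᵇ Y) (m : F ⟶ G)
      (_ : BasedFunctor.comp x f ≅ BasedFunctor.comp (AlgSt.ofSpMap m.hom) y),
      AlgSt.RepByAlgSpWith (AlgSp.LocP @Smooth) x ∧ AlgSt.RepByAlgSpWith AlgSp.IsSurjectiveMor x ∧
      AlgSt.RepByAlgSpWith (AlgSp.LocP @Smooth) y ∧ P m.hom := by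
  haveI := hX.isStack.1
  haveI := hY.isStack.1
  obtain ⟨U, V, x, y, h, α, hx, hxs, hy, hh⟩ := hf
  haveI : FibCat.IsFibGrpd (FibCat.overCat U).p := isFibGrpd_overCat U
  haveI : FibCat.IsFibGrpd (FibCat.overCat V).p := isFibGrpd_overCat V
  haveI : FibCat.IsFibGrpd (AlgSt.ofSch U).p := isFibGrpd_ofPsh _
  haveI : FibCat.IsFibGrpd (AlgSt.ofSch V).p := isFibGrpd_ofPsh _
  haveI := respectsIso_isSurjectiveMor (S := S)
  have hs : ∀ (W : Over S) [FibCat.IsFibGrpd (FibCat.overCat W).p] [FibCat.IsFibGrpd (AlgSt.ofSch W).p],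
      AlgSt.RepByAlgSpWith (AlgSp.LocP @Smooth) (AlgSt.toOverCat W) := fun W _ _ =>
    repByAlgSpWith_of_isEquivOver (fun m _ => locP_smooth_of_iso m) (isEquivOver_toOverCat W)
  have h1 := repWith_comp standard_smooth (hs U) hx
  refine ⟨⟨(AlgSp.yon S).obj U, AlgSp.IsAlgSpace.yon_obj U⟩, ⟨(AlgSp.yon S).obj V, AlgSp.IsAlgSpace.yon_obj V⟩,
    BasedFunctor.comp (AlgSt.toOverCat U) x, BasedFunctor.comp (AlgSt.toOverCat V) y,
    ObjectProperty.homMk ((AlgSp.yon S).map h), ?_, h1,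
    surjective_comp (rep1_of_with h1)
      (repByAlgSpWith_of_isEquivOver (fun m _ => isSurjectiveMor_of_iso m) (isEquivOver_toOverCat U)) hxs,
    repWith_comp standard_smooth (hs V) hy, hh⟩
  let i₀ : BasedFunctor.comp (AlgSt.toOverCat U) (AlgSt.overMap h) ≅
      BasedFunctor.comp (AlgSt.ofSpMap ((AlgSp.yon S).map h)) (AlgSt.toOverCat V) := eqToIso rfl
  exact H9Fib.wLeft (AlgSt.toOverCat U) α ≪≫ H9Fib.wRight i₀ y

theorem prop_of_locQ_ofSpMap {P : MorphismProperty (AlgSp.Sp S)} (hP : AlgSp.IsSmoothLocalST P) {F G : AlgSp.Space S}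
    (m : F ⟶ G) (hq : AlgSt.LocQ P (AlgSt.ofSpMap m.hom)) : P m.hom := by
  haveI := respectsIso_isSurjectiveMor (S := S)
  haveI : FibCat.IsFibGrpd (AlgSt.ofSp F.obj).p := isFibGrpd_ofPsh F.obj.obj
  haveI : FibCat.IsFibGrpd (AlgSt.ofSp G.obj).p := isFibGrpd_ofPsh G.obj.obj
  obtain ⟨U, V, x, y, h, α, hx, hxs, hy, hh⟩ := hq
  haveI : FibCat.IsFibGrpd (FibCat.overCat U).p := isFibGrpd_overCat U
  haveI : FibCat.IsFibGrpd (FibCat.overCat V).p := isFibGrpd_overCat V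
  have hF : AlgSt.RepByAlgSp (AlgSt.ofSp F.obj) := ⟨F, _, H9Fib.isEquivOver_id _⟩
  have hG : AlgSt.RepByAlgSp (AlgSt.ofSp G.obj) := ⟨G, _, H9Fib.isEquivOver_id _⟩
  obtain ⟨dU, sU, aU⟩ := repByAlgSp_iff.1 (repByAlgSp_overCat U)
  obtain ⟨dV, sV, aV⟩ := repByAlgSp_iff.1 (repByAlgSp_overCat V)
  obtain ⟨dF, sF, aF⟩ := repByAlgSp_iff.1 hF
  obtain ⟨dG, sG, aG⟩ := repByAlgSp_iff.1 hG
  let iU : (⟨clsPsh (FibCat.overCat U), sU⟩ : AlgSp.Sp S) ≅ (AlgSp.yon S).obj U :=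
    (fullyFaithfulSheafToPresheaf (AlgSp.J S) (Type (u + 1))).preimageIso
      (X := (⟨clsPsh (FibCat.overCat U), sU⟩ : AlgSp.Sp S)) (Y := (AlgSp.yon S).obj U) (clsOverCat U)
  let iV : (⟨clsPsh (FibCat.overCat V), sV⟩ : AlgSp.Sp S) ≅ (AlgSp.yon S).obj V :=
    (fullyFaithfulSheafToPresheaf (AlgSp.J S) (Type (u + 1))).preimageIso
      (X := (⟨clsPsh (FibCat.overCat V), sV⟩ : AlgSp.Sp S)) (Y := (AlgSp.yon S).obj V) (clsOverCat V)
  let iF : (⟨clsPsh (AlgSt.ofSp F.obj), sF⟩ : AlgSp.Sp S) ≅ F.obj :=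
    (fullyFaithfulSheafToPresheaf (AlgSp.J S) (Type (u + 1))).preimageIso
      (X := (⟨clsPsh (AlgSt.ofSp F.obj), sF⟩ : AlgSp.Sp S)) (Y := F.obj) (clsOfPsh F.obj.obj)
  let iG : (⟨clsPsh (AlgSt.ofSp G.obj), sG⟩ : AlgSp.Sp S) ≅ G.obj :=
    (fullyFaithfulSheafToPresheaf (AlgSp.J S) (Type (u + 1))).preimageIso
      (X := (⟨clsPsh (AlgSt.ofSp G.obj), sG⟩ : AlgSp.Sp S)) (Y := G.obj) (clsOfPsh G.obj.obj)
  let x₀ : (⟨clsPsh (FibCat.overCat U), sU⟩ : AlgSp.Sp S) ⟶ (⟨clsPsh (AlgSt.ofSp F.obj), sF⟩ : AlgSp.Sp S) :=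
    ObjectProperty.homMk (clsMap x)
  let y₀ : (⟨clsPsh (FibCat.overCat V), sV⟩ : AlgSp.Sp S) ⟶ (⟨clsPsh (AlgSt.ofSp G.obj), sG⟩ : AlgSp.Sp S) :=
    ObjectProperty.homMk (clsMap y)
  have hx₀ : AlgSp.LocP @Smooth x₀ := prop_cls standard_smooth.bc standard_smooth.loc (repByAlgSp_overCat U) hF hx sU sF
  have hy₀ : AlgSp.LocP @Smooth y₀ := prop_cls standard_smooth.bc standard_smooth.loc (repByAlgSp_overCat V) hG hy sV sG
  have hxs₀ : AlgSp.IsSurjectiveMor x₀ := prop_cls (fun _ _ _ _ _ _ _ _ a b a' b' sq h => ASp.surjective_baseChange sq h)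
    (surjective_bc_loc _ rfl) (repByAlgSp_overCat U) hF hxs sU sF
  refine (hP.locality F.property G.property m.hom).2 fun z => ?_
  obtain ⟨w, hw⟩ := hxs₀ (AlgSp.Points.map iF.inv z)
  refine ⟨_, _, iU.inv ≫ x₀ ≫ iF.hom, iV.inv ≫ y₀ ≫ iG.hom, (AlgSp.yon S).map h, AlgSp.Points.map iU.hom w,
    AlgSp.IsAlgSpace.yon_obj U, AlgSp.IsAlgSpace.yon_obj V,
    ((AlgSp.LocP @Smooth).cancel_left_of_respectsIso _ _).2 (((AlgSp.LocP @Smooth).cancel_right_of_respectsIso _ _).2 hx₀),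
    ((AlgSp.LocP @Smooth).cancel_left_of_respectsIso _ _).2 (((AlgSp.LocP @Smooth).cancel_right_of_respectsIso _ _).2 hy₀),
    ?_, ?_, hh⟩
  · refine ObjectProperty.hom_ext _ ?_
    show ((clsOverCat U).inv ≫ clsMap x ≫ (clsOfPsh F.obj.obj).hom) ≫ m.hom.hom =
      (AlgSp.pyon S).map h ≫ (clsOverCat V).inv ≫ clsMap y ≫ (clsOfPsh G.obj.obj).hom
    have h2 : clsMap (Stk.ofPshMap m.hom.hom) ≫ (clsOfPsh G.obj.obj).hom = (clsOfPsh F.obj.obj).hom ≫ m.hom.hom :=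
      clsMap_ofPshMap _
    simp only [Category.assoc]
    rw [← h2, Iso.inv_comp_eq, ← Category.assoc (clsOverCat U).hom, ← clsMap_overMap h]
    simp only [Category.assoc, Iso.hom_inv_id_assoc]
    rw [← Category.assoc, ← Category.assoc (clsMap (AlgSt.overMap h)), ← clsMap_comp, ← clsMap_comp]
    exact congrArg (· ≫ (clsOfPsh G.obj.obj).hom) (clsMap_congr α)
  · rw [← AlgSp.Points.map_comp, Iso.hom_inv_id_assoc, AlgSp.Points.map_comp, hw, ← AlgSp.Points.map_comp,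
      iF.inv_hom_id, AlgSp.Points.map_id]

/-! Composite squares -/

/-- Charts of two composable morphisms and of their composite. -/
theorem exists_comp_squares {X Y Z : AlgSt.Cat S} (hX : AlgSt.IsAlgStack Scheme.fppfPrecoverage X)
    (hY : AlgSt.IsAlgStack Scheme.fppfPrecoverage Y) (hZ : AlgSt.IsAlgStack Scheme.fppfPrecoverage Z)
    (f : X ⥤ᵇ Y) (g : Y ⥤ᵇ Z) :
    ∃ (U V W : Over S) (a : U ⟶ V) (b : V ⟶ W) (x : FibCat.overCat U ⥤ᵇ X) (y : FibCat.overCat V ⥤ᵇ Y)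
      (z : FibCat.overCat W ⥤ᵇ Z) (α : BasedFunctor.comp x f ≅ BasedFunctor.comp (AlgSt.overMap a) y)
      (β : BasedFunctor.comp y g ≅ BasedFunctor.comp (AlgSt.overMap b) z),
      AlgSt.RepByAlgSpWith (AlgSp.LocP @Smooth) x ∧ AlgSt.RepByAlgSpWith AlgSp.IsSurjectiveMor x ∧
      AlgSt.RepByAlgSpWith (AlgSp.LocP @Smooth) y ∧ AlgSt.RepByAlgSpWith (AlgSp.LocP @Smooth) z ∧
      (∀ P, AlgSp.IsSmoothLocalST P → AlgSt.LocQ P f → P ((AlgSp.yon S).map a)) ∧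
      (∀ P, AlgSp.IsSmoothLocalST P → AlgSt.LocQ P g → P ((AlgSp.yon S).map b)) ∧
      (∀ P, AlgSp.IsSmoothLocalST P → AlgSt.LocQ P (BasedFunctor.comp f g) → P ((AlgSp.yon S).map (a ≫ b))) := by
  haveI := hX.isStack.1
  haveI := hY.isStack.1
  haveI := hZ.isStack.1
  obtain ⟨W, z, hz, hzs⟩ := hZ.atlas
  obtain ⟨V, b, y, β, hy, htg, hys⟩ := exists_square_over hY hZ g z hz
  obtain ⟨U, a, x, α, hx, htf, hxs⟩ := exists_square_over hX hY f y hy
  refine ⟨U, V, W, a, b, x, y, z, α, β, hx, hxs (hys hzs), hy, hz,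
    fun P hP hf => prop_of_square hP hX hY hf α htf hy, fun P hP hg => prop_of_square hP hY hZ hg β htg hz,
    fun P hP hfg => ?_⟩
  haveI : FibCat.IsFibGrpd (FibCat.overCat U).p := isFibGrpd_overCat U
  haveI : FibCat.IsFibGrpd (FibCat.overCat V).p := isFibGrpd_overCat V
  haveI : FibCat.IsFibGrpd (FibCat.overCat W).p := isFibGrpd_overCat W
  let tg := FibCat.fpLift y (AlgSt.overMap b) β
  let p := FibCat.fpFst g z
  haveI : FibCat.IsFibGrpd (FibCat.fp g z).p := H9Fib.isFibGrpd_fp _ _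
  haveI : FibCat.IsFibGrpd (FibCat.fp f y).p := H9Fib.isFibGrpd_fp _ _
  haveI : FibCat.IsFibGrpd (FibCat.fp y f).p := H9Fib.isFibGrpd_fp _ _
  haveI : FibCat.IsFibGrpd (FibCat.fp p f).p := H9Fib.isFibGrpd_fp _ _
  haveI : FibCat.IsFibGrpd (FibCat.fp f p).p := H9Fib.isFibGrpd_fp _ _
  haveI : FibCat.IsFibGrpd (FibCat.fp (BasedFunctor.comp f g) z).p := H9Fib.isFibGrpd_fp _ _
  have he : ∀ {A B : AlgSt.Cat S} [FibCat.IsFibGrpd A.p] [FibCat.IsFibGrpd B.p] {k : A ⥤ᵇ B},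
      FibCat.IsEquivOver k → AlgSt.RepByAlgSpWith (AlgSp.LocP @Smooth) k := fun hk =>
    repByAlgSpWith_of_isEquivOver (fun m _ => locP_smooth_of_iso m) hk
  have h1 : AlgSt.RepByAlgSpWith (AlgSp.LocP @Smooth)
      (BasedFunctor.comp (FibCat.fpLift x (AlgSt.overMap a) α) (swapFun f y)) :=
    repWith_comp standard_smooth htf (he (isEquivOver_swap f y))
  have h2 : AlgSt.RepByAlgSpWith (AlgSp.LocP @Smooth) (bcFun tg p f) := repWith_bcFun tg p f htg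
  haveI : FibCat.IsFibGrpd (FibCat.fp (BasedFunctor.comp tg p) f).p := H9Fib.isFibGrpd_fp _ _
  have h3 : AlgSt.RepByAlgSpWith (AlgSp.LocP @Smooth)
      (BasedFunctor.comp (BasedFunctor.comp (BasedFunctor.comp
        (BasedFunctor.comp (FibCat.fpLift x (AlgSt.overMap a) α) (swapFun f y))
        (bcFun tg p f)) (swapFun p f)) (pasteFun f g z)) :=
    repWith_comp standard_smooth (repWith_comp standard_smooth (repWith_comp standard_smooth h1 h2)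
      (he (isEquivOver_swap p f))) (he (isEquivOver_paste f g z))
  obtain ⟨j⟩ := overMap_comp_iso a b
  obtain ⟨U₀, W₀, x₀, z₀, c₀, γ₀, hx₀, hxs₀, hz₀, hc₀⟩ := hfg
  exact prop_of_chart_square hP hZ.diag γ₀ hx₀ hxs₀ hz₀ hc₀ z _ h3 (a ≫ b) j (Or.inl hz)

theorem isOpenMor_of_flat_lfp {X Y : AlgSt.Cat S} (hX : AlgSt.IsAlgStack Scheme.fppfPrecoverage X)
    (hY : AlgSt.IsAlgStack Scheme.fppfPrecoverage Y) {f : X ⥤ᵇ Y} (h₁ : AlgSt.LocQ (AlgSp.LocP @Flat) f)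
    (h₂ : AlgSt.LocQ (AlgSp.LocP @LocallyOfFinitePresentation) f) : AlgSt.IsOpenMor f := by
  haveI := hX.isStack.1
  haveI := hY.isStack.1
  obtain ⟨V, y, hy, hys⟩ := hY.atlas
  obtain ⟨U, h, x, α, hx, ht, hxs⟩ := exists_square_over hX hY f y hy
  haveI : FibCat.IsFibGrpd (FibCat.overCat U).p := isFibGrpd_overCat U
  haveI : FibCat.IsFibGrpd (FibCat.overCat V).p := isFibGrpd_overCat V
  haveI : Flat h.left := (ASp.locP_yon_iff h).1 (prop_of_square ASp.isSmoothLocalST_locP hX hY h₁ α ht hy)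
  haveI : LocallyOfFinitePresentation h.left :=
    (ASp.locP_yon_iff h).1 (prop_of_square ASp.isSmoothLocalST_locP hX hY h₂ α ht hy)
  have key : ∀ u, AlgSt.Points.map f (AlgSt.Points.ofChart x u) = AlgSt.Points.ofChart y (h.left u) := fun u => by
    rw [← ofChart_overMap_comp h y u, ofChart_eq_map, ofChart_eq_map, points_map_comp]
    exact points_map_iso α _
  intro O hO
  have e : AlgSt.Points.map f '' O = AlgSt.Points.ofChart y '' (h.left '' (AlgSt.Points.ofChart x ⁻¹' O)) := by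
    ext q
    constructor
    · rintro ⟨p, hp, rfl⟩
      obtain ⟨u, rfl⟩ := surjective_ofChart (Y := X) (hxs hys) p
      exact ⟨_, ⟨u, hp, rfl⟩, (key u).symm⟩
    · rintro ⟨_, ⟨u, hu, rfl⟩, rfl⟩
      exact ⟨_, hu, key u⟩
  rw [e]
  exact isOpenMap_ofChart (smooth_flat_lfp hy).1 (smooth_flat_lfp hy).2 _
    (h.left.isOpenMap _ (hO.preimage (continuous_ofChart_of_atlas hX.atlas x)))

end Groth.Agent.H9St
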