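import Groth.Agent.Lib.H9StFppf
/-! Descent of local properties of morphisms of stacks along covers of the target. -/

set_option autoImplicit false
set_option linter.style.haveILetI false
set_option linter.unusedVariables false
set_option linter.unusedSectionVars false
set_option backward.isDefEq.respectTransparency.types false

universe u

open CategoryTheory CategoryTheory.Limits AlgebraicGeometry Opposite

noncomputable section

namespace Groth.Agent.H9St

open H9Diag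

variable {S : Scheme.{u}} {X Y Z : AlgSt.Cat S}

theorem surjective_left_of_surjectiveMor {U V : Over S} (g : U ⟶ V)
    (h : AlgSp.IsSurjectiveMor ((AlgSp.yon S).map g)) : Surjective g.left := ⟨fun v => by
  obtain ⟨p, hp⟩ := h (AlgSp.Points.schemeHomeo V v)
  obtain ⟨w, rfl⟩ := (AlgSp.Points.schemeHomeo U).surjective p
  rw [AlgSp.Points.map_yon_map_apply] at hp
  exact ⟨w, (AlgSp.Points.schemeHomeo V).injective hp⟩⟩

/-- A smooth-local property of a morphism can be checked after a surjective flat base change of the target,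
as soon as it descends along such covers of schemes. -/
theorem locQ_descent {P : MorphismProperty (AlgSp.Sp S)} (hP : AlgSp.IsSmoothLocalST P)
    (hX : AlgSt.IsAlgStack Scheme.fppfPrecoverage X) (hY : AlgSt.IsAlgStack Scheme.fppfPrecoverage Y)
    (hZ : AlgSt.IsAlgStack Scheme.fppfPrecoverage Z) {f : X ⥤ᵇ Y} {z : Z ⥤ᵇ Y} (L : Prop)
    (hz₁ : AlgSt.LocQ (AlgSp.LocP @Flat) z) (hz₂ : L → AlgSt.LocQ (AlgSp.LocP @LocallyOfFinitePresentation) z)
    (hz₃ : AlgSt.IsSurjective z)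
    (hdesc : ∀ ⦃U V V' : Over S⦄ (h : U ⟶ V) (g : V' ⟶ V) (C : AlgSp.Sp S) (π : C ⟶ (AlgSp.yon S).obj V')
      (q : C ⟶ (AlgSp.yon S).obj U), AlgSp.IsAlgSpace C →
      IsPullback q π ((AlgSp.yon S).map h) ((AlgSp.yon S).map g) → Flat g.left → Surjective g.left →
      (L → LocallyOfFinitePresentation g.left) → P π → P ((AlgSp.yon S).map h))
    (hf : AlgSt.LocQ P (FibCat.fpFst z f)) : AlgSt.LocQ P f := by
  haveI := respectsIso_isSurjectiveMor (S := S)
  haveI := hX.isStack.1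
  haveI := hY.isStack.1
  haveI := hZ.isStack.1
  obtain ⟨V, y, hy, hys⟩ := hY.atlas
  haveI : FibCat.IsFibGrpd (FibCat.overCat V).p := isFibGrpd_overCat V
  have hB := isAlgStack_fp' (isAlgStack_overCat V) hX hY y f
  haveI := hB.isStack.1
  obtain ⟨U, t, ht, hts⟩ := hB.atlas
  haveI : FibCat.IsFibGrpd (FibCat.overCat U).p := isFibGrpd_overCat U
  obtain ⟨h, ⟨jh⟩⟩ := exists_overMap (BasedFunctor.comp t (FibCat.fpFst y f))
  have hx := repWith_comp standard_smooth ht (repByAlgSpWith_fpSnd y f hy)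
  refine ⟨U, V, _, y, h, H9Fib.wLeft t (FibCat.fpIso y f).symm ≪≫ H9Fib.wRight jh y, hx,
    surjective_comp (rep1_of_with hx) hts (repByAlgSpWith_fpSnd y f hys), hy, ?_⟩
  -- a cover of `V` mapping smoothly to `Z`
  obtain ⟨T, u, hu, hus⟩ := hZ.atlas
  haveI : FibCat.IsFibGrpd (FibCat.overCat T).p := isFibGrpd_overCat T
  let uz := BasedFunctor.comp u z
  haveI : FibCat.IsFibGrpd (FibCat.fp y uz).p := H9Fib.isFibGrpd_fp _ _
  have hrep : AlgSt.RepByAlgSp1 uz := rep1_from_space hY.diag (repByAlgSp_overCat T) uz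
  have hflat : AlgSt.RepByAlgSpWith (AlgSp.LocP @Flat) uz :=
    rep_of_locQ ASp.isSmoothLocalST_locP standard_flat.bc standard_flat.loc (isAlgStack_overCat T) hY hrep
      (locQ_comp ASp.isSmoothLocalST_locP standard_flat.comp (isAlgStack_overCat T) hZ hY
        (locQ_of_rep (fun F A B hA a m ha hm => ASp.locP_comp (AlgSp.IsAlgSpace.yon_obj A) hA (AlgSp.IsAlgSpace.yon_obj B)
          (ASp.locP_of_repWith hA (ASp.repWith_mono (fun _ _ k (_ : Etale k) => (inferInstance : Flat k)) ha)) hm)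
          (isAlgStack_overCat T) hZ (smooth_flat_lfp hu).1) hz₁)
  have hlfp : L → AlgSt.RepByAlgSpWith (AlgSp.LocP @LocallyOfFinitePresentation) uz := fun hL =>
    rep_of_locQ ASp.isSmoothLocalST_locP standard_lfp.bc standard_lfp.loc (isAlgStack_overCat T) hY hrep
      (locQ_comp ASp.isSmoothLocalST_locP standard_lfp.comp (isAlgStack_overCat T) hZ hY
        (locQ_of_rep (fun F A B hA a m ha hm => ASp.locP_comp (AlgSp.IsAlgSpace.yon_obj A) hA (AlgSp.IsAlgSpace.yon_obj B)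
          (ASp.locP_of_repWith hA (ASp.repWith_mono (fun _ _ k (_ : Etale k) => (inferInstance : LocallyOfFinitePresentation k)) ha)) hm)
          (isAlgStack_overCat T) hZ (smooth_flat_lfp hu).2) (hz₂ hL))
  have hsurj : AlgSt.RepByAlgSpWith AlgSp.IsSurjectiveMor uz := standard_surjective_rep hrep fun q => by
    obtain ⟨p, rfl⟩ := hz₃ q
    obtain ⟨p₀, rfl⟩ := isSurjective_of_rep hus p
    exact ⟨p₀, (points_map_comp u z p₀).symm⟩
  obtain ⟨-, sB, aB, pflat⟩ := (repByAlgSpWith_iff uz).1 hflat V y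
  obtain ⟨-, _, _, psurj⟩ := (repByAlgSpWith_iff uz).1 hsurj V y
  obtain ⟨V', a, g, τ, hae, has, eg, hτ, -, ⟨jg⟩⟩ := exists_chart_rep1 hrep y sB aB
  haveI : FibCat.IsFibGrpd (FibCat.overCat V').p := isFibGrpd_overCat V'
  have hg₁ : Flat g.left := (ASp.locP_yon_iff g).1 (eg ▸ ASp.locP_comp (AlgSp.IsAlgSpace.yon_obj V') aB
    (AlgSp.IsAlgSpace.yon_obj V)
    (ASp.locP_of_repWith aB (ASp.repWith_mono (fun _ _ k (_ : Etale k) => (inferInstance : Flat k)) hae)) pflat)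
  have hg₂ : L → LocallyOfFinitePresentation g.left := fun hL => by
    obtain ⟨-, _, _, plfp⟩ := (repByAlgSpWith_iff uz).1 (hlfp hL) V y
    exact (ASp.locP_yon_iff g).1 (eg ▸ ASp.locP_comp (AlgSp.IsAlgSpace.yon_obj V') aB (AlgSp.IsAlgSpace.yon_obj V)
      (ASp.locP_of_repWith aB (ASp.repWith_mono (fun _ _ k (_ : Etale k) => (inferInstance : LocallyOfFinitePresentation k)) hae)) plfp)
  have hg₃ : Surjective g.left := surjective_left_of_surjectiveMor g (fun v => by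
    obtain ⟨b, rfl⟩ := psurj v
    obtain ⟨w, rfl⟩ := ASp.surjective_ofPt_of_repWith has b
    refine ⟨AlgSp.Points.schemeHomeo V' w, ?_⟩
    rw [← eg, AlgSp.Points.map_comp, AlgSp.Points.ofPt_eq_map_ofScheme]
    rfl)
  let gm := AlgSt.overMap g
  let y' := BasedFunctor.comp (BasedFunctor.comp τ (FibCat.fpSnd y uz)) u
  have hy' : AlgSt.RepByAlgSpWith (AlgSp.LocP @Smooth) y' :=
    repWith_comp standard_smooth (repWith_comp standard_smooth hτ (repByAlgSpWith_fpSnd y uz hy)) hu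
  let γ : BasedFunctor.comp gm y ≅ BasedFunctor.comp y' z :=
    H9Fib.wRight jg.symm y ≪≫ H9Fib.wLeft τ (FibCat.fpIso y uz)
  -- the pulled back chart
  let φ := BasedFunctor.comp t (FibCat.fpFst y f)
  let f' := FibCat.fpFst z f
  haveI : FibCat.IsFibGrpd (FibCat.fp gm φ).p := H9Fib.isFibGrpd_fp _ _
  haveI : FibCat.IsFibGrpd (FibCat.fp φ gm).p := H9Fib.isFibGrpd_fp _ _
  haveI : FibCat.IsFibGrpd (FibCat.fp gm (FibCat.fpFst y f)).p := H9Fib.isFibGrpd_fp _ _
  haveI : FibCat.IsFibGrpd (FibCat.fp (FibCat.fpFst y f) gm).p := H9Fib.isFibGrpd_fp _ _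
  haveI : FibCat.IsFibGrpd (FibCat.fp (BasedFunctor.comp gm y) f).p := H9Fib.isFibGrpd_fp _ _
  haveI := (isAlgStack_fp' hZ hX hY z f).isStack.1
  haveI : FibCat.IsFibGrpd (FibCat.fp f' y').p := H9Fib.isFibGrpd_fp _ _
  haveI : FibCat.IsFibGrpd (FibCat.fp y' f').p := H9Fib.isFibGrpd_fp _ _
  haveI : FibCat.IsFibGrpd (FibCat.fp (BasedFunctor.comp y' z) f).p := H9Fib.isFibGrpd_fp _ _
  let m : FibCat.fp gm φ ⥤ᵇ FibCat.fp gm (FibCat.fpFst y f) :=
    BasedFunctor.comp (BasedFunctor.comp (swapFun gm φ) (bcFun t (FibCat.fpFst y f) gm)) (swapFun (FibCat.fpFst y f) gm)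
  have hm : AlgSt.RepByAlgSpWith (AlgSp.LocP @Smooth) m :=
    (repByAlgSpWith_congr (f := m) (f' := BasedFunctor.comp (swapFun gm φ) (bcFun t (FibCat.fpFst y f) gm))
      (BasedFunctor.id _) (swapFun (FibCat.fpFst y f) gm) (H9Fib.isEquivOver_id _) (isEquivOver_swap _ _) (Iso.refl _)).2
      ((repByAlgSpWith_congr (f := bcFun t (FibCat.fpFst y f) gm)
        (f' := BasedFunctor.comp (swapFun gm φ) (bcFun t (FibCat.fpFst y f) gm)) (swapFun gm φ) (BasedFunctor.id _)
        (isEquivOver_swap _ _) (H9Fib.isEquivOver_id _) (Iso.refl _)).1 (repWith_bcFun t (FibCat.fpFst y f) gm ht))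
  let s : FibCat.fp gm φ ⥤ᵇ FibCat.fp (BasedFunctor.comp gm y) f := BasedFunctor.comp m (pasteFun gm y f)
  have hs : AlgSt.RepByAlgSpWith (AlgSp.LocP @Smooth) s := repWith_comp standard_smooth hm
    (repByAlgSpWith_of_isEquivOver (fun m _ => locP_smooth_of_iso m) (isEquivOver_paste gm y f))
  let c := fpCongr (g := BasedFunctor.comp gm y) (f := f) (g' := BasedFunctor.comp y' z) (f' := f)
    (BasedFunctor.id (FibCat.overCat V')) (BasedFunctor.id X) (BasedFunctor.id Y) γ.symm (Iso.refl _)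
  let E : FibCat.fp f' y' ⥤ᵇ FibCat.fp (BasedFunctor.comp gm y) f :=
    BasedFunctor.comp (BasedFunctor.comp (swapFun f' y') (pasteFun y' z f)) c
  have hE : FibCat.IsEquivOver E := H9Fib.isEquivOver_trans
    (H9Fib.isEquivOver_trans (isEquivOver_swap _ _) (isEquivOver_paste y' z f))
    (isEquivOver_fpCongr _ _ (H9Fib.isEquivOver_id _) (H9Fib.isEquivOver_id _) (H9Fib.isEquivOver_id _))
  obtain ⟨G, ⟨η⟩, ⟨ε⟩⟩ := hE
  have hGe : FibCat.IsEquivOver G := ⟨E, ⟨ε⟩, ⟨η⟩⟩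
  have hA : AlgSt.RepByAlgSp (FibCat.fp gm φ) := repByAlgSp_fp
    (rep1_from_space (isAlgStack_overCat V).diag (repByAlgSp_overCat U) φ) (repByAlgSp_overCat V') gm
  obtain ⟨dA, sA, aA⟩ := repByAlgSp_iff.1 hA
  obtain ⟨U', a', h', k, hae', has', eh, hk, -, ⟨jk⟩⟩ :=
    exists_chart_rep1 (rep1_from_space (isAlgStack_overCat V).diag (repByAlgSp_overCat U) φ) gm sA aA
  haveI : FibCat.IsFibGrpd (FibCat.overCat U').p := isFibGrpd_overCat U'
  let t' := BasedFunctor.comp (BasedFunctor.comp k s) G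
  have ht' : AlgSt.RepByAlgSpWith (AlgSp.LocP @Smooth) t' := repWith_comp standard_smooth
    (repWith_comp standard_smooth hk hs) (repByAlgSpWith_of_isEquivOver (fun m _ => locP_smooth_of_iso m) hGe)
  let jj : BasedFunctor.comp t' (FibCat.fpSnd f' y') ≅ AlgSt.overMap h' :=
    H9Fib.wLeft (BasedFunctor.comp k s) (H9Fib.wRight ε (FibCat.fpFst (BasedFunctor.comp gm y) f)) ≪≫ jk
  obtain ⟨U₀, V₀, x₀, y₀, h₀, α₀, hx₀, hxs₀, hy₀, hP₀⟩ := hf
  have hh' : P ((AlgSp.yon S).map h') :=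
    prop_of_chart_square hP hZ.diag α₀ hx₀ hxs₀ hy₀ hP₀ y' t' ht' h' jj (Or.inl hy')
  let C : AlgSp.Sp S := ⟨clsPsh (FibCat.fp gm φ), sA⟩
  let π : C ⟶ (AlgSp.yon S).obj V' := ObjectProperty.homMk (projU gm φ)
  let q : C ⟶ (AlgSp.yon S).obj U := ObjectProperty.homMk (clsMap (FibCat.fpSnd gm φ) ≫ (clsOverCat U).hom)
  have hπ : P π := (hP.locality aA (AlgSp.IsAlgSpace.yon_obj V') π).2 fun x => by
    obtain ⟨v, hv⟩ := ASp.surjective_ofPt_of_repWith has' x
    exact ⟨_, _, a', 𝟙 _, (AlgSp.yon S).map h', AlgSp.Points.schemeHomeo U' v, AlgSp.IsAlgSpace.yon_obj U',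
      AlgSp.IsAlgSpace.yon_obj V', (ASp.locP_of_repWith aA (ASp.repWith_mono (fun _ _ k (_ : Etale k) => (inferInstance : Smooth k)) hae')), locP_smooth_of_iso _,
      by rw [Category.comp_id]; exact eh,
      by rw [← hv, AlgSp.Points.ofPt_eq_map_ofScheme]; rfl, hh'⟩
  obtain ⟨dV, -, -⟩ := repByAlgSp_iff.1 (repByAlgSp_overCat V)
  obtain ⟨dV', -, -⟩ := repByAlgSp_iff.1 (repByAlgSp_overCat V')
  obtain ⟨dU, -, -⟩ := repByAlgSp_iff.1 (repByAlgSp_overCat U)
  have eφ : clsMap φ = clsMap (AlgSt.overMap h) := clsMap_congr jh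
  have sq₀ : IsPullback (projU gm φ) (clsMap (FibCat.fpSnd gm φ) ≫ (clsOverCat U).hom)
      ((AlgSp.pyon S).map g) ((AlgSp.pyon S).map h) :=
    (isPullback_fp gm φ).of_iso (Iso.refl _) (clsOverCat V') (clsOverCat U) (clsOverCat V)
      (by simp [projU]) (by simp) (clsMap_overMap g) (by rw [eφ]; exact clsMap_overMap h)
  have sq : IsPullback q π ((AlgSp.yon S).map h) ((AlgSp.yon S).map g) :=
    (IsPullback.of_map (ASp.toP S) (h := (AlgSp.yon S).map g) (i := (AlgSp.yon S).map h) (f := π) (g := q)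
      (ObjectProperty.hom_ext _ sq₀.w) sq₀).flip
  exact hdesc h g C π q aA sq hg₁ hg₃ hg₂ hπ

end Groth.Agent.H9St
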