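import Groth.Agent.Lib.H9StQC
/-! The diagonal of a monomorphism followed by a morphism. -/

set_option autoImplicit false
set_option linter.style.haveILetI false
set_option linter.unusedVariables false
set_option linter.unusedSectionVars false
set_option backward.isDefEq.respectTransparency.types false

universe u

open CategoryTheory CategoryTheory.Limits AlgebraicGeometry

noncomputable section

namespace Groth.Agent.H9St

variable {S : Scheme.{u}} {X X' Y : AlgSt.Cat S} [FibCat.IsFibGrpd X.p] [FibCat.IsFibGrpd X'.p] [FibCat.IsFibGrpd Y.p]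

theorem isTwoCartOver_diag_of_ff (i : X ⥤ᵇ X') (g : X' ⥤ᵇ Y)
    (hfull : ∀ {a b : X.obj} (β : i.obj a ⟶ i.obj b), ∃ α, i.map α = β)
    (hfaith : ∀ {a b : X.obj} {α α' : a ⟶ b}, i.map α = i.map α' → α = α') :
    FibCat.IsTwoCartOver
      (F := (FibCat.fpLift (BasedFunctor.comp (FibCat.fpFst (BasedFunctor.comp i g) (BasedFunctor.comp i g)) i)
        (BasedFunctor.comp (FibCat.fpSnd (BasedFunctor.comp i g) (BasedFunctor.comp i g)) i)
        (FibCat.fpIso (BasedFunctor.comp i g) (BasedFunctor.comp i g))))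
      (G := FibCat.diag g) (FibCat.diag (BasedFunctor.comp i g)) i (Iso.refl _) := by
  let ig := BasedFunctor.comp i g
  haveI : FibCat.IsFibGrpd (FibCat.fp ig ig).p := H9Fib.isFibGrpd_fp _ _
  haveI : FibCat.IsFibGrpd (FibCat.fp g g).p := H9Fib.isFibGrpd_fp _ _
  refine H9Fib.isEquivOver_of _ ⟨fun {w w'} m => ?_⟩ ⟨fun {w w'} {n n'} e => ?_⟩ fun η => ?_
  · have h₁ : i.map m.hom.fst.hom.fst ≫ 𝟙 _ = 𝟙 _ ≫ m.hom.snd := congrArg (fun q => q.hom.fst) m.hom.w
    have h₂ : i.map m.hom.fst.hom.snd ≫ 𝟙 _ = 𝟙 _ ≫ m.hom.snd := congrArg (fun q => q.hom.snd) m.hom.w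
    have h₁' : i.map m.hom.fst.hom.fst = m.hom.snd := ((Category.comp_id _).symm.trans h₁).trans (Category.id_comp _)
    have h₂' : i.map m.hom.fst.hom.snd = m.hom.snd := ((Category.comp_id _).symm.trans h₂).trans (Category.id_comp _)
    exact ⟨m.hom.fst.hom.fst, ObjectProperty.hom_ext _ (CategoricalPullback.hom_ext
      (ObjectProperty.hom_ext _ (CategoricalPullback.hom_ext rfl (hfaith (h₁'.trans h₂'.symm)))) h₁')⟩
  · exact congrArg (fun q => q.hom.fst.hom.fst) e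
  · let a := η.obj.fst
    let z := η.obj.snd
    let p : i.obj a.obj.fst ≅ z := (FibCat.fpFst g g).toFunctor.mapIso η.obj.iso
    let q : i.obj a.obj.snd ≅ z := (FibCat.fpSnd g g).toFunctor.mapIso η.obj.iso
    have hi : (FibCat.fp g g).p.IsHomLift (𝟙 (X.p.obj a.obj.fst)) η.obj.iso.hom := η.property
    haveI hp : X'.p.IsHomLift (𝟙 (X.p.obj a.obj.fst)) p.hom :=
      @BasedFunctor.preserves_isHomLift _ _ _ _ (FibCat.fpFst g g) _ _ _ _ _ η.obj.iso.hom hi
    haveI hq : X'.p.IsHomLift (𝟙 (X.p.obj a.obj.fst)) q.hom :=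
      @BasedFunctor.preserves_isHomLift _ _ _ _ (FibCat.fpSnd g g) _ _ _ _ _ η.obj.iso.hom hi
    have hq' : X'.p.IsHomLift (𝟙 (X.p.obj a.obj.fst)) q.inv := IsHomLift.lift_id_inv _ _ _
    obtain ⟨r, hr⟩ := hfull (p.hom ≫ q.inv)
    have hpq : X'.p.IsHomLift (𝟙 (X.p.obj a.obj.fst)) (i.map r) := by
      rw [hr]
      exact @IsHomLift.comp_of_lift_id _ _ _ _ _ _ _ _ _ _ _ hp hq'
    haveI hrl : X.p.IsHomLift (𝟙 (X.p.obj a.obj.fst)) r := (BasedFunctor.isHomLift_iff i _ r).1 hpq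
    haveI hr1 : IsIso r := H9Fib.isIso_vertical (Z := X) (U := X.p.obj a.obj.fst) r
    have hsq : g.map p.hom ≫ 𝟙 _ = a.obj.iso.hom ≫ g.map q.hom := η.obj.iso.hom.hom.w
    have key : g.map (p.hom ≫ q.inv) = a.obj.iso.hom :=
      (cancel_mono (g.map q.hom)).1 ((H9Diag.comp_comp g.toFunctor p q).trans ((Category.comp_id _).symm.trans hsq))
    let e₁ : (FibCat.diag ig).obj a.obj.fst ≅ a := (FibCat.fpProp _ _).isoMk
      (CategoricalPullback.mkIso (Iso.refl _) (@asIso _ _ a.obj.fst a.obj.snd r hr1) (by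
        show g.map (i.map (𝟙 _)) ≫ a.obj.iso.hom = 𝟙 _ ≫ g.map (i.map r)
        rw [hr, key]
        exact (congrArg (· ≫ a.obj.iso.hom) ((congrArg g.toFunctor.map (i.toFunctor.map_id _)).trans
          (g.toFunctor.map_id _)))))
    refine ⟨a.obj.fst, (FibCat.fpProp _ _).isoMk (CategoricalPullback.mkIso e₁ p (ObjectProperty.hom_ext _
      (CategoricalPullback.hom_ext ?_ ?_))), ?_⟩
    · show i.map (𝟙 _) ≫ p.hom = 𝟙 _ ≫ p.hom
      rw [i.map_id]
    · show i.map r ≫ q.hom = 𝟙 _ ≫ p.hom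
      rw [hr, Category.id_comp, Category.assoc, Iso.inv_hom_id, Category.comp_id]
    · refine IsHomLift.of_fac' _ _ _ rfl rfl ?_
      show X.p.map (𝟙 _) = _
      simp; rfl

end Groth.Agent.H9St
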