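import Groth.Agent.Lib.H9StCls
import Groth.Prelude.Def_AlgSt4
import Groth.Prelude.Def_W4c2isonaturalstkIso
/-! Isomorphisms of presheaves of classes act on the points. -/

set_option autoImplicit false
set_option linter.style.haveILetI false
set_option linter.unusedVariables false
set_option backward.isDefEq.respectTransparency.types false

universe u

open CategoryTheory AlgebraicGeometry

noncomputable section

namespace Groth.Agent.H9St

variable {S : Scheme.{u}} {X Y X' Y' : AlgSt.Cat S}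

/-- The fibre object of a field-valued point. -/
def fibOfPt (p : AlgSt.FPt X) : X.p.Fiber (Over.mk p.str) := ⟨p.obj, p.lies⟩

/-- A field-valued point of a fibre object. -/
def ptOfFib {K : Type u} [Field K] {str : Spec (CommRingCat.of K) ⟶ S} (z : X.p.Fiber (Over.mk str)) :
    AlgSt.FPt X := { K := K, str := str, obj := z.1, lies := z.2 }

theorem mk_eq_of_cls (p : AlgSt.FPt X) (z : X.p.Fiber (Over.mk p.str)) (h : IsoNat.cls (fibOfPt p) = IsoNat.cls z) :
    AlgSt.Points.mk p = AlgSt.Points.mk (ptOfFib z) := by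
  obtain ⟨e⟩ := Quotient.exact h
  exact AlgSt.Points.sound ⟨p, 𝟙 _, e.hom.1, trivial⟩

variable (φ : IsoNat.FIso X Y)

/-- The image of a field-valued point. -/
def transPt (p : AlgSt.FPt X) : AlgSt.Points Y :=
  AlgSt.Points.mk (ptOfFib (Quotient.out (φ.toEquiv _ (IsoNat.cls (fibOfPt p)))))

theorem transPt_eq (p : AlgSt.FPt X) (z : Y.p.Fiber (Over.mk p.str))
    (h : φ.toEquiv _ (IsoNat.cls (fibOfPt p)) = IsoNat.cls z) : transPt φ p = AlgSt.Points.mk (ptOfFib z) := by
  refine mk_eq_of_cls (ptOfFib (Quotient.out (φ.toEquiv _ (IsoNat.cls (fibOfPt p))))) z ?_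
  exact (Quotient.out_eq _).trans h

theorem transPt_hom {r p : AlgSt.FPt X} (a : r.obj ⟶ p.obj) : transPt φ r = transPt φ p := by
  let g : Over.mk r.str ⟶ Over.mk p.str := eqToHom r.lies.symm ≫ X.p.map a ≫ eqToHom p.lies
  haveI : X.p.IsHomLift g a := IsHomLift.of_fac X.p g a r.lies p.lies (by simp [g])
  obtain ⟨y', y, b, _, h1, h2⟩ := φ.natural g (fibOfPt r) (fibOfPt p) a this
  rw [transPt_eq φ r y' h1, transPt_eq φ p y h2]
  exact AlgSt.Points.sound ⟨ptOfFib y', 𝟙 _, b, trivial⟩

/-- The map on points. -/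
def transPoints : AlgSt.Points X → AlgSt.Points Y :=
  Quot.lift (transPt φ) (fun _ _ ⟨_, a, b, _⟩ => (transPt_hom φ a).symm.trans (transPt_hom φ b))

theorem transPoints_surjective : Function.Surjective (transPoints φ) := by
  intro q
  induction q using Quot.ind with
  | mk q =>
    obtain ⟨c, hc⟩ := (φ.toEquiv (Over.mk q.str)).surjective (IsoNat.cls (fibOfPt q))
    obtain ⟨z, rfl⟩ := Quotient.exists_rep c
    exact ⟨AlgSt.Points.mk (ptOfFib z), transPt_eq φ (ptOfFib z) (fibOfPt q) hc⟩

theorem transPoints_map {f : X ⥤ᵇ Y} {f' : X' ⥤ᵇ Y'} (ψ : IsoNat.FIsoSq f f') (q : AlgSt.Points X) :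
    transPoints ψ.tgt (AlgSt.Points.map f q) = AlgSt.Points.map f' (transPoints ψ.src q) := by
  induction q using Quot.ind with
  | mk p =>
    obtain ⟨z, hz⟩ := Quotient.exists_rep (ψ.src.toEquiv _ (IsoNat.cls (fibOfPt p)))
    show transPt ψ.tgt (p.map f) = AlgSt.Points.map f' (transPt ψ.src p)
    rw [transPt_eq ψ.src p z hz.symm, AlgSt.Points.map_mk]
    refine transPt_eq ψ.tgt (p.map f) ((IsoNat.fibFun f' _).obj z) ?_
    have h := ψ.comm _ (IsoNat.cls (fibOfPt p))
    rw [← hz] at h
    exact h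

end Groth.Agent.H9St
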