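import Groth.Agent.Lib.H9StQC
/-! Products of representable morphisms. -/

set_option autoImplicit false
set_option linter.style.haveILetI false
set_option linter.unusedVariables false
set_option linter.unusedSectionVars false
set_option backward.isDefEq.respectTransparency.types false

universe u

open CategoryTheory CategoryTheory.Limits AlgebraicGeometry

noncomputable section

namespace Groth.Agent.H9St

open H9Diag

variable {S : Scheme.{u}} {X₁ X₂ Y₁ Y₂ : AlgSt.Cat S}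

/-- The base over itself has at most one lift of a morphism. -/
theorem self_hom_ext {T T' : Over S} (f : T ⟶ T') {a b : (FibCat.selfOver (Over S)).obj} (φ ψ : a ⟶ b)
    (h₁ : (FibCat.selfOver (Over S)).p.IsHomLift f φ) (h₂ : (FibCat.selfOver (Over S)).p.IsHomLift f ψ) : φ = ψ :=
  (@IsHomLift.fac' _ _ _ _ (FibCat.selfOver (Over S)).p _ _ _ _ f φ h₁).trans
    (@IsHomLift.fac' _ _ _ _ (FibCat.selfOver (Over S)).p _ _ _ _ f ψ h₂).symm

theorem repWith_fpLift_prod [FibCat.IsFibGrpd X₁.p] [FibCat.IsFibGrpd X₂.p] [FibCat.IsFibGrpd Y₁.p]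
    [FibCat.IsFibGrpd Y₂.p] {P : MorphismProperty (AlgSp.Sp S)} (hP : Standard P) (f₁ : X₁ ⥤ᵇ Y₁) (f₂ : X₂ ⥤ᵇ Y₂)
    (h₁ : AlgSt.RepByAlgSpWith P f₁) (h₂ : AlgSt.RepByAlgSpWith P f₂)
    (a₁ : X₁ ⥤ᵇ FibCat.selfOver (Over S)) (a₂ : X₂ ⥤ᵇ FibCat.selfOver (Over S))
    (b₁ : Y₁ ⥤ᵇ FibCat.selfOver (Over S)) (b₂ : Y₂ ⥤ᵇ FibCat.selfOver (Over S))
    (ha₁ : BasedFunctor.comp f₁ b₁ = a₁) (ha₂ : BasedFunctor.comp f₂ b₂ = a₂)
    (e : BasedFunctor.comp (BasedFunctor.comp (FibCat.fpFst a₁ a₂) f₁) b₁ ≅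
      BasedFunctor.comp (BasedFunctor.comp (FibCat.fpSnd a₁ a₂) f₂) b₂) :
    AlgSt.RepByAlgSpWith P (FibCat.fpLift (BasedFunctor.comp (FibCat.fpFst a₁ a₂) f₁)
      (BasedFunctor.comp (FibCat.fpSnd a₁ a₂) f₂) e) := by
  subst ha₁ ha₂
  haveI : FibCat.IsFibGrpd (FibCat.selfOver (Over S)).p := isFibGrpd_selfOver
  let c := BasedFunctor.comp f₂ b₂
  haveI : FibCat.IsFibGrpd (FibCat.fp (BasedFunctor.comp f₁ b₁) c).p := H9Fib.isFibGrpd_fp _ _
  haveI : FibCat.IsFibGrpd (FibCat.fp b₁ c).p := H9Fib.isFibGrpd_fp _ _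
  haveI : FibCat.IsFibGrpd (FibCat.fp c b₁).p := H9Fib.isFibGrpd_fp _ _
  haveI : FibCat.IsFibGrpd (FibCat.fp b₁ b₂).p := H9Fib.isFibGrpd_fp _ _
  haveI : FibCat.IsFibGrpd (FibCat.fp b₂ b₁).p := H9Fib.isFibGrpd_fp _ _
  let s₁ := swapFun b₁ c
  let s₂ := swapFun b₂ b₁
  have hR1 : AlgSt.RepByAlgSpWith P (BasedFunctor.comp s₁ (bcFun f₂ b₂ b₁)) :=
    (repByAlgSpWith_congr (f := bcFun f₂ b₂ b₁) (f' := BasedFunctor.comp s₁ (bcFun f₂ b₂ b₁)) s₁ (BasedFunctor.id _)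
      (isEquivOver_swap _ _) (H9Fib.isEquivOver_id _) (Iso.refl _)).1 (repWith_bcFun f₂ b₂ b₁ h₂)
  have hR : AlgSt.RepByAlgSpWith P (BasedFunctor.comp (BasedFunctor.comp s₁ (bcFun f₂ b₂ b₁)) s₂) :=
    (repByAlgSpWith_congr (f := BasedFunctor.comp (BasedFunctor.comp s₁ (bcFun f₂ b₂ b₁)) s₂)
      (f' := BasedFunctor.comp s₁ (bcFun f₂ b₂ b₁)) (BasedFunctor.id _) s₂ (H9Fib.isEquivOver_id _)
      (isEquivOver_swap b₂ b₁) (Iso.refl _)).2 hR1
  let A := BasedFunctor.comp (bcFun f₁ b₁ c) (BasedFunctor.comp (BasedFunctor.comp s₁ (bcFun f₂ b₂ b₁)) s₂)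
  let B := FibCat.fpLift (BasedFunctor.comp (FibCat.fpFst (BasedFunctor.comp f₁ b₁) c) f₁)
    (BasedFunctor.comp (FibCat.fpSnd (BasedFunctor.comp f₁ b₁) c) f₂) e
  have hC : AlgSt.RepByAlgSpWith P A := repWith_comp hP (repWith_bcFun f₁ b₁ c h₁) hR
  have key : ∀ w, b₁.map (𝟙 _) ≫ (A.obj w).obj.iso.hom = (B.obj w).obj.iso.hom ≫ b₂.map (𝟙 _) := fun w =>
    ((congrArg (· ≫ _) (b₁.toFunctor.map_id _)).trans (Category.id_comp _)).trans
      ((self_hom_ext (𝟙 (Y₁.p.obj (B.obj w).obj.fst)) _ _ (A.obj w).property (B.obj w).property).trans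
        ((congrArg (_ ≫ ·) (b₂.toFunctor.map_id _)).trans (Category.comp_id _)).symm)
  let i : B ≅ A := BasedNatIso.mkNatIso (NatIso.ofComponents (fun w => (FibCat.fpProp b₁ b₂).isoMk
      (CategoricalPullback.mkIso (Iso.refl _) (Iso.refl _) (key w)))
    (fun {a b} m => ObjectProperty.hom_ext _ (CategoricalPullback.hom_ext
      ((Category.comp_id _).trans (Category.id_comp _).symm) ((Category.comp_id _).trans (Category.id_comp _).symm))))
    fun w => by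
      refine IsHomLift.of_fac' _ _ _ (B.w_obj w) (B.w_obj w) ?_
      show Y₁.p.map (𝟙 _) = _
      simp; rfl
  exact (repByAlgSpWith_congr (f := A) (f' := B) (BasedFunctor.id _) (BasedFunctor.id _) (H9Fib.isEquivOver_id _)
    (H9Fib.isEquivOver_id _) i).1 hC

end Groth.Agent.H9St
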