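import Groth.Agent.Lib.H9StDiagRep
import Groth.Agent.Lib.AlgSpLocalRows
import Groth.Agent.Lib.AlgSpProper
import Groth.Agent.Lib.AlgSpTop
import Groth.Agent.Lib.AlgSpValCrit
import Groth.Agent.Lib.AlgSpAffineGlobal
import Groth.Agent.S10275
import Groth.Agent.S10536
import Groth.Agent.S10543
import Groth.Agent.S10535
import Groth.Agent.S10520
import Groth.Agent.S10519
import Groth.Agent.S10526
import Groth.Agent.S10533
/-! Standard properties of morphisms of algebraic spaces, packaged for stacks. -/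

set_option autoImplicit false
set_option linter.style.haveILetI false
set_option linter.unusedVariables false
set_option linter.unusedSectionVars false
set_option backward.isDefEq.respectTransparency.types false

universe u

open CategoryTheory CategoryTheory.Limits AlgebraicGeometry Opposite

noncomputable section

namespace Groth.Agent.H9St

open H9Diag

variable {S : Scheme.{u}}

/-- Stable under base change and composition between algebraic spaces, fppf local on the base. -/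
structure Standard (P : MorphismProperty (AlgSp.Sp S)) : Prop where
  bc : ∀ ⦃X₁ Y₁ X₂ Y₂ : AlgSp.Sp S⦄, AlgSp.IsAlgSpace X₁ → AlgSp.IsAlgSpace Y₁ → AlgSp.IsAlgSpace X₂ →
      AlgSp.IsAlgSpace Y₂ → ∀ (a : X₁ ⟶ Y₁) (b : Y₂ ⟶ Y₁) (a' : X₂ ⟶ Y₂) (b' : X₂ ⟶ X₁),
        IsPullback b' a' a b → P a → P a'
  comp : ∀ ⦃A B C : AlgSp.Sp S⦄, AlgSp.IsAlgSpace A → AlgSp.IsAlgSpace B → AlgSp.IsAlgSpace C →
      ∀ (a : A ⟶ B) (b : B ⟶ C), P a → P b → P (a ≫ b)
  loc : AlgSp.IsLocalOnBase AlgSp.IsFppfCover P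

theorem local_fppf {P : MorphismProperty (AlgSp.Sp S)}
    (h : AlgSp.IsLocalOnBase (AlgSp.IsFpqcCover (S := S)) P) : AlgSp.IsLocalOnBase AlgSp.IsFppfCover P :=
  fun ι Y Yi g hY hYi hg X f hX Xi p q hXi sq => h Yi g hY hYi
    ⟨fun i => (hg.1 i).1, ASp.refines_of_fppfCover hY _ hYi _ (fun i => (hg.1 i).1) (fun i => (hg.1 i).2) hg.2⟩
    f hX Xi p q hXi sq

theorem locP_lft_fu_comp {A B C : AlgSp.Sp S} (hA : AlgSp.IsAlgSpace A) (hB : AlgSp.IsAlgSpace B)
    (hC : AlgSp.IsAlgSpace C) (a : A ⟶ B) (b : B ⟶ C)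
    (ha : AlgSp.LocP (@LocallyOfFiniteType ⊓ @FormallyUnramified) a)
    (hb : AlgSp.LocP (@LocallyOfFiniteType ⊓ @FormallyUnramified) b) :
    AlgSp.LocP (@LocallyOfFiniteType ⊓ @FormallyUnramified) (a ≫ b) := ASp.locP_comp hA hB hC ha hb

theorem standard_unramified : Standard (AlgSp.LocP (S := S) (@LocallyOfFiniteType ⊓ @FormallyUnramified)) :=
  ⟨fun _ _ _ _ hA hB _ hD a b a' b' sq h => ASp.locP_baseChange hA hB hD sq h,
    fun _ _ _ hA hB hC a b ha hb => ASp.locP_comp hA hB hC ha hb, local_fppf ASp.isLocalOnBase_locP⟩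

theorem standard_lft : Standard (AlgSp.LocP (S := S) @LocallyOfFiniteType) :=
  ⟨fun _ _ _ _ hA hB _ hD a b a' b' sq h => ASp.locP_baseChange hA hB hD sq h,
    fun _ _ _ hA hB hC a b ha hb => ASp.locP_comp hA hB hC ha hb, local_fppf ASp.isLocalOnBase_locP⟩

theorem standard_lqf : Standard (AlgSp.LocP (S := S) (@LocallyQuasiFinite ⊓ @LocallyOfFiniteType)) :=
  ⟨fun _ _ _ _ hA hB _ hD a b a' b' sq h => ASp.locP_baseChange hA hB hD sq h,
    fun _ _ _ hA hB hC a b ha hb => ASp.locP_comp hA hB hC ha hb, local_fppf ASp.isLocalOnBase_locP⟩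

theorem standard_proper : Standard (AlgSp.IsProperMor (S := S)) :=
  ⟨fun _ _ _ _ hA hB _ hD a b a' b' sq h => ⟨ASp.repWith_baseChange (ASp.isPullback_diagonal_map sq) h.1,
    ⟨ASp.locP_baseChange hA hB hD sq h.2.1.1, ASp.isQuasiCompactMor_baseChange sq h.2.1.2⟩,
      ASp.univSp_baseChange sq h.2.2⟩,
    fun _ _ _ hA hB hC a b ha hb => ASp.isProperMor_comp hA hB hC ha hb, local_fppf (S10536.result S)⟩

theorem standard_separated : Standard (AlgSp.IsSeparatedMor (S := S)) :=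
  ⟨fun _ _ _ _ hA hB _ hD a b a' b' sq h => ASp.repWith_baseChange (ASp.isPullback_diagonal_map sq) h,
    fun _ _ _ hA hB hC a b ha hb => ASp.repWith_diagonal_comp ha hb, local_fppf (S10535.result S)⟩

theorem standard_qs : Standard (AlgSp.IsQuasiSeparatedMor (S := S)) :=
  ⟨fun _ _ _ _ hA hB _ hD a b a' b' sq h => ASp.repWith_baseChange (ASp.isPullback_diagonal_map sq) h,
    fun _ _ _ hA hB hC a b ha hb => ASp.repWith_diagonal_comp ha hb, local_fppf (S10520.result S)⟩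

theorem standard_qc : Standard (AlgSp.IsQuasiCompactMor (S := S)) :=
  ⟨fun _ _ _ _ hA hB _ hD a b a' b' sq h => ASp.isQuasiCompactMor_baseChange sq h,
    fun _ _ _ hA hB hC a b ha hb => ASp.isQuasiCompactMor_comp hB hC ha hb, local_fppf (S10519.result S)⟩

theorem Standard.inf {P Q : MorphismProperty (AlgSp.Sp S)} (hP : Standard P) (hQ : Standard Q) : Standard (P ⊓ Q) :=
  ⟨fun _ _ _ _ hA hB hC hD a b a' b' sq h =>
      ⟨hP.bc hA hB hC hD a b a' b' sq h.1, hQ.bc hA hB hC hD a b a' b' sq h.2⟩,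
    fun _ _ _ hA hB hC a b ha hb => ⟨hP.comp hA hB hC a b ha.1 hb.1, hQ.comp hA hB hC a b ha.2 hb.2⟩,
    fun ι Y Yi g hY hYi hg X f hX Xi p q hXi sq =>
      ⟨fun h i => ⟨(hP.loc Yi g hY hYi hg f hX Xi p q hXi sq).1 h.1 i,
          (hQ.loc Yi g hY hYi hg f hX Xi p q hXi sq).1 h.2 i⟩,
        fun h => ⟨(hP.loc Yi g hY hYi hg f hX Xi p q hXi sq).2 fun i => (h i).1,
          (hQ.loc Yi g hY hYi hg f hX Xi p q hXi sq).2 fun i => (h i).2⟩⟩⟩

theorem standard_qcqs : Standard (AlgSp.IsQuasiCompactMor ⊓ AlgSp.IsQuasiSeparatedMor (S := S)) :=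
  standard_qc.inf standard_qs

/-! Monomorphisms locally of finite type over schemes -/

section Mono

variable {F : AlgSp.Sp S} {U : Over S} {m : F ⟶ (AlgSp.yon S).obj U}

theorem MonoLFT.qs (hm : ASp.MonoLFT m) : AlgSp.IsQuasiSeparatedMor m := by
  haveI : Mono m := ASp.mono_of_repWith_mono hm.props.2.2.1
  exact ASp.repWith_of_isIso _

theorem MonoLFT.sep (hm : ASp.MonoLFT m) : AlgSp.IsSeparatedMor m := by
  haveI : Mono m := ASp.mono_of_repWith_mono hm.props.2.2.1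
  exact ASp.repWith_of_isIso _

theorem MonoLFT.lft (hm : ASp.MonoLFT m) : AlgSp.LocP @LocallyOfFiniteType m :=
  ASp.locP_of_repWith (AlgSp.IsAlgSpace.yon_obj U) hm.props.2.1

theorem MonoLFT.lqf (hm : ASp.MonoLFT m) : AlgSp.LocP (@LocallyQuasiFinite ⊓ @LocallyOfFiniteType) m :=
  ASp.locP_of_repWith (AlgSp.IsAlgSpace.yon_obj U) hm.props.2.2.2.2

theorem MonoLFT.unramified (hm : ASp.MonoLFT m) :
    AlgSp.LocP (@LocallyOfFiniteType ⊓ @FormallyUnramified) m :=
  ASp.locP_of_repWith (AlgSp.IsAlgSpace.yon_obj U) (ASp.repWith_mono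
    (fun _ _ f (hf : LocallyOfFiniteType f ∧ Mono f) => ⟨hf.1, by haveI := hf.2; exact (inferInstance : FormallyUnramified f)⟩)
    hm)

end Mono

variable {X Y Z T : AlgSt.Cat S} [hX : FibCat.IsFibGrpd X.p] [hY : FibCat.IsFibGrpd Y.p]
  [hZ : FibCat.IsFibGrpd Z.p] [hT : FibCat.IsFibGrpd T.p] {P : MorphismProperty (AlgSp.Sp S)}

theorem repWith_comp (hP : Standard P) {f : X ⥤ᵇ Y} {g : Y ⥤ᵇ Z}
    (hf : AlgSt.RepByAlgSpWith P f) (hg : AlgSt.RepByAlgSpWith P g) :
    AlgSt.RepByAlgSpWith P (BasedFunctor.comp f g) :=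
  repByAlgSpWith_comp_of_local P hP.bc hP.comp hP.loc hf hg

theorem repWith_diag_comp (hP : Standard P) {f : X ⥤ᵇ Y} {g : Y ⥤ᵇ Z}
    (hf : AlgSt.RepByAlgSpWith P (FibCat.diag f)) (hg : AlgSt.RepByAlgSpWith P (FibCat.diag g)) :
    AlgSt.RepByAlgSpWith P (FibCat.diag (BasedFunctor.comp f g)) := by
  haveI : FibCat.IsFibGrpd (FibCat.fp f f).p := H9Fib.isFibGrpd_fp _ _
  haveI : FibCat.IsFibGrpd (FibCat.fp (BasedFunctor.comp f g) (BasedFunctor.comp f g)).p := H9Fib.isFibGrpd_fp _ _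
  exact (repWith_diag_comp_iff f g).1 (repWith_comp hP hf (repWith_cmp f f g hg))

theorem isEquivOver_fpFst_of_id (f : X ⥤ᵇ Y) : FibCat.IsEquivOver (FibCat.fpFst f (BasedFunctor.id Y)) :=
  isEquivOver_fpFst_id f

/-- Cancellation for a standard property. -/
theorem repWith_of_comp (hP : Standard P) (f : X ⥤ᵇ Y) (g : Y ⥤ᵇ Z)
    (hgf : AlgSt.RepByAlgSpWith P (BasedFunctor.comp f g)) (hΔ : AlgSt.RepByAlgSpWith P (FibCat.diag g)) :
    AlgSt.RepByAlgSpWith P f := by
  haveI : FibCat.IsFibGrpd (FibCat.fp f (BasedFunctor.id Y)).p := H9Fib.isFibGrpd_fp _ _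
  haveI : FibCat.IsFibGrpd (FibCat.fp (BasedFunctor.comp f g) (BasedFunctor.comp (BasedFunctor.id Y) g)).p :=
    H9Fib.isFibGrpd_fp _ _
  have h1 := repWith_comp hP (repWith_cmp f (BasedFunctor.id Y) g hΔ)
    (repByAlgSpWith_fpSnd (BasedFunctor.comp f g) (BasedFunctor.comp (BasedFunctor.id Y) g) hgf)
  exact (repByAlgSpWith_congr (f := f)
    (f' := BasedFunctor.comp (cmp f (BasedFunctor.id Y) g)
      (FibCat.fpSnd (BasedFunctor.comp f g) (BasedFunctor.comp (BasedFunctor.id Y) g)))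
    (FibCat.fpFst f (BasedFunctor.id Y)) (BasedFunctor.id Y) (isEquivOver_fpFst_id f) (H9Fib.isEquivOver_id _)
    (FibCat.fpIso f (BasedFunctor.id Y)).symm).2 h1

theorem flip_sq {C : Type*} [Category C] {A B A' B' : C} {a : A ⟶ A'} {b : B ⟶ B'} (i : A ≅ B) (j : A' ≅ B')
    (h : a ≫ j.hom = i.hom ≫ b) : b ≫ j.inv = i.inv ≫ a := by
  rw [Iso.comp_inv_eq, Category.assoc, h, Iso.inv_hom_id_assoc]

/-- Graphs are base changes of diagonals. -/
theorem repWith_graph (p : X ⥤ᵇ T) (q : Y ⥤ᵇ T) (g : X ⥤ᵇ Y)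
    (e : BasedFunctor.comp (BasedFunctor.id X) p ≅ BasedFunctor.comp g q)
    (h : AlgSt.RepByAlgSpWith P (FibCat.diag q)) :
    AlgSt.RepByAlgSpWith P (FibCat.fpLift (BasedFunctor.id X) g e) := by
  haveI : FibCat.IsFibGrpd (FibCat.fp g (BasedFunctor.id Y)).p := H9Fib.isFibGrpd_fp _ _
  haveI : FibCat.IsFibGrpd (FibCat.fp p q).p := H9Fib.isFibGrpd_fp _ _
  haveI : FibCat.IsFibGrpd (FibCat.fp (BasedFunctor.comp g q) (BasedFunctor.comp (BasedFunctor.id Y) q)).p :=
    H9Fib.isFibGrpd_fp _ _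
  let i₁ : BasedFunctor.comp (BasedFunctor.comp g q) (BasedFunctor.id T) ≅ BasedFunctor.comp (BasedFunctor.id X) p :=
    e.symm
  let i₂ : BasedFunctor.comp (BasedFunctor.comp (BasedFunctor.id Y) q) (BasedFunctor.id T) ≅
      BasedFunctor.comp (BasedFunctor.id Y) q := Iso.refl _
  let G := fpCongr (BasedFunctor.id X) (BasedFunctor.id Y) (BasedFunctor.id T) i₁ i₂
  have hG : FibCat.IsEquivOver G :=
    isEquivOver_fpCongr _ _ (H9Fib.isEquivOver_id _) (H9Fib.isEquivOver_id _) (H9Fib.isEquivOver_id _)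
  let i : BasedFunctor.comp (cmp g (BasedFunctor.id Y) q) G ≅
      BasedFunctor.comp (FibCat.fpFst g (BasedFunctor.id Y)) (FibCat.fpLift (BasedFunctor.id X) g e) :=
    BasedNatIso.mkNatIso (NatIso.ofComponents (fun w => (FibCat.fpProp p q).isoMk
      (CategoricalPullback.mkIso (Iso.refl _) w.obj.iso.symm (by
        show p.map (𝟙 _) ≫ e.hom.toNatTrans.app w.obj.fst =
          (e.hom.toNatTrans.app w.obj.fst ≫ q.map w.obj.iso.hom ≫ 𝟙 _) ≫ q.map w.obj.iso.inv
        erw [p.toFunctor.map_id, Category.id_comp, Category.comp_id, Category.assoc, ← q.toFunctor.map_comp,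
          Iso.hom_inv_id, q.toFunctor.map_id, Category.comp_id])))
      (fun {w w'} m => ObjectProperty.hom_ext _ (CategoricalPullback.hom_ext
        ((Category.comp_id _).trans (Category.id_comp _).symm) (by
          exact flip_sq w.obj.iso w'.obj.iso m.hom.w))))
      fun w => by
        refine IsHomLift.of_fac' _ _ _ rfl rfl ?_
        show X.p.map (𝟙 _) = _
        simp; rfl
  exact (repByAlgSpWith_congr (f := FibCat.fpLift (BasedFunctor.id X) g e) (f' := cmp g (BasedFunctor.id Y) q)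
    (FibCat.fpFst g (BasedFunctor.id Y)) G (isEquivOver_fpFst_id g) hG i).2 (repWith_cmp _ _ _ h)

theorem isEquivOver_fpSnd_id (f : X ⥤ᵇ T) : FibCat.IsEquivOver (FibCat.fpSnd (BasedFunctor.id T) f) := by
  exact H9Fib.isEquivOver_trans (isEquivOver_swap (BasedFunctor.id T) f) (isEquivOver_fpFst_id f)

/-- Sections are base changes of diagonals. -/
theorem repWith_section (f : X ⥤ᵇ T) (s : T ⥤ᵇ X) (e : BasedFunctor.comp s f ≅ BasedFunctor.id T)
    (h : AlgSt.RepByAlgSpWith P (FibCat.diag f)) : AlgSt.RepByAlgSpWith P s := by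
  haveI : FibCat.IsFibGrpd (FibCat.fp (BasedFunctor.id T) f).p := H9Fib.isFibGrpd_fp _ _
  let e' : BasedFunctor.comp (BasedFunctor.id T) (BasedFunctor.id T) ≅ BasedFunctor.comp s f := e.symm
  exact (repByAlgSpWith_congr (f := s) (f' := FibCat.fpLift (BasedFunctor.id T) s e') (BasedFunctor.id T)
    (FibCat.fpSnd (BasedFunctor.id T) f) (H9Fib.isEquivOver_id _) (isEquivOver_fpSnd_id f) (Iso.refl s)).2
    (repWith_graph (BasedFunctor.id T) f s e' h)

theorem iso_ext {A B : AlgSt.Cat S} {F G : A ⥤ᵇ B} {i j : F ≅ G}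
    (h : ∀ a, i.hom.toNatTrans.app a = j.hom.toNatTrans.app a) : i = j := by
  apply Iso.ext
  apply BasedNatTrans.homCategory.ext
  ext a
  exact h a

/-- Comparison maps are base changes of diagonals. -/
theorem repWith_fpLift_cmp (f : X ⥤ᵇ Z) (g : Y ⥤ᵇ Z) (t : Z ⥤ᵇ T)
    (e : BasedFunctor.comp (FibCat.fpFst f g) (BasedFunctor.comp f t) ≅
      BasedFunctor.comp (FibCat.fpSnd f g) (BasedFunctor.comp g t))
    (he : ∀ x, e.hom.toNatTrans.app x = t.map x.obj.iso.hom)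
    (h : AlgSt.RepByAlgSpWith P (FibCat.diag t)) :
    AlgSt.RepByAlgSpWith P (FibCat.fpLift (FibCat.fpFst f g) (FibCat.fpSnd f g) e) := by
  rw [show e = cmpIso f g t from iso_ext fun x => he x]
  exact repWith_cmp f g t h

/-- Diagonals of representable morphisms with a property. -/
theorem repWith_diag_of_with {Q : MorphismProperty (AlgSp.Sp S)} [P.RespectsIso] [Q.RespectsIso]
    {f : X ⥤ᵇ Y} (hf : AlgSt.RepByAlgSpWith Q f) (hQ : Standard Q)
    (hP : ∀ (A B : AlgSp.Sp S) (a : A ⟶ B) (U : Over S) (b : (AlgSp.yon S).obj U ⟶ pullback a a),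
      AlgSp.IsAlgSpace A → AlgSp.IsAlgSpace B → Q a → P (pullback.snd (pullback.diagonal a) b)) :
    AlgSt.RepByAlgSpWith P (FibCat.diag f) := by
  refine repWith_diag_of_forall fun U y => ?_
  haveI hU : FibCat.IsFibGrpd (FibCat.overCat U).p := isFibGrpd_overCat U
  haveI : FibCat.IsFibGrpd (FibCat.fp y f).p := H9Fib.isFibGrpd_fp _ _
  let π := FibCat.fpFst y f
  haveI : FibCat.IsFibGrpd (FibCat.fp π π).p := H9Fib.isFibGrpd_fp _ _
  have hUr : AlgSt.RepByAlgSp (FibCat.overCat U) := repByAlgSp_overCat U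
  have hw : AlgSt.RepByAlgSp (FibCat.fp y f) := rep1_of_with hf U y
  have hww : AlgSt.RepByAlgSp (FibCat.fp π π) := repByAlgSp_fp (repByAlgSp1_of_repByAlgSp hw hUr π) hw π
  refine repWith_of_map hw hww (FibCat.diag π) fun hs hs' V b hA hB => ?_
  obtain ⟨dw, sw, aw, hQ'⟩ := (repByAlgSpWith_iff f).1 hf U y
  obtain ⟨dU, sU, aU⟩ := repByAlgSp_iff.1 hUr
  let A : AlgSp.Sp S := ⟨clsPsh (FibCat.fp y f), hs⟩
  let B : AlgSp.Sp S := ⟨clsPsh (FibCat.overCat U), sU⟩
  let a : A ⟶ B := ObjectProperty.homMk (clsMap π)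
  let i : B ≅ (AlgSp.yon S).obj U :=
    (fullyFaithfulSheafToPresheaf (AlgSp.J S) (Type (u + 1))).preimageIso (X := B) (Y := (AlgSp.yon S).obj U)
      (clsOverCat U)
  have hQa : Q a := hQ.bc (Y₁ := (AlgSp.yon S).obj U) hA (AlgSp.IsAlgSpace.yon_obj U) hA aU (a ≫ i.hom) i.hom a (𝟙 A)
    (IsPullback.of_horiz_isIso ⟨(Category.id_comp _)⟩) hQ'
  let FF : AlgSp.Sp S := ⟨clsPsh (FibCat.fp π π), hs'⟩
  let p₁ : FF ⟶ A := ObjectProperty.homMk (clsMap (FibCat.fpFst π π))
  let p₂ : FF ⟶ A := ObjectProperty.homMk (clsMap (FibCat.fpSnd π π))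
  have sq : IsPullback p₁ p₂ a a := IsPullback.of_map (ASp.toP S)
    (ObjectProperty.hom_ext _ (isPullback_fp π π).w) (isPullback_fp π π)
  let δ : A ⟶ FF := ObjectProperty.homMk (clsMap (FibCat.diag π))
  have e₁ : δ ≫ p₁ = 𝟙 A := ObjectProperty.hom_ext _
    ((clsMap_comp (FibCat.diag π) (FibCat.fpFst π π)).symm.trans clsMap_id)
  have e₂ : δ ≫ p₂ = 𝟙 A := ObjectProperty.hom_ext _
    ((clsMap_comp (FibCat.diag π) (FibCat.fpSnd π π)).symm.trans clsMap_id)
  have sqδ : IsPullback (𝟙 A) δ (pullback.diagonal a) sq.isoPullback.hom := by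
    refine IsPullback.of_horiz_isIso ⟨?_⟩
    apply pullback.hom_ext
    · rw [Category.id_comp, pullback.diagonal_fst, Category.assoc, sq.isoPullback_hom_fst]; exact e₁.symm
    · rw [Category.id_comp, pullback.diagonal_snd, Category.assoc, sq.isoPullback_hom_snd]; exact e₂.symm
  have sq₂ : IsPullback (pullback.fst δ b ≫ 𝟙 A) (pullback.snd δ b) (pullback.diagonal a) (b ≫ sq.isoPullback.hom) :=
    (IsPullback.of_hasPullback δ b).paste_horiz sqδ
  let j : pullback δ b ≅ pullback (pullback.diagonal a) (b ≫ sq.isoPullback.hom) :=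
    sq₂.isoIsPullback _ _ (IsPullback.of_hasPullback _ _)
  have ej : pullback.snd δ b = j.hom ≫ pullback.snd (pullback.diagonal a) (b ≫ sq.isoPullback.hom) :=
    (IsPullback.isoIsPullback_hom_snd _ _ sq₂ (IsPullback.of_hasPullback _ _)).symm
  show P (pullback.snd δ b)
  rw [ej, P.cancel_left_of_respectsIso]
  exact hP A B a V _ hA aU hQa

/-- The diagonal of a separated morphism is proper. -/
theorem proper_diag_of_separated [(AlgSp.IsSeparatedMor (S := S)).RespectsIso] [(AlgSp.IsProperMor (S := S)).RespectsIso]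
    {f : X ⥤ᵇ Y} (hf : AlgSt.RepByAlgSpWith AlgSp.IsSeparatedMor f) :
    AlgSt.RepByAlgSpWith AlgSp.IsProperMor (FibCat.diag f) :=
  repWith_diag_of_with hf standard_separated fun A B a U b _ _ h =>
    ASp.isProperMor_of_closedImmersion (AlgSp.IsAlgSpace.yon_obj U)
      (ASp.repWith_baseChange (IsPullback.of_hasPullback _ b) h)

/-- The diagonal of a quasi-separated morphism is quasi-compact and quasi-separated. -/
theorem qcqs_diag_of_qs [(AlgSp.IsQuasiSeparatedMor (S := S)).RespectsIso]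
    [(AlgSp.IsQuasiCompactMor ⊓ AlgSp.IsQuasiSeparatedMor (S := S)).RespectsIso]
    {f : X ⥤ᵇ Y} (hf : AlgSt.RepByAlgSpWith AlgSp.IsQuasiSeparatedMor f) :
    AlgSt.RepByAlgSpWith (AlgSp.IsQuasiCompactMor ⊓ AlgSp.IsQuasiSeparatedMor) (FibCat.diag f) :=
  repWith_diag_of_with hf standard_qs fun A B a U b hA _ h =>
    ⟨ASp.isQuasiCompactMor_of_repWith (ASp.repWith_baseChange (IsPullback.of_hasPullback _ b) h),
      MonoLFT.qs (ASp.repWith_baseChange (IsPullback.of_hasPullback _ b) (ASp.monoLFT_diagonal hA a))⟩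

theorem respectsIso_of_bc {P : MorphismProperty (AlgSp.Sp S)}
    (hbc : ∀ ⦃X₁ Y₁ X₂ Y₂ : AlgSp.Sp S⦄ (a : X₁ ⟶ Y₁) (b : Y₂ ⟶ Y₁) (a' : X₂ ⟶ Y₂) (b' : X₂ ⟶ X₁),
      IsPullback b' a' a b → P a → P a') : P.RespectsIso :=
  MorphismProperty.RespectsIso.mk _
    (fun e f hf => hbc f (𝟙 _) (e.hom ≫ f) e.hom (IsPullback.of_horiz_isIso ⟨by simp⟩) hf)
    (fun e f hf => hbc f e.inv (f ≫ e.hom) (𝟙 _) (IsPullback.of_horiz_isIso ⟨by simp⟩) hf)

instance respectsIso_separatedMor : (AlgSp.IsSeparatedMor (S := S)).RespectsIso :=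
  respectsIso_of_bc fun _ _ _ _ _ _ _ _ sq h => ASp.repWith_baseChange (ASp.isPullback_diagonal_map sq) h

instance respectsIso_qsMor : (AlgSp.IsQuasiSeparatedMor (S := S)).RespectsIso :=
  respectsIso_of_bc fun _ _ _ _ _ _ _ _ sq h => ASp.repWith_baseChange (ASp.isPullback_diagonal_map sq) h

instance respectsIso_qcMor : (AlgSp.IsQuasiCompactMor (S := S)).RespectsIso :=
  respectsIso_of_bc fun _ _ _ _ _ _ _ _ sq h => ASp.isQuasiCompactMor_baseChange sq h

instance respectsIso_qcqsMor : (AlgSp.IsQuasiCompactMor ⊓ AlgSp.IsQuasiSeparatedMor (S := S)).RespectsIso :=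
  respectsIso_of_bc fun _ _ _ _ _ _ _ _ sq h =>
    ⟨ASp.isQuasiCompactMor_baseChange sq h.1, ASp.repWith_baseChange (ASp.isPullback_diagonal_map sq) h.2⟩

instance respectsIso_univClosedMor : (AlgSp.IsUnivClosedMor (S := S)).RespectsIso :=
  respectsIso_of_bc fun _ _ _ _ _ _ _ _ sq h => ASp.univSp_baseChange sq h

instance respectsIso_properMor : (AlgSp.IsProperMor (S := S)).RespectsIso :=
  MorphismProperty.RespectsIso.mk _
    (fun e f h => by
      have sq : IsPullback e.hom (e.hom ≫ f) f (𝟙 _) := IsPullback.of_horiz_isIso ⟨by simp⟩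
      refine ⟨ASp.repWith_baseChange (ASp.isPullback_diagonal_map sq) h.1,
        ⟨((MorphismProperty.cancel_left_of_respectsIso (AlgSp.LocP @LocallyOfFiniteType) e.hom f).2 h.2.1.1),
          ASp.isQuasiCompactMor_baseChange sq h.2.1.2⟩, ASp.univSp_baseChange sq h.2.2⟩)
    (fun e f h => by
      have sq : IsPullback (𝟙 _) (f ≫ e.hom) f e.inv := IsPullback.of_horiz_isIso ⟨by simp⟩
      refine ⟨ASp.repWith_baseChange (ASp.isPullback_diagonal_map sq) h.1,
        ⟨((MorphismProperty.cancel_right_of_respectsIso (AlgSp.LocP @LocallyOfFiniteType) f e.hom).2 h.2.1.1),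
          ASp.isQuasiCompactMor_baseChange sq h.2.1.2⟩, ASp.univSp_baseChange sq h.2.2⟩)

/-- The diagonal of a morphism of algebraic stacks is representable. -/
theorem rep1_diag_of_isAlgStack {A B : AlgSt.Cat S} {K : Precoverage Scheme.{u}}
    (hA : AlgSt.IsAlgStack K A) (hB : AlgSt.IsAlgStack K B) (f : A ⥤ᵇ B) : AlgSt.RepByAlgSp1 (FibCat.diag f) := by
  haveI := hA.isStack.1; haveI := hB.isStack.1
  exact rep1_diag f hA.diag hB.diag

/-- Cancellation for diagonals. -/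
theorem repWith_diag_of_comp (hP : Standard P) (f : X ⥤ᵇ Y) (g : Y ⥤ᵇ Z)
    (h : AlgSt.RepByAlgSpWith P (FibCat.diag (BasedFunctor.comp f g)))
    (hc : AlgSt.RepByAlgSpWith P (FibCat.diag (cmp f f g))) : AlgSt.RepByAlgSpWith P (FibCat.diag f) := by
  haveI : FibCat.IsFibGrpd (FibCat.fp f f).p := H9Fib.isFibGrpd_fp _ _
  haveI : FibCat.IsFibGrpd (FibCat.fp (BasedFunctor.comp f g) (BasedFunctor.comp f g)).p := H9Fib.isFibGrpd_fp _ _
  exact repWith_of_comp hP (FibCat.diag f) (cmp f f g) ((repWith_diag_comp_iff f g).2 h) hc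

end Groth.Agent.H9St
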