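import Groth.Agent.Lib.H9StProps
import Groth.Agent.S10539
import Groth.Agent.S10540
import Groth.Agent.S10546
/-! Monomorphisms, affine, integral and finite morphisms of stacks. -/

set_option autoImplicit false
set_option linter.style.haveILetI false
set_option linter.unusedVariables false
set_option linter.unusedSectionVars false
set_option backward.isDefEq.respectTransparency.types false

universe u

open CategoryTheory CategoryTheory.Limits AlgebraicGeometry Opposite

noncomputable section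

namespace Groth.Agent.H9St

variable {S : Scheme.{u}}

theorem standard_mono : Standard (MorphismProperty.monomorphisms (AlgSp.Sp S)) :=
  ⟨fun _ _ _ _ _ _ _ _ a b a' b' sq h => MorphismProperty.of_isPullback (P := MorphismProperty.monomorphisms _) sq h,
    fun _ _ _ _ _ _ a b ha hb => by haveI : Mono a := ha; haveI : Mono b := hb; exact mono_comp a b,
    local_fppf (S10546.result S)⟩

theorem standard_affine : Standard (AlgSp.IsAffineMor (S := S)) :=
  ⟨fun _ _ _ _ _ _ _ _ a b a' b' sq h => ASp.isAffineMor_baseChange sq h,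
    fun _ _ _ hA hB hC a b ha hb => (ASp.isAffineMor_iff hA hC).2
      (ASp.repWith_comp ((ASp.isAffineMor_iff hA hB).1 ha) ((ASp.isAffineMor_iff hB hC).1 hb)),
    local_fppf (S10533.result S)⟩

theorem standard_integral : Standard (AlgSp.IsIntegralMor (S := S)) :=
  ⟨fun _ _ _ _ hA hB hC hD a b a' b' sq h => (ASp.isIntegralMor_iff hC hD).2
      (ASp.repWith_baseChange sq ((ASp.isIntegralMor_iff hA hB).1 h)),
    fun _ _ _ hA hB hC a b ha hb => (ASp.isIntegralMor_iff hA hC).2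
      (ASp.repWith_comp ((ASp.isIntegralMor_iff hA hB).1 ha) ((ASp.isIntegralMor_iff hB hC).1 hb)),
    local_fppf (S10539.result S)⟩

theorem standard_finite : Standard (AlgSp.IsFiniteMor (S := S)) :=
  ⟨fun _ _ _ _ hA hB hC hD a b a' b' sq h => (ASp.isFiniteMor_iff hC hD).2
      (ASp.repWith_baseChange sq ((ASp.isFiniteMor_iff hA hB).1 h)),
    fun _ _ _ hA hB hC a b ha hb => (ASp.isFiniteMor_iff hA hC).2
      (ASp.repWith_comp ((ASp.isFiniteMor_iff hA hB).1 ha) ((ASp.isFiniteMor_iff hB hC).1 hb)),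
    local_fppf (S10540.result S)⟩

theorem isEquivOver_ofPshMap_iso {P Q : AlgSp.PSp S} (i : P ≅ Q) : FibCat.IsEquivOver (Stk.ofPshMap i.hom) := by
  have hsec : ∀ {T : Over S} (q : Q.obj (op T)), i.hom.app (op T) (i.inv.app (op T) q) = q := fun {T} q => by
    rw [← types_comp_apply (i.inv.app (op T)) (i.hom.app (op T)), ← NatTrans.comp_app, i.inv_hom_id]; rfl
  refine H9Fib.isEquivOver_of _ ⟨fun {a b} m => ⟨⟨m.hom, ?_⟩, Stk.EltObj.hom_ext rfl⟩⟩
    ⟨fun {a b m n} e => Stk.EltObj.hom_ext (show m.hom = n.hom from congrArg (fun q => ((Stk.ofPsh Q).p.map q)) e)⟩ fun η => ?_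
  · have h := congrArg (i.inv.app (op a.base)) m.map_sec
    have h2 := NatTrans.naturality_apply i.inv m.hom.op (i.hom.app (op b.base) b.sec)
    have e1 : ∀ {T : Over S} (p : P.obj (op T)), i.inv.app (op T) (i.hom.app (op T) p) = p := fun {T} p => by
      rw [← types_comp_apply (i.hom.app (op T)) (i.inv.app (op T)), ← NatTrans.comp_app, i.hom_inv_id]; rfl
    exact (congrArg (P.map m.hom.op) (e1 b.sec)).symm.trans ((h2.symm.trans h).trans (e1 a.sec))
  · exact ⟨⟨η.base, i.inv.app _ η.sec⟩,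
      ⟨⟨𝟙 η.base, (by simp : Q.map (𝟙 η.base).op η.sec = η.sec).trans (hsec η.sec).symm⟩, ⟨𝟙 η.base, (congrArg (Q.map (𝟙 η.base).op) (hsec η.sec)).trans (by simp : Q.map (𝟙 η.base).op η.sec = η.sec)⟩, Stk.EltObj.hom_ext (Category.id_comp _),
        Stk.EltObj.hom_ext (Category.id_comp _)⟩, IsHomLift.of_fac' _ _ _ rfl rfl (by show 𝟙 η.base = _; simp; rfl)⟩

variable {X Y : AlgSt.Cat S} [hX : FibCat.IsFibGrpd X.p] [hY : FibCat.IsFibGrpd Y.p]

/-- Monomorphisms are separated and unramified. -/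
theorem isSeparatedMor_isDMMor_of_isMono {f : X ⥤ᵇ Y} (hf : AlgSt.IsMono f) :
    AlgSt.IsSeparatedMor f ∧ AlgSt.IsDMMor f := by
  haveI := MorphismProperty.RespectsIso.monomorphisms (AlgSp.Sp S)
  refine ⟨repWith_diag_of_with hf standard_mono fun A B a U b _ _ h => ?_,
    repWith_diag_of_rep1 (rep1_of_with hf) fun F U m _ hm => MonoLFT.unramified hm⟩
  haveI : Mono a := h
  haveI : IsIso (pullback.snd (pullback.diagonal a) b) := inferInstance
  exact ASp.isProperMor_of_closedImmersion (AlgSp.IsAlgSpace.yon_obj U) (ASp.repWith_of_isIso _)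

/-- The diagonal of a representable morphism is representable by schemes. -/
theorem isRepresentable1_diag {f : X ⥤ᵇ Y} (hf : AlgSt.RepByAlgSp1 f) :
    FibCat.IsRepresentable1 (FibCat.diag f) := by
  intro U y
  haveI : FibCat.IsFibGrpd (FibCat.overCat U).p := isFibGrpd_overCat U
  haveI : FibCat.IsFibGrpd (FibCat.fp f f).p := H9Fib.isFibGrpd_fp _ _
  haveI : FibCat.IsFibGrpd (FibCat.fp y (FibCat.diag f)).p := H9Fib.isFibGrpd_fp _ _
  obtain ⟨F, e, he, hP⟩ := (repWith_diag_of_rep1 (P := fun A B m => AlgSp.Representable m)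
    (hf := hf) fun F U m _ hm => hm.rep) U y
  obtain ⟨V, fst, snd, sq⟩ := ASp.exists_sq hP (𝟙 ((AlgSp.yon S).obj U))
  haveI : IsIso fst := sq.isIso_fst_of_isIso
  have hsch : AlgSt.RepByAlgSp (FibCat.fp y (FibCat.diag f)) := ⟨F, e, he⟩
  obtain ⟨dZ, sZ, -⟩ := repByAlgSp_iff.1 hsch
  haveI := isIso_clsMap he
  let i : clsPsh (FibCat.overCat V) ≅ clsPsh (FibCat.fp y (FibCat.diag f)) :=
    clsOverCat V ≪≫ (ASp.toP S).mapIso (asIso fst) ≪≫ (clsOfPsh F.obj.obj).symm ≪≫ asIso (clsMap e)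
  haveI : FibCat.IsFibGrpd (FibCat.overCat V).p := isFibGrpd_overCat V
  haveI : FibCat.IsFibGrpd (Stk.ofPsh (clsPsh (FibCat.overCat V))).p := isFibGrpd_ofPsh _
  haveI : FibCat.IsFibGrpd (Stk.ofPsh (clsPsh (FibCat.fp y (FibCat.diag f)))).p := isFibGrpd_ofPsh _
  obtain ⟨Φ, hΦ, -⟩ := exists_clsEquiv (FibCat.overCat V)
  obtain ⟨Ψ, hΨ, -⟩ := exists_clsEquiv (FibCat.fp y (FibCat.diag f))
  obtain ⟨Ψ', hΨ'⟩ := isEquivOver_symm hΨ
  refine ⟨V, BasedFunctor.comp Ψ' (BasedFunctor.comp (Stk.ofPshMap i.inv) Φ),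
    H9Fib.isEquivOver_trans hΨ' (H9Fib.isEquivOver_trans ?_ hΦ)⟩
  exact isEquivOver_ofPshMap_iso i.symm

end Groth.Agent.H9St
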