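import Groth.Agent.Lib.H9StLFT
import Groth.Agent.Lib.AlgSpCharts
/-! Quasi-compact morphisms of algebraic stacks, through compactness of point spaces. -/

set_option autoImplicit false
set_option linter.style.haveILetI false
set_option linter.unusedVariables false
set_option linter.unusedSectionVars false
set_option backward.isDefEq.respectTransparency.types false

universe u

open CategoryTheory CategoryTheory.Limits AlgebraicGeometry Opposite

noncomputable section

namespace Groth.Agent.H9St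

open H9Diag

variable {S : Scheme.{u}}

theorem isPrestack_of_isStack {J : GrothendieckTopology (Over S)} {X : AlgSt.Cat S} (h : Stk.IsStack J X) :
    Stk.IsPrestack J X :=
  ⟨h.1, fun U R hR => ⟨(h.2 R hR).full, (h.2 R hR).faithful⟩⟩

/-- Two-isomorphic morphisms agree on points. -/
theorem points_map_iso {A B : AlgSt.Cat S} {F G : A ⥤ᵇ B} (i : F ≅ G) (p : AlgSt.Points A) :
    AlgSt.Points.map F p = AlgSt.Points.map G p := by
  obtain ⟨p, rfl⟩ := AlgSt.Points.mk_surjective p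
  exact AlgSt.Points.sound ⟨p.map F, 𝟙 _, i.hom.toNatTrans.app p.obj, trivial⟩

section Equiv

variable {A B : AlgSt.Cat S} [FibCat.IsFibGrpd A.p] [FibCat.IsFibGrpd B.p]

theorem surjective_points_equiv {e : A ⥤ᵇ B} (he : FibCat.IsEquivOver e) :
    Function.Surjective (AlgSt.Points.map e) :=
  isSurjective_of_rep (repByAlgSpWith_of_isEquivOver (fun m _ => isSurjectiveMor_of_iso m) he)

theorem compact_of_surjective (hB : AlgSt.HasAtlas (AlgSp.LocP @Smooth) B) {f : A ⥤ᵇ B}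
    (hf : Function.Surjective (AlgSt.Points.map f)) (hA : CompactSpace (AlgSt.Points A)) :
    CompactSpace (AlgSt.Points B) :=
  hf.compactSpace (continuous_map hB f)

theorem compact_equiv_iff (hA : AlgSt.HasAtlas (AlgSp.LocP @Smooth) A) (hB : AlgSt.HasAtlas (AlgSp.LocP @Smooth) B)
    {e : A ⥤ᵇ B} (he : FibCat.IsEquivOver e) : CompactSpace (AlgSt.Points A) ↔ CompactSpace (AlgSt.Points B) := by
  obtain ⟨e', he'⟩ := isEquivOver_symm he
  exact ⟨compact_of_surjective hB (surjective_points_equiv he), compact_of_surjective hA (surjective_points_equiv he')⟩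

end Equiv

/-- Quasi-compact algebraic spaces and stacks agree. -/
theorem compact_ofSp_iff {F : AlgSp.Sp S} (hF : AlgSp.IsAlgSpace F) :
    CompactSpace (AlgSt.Points (AlgSt.ofSp F)) ↔ AlgSp.IsQuasiCompactSp F := by
  haveI : FibCat.IsFibGrpd (AlgSt.ofSp F).p := isFibGrpd_ofPsh F.obj
  constructor
  · intro hc
    obtain ⟨U, p, hU, -, hps⟩ := isQuasiCompact_of_compactSpace (hasAtlas_ofSp hF)
    haveI := hU
    haveI : FibCat.IsFibGrpd (FibCat.overCat U).p := isFibGrpd_overCat U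
    let a : (AlgSp.yon S).obj U ⟶ F :=
      ObjectProperty.homMk ((clsOverCat U).inv ≫ clsMap p ≫ (clsOfPsh F.obj).hom)
    rw [ASp.isQuasiCompactSp_iff hF]
    have hs0 : Function.Surjective (fun t => AlgSp.Points.map a (AlgSp.Points.schemeHomeo U t)) := by
     intro z
     obtain ⟨V, b, hbe, hbs⟩ := hF.atlas
     obtain ⟨v, rfl⟩ := ASp.surjective_ofPt_of_repWith hbs z
     haveI : FibCat.IsFibGrpd (FibCat.overCat V).p := isFibGrpd_overCat V
     obtain ⟨y, hy⟩ := exists_yFun (W := AlgSt.ofSp F) (U := V) (b.hom ≫ (clsOfPsh F.obj).inv)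
     haveI : FibCat.IsFibGrpd (FibCat.fp y p).p := H9Fib.isFibGrpd_fp _ _
     obtain ⟨hd, hsh, hA, hs⟩ := (repByAlgSpWith_iff p).1 hps V y
     haveI := hd
     let B : AlgSp.Sp S := ⟨clsPsh (FibCat.fp y p), hsh⟩
     let π : B ⟶ (AlgSp.yon S).obj V := ObjectProperty.homMk (projU y p)
     let q : B ⟶ (AlgSp.yon S).obj U := ObjectProperty.homMk (clsMap (FibCat.fpSnd y p) ≫ (clsOverCat U).hom)
     obtain ⟨w, hw⟩ := hs (AlgSp.Points.schemeHomeo V v)
     have sq : q ≫ a = π ≫ b := ObjectProperty.hom_ext _ (by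
       have e := (isPullback_fp y p).w
       rw [hy] at e
       show (clsMap (FibCat.fpSnd y p) ≫ (clsOverCat U).hom) ≫ (clsOverCat U).inv ≫ clsMap p ≫ (clsOfPsh F.obj).hom =
         (clsMap (FibCat.fpFst y p) ≫ (clsOverCat V).hom) ≫ b.hom
       simp only [Category.assoc, Iso.hom_inv_id_assoc]
       rw [← reassoc_of% e]
       simp)
     refine ⟨(AlgSp.Points.schemeHomeo U).symm (AlgSp.Points.map q w), ?_⟩
     show AlgSp.Points.map a _ = _
     rw [Homeomorph.apply_symm_apply, ← AlgSp.Points.map_comp, sq, AlgSp.Points.map_comp, hw,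
       AlgSp.Points.ofPt_eq_map_ofScheme]
     rfl
    exact hs0.compactSpace ((AlgSp.Points.continuous_map a).comp (AlgSp.Points.schemeHomeo U).continuous)
  · intro hqc
    haveI := ASp.compactSpace_points hqc
    obtain ⟨U, a, hU, hae, has⟩ := ASp.exists_affine_chart_of_compact hF
    haveI : FibCat.IsFibGrpd (FibCat.overCat U).p := isFibGrpd_overCat U
    obtain ⟨p, hp⟩ := exists_yFun (W := AlgSt.ofSp F) (U := U) (a.hom ≫ (clsOfPsh F.obj).inv)
    have key : ∀ {Q : MorphismProperty (AlgSp.Sp S)} [Q.RespectsIso],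
        (∀ {B : AlgSp.Sp S} {V : Over S} {b : (AlgSp.yon S).obj V ⟶ F} {q : B ⟶ (AlgSp.yon S).obj U}
          {r : B ⟶ (AlgSp.yon S).obj V}, IsPullback q r a b → Q r) → AlgSt.RepByAlgSpWith Q p :=
      fun {Q} _ hQ => repByAlgSpWith_of_space (T := AlgSt.ofSp F) hF (clsOfPsh F.obj) p a hp hQ
    refine compactSpace_points ⟨U, p, hU,
      key fun {B V b q r} sq => locP_smooth_of_repWith_etale (ASp.repWith_baseChange sq hae),
      key (Q := AlgSp.IsSurjectiveMor) fun {B V b q r} sq z => ?_⟩ (hasAtlas_ofSp hF)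
    obtain ⟨u, hu⟩ := ASp.surjective_ofPt_of_repWith has (AlgSp.Points.map b z)
    obtain ⟨w, hw, -⟩ := ASp.exists_of_isPullback sq.flip z (AlgSp.Points.schemeHomeo U u)
      (by rw [← hu, AlgSp.Points.ofPt_eq_map_ofScheme]; rfl)
    exact ⟨w, hw⟩

/-- Compactness of a category equivalent to a space. -/
theorem compact_clsPsh_iff {A : AlgSt.Cat S} [FibCat.IsFibGrpd A.p] [Disc A]
    (hsh : Presheaf.IsSheaf (AlgSp.J S) (clsPsh A)) (hA : AlgSp.IsAlgSpace (⟨clsPsh A, hsh⟩ : AlgSp.Sp S)) :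
    CompactSpace (AlgSt.Points A) ↔ AlgSp.IsQuasiCompactSp (⟨clsPsh A, hsh⟩ : AlgSp.Sp S) := by
  obtain ⟨Φ, hΦ, -⟩ := exists_clsEquiv A
  haveI : FibCat.IsFibGrpd (Stk.ofPsh (clsPsh A)).p := isFibGrpd_ofPsh _
  have hr : AlgSt.RepByAlgSp A := ⟨⟨_, hA⟩, Φ, hΦ⟩
  rw [← compact_ofSp_iff hA]
  exact (compact_equiv_iff (hasAtlas_ofSp hA) (isDM_of_repByAlgSp hr).1.atlas hΦ).symm

variable {X Y : AlgSt.Cat S}

/-- Fibre products of algebraic stacks over an algebraic stack. -/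
theorem isAlgStack_fp' {Z : AlgSt.Cat S} {K : Precoverage Scheme.{u}} (hX : AlgSt.IsAlgStack K X)
    (hY : AlgSt.IsAlgStack K Y) (hZ : AlgSt.IsAlgStack K Z) (f : X ⥤ᵇ Z) (g : Y ⥤ᵇ Z) :
    AlgSt.IsAlgStack K (FibCat.fp f g) :=
  isAlgStack_fp hX hY (isPrestack_of_isStack hZ.isStack) hZ.diag f g

theorem isAlgStack_overCat (U : Over S) : AlgSt.IsAlgStack Scheme.fppfPrecoverage (FibCat.overCat U) := by
  haveI : FibCat.IsFibGrpd (FibCat.overCat U).p := isFibGrpd_overCat U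
  exact (isDM_of_repByAlgSp (repByAlgSp_overCat U)).1

theorem isAlgStack_selfOver : AlgSt.IsAlgStack Scheme.fppfPrecoverage (FibCat.selfOver (Over S)) := by
  haveI : FibCat.IsFibGrpd (FibCat.selfOver (Over S)).p := isFibGrpd_selfOver
  exact (isDM_of_repByAlgSp repByAlgSp_selfOver).1

theorem isQuasiCompact_overCat {U : Over S} (hU : IsAffine U.left) : AlgSt.IsQuasiCompact (FibCat.overCat U) := by
  haveI : FibCat.IsFibGrpd (FibCat.overCat U).p := isFibGrpd_overCat U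
  exact ⟨U, BasedFunctor.id _, hU,
    repByAlgSpWith_of_isEquivOver (fun m _ => locP_smooth_of_iso m) (H9Fib.isEquivOver_id _),
    repByAlgSpWith_of_isEquivOver (fun m _ => isSurjectiveMor_of_iso m) (H9Fib.isEquivOver_id _)⟩

theorem isQuasiCompact_iff_compact (hX : AlgSt.IsAlgStack Scheme.fppfPrecoverage X) :
    AlgSt.IsQuasiCompact X ↔ CompactSpace (AlgSt.Points X) := by
  haveI := hX.isStack.1
  exact ⟨fun h => compactSpace_points h hX.atlas, fun h => isQuasiCompact_of_compactSpace hX.atlas⟩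

theorem qcMor_compact (hX : AlgSt.IsAlgStack Scheme.fppfPrecoverage X) (hY : AlgSt.IsAlgStack Scheme.fppfPrecoverage Y)
    {f : X ⥤ᵇ Y} (h : AlgSt.IsQuasiCompactMor Scheme.fppfPrecoverage f) {Z : AlgSt.Cat S}
    (hZ : AlgSt.IsAlgStack Scheme.fppfPrecoverage Z) (hqc : CompactSpace (AlgSt.Points Z)) (g : Z ⥤ᵇ Y) :
    CompactSpace (AlgSt.Points (FibCat.fp g f)) :=
  (isQuasiCompact_iff_compact (isAlgStack_fp' hZ hX hY g f)).1
    (h Z hZ ((isQuasiCompact_iff_compact hZ).2 hqc) g)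

/-- Affine test objects suffice. -/
theorem qcMor_of_affine (hX : AlgSt.IsAlgStack Scheme.fppfPrecoverage X)
    (hY : AlgSt.IsAlgStack Scheme.fppfPrecoverage Y) (f : X ⥤ᵇ Y)
    (h : ∀ (U : Over S) (y : FibCat.overCat U ⥤ᵇ Y), IsAffine U.left → CompactSpace (AlgSt.Points (FibCat.fp y f))) :
    AlgSt.IsQuasiCompactMor Scheme.fppfPrecoverage f := by
  intro Z hZ hqc g
  haveI := hX.isStack.1
  haveI := hY.isStack.1
  haveI := hZ.isStack.1
  haveI := respectsIso_isSurjectiveMor (S := S)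
  haveI : FibCat.IsFibGrpd (FibCat.fp g f).p := H9Fib.isFibGrpd_fp _ _
  obtain ⟨U, u, hU, -, hus⟩ := hqc
  haveI : FibCat.IsFibGrpd (FibCat.overCat U).p := isFibGrpd_overCat U
  haveI : FibCat.IsFibGrpd (FibCat.fp (BasedFunctor.comp u g) f).p := H9Fib.isFibGrpd_fp _ _
  rw [isQuasiCompact_iff_compact (isAlgStack_fp' hZ hX hY g f)]
  exact compact_of_surjective (isAlgStack_fp' hZ hX hY g f).atlas
    (isSurjective_of_rep (repWith_bcFun u g f hus)) (h U _ hU)

theorem qcMor_of_rep (hX : AlgSt.IsAlgStack Scheme.fppfPrecoverage X) (hY : AlgSt.IsAlgStack Scheme.fppfPrecoverage Y)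
    {f : X ⥤ᵇ Y} (hf : AlgSt.RepByAlgSpWith AlgSp.IsQuasiCompactMor f) :
    AlgSt.IsQuasiCompactMor Scheme.fppfPrecoverage f := by
  haveI := hX.isStack.1
  haveI := hY.isStack.1
  refine qcMor_of_affine hX hY f fun U y hU => ?_
  haveI := hU
  haveI : FibCat.IsFibGrpd (FibCat.overCat U).p := isFibGrpd_overCat U
  haveI : FibCat.IsFibGrpd (FibCat.fp y f).p := H9Fib.isFibGrpd_fp _ _
  obtain ⟨hd, hsh, hA, hq⟩ := (repByAlgSpWith_iff f).1 hf U y
  haveI := hd
  rw [compact_clsPsh_iff hsh hA]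
  exact hq (AlgSp.IsAlgSpace.yon_obj U) (ASp.isQuasiCompactSp_yon inferInstance) (𝟙 _)
    (𝟙 (⟨clsPsh (FibCat.fp y f), hsh⟩ : AlgSp.Sp S)) (ObjectProperty.homMk (projU y f))
    (IsPullback.of_horiz_isIso ⟨(Category.id_comp _).trans (Category.comp_id _).symm⟩)

theorem rep_of_qcMor (hX : AlgSt.IsAlgStack Scheme.fppfPrecoverage X) (hY : AlgSt.IsAlgStack Scheme.fppfPrecoverage Y)
    {f : X ⥤ᵇ Y} (hf : AlgSt.RepByAlgSp1 f) (h : AlgSt.IsQuasiCompactMor Scheme.fppfPrecoverage f) :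
    AlgSt.RepByAlgSpWith AlgSp.IsQuasiCompactMor f := by
  haveI := hX.isStack.1
  haveI := hY.isStack.1
  refine (repByAlgSpWith_iff f).2 fun U y => ?_
  haveI : FibCat.IsFibGrpd (FibCat.overCat U).p := isFibGrpd_overCat U
  haveI : FibCat.IsFibGrpd (FibCat.fp y f).p := H9Fib.isFibGrpd_fp _ _
  obtain ⟨hd, hsh, hA⟩ := repByAlgSp_iff.1 (hf U y)
  refine ⟨hd, hsh, hA, ASp.isQuasiCompactMor_of_affine hA (AlgSp.IsAlgSpace.yon_obj U) fun Z hZ g P fst snd sq => ?_⟩
  obtain ⟨c, rfl⟩ := (AlgSp.yon S).map_surjective g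
  haveI : FibCat.IsFibGrpd (FibCat.overCat Z).p := isFibGrpd_overCat Z
  let y' := BasedFunctor.comp (AlgSt.overMap c) y
  haveI : FibCat.IsFibGrpd (FibCat.fp y' f).p := H9Fib.isFibGrpd_fp _ _
  obtain ⟨hd', hsh', hA'⟩ := repByAlgSp_iff.1 (hf Z y')
  haveI := hd
  haveI := hd'
  have hc : AlgSp.IsQuasiCompactSp (⟨clsPsh (FibCat.fp y' f), hsh'⟩ : AlgSp.Sp S) :=
    (compact_clsPsh_iff hsh' hA').1 (qcMor_compact hX hY h (isAlgStack_overCat Z)
      ((isQuasiCompact_iff_compact (isAlgStack_overCat Z)).1 (isQuasiCompact_overCat hZ)) y')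
  have sq1 : IsPullback (clsMap (bcFun (AlgSt.overMap c) y f)) (projU y' f) (projU y f) ((AlgSp.pyon S).map c) :=
    (isPullback_bc (AlgSt.overMap c) y f).of_iso (Iso.refl _) (Iso.refl _) (clsOverCat Z) (clsOverCat U) (by simp)
      (by simp [projU]; rfl) (by simp [projU]) (clsMap_overMap c)
  have sq' := sq.map (ASp.toP S)
  let i := sq1.isoIsPullback _ _ sq'
  let i' : (⟨clsPsh (FibCat.fp y' f), hsh'⟩ : AlgSp.Sp S) ≅ P :=
    (fullyFaithfulSheafToPresheaf (AlgSp.J S) (Type (u + 1))).preimageIso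
      (X := (⟨clsPsh (FibCat.fp y' f), hsh'⟩ : AlgSp.Sp S)) (Y := P) i
  rw [ASp.isQuasiCompactSp_iff (hA'.of_iso i')]
  haveI := ASp.compactSpace_points hc
  have hs : Function.Surjective (AlgSp.Points.map i'.hom) := fun z =>
    ⟨AlgSp.Points.map i'.inv z, by rw [← AlgSp.Points.map_comp, i'.inv_hom_id, AlgSp.Points.map_id]⟩
  exact hs.compactSpace (AlgSp.Points.continuous_map _)

theorem qcMor_congr {f f' : X ⥤ᵇ Y} (hX : AlgSt.IsAlgStack Scheme.fppfPrecoverage X)
    (hY : AlgSt.IsAlgStack Scheme.fppfPrecoverage Y) (i : f' ≅ f)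
    (h : AlgSt.IsQuasiCompactMor Scheme.fppfPrecoverage f') : AlgSt.IsQuasiCompactMor Scheme.fppfPrecoverage f := by
  intro Z hZ hqc g
  haveI := hX.isStack.1
  haveI := hY.isStack.1
  haveI := hZ.isStack.1
  haveI : FibCat.IsFibGrpd (FibCat.fp g f).p := H9Fib.isFibGrpd_fp _ _
  haveI : FibCat.IsFibGrpd (FibCat.fp g f').p := H9Fib.isFibGrpd_fp _ _
  rw [isQuasiCompact_iff_compact (isAlgStack_fp' hZ hX hY g f)]
  refine compact_of_surjective (isAlgStack_fp' hZ hX hY g f).atlas (f := fpCongr (g := g) (f := f) (g' := g) (f' := f')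
    (BasedFunctor.id Z) (BasedFunctor.id X) (BasedFunctor.id Y) (Iso.refl _) i) ?_
    ((isQuasiCompact_iff_compact (isAlgStack_fp' hZ hX hY g f')).1 (h Z hZ hqc g))
  exact surjective_points_equiv
    (isEquivOver_fpCongr _ _ (H9Fib.isEquivOver_id _) (H9Fib.isEquivOver_id _) (H9Fib.isEquivOver_id _))

theorem qcMor_baseChange {Y' : AlgSt.Cat S} (hX : AlgSt.IsAlgStack Scheme.fppfPrecoverage X)
    (hY : AlgSt.IsAlgStack Scheme.fppfPrecoverage Y) (hY' : AlgSt.IsAlgStack Scheme.fppfPrecoverage Y')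
    (g : Y' ⥤ᵇ Y) {f : X ⥤ᵇ Y} (h : AlgSt.IsQuasiCompactMor Scheme.fppfPrecoverage f) :
    AlgSt.IsQuasiCompactMor Scheme.fppfPrecoverage (FibCat.fpFst g f) := by
  intro Z hZ hqc g'
  haveI := hX.isStack.1
  haveI := hY.isStack.1
  haveI := hY'.isStack.1
  haveI := hZ.isStack.1
  have hP := isAlgStack_fp' hY' hX hY g f
  have hA := isAlgStack_fp' hZ hP hY' g' (FibCat.fpFst g f)
  have hB := isAlgStack_fp' hZ hX hY (BasedFunctor.comp g' g) f
  haveI := hA.isStack.1
  haveI := hB.isStack.1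
  rw [isQuasiCompact_iff_compact hA, compact_equiv_iff hA.atlas hB.atlas (isEquivOver_paste g' g f),
    ← isQuasiCompact_iff_compact hB]
  exact h Z hZ hqc _

theorem qcMor_comp {Z : AlgSt.Cat S} (hX : AlgSt.IsAlgStack Scheme.fppfPrecoverage X)
    (hY : AlgSt.IsAlgStack Scheme.fppfPrecoverage Y) (hZ : AlgSt.IsAlgStack Scheme.fppfPrecoverage Z)
    {f : X ⥤ᵇ Y} {g : Y ⥤ᵇ Z} (hf : AlgSt.IsQuasiCompactMor Scheme.fppfPrecoverage f)
    (hg : AlgSt.IsQuasiCompactMor Scheme.fppfPrecoverage g) :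
    AlgSt.IsQuasiCompactMor Scheme.fppfPrecoverage (BasedFunctor.comp f g) := by
  intro W hW hqc w
  haveI := hX.isStack.1
  haveI := hY.isStack.1
  haveI := hZ.isStack.1
  haveI := hW.isStack.1
  have hP := isAlgStack_fp' hW hY hZ w g
  haveI := hP.isStack.1
  have hA := isAlgStack_fp' hP hX hY (FibCat.fpSnd w g) f
  have hB := isAlgStack_fp' hW hX hZ w (BasedFunctor.comp f g)
  haveI := hA.isStack.1
  haveI := hB.isStack.1
  rw [isQuasiCompact_iff_compact hB, ← compact_equiv_iff hA.atlas hB.atlas (isEquivOver_compFun w f g),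
    ← isQuasiCompact_iff_compact hA]
  exact hf _ hP (hg W hW hqc w) _

theorem qcMor_of_surjective_comp {Z : AlgSt.Cat S} (hX : AlgSt.IsAlgStack Scheme.fppfPrecoverage X)
    (hY : AlgSt.IsAlgStack Scheme.fppfPrecoverage Y) (hZ : AlgSt.IsAlgStack Scheme.fppfPrecoverage Z)
    (f : X ⥤ᵇ Y) (q : Y ⥤ᵇ Z) (hf : AlgSt.IsSurjective f)
    (h : AlgSt.IsQuasiCompactMor Scheme.fppfPrecoverage (BasedFunctor.comp f q)) :
    AlgSt.IsQuasiCompactMor Scheme.fppfPrecoverage q := by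
  intro W hW hqc w
  haveI := hX.isStack.1
  haveI := hY.isStack.1
  haveI := hZ.isStack.1
  haveI := hW.isStack.1
  have hP := isAlgStack_fp' hW hY hZ w q
  haveI := hP.isStack.1
  have hA := isAlgStack_fp' hP hX hY (FibCat.fpSnd w q) f
  have hB := isAlgStack_fp' hW hX hZ w (BasedFunctor.comp f q)
  haveI := hA.isStack.1
  haveI := hB.isStack.1
  rw [isQuasiCompact_iff_compact hP]
  exact compact_of_surjective hP.atlas (isSurjective_fpFst f (FibCat.fpSnd w q) hf)
    ((compact_equiv_iff hA.atlas hB.atlas (isEquivOver_compFun w f q)).2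
      ((isQuasiCompact_iff_compact hB).1 (h W hW hqc w)))

/-- Cancellation through a quasi-separated morphism. -/
theorem qcMor_of_comp {Z : AlgSt.Cat S} (hX : AlgSt.IsAlgStack Scheme.fppfPrecoverage X)
    (hY : AlgSt.IsAlgStack Scheme.fppfPrecoverage Y) (hZ : AlgSt.IsAlgStack Scheme.fppfPrecoverage Z)
    (f : X ⥤ᵇ Y) (g : Y ⥤ᵇ Z) (h : AlgSt.IsQuasiCompactMor Scheme.fppfPrecoverage (BasedFunctor.comp f g))
    (hg : AlgSt.IsQuasiSeparatedMor g) : AlgSt.IsQuasiCompactMor Scheme.fppfPrecoverage f := by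
  haveI := hX.isStack.1
  haveI := hY.isStack.1
  haveI := hZ.isStack.1
  let e : BasedFunctor.comp (BasedFunctor.id X) (BasedFunctor.comp f g) ≅ BasedFunctor.comp f g := Iso.refl _
  have hP := isAlgStack_fp' hX hY hZ (BasedFunctor.comp f g) g
  have hQ := isAlgStack_fp' hY hX hZ g (BasedFunctor.comp f g)
  haveI := hP.isStack.1
  haveI := hQ.isStack.1
  have hΔ : AlgSt.RepByAlgSpWith AlgSp.IsQuasiCompactMor (FibCat.diag g) :=
    fun U y => (hg U y).imp fun F ⟨e, he, hP⟩ => ⟨e, he, hP.1⟩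
  have h1 := qcMor_of_rep hX hP (repWith_graph (BasedFunctor.comp f g) g f e hΔ)
  have h2 : AlgSt.IsQuasiCompactMor Scheme.fppfPrecoverage (swapFun (BasedFunctor.comp f g) g) :=
    qcMor_of_rep hP hQ (repByAlgSpWith_of_isEquivOver
      (fun m _ => ASp.isQuasiCompactMor_of_repWith (ASp.repWith_of_isIso @QuasiCompact (f := m))) (isEquivOver_swap _ _))
  have h3 := qcMor_comp hX hQ hY (qcMor_comp hX hP hQ h1 h2) (qcMor_baseChange hX hZ hY g h)
  exact qcMor_congr hX hY (Iso.refl _) h3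

theorem isSurjective_bcFun {W' W : AlgSt.Cat S} [FibCat.IsFibGrpd X.p] [FibCat.IsFibGrpd Y.p] [FibCat.IsFibGrpd W.p]
    [FibCat.IsFibGrpd W'.p] (P : W' ⥤ᵇ W) (y : W ⥤ᵇ Y) (f : X ⥤ᵇ Y) (hP : AlgSt.IsSurjective P) :
    AlgSt.IsSurjective (bcFun P y f) := by
  haveI : FibCat.IsFibGrpd (FibCat.fp y f).p := H9Fib.isFibGrpd_fp _ _
  intro q
  obtain ⟨w', hw'⟩ := hP (AlgSt.Points.map (FibCat.fpFst y f) q)
  obtain ⟨w, -, hw⟩ := exists_fp_point (FibCat.fpFst y f) P w' q hw'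
  refine ⟨AlgSt.Points.map (pasteFun P y f) w, ?_⟩
  refine (points_map_comp (pasteFun P y f) (bcFun P y f) w).trans (Eq.trans ?_ hw)
  refine points_map_iso (F := BasedFunctor.comp (pasteFun P y f) (bcFun P y f))
    (G := FibCat.fpSnd P (FibCat.fpFst y f)) (BasedNatIso.mkNatIso (NatIso.ofComponents (fun w => (FibCat.fpProp y f).isoMk
      (CategoricalPullback.mkIso w.obj.iso (Iso.refl _) ?_))
      (fun {w w'} m => ObjectProperty.hom_ext _ (CategoricalPullback.hom_ext m.hom.w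
        ((Category.comp_id _).trans (Category.id_comp _).symm))))
      fun w => ?_) w
  · show y.map w.obj.iso.hom ≫ w.obj.snd.obj.iso.hom =
      (y.map w.obj.iso.hom ≫ w.obj.snd.obj.iso.hom) ≫ f.map (𝟙 _)
    erw [f.toFunctor.map_id, Category.comp_id]
  · haveI := w.property
    refine IsHomLift.of_fac' _ _ _ (P.w_obj w.obj.fst)
      (@IsHomLift.codomain_eq _ _ _ _ W.p _ _ _ _ (𝟙 (W'.p.obj w.obj.fst)) w.obj.iso.hom w.property) ?_
    exact @IsHomLift.fac' _ _ _ _ W.p _ _ _ _ (𝟙 (W'.p.obj w.obj.fst)) w.obj.iso.hom w.property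

theorem isSurjective_overMap {V U : Over S} (c : V ⟶ U) (hc : Function.Surjective c.left) :
    AlgSt.IsSurjective (AlgSt.overMap c) := by
  haveI : FibCat.IsFibGrpd (FibCat.overCat U).p := isFibGrpd_overCat U
  haveI : FibCat.IsFibGrpd (FibCat.overCat V).p := isFibGrpd_overCat V
  intro q
  obtain ⟨u, rfl⟩ := surjective_ofChart (Y := FibCat.overCat U) (p := BasedFunctor.id (FibCat.overCat U))
    (repByAlgSpWith_of_isEquivOver (fun m _ => isSurjectiveMor_of_iso m) (H9Fib.isEquivOver_id _)) q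
  obtain ⟨v, rfl⟩ := hc u
  rw [← ofChart_overMap_comp c, ← Set.mem_range]
  exact (range_ofChart (AlgSt.overMap c)).le ⟨v, rfl⟩

/-- Quasi-compactness descends along flat, locally finitely presented coverings. -/
theorem qcMor_of_cover {W : AlgSt.Cat S} [hW : FibCat.IsFibGrpd W.p] (hWa : AlgSt.IsAlgStack Scheme.fppfPrecoverage W)
    (hX : AlgSt.IsAlgStack Scheme.fppfPrecoverage X) (hY : AlgSt.IsAlgStack Scheme.fppfPrecoverage Y)
    {f : X ⥤ᵇ Y} (w : W ⥤ᵇ Y) (hw₁ : AlgSt.RepByAlgSpWith (AlgSp.LocP @Flat) w)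
    (hw₂ : AlgSt.RepByAlgSpWith (AlgSp.LocP @LocallyOfFinitePresentation) w)
    (hw₃ : AlgSt.RepByAlgSpWith AlgSp.IsSurjectiveMor w)
    (h : AlgSt.IsQuasiCompactMor Scheme.fppfPrecoverage (FibCat.fpFst w f)) :
    AlgSt.IsQuasiCompactMor Scheme.fppfPrecoverage f := by
  haveI := hX.isStack.1
  haveI := hY.isStack.1
  refine qcMor_of_affine hX hY f fun U y hU => ?_
  haveI := hU
  obtain ⟨V, c, l, hc₁, hc₂, hc₃, ⟨i⟩⟩ := exists_cover_lift hw₁ hw₂ hw₃ U y
  haveI := hc₁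
  haveI := hc₂
  obtain ⟨t, ht⟩ := isCompact_univ.elim_finite_subcover
    (fun W : V.left.affineOpens => c.left '' (W.1 : Set V.left))
    (fun W => c.left.isOpenMap _ W.1.2) (fun x _ => by
      obtain ⟨v, rfl⟩ := hc₃ x
      obtain ⟨W, hW, hvW, -⟩ := exists_isAffineOpen_mem_and_subset (X := V.left) (x := v) (U := ⊤) trivial
      exact Set.mem_iUnion.2 ⟨⟨W, hW⟩, v, hvW, rfl⟩)
  have : ∀ W : (↑t : Set V.left.affineOpens), IsAffine (W.1.1 : Scheme.{u}) := fun W => W.1.2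
  let d : (∐ fun W : (↑t : Set V.left.affineOpens) => (W.1.1 : Scheme.{u})) ⟶ V.left :=
    Sigma.desc fun W => W.1.1.ι
  let V' : Over S := Over.mk (d ≫ V.hom)
  haveI hV' : IsAffine V'.left := by
    change IsAffine (∐ fun W : (↑t : Set V.left.affineOpens) => (W.1.1 : Scheme.{u}))
    infer_instance
  let d' : V' ⟶ V := Over.homMk d
  have hs : Function.Surjective (d' ≫ c).left := fun x => by
    obtain ⟨W, hW, v, hv, rfl⟩ := Set.mem_iUnion₂.1 (ht (Set.mem_univ x))
    refine ⟨(Sigma.ι (fun W : (↑t : Set V.left.affineOpens) => (W.1.1 : Scheme.{u})) ⟨W, hW⟩) ⟨v, hv⟩, ?_⟩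
    change c.left ((Sigma.ι _ _ ≫ d) _) = _
    simp [d]
  haveI : FibCat.IsFibGrpd (FibCat.overCat U).p := isFibGrpd_overCat U
  haveI : FibCat.IsFibGrpd (FibCat.overCat V').p := isFibGrpd_overCat V'
  let l' := BasedFunctor.comp (AlgSt.overMap d') l
  have hP := isAlgStack_fp' hWa hX hY w f
  haveI := hP.isStack.1
  have hA := isAlgStack_fp' (isAlgStack_overCat V') hP hWa l' (FibCat.fpFst w f)
  have hB := isAlgStack_fp' (isAlgStack_overCat V') hX hY (BasedFunctor.comp l' w) f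
  have hC := isAlgStack_fp' (isAlgStack_overCat V') hX hY (BasedFunctor.comp (AlgSt.overMap (d' ≫ c)) y) f
  have hD := isAlgStack_fp' (isAlgStack_overCat U) hX hY y f
  haveI := hA.isStack.1
  haveI := hB.isStack.1
  haveI := hC.isStack.1
  haveI := hD.isStack.1
  have h1 : CompactSpace (AlgSt.Points (FibCat.fp (BasedFunctor.comp l' w) f)) :=
    (compact_equiv_iff hA.atlas hB.atlas (isEquivOver_paste l' w f)).1 (qcMor_compact hP hWa h (isAlgStack_overCat V')
      ((isQuasiCompact_iff_compact (isAlgStack_overCat V')).1 (isQuasiCompact_overCat hV')) l')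
  obtain ⟨j⟩ := exists_iso_of_clsMap_eq (A := FibCat.overCat V') (B := FibCat.overCat U)
    (F := AlgSt.overMap (d' ≫ c)) (G := BasedFunctor.comp (AlgSt.overMap d') (AlgSt.overMap c)) (by
      haveI : FibCat.IsFibGrpd (FibCat.overCat V).p := isFibGrpd_overCat V
      rw [← cancel_mono (clsOverCat U).hom, clsMap_overMap, clsMap_comp, Category.assoc, clsMap_overMap,
        ← Category.assoc, clsMap_overMap, Category.assoc, Functor.map_comp])
  let k : BasedFunctor.comp l' w ≅ BasedFunctor.comp (AlgSt.overMap (d' ≫ c)) y :=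
    H9Fib.wLeft (AlgSt.overMap d') i ≪≫ H9Fib.wRight j.symm y
  let G := fpCongr (g := BasedFunctor.comp (AlgSt.overMap (d' ≫ c)) y) (f := f) (g' := BasedFunctor.comp l' w) (f' := f)
    (BasedFunctor.id (FibCat.overCat V')) (BasedFunctor.id X) (BasedFunctor.id Y) k (Iso.refl _)
  exact compact_of_surjective hD.atlas (isSurjective_bcFun (AlgSt.overMap (d' ≫ c)) y f (isSurjective_overMap _ hs))
    ((compact_equiv_iff hB.atlas hC.atlas (isEquivOver_fpCongr (g := BasedFunctor.comp (AlgSt.overMap (d' ≫ c)) y)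
      (f := f) (g' := BasedFunctor.comp l' w) (f' := f) (α := BasedFunctor.id (FibCat.overCat V'))
      (a := BasedFunctor.id X) (β := BasedFunctor.id Y) k (Iso.refl _) (H9Fib.isEquivOver_id _) (H9Fib.isEquivOver_id _)
      (H9Fib.isEquivOver_id _))).1 h1)

/-- A morphism of schemes is quasi-compact as a morphism of slices. -/
theorem repWith_overMap_qc {U' U : Over S} (c : U' ⟶ U) (hc : QuasiCompact c.left) :
    AlgSt.RepByAlgSpWith AlgSp.IsQuasiCompactMor (AlgSt.overMap c) := by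
  haveI : FibCat.IsFibGrpd (FibCat.overCat U).p := isFibGrpd_overCat U
  haveI : FibCat.IsFibGrpd (FibCat.overCat U').p := isFibGrpd_overCat U'
  refine repByAlgSpWith_of_space (T := FibCat.overCat U) (A := (AlgSp.yon S).obj U) (AlgSp.IsAlgSpace.yon_obj U)
    (clsOverCat U) (AlgSt.overMap c) ((AlgSp.yon S).map c) ?_ fun {B V b q r} sq =>
      ASp.isQuasiCompactMor_of_repWith (ASp.repWith_baseChange sq ((AlgSp.repWith_yon_map_iff _ c).2 hc))
  rw [← Category.assoc, Iso.eq_comp_inv]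
  exact clsMap_overMap c

theorem isEquivOver_toSelf_terminal :
    FibCat.IsEquivOver (FibCat.toSelf (FibCat.overCat (Over.mk (𝟙 S)))) := by
  have ht : ∀ (B : Over S), ∀ u v : B ⟶ Over.mk (𝟙 S), u = v := fun B u v => Over.OverMorphism.ext
    (((Category.comp_id _).symm.trans (Over.w u)).trans ((Over.w v).symm.trans (Category.comp_id _)))
  refine H9Fib.isEquivOver_of _ ⟨fun {a b} m => ⟨Over.homMk m (ht _ _ _), rfl⟩⟩
    ⟨fun {a b m n} e => Over.OverMorphism.ext e⟩ fun η => ?_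
  exact ⟨Over.mk (Over.homMk η.hom (Category.comp_id _) : η ⟶ Over.mk (𝟙 S)), Iso.refl η, IsHomLift.id rfl⟩

/-- A quasi-compact stack over a quasi-separated base is quasi-compact over it. -/
theorem qcMor_toSelf [QuasiSeparatedSpace S] (hX : AlgSt.IsAlgStack Scheme.fppfPrecoverage X)
    (hqc : AlgSt.IsQuasiCompact X) :
    AlgSt.IsQuasiCompactMor Scheme.fppfPrecoverage (FibCat.toSelf X) := by
  haveI : FibCat.IsFibGrpd (FibCat.selfOver (Over S)).p := isFibGrpd_selfOver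
  haveI := hX.isStack.1
  obtain ⟨V, x, hV, -, hxs⟩ := hqc
  haveI := hV
  haveI : FibCat.IsFibGrpd (FibCat.overCat V).p := isFibGrpd_overCat V
  refine qcMor_of_surjective_comp (isAlgStack_overCat V) hX isAlgStack_selfOver x _ (isSurjective_of_rep hxs) ?_
  rw [comp_toSelf]
  let T : Over S := Over.mk (𝟙 S)
  haveI : FibCat.IsFibGrpd (FibCat.overCat T).p := isFibGrpd_overCat T
  let t : V ⟶ T := Over.homMk V.hom (Category.comp_id _)
  have hq : QuasiCompact t.left := by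
    change QuasiCompact V.hom
    infer_instance
  have h1 := repByAlgSpWith_congr (P := AlgSp.IsQuasiCompactMor)
    (f := BasedFunctor.comp (AlgSt.overMap t) (FibCat.toSelf (FibCat.overCat T))) (f' := AlgSt.overMap t)
    (BasedFunctor.id _) (FibCat.toSelf (FibCat.overCat T)) (H9Fib.isEquivOver_id _) isEquivOver_toSelf_terminal
    (Iso.refl _)
  have h2 := qcMor_of_rep (isAlgStack_overCat V) isAlgStack_selfOver (h1.2 (repWith_overMap_qc t hq))
  rwa [comp_toSelf] at h2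

/-- A morphism from a quasi-compact stack to a quasi-separated one is quasi-compact. -/
theorem qcMor_of_qc_qs [QuasiSeparatedSpace S] (hX : AlgSt.IsAlgStack Scheme.fppfPrecoverage X)
    (hY : AlgSt.IsAlgStack Scheme.fppfPrecoverage Y) (f : X ⥤ᵇ Y) (hqc : AlgSt.IsQuasiCompact X)
    (hqs : AlgSt.IsQuasiSeparatedOver Y) : AlgSt.IsQuasiCompactMor Scheme.fppfPrecoverage f := by
  haveI := hX.isStack.1
  haveI := hY.isStack.1
  refine qcMor_of_comp hX hY isAlgStack_selfOver f (FibCat.toSelf Y) ?_ hqs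
  rw [comp_toSelf]
  exact qcMor_toSelf hX hqc

theorem qcqs_fp [QuasiSeparatedSpace S] {Z : AlgSt.Cat S} (hX : AlgSt.IsAlgStack Scheme.fppfPrecoverage X)
    (hY : AlgSt.IsAlgStack Scheme.fppfPrecoverage Y) (hZ : AlgSt.IsAlgStack Scheme.fppfPrecoverage Z)
    (a : X ⥤ᵇ Y) (b : Z ⥤ᵇ Y) (hXc : AlgSt.IsQuasiCompact X) (hXs : AlgSt.IsQuasiSeparatedOver X)
    (hYs : AlgSt.IsQuasiSeparatedOver Y) (hZc : AlgSt.IsQuasiCompact Z) (hZs : AlgSt.IsQuasiSeparatedOver Z) :
    AlgSt.IsQuasiCompact (FibCat.fp a b) ∧ AlgSt.IsQuasiSeparatedOver (FibCat.fp a b) := by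
  haveI : FibCat.IsFibGrpd (FibCat.selfOver (Over S)).p := isFibGrpd_selfOver
  haveI := hX.isStack.1
  haveI := hY.isStack.1
  haveI := hZ.isStack.1
  have hP := isAlgStack_fp' hX hZ hY a b
  haveI := hP.isStack.1
  refine ⟨qcMor_of_qc_qs hZ hY b hZc hYs X hX hXc a, ?_⟩
  haveI : FibCat.IsFibGrpd (FibCat.fp b b).p := H9Fib.isFibGrpd_fp _ _
  haveI : FibCat.IsFibGrpd (FibCat.fp (BasedFunctor.comp b (FibCat.toSelf Y))
    (BasedFunctor.comp b (FibCat.toSelf Y))).p := H9Fib.isFibGrpd_fp _ _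
  have hb : AlgSt.RepByAlgSpWith (AlgSp.IsQuasiCompactMor ⊓ AlgSp.IsQuasiSeparatedMor) (FibCat.diag b) := by
    refine repWith_diag_of_comp standard_qcqs b (FibCat.toSelf Y) ?_
      (qcqs_diag_of_qs (fun U y => (repWith_cmp b b (FibCat.toSelf Y) hYs U y).imp
        fun F ⟨e, he, hP⟩ => ⟨e, he, hP.2⟩))
    rw [comp_toSelf]
    exact hZs
  have h := repWith_diag_comp standard_qcqs (repWith_diag_fpFst a b hb) hXs
  rw [comp_toSelf] at h
  exact h

end Groth.Agent.H9St
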