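import Groth.Agent.Lib.H9StFPt
import Groth.Agent.Lib.H9StCls
import Groth.Agent.Lib.H9FibEquiv
import Groth.Agent.Lib.AlgSpRepBy
/-! Representability by algebraic spaces read on presheaves of isomorphism classes. -/

set_option autoImplicit false
set_option linter.style.haveILetI false
set_option linter.unusedVariables false
set_option linter.unusedSectionVars false
set_option backward.isDefEq.respectTransparency.types false

universe u

open CategoryTheory CategoryTheory.Limits AlgebraicGeometry Opposite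

noncomputable section

namespace Groth.Agent.H9St

variable {S : Scheme.{u}}

instance isFibGrpd_overCat' (U : Over S) : FibCat.IsFibGrpd (FibCat.overCat U).p := isFibGrpd_overCat U

theorem eqToHom_shift {C : Type*} [Category C] {A A' B B' U : C} (h : A' = A) (g : A ⟶ B) (h2 : B = B') (k : B' ⟶ U) :
    eqToHom h.symm ≫ (eqToHom h ≫ g ≫ eqToHom h2) ≫ k = g ≫ eqToHom h2 ≫ k := by
  subst h h2; simp

theorem eqToHom_cancel {C : Type*} [Category C] {A A' B B' : C} {f g : A ⟶ B} (h : A' = A) (h2 : B = B')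
    (e : eqToHom h ≫ f ≫ eqToHom h2 = eqToHom h ≫ g ≫ eqToHom h2) : f = g := by
  subst h h2; simpa using e

theorem map_map (P : AlgSp.PSp S) {A B C : Over S} (g : A ⟶ B) (f : B ⟶ C) (x : P.obj (op C)) :
    P.map g.op (P.map f.op x) = P.map (g ≫ f).op x := (P.map_comp_apply f.op g.op x).symm

instance isFibGrpd_ofPsh (P : AlgSp.PSp S) : FibCat.IsFibGrpd (Stk.ofPsh P).p where
  exists_lift {x V} g := ⟨⟨V, P.map g.op x.sec⟩, ⟨g, rfl⟩,
    IsHomLift.of_fac' _ _ _ rfl rfl (by show g = _; simp)⟩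
  isStronglyCartesian {b a} φ :=
    { universal_property' := fun {a'} g φ' hl => by
        haveI := hl
        have e : φ'.hom = g ≫ φ.hom := by
          have h' := IsHomLift.fac' (Stk.ofPsh P).p (g ≫ (Stk.ofPsh P).p.map φ) φ'
          simp at h'
          exact h'
        have hw : P.map g.op b.sec = a'.sec := by
          exact (congrArg (P.map g.op) φ.map_sec.symm).trans ((map_map P g φ.hom a.sec).trans
            ((congrArg (fun m => P.map m.op a.sec) e.symm).trans φ'.map_sec))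
        refine ⟨⟨g, hw⟩, ⟨IsHomLift.of_fac' _ _ _ rfl rfl (by show g = _; simp),
          Stk.EltObj.hom_ext e.symm⟩, ?_⟩
        rintro χ ⟨hχ, -⟩
        haveI := hχ
        refine Stk.EltObj.hom_ext ?_
        have h' := IsHomLift.fac' (Stk.ofPsh P).p g χ
        simp at h'
        exact h' }

/-- Fibres without non-identity vertical endomorphisms. -/
class Disc (Z : AlgSt.Cat S) : Prop where
  endo : ∀ {T : Over S} (x : Z.p.Fiber T) (s : x.1 ⟶ x.1), Z.p.IsHomLift (𝟙 T) s → s = 𝟙 _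

instance disc_overCat (U : Over S) : Disc (FibCat.overCat U) := ⟨fun x s hs => left_eq_id s x.2 hs⟩

instance disc_ofPsh (P : AlgSp.PSp S) : Disc (Stk.ofPsh P) :=
  ⟨fun {T} x s hs => by
    obtain ⟨x, rfl⟩ := x
    haveI := hs
    refine Stk.EltObj.hom_ext ?_
    have h' := IsHomLift.fac' (Stk.ofPsh P).p (𝟙 ((Stk.ofPsh P).p.obj x)) s
    simp at h'
    exact h'⟩

variable {Z W : AlgSt.Cat S} [hZ : FibCat.IsFibGrpd Z.p] [hW : FibCat.IsFibGrpd W.p]

theorem cleanF_of_disc [Disc Z] {T : Over S} (x : Z.p.Fiber T) : CleanF x :=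
  fun V g y φ _ s hs => Disc.endo y s hs

theorem eq_vertical [Disc Z] {T' T : Over S} (g : T' ⟶ T) {a b : Z.obj} (φ ψ : a ⟶ b) (hφ : Z.p.IsHomLift g φ)
    (hψ : Z.p.IsHomLift g ψ) : φ = ψ := by
  haveI := hφ; haveI := hψ
  exact eq_of_cleanF (x := (⟨b, IsHomLift.codomain_eq Z.p g φ⟩ : Z.p.Fiber T))
    (y := (⟨a, IsHomLift.domain_eq Z.p g φ⟩ : Z.p.Fiber T')) g (cleanF_of_disc _) φ ψ

theorem eq_of_base [Disc Z] {a b : Z.obj} (φ ψ : a ⟶ b) (h : Z.p.map φ = Z.p.map ψ) : φ = ψ :=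
  eq_vertical (Z.p.map φ) φ ψ (.map φ) (h ▸ .map ψ)

variable (Z) in
/-- The presheaf of isomorphism classes. -/
def clsPsh : AlgSp.PSp S where
  obj T := IsoNat.IsoCl Z T.unop
  map g := ↾(rc g.unop)
  map_id T := by ext c; exact rc_id c
  map_comp g h := by ext c; exact (rc_comp h.unop g.unop c).symm

theorem mapCls_rc (Φ : Z ⥤ᵇ W) {T' T : Over S} (g : T' ⟶ T) (c : IsoNat.IsoCl Z T) :
    IsoNat.mapCls Φ T' (rc g c) = rc g (IsoNat.mapCls Φ T c) := by
  induction c using Quotient.ind with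
  | _ x =>
    show IsoNat.cls ((IsoNat.fibFun Φ T').obj (pb g x)) = rc g (IsoNat.cls ((IsoNat.fibFun Φ T).obj x))
    haveI : W.p.IsHomLift g (Φ.map (pbMap g x)) := inferInstance
    exact @rc_of_map S W hW _ _ g ((IsoNat.fibFun Φ T).obj x) ((IsoNat.fibFun Φ T').obj (pb g x)) (Φ.map (pbMap g x))
      this

/-- The map of classes of a functor. -/
def clsMap (Φ : Z ⥤ᵇ W) : clsPsh Z ⟶ clsPsh W where
  app T := ↾(IsoNat.mapCls Φ T.unop)
  naturality T T' g := by ext c; exact mapCls_rc Φ g.unop c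

theorem clsMap_app (Φ : Z ⥤ᵇ W) {T : Over S} (x : Z.p.Fiber T) :
    (clsMap Φ).app (op T) (IsoNat.cls x) = IsoNat.cls ((IsoNat.fibFun Φ T).obj x) := rfl

theorem clsMap_comp {V : AlgSt.Cat S} [FibCat.IsFibGrpd V.p] (Φ : Z ⥤ᵇ W) (Ψ : W ⥤ᵇ V) :
    clsMap (BasedFunctor.comp Φ Ψ) = clsMap Φ ≫ clsMap Ψ := by
  ext T c
  induction c using Quotient.ind with
  | _ x => exact (cls_eq_iff _ _).2 ⟨eqToIso (Subtype.ext rfl)⟩

theorem cls_congr {T : Over S} {x y : Z.p.Fiber T} (h : x.1 = y.1) : IsoNat.cls x = IsoNat.cls y :=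
  congrArg IsoNat.cls (Subtype.ext h)

theorem cls_of_vertical {T : Over S} (x y : Z.p.Fiber T) (φ : x.1 ⟶ y.1) (h : Z.p.IsHomLift (𝟙 T) φ) :
    IsoNat.cls x = IsoNat.cls y :=
  (cls_eq_iff _ _).2 ⟨@fibIso _ _ Z _ _ x y φ h⟩

theorem clsMap_congr {Φ Ψ : Z ⥤ᵇ W} (e : Φ ≅ Ψ) : clsMap Φ = clsMap Ψ := by
  ext T c
  induction c using Quotient.ind with
  | _ x => exact cls_of_vertical _ _ (e.hom.toNatTrans.app x.1) (BasedNatTrans.isHomLift e.hom x.2)

theorem clsMap_id : clsMap (BasedFunctor.id Z) = 𝟙 (clsPsh Z) := by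
  ext T c
  induction c using Quotient.ind with
  | _ x => exact cls_congr rfl

theorem isIso_clsMap {Φ : Z ⥤ᵇ W} (h : FibCat.IsEquivOver Φ) : IsIso (clsMap Φ) := by
  obtain ⟨G, ⟨a⟩, ⟨b⟩⟩ := h
  exact ⟨clsMap G, by rw [← clsMap_comp, clsMap_congr a, clsMap_id],
    by rw [← clsMap_comp, clsMap_congr b, clsMap_id]⟩

/-- The section of an object over an identified base. -/
def secAt (P : AlgSp.PSp S) {T : Over S} (a : (Stk.ofPsh P).p.Fiber T) : P.obj (op T) :=
  P.map (eqToHom a.2.symm).op a.1.sec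

theorem secAt_congr (P : AlgSp.PSp S) {T : Over S} (a b : (Stk.ofPsh P).p.Fiber T) (h : IsoNat.cls a = IsoNat.cls b) :
    secAt P a = secAt P b := by
  obtain ⟨e⟩ := (cls_eq_iff _ _).1 h
  obtain ⟨a, ha⟩ := a
  obtain ⟨b, hb⟩ := b
  haveI := e.hom.2
  have e1 := IsHomLift.fac' (Stk.ofPsh P).p (𝟙 T) e.hom.1
  subst ha
  simp at e1
  show P.map (eqToHom _).op a.sec = P.map (eqToHom _).op b.sec
  have e0 : P.map e.hom.1.hom.op b.sec = a.sec := e.hom.1.map_sec
  rw [← e0]
  refine (map_map P _ _ _).trans ?_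
  congr 3
  rw [show e.hom.1.hom = _ from e1]
  exact congrArg _ (eqToHom_trans _ _)

/-- Classes in the category of a presheaf are its sections. -/
def clsOfPsh (P : AlgSp.PSp S) : clsPsh (Stk.ofPsh P) ≅ P :=
  NatIso.ofComponents (fun T => Equiv.toIso
    { toFun := Quotient.lift (secAt P) fun a b h => secAt_congr P a b (Quotient.sound h)
      invFun := fun s => IsoNat.cls (⟨⟨T.unop, s⟩, rfl⟩ : (Stk.ofPsh P).p.Fiber T.unop)
      left_inv := fun c => by
        induction c using Quotient.ind with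
        | _ a =>
          obtain ⟨⟨b, s⟩, hb⟩ := a
          change b = T.unop at hb
          subst hb
          refine cls_congr (?_ : (⟨_, secAt P ⟨⟨_, s⟩, rfl⟩⟩ : Stk.EltObj P) = ⟨_, s⟩)
          simp [secAt]; rfl
      right_inv := fun s => by
        show P.map (eqToHom rfl).op s = s
        simp }) fun {T T'} g => by
    ext c
    induction c using Quotient.ind with
    | _ a =>
      show P.map (eqToHom _).op (pb g.unop a).1.sec = P.map g (P.map (eqToHom _).op a.1.sec)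
      have e1 := @IsHomLift.fac' _ _ _ _ (Stk.ofPsh P).p _ _ _ _ g.unop (pbMap g.unop a)
        (exists_lift' g.unop a).choose_spec.choose_spec
      simp at e1
      have e0 : P.map (pbMap g.unop a).hom.op a.1.sec = (pb g.unop a).1.sec := (pbMap g.unop a).map_sec
      rw [← e0]
      refine (map_map P _ _ _).trans (Eq.trans ?_ (map_map P g.unop _ _).symm)
      congr 3
      rw [show (pbMap g.unop a).hom = _ from e1]
      exact eq_of_heq (by simp)

theorem clsOfPsh_app (P : AlgSp.PSp S) {T : Over S} (a : (Stk.ofPsh P).p.Fiber T) :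
    (clsOfPsh P).hom.app (op T) (IsoNat.cls a) = secAt P a := rfl

/-- The point of a slice defined by an object. -/
def ovAt (U : Over S) {T : Over S} (a : (FibCat.overCat U).p.Fiber T) : ((AlgSp.pyon S).obj U).obj (op T) :=
  ⟨eqToHom a.2.symm ≫ a.1.hom⟩

theorem ovAt_congr (U : Over S) {T : Over S} (a b : (FibCat.overCat U).p.Fiber T) (h : IsoNat.cls a = IsoNat.cls b) :
    ovAt U a = ovAt U b := by
  obtain ⟨e⟩ := (cls_eq_iff _ _).1 h
  obtain ⟨a, ha⟩ := a
  obtain ⟨b, hb⟩ := b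
  haveI := e.hom.2
  have e1 := IsHomLift.fac' (FibCat.overCat U).p (𝟙 T) e.hom.1
  have e2 : e.hom.1.left ≫ b.hom = a.hom := Over.w e.hom.1
  simp at e1
  subst ha
  refine congrArg ULift.up ?_
  rw [← e2, show e.hom.1.left = _ from e1]
  exact (Category.id_comp _)

/-- Classes in a slice are morphisms. -/
def clsOverCat (U : Over S) : clsPsh (FibCat.overCat U) ≅ (AlgSp.pyon S).obj U :=
  NatIso.ofComponents (fun T => Equiv.toIso
    { toFun := Quotient.lift (ovAt U) fun a b h => ovAt_congr U a b (Quotient.sound h)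
      invFun := fun s => IsoNat.cls (⟨Over.mk s.down, rfl⟩ : (FibCat.overCat U).p.Fiber T.unop)
      left_inv := fun c => by
        induction c using Quotient.ind with
        | _ a =>
          obtain ⟨b, hb⟩ := a
          change b.left = T.unop at hb
          obtain ⟨T⟩ := T
          change b.left = T at hb
          subst hb
          refine cls_of_vertical _ _ (Over.homMk (𝟙 b.left) ?_ : Over.mk (ovAt U ⟨b, rfl⟩).down ⟶ b) ?_
          · show 𝟙 b.left ≫ b.hom = 𝟙 _ ≫ b.hom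
            rfl
          · exact IsHomLift.of_fac' _ _ _ rfl rfl (by show 𝟙 b.left = _; simp; rfl)
      right_inv := fun s => congrArg ULift.up (Category.id_comp s.down) }) fun {T T'} g => by
    ext c
    induction c using Quotient.ind with
    | _ a =>
      refine congrArg ULift.up ?_
      show eqToHom _ ≫ (pb g.unop a).1.hom = g.unop ≫ eqToHom _ ≫ a.1.hom
      have e1 := IsHomLift.fac' (FibCat.overCat U).p g.unop (pbMap g.unop a)
      have e2 : (pbMap g.unop a).left ≫ a.1.hom = (pb g.unop a).1.hom := Over.w (pbMap g.unop a)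
      have e1' : (pbMap g.unop a).left = eqToHom (pb g.unop a).2 ≫ g.unop ≫ eqToHom a.2.symm := e1
      rw [← e2, e1']
      exact eqToHom_shift _ _ _ _

theorem clsOverCat_app (U : Over S) {T : Over S} (a : (FibCat.overCat U).p.Fiber T) :
    (clsOverCat U).hom.app (op T) (IsoNat.cls a) = ovAt U a := rfl

/-- The map of sheaves of a functor to a slice, on classes. -/
theorem spMapOfOver_eq {F : AlgSp.Sp S} {U : Over S} (Φ : AlgSt.ofSp F ⥤ᵇ FibCat.overCat U) :
    (AlgSt.spMapOfOver Φ).hom = (clsOfPsh F.obj).inv ≫ clsMap Φ ≫ (clsOverCat U).hom := by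
  ext T s
  rfl

variable (Z) in
/-- A category fibred in setoids is the category of its presheaf of classes. -/
theorem exists_clsEquiv [Disc Z] : ∃ Φ : Stk.ofPsh (clsPsh Z) ⥤ᵇ Z,
    FibCat.IsEquivOver Φ ∧ clsMap Φ = (clsOfPsh (clsPsh Z)).hom := by
  let φ : IsoNat.FIso (Stk.ofPsh (clsPsh Z)) Z :=
    { toEquiv := fun T => Iso.toEquiv ((clsOfPsh (clsPsh Z)).app (op T))
      natural := fun {T' T} g a' a m hm => by
        haveI := hm
        obtain ⟨z, hz⟩ := Quotient.exists_rep (secAt (clsPsh Z) a)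
        refine ⟨pb g z, z, pbMap g z, inferInstance, ?_, hz.symm⟩
        have h := NatTrans.naturality_apply (clsOfPsh (clsPsh Z)).hom g.op (IsoNat.cls a)
        show (clsOfPsh (clsPsh Z)).hom.app (op T') (IsoNat.cls a') = _
        rw [rc_of_map g a' m]
        refine h.trans ?_
        show rc g (secAt (clsPsh Z) a) = _
        rw [← hz]; rfl }
  obtain ⟨Φ, hΦ⟩ := exists_functor φ (fun T y => cleanF_of_disc y)
  have hc : clsMap Φ = (clsOfPsh (clsPsh Z)).hom := by
    ext T c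
    induction c using Quotient.ind with
    | _ a =>
      obtain ⟨T⟩ := T
      obtain ⟨a, ha⟩ := a
      change a.base = T at ha
      subst ha
      exact (cls_congr rfl).trans (hΦ a)
  refine ⟨Φ, H9Fib.isEquivOver_of Φ ⟨fun {a b} k => ?_⟩ ⟨fun {a b} {k l} e => ?_⟩ fun η => ?_, hc⟩
  · let g : a.base ⟶ b.base := baseHom (Φ.w_obj a) (Φ.w_obj b) k
    haveI : Z.p.IsHomLift g k := lift_baseHom _ _ k
    have ea : ∀ c : Stk.EltObj (clsPsh Z), φ.toEquiv c.base (IsoNat.cls (⟨c, rfl⟩ :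
        (Stk.ofPsh (clsPsh Z)).p.Fiber c.base)) = c.sec := fun c => by
      show (clsPsh Z).map (eqToHom rfl).op c.sec = c.sec
      simp
    have e : rc g b.sec = a.sec := (congrArg (rc g) ((hΦ b).trans (ea b))).symm.trans
      ((@rc_of_map _ Z _ _ _ g (at' Φ b) (at' Φ a) k this).symm.trans ((hΦ a).trans (ea a)))
    refine ⟨⟨g, e⟩, eq_vertical g _ _ ?_ inferInstance⟩
    exact @BasedFunctor.preserves_isHomLift _ _ _ _ Φ _ _ _ _ g (⟨g, e⟩ : a ⟶ b)
      (IsHomLift.of_fac' _ _ _ rfl rfl (by show g = _; simp))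
  · have h := congrArg Z.p.map e
    have h1 := Functor.congr_hom Φ.w k
    have h2 := Functor.congr_hom Φ.w l
    simp only [Functor.comp_map] at h1 h2
    rw [h1, h2] at h
    exact Stk.EltObj.hom_ext (eqToHom_cancel _ _ h)
  · let a : Stk.EltObj (clsPsh Z) := ⟨Z.p.obj η, IsoNat.cls (⟨η, rfl⟩ : Z.p.Fiber (Z.p.obj η))⟩
    have h := hΦ a
    have ea : φ.toEquiv _ (IsoNat.cls (⟨a, rfl⟩ : (Stk.ofPsh (clsPsh Z)).p.Fiber a.base)) = a.sec := by
      show (clsPsh Z).map (eqToHom rfl).op a.sec = a.sec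
      simp
    obtain ⟨e⟩ := (cls_eq_iff (T := Z.p.obj η) (at' Φ a) (⟨η, rfl⟩ : Z.p.Fiber (Z.p.obj η))).1 (h.trans ea)
    haveI := e.hom.2
    exact ⟨a, (Functor.Fiber.fiberInclusion).mapIso e, e.hom.2⟩

theorem disc_of_equiv {F : AlgSp.PSp S} {e : Stk.ofPsh F ⥤ᵇ Z} (he : FibCat.IsEquivOver e) : Disc Z := by
  refine ⟨fun {T} x s hs => ?_⟩
  obtain ⟨full, faith, ess⟩ := H9Fib.full_of_isEquivOver he
  obtain ⟨c, δ, hδ⟩ := ess x.1
  haveI := full; haveI := faith
  let t : c ⟶ c := e.toFunctor.preimage (δ.hom ≫ s ≫ δ.inv)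
  obtain ⟨x, rfl⟩ := x
  haveI := hδ; haveI := hs
  haveI : Z.p.IsHomLift (𝟙 (Z.p.obj x)) δ.inv := IsHomLift.lift_id_inv _ _ _
  have l2 : Z.p.IsHomLift (𝟙 (Z.p.obj x)) (s ≫ δ.inv) := inferInstance
  have l3 : Z.p.IsHomLift (𝟙 (Z.p.obj x)) (δ.hom ≫ s ≫ δ.inv) := inferInstance
  have lt : (Stk.ofPsh F).p.IsHomLift (𝟙 (Z.p.obj x)) t := (BasedFunctor.isHomLift_iff e _ _).1 (by
    show Z.p.IsHomLift _ (e.toFunctor.map (e.toFunctor.preimage _))
    rw [e.toFunctor.map_preimage]; exact l3)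
  have ht : t = 𝟙 c := Disc.endo (⟨c, IsHomLift.domain_eq (Stk.ofPsh F).p (𝟙 (Z.p.obj x)) t⟩ :
    (Stk.ofPsh F).p.Fiber (Z.p.obj x)) t lt
  have := congrArg e.toFunctor.map ht
  rw [e.toFunctor.map_preimage, e.toFunctor.map_id] at this
  rw [← Category.assoc, Iso.comp_inv_eq, Category.id_comp] at this
  exact (cancel_epi δ.hom).1 (this.trans (Category.comp_id _).symm)

theorem disc_of_repByAlgSp (h : AlgSt.RepByAlgSp Z) : Disc Z := by
  obtain ⟨F, e, he⟩ := h
  exact disc_of_equiv he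

theorem repByAlgSp_iff : AlgSt.RepByAlgSp Z ↔ Disc Z ∧ AlgSp.IsAlgSpaceP (clsPsh Z) := by
  constructor
  · intro h
    refine ⟨disc_of_repByAlgSp h, ?_⟩
    obtain ⟨F, e, he⟩ := h
    haveI := isIso_clsMap he
    exact ((AlgSp.isAlgSpaceP_obj_iff F.obj).2 F.property).of_iso ((clsOfPsh F.obj.obj).symm ≪≫ asIso (clsMap e))
  · rintro ⟨hd, hsh, hA⟩
    obtain ⟨Φ, hΦ, -⟩ := exists_clsEquiv Z
    exact ⟨⟨⟨clsPsh Z, hsh⟩, hA⟩, Φ, hΦ⟩

end Groth.Agent.H9St
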