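import Groth.Agent.Lib.H9StRep
/-! Base change, composition and pasting of functors representable by algebraic spaces. -/

set_option autoImplicit false
set_option linter.style.haveILetI false
set_option linter.unusedVariables false
set_option linter.unusedSectionVars false
set_option backward.isDefEq.respectTransparency.types false

universe u

open CategoryTheory CategoryTheory.Limits AlgebraicGeometry Opposite

noncomputable section

namespace Groth.Agent.H9St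

variable {S : Scheme.{u}}

instance isFibGrpd_fp' {A B D : AlgSt.Cat S} [FibCat.IsFibGrpd A.p] [FibCat.IsFibGrpd B.p] [FibCat.IsFibGrpd D.p]
    (a : A ⥤ᵇ D) (b : B ⥤ᵇ D) : FibCat.IsFibGrpd (FibCat.fp a b).p := H9Fib.isFibGrpd_fp a b

variable {X Y Z W W' : AlgSt.Cat S} [hX : FibCat.IsFibGrpd X.p] [hY : FibCat.IsFibGrpd Y.p]
  [hZ : FibCat.IsFibGrpd Z.p] [hW : FibCat.IsFibGrpd W.p] [hW' : FibCat.IsFibGrpd W'.p]

/-- The projection of a fibre product over a slice to the sheaf of the scheme. -/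
def projU {U : Over S} (y : FibCat.overCat U ⥤ᵇ Y) (f : X ⥤ᵇ Y) :
    clsPsh (FibCat.fp y f) ⟶ (AlgSp.pyon S).obj U :=
  clsMap (FibCat.fpFst y f) ≫ (clsOverCat U).hom

theorem clsMap_equiv_spMap {F : AlgSp.Sp S} {U : Over S} (e : AlgSt.ofSp F ⥤ᵇ Z) (Φ : Z ⥤ᵇ FibCat.overCat U) :
    (AlgSt.spMapOfOver (BasedFunctor.comp e Φ)).hom =
      ((clsOfPsh F.obj).inv ≫ clsMap e) ≫ clsMap Φ ≫ (clsOverCat U).hom := by
  rw [spMapOfOver_eq, clsMap_comp]
  simp only [Category.assoc]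

theorem repByAlgSpWith_iff {P : MorphismProperty (AlgSp.Sp S)} [P.RespectsIso] (f : X ⥤ᵇ Y) :
    AlgSt.RepByAlgSpWith P f ↔ ∀ (U : Over S) (y : FibCat.overCat U ⥤ᵇ Y), Disc (FibCat.fp y f) ∧
      ∃ h : Presheaf.IsSheaf (AlgSp.J S) (clsPsh (FibCat.fp y f)),
        AlgSp.IsAlgSpace (⟨clsPsh (FibCat.fp y f), h⟩ : AlgSp.Sp S) ∧
          P (ObjectProperty.homMk (projU y f) : (⟨clsPsh (FibCat.fp y f), h⟩ : AlgSp.Sp S) ⟶ (AlgSp.yon S).obj U) := by
  constructor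
  · intro hf U y
    obtain ⟨F, e, he, hP⟩ := hf U y
    have hr : AlgSt.RepByAlgSp (FibCat.fp y f) := ⟨F, e, he⟩
    obtain ⟨hd, hsh, hA⟩ := repByAlgSp_iff.1 hr
    refine ⟨hd, hsh, hA, ?_⟩
    haveI := isIso_clsMap he
    let i : F.obj ≅ (⟨clsPsh (FibCat.fp y f), hsh⟩ : AlgSp.Sp S) :=
      (fullyFaithfulSheafToPresheaf (AlgSp.J S) (Type (u + 1))).preimageIso
        (X := F.obj) (Y := (⟨clsPsh (FibCat.fp y f), hsh⟩ : AlgSp.Sp S))
        ((clsOfPsh F.obj.obj).symm ≪≫ asIso (clsMap e))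
    have : AlgSt.spMapOfOver (BasedFunctor.comp e (FibCat.fpFst y f)) = i.hom ≫
        (ObjectProperty.homMk (projU y f) : (⟨clsPsh (FibCat.fp y f), hsh⟩ : AlgSp.Sp S) ⟶ (AlgSp.yon S).obj U) :=
      ObjectProperty.hom_ext _ (clsMap_equiv_spMap e (FibCat.fpFst y f))
    rwa [this, P.cancel_left_of_respectsIso] at hP
  · intro h U y
    obtain ⟨hd, hsh, hA, hP⟩ := h U y
    obtain ⟨Φ, hΦ, hc⟩ := exists_clsEquiv (FibCat.fp y f)
    refine ⟨⟨⟨clsPsh (FibCat.fp y f), hsh⟩, hA⟩, Φ, hΦ, ?_⟩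
    have : AlgSt.spMapOfOver (BasedFunctor.comp Φ (FibCat.fpFst y f)) =
        (ObjectProperty.homMk (projU y f) : (⟨clsPsh (FibCat.fp y f), hsh⟩ : AlgSp.Sp S) ⟶ (AlgSp.yon S).obj U) :=
      ObjectProperty.hom_ext _ ((clsMap_equiv_spMap (F := (⟨clsPsh (FibCat.fp y f), hsh⟩ : AlgSp.Sp S)) Φ
        (FibCat.fpFst y f)).trans (by rw [hc, Iso.inv_hom_id, Category.id_comp]; rfl))
    rwa [this]

theorem repByAlgSp1_iff_with (f : X ⥤ᵇ Y) : AlgSt.RepByAlgSp1 f ↔ AlgSt.RepByAlgSpWith ⊤ f :=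
  ⟨fun h U y => (h U y).elim fun F ⟨e, he⟩ => ⟨F, e, he, trivial⟩,
    fun h U y => (h U y).elim fun F ⟨e, he, _⟩ => ⟨F, e, he⟩⟩

theorem rep1_of_with {P : MorphismProperty (AlgSp.Sp S)} {f : X ⥤ᵇ Y} (h : AlgSt.RepByAlgSpWith P f) :
    AlgSt.RepByAlgSp1 f :=
  fun U y => (h U y).elim fun F ⟨e, he, _⟩ => ⟨F, e, he⟩

/-- Change of the left leg of a fibre product. -/
def bcFun (P : W' ⥤ᵇ W) (y : W ⥤ᵇ Y) (f : X ⥤ᵇ Y) : FibCat.fp (BasedFunctor.comp P y) f ⥤ᵇ FibCat.fp y f :=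
  FibCat.fpLift (BasedFunctor.comp (FibCat.fpFst (BasedFunctor.comp P y) f) P)
    (FibCat.fpSnd (BasedFunctor.comp P y) f) (FibCat.fpIso (BasedFunctor.comp P y) f)

theorem disc_fp_of_faithful [Disc W] (y : W ⥤ᵇ Y) (f : X ⥤ᵇ Y) (hf : f.toFunctor.Faithful) :
    Disc (FibCat.fp y f) := by
  refine ⟨fun {T} w s hs => ?_⟩
  have h1 : s.hom.fst = 𝟙 w.1.obj.fst := Disc.endo ((IsoNat.fibFun (FibCat.fpFst y f) T).obj w) s.hom.fst
    (@BasedFunctor.preserves_isHomLift _ _ _ _ (FibCat.fpFst y f) _ _ _ _ _ s hs)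
  have hw : y.map s.hom.fst ≫ w.1.obj.iso.hom = w.1.obj.iso.hom ≫ f.map s.hom.snd := s.hom.w
  rw [h1, y.map_id, Category.id_comp] at hw
  have h2 : s.hom.snd = 𝟙 w.1.obj.snd := hf.map_injective
    ((cancel_epi w.1.obj.iso.hom).1 (hw.symm.trans ((Category.comp_id _).symm.trans
      (congrArg (w.1.obj.iso.hom ≫ ·) (f.map_id _).symm))))
  exact ObjectProperty.hom_ext _ (CategoricalPullback.hom_ext h1 h2)

theorem faithful_of_rep1 {f : X ⥤ᵇ Y} (h : AlgSt.RepByAlgSp1 f) : f.toFunctor.Faithful :=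
  ⟨fun {a b} α α' e => faithful_of_rep ((repByAlgSp1_iff_with f).1 h) e⟩

/-- Fibre products commute with classes for categories fibred in setoids. -/
theorem isPullback_bc [Disc W] [Disc W'] (P : W' ⥤ᵇ W) (y : W ⥤ᵇ Y) (f : X ⥤ᵇ Y) :
    IsPullback (clsMap (bcFun P y f)) (clsMap (FibCat.fpFst (BasedFunctor.comp P y) f))
      (clsMap (FibCat.fpFst y f)) (clsMap P) := by
  refine IsPullback.of_forall_isPullback_app fun T => ?_
  refine (Types.isPullback_iff _ _ _ _).2 ⟨?_, ?_, ?_⟩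
  · ext c
    induction c using Quotient.ind with
    | _ d => exact cls_congr rfl
  · rintro c c' ⟨h₁, h₂⟩
    obtain ⟨T⟩ := T
    induction c using Quotient.ind with | _ d => ?_
    induction c' using Quotient.ind with | _ d' => ?_
    obtain ⟨e₁⟩ := (cls_eq_iff _ _).1 h₁
    obtain ⟨e₂⟩ := (cls_eq_iff _ _).1 h₂
    let a : d.1.obj.fst ⟶ d'.1.obj.fst := e₂.hom.1
    have ha : W'.p.IsHomLift (𝟙 T) a := e₂.hom.2
    let φ : (bcFun P y f).obj d.1 ⟶ (bcFun P y f).obj d'.1 := e₁.hom.1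
    have hφ : (FibCat.fp y f).p.IsHomLift (𝟙 T) φ := e₁.hom.2
    have hPa : P.map a = φ.hom.fst := eq_vertical (𝟙 T) _ _
      (@BasedFunctor.preserves_isHomLift _ _ _ _ P _ _ _ _ _ a ha)
      (@BasedFunctor.preserves_isHomLift _ _ _ _ (FibCat.fpFst y f) _ _ _ _ _ φ hφ)
    have hw : y.map φ.hom.fst ≫ d'.1.obj.iso.hom = d.1.obj.iso.hom ≫ f.map φ.hom.snd := φ.hom.w
    let m : d.1 ⟶ d'.1 := ObjectProperty.homMk
      { fst := a, snd := φ.hom.snd, w := by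
          show y.map (P.map a) ≫ d'.1.obj.iso.hom = _
          rw [hPa]; exact hw }
    refine cls_of_vertical d d' m ?_
    haveI := ha
    refine IsHomLift.of_fac' _ _ _ d.2 d'.2 ?_
    exact IsHomLift.fac' W'.p (𝟙 T) a
  · intro c c' h
    obtain ⟨T⟩ := T
    induction c using Quotient.ind with | _ w => ?_
    induction c' using Quotient.ind with | _ w' => ?_
    obtain ⟨e⟩ := (cls_eq_iff _ _).1 h
    let ε : w.1.obj.fst ⟶ P.obj w'.1 := e.hom.1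
    have hε : W.p.IsHomLift (𝟙 T) e.inv.1 := e.inv.2
    have hw : W.p.obj w.1.obj.fst = T := w.2
    have hw1 : Y.p.IsHomLift (𝟙 T) w.1.obj.iso.hom := by
      have := w.1.property
      unfold FibCat.fpProp at this
      rwa [hw] at this
    haveI : IsIso e.inv.1 := @H9Fib.isIso_vertical _ _ W _ T _ _ e.inv.1 hε
    have hβ : Y.p.IsHomLift (𝟙 T) (y.map e.inv.1 ≫ w.1.obj.iso.hom) :=
      @IsHomLift.comp_of_lift_id _ _ _ _ _ _ _ _ _ _ _
        (@BasedFunctor.preserves_isHomLift _ _ _ _ y _ _ _ _ _ e.inv.1 hε) hw1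
    let xs : X.p.Fiber T := (IsoNat.fibFun (FibCat.fpSnd y f) T).obj w
    let d : (FibCat.fp (BasedFunctor.comp P y) f).obj :=
      fpMk (W := T) f (BasedFunctor.comp P y) xs w' (y.map e.inv.1 ≫ w.1.obj.iso.hom) hβ
    refine ⟨IsoNat.cls (⟨d, w'.2⟩ : (FibCat.fp (BasedFunctor.comp P y) f).p.Fiber T), ?_, cls_congr rfl⟩
    let m : (bcFun P y f).obj d ⟶ w.1 := ObjectProperty.homMk
      { fst := e.inv.1, snd := 𝟙 _, w := by
          show y.map e.inv.1 ≫ w.1.obj.iso.hom = (y.map e.inv.1 ≫ w.1.obj.iso.hom) ≫ f.map (𝟙 _)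
          exact ((congrArg (_ ≫ ·) (f.map_id _)).trans (Category.comp_id _)).symm }
    refine cls_of_vertical (Z := FibCat.fp y f) ⟨(bcFun P y f).obj d, ((bcFun P y f).w_obj d).trans w'.2⟩ w m ?_
    refine IsHomLift.of_fac' _ _ _ (((bcFun P y f).w_obj d).trans w'.2) w.2 ?_
    haveI := hε
    exact IsHomLift.fac' W.p (𝟙 T) e.inv.1

/-- Fibre products of setoid fibred categories. -/
theorem isPullback_fp [Disc X] [Disc W] [Disc Y] (g : W ⥤ᵇ Y) (f : X ⥤ᵇ Y) :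
    IsPullback (clsMap (FibCat.fpFst g f)) (clsMap (FibCat.fpSnd g f)) (clsMap g) (clsMap f) := by
  refine IsPullback.of_forall_isPullback_app fun T => ?_
  refine (Types.isPullback_iff _ _ _ _).2 ⟨?_, ?_, ?_⟩
  · ext c
    induction c using Quotient.ind with
    | _ d =>
      have key : ∀ {T : Over S} (d : (FibCat.fp g f).p.Fiber T),
          IsoNat.cls ((IsoNat.fibFun g T).obj ((IsoNat.fibFun (FibCat.fpFst g f) T).obj d)) =
            IsoNat.cls ((IsoNat.fibFun f T).obj ((IsoNat.fibFun (FibCat.fpSnd g f) T).obj d)) := by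
        rintro _ ⟨d, rfl⟩
        exact cls_of_vertical _ _ d.obj.iso.hom d.property
      exact key d
  · rintro c c' ⟨h₁, h₂⟩
    obtain ⟨T⟩ := T
    induction c using Quotient.ind with | _ d => ?_
    induction c' using Quotient.ind with | _ d' => ?_
    obtain ⟨e₁⟩ := (cls_eq_iff _ _).1 h₁
    obtain ⟨e₂⟩ := (cls_eq_iff _ _).1 h₂
    have hd : W.p.obj d.1.obj.fst = T := d.2
    have hd' : W.p.obj d'.1.obj.fst = T := d'.2
    have i1 : Y.p.IsHomLift (𝟙 T) d.1.obj.iso.hom := by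
      have := d.1.property
      unfold FibCat.fpProp at this
      rwa [hd] at this
    have i2 : Y.p.IsHomLift (𝟙 T) d'.1.obj.iso.hom := by
      have := d'.1.property
      unfold FibCat.fpProp at this
      rwa [hd'] at this
    let m : d.1 ⟶ d'.1 := ObjectProperty.homMk
      { fst := e₁.hom.1, snd := e₂.hom.1, w := eq_vertical (𝟙 T) _ _
          (@IsHomLift.comp_of_lift_id _ _ _ _ _ _ _ _ _ _ _
            (@BasedFunctor.preserves_isHomLift _ _ _ _ g _ _ _ _ _ e₁.hom.1 e₁.hom.2) i2)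
          (@IsHomLift.comp_of_lift_id _ _ _ _ _ _ _ _ _ _ _ i1
            (@BasedFunctor.preserves_isHomLift _ _ _ _ f _ _ _ _ _ e₂.hom.1 e₂.hom.2)) }
    refine cls_of_vertical d d' m ?_
    refine IsHomLift.of_fac' _ _ _ d.2 d'.2 ?_
    exact @IsHomLift.fac' _ _ _ _ W.p _ _ _ _ (𝟙 T) e₁.hom.1 e₁.hom.2
  · intro c c' h
    obtain ⟨T⟩ := T
    induction c using Quotient.ind with | _ w => ?_
    induction c' using Quotient.ind with | _ x => ?_
    obtain ⟨e⟩ := (cls_eq_iff _ _).1 h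
    exact ⟨IsoNat.cls (⟨fpMk f g x w e.hom.1 e.hom.2, w.2⟩ : (FibCat.fp g f).p.Fiber T), cls_congr rfl, cls_congr rfl⟩

theorem exists_yFun {U : Over S} (ξ : (AlgSp.pyon S).obj U ⟶ clsPsh W) :
    ∃ z : FibCat.overCat U ⥤ᵇ W, clsMap z = (clsOverCat U).hom ≫ ξ := by
  obtain ⟨z, hz⟩ := Quotient.exists_rep (ξ.app (op U) ⟨𝟙 U⟩)
  refine ⟨yFun z, ?_⟩
  ext T c
  induction c using Quotient.ind with | _ a => ?_
  have key : ∀ {T : Over S} (a : (FibCat.overCat U).p.Fiber T),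
      IsoNat.cls ((IsoNat.fibFun (yFun z) T).obj a) = ξ.app (op T) (ovAt U a) := by
   rintro _ ⟨a, rfl⟩
   have h2 := NatTrans.naturality_apply ξ a.hom.op (⟨𝟙 U⟩ : ((AlgSp.pyon S).obj U).obj (op U))
   show IsoNat.cls ((IsoNat.fibFun (yFun z) _).obj ⟨a, rfl⟩) =
     ξ.app (op a.left) (ovAt U (⟨a, rfl⟩ : (FibCat.overCat U).p.Fiber a.left))
   rw [show ovAt U (⟨a, rfl⟩ : (FibCat.overCat U).p.Fiber a.left) =
     ((AlgSp.pyon S).obj U).map a.hom.op (⟨𝟙 U⟩ : ((AlgSp.pyon S).obj U).obj (op U)) from congrArg ULift.up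
       ((Category.id_comp a.hom).trans (Category.comp_id a.hom).symm)]
   refine Eq.trans ?_ h2.symm
   rw [← hz]
   exact cls_congr rfl
  exact key a

theorem repBySpWith_of_rep {P : MorphismProperty (AlgSp.Sp S)} [P.RespectsIso] {f : X ⥤ᵇ Y}
    (hf : AlgSt.RepByAlgSpWith P f) [Disc W] (y : W ⥤ᵇ Y) : AlgSp.RepBySpWith P (clsMap (FibCat.fpFst y f)) := by
  intro U ξ F' fst snd sq
  obtain ⟨z, hz⟩ := exists_yFun ξ
  obtain ⟨hd, hsh, hA, hP⟩ := (repByAlgSpWith_iff f).1 hf U (BasedFunctor.comp z y)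
  have sq0 := isPullback_bc z y f
  have sq1 : IsPullback (clsMap (bcFun z y f)) (projU (BasedFunctor.comp z y) f) (clsMap (FibCat.fpFst y f)) ξ :=
    sq0.of_iso (Iso.refl _) (Iso.refl _) (clsOverCat U) (Iso.refl _) (by simp) (by simp [projU]) (by simp)
      (by simp [hz])
  let i : clsPsh (FibCat.fp (BasedFunctor.comp z y) f) ≅ F' := sq1.isoIsPullback _ _ sq
  have hF' : Presheaf.IsSheaf (AlgSp.J S) F' := (Presheaf.isSheaf_of_iso_iff i).1 hsh
  let i' : (⟨clsPsh (FibCat.fp (BasedFunctor.comp z y) f), hsh⟩ : AlgSp.Sp S) ≅ ⟨F', hF'⟩ :=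
    (fullyFaithfulSheafToPresheaf (AlgSp.J S) (Type (u + 1))).preimageIso
      (X := (⟨clsPsh (FibCat.fp (BasedFunctor.comp z y) f), hsh⟩ : AlgSp.Sp S))
      (Y := (⟨F', hF'⟩ : AlgSp.Sp S)) i
  refine ⟨hF', hA.of_iso i', ?_⟩
  have : (ObjectProperty.homMk (projU (BasedFunctor.comp z y) f) :
      (⟨clsPsh (FibCat.fp (BasedFunctor.comp z y) f), hsh⟩ : AlgSp.Sp S) ⟶ (AlgSp.yon S).obj U) =
      i'.hom ≫ ObjectProperty.homMk snd := ObjectProperty.hom_ext _ (sq1.isoIsPullback_hom_snd _ _ sq).symm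
  rw [this, P.cancel_left_of_respectsIso] at hP
  exact hP

theorem repByAlgSp_fp {f : X ⥤ᵇ Y} (hf : AlgSt.RepByAlgSp1 f) (hr : AlgSt.RepByAlgSp W) (y : W ⥤ᵇ Y) :
    AlgSt.RepByAlgSp (FibCat.fp y f) := by
  obtain ⟨hd, hsh, hA⟩ := repByAlgSp_iff.1 hr
  refine repByAlgSp_iff.2 ⟨disc_fp_of_faithful y f (faithful_of_rep1 hf), ?_⟩
  exact ASp.isAlgSpaceP_of_repBySp (X := (⟨clsPsh W, hsh⟩ : AlgSp.Sp S)) hA
    (repBySpWith_of_rep (P := ⊤) ((repByAlgSp1_iff_with f).1 hf) y).repBySp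

theorem repByAlgSp1_of_repByAlgSp (h1 : AlgSt.RepByAlgSp X) (h2 : AlgSt.RepByAlgSp Y) (f : X ⥤ᵇ Y) :
    AlgSt.RepByAlgSp1 f := by
  intro U y
  obtain ⟨dX, sX, aX⟩ := repByAlgSp_iff.1 h1
  obtain ⟨dY, sY, aY⟩ := repByAlgSp_iff.1 h2
  have hff : f.toFunctor.Faithful := ⟨fun {a b} φ ψ e => eq_of_base φ ψ (by
    have h := congrArg Y.p.map e
    have h1 := Functor.congr_hom f.w φ
    have h2 := Functor.congr_hom f.w ψ
    simp only [Functor.comp_map] at h1 h2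
    rw [h1, h2] at h
    exact eqToHom_cancel _ _ h)⟩
  refine repByAlgSp_iff.2 ⟨disc_fp_of_faithful y f hff, ?_⟩
  let AX : AlgSp.Sp S := ⟨clsPsh X, sX⟩
  let AY : AlgSp.Sp S := ⟨clsPsh Y, sY⟩
  let a : AX ⟶ AY := ObjectProperty.homMk (clsMap f)
  let b : (AlgSp.yon S).obj U ⟶ AY := ObjectProperty.homMk ((clsOverCat U).inv ≫ clsMap y)
  have sqS := (IsPullback.of_hasPullback a b).map (ASp.toP S)
  have sq0 : IsPullback (clsMap (FibCat.fpSnd y f)) (projU y f) (clsMap f) ((clsOverCat U).inv ≫ clsMap y) :=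
    (isPullback_fp y f).flip.of_iso (Iso.refl _) (Iso.refl _) (clsOverCat U) (Iso.refl _) (by simp) (by simp [projU])
      (by simp) (by simp)
  exact ((AlgSp.isAlgSpaceP_obj_iff _).2 (ASp.isAlgSpace_pullback a b aX ((AlgSp.IsAlgSpace.yon_obj U)) aY)).of_iso
    (sqS.isoIsPullback _ _ sq0)

end Groth.Agent.H9St

namespace Groth.Agent.H9St

variable {S : Scheme.{u}} {X Y Z W : AlgSt.Cat S} [hX : FibCat.IsFibGrpd X.p] [hY : FibCat.IsFibGrpd Y.p]
  [hZ : FibCat.IsFibGrpd Z.p] [hW : FibCat.IsFibGrpd W.p]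

theorem swap_sq {C : Type*} [Category C] {A B A' B' : C} (e₁ : A ≅ B) (e₂ : A' ≅ B') (f₁ : B ⟶ B') (g₁ : A ⟶ A')
    (h : f₁ ≫ e₂.inv = e₁.inv ≫ g₁) : g₁ ≫ e₂.hom = e₁.hom ≫ f₁ := by
  rw [Iso.comp_inv_eq, Category.assoc] at h
  rw [h, Iso.hom_inv_id_assoc]

theorem paste_sq {C D : Type*} [Category C] [Category D] (G : C ⥤ D) {A B A' B' : C} (e₁ : A ≅ B) (e₂ : A' ≅ B')
    (h : A ⟶ A') {P P' : D} {u : G.obj B ⟶ P} {u' : G.obj B' ⟶ P'} {v : P ⟶ P'}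
    (w : G.map h ≫ G.map e₂.hom ≫ u' = (G.map e₁.hom ≫ u) ≫ v) :
    G.map (e₁.inv ≫ h ≫ e₂.hom) ≫ u' = u ≫ v := by
  simp only [Functor.map_comp, Category.assoc]
  rw [w]
  simp only [Category.assoc]
  rw [← G.map_comp_assoc, Iso.inv_hom_id, G.map_id, Category.id_comp]

theorem comp_sq {C D : Type*} [Category C] [Category D] (G : C ⥤ D) {A B A' B' : C} (e₁ : A ≅ B) (e₂ : A' ≅ B')
    (h : B ⟶ B') {P P' : D} {u : P ⟶ G.obj A} {u' : P' ⟶ G.obj A'} {v : P ⟶ P'}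
    (w : v ≫ u' ≫ G.map e₂.hom = (u ≫ G.map e₁.hom) ≫ G.map h) :
    v ≫ u' = u ≫ G.map (e₁.hom ≫ h ≫ e₂.inv) := by
  rw [← cancel_mono (G.map e₂.hom), Category.assoc, w]
  simp only [G.map_comp, Category.assoc]
  rw [← G.map_comp e₂.inv, Iso.inv_hom_id, G.map_id, Category.comp_id]

/-- Swapping the factors. -/
def swapFun (g : W ⥤ᵇ Y) (f : X ⥤ᵇ Y) : FibCat.fp g f ⥤ᵇ FibCat.fp f g :=
  FibCat.fpLift (FibCat.fpSnd g f) (FibCat.fpFst g f) (FibCat.fpIso g f).symm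

theorem repByAlgSp_congr {A B : AlgSt.Cat S} {e : A ⥤ᵇ B} (he : FibCat.IsEquivOver e) :
    AlgSt.RepByAlgSp A → AlgSt.RepByAlgSp B :=
  fun ⟨F, i, hi⟩ => ⟨F, BasedFunctor.comp i e, H9Fib.isEquivOver_trans hi he⟩

theorem isEquivOver_symm {A B : AlgSt.Cat S} {e : A ⥤ᵇ B} (he : FibCat.IsEquivOver e) :
    ∃ e' : B ⥤ᵇ A, FibCat.IsEquivOver e' := by
  obtain ⟨G, h1, h2⟩ := he
  exact ⟨G, e, h2, h1⟩

omit hX hW in
theorem iso_vertical (g : W ⥤ᵇ Y) (f : X ⥤ᵇ Y) (w : (FibCat.fp g f).obj) {T : Over S} (h : W.p.obj w.obj.fst = T) :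
    Y.p.IsHomLift (𝟙 T) w.obj.iso.hom := by
  subst h; exact w.property

omit hX hW hY in
theorem snd_base (g : W ⥤ᵇ Y) (f : X ⥤ᵇ Y) (w : (FibCat.fp g f).obj) : X.p.obj w.obj.snd = W.p.obj w.obj.fst :=
  (f.w_obj _).symm.trans (@IsHomLift.codomain_eq _ _ _ _ Y.p _ _ _ _ (𝟙 _) w.obj.iso.hom w.property)

omit hX hW in
theorem isEquivOver_swap (g : W ⥤ᵇ Y) (f : X ⥤ᵇ Y) : FibCat.IsEquivOver (swapFun g f) := by
  refine H9Fib.isEquivOver_of _ ⟨fun {a b} k => ?_⟩ ⟨fun {a b} {k l} e => ?_⟩ fun η => ?_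
  · have hw : f.map k.hom.fst ≫ b.obj.iso.inv = a.obj.iso.inv ≫ g.map k.hom.snd := k.hom.w
    refine ⟨ObjectProperty.homMk { fst := k.hom.snd, snd := k.hom.fst, w := ?_ }, ?_⟩
    · exact swap_sq a.obj.iso b.obj.iso _ _ hw
    · exact ObjectProperty.hom_ext _ (CategoricalPullback.hom_ext rfl rfl)
  · exact ObjectProperty.hom_ext _ (CategoricalPullback.hom_ext (congrArg (fun q => q.hom.snd) e)
      (congrArg (fun q => q.hom.fst) e))
  · let T : Over S := X.p.obj η.obj.fst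
    have hb : W.p.obj η.obj.snd = T := snd_base f g η
    haveI hi : Y.p.IsHomLift (𝟙 T) η.obj.iso.hom := η.property
    have hinv : Y.p.IsHomLift (𝟙 T) η.obj.iso.inv := IsHomLift.lift_id_inv _ _ _
    let ξ : (FibCat.fp g f).obj :=
      ⟨{ fst := η.obj.snd, snd := η.obj.fst, iso := η.obj.iso.symm }, by
        show Y.p.IsHomLift (𝟙 (W.p.obj η.obj.snd)) η.obj.iso.inv
        rw [hb]; exact hinv⟩
    refine ⟨ξ, ObjectProperty.isoMk _ (CategoricalPullback.mkIso (Iso.refl _) (Iso.refl _) ?_), ?_⟩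
    · show f.map (𝟙 _) ≫ η.obj.iso.hom = η.obj.iso.symm.symm.hom ≫ g.map (𝟙 _)
      exact (congrArg (· ≫ η.obj.iso.hom) (f.map_id _)).trans ((Category.id_comp _).trans
        ((Category.comp_id _).symm.trans (congrArg (_ ≫ ·) (g.map_id _).symm)))
    · refine IsHomLift.of_fac' _ _ _ rfl rfl ?_
      show X.p.map (𝟙 _) = _
      simp; rfl

/-- Pasting. -/
def pasteFun (h : W ⥤ᵇ Z) (g : Z ⥤ᵇ Y) (f : X ⥤ᵇ Y) :
    FibCat.fp h (FibCat.fpFst g f) ⥤ᵇ FibCat.fp (BasedFunctor.comp h g) f :=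
  FibCat.fpLift (FibCat.fpFst h (FibCat.fpFst g f))
    (BasedFunctor.comp (FibCat.fpSnd h (FibCat.fpFst g f)) (FibCat.fpSnd g f))
    (H9Fib.wRight (FibCat.fpIso h (FibCat.fpFst g f)) g ≪≫
      H9Fib.wLeft (FibCat.fpSnd h (FibCat.fpFst g f)) (FibCat.fpIso g f))

omit hX hW hY hZ in
theorem isEquivOver_paste (h : W ⥤ᵇ Z) (g : Z ⥤ᵇ Y) (f : X ⥤ᵇ Y) : FibCat.IsEquivOver (pasteFun h g f) := by
  refine H9Fib.isEquivOver_of _ ⟨fun {a b} k => ?_⟩ ⟨fun {a b} {k l} e => ?_⟩ fun η => ?_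
  · let wa : (FibCat.fp g f).obj := a.obj.snd
    let wb : (FibCat.fp g f).obj := b.obj.snd
    let c : wa.obj.fst ⟶ wb.obj.fst := a.obj.iso.inv ≫ h.map k.hom.fst ≫ b.obj.iso.hom
    have hw : g.map (h.map k.hom.fst) ≫ g.map b.obj.iso.hom ≫ wb.obj.iso.hom =
        (g.map a.obj.iso.hom ≫ wa.obj.iso.hom) ≫ f.map k.hom.snd := k.hom.w
    have hc : g.map c ≫ wb.obj.iso.hom = wa.obj.iso.hom ≫ f.map k.hom.snd :=
      paste_sq g.toFunctor a.obj.iso b.obj.iso _ hw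
    let m : wa ⟶ wb := ObjectProperty.homMk { fst := c, snd := k.hom.snd, w := hc }
    refine ⟨ObjectProperty.homMk { fst := k.hom.fst, snd := m, w := ?_ }, ?_⟩
    · show h.map k.hom.fst ≫ b.obj.iso.hom = a.obj.iso.hom ≫ c
      exact (a.obj.iso.hom_inv_id_assoc _).symm
    · exact ObjectProperty.hom_ext _ (CategoricalPullback.hom_ext rfl rfl)
  · have e1 : k.hom.fst = l.hom.fst := congrArg (fun q => q.hom.fst) e
    have e2 : k.hom.snd.hom.snd = l.hom.snd.hom.snd := congrArg (fun q => q.hom.snd) e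
    have e3 : k.hom.snd.hom.fst = l.hom.snd.hom.fst := by
      have hk : h.map k.hom.fst ≫ b.obj.iso.hom = a.obj.iso.hom ≫ k.hom.snd.hom.fst := k.hom.w
      have hl : h.map l.hom.fst ≫ b.obj.iso.hom = a.obj.iso.hom ≫ l.hom.snd.hom.fst := l.hom.w
      rw [e1] at hk
      exact (cancel_epi _).1 (hk.symm.trans hl)
    exact ObjectProperty.hom_ext _ (CategoricalPullback.hom_ext e1
      (ObjectProperty.hom_ext _ (CategoricalPullback.hom_ext e3 e2)))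
  · let T : Over S := W.p.obj η.obj.fst
    let z0 : (FibCat.fp g f).obj :=
      ⟨{ fst := h.obj η.obj.fst, snd := η.obj.snd, iso := η.obj.iso }, by
        show Y.p.IsHomLift (𝟙 (Z.p.obj (h.obj η.obj.fst))) η.obj.iso.hom
        rw [h.w_obj]; exact η.property⟩
    let ξ : (FibCat.fp h (FibCat.fpFst g f)).obj :=
      ⟨{ fst := η.obj.fst, snd := z0, iso := Iso.refl _ }, IsHomLift.id (h.w_obj _)⟩
    refine ⟨ξ, ObjectProperty.isoMk _ (CategoricalPullback.mkIso (Iso.refl _) (Iso.refl _) ?_), ?_⟩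
    · show g.map (h.map (𝟙 _)) ≫ η.obj.iso.hom = (g.map (𝟙 _) ≫ η.obj.iso.hom) ≫ f.map (𝟙 _)
      erw [h.map_id, g.map_id, f.map_id, Category.comp_id]
    · refine IsHomLift.of_fac' _ _ _ rfl rfl ?_
      show W.p.map (𝟙 _) = _
      simp; rfl

theorem spMapOfOver_congr {F : AlgSp.Sp S} {U : Over S} {Φ Ψ : AlgSt.ofSp F ⥤ᵇ FibCat.overCat U} (h : Φ = Ψ) :
    AlgSt.spMapOfOver Φ = AlgSt.spMapOfOver Ψ := h ▸ rfl

omit hX hW hY hZ in
theorem repByAlgSpWith_fpFst {P : MorphismProperty (AlgSp.Sp S)} (f : X ⥤ᵇ Y) (g : Z ⥤ᵇ Y)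
    (hf : AlgSt.RepByAlgSpWith P f) : AlgSt.RepByAlgSpWith P (FibCat.fpFst g f) := by
  intro U h
  obtain ⟨G, ⟨a⟩, ⟨b⟩⟩ := isEquivOver_paste h g f
  obtain ⟨F, e, he, hP⟩ := hf U (BasedFunctor.comp h g)
  let e' : AlgSt.ofSp F.obj ⥤ᵇ FibCat.fp h (FibCat.fpFst g f) := BasedFunctor.comp e G
  refine ⟨F, e', H9Fib.isEquivOver_trans he ⟨pasteFun h g f, ⟨b⟩, ⟨a⟩⟩, ?_⟩
  -- the composite with the first projection agrees with the old one up to a vertical isomorphism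
  have i : BasedFunctor.comp e (FibCat.fpFst (BasedFunctor.comp h g) f) ≅
      BasedFunctor.comp e' (FibCat.fpFst h (FibCat.fpFst g f)) :=
    (H9Fib.wLeft e (H9Fib.wRight b (FibCat.fpFst (BasedFunctor.comp h g) f))).symm
  haveI : FibCat.IsFibGrpd (AlgSt.ofSp F.obj).p := isFibGrpd_ofPsh F.obj.obj
  have : AlgSt.spMapOfOver (BasedFunctor.comp e' (FibCat.fpFst h (FibCat.fpFst g f))) =
      AlgSt.spMapOfOver (BasedFunctor.comp e (FibCat.fpFst (BasedFunctor.comp h g) f)) :=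
    ObjectProperty.hom_ext _ (by rw [spMapOfOver_eq, spMapOfOver_eq, clsMap_congr i])
  rwa [this]

/-- A composite fibre product. -/
def compFun (y : W ⥤ᵇ Z) (f : X ⥤ᵇ Y) (g : Y ⥤ᵇ Z) :
    FibCat.fp (FibCat.fpSnd y g) f ⥤ᵇ FibCat.fp y (BasedFunctor.comp f g) :=
  FibCat.fpLift (BasedFunctor.comp (FibCat.fpFst (FibCat.fpSnd y g) f) (FibCat.fpFst y g))
    (FibCat.fpSnd (FibCat.fpSnd y g) f)
    (H9Fib.wLeft (FibCat.fpFst (FibCat.fpSnd y g) f) (FibCat.fpIso y g) ≪≫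
      H9Fib.wRight (FibCat.fpIso (FibCat.fpSnd y g) f) g)

omit hX hW hY hZ in
theorem isEquivOver_compFun (y : W ⥤ᵇ Z) (f : X ⥤ᵇ Y) (g : Y ⥤ᵇ Z) : FibCat.IsEquivOver (compFun y f g) := by
  refine H9Fib.isEquivOver_of _ ⟨fun {a b} k => ?_⟩ ⟨fun {a b} {k l} e => ?_⟩ fun η => ?_
  · let wa : (FibCat.fp y g).obj := a.obj.fst
    let wb : (FibCat.fp y g).obj := b.obj.fst
    let c : wa.obj.snd ⟶ wb.obj.snd := a.obj.iso.hom ≫ f.map k.hom.snd ≫ b.obj.iso.inv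
    have hw : y.map k.hom.fst ≫ wb.obj.iso.hom ≫ g.map b.obj.iso.hom =
        (wa.obj.iso.hom ≫ g.map a.obj.iso.hom) ≫ g.map (f.map k.hom.snd) := k.hom.w
    have hc : y.map k.hom.fst ≫ wb.obj.iso.hom = wa.obj.iso.hom ≫ g.map c :=
      comp_sq g.toFunctor a.obj.iso b.obj.iso _ hw
    let m : wa ⟶ wb := ObjectProperty.homMk { fst := k.hom.fst, snd := c, w := hc }
    refine ⟨ObjectProperty.homMk { fst := m, snd := k.hom.snd, w := ?_ }, ?_⟩
    · show c ≫ b.obj.iso.hom = a.obj.iso.hom ≫ f.map k.hom.snd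
      exact (Category.assoc _ _ _).trans (congrArg (_ ≫ ·) ((Category.assoc _ _ _).trans
        ((congrArg (_ ≫ ·) b.obj.iso.inv_hom_id).trans (Category.comp_id _))))
    · exact ObjectProperty.hom_ext _ (CategoricalPullback.hom_ext rfl rfl)
  · have e1 : k.hom.snd = l.hom.snd := congrArg (fun q => q.hom.snd) e
    have e2 : k.hom.fst.hom.fst = l.hom.fst.hom.fst := congrArg (fun q => q.hom.fst) e
    have e3 : k.hom.fst.hom.snd = l.hom.fst.hom.snd := by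
      have hk : k.hom.fst.hom.snd ≫ b.obj.iso.hom = a.obj.iso.hom ≫ f.map k.hom.snd := k.hom.w
      have hl : l.hom.fst.hom.snd ≫ b.obj.iso.hom = a.obj.iso.hom ≫ f.map l.hom.snd := l.hom.w
      rw [e1] at hk
      exact (cancel_mono _).1 (hk.trans hl.symm)
    exact ObjectProperty.hom_ext _ (CategoricalPullback.hom_ext
      (ObjectProperty.hom_ext _ (CategoricalPullback.hom_ext e2 e3)) e1)
  · let z0 : (FibCat.fp y g).obj :=
      ⟨{ fst := η.obj.fst, snd := f.obj η.obj.snd, iso := η.obj.iso }, η.property⟩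
    let ξ : (FibCat.fp (FibCat.fpSnd y g) f).obj :=
      ⟨{ fst := z0, snd := η.obj.snd, iso := Iso.refl _ },
        IsHomLift.id ((f.w_obj _).trans (snd_base y (BasedFunctor.comp f g) η))⟩
    refine ⟨ξ, ObjectProperty.isoMk _ (CategoricalPullback.mkIso (Iso.refl _) (Iso.refl _) ?_), ?_⟩
    · show y.map (𝟙 _) ≫ η.obj.iso.hom = (η.obj.iso.hom ≫ g.map (𝟙 _)) ≫ g.map (f.map (𝟙 _))
      erw [f.map_id, g.map_id, y.map_id, Category.comp_id, Category.comp_id, Category.id_comp]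
    · refine IsHomLift.of_fac' _ _ _ rfl rfl ?_
      show W.p.map (𝟙 _) = _
      simp; rfl

/-- Composition, with the condition on the representing morphisms. -/
theorem repByAlgSpWith_comp {P Q R : MorphismProperty (AlgSp.Sp S)} [P.RespectsIso] [Q.RespectsIso] [R.RespectsIso]
    (hstep : ∀ (A B : AlgSp.Sp S) (U : Over S) (m : A ⟶ B) (n : B ⟶ (AlgSp.yon S).obj U), AlgSp.IsAlgSpace A →
      AlgSp.IsAlgSpace B → AlgSp.RepBySpWith P m.hom → Q n → R (m ≫ n))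
    (f : X ⥤ᵇ Y) (g : Y ⥤ᵇ Z) (hf : AlgSt.RepByAlgSpWith P f) (hg : AlgSt.RepByAlgSpWith Q g) :
    AlgSt.RepByAlgSpWith R (BasedFunctor.comp f g) := by
  refine (repByAlgSpWith_iff _).2 fun U y => ?_
  obtain ⟨hd, hsh, hA, hQ⟩ := (repByAlgSpWith_iff g).1 hg U y
  haveI h1 : FibCat.IsFibGrpd (FibCat.fp y g).p := isFibGrpd_fp' y g
  haveI h2 : FibCat.IsFibGrpd (FibCat.fp (FibCat.fpSnd y g) f).p := @H9Fib.isFibGrpd_fp _ _ _ _ _ h1 hX hY (FibCat.fpSnd y g) f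
  have hπ := repBySpWith_of_rep hf (FibCat.fpSnd y g)
  have heq := isEquivOver_compFun y f g
  have hr : AlgSt.RepByAlgSp (FibCat.fp y (BasedFunctor.comp f g)) :=
    repByAlgSp_congr heq (repByAlgSp_fp (rep1_of_with hf)
      (repByAlgSp_iff.2 ⟨hd, hsh, hA⟩) (FibCat.fpSnd y g))
  obtain ⟨hd3, hsh3, hA3⟩ := repByAlgSp_iff.1 hr
  obtain ⟨hd2, hsh2, hA2⟩ := repByAlgSp_iff.1 (repByAlgSp_fp (rep1_of_with hf)
      (repByAlgSp_iff.2 ⟨hd, hsh, hA⟩) (FibCat.fpSnd y g))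
  refine ⟨hd3, hsh3, hA3, ?_⟩
  let A : AlgSp.Sp S := ⟨clsPsh (FibCat.fp (FibCat.fpSnd y g) f), hsh2⟩
  let B : AlgSp.Sp S := ⟨clsPsh (FibCat.fp y g), hsh⟩
  let m : A ⟶ B := ObjectProperty.homMk (clsMap (FibCat.fpFst (FibCat.fpSnd y g) f))
  have hR := hstep A B U m (ObjectProperty.homMk (projU y g)) hA2 hA hπ hQ
  haveI := isIso_clsMap heq
  let i : A ≅ (⟨clsPsh (FibCat.fp y (BasedFunctor.comp f g)), hsh3⟩ : AlgSp.Sp S) :=
    (fullyFaithfulSheafToPresheaf (AlgSp.J S) (Type (u + 1))).preimageIso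
      (X := A) (Y := (⟨clsPsh (FibCat.fp y (BasedFunctor.comp f g)), hsh3⟩ : AlgSp.Sp S)) (asIso (clsMap (compFun y f g)))
  have e : m ≫ ObjectProperty.homMk (projU y g) = i.hom ≫
      (ObjectProperty.homMk (projU y (BasedFunctor.comp f g)) :
        (⟨clsPsh (FibCat.fp y (BasedFunctor.comp f g)), hsh3⟩ : AlgSp.Sp S) ⟶ (AlgSp.yon S).obj U) := by
    refine ObjectProperty.hom_ext _ ?_
    show clsMap _ ≫ clsMap _ ≫ _ = clsMap (compFun y f g) ≫ clsMap _ ≫ _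
    rw [← Category.assoc, ← clsMap_comp, ← Category.assoc (clsMap (compFun y f g)), ← clsMap_comp]
    rfl
  rwa [e, R.cancel_left_of_respectsIso] at hR

end Groth.Agent.H9St

namespace Groth.Agent.H9St

variable {S : Scheme.{u}}

theorem exists_pullback_prop {Q : MorphismProperty (AlgSp.Sp S)} {A B : AlgSp.Sp S} {m : A ⟶ B}
    (h : AlgSp.RepBySpWith Q m.hom) {U : Over S} (g : (AlgSp.yon S).obj U ⟶ B) :
    ∃ (F : AlgSp.Sp S) (fst : F ⟶ A) (snd : F ⟶ (AlgSp.yon S).obj U), IsPullback fst snd m g ∧ Q snd := by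
  have sq := IsPullback.of_hasPullback m g
  obtain ⟨_, -, hQ⟩ := h g.hom (pullback.fst m g).hom (pullback.snd m g).hom (sq.map (ASp.toP S))
  exact ⟨_, _, _, sq, hQ⟩

theorem repWith_of_repBySpWith {T : MorphismProperty Scheme.{u}} [T.RespectsIso] {A B : AlgSp.Sp S} {m : A ⟶ B}
    (h : AlgSp.RepBySpWith (AlgSp.RepWith T) m.hom) : AlgSp.RepWith T m := by
  refine ASp.repWith_of_exists fun U g => ?_
  obtain ⟨F, fst, snd, sq, hQ⟩ := exists_pullback_prop h g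
  obtain ⟨V, fst', snd', sq', hT⟩ := ASp.exists_sq_prop hQ (𝟙 ((AlgSp.yon S).obj U))
  refine ⟨V, fst' ≫ fst, snd', ?_, hT⟩
  have := sq'.paste_horiz sq
  rwa [Category.id_comp] at this

theorem mono_of_repBySpWith {A B : AlgSp.Sp S} {m : A ⟶ B}
    (h : AlgSp.RepBySpWith (MorphismProperty.monomorphisms (AlgSp.Sp S)) m.hom) : Mono m := by
  refine ASp.mono_of_forall fun T a b e => ?_
  obtain ⟨F, fst, snd, sq, hQ⟩ := exists_pullback_prop h (a ≫ m)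
  haveI : Mono snd := hQ
  have ha := sq.lift_fst a (𝟙 _) (by rw [Category.id_comp])
  have hb := sq.lift_fst b (𝟙 _) (by rw [Category.id_comp, e])
  rw [← ha, ← hb]
  congr 1
  rw [← cancel_mono snd, sq.lift_snd, sq.lift_snd]

theorem repByAlgSpWith_comp_repWith {T : MorphismProperty Scheme.{u}} [T.RespectsIso] [T.IsStableUnderComposition]
    [(AlgSp.RepWith (S := S) T).RespectsIso]
    {X Y Z : AlgSt.Cat S} [FibCat.IsFibGrpd X.p] [FibCat.IsFibGrpd Y.p] [FibCat.IsFibGrpd Z.p]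
    (f : X ⥤ᵇ Y) (g : Y ⥤ᵇ Z) (hf : AlgSt.RepByAlgSpWith (AlgSp.RepWith T) f)
    (hg : AlgSt.RepByAlgSpWith (AlgSp.RepWith T) g) :
    AlgSt.RepByAlgSpWith (AlgSp.RepWith T) (BasedFunctor.comp f g) :=
  repByAlgSpWith_comp (fun A B U m n _ _ hm hn => ASp.repWith_comp (repWith_of_repBySpWith hm) hn) f g hf hg

theorem repByAlgSpWith_comp_mono {X Y Z : AlgSt.Cat S} [FibCat.IsFibGrpd X.p] [FibCat.IsFibGrpd Y.p]
    [FibCat.IsFibGrpd Z.p] (f : X ⥤ᵇ Y) (g : Y ⥤ᵇ Z) (hf : AlgSt.IsMono f) (hg : AlgSt.IsMono g) :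
    AlgSt.IsMono (BasedFunctor.comp f g) := by
  haveI := MorphismProperty.RespectsIso.monomorphisms (AlgSp.Sp S)
  exact repByAlgSpWith_comp (fun A B U m n _ _ hm hn => by
    haveI := mono_of_repBySpWith hm
    haveI : Mono n := hn
    exact (inferInstanceAs (Mono (m ≫ n)))) f g hf hg

end Groth.Agent.H9St
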