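import Groth.Agent.Lib.H9StLocDesc
import Groth.Agent.Lib.H8GrpFlat
/-! Descent of flatness along covers of the source of a morphism of stacks. -/

set_option autoImplicit false
set_option linter.style.haveILetI false
set_option linter.unusedVariables false
set_option linter.unusedSectionVars false
set_option backward.isDefEq.respectTransparency.types false

universe u

open CategoryTheory CategoryTheory.Limits AlgebraicGeometry

noncomputable section

namespace Groth.Agent.H9St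

open H9Diag

variable {S : Scheme.{u}} {X Y Z : AlgSt.Cat S}

theorem surjective_left_of_chart [FibCat.IsFibGrpd X.p] [FibCat.IsFibGrpd Y.p] {U V : Over S} (f : X ⥤ᵇ Y)
    (y : FibCat.overCat V ⥤ᵇ Y) (t : FibCat.overCat U ⥤ᵇ FibCat.fp f y)
    (hts : AlgSt.RepByAlgSpWith AlgSp.IsSurjectiveMor t) (h : U ⟶ V)
    (j : BasedFunctor.comp t (FibCat.fpSnd f y) ≅ AlgSt.overMap h) (hfs : AlgSt.IsSurjective f) :
    Surjective h.left := by
  haveI : FibCat.IsFibGrpd (FibCat.overCat U).p := isFibGrpd_overCat U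
  haveI : FibCat.IsFibGrpd (FibCat.overCat V).p := isFibGrpd_overCat V
  haveI : FibCat.IsFibGrpd (FibCat.fp f y).p := H9Fib.isFibGrpd_fp _ _
  refine ⟨fun v => ?_⟩
  obtain ⟨p, hp⟩ := hfs (AlgSt.Points.map y (AlgSt.Points.mk (ptAt v)))
  obtain ⟨q, -, hq⟩ := exists_fp_point y f p (AlgSt.Points.mk (ptAt v)) hp
  obtain ⟨u₁, rfl⟩ := isSurjective_of_rep hts q
  obtain ⟨u, rfl⟩ := (uPts U).surjective u₁
  refine ⟨u, (uPts V).injective ?_⟩
  show AlgSt.Points.mk (ptAt (h.left u)) = AlgSt.Points.mk (ptAt v)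
  refine Eq.trans ?_ hq
  rw [points_map_comp, points_map_iso j]
  show _ = AlgSt.Points.map (AlgSt.overMap h) (AlgSt.Points.mk (ptAt u))
  rw [← ofChart_eq_map]
  exact ((ofChart_overMap_comp h (BasedFunctor.id _) u).trans (by rw [ofChart_eq_map, points_map_id])).symm

theorem exists_square_over' (hX : AlgSt.IsAlgStack Scheme.fppfPrecoverage X)
    (hY : AlgSt.IsAlgStack Scheme.fppfPrecoverage Y) (f : X ⥤ᵇ Y) {V : Over S} (y : FibCat.overCat V ⥤ᵇ Y)
    (hy : AlgSt.RepByAlgSpWith (AlgSp.LocP @Smooth) y) :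
    ∃ (U : Over S) (h : U ⟶ V) (x : FibCat.overCat U ⥤ᵇ X)
      (α : BasedFunctor.comp x f ≅ BasedFunctor.comp (AlgSt.overMap h) y),
      AlgSt.RepByAlgSpWith (AlgSp.LocP @Smooth) x ∧
      AlgSt.RepByAlgSpWith (AlgSp.LocP @Smooth) (FibCat.fpLift x (AlgSt.overMap h) α) ∧
      (AlgSt.RepByAlgSpWith AlgSp.IsSurjectiveMor y → AlgSt.RepByAlgSpWith AlgSp.IsSurjectiveMor x) ∧
      (AlgSt.IsSurjective f → Surjective h.left) := by
  haveI := hX.isStack.1
  haveI := hY.isStack.1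
  have hP := isAlgStack_fp' hX (isAlgStack_overCat V) hY f y
  haveI := hP.isStack.1
  haveI : FibCat.IsFibGrpd (FibCat.overCat V).p := isFibGrpd_overCat V
  obtain ⟨U, t, ht, hts⟩ := hP.atlas
  haveI : FibCat.IsFibGrpd (FibCat.overCat U).p := isFibGrpd_overCat U
  obtain ⟨h, ⟨j⟩⟩ := exists_overMap (BasedFunctor.comp t (FibCat.fpSnd f y))
  let α : BasedFunctor.comp (BasedFunctor.comp t (FibCat.fpFst f y)) f ≅ BasedFunctor.comp (AlgSt.overMap h) y :=
    H9Fib.wLeft t (FibCat.fpIso f y) ≪≫ H9Fib.wRight j y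
  let k : t ≅ FibCat.fpLift (BasedFunctor.comp t (FibCat.fpFst f y)) (AlgSt.overMap h) α :=
    BasedNatIso.mkNatIso (NatIso.ofComponents (fun w => (FibCat.fpProp f y).isoMk
        (CategoricalPullback.mkIso (Iso.refl _) ((NatIso.ofComponents
          (fun w => (⟨j.hom.toNatTrans.app w, j.inv.toNatTrans.app w,
            congrArg (fun q => q.toNatTrans.app w) j.hom_inv_id, congrArg (fun q => q.toNatTrans.app w) j.inv_hom_id⟩ :
              (BasedFunctor.comp t (FibCat.fpSnd f y)).obj w ≅ (AlgSt.overMap h).obj w))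
          (fun m => j.hom.toNatTrans.naturality m) :
            (BasedFunctor.comp t (FibCat.fpSnd f y)).toFunctor ≅ (AlgSt.overMap h).toFunctor).app w) (by
          show f.map (𝟙 _) ≫ (t.obj w).obj.iso.hom ≫ y.map (j.hom.toNatTrans.app w) =
            (t.obj w).obj.iso.hom ≫ y.map (j.hom.toNatTrans.app w)
          erw [f.toFunctor.map_id, Category.id_comp])))
      (fun {w w'} m => ObjectProperty.hom_ext _ (CategoricalPullback.hom_ext
        ((Category.comp_id _).trans (Category.id_comp _).symm) (j.hom.toNatTrans.naturality m))))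
      fun w => by
        refine IsHomLift.of_fac' _ _ _ (t.w_obj w) ((BasedFunctor.comp t (FibCat.fpFst f y)).w_obj w) ?_
        show X.p.map (𝟙 _) = _
        simp; rfl
  have hx : AlgSt.RepByAlgSpWith (AlgSp.LocP @Smooth) (BasedFunctor.comp t (FibCat.fpFst f y)) :=
    repWith_comp standard_smooth ht (repByAlgSpWith_fpFst y f hy)
  exact ⟨U, h, _, α, hx, (repByAlgSpWith_congr (f := FibCat.fpLift _ (AlgSt.overMap h) α) (f' := t)
      (BasedFunctor.id _) (BasedFunctor.id _) (H9Fib.isEquivOver_id _) (H9Fib.isEquivOver_id _) k).2 ht,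
    fun hys => surjective_comp (rep1_of_with hx) hts (repByAlgSpWith_fpFst y f hys),
    fun hfs => surjective_left_of_chart f y t hts h j hfs⟩

theorem locQ_flat_of_comp (hX : AlgSt.IsAlgStack Scheme.fppfPrecoverage X)
    (hY : AlgSt.IsAlgStack Scheme.fppfPrecoverage Y) (hZ : AlgSt.IsAlgStack Scheme.fppfPrecoverage Z)
    {f : X ⥤ᵇ Y} {g : Y ⥤ᵇ Z} (hf₁ : AlgSt.LocQ (AlgSp.LocP @Flat) f) (hf₂ : AlgSt.IsSurjective f)
    (h : AlgSt.LocQ (AlgSp.LocP @Flat) (BasedFunctor.comp f g)) : AlgSt.LocQ (AlgSp.LocP @Flat) g := by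
  haveI := hX.isStack.1
  haveI := hY.isStack.1
  haveI := hZ.isStack.1
  obtain ⟨W, z, hz, hzs⟩ := hZ.atlas
  obtain ⟨V, b, y, β, hy, htg, hys⟩ := exists_square_over hY hZ g z hz
  obtain ⟨U, a, x, α, hx, htf, hxs, ha⟩ := exists_square_over' hX hY f y hy
  haveI : Surjective a.left := ha hf₂
  haveI : Flat a.left := (ASp.locP_yon_iff a).1 (prop_of_square ASp.isSmoothLocalST_locP hX hY hf₁ α htf hy)
  haveI : FibCat.IsFibGrpd (FibCat.overCat U).p := isFibGrpd_overCat U
  haveI : FibCat.IsFibGrpd (FibCat.overCat V).p := isFibGrpd_overCat V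
  haveI : FibCat.IsFibGrpd (FibCat.overCat W).p := isFibGrpd_overCat W
  let tg := FibCat.fpLift y (AlgSt.overMap b) β
  let p := FibCat.fpFst g z
  haveI : FibCat.IsFibGrpd (FibCat.fp g z).p := H9Fib.isFibGrpd_fp _ _
  haveI : FibCat.IsFibGrpd (FibCat.fp f y).p := H9Fib.isFibGrpd_fp _ _
  haveI : FibCat.IsFibGrpd (FibCat.fp y f).p := H9Fib.isFibGrpd_fp _ _
  haveI : FibCat.IsFibGrpd (FibCat.fp p f).p := H9Fib.isFibGrpd_fp _ _
  haveI : FibCat.IsFibGrpd (FibCat.fp f p).p := H9Fib.isFibGrpd_fp _ _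
  haveI : FibCat.IsFibGrpd (FibCat.fp (BasedFunctor.comp f g) z).p := H9Fib.isFibGrpd_fp _ _
  have he : ∀ {A B : AlgSt.Cat S} [FibCat.IsFibGrpd A.p] [FibCat.IsFibGrpd B.p] {k : A ⥤ᵇ B},
      FibCat.IsEquivOver k → AlgSt.RepByAlgSpWith (AlgSp.LocP @Smooth) k := fun hk =>
    repByAlgSpWith_of_isEquivOver (fun m _ => locP_smooth_of_iso m) hk
  have h1 : AlgSt.RepByAlgSpWith (AlgSp.LocP @Smooth)
      (BasedFunctor.comp (FibCat.fpLift x (AlgSt.overMap a) α) (swapFun f y)) :=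
    repWith_comp standard_smooth htf (he (isEquivOver_swap f y))
  have h2 : AlgSt.RepByAlgSpWith (AlgSp.LocP @Smooth) (bcFun tg p f) := repWith_bcFun tg p f htg
  haveI : FibCat.IsFibGrpd (FibCat.fp (BasedFunctor.comp tg p) f).p := H9Fib.isFibGrpd_fp _ _
  have h3 : AlgSt.RepByAlgSpWith (AlgSp.LocP @Smooth)
      (BasedFunctor.comp (BasedFunctor.comp (BasedFunctor.comp
        (BasedFunctor.comp (FibCat.fpLift x (AlgSt.overMap a) α) (swapFun f y))
        (bcFun tg p f)) (swapFun p f)) (pasteFun f g z)) :=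
    repWith_comp standard_smooth (repWith_comp standard_smooth (repWith_comp standard_smooth h1 h2)
      (he (isEquivOver_swap p f))) (he (isEquivOver_paste f g z))
  obtain ⟨j⟩ := overMap_comp_iso a b
  obtain ⟨U₀, W₀, x₀, z₀, c₀, γ₀, hx₀, hxs₀, hz₀, hc₀⟩ := h
  have hab := (ASp.locP_yon_iff (a ≫ b)).1
    (prop_of_chart_square ASp.isSmoothLocalST_locP hZ.diag γ₀ hx₀ hxs₀ hz₀ hc₀ z _ h3 (a ≫ b) j (Or.inl hz))
  rw [Over.comp_left] at hab
  haveI : Flat (a.left ≫ b.left) := hab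
  exact ⟨V, W, y, z, b, β, hy, hys hzs, hz, (ASp.locP_yon_iff b).2 (H8GrpFlat.flat_of_comp a.left b.left)⟩

end Groth.Agent.H9St
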