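import Groth.Agent.Lib.H9StChart
import Groth.Agent.Lib.H9StFPt
import Groth.Agent.Lib.AlgSpLocal
import Groth.Agent.Lib.AlgSpBasic
/-! Continuity and openness of charts of algebraic stacks. -/

set_option autoImplicit false
set_option linter.style.haveILetI false
set_option linter.unusedVariables false
set_option linter.unusedSectionVars false
set_option backward.isDefEq.respectTransparency.types false

universe u

open CategoryTheory CategoryTheory.Limits AlgebraicGeometry Opposite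

noncomputable section

namespace Groth.Agent.H9St

variable {S : Scheme.{u}} {X Y Z : AlgSt.Cat S}

instance respectsIso_locP {P : MorphismProperty Scheme.{u}} : (AlgSp.LocP (S := S) P).RespectsIso :=
  MorphismProperty.RespectsIso.mk _
    (fun e f hf U V a b α ha hb hab => hf (a ≫ e.hom) b α (MorphismProperty.RespectsIso.postcomp _ e.hom _ ha) hb
      (by rw [Category.assoc]; exact hab))
    (fun e f hf U V a b α ha hb hab => hf a (b ≫ e.inv) α ha (MorphismProperty.RespectsIso.postcomp _ e.inv _ hb)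
      (by rw [← Category.assoc, ← hab, Category.assoc, Category.assoc, e.hom_inv_id, Category.comp_id]))

instance respectsIso_isSurjectiveMor : (AlgSp.IsSurjectiveMor : MorphismProperty (AlgSp.Sp S)).RespectsIso :=
  MorphismProperty.RespectsIso.mk _
    (fun e f hf z => by
      obtain ⟨w, hw⟩ := hf z
      refine ⟨AlgSp.Points.map e.inv w, ?_⟩
      rw [AlgSp.Points.map_comp, ← AlgSp.Points.map_comp e.inv, e.inv_hom_id, AlgSp.Points.map_id]
      exact hw)
    (fun e f hf z => by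
      obtain ⟨w, hw⟩ := hf (AlgSp.Points.map e.inv z)
      refine ⟨w, ?_⟩
      rw [AlgSp.Points.map_comp, hw, ← AlgSp.Points.map_comp, e.inv_hom_id, AlgSp.Points.map_id])

theorem locP_yon {P : MorphismProperty Scheme.{u}} {F : AlgSp.Sp S} {W V : Over S} {π : F ⟶ (AlgSp.yon S).obj V}
    {a : (AlgSp.yon S).obj W ⟶ F} {h : W ⟶ V} (ha : AlgSp.RepWith @Etale a) (hh : a ≫ π = (AlgSp.yon S).map h)
    (hπ : AlgSp.LocP P π) : P h.left :=
  hπ a (𝟙 _) h ha (AlgSp.repWith_id _ V) (hh.trans (Category.comp_id _).symm)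

variable [hX : FibCat.IsFibGrpd X.p]

theorem surjective_ofChart [hY : FibCat.IsFibGrpd Y.p] {U : Over S} {p : FibCat.overCat U ⥤ᵇ X}
    (hp : AlgSt.RepByAlgSpWith AlgSp.IsSurjectiveMor p) : Function.Surjective (AlgSt.Points.ofChart p) := by
  haveI : FibCat.IsFibGrpd (FibCat.overCat U).p := isFibGrpd_overCat U
  intro z
  have := isSurjective_of_rep hp z
  rwa [← Set.mem_range, range_ofChart]

theorem ofChart_yFun_overCat {U W : Over S} [FibCat.IsFibGrpd (FibCat.overCat U).p] (B : (FibCat.overCat U).p.Fiber W) (w : ↥W.left) :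
    AlgSt.Points.ofChart (yFun B) w = AlgSt.Points.mk (ptAt ((eqToHom B.2.symm ≫ B.1.hom).left w)) := by
  refine (mk_eq_ptAt_val _).trans ?_
  congr 2
  refine (val_eq _ B.2 (pbMap (Over.homMk (W.left.fromSpecResidueField w) rfl :
    Over.mk (W.left.fromSpecResidueField w ≫ W.hom) ⟶ W) B)).trans ?_
  congr 1
  have := IsHomLift.fac (FibCat.overCat U).p (Over.homMk (W.left.fromSpecResidueField w) rfl :
    Over.mk (W.left.fromSpecResidueField w ≫ W.hom) ⟶ W) (pbMap (Over.homMk (W.left.fromSpecResidueField w) rfl :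
    Over.mk (W.left.fromSpecResidueField w ≫ W.hom) ⟶ W) B)
  refine (congrArg (fun q : Over.mk (W.left.fromSpecResidueField w ≫ W.hom) ⟶ W => q.left _) this.symm).trans ?_
  exact W.left.fromSpecResidueField_apply w _

theorem ptAt_injective {V : Over S} {s t : ↥V.left} (hst : AlgSt.Points.mk (ptAt s) = AlgSt.Points.mk (ptAt t)) : s = t := by
  haveI : FibCat.IsFibGrpd (FibCat.overCat V).p := isFibGrpd_overCat V
  obtain ⟨r', m₁, m₂, -⟩ := mk_eq_mk.1 hst
  have e₁ := val_eq r' (rfl : (ptAt s).obj.left = (ptAt s).obj.left) m₁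
  have e₂ := val_eq r' (rfl : (ptAt t).obj.left = (ptAt t).obj.left) m₂
  have c₁ : ∀ (t : ↥V.left) (y : ↥(ptAt t).obj.left.left), (eqToHom rfl ≫ (ptAt t).obj.hom).left y = t := fun t y =>
    (congrArg (fun q : (ptAt t).obj.left ⟶ V => q.left y) (Category.id_comp _)).trans
      (V.left.fromSpecResidueField_apply t y)
  rw [c₁] at e₁ e₂
  exact e₁.symm.trans e₂

/-- A surjective smooth atlas makes every chart continuous. -/
theorem continuous_ofChart_of_atlas (hA : AlgSt.HasAtlas (AlgSp.LocP @Smooth) X) {V : Over S}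
    (g : FibCat.overCat V ⥤ᵇ X) : Continuous (AlgSt.Points.ofChart g) := by
  obtain ⟨U, p, hp, hps⟩ := hA
  haveI : FibCat.IsFibGrpd (FibCat.overCat U).p := isFibGrpd_overCat U
  refine ⟨fun O hO => ?_⟩
  obtain ⟨F, π, W, a, h, B, hF, hπ, hae, hah, h1, h2⟩ := exists_chart_fp hp g
  haveI : Smooth h.left := locP_yon hae hah hπ
  have key := ofChart_yFun_overCat B
  have e : AlgSt.Points.ofChart g ⁻¹' O = h.left '' ((eqToHom B.2.symm ≫ B.1.hom).left ⁻¹' (AlgSt.Points.ofChart p ⁻¹' O)) := by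
    ext v
    constructor
    · intro hv
      obtain ⟨u, hu⟩ := surjective_ofChart (Y := X) hps (AlgSt.Points.ofChart g v)
      obtain ⟨w, hw, hq⟩ := h2 v (AlgSt.Points.mk (ptAt u)) (hu.symm.trans (ofChart_eq_map p u))
      refine ⟨w, ?_, hw⟩
      show AlgSt.Points.ofChart p _ ∈ O
      rw [ofChart_eq_map, ← key, hq, ← ofChart_eq_map, hu]
      exact hv
    · rintro ⟨w, hw, rfl⟩
      show AlgSt.Points.ofChart g _ ∈ O
      rw [h1, key, ← ofChart_eq_map]
      exact hw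
  rw [e]
  exact h.left.isOpenMap _ ((hO U p hp).preimage (Scheme.Hom.continuous _))

theorem both_of_rep [hY : FibCat.IsFibGrpd Y.p] {P Q : MorphismProperty (AlgSp.Sp S)} [P.RespectsIso] [Q.RespectsIso]
    {f : Y ⥤ᵇ X} (h₁ : AlgSt.RepByAlgSpWith P f) (h₂ : AlgSt.RepByAlgSpWith Q f) : AlgSt.RepByAlgSpWith (P ⊓ Q) f := by
  refine (repByAlgSpWith_iff f).2 fun U y => ?_
  obtain ⟨hd, hsh, hA, hP⟩ := (repByAlgSpWith_iff f).1 h₁ U y
  obtain ⟨_, _, _, hQ⟩ := (repByAlgSpWith_iff f).1 h₂ U y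
  exact ⟨hd, hsh, hA, hP, hQ⟩

/-- The image of a set which is open in every chart under a flat and locally finitely presented morphism is open. -/
theorem isOpen_image [hZ : FibCat.IsFibGrpd Z.p] {u : Z ⥤ᵇ X}
    (hu₁ : AlgSt.RepByAlgSpWith (AlgSp.LocP @Flat) u) (hu₂ : AlgSt.RepByAlgSpWith (AlgSp.LocP @LocallyOfFinitePresentation) u)
    {O : Set (AlgSt.Points Z)} (hO : ∀ (W : Over S) (B : Z.p.Fiber W), IsOpen (AlgSt.Points.ofChart (yFun B) ⁻¹' O)) :
    IsOpen (AlgSt.Points.map u '' O) := by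
  rw [AlgSt.Points.isOpen_iff]
  intro V g hg
  obtain ⟨F, π, W, a, h, B, hF, hπ, hae, hah, h1, h2⟩ := exists_chart_fp (both_of_rep hu₁ hu₂) g
  haveI : Flat h.left := locP_yon hae hah hπ.1
  haveI : LocallyOfFinitePresentation h.left := locP_yon hae hah hπ.2
  have e : AlgSt.Points.ofChart g ⁻¹' (AlgSt.Points.map u '' O) = h.left '' (AlgSt.Points.ofChart (yFun B) ⁻¹' O) := by
    ext v
    constructor
    · rintro ⟨q, hq, hqv⟩
      obtain ⟨w, hw, hwq⟩ := h2 v q hqv.symm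
      exact ⟨w, show AlgSt.Points.ofChart (yFun B) w ∈ O from hwq.symm ▸ hq, hw⟩
    · rintro ⟨w, hw, rfl⟩
      exact ⟨_, hw, (h1 w).symm⟩
  rw [e]
  exact h.left.isOpenMap _ (hO W B)

theorem isOpenMap_map [hZ : FibCat.IsFibGrpd Z.p] {u : Z ⥤ᵇ X}
    (hu₁ : AlgSt.RepByAlgSpWith (AlgSp.LocP @Flat) u) (hu₂ : AlgSt.RepByAlgSpWith (AlgSp.LocP @LocallyOfFinitePresentation) u)
    (hA : AlgSt.HasAtlas (AlgSp.LocP @Smooth) Z) : IsOpenMap (AlgSt.Points.map u) := fun O hO =>
  isOpen_image hu₁ hu₂ fun W B => hO.preimage (continuous_ofChart_of_atlas hA _)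

/-- Flat, locally finitely presented charts are open. -/
theorem isOpenMap_ofChart {U : Over S} {x : FibCat.overCat U ⥤ᵇ X}
    (hx₁ : AlgSt.RepByAlgSpWith (AlgSp.LocP @Flat) x) (hx₂ : AlgSt.RepByAlgSpWith (AlgSp.LocP @LocallyOfFinitePresentation) x) :
    IsOpenMap (AlgSt.Points.ofChart x) := by
  intro O hO
  haveI : FibCat.IsFibGrpd (FibCat.overCat U).p := isFibGrpd_overCat U
  have e : AlgSt.Points.ofChart x '' O = AlgSt.Points.map x '' ((fun t => AlgSt.Points.mk (ptAt t)) '' O) := by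
    rw [Set.image_image]; rfl
  rw [e]
  refine isOpen_image hx₁ hx₂ fun W B => ?_
  have : AlgSt.Points.ofChart (yFun B) ⁻¹' ((fun t => AlgSt.Points.mk (ptAt t)) '' O) =
      (eqToHom B.2.symm ≫ B.1.hom).left ⁻¹' O := by
    ext w
    rw [Set.mem_preimage, ofChart_yFun_overCat]
    exact ⟨fun ⟨t, ht, e⟩ => show _ ∈ O from ptAt_injective e ▸ ht, fun h => ⟨_, h, rfl⟩⟩
  rw [this]
  exact hO.preimage (Scheme.Hom.continuous _)

theorem continuous_map [hY : FibCat.IsFibGrpd Y.p] (hA : AlgSt.HasAtlas (AlgSp.LocP @Smooth) Y) (f : X ⥤ᵇ Y) :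
    Continuous (AlgSt.Points.map f) :=
  ⟨fun O hO V x _ => hO.preimage (continuous_ofChart_of_atlas hA (BasedFunctor.comp x f))⟩

theorem smooth_flat_lfp {U : Over S} {x : FibCat.overCat U ⥤ᵇ X} (hx : AlgSt.RepByAlgSpWith (AlgSp.LocP @Smooth) x) :
    AlgSt.RepByAlgSpWith (AlgSp.LocP @Flat) x ∧ AlgSt.RepByAlgSpWith (AlgSp.LocP @LocallyOfFinitePresentation) x :=
  ⟨fun V y => (hx V y).imp fun F ⟨e, he, hP⟩ =>
      ⟨e, he, ASp.locP_mono (fun _ _ f (_ : Smooth f) => (inferInstance : Flat f)) hP⟩,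
    fun V y => (hx V y).imp fun F ⟨e, he, hP⟩ =>
      ⟨e, he, ASp.locP_mono (fun _ _ f (_ : Smooth f) => (inferInstance : LocallyOfFinitePresentation f)) hP⟩⟩

omit hX in
/-- A morphism from a slice to a category equivalent to a space, through its morphism of sheaves. -/
theorem repByAlgSpWith_of_space {T : AlgSt.Cat S} [FibCat.IsFibGrpd T.p] [Disc T] {A : AlgSp.Sp S}
    (hA : AlgSp.IsAlgSpace A) (e : clsPsh T ≅ A.obj) {U : Over S} [FibCat.IsFibGrpd (FibCat.overCat U).p]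
    (p : FibCat.overCat U ⥤ᵇ T) (a : (AlgSp.yon S).obj U ⟶ A) (hp : clsMap p = (clsOverCat U).hom ≫ a.hom ≫ e.inv)
    {Q : MorphismProperty (AlgSp.Sp S)} [Q.RespectsIso]
    (hQ : ∀ {B : AlgSp.Sp S} {V : Over S} {b : (AlgSp.yon S).obj V ⟶ A} {q : B ⟶ (AlgSp.yon S).obj U}
      {r : B ⟶ (AlgSp.yon S).obj V}, IsPullback q r a b → Q r) : AlgSt.RepByAlgSpWith Q p := by
  refine (repByAlgSpWith_iff p).2 fun V y => ?_
  haveI : FibCat.IsFibGrpd (FibCat.overCat V).p := isFibGrpd_overCat V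
  haveI : FibCat.IsFibGrpd (FibCat.fp y p).p := H9Fib.isFibGrpd_fp y p
  let b : (AlgSp.yon S).obj V ⟶ A := ObjectProperty.homMk ((clsOverCat V).inv ≫ clsMap y ≫ (e).hom)
  have hff : p.toFunctor.Faithful := ⟨fun {c d} φ ψ e => eq_of_base φ ψ (by
    have h := congrArg T.p.map e
    have h1 := Functor.congr_hom p.w φ
    have h2 := Functor.congr_hom p.w ψ
    simp only [Functor.comp_map] at h1 h2
    rw [h1, h2] at h
    exact eqToHom_cancel _ _ h)⟩
  have sq0 : IsPullback ((ASp.toP S).map (pullback.fst a b)) ((ASp.toP S).map (pullback.snd a b)) a.hom b.hom :=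
    (IsPullback.of_hasPullback a b).map (ASp.toP S)
  have sq1 : IsPullback (clsMap (FibCat.fpSnd y p) ≫ (clsOverCat U).hom) (projU y p) a.hom b.hom :=
    (isPullback_fp y p).flip.of_iso (Iso.refl _) (clsOverCat U) (clsOverCat V) (e) (by simp)
      (by simp [projU]) (by simp [hp]) (by simp [b])
  let i := sq1.isoIsPullback _ _ sq0
  have hsh : Presheaf.IsSheaf (AlgSp.J S) (clsPsh (FibCat.fp y p)) :=
    (Presheaf.isSheaf_of_iso_iff i).2 (pullback a b).property
  let i' : (⟨clsPsh (FibCat.fp y p), hsh⟩ : AlgSp.Sp S) ≅ pullback a b :=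
    (fullyFaithfulSheafToPresheaf (AlgSp.J S) (Type (u + 1))).preimageIso
      (X := (⟨clsPsh (FibCat.fp y p), hsh⟩ : AlgSp.Sp S)) (Y := pullback a b) i
  refine ⟨disc_fp_of_faithful y p hff, hsh,
    (ASp.isAlgSpace_pullback a b (AlgSp.IsAlgSpace.yon_obj U) (AlgSp.IsAlgSpace.yon_obj V) hA).of_iso i'.symm, ?_⟩
  have : (ObjectProperty.homMk (projU y p) :
      (⟨clsPsh (FibCat.fp y p), hsh⟩ : AlgSp.Sp S) ⟶ (AlgSp.yon S).obj V) = i'.hom ≫ pullback.snd a b :=
    ObjectProperty.hom_ext _ (sq1.isoIsPullback_hom_snd _ _ sq0).symm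
  rw [this, Q.cancel_left_of_respectsIso]
  exact hQ (IsPullback.of_hasPullback a b)

theorem locP_smooth_of_repWith_etale {B : AlgSp.Sp S} {V : Over S} {r : B ⟶ (AlgSp.yon S).obj V}
    (h : AlgSp.RepWith @Etale r) : AlgSp.LocP @Smooth r :=
  ASp.locP_of_repWith (AlgSp.IsAlgSpace.yon_obj V) (ASp.repWith_mono
      (fun _ _ f (_ : Etale f) => (inferInstance : Smooth f)) h)

omit hX in
/-- An algebraic space, as a category fibred in sets, has a smooth atlas. -/
theorem hasAtlas_ofSp {A : AlgSp.Sp S} (hA : AlgSp.IsAlgSpace A) :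
    AlgSt.HasAtlas (AlgSp.LocP @Smooth) (AlgSt.ofSp A) := by
  haveI : FibCat.IsFibGrpd (AlgSt.ofSp A).p := isFibGrpd_ofPsh A.obj
  obtain ⟨U, a, hae, has⟩ := hA.atlas
  haveI : FibCat.IsFibGrpd (FibCat.overCat U).p := isFibGrpd_overCat U
  obtain ⟨p, hp⟩ := exists_yFun (W := AlgSt.ofSp A) (U := U) (a.hom ≫ (clsOfPsh A.obj).inv)
  have key : ∀ {Q : MorphismProperty (AlgSp.Sp S)} [Q.RespectsIso],
      (∀ {B : AlgSp.Sp S} {V : Over S} {b : (AlgSp.yon S).obj V ⟶ A} {q : B ⟶ (AlgSp.yon S).obj U}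
        {r : B ⟶ (AlgSp.yon S).obj V}, IsPullback q r a b → Q r) → AlgSt.RepByAlgSpWith Q p :=
    fun {Q} _ hQ => repByAlgSpWith_of_space (T := AlgSt.ofSp A) hA (clsOfPsh A.obj) p a hp hQ
  refine ⟨U, p, key fun {B V b q r} sq => ?_, key (Q := AlgSp.IsSurjectiveMor) fun {B V b q r} sq => ?_⟩
  · exact locP_smooth_of_repWith_etale (ASp.repWith_baseChange sq hae)
  · intro z
    obtain ⟨u, hu⟩ := ASp.surjective_ofPt_of_repWith has (AlgSp.Points.map b z)
    obtain ⟨w, hw, -⟩ := ASp.exists_of_isPullback sq.flip z (AlgSp.Points.schemeHomeo U u)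
      (by rw [← hu, AlgSp.Points.ofPt_eq_map_ofScheme]; rfl)
    exact ⟨w, hw⟩

section Charts

/-- A morphism of schemes as a chart of a slice. -/
theorem repByAlgSpWith_overMap {U' U : Over S} (c : U' ⟶ U) (hc : Smooth c.left) :
    AlgSt.RepByAlgSpWith (AlgSp.LocP @Smooth) (AlgSt.overMap c) := by
  haveI : FibCat.IsFibGrpd (FibCat.overCat U).p := isFibGrpd_overCat U
  haveI : FibCat.IsFibGrpd (FibCat.overCat U').p := isFibGrpd_overCat U'
  refine repByAlgSpWith_of_space (T := FibCat.overCat U) (A := (AlgSp.yon S).obj U) (AlgSp.IsAlgSpace.yon_obj U)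
    (clsOverCat U) (AlgSt.overMap c) ((AlgSp.yon S).map c) ?_ fun {B V b q r} sq =>
      ASp.locP_of_repWith (AlgSp.IsAlgSpace.yon_obj V) (ASp.repWith_baseChange sq ((AlgSp.repWith_yon_map_iff _ c).2 hc))
  rw [← Category.assoc, Iso.eq_comp_inv]
  ext T x
  obtain ⟨T⟩ := T
  induction x using Quotient.ind with | _ d => ?_
  have key : ∀ {T : Over S} (d : (FibCat.overCat U').p.Fiber T),
      ovAt U ((IsoNat.fibFun (AlgSt.overMap c) T).obj d) = ⟨(ovAt U' d).down ≫ c⟩ := by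
    rintro _ ⟨d, rfl⟩
    exact congrArg ULift.up (Category.assoc _ _ _).symm
  exact key d

variable {V : Over S}

theorem smooth_comp {A B : AlgSp.Sp S} {U : Over S} {m : A ⟶ B} {n : B ⟶ (AlgSp.yon S).obj U}
    (hA : AlgSp.IsAlgSpace A) (hB : AlgSp.IsAlgSpace B) (hm : AlgSp.RepBySpWith (AlgSp.LocP @Smooth) m.hom)
    (hn : AlgSp.LocP @Smooth n) : AlgSp.LocP @Smooth (m ≫ n) := by
  refine ASp.locP_comp hA hB (AlgSp.IsAlgSpace.yon_obj U) ?_ hn
  obtain ⟨V, b, hbe, hbs⟩ := hB.atlas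
  obtain ⟨F, fst, snd, sq, hP⟩ := exists_pullback_prop hm b
  have hF : AlgSp.IsAlgSpace F := (ASp.isAlgSpace_pullback m b hA (AlgSp.IsAlgSpace.yon_obj V) hB).of_iso
    ((IsPullback.of_hasPullback m b).isoIsPullback _ _ sq)
  obtain ⟨W, w, hwe, hws⟩ := hF.atlas
  obtain ⟨α, hα⟩ := (AlgSp.yon S).map_surjective (w ≫ snd)
  exact ASp.locP_of_chart (a := w ≫ fst) (b := b) (α := α) (ASp.repWith_comp hwe (ASp.repWith_baseChange sq.flip hbe))
    (ASp.repWith_comp hws (ASp.repWith_baseChange sq.flip hbs)) hbe (by rw [Category.assoc, sq.w, hα, Category.assoc])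
    (hP w (𝟙 _) α hwe (AlgSp.repWith_id _ V) (hα.symm.trans (Category.comp_id _).symm))

theorem smooth_overMap_comp {U' U : Over S} (c : U' ⟶ U) (hc : Smooth c.left) {p : FibCat.overCat U ⥤ᵇ X}
    (hp : AlgSt.RepByAlgSpWith (AlgSp.LocP @Smooth) p) :
    AlgSt.RepByAlgSpWith (AlgSp.LocP @Smooth) (BasedFunctor.comp (AlgSt.overMap c) p) := by
  haveI : FibCat.IsFibGrpd (FibCat.overCat U).p := isFibGrpd_overCat U
  haveI : FibCat.IsFibGrpd (FibCat.overCat U').p := isFibGrpd_overCat U'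
  exact repByAlgSpWith_comp (fun A B W m n hA hB hm hn => smooth_comp hA hB hm hn) _ _ (repByAlgSpWith_overMap c hc) hp

theorem ofChart_overMap_comp {U' U : Over S} (c : U' ⟶ U) (p : FibCat.overCat U ⥤ᵇ X) (t : ↥U'.left) :
    AlgSt.Points.ofChart (BasedFunctor.comp (AlgSt.overMap c) p) t = AlgSt.Points.ofChart p (c.left t) := by
  haveI : FibCat.IsFibGrpd (FibCat.overCat U).p := isFibGrpd_overCat U
  refine Eq.trans ?_ ((map_mk_eq_ofChart p ((ptAt t).map (AlgSt.overMap c))).trans ?_)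
  · rfl
  · congr 1
    show ((eqToHom _ ≫ (ptAt t).obj.hom ≫ c) : _ ⟶ U).left _ = _
    refine (congrArg (fun q : Over.mk (ptAt t).str ⟶ U => q.left _) (Category.id_comp _)).trans ?_
    exact congrArg c.left (U'.left.fromSpecResidueField_apply t _)

theorem surjectiveMor_of_surjective_ofChart [Disc (FibCat.overCat V)] {x : FibCat.overCat V ⥤ᵇ X}
    (hx : AlgSt.RepByAlgSpWith (AlgSp.LocP @Smooth) x) (hs : Function.Surjective (AlgSt.Points.ofChart x)) :
    AlgSt.RepByAlgSpWith AlgSp.IsSurjectiveMor x := by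
  haveI : FibCat.IsFibGrpd (FibCat.overCat V).p := isFibGrpd_overCat V
  have hS : AlgSt.IsSurjective x := fun z => by
    obtain ⟨t, rfl⟩ := hs z
    exact ⟨_, (ofChart_eq_map x t).symm⟩
  intro U y
  obtain ⟨F, e, he, -⟩ := hx U y
  exact ⟨F, e, he, isSurjectiveMor_of_isSurjective hS he⟩

theorem compactSpace_points (h : AlgSt.IsQuasiCompact X) (hA : AlgSt.HasAtlas (AlgSp.LocP @Smooth) X) :
    CompactSpace (AlgSt.Points X) := by
  obtain ⟨U, p, hU, -, hps⟩ := h
  haveI := hU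
  haveI : FibCat.IsFibGrpd (FibCat.overCat U).p := isFibGrpd_overCat U
  refine ⟨?_⟩
  rw [← (surjective_ofChart (Y := X) hps).range_eq]
  exact isCompact_range (continuous_ofChart_of_atlas hA p)

/-- A stack with compact point space has an affine smooth atlas. -/
theorem isQuasiCompact_of_compactSpace (hA : AlgSt.HasAtlas (AlgSp.LocP @Smooth) X) [CompactSpace (AlgSt.Points X)] :
    AlgSt.IsQuasiCompact X := by
  obtain ⟨U, p, hp, hps⟩ := hA
  haveI : FibCat.IsFibGrpd (FibCat.overCat U).p := isFibGrpd_overCat U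
  obtain ⟨t, ht⟩ := isCompact_univ.elim_finite_subcover
    (fun V : U.left.affineOpens => AlgSt.Points.ofChart p '' (V.1 : Set U.left))
    (fun V => isOpenMap_ofChart (smooth_flat_lfp hp).1 (smooth_flat_lfp hp).2 _ V.1.2) (fun x _ => by
      obtain ⟨u, rfl⟩ := surjective_ofChart (Y := X) hps x
      obtain ⟨V, hV, huV, -⟩ := exists_isAffineOpen_mem_and_subset (X := U.left) (x := u) (U := ⊤) trivial
      exact Set.mem_iUnion.2 ⟨⟨V, hV⟩, u, huV, rfl⟩)
  have : ∀ V : (↑t : Set U.left.affineOpens), IsAffine (V.1.1 : Scheme.{u}) := fun V => V.1.2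
  let c : (∐ fun V : (↑t : Set U.left.affineOpens) => (V.1.1 : Scheme.{u})) ⟶ U.left :=
    Sigma.desc fun V => V.1.1.ι
  have hc : Smooth c :=
    (IsZariskiLocalAtSource.iff_of_openCover (P := @Smooth) (sigmaOpenCover _)).2 fun V => by
      change Smooth (Sigma.ι _ V ≫ Sigma.desc fun V : (↑t : Set U.left.affineOpens) => V.1.1.ι)
      rw [Sigma.ι_desc]
      infer_instance
  let U' : Over S := Over.mk (c ≫ U.hom)
  let c' : U' ⟶ U := Over.homMk c
  have hs := smooth_overMap_comp c' hc hp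
  refine ⟨U', BasedFunctor.comp (AlgSt.overMap c') p, ?_, hs, surjectiveMor_of_surjective_ofChart hs fun x => ?_⟩
  · change IsAffine (∐ fun V : (↑t : Set U.left.affineOpens) => (V.1.1 : Scheme.{u}))
    infer_instance
  · obtain ⟨V, hV, u, hu, rfl⟩ := Set.mem_iUnion₂.1 (ht (Set.mem_univ x))
    refine ⟨(Sigma.ι (fun V : (↑t : Set U.left.affineOpens) => (V.1.1 : Scheme.{u})) ⟨V, hV⟩) ⟨u, hu⟩, ?_⟩
    rw [ofChart_overMap_comp]
    congr 1
    change (Sigma.ι _ _ ≫ c) _ = u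
    simp [c]

end Charts

end Groth.Agent.H9St
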