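import Groth.Agent.Lib.H9StQC
/-! Topological properties of morphisms of algebraic stacks against those of algebraic spaces. -/

set_option autoImplicit false
set_option linter.style.haveILetI false
set_option linter.unusedVariables false
set_option linter.unusedSectionVars false
set_option backward.isDefEq.respectTransparency.types false

universe u

open CategoryTheory CategoryTheory.Limits AlgebraicGeometry Opposite

noncomputable section

namespace Groth.Agent.H9St

open H9Diag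

variable {S : Scheme.{u}}

theorem restr_eq (P : AlgSp.PSp S) {b b' T T' : Over S} (h : b = T) (h' : b' = T') (g : b ⟶ b')
    (x : P.obj (op b')) (y : P.obj (op b)) (e : P.map g.op x = y) :
    P.map (eqToHom h.symm ≫ g ≫ eqToHom h').op (P.map (eqToHom h'.symm).op x) = P.map (eqToHom h.symm).op y := by
  subst h h' e
  simp

section SpacePoints

variable (F : AlgSp.Sp S)

/-- The points of the stack of a space to the points of the space. -/
def toSpPts : AlgSt.Points (AlgSt.ofSp F) → AlgSp.Points F :=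
  Quot.lift (fun p => AlgSp.Points.mk ⟨p.K, p.str, F.obj.map (eqToHom p.lies.symm).op p.obj.sec⟩) (by
    rintro p q ⟨r, a, b, -⟩
    refine AlgSp.Points.sound ⟨r.K, r.field, r.str, eqToHom r.lies.symm ≫ a.hom ≫ eqToHom p.lies,
      eqToHom r.lies.symm ≫ b.hom ≫ eqToHom q.lies, ?_⟩
    have key : ∀ (p : AlgSt.FPt (AlgSt.ofSp F)) (a : r.obj ⟶ p.obj),
        F.obj.map (eqToHom r.lies.symm ≫ a.hom ≫ eqToHom p.lies).op (F.obj.map (eqToHom p.lies.symm).op p.obj.sec) =
          F.obj.map (eqToHom r.lies.symm).op r.obj.sec := fun p a =>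
      restr_eq F.obj r.lies p.lies a.hom p.obj.sec r.obj.sec a.map_sec
    exact (key p a).trans (key q b).symm)

/-- The points of a space to the points of its stack. -/
def ofSpPts : AlgSp.Points F → AlgSt.Points (AlgSt.ofSp F) :=
  Quotient.lift (fun q => AlgSt.Points.mk
    { K := q.K, str := q.str, obj := ⟨Over.mk q.str, q.val⟩, lies := rfl }) (by
    rintro p q ⟨Ω, _, w, a, b, h⟩
    exact AlgSt.Points.sound
      ⟨{ K := Ω, str := w, obj := ⟨Over.mk w, F.obj.map a.op p.val⟩, lies := rfl }, ⟨a, rfl⟩, ⟨b, h.symm⟩, trivial⟩)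

theorem toSpPts_ofSpPts (q : AlgSp.Points F) : toSpPts F (ofSpPts F q) = q := by
  induction q using AlgSp.Points.ind with
  | h q =>
    show AlgSp.Points.mk _ = AlgSp.Points.mk q
    congr 1
    show (⟨q.K, q.str, F.obj.map (𝟙 _) q.val⟩ : AlgSp.FieldPt F) = q
    simp
    rfl

theorem ofSpPts_toSpPts (p : AlgSt.Points (AlgSt.ofSp F)) : ofSpPts F (toSpPts F p) = p := by
  obtain ⟨⟨K, str, ⟨b, s⟩, h⟩, rfl⟩ := AlgSt.Points.mk_surjective p
  change b = Over.mk str at h
  subst h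
  show AlgSt.Points.mk _ = AlgSt.Points.mk _
  congr 1
  show ({ K := K, str := str, obj := ⟨Over.mk str, F.obj.map (𝟙 _) s⟩, lies := rfl } : AlgSt.FPt (AlgSt.ofSp F)) = _
  simp

variable {F}

theorem toSpPts_map {G : AlgSp.Sp S} (m : F ⟶ G) (p : AlgSt.Points (AlgSt.ofSp F)) :
    AlgSp.Points.map m (toSpPts F p) = toSpPts G (AlgSt.Points.map (AlgSt.ofSpMap m) p) := by
  obtain ⟨⟨K, str, ⟨b, s⟩, h⟩, rfl⟩ := AlgSt.Points.mk_surjective p
  change b = Over.mk str at h
  subst h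
  show AlgSp.Points.mk _ = AlgSp.Points.mk _
  congr 1
  show (⟨K, str, m.hom.app _ (F.obj.map (𝟙 _) s)⟩ : AlgSp.FieldPt G) = ⟨K, str, G.obj.map (𝟙 _) (m.hom.app _ s)⟩
  simp

theorem toSpPts_spMap {U : Over S} (Φ : AlgSt.ofSp F ⥤ᵇ FibCat.overCat U) (p : AlgSt.Points (AlgSt.ofSp F)) (t : ↥U.left)
    (h : AlgSt.Points.map Φ p = AlgSt.Points.mk (ptAt t)) :
    AlgSp.Points.map (AlgSt.spMapOfOver Φ) (toSpPts F p) = AlgSp.Points.schemeHomeo U t := by
  obtain ⟨⟨K, str, ⟨b, s⟩, hb⟩, rfl⟩ := AlgSt.Points.mk_surjective p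
  change b = Over.mk str at hb
  subst hb
  haveI : FibCat.IsFibGrpd (FibCat.overCat U).p := isFibGrpd_overCat U
  rw [AlgSt.Points.map_mk, mk_eq_ptAt_val] at h
  rw [← ptAt_injective h]
  let q : Over.mk str ⟶ U := AlgSt.secHom Φ ⟨Over.mk str, s⟩
  refine Eq.trans ?_ (AlgSp.Points.ofScheme_apply_eq_mk U q.left (Over.w q)).symm
  show AlgSp.Points.mk _ = AlgSp.Points.mk _
  congr 1
  show (⟨K, str, (AlgSt.spMapOfOver Φ).hom.app _ (F.obj.map (𝟙 _) s)⟩ : AlgSp.FieldPt ((AlgSp.yon S).obj U)) = _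
  rw [show F.obj.map (𝟙 (op (Over.mk str))) s = s by simp]
  rfl

theorem toSpPts_ofChart {T : Over S} (g : (AlgSp.yon S).obj T ⟶ F) (t : ↥T.left) :
    toSpPts F (AlgSt.Points.ofChart (BasedFunctor.comp (AlgSt.ofOverCat T) (AlgSt.ofSpMap g)) t) =
      AlgSp.Points.ofPt g t := by
  show toSpPts F (AlgSt.Points.map (AlgSt.ofSpMap g) (AlgSt.Points.map (AlgSt.ofOverCat T)
    (AlgSt.Points.mk (ptAt t)))) = _
  rw [← toSpPts_map, AlgSp.Points.ofPt_eq_map_ofScheme]
  congr 1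

theorem continuous_toSpPts (F : AlgSp.Sp S) : Continuous (toSpPts F) := by
  refine ⟨fun O hO V x hx => ?_⟩
  let V₁ : (FibCat.overCat V).obj := Over.mk (𝟙 V)
  let s₀ : F.obj.obj (op V) := F.obj.map (eqToHom (x.w_obj V₁).symm).op (x.obj V₁).sec
  let a : (AlgSp.yon S).obj V ⟶ F := ASp.sec.symm s₀
  have e : AlgSt.Points.ofChart x ⁻¹' (toSpPts F ⁻¹' O) = AlgSp.Points.ofPt a ⁻¹' O := by
    ext t
    suffices h : toSpPts F (AlgSt.Points.ofChart x t) = AlgSp.Points.ofPt a t by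
      show toSpPts F _ ∈ O ↔ AlgSp.Points.ofPt a t ∈ O
      rw [h]
    let ι : Over.mk (V.left.fromSpecResidueField t ≫ V.hom) ⟶ V := Over.homMk (V.left.fromSpecResidueField t) rfl
    let B : (FibCat.overCat V).obj := Over.mk ι
    let k : B ⟶ V₁ := Over.homMk ι (Category.comp_id _)
    have h1 := (x.map k).map_sec
    have h2 : (x.map k).hom = eqToHom (x.w_obj B) ≫ ι ≫ eqToHom (x.w_obj V₁).symm :=
      @IsHomLift.fac' _ _ _ _ (AlgSt.ofSp F).p _ _ _ _ ι (x.map k)
        (@BasedFunctor.preserves_isHomLift _ _ _ _ x _ _ _ _ ι k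
          (IsHomLift.of_fac' _ _ _ rfl rfl (by show k.left = _; simp [k]; rfl)))
    show AlgSp.Points.mk _ = AlgSp.Points.mk _
    congr 1
    show (⟨_, _, F.obj.map (eqToHom (x.w_obj B).symm).op (x.obj B).sec⟩ : AlgSp.FieldPt F) =
      ⟨_, _, F.obj.map ι.op s₀⟩
    congr 1
    have h3 : eqToHom (x.w_obj B).symm ≫ (x.map k).hom ≫ eqToHom (x.w_obj V₁) = ι := by rw [h2]; simp; exact Category.comp_id _
    exact ((restr_eq F.obj (x.w_obj B) (x.w_obj V₁) (x.map k).hom _ _ h1).symm).trans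
      (congrArg (fun q : Over.mk (V.left.fromSpecResidueField t ≫ V.hom) ⟶ V => F.obj.map q.op s₀) h3)
  rw [e]
  exact AlgSp.Points.isOpen_iff.1 hO V a

theorem continuous_ofSpPts (hF : AlgSp.IsAlgSpace F) : Continuous (ofSpPts F) := by
  haveI : FibCat.IsFibGrpd (AlgSt.ofSp F).p := isFibGrpd_ofPsh F.obj
  refine ⟨fun O hO => AlgSp.Points.isOpen_iff.2 fun T g => ?_⟩
  have h := hO.preimage (continuous_ofChart_of_atlas (hasAtlas_ofSp hF)
    (BasedFunctor.comp (AlgSt.ofOverCat T) (AlgSt.ofSpMap g)))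
  convert h using 1
  ext t
  show ofSpPts F (AlgSp.Points.ofPt g t) ∈ O ↔ AlgSt.Points.ofChart _ t ∈ O
  rw [← toSpPts_ofChart g t, ofSpPts_toSpPts]

/-- The points of a space and of its stack. -/
def spPtsHomeo (hF : AlgSp.IsAlgSpace F) : AlgSt.Points (AlgSt.ofSp F) ≃ₜ AlgSp.Points F where
  toEquiv := ⟨toSpPts F, ofSpPts F, ofSpPts_toSpPts F, toSpPts_ofSpPts F⟩
  continuous_toFun := continuous_toSpPts F
  continuous_invFun := continuous_ofSpPts hF

end SpacePoints

theorem points_map_id {A : AlgSt.Cat S} (p : AlgSt.Points A) : AlgSt.Points.map (BasedFunctor.id A) p = p := by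
  obtain ⟨p, rfl⟩ := AlgSt.Points.mk_surjective p
  rfl

/-- Equivalent stacks have homeomorphic point spaces. -/
theorem isHomeomorph_equiv {A B : AlgSt.Cat S} [FibCat.IsFibGrpd A.p] [FibCat.IsFibGrpd B.p]
    (hA : AlgSt.HasAtlas (AlgSp.LocP @Smooth) A) (hB : AlgSt.HasAtlas (AlgSp.LocP @Smooth) B)
    {e : A ⥤ᵇ B} (he : FibCat.IsEquivOver e) : IsHomeomorph (AlgSt.Points.map e) := by
  obtain ⟨G, ⟨i⟩, ⟨j⟩⟩ := he
  let h : AlgSt.Points A ≃ₜ AlgSt.Points B :=
    { toFun := AlgSt.Points.map e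
      invFun := AlgSt.Points.map G
      left_inv := fun p => (points_map_comp _ _ p).trans ((points_map_iso i p).trans (points_map_id p))
      right_inv := fun p => (points_map_comp _ _ p).trans ((points_map_iso j p).trans (points_map_id p))
      continuous_toFun := continuous_map hB e
      continuous_invFun := continuous_map hA G }
  exact h.isHomeomorph

theorem points_map_mk_ptAt {U : Over S} {X : AlgSt.Cat S} (x : FibCat.overCat U ⥤ᵇ X) (t : ↥U.left) :
    AlgSt.Points.map x (AlgSt.Points.mk (ptAt t)) = AlgSt.Points.ofChart x t := (ofChart_eq_map x t).symm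

theorem ofChart_id {U : Over S} (t : ↥U.left) :
    AlgSt.Points.ofChart (BasedFunctor.id (FibCat.overCat U)) t = AlgSt.Points.mk (ptAt t) :=
  (ofChart_eq_map _ t).trans (points_map_id _)

theorem isHomeomorph_ptAt (U : Over S) :
    IsHomeomorph (fun t : ↥U.left => AlgSt.Points.mk (ptAt (U := U) t)) := by
  haveI : FibCat.IsFibGrpd (FibCat.overCat U).p := isFibGrpd_overCat U
  have hid : AlgSt.RepByAlgSpWith (AlgSp.LocP @Smooth) (BasedFunctor.id (FibCat.overCat U)) :=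
    repByAlgSpWith_of_isEquivOver (fun m _ => locP_smooth_of_iso m) (H9Fib.isEquivOver_id _)
  rw [show (fun t : ↥U.left => AlgSt.Points.mk (ptAt (U := U) t)) =
    AlgSt.Points.ofChart (BasedFunctor.id (FibCat.overCat U)) from funext fun t => (ofChart_id t).symm]
  refine ⟨continuous_ofChart_of_atlas (isAlgStack_overCat U).atlas _,
    isOpenMap_ofChart (smooth_flat_lfp hid).1 (smooth_flat_lfp hid).2, fun s t h => ptAt_injective ?_,
    surjective_ofChart (Y := FibCat.overCat U)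
      (repByAlgSpWith_of_isEquivOver (fun m _ => isSurjectiveMor_of_iso m) (H9Fib.isEquivOver_id _))⟩
  rwa [ofChart_id, ofChart_id] at h

/-- The points of a slice and of the scheme. -/
def uPts (U : Over S) : ↥U.left ≃ₜ AlgSt.Points (FibCat.overCat U) := (isHomeomorph_ptAt U).homeomorph _

section Model

variable {X Y : AlgSt.Cat S} [hX : FibCat.IsFibGrpd X.p] [hY : FibCat.IsFibGrpd Y.p]

/-- Points of a fibre product over a slice, against the points of its sheaf. -/
theorem exists_homeo_model {U : Over S} (y : FibCat.overCat U ⥤ᵇ Y) (f : X ⥤ᵇ Y) [Disc (FibCat.fp y f)]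
    (hsh : Presheaf.IsSheaf (AlgSp.J S) (clsPsh (FibCat.fp y f)))
    (hA : AlgSp.IsAlgSpace (⟨clsPsh (FibCat.fp y f), hsh⟩ : AlgSp.Sp S)) :
    ∃ h : AlgSt.Points (FibCat.fp y f) ≃ₜ AlgSp.Points (⟨clsPsh (FibCat.fp y f), hsh⟩ : AlgSp.Sp S),
      ∀ q, AlgSp.Points.map (ObjectProperty.homMk (projU y f) :
          (⟨clsPsh (FibCat.fp y f), hsh⟩ : AlgSp.Sp S) ⟶ (AlgSp.yon S).obj U) (h q) =
        (uPts U).symm.trans (AlgSp.Points.schemeHomeo U) (AlgSt.Points.map (FibCat.fpFst y f) q) := by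
  haveI : FibCat.IsFibGrpd (FibCat.overCat U).p := isFibGrpd_overCat U
  haveI : FibCat.IsFibGrpd (FibCat.fp y f).p := H9Fib.isFibGrpd_fp _ _
  let A : AlgSp.Sp S := ⟨clsPsh (FibCat.fp y f), hsh⟩
  obtain ⟨Φ, hΦ, hc⟩ := exists_clsEquiv (FibCat.fp y f)
  haveI : FibCat.IsFibGrpd (AlgSt.ofSp A).p := isFibGrpd_ofPsh _
  have hr : AlgSt.RepByAlgSp (FibCat.fp y f) := ⟨⟨A, hA⟩, Φ, hΦ⟩
  let hΦ' := isHomeomorph_equiv (hasAtlas_ofSp hA) (isDM_of_repByAlgSp hr).1.atlas hΦ
  let g := hΦ'.homeomorph _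
  refine ⟨g.symm.trans (spPtsHomeo hA), fun q => ?_⟩
  obtain ⟨q, rfl⟩ := g.surjective q
  have hm : AlgSt.spMapOfOver (BasedFunctor.comp Φ (FibCat.fpFst y f)) =
      (ObjectProperty.homMk (projU y f) : A ⟶ (AlgSp.yon S).obj U) :=
    ObjectProperty.hom_ext _ ((clsMap_equiv_spMap (F := A) Φ (FibCat.fpFst y f)).trans
      (by rw [hc, Iso.inv_hom_id, Category.id_comp]; rfl))
  have e : g.symm.trans (spPtsHomeo hA) (g q) = toSpPts A q :=
    congrArg (toSpPts A) (g.symm_apply_apply q)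
  rw [e, ← hm]
  refine (toSpPts_spMap (BasedFunctor.comp Φ (FibCat.fpFst y f)) q
    ((uPts U).symm (AlgSt.Points.map (FibCat.fpFst y f) (g q))) ?_).trans rfl
  show _ = uPts U _
  rw [Homeomorph.apply_symm_apply]
  exact (points_map_comp Φ (FibCat.fpFst y f) q).symm

/-- The left change of a fibre product is cartesian on points. -/
theorem exists_bc_point {W' W : AlgSt.Cat S} [FibCat.IsFibGrpd W.p] [FibCat.IsFibGrpd W'.p] (P : W' ⥤ᵇ W)
    (y : W ⥤ᵇ Y) (f : X ⥤ᵇ Y) (w' : AlgSt.Points W') (q : AlgSt.Points (FibCat.fp y f))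
    (h : AlgSt.Points.map P w' = AlgSt.Points.map (FibCat.fpFst y f) q) :
    ∃ r, AlgSt.Points.map (FibCat.fpFst (BasedFunctor.comp P y) f) r = w' ∧
      AlgSt.Points.map (bcFun P y f) r = q := by
  haveI : FibCat.IsFibGrpd (FibCat.fp y f).p := H9Fib.isFibGrpd_fp _ _
  obtain ⟨w, hw₁, hw⟩ := exists_fp_point (FibCat.fpFst y f) P w' q h
  refine ⟨AlgSt.Points.map (pasteFun P y f) w, (points_map_comp _ _ w).trans hw₁,
    (points_map_comp (pasteFun P y f) (bcFun P y f) w).trans (Eq.trans ?_ hw)⟩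
  refine points_map_iso (F := BasedFunctor.comp (pasteFun P y f) (bcFun P y f))
    (G := FibCat.fpSnd P (FibCat.fpFst y f)) (BasedNatIso.mkNatIso (NatIso.ofComponents (fun w => (FibCat.fpProp y f).isoMk
      (CategoricalPullback.mkIso w.obj.iso (Iso.refl _) ?_))
      (fun {w w'} m => ObjectProperty.hom_ext _ (CategoricalPullback.hom_ext m.hom.w
        ((Category.comp_id _).trans (Category.id_comp _).symm))))
      fun w => ?_) w
  · show y.map w.obj.iso.hom ≫ w.obj.snd.obj.iso.hom =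
      (y.map w.obj.iso.hom ≫ w.obj.snd.obj.iso.hom) ≫ f.map (𝟙 _)
    erw [f.toFunctor.map_id, Category.comp_id]
  · haveI := w.property
    refine IsHomLift.of_fac' _ _ _ (P.w_obj w.obj.fst)
      (@IsHomLift.codomain_eq _ _ _ _ W.p _ _ _ _ (𝟙 (W'.p.obj w.obj.fst)) w.obj.iso.hom w.property) ?_
    exact @IsHomLift.fac' _ _ _ _ W.p _ _ _ _ (𝟙 (W'.p.obj w.obj.fst)) w.obj.iso.hom w.property

omit hX hY in
theorem fst_bc {W' W : AlgSt.Cat S} (P : W' ⥤ᵇ W) (y : W ⥤ᵇ Y) (f : X ⥤ᵇ Y)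
    (r : AlgSt.Points (FibCat.fp (BasedFunctor.comp P y) f)) :
    AlgSt.Points.map (FibCat.fpFst y f) (AlgSt.Points.map (bcFun P y f) r) =
      AlgSt.Points.map P (AlgSt.Points.map (FibCat.fpFst (BasedFunctor.comp P y) f) r) :=
  (points_map_comp _ _ r).trans (points_map_comp (FibCat.fpFst (BasedFunctor.comp P y) f) P r).symm

/-- Images over a chart. -/
theorem preimage_image_bc {W' W : AlgSt.Cat S} [FibCat.IsFibGrpd W.p] [FibCat.IsFibGrpd W'.p] (P : W' ⥤ᵇ W)
    (y : W ⥤ᵇ Y) (f : X ⥤ᵇ Y) (O : Set (AlgSt.Points (FibCat.fp y f))) :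
    AlgSt.Points.map P ⁻¹' (AlgSt.Points.map (FibCat.fpFst y f) '' O) =
      AlgSt.Points.map (FibCat.fpFst (BasedFunctor.comp P y) f) '' (AlgSt.Points.map (bcFun P y f) ⁻¹' O) := by
  ext w'
  constructor
  · rintro ⟨q, hq, e⟩
    obtain ⟨r, h1, h2⟩ := exists_bc_point P y f w' q e.symm
    exact ⟨r, show AlgSt.Points.map (bcFun P y f) r ∈ O from h2 ▸ hq, h1⟩
  · rintro ⟨r, hr, rfl⟩
    exact ⟨_, hr, fst_bc P y f r⟩

end Model

/-! Testing on schemes -/

section Test

variable {X Y : AlgSt.Cat S} (hXa : AlgSt.IsAlgStack Scheme.fppfPrecoverage X)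
  (hYa : AlgSt.IsAlgStack Scheme.fppfPrecoverage Y) (f : X ⥤ᵇ Y) {Z : AlgSt.Cat S}
  (hZa : AlgSt.IsAlgStack Scheme.fppfPrecoverage Z) (g : Z ⥤ᵇ Y)

theorem isOpen_of_ofChart {O : Set (AlgSt.Points Z)}
    (h : ∀ (V : Over S) (x : FibCat.overCat V ⥤ᵇ Z), IsOpen (AlgSt.Points.map x ⁻¹' O)) : IsOpen O :=
  AlgSt.Points.isOpen_iff.2 fun V x _ => (h V x).preimage (uPts V).continuous

include hXa hYa hZa

theorem continuous_fst : Continuous (AlgSt.Points.map (FibCat.fpFst g f)) := by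
  haveI := hXa.isStack.1; haveI := hYa.isStack.1; haveI := hZa.isStack.1
  haveI := (isAlgStack_fp' hZa hXa hYa g f).isStack.1
  exact continuous_map hZa.atlas _

theorem continuous_bc {V : Over S} (x : FibCat.overCat V ⥤ᵇ Z) : Continuous (AlgSt.Points.map (bcFun x g f)) := by
  haveI := hXa.isStack.1; haveI := hYa.isStack.1; haveI := hZa.isStack.1
  haveI := (isAlgStack_fp' hZa hXa hYa g f).isStack.1
  haveI := (isAlgStack_fp' (isAlgStack_overCat V) hXa hYa (BasedFunctor.comp x g) f).isStack.1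
  exact continuous_map (isAlgStack_fp' hZa hXa hYa g f).atlas _

theorem isOpenMap_fst (h : ∀ (U : Over S) (y : FibCat.overCat U ⥤ᵇ Y), IsOpenMap (AlgSt.Points.map (FibCat.fpFst y f))) :
    IsOpenMap (AlgSt.Points.map (FibCat.fpFst g f)) := by
  haveI := hXa.isStack.1; haveI := hYa.isStack.1; haveI := hZa.isStack.1
  intro O hO
  refine isOpen_of_ofChart fun V x => ?_
  haveI : FibCat.IsFibGrpd (FibCat.overCat V).p := isFibGrpd_overCat V
  rw [preimage_image_bc]
  exact h V _ _ (hO.preimage (continuous_bc hXa hYa f hZa g x))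

theorem isClosedMap_fst (h : ∀ (U : Over S) (y : FibCat.overCat U ⥤ᵇ Y), IsClosedMap (AlgSt.Points.map (FibCat.fpFst y f))) :
    IsClosedMap (AlgSt.Points.map (FibCat.fpFst g f)) := by
  haveI := hXa.isStack.1; haveI := hYa.isStack.1; haveI := hZa.isStack.1
  intro O hO
  rw [← isOpen_compl_iff]
  refine isOpen_of_ofChart fun V x => ?_
  haveI : FibCat.IsFibGrpd (FibCat.overCat V).p := isFibGrpd_overCat V
  rw [Set.preimage_compl, preimage_image_bc, isOpen_compl_iff]
  exact h V _ _ (hO.preimage (continuous_bc hXa hYa f hZa g x))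

theorem injective_fst (h : ∀ (U : Over S) (y : FibCat.overCat U ⥤ᵇ Y), Function.Injective (AlgSt.Points.map (FibCat.fpFst y f))) :
    Function.Injective (AlgSt.Points.map (FibCat.fpFst g f)) := by
  haveI := hXa.isStack.1; haveI := hYa.isStack.1; haveI := hZa.isStack.1
  intro q q' e
  obtain ⟨U, u, -, hus⟩ := hZa.atlas
  haveI : FibCat.IsFibGrpd (FibCat.overCat U).p := isFibGrpd_overCat U
  obtain ⟨w, hw⟩ := isSurjective_of_rep hus (AlgSt.Points.map (FibCat.fpFst g f) q)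
  obtain ⟨r, h1, rfl⟩ := exists_bc_point u g f w q hw
  obtain ⟨r', h1', rfl⟩ := exists_bc_point u g f w q' (hw.trans e)
  rw [h U _ (h1.trans h1'.symm)]

theorem surjective_fst (h : ∀ (U : Over S) (y : FibCat.overCat U ⥤ᵇ Y), Function.Surjective (AlgSt.Points.map (FibCat.fpFst y f))) :
    Function.Surjective (AlgSt.Points.map (FibCat.fpFst g f)) := by
  haveI := hXa.isStack.1; haveI := hYa.isStack.1; haveI := hZa.isStack.1
  intro z
  obtain ⟨U, u, -, hus⟩ := hZa.atlas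
  haveI : FibCat.IsFibGrpd (FibCat.overCat U).p := isFibGrpd_overCat U
  obtain ⟨w, rfl⟩ := isSurjective_of_rep hus z
  obtain ⟨r, rfl⟩ := h U (BasedFunctor.comp u g) w
  exact ⟨_, fst_bc u g f r⟩

theorem isHomeomorph_fst (h : ∀ (U : Over S) (y : FibCat.overCat U ⥤ᵇ Y), IsHomeomorph (AlgSt.Points.map (FibCat.fpFst y f))) :
    IsHomeomorph (AlgSt.Points.map (FibCat.fpFst g f)) :=
  ⟨continuous_fst hXa hYa f hZa g, isOpenMap_fst hXa hYa f hZa g fun U y => (h U y).isOpenMap,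
    injective_fst hXa hYa f hZa g fun U y => (h U y).bijective.1,
    surjective_fst hXa hYa f hZa g fun U y => (h U y).bijective.2⟩

theorem isQuotientMap_fst (h : ∀ (U : Over S) (y : FibCat.overCat U ⥤ᵇ Y), Topology.IsQuotientMap (AlgSt.Points.map (FibCat.fpFst y f))) :
    Topology.IsQuotientMap (AlgSt.Points.map (FibCat.fpFst g f)) := by
  haveI := hXa.isStack.1; haveI := hYa.isStack.1; haveI := hZa.isStack.1
  rw [Topology.isQuotientMap_iff]
  refine ⟨Topology.isCoinducing_iff.2 fun O => ⟨fun hO => isOpen_of_ofChart fun V x => ?_,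
    fun hO => hO.preimage (continuous_fst hXa hYa f hZa g)⟩, surjective_fst hXa hYa f hZa g fun U y => (h U y).surjective⟩
  rw [← (h V (BasedFunctor.comp x g)).isOpen_preimage]
  have e : AlgSt.Points.map (FibCat.fpFst (BasedFunctor.comp x g) f) ⁻¹' (AlgSt.Points.map x ⁻¹' O) =
      AlgSt.Points.map (bcFun x g f) ⁻¹' (AlgSt.Points.map (FibCat.fpFst g f) ⁻¹' O) := by
    ext r
    simp only [Set.mem_preimage, fst_bc]
  rw [e]
  exact hO.preimage (continuous_bc hXa hYa f hZa g x)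

end Test

/-! Comparison -/

/-- A kind of continuous maps, invariant under homeomorphisms. -/
def ConjInv (Q : ∀ (A B : Type (u + 1)) [TopologicalSpace A] [TopologicalSpace B], (A → B) → Prop) : Prop :=
  ∀ (A B A' B' : Type (u + 1)) [TopologicalSpace A] [TopologicalSpace B] [TopologicalSpace A'] [TopologicalSpace B']
    (h : A ≃ₜ A') (k : B ≃ₜ B') (m : A → B) (m' : A' → B'), (∀ a, m' (h a) = k (m a)) → (Q A B m ↔ Q A' B' m')

theorem conj_eq {A B A' B' : Type*} [TopologicalSpace A] [TopologicalSpace B] [TopologicalSpace A'] [TopologicalSpace B']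
    (h : A ≃ₜ A') (k : B ≃ₜ B') {m : A → B} {m' : A' → B'} (e : ∀ a, m' (h a) = k (m a)) :
    m' = k ∘ m ∘ h.symm ∧ m = k.symm ∘ m' ∘ h := by
  constructor
  · funext a; obtain ⟨a, rfl⟩ := h.surjective a; simp [e]
  · funext a; simp [e]

theorem conjInv_open : ConjInv (fun A B _ _ m => IsOpenMap m) := fun A B A' B' _ _ _ _ h k m m' e =>
  ⟨fun hm => (conj_eq h k e).1 ▸ k.isOpenMap.comp (hm.comp h.symm.isOpenMap),
    fun hm => (conj_eq h k e).2 ▸ k.symm.isOpenMap.comp (hm.comp h.isOpenMap)⟩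

theorem conjInv_closed : ConjInv (fun A B _ _ m => IsClosedMap m) := fun A B A' B' _ _ _ _ h k m m' e =>
  ⟨fun hm => (conj_eq h k e).1 ▸ k.isClosedMap.comp (hm.comp h.symm.isClosedMap),
    fun hm => (conj_eq h k e).2 ▸ k.symm.isClosedMap.comp (hm.comp h.isClosedMap)⟩

theorem conjInv_injective : ConjInv (fun A B _ _ m => Function.Injective m) := fun A B A' B' _ _ _ _ h k m m' e =>
  ⟨fun hm => (conj_eq h k e).1 ▸ k.injective.comp (hm.comp h.symm.injective),
    fun hm => (conj_eq h k e).2 ▸ k.symm.injective.comp (hm.comp h.injective)⟩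

theorem conjInv_homeo : ConjInv (fun A B _ _ m => IsHomeomorph m) := fun A B A' B' _ _ _ _ h k m m' e =>
  ⟨fun hm => (conj_eq h k e).1 ▸ k.isHomeomorph.comp (hm.comp h.symm.isHomeomorph),
    fun hm => (conj_eq h k e).2 ▸ k.symm.isHomeomorph.comp (hm.comp h.isHomeomorph)⟩

theorem conjInv_quotient : ConjInv (fun A B _ _ m => Topology.IsQuotientMap m) := fun A B A' B' _ _ _ _ h k m m' e =>
  ⟨fun hm => (conj_eq h k e).1 ▸ k.isQuotientMap.comp (hm.comp h.symm.isQuotientMap),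
    fun hm => (conj_eq h k e).2 ▸ k.symm.isQuotientMap.comp (hm.comp h.isQuotientMap)⟩

variable (Q : ∀ (A B : Type (u + 1)) [TopologicalSpace A] [TopologicalSpace B], (A → B) → Prop)

/-- The property of morphisms of spaces attached to a kind of maps. -/
def onPts : MorphismProperty (AlgSp.Sp S) := fun _ _ m => Q _ _ (AlgSp.Points.map m)

/-- A universal topological property through schemes. -/
theorem rep_univ_iff (hQ : ConjInv Q) (hQd : ASp.DescendsRefines (onPts (S := S) Q)) {X Y : AlgSt.Cat S}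
    [hX : FibCat.IsFibGrpd X.p] [hY : FibCat.IsFibGrpd Y.p] {f : X ⥤ᵇ Y} (hf : AlgSt.RepByAlgSp1 f) :
    AlgSt.RepByAlgSpWith (AlgSp.UnivSp (onPts Q)) f ↔
      ∀ (U : Over S) (y : FibCat.overCat U ⥤ᵇ Y), Q _ _ (AlgSt.Points.map (FibCat.fpFst y f)) := by
  haveI : (AlgSp.UnivSp (onPts (S := S) Q)).RespectsIso :=
    respectsIso_of_bc fun _ _ _ _ _ _ _ _ sq h => ASp.univSp_baseChange sq h
  constructor
  · intro h U y
    haveI : FibCat.IsFibGrpd (FibCat.overCat U).p := isFibGrpd_overCat U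
    obtain ⟨hd, hsh, hA, hU⟩ := (repByAlgSpWith_iff f).1 h U y
    haveI := hd
    obtain ⟨φ, hφ⟩ := exists_homeo_model y f hsh hA
    refine (hQ _ _ _ _ φ ((uPts U).symm.trans (AlgSp.Points.schemeHomeo U)) _ _ hφ).2 ?_
    exact hU (AlgSp.IsAlgSpace.yon_obj U) (𝟙 _) (𝟙 (⟨clsPsh (FibCat.fp y f), hsh⟩ : AlgSp.Sp S))
      (ObjectProperty.homMk (projU y f))
      (IsPullback.of_horiz_isIso ⟨(Category.id_comp _).trans (Category.comp_id _).symm⟩)
  · intro h
    refine (repByAlgSpWith_iff f).2 fun U y => ?_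
    haveI : FibCat.IsFibGrpd (FibCat.overCat U).p := isFibGrpd_overCat U
    haveI : FibCat.IsFibGrpd (FibCat.fp y f).p := H9Fib.isFibGrpd_fp _ _
    obtain ⟨hd, hsh, hA⟩ := repByAlgSp_iff.1 (hf U y)
    refine ⟨hd, hsh, hA, ASp.univSp_of_affine hQd fun Z _ g P fst snd sq => ?_⟩
    obtain ⟨c, rfl⟩ := (AlgSp.yon S).map_surjective g
    haveI : FibCat.IsFibGrpd (FibCat.overCat Z).p := isFibGrpd_overCat Z
    let y' := BasedFunctor.comp (AlgSt.overMap c) y
    haveI : FibCat.IsFibGrpd (FibCat.fp y' f).p := H9Fib.isFibGrpd_fp _ _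
    obtain ⟨hd', hsh', hA'⟩ := repByAlgSp_iff.1 (hf Z y')
    haveI := hd
    haveI := hd'
    have sq1 : IsPullback (clsMap (bcFun (AlgSt.overMap c) y f)) (projU y' f) (projU y f) ((AlgSp.pyon S).map c) :=
      (isPullback_bc (AlgSt.overMap c) y f).of_iso (Iso.refl _) (Iso.refl _) (clsOverCat Z) (clsOverCat U) (by simp)
        (by simp [projU]; rfl) (by simp [projU]) (clsMap_overMap c)
    have sq' := sq.map (ASp.toP S)
    let i := sq1.isoIsPullback _ _ sq'
    let i' : (⟨clsPsh (FibCat.fp y' f), hsh'⟩ : AlgSp.Sp S) ≅ P :=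
      (fullyFaithfulSheafToPresheaf (AlgSp.J S) (Type (u + 1))).preimageIso
        (X := (⟨clsPsh (FibCat.fp y' f), hsh'⟩ : AlgSp.Sp S)) (Y := P) i
    let m : (⟨clsPsh (FibCat.fp y' f), hsh'⟩ : AlgSp.Sp S) ⟶ (AlgSp.yon S).obj Z :=
      ObjectProperty.homMk (projU y' f)
    have hm : i'.hom ≫ snd = m := ObjectProperty.hom_ext _ (sq1.isoIsPullback_hom_snd _ _ sq')
    obtain ⟨φ, hφ⟩ := exists_homeo_model y' f hsh' hA'
    let ψ : AlgSp.Points (⟨clsPsh (FibCat.fp y' f), hsh'⟩ : AlgSp.Sp S) ≃ₜ AlgSp.Points P :=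
      { toFun := AlgSp.Points.map i'.hom
        invFun := AlgSp.Points.map i'.inv
        left_inv := fun z => by rw [← AlgSp.Points.map_comp, i'.hom_inv_id, AlgSp.Points.map_id]
        right_inv := fun z => by rw [← AlgSp.Points.map_comp, i'.inv_hom_id, AlgSp.Points.map_id]
        continuous_toFun := AlgSp.Points.continuous_map _
        continuous_invFun := AlgSp.Points.continuous_map _ }
    refine (hQ _ _ _ _ (φ.trans ψ) ((uPts Z).symm.trans (AlgSp.Points.schemeHomeo Z)) _ _ fun q => ?_).1 (h Z y')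
    show AlgSp.Points.map snd (AlgSp.Points.map i'.hom (φ q)) = _
    rw [← AlgSp.Points.map_comp, hm]
    exact hφ q

end Groth.Agent.H9St
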