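import Mathlib

/-! Open continuous images of noetherian sober spaces. -/

set_option autoImplicit false
set_option backward.isDefEq.respectTransparency.types false

open Topology TopologicalSpace Set

namespace Groth.Agent.H9Top

universe v w

variable {U : Type v} [TopologicalSpace U] [NoetherianSpace U] [QuasiSober U] {X : Type w} [TopologicalSpace X]

theorem exists_isGenericPoint_of_noetherian {π : U → X} (hc : Continuous π) (ho : IsOpenMap π)
    {T : Set X} (hTc : IsClosed T) (hT : IsPreirreducible T) (hne : (π ⁻¹' T).Nonempty) :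
    ∃ x, IsGenericPoint x T := by
  obtain ⟨W, hW, hWc, hWi, hWu⟩ :=
    NoetherianSpace.exists_finite_set_isClosed_irreducible (α := U) (hTc.preimage hc)
  obtain ⟨u₀, hu₀⟩ := hne
  have hsub : T ⊆ closure (π '' (π ⁻¹' T)) := by
    intro y hy
    refine mem_closure_iff.2 fun O hO hyO => ?_
    obtain ⟨z, hzT, ⟨u, -, rfl⟩, hzO⟩ := hT _ _ (ho univ isOpen_univ) hO ⟨π u₀, hu₀, u₀, trivial, rfl⟩ ⟨y, hy, hyO⟩
    exact ⟨π u, hzO, u, hzT, rfl⟩
  rw [hWu, Set.sUnion_eq_biUnion, Set.image_iUnion₂, hW.closure_biUnion] at hsub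
  obtain ⟨C, hC, hTC⟩ : ∃ C ∈ W, T ⊆ closure (π '' C) := by
    have := isIrreducible_iff_sUnion_isClosed.1 ⟨⟨π u₀, hu₀⟩, hT⟩ (hW.toFinset.image fun C => closure (π '' C))
      (by intro z hz; obtain ⟨C, -, rfl⟩ := Finset.mem_image.1 hz; exact isClosed_closure)
      (by
        intro y hy
        obtain ⟨C, hC, hy'⟩ := Set.mem_iUnion₂.1 (hsub hy)
        exact ⟨_, Finset.mem_image_of_mem _ (hW.mem_toFinset.2 hC), hy'⟩)
    obtain ⟨z, hz, hTz⟩ := this
    obtain ⟨C, hC, rfl⟩ := Finset.mem_image.1 hz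
    exact ⟨C, hW.mem_toFinset.1 hC, hTz⟩
  obtain ⟨η, hη⟩ := QuasiSober.sober (hWi C hC) (hWc C hC)
  have hηT : π η ∈ T := by
    have : η ∈ π ⁻¹' T := hWu.symm ▸ ⟨C, hC, hη.mem⟩
    exact this
  refine ⟨π η, (closure_minimal (singleton_subset_iff.2 hηT) hTc).antisymm (hTC.trans ?_)⟩
  refine closure_minimal ?_ isClosed_closure
  rintro _ ⟨u, hu, rfl⟩
  exact ((hη.specializes hu).map hc).mem_closure

end Groth.Agent.H9Top
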