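import Groth.Agent.Lib.SeqColim
import Mathlib

/-! A cofinal subsequence has the same homotopy colimit. -/

set_option autoImplicit false
set_option backward.isDefEq.respectTransparency.types false

universe v u

open CategoryTheory CategoryTheory.Limits CategoryTheory.Pretriangulated
open Groth.Agent.Lib.SeqColim

noncomputable section

namespace Groth.Agent.Lib.HocolimCofinal

variable {D : Type u} [Category.{v} D] [Preadditive D] (F : ℕ ⥤ D) [HasCoproduct (fun m : ℕ => F.obj m)]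

/-- transition map followed by the inclusion -/
def g (m k : ℕ) : F.obj m ⟶ ∐ (fun m : ℕ => F.obj m) :=
  if h : m ≤ k then F.map (homOfLE h) ≫ Sigma.ι (fun m : ℕ => F.obj m) k else 0

theorem g_eq {m k : ℕ} (h : m ≤ k) : g F m k = F.map (homOfLE h) ≫ Sigma.ι (fun m : ℕ => F.obj m) k := dif_pos h

theorem g_self (m : ℕ) : g F m m = Sigma.ι (fun m : ℕ => F.obj m) m := by
  rw [g_eq F le_rfl]; simp

theorem map_g {m m' k : ℕ} (h : m ≤ m') (h' : m' ≤ k) : F.map (homOfLE h) ≫ g F m' k = g F m k := by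
  rw [g_eq F h', g_eq F (h.trans h'), ← Category.assoc, ← F.map_comp, homOfLE_comp]

local notation "d" => (𝟙 (∐ fun m : ℕ => F.obj m) - DerLim.shiftMap (fun m : ℕ => F.obj m) (fun m : ℕ => F.map (homOfLE (Nat.le_succ m))))

theorem g_d {m k : ℕ} (h : m ≤ k) : g F m k ≫ d = g F m k - g F m (k + 1) := by
  rw [g_eq F h, g_eq F (h.trans (Nat.le_succ k)), Category.assoc, ι_one_sub (fun m : ℕ => F.obj m),
    Preadditive.comp_sub, ← Category.assoc, ← F.map_comp, homOfLE_comp]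

theorem sum_d {m a b : ℕ} (h : m ≤ a) (hab : a ≤ b) :
    (∑ k ∈ Finset.Ico a b, g F m k) ≫ d = g F m a - g F m b := by
  induction b, hab using Nat.le_induction with
  | base => simp
  | succ b hab ih =>
    rw [Finset.sum_Ico_succ_top hab, Preadditive.add_comp, ih, g_d F (h.trans hab)]
    abel

variable (n : ℕ → ℕ) (hn : StrictMono n) [HasCoproduct (fun i : ℕ => F.obj (n i))]

local notation "d'" => (𝟙 (∐ fun i : ℕ => F.obj (n i)) - DerLim.shiftMap (fun i : ℕ => F.obj (n i)) (fun i : ℕ => F.map (homOfLE (hn.monotone (Nat.le_succ i)))))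

/-- the first index of the subsequence above `m` -/
def idx (m : ℕ) : ℕ := Nat.find (⟨m, hn.id_le m⟩ : ∃ i, m ≤ n i)

theorem le_idx (m : ℕ) : m ≤ n (idx n hn m) := Nat.find_spec (⟨m, hn.id_le m⟩ : ∃ i, m ≤ n i)

theorem idx_le {m i : ℕ} (h : m ≤ n i) : idx n hn m ≤ i := Nat.find_min' _ h

theorem idx_n (i : ℕ) : idx n hn (n i) = i :=
  le_antisymm (idx_le n hn le_rfl) (hn.le_iff_le.1 (le_idx n hn (n i)))

theorem idx_succ_of_ne {m : ℕ} (h : n (idx n hn m) ≠ m) : idx n hn (m + 1) = idx n hn m := by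
  refine le_antisymm (idx_le n hn ?_) (idx_le n hn (le_trans (Nat.le_succ m) (le_idx n hn (m + 1))))
  exact Nat.succ_le_of_lt (lt_of_le_of_ne (le_idx n hn m) (Ne.symm h))

theorem idx_succ_n (i : ℕ) : idx n hn (n i + 1) = i + 1 := by
  refine le_antisymm (idx_le n hn (hn (Nat.lt_succ_self i))) ?_
  by_contra hc
  have := le_trans (le_idx n hn (n i + 1)) (hn.monotone (Nat.le_of_lt_succ (Nat.lt_of_not_le hc)))
  omega

local notation "S" => (∐ fun i : ℕ => F.obj (n i))
local notation "T" => (∐ fun m : ℕ => F.obj m)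

/-- middle map -/
def a : S ⟶ T := Sigma.desc fun i => Sigma.ι (fun m : ℕ => F.obj m) (n i)

/-- first map -/
def b : S ⟶ T := Sigma.desc fun i => ∑ k ∈ Finset.Ico (n i) (n (i + 1)), g F (n i) k

theorem b_d : b F n ≫ d = d' ≫ a F n := by
  refine Sigma.hom_ext _ _ fun i => ?_
  rw [b, ← Category.assoc, Sigma.ι_desc, sum_d F le_rfl (hn.monotone (Nat.le_succ i)), ← Category.assoc,
    ι_one_sub (fun i : ℕ => F.obj (n i)), Preadditive.sub_comp, a, Sigma.ι_desc, Category.assoc, Sigma.ι_desc,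
    g_self, g_eq F (hn.monotone (Nat.le_succ i))]

/-- backwards middle map -/
def p : T ⟶ S :=
  Sigma.desc fun m => F.map (homOfLE (le_idx n hn m)) ≫ Sigma.ι (fun i : ℕ => F.obj (n i)) (idx n hn m)

/-- backwards first map -/
def q : T ⟶ S :=
  Sigma.desc fun m => if n (idx n hn m) = m then
    F.map (homOfLE (le_idx n hn m)) ≫ Sigma.ι (fun i : ℕ => F.obj (n i)) (idx n hn m) else 0

/-- homotopy -/
def h : T ⟶ T := Sigma.desc fun m => - ∑ k ∈ Finset.Ico m (n (idx n hn m)), g F m k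

theorem congr_idx {m i j : ℕ} (hij : i = j) (hi : m ≤ n i) (hj : m ≤ n j) :
    F.map (homOfLE hi) ≫ Sigma.ι (fun i : ℕ => F.obj (n i)) i =
      F.map (homOfLE hj) ≫ Sigma.ι (fun i : ℕ => F.obj (n i)) j := by
  subst hij; rfl

theorem a_p : a F n ≫ p F n hn = 𝟙 _ := by
  refine Sigma.hom_ext _ _ fun i => ?_
  rw [a, ← Category.assoc, Sigma.ι_desc, p, Sigma.ι_desc, congr_idx F n (idx_n n hn i) _ le_rfl, Category.comp_id]
  simp

theorem g_q {m k : ℕ} (hmk : m ≤ k) :
    g F m k ≫ q F n hn = if n (idx n hn k) = k then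
      F.map (homOfLE (hmk.trans (le_idx n hn k))) ≫ Sigma.ι (fun i : ℕ => F.obj (n i)) (idx n hn k) else 0 := by
  rw [g_eq F hmk, Category.assoc, q, Sigma.ι_desc]
  split_ifs with hk
  · rw [← Category.assoc, ← F.map_comp, homOfLE_comp]
  · rw [comp_zero]

theorem b_q : b F n ≫ q F n hn = 𝟙 _ := by
  refine Sigma.hom_ext _ _ fun i => ?_
  rw [b, ← Category.assoc, Sigma.ι_desc, Preadditive.sum_comp, Finset.sum_eq_single (n i)]
  · rw [g_q F n hn le_rfl, if_pos (congrArg n (idx_n n hn i)), congr_idx F n (idx_n n hn i) _ le_rfl, Category.comp_id]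
    simp
  · intro k hk hne
    obtain ⟨h1, h2⟩ := Finset.mem_Ico.1 hk
    rw [g_q F n hn h1, if_neg]
    intro hc
    have e1 : i < idx n hn k := hn.lt_iff_lt.1 (by omega)
    have e2 : idx n hn k < i + 1 := hn.lt_iff_lt.1 (by omega)
    omega
  · intro hc; exact absurd (Finset.mem_Ico.2 ⟨le_rfl, hn (Nat.lt_succ_self i)⟩) hc

theorem q_d : q F n hn ≫ d' = d ≫ p F n hn := by
  refine Sigma.hom_ext _ _ fun m => ?_
  rw [q, ← Category.assoc, Sigma.ι_desc, ← Category.assoc, ι_one_sub (fun m : ℕ => F.obj m), Preadditive.sub_comp, p,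
    Sigma.ι_desc, Category.assoc, Sigma.ι_desc, ← Category.assoc, ← F.map_comp, homOfLE_comp]
  by_cases hm : n (idx n hn m) = m
  · rw [if_pos hm, Category.assoc, ι_one_sub (fun i : ℕ => F.obj (n i)), Preadditive.comp_sub, ← Category.assoc,
      ← F.map_comp, homOfLE_comp]
    congr 1
    refine congr_idx F n ?_ _ _
    have := idx_succ_n n hn (idx n hn m)
    rw [hm] at this
    exact this.symm
  · rw [if_neg hm, zero_comp]
    exact (sub_eq_zero.2 (congr_idx F n (idx_succ_of_ne n hn hm).symm _ _)).symm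

theorem h_d : h F n hn ≫ d = p F n hn ≫ a F n - 𝟙 _ := by
  refine Sigma.hom_ext _ _ fun m => ?_
  rw [h, ← Category.assoc, Sigma.ι_desc, Preadditive.neg_comp, sum_d F le_rfl (le_idx n hn m), Preadditive.comp_sub,
    p, ← Category.assoc, Sigma.ι_desc, Category.assoc, a, Sigma.ι_desc, Category.comp_id, g_self, g_eq F (le_idx n hn m)]
  abel

theorem d_h : d ≫ h F n hn = q F n hn ≫ b F n - 𝟙 _ := by
  refine Sigma.hom_ext _ _ fun m => ?_
  rw [← Category.assoc, ι_one_sub (fun m : ℕ => F.obj m), Preadditive.sub_comp, h, Sigma.ι_desc, Category.assoc,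
    Sigma.ι_desc, Preadditive.comp_sub, Category.comp_id, q, ← Category.assoc, Sigma.ι_desc, Preadditive.comp_neg,
    Preadditive.comp_sum]
  have e1 : ∑ k ∈ Finset.Ico (m + 1) (n (idx n hn (m + 1))), F.map (homOfLE (Nat.le_succ m)) ≫ g F (m + 1) k =
      ∑ k ∈ Finset.Ico (m + 1) (n (idx n hn (m + 1))), g F m k :=
    Finset.sum_congr rfl fun k hk => map_g F _ (Finset.mem_Ico.1 hk).1
  rw [e1]
  by_cases hm : n (idx n hn m) = m
  · have hs : idx n hn (m + 1) = idx n hn m + 1 := by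
      have := idx_succ_n n hn (idx n hn m)
      rwa [hm] at this
    have hlt : m < n (idx n hn m + 1) := by
      have := hn (Nat.lt_succ_self (idx n hn m)); simp only [hm] at this; exact this
    have e2 : F.map (homOfLE (le_idx n hn m)) ≫ Sigma.ι (fun i : ℕ => F.obj (n i)) (idx n hn m) ≫ b F n =
        ∑ k ∈ Finset.Ico m (n (idx n hn m + 1)), g F m k := by
      rw [b, Sigma.ι_desc, Preadditive.comp_sum]
      exact Finset.sum_congr (by rw [hm]) fun k hk => map_g F _ (hm.trans_le (Finset.mem_Ico.1 hk).1)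
    rw [if_pos hm, Category.assoc, e2, hs, hm, Finset.Ico_self, Finset.sum_empty, Finset.sum_eq_sum_Ico_succ_bot hlt,
      g_self]
    abel
  · have hlt : m < n (idx n hn m) := lt_of_le_of_ne (le_idx n hn m) (Ne.symm hm)
    rw [if_neg hm, zero_comp, idx_succ_of_ne n hn hm, Finset.sum_eq_sum_Ico_succ_bot hlt (f := fun k => g F m k), g_self]
    abel

variable [HasZeroObject D] [HasShift D ℤ] [∀ z : ℤ, (shiftFunctor D z).Additive] [Pretriangulated D]

include hn in
theorem iso (L : D) (ι : ∀ m : ℕ, F.obj m ⟶ L)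
    (hL : DerLim.IsHocolim (fun m : ℕ => F.obj m) (fun m : ℕ => F.map (homOfLE (Nat.le_succ m))) L ι)
    (L' : D) (ι' : ∀ i : ℕ, F.obj (n i) ⟶ L')
    (hL' : DerLim.IsHocolim (fun i : ℕ => F.obj (n i)) (fun i : ℕ => F.map (homOfLE (hn.monotone (Nat.le_succ i)))) L' ι') :
    ∃ e : L' ≅ L, ∀ i : ℕ, ι' i ≫ e.hom = ι (n i) := by
  obtain ⟨c, hT⟩ := hL
  obtain ⟨c', hT'⟩ := hL'
  obtain ⟨ψ, hψ₁, hψ₂⟩ : ∃ x : L' ⟶ L, Sigma.desc ι' ≫ x = a F n ≫ Sigma.desc ι ∧
      c' ≫ (b F n)⟦(1 : ℤ)⟧' = x ≫ c :=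
    complete_distinguished_triangle_morphism (Triangle.mk d' (Sigma.desc ι') c') (Triangle.mk d (Sigma.desc ι) c)
      hT' hT (b F n) (a F n) (b_d F n hn).symm
  obtain ⟨φ, hφ₁, hφ₂⟩ : ∃ x : L ⟶ L', Sigma.desc ι ≫ x = p F n hn ≫ Sigma.desc ι' ∧
      c ≫ (q F n hn)⟦(1 : ℤ)⟧' = x ≫ c' :=
    complete_distinguished_triangle_morphism (Triangle.mk d (Sigma.desc ι) c) (Triangle.mk d' (Sigma.desc ι') c')
      hT hT' (q F n hn) (p F n hn) (q_d F n hn).symm
  -- a composite fixing the middle and the connecting map is unipotent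
  have key : ∀ {U U' W : D} (x : U ⟶ U') (y : U' ⟶ W) (z : W ⟶ U⟦(1 : ℤ)⟧),
      Triangle.mk x y z ∈ distinguishedTriangles → ∀ θ : W ⟶ W, y ≫ θ = y → θ ≫ z = z → IsIso θ := by
    intro U U' W x y z hxyz θ h1 h2
    obtain ⟨u, hu⟩ : ∃ u : U⟦(1 : ℤ)⟧ ⟶ W, θ - 𝟙 W = z ≫ u := Triangle.yoneda_exact₃ _ hxyz (θ - 𝟙 W)
      (by change y ≫ (θ - 𝟙 W) = 0; rw [Preadditive.comp_sub, h1, Category.comp_id, sub_self])
    have hsq : (θ - 𝟙 W) ≫ (θ - 𝟙 W) = 0 := by
      conv_lhs => arg 2; rw [hu]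
      rw [← Category.assoc, Preadditive.sub_comp, h2, Category.id_comp, sub_self, zero_comp]
    simp only [Preadditive.sub_comp, Preadditive.comp_sub, Category.id_comp, Category.comp_id] at hsq
    refine ⟨𝟙 W - (θ - 𝟙 W), ?_, ?_⟩ <;>
      simp only [Preadditive.sub_comp, Preadditive.comp_sub, Category.id_comp, Category.comp_id] <;>
      rw [← sub_eq_zero] <;> rw [← neg_eq_zero] <;> refine Eq.trans ?_ hsq <;> abel
  haveI h1 : IsIso (ψ ≫ φ) := by
    refine key _ _ _ hT' _ ?_ ?_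
    · rw [← Category.assoc, hψ₁, Category.assoc, hφ₁, ← Category.assoc, a_p, Category.id_comp]
    · rw [Category.assoc, ← hφ₂, ← Category.assoc, ← hψ₂, Category.assoc, ← Functor.map_comp, b_q,
        CategoryTheory.Functor.map_id, Category.comp_id]
  haveI h2 : IsIso (φ ≫ ψ) := by
    have hz : d ≫ Sigma.desc ι = 0 := comp_distTriang_mor_zero₁₂ _ hT
    have hz' : c ≫ d⟦(1 : ℤ)⟧' = 0 := comp_distTriang_mor_zero₃₁ _ hT
    refine key _ _ _ hT _ ?_ ?_
    · rw [← Category.assoc, hφ₁, Category.assoc, hψ₁, ← Category.assoc,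
        ← sub_add_cancel (p F n hn ≫ a F n) (𝟙 _), ← h_d, Preadditive.add_comp, Category.assoc, hz, comp_zero,
        zero_add, Category.id_comp]
    · rw [Category.assoc, ← hψ₂, ← Category.assoc, ← hφ₂, Category.assoc, ← Functor.map_comp,
        ← sub_add_cancel (q F n hn ≫ b F n) (𝟙 _), ← d_h, Functor.map_add, Functor.map_comp,
        CategoryTheory.Functor.map_id, Preadditive.comp_add, Category.comp_id, ← Category.assoc, hz', zero_comp,
        zero_add]
  haveI : Mono ψ := mono_of_mono ψ φ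
  haveI : IsSplitEpi ψ := IsSplitEpi.mk' ⟨inv (φ ≫ ψ) ≫ φ, by rw [Category.assoc]; exact IsIso.inv_hom_id _⟩
  haveI : IsIso ψ := isIso_of_mono_of_isSplitEpi ψ
  refine ⟨asIso ψ, fun i => ?_⟩
  have := Sigma.ι (fun i : ℕ => F.obj (n i)) i ≫= hψ₁
  rw [← Category.assoc, Sigma.ι_desc, ← Category.assoc, a, Sigma.ι_desc, Sigma.ι_desc] at this
  exact this

end Groth.Agent.Lib.HocolimCofinal
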