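/-
Matlis duality over a Noetherian local ring: endomorphisms of the hull, artinianness, dualities.
-/
import Groth.Agent.Lib.MatlisBasic
import Groth.Agent.Lib.CompleteNoetherian
import Mathlib.RingTheory.Artinian.Module
import Mathlib.RingTheory.AdicCompletion.Algebra
import Mathlib.RingTheory.SimpleModule.Basic

universe u

open InjHull

namespace Groth.Agent.Matlis

variable {R : Type u} [CommRing R] [IsLocalRing R] {E : Type u} [AddCommGroup E] [Module R E]
  {f : IsLocalRing.ResidueField R →ₗ[R] E}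

local notation "𝔪" => IsLocalRing.maximalIdeal R

variable (R E) in
/-- The submodule of elements killed by `𝔪 ^ n`. -/
abbrev T (n : ℕ) : Submodule R E := LocCoh.torsionBy (IsLocalRing.maximalIdeal R ^ n) E

theorem mem_T {n : ℕ} {e : E} : e ∈ T R E n ↔ ∀ a ∈ 𝔪 ^ n, a • e = 0 := by
  rw [Submodule.mem_torsionBySet_iff]
  exact ⟨fun h a ha => h ⟨a, ha⟩, fun h a => h a.1 a.2⟩

theorem T_mono {n k : ℕ} (h : n ≤ k) : T R E n ≤ T R E k := fun _ he =>
  mem_T.mpr fun a ha => mem_T.mp he a (Ideal.pow_le_pow_right h ha)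

variable [IsNoetherianRing R]

theorem exists_mem_T (hf : IsInjectiveHull f) (e : E) : ∃ n, e ∈ T R E n := by
  obtain ⟨n, hn⟩ := isPowerTorsion hf e
  exact ⟨n, mem_T.mpr hn⟩

theorem exists_scalar (hf : IsInjectiveHull f) {n : ℕ} (ψ : T R E n →ₗ[R] E) :
    ∃ r : R, ∀ e : T R E n, ψ e = r • (e : E) := by
  let q := Submodule.mkQ (𝔪 ^ n : Ideal R)
  let F : ((R ⧸ (𝔪 ^ n : Ideal R)) →ₗ[R] E) →ₗ[R] T R E n :=
    (LinearMap.applyₗ (q 1)).codRestrict (T R E n) (fun φ => mem_T.mpr fun a ha => by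
      show a • φ (q 1) = 0
      rw [← map_smul, ← map_smul, smul_eq_mul, mul_one,
        show q a = 0 from (Submodule.Quotient.mk_eq_zero _).mpr ha, map_zero])
  obtain ⟨w, hw⟩ := (applyₗ_bijective hf (isFiniteLength_quotient_pow n)).2 (ψ ∘ₗ F)
  obtain ⟨r, rfl⟩ := Submodule.mkQ_surjective _ w
  refine ⟨r, fun e => ?_⟩
  let φ : (R ⧸ (𝔪 ^ n : Ideal R)) →ₗ[R] E := Submodule.liftQ _
    (LinearMap.toSpanSingleton R E e.1) (fun a ha => mem_T.mp e.2 a ha)
  have hFφ : F φ = e := Subtype.ext (one_smul R e.1)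
  have := LinearMap.congr_fun hw φ
  simp only [LinearMap.comp_apply, hFφ] at this
  rw [← this]
  rfl

theorem mem_pow_of_kill (hf : IsInjectiveHull f) {n : ℕ} {r : R}
    (h : ∀ e ∈ T R E n, r • e = 0) : r ∈ 𝔪 ^ n := by
  rw [← Submodule.Quotient.mk_eq_zero]
  refine applyₗ_injective hf _ (LinearMap.ext fun φ => ?_)
  show φ (Submodule.Quotient.mk r) = (LinearMap.applyₗ (0 : R ⧸ (𝔪 ^ n : Ideal R))) φ
  rw [map_zero (LinearMap.applyₗ : (R ⧸ (𝔪 ^ n : Ideal R)) →ₗ[R] _ →ₗ[R] E), LinearMap.zero_apply,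
    show (Submodule.Quotient.mk r : R ⧸ (𝔪 ^ n : Ideal R)) = r • Submodule.Quotient.mk 1 by
      rw [← Submodule.Quotient.mk_smul, smul_eq_mul, mul_one], map_smul]
  refine h _ (mem_T.mpr fun a ha => ?_)
  rw [← map_smul, ← Submodule.Quotient.mk_smul, smul_eq_mul, mul_one,
    (Submodule.Quotient.mk_eq_zero _).mpr ha, map_zero]

/-- Representative of the `n`-th component of an element of the completion. -/
noncomputable def rep (x : AdicCompletion 𝔪 R) (n : ℕ) : R :=
  (Submodule.mkQ_surjective _ (AdicCompletion.eval 𝔪 R n x)).choose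

theorem rep_spec (x : AdicCompletion 𝔪 R) (n : ℕ) :
    Submodule.mkQ _ (rep x n) = AdicCompletion.eval 𝔪 R n x :=
  (Submodule.mkQ_surjective _ (AdicCompletion.eval 𝔪 R n x)).choose_spec

theorem sub_mem_of_mkQ_eq {n k : ℕ} (h : n ≤ k) (x : AdicCompletion 𝔪 R) {r s : R}
    (hr : Submodule.mkQ _ r = AdicCompletion.eval 𝔪 R n x)
    (hs : Submodule.mkQ _ s = AdicCompletion.eval 𝔪 R k x) : r - s ∈ 𝔪 ^ n := by
  have h1 := x.2 h
  rw [← AdicCompletion.eval_apply, ← AdicCompletion.eval_apply, ← hr, ← hs] at h1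
  have h2 : (Submodule.mkQ _ s : R ⧸ (𝔪 ^ n • ⊤ : Submodule R R)) = Submodule.mkQ _ r := h1
  rw [Submodule.mkQ_apply, Submodule.mkQ_apply, Submodule.Quotient.eq, smul_eq_mul,
    Ideal.mul_top] at h2
  simpa using neg_mem h2

open Classical in
/-- The action of the completion on the hull, as a function. -/
noncomputable def actFun (hf : IsInjectiveHull f) (x : AdicCompletion 𝔪 R) (e : E) : E :=
  rep x (Nat.find (exists_mem_T hf e)) • e

theorem actFun_eq (hf : IsInjectiveHull f) (x : AdicCompletion 𝔪 R) {e : E} {n : ℕ}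
    (he : e ∈ T R E n) {r : R} (hr : Submodule.mkQ _ r = AdicCompletion.eval 𝔪 R n x) :
    actFun hf x e = r • e := by
  classical
  have hle : Nat.find (exists_mem_T hf e) ≤ n := Nat.find_le he
  have hmem := sub_mem_of_mkQ_eq hle x (rep_spec x _) hr
  have := mem_T.mp (Nat.find_spec (exists_mem_T hf e)) _ hmem
  rw [sub_smul, sub_eq_zero] at this
  exact this

/-- The action of the completion on the hull. -/
noncomputable def act (hf : IsInjectiveHull f) : AdicCompletion 𝔪 R →ₐ[R] Module.End R E :=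
  AlgHom.ofLinearMap
    { toFun := fun x =>
        { toFun := actFun hf x
          map_add' := fun a b => by
            obtain ⟨n, hn⟩ := exists_mem_T hf a
            obtain ⟨k, hk⟩ := exists_mem_T hf b
            have ha := T_mono (Nat.le_add_right n k) hn
            have hb := T_mono (Nat.le_add_left k n) hk
            rw [actFun_eq hf x ha (rep_spec x _), actFun_eq hf x hb (rep_spec x _),
              actFun_eq hf x (add_mem ha hb) (rep_spec x _), smul_add]
          map_smul' := fun c a => by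
            obtain ⟨n, hn⟩ := exists_mem_T hf a
            rw [RingHom.id_apply, actFun_eq hf x hn (rep_spec x _),
              actFun_eq hf x (Submodule.smul_mem _ c hn) (rep_spec x _), smul_comm] }
      map_add' := fun x y => LinearMap.ext fun e => by
        obtain ⟨n, hn⟩ := exists_mem_T hf e
        show actFun hf (x + y) e = actFun hf x e + actFun hf y e
        rw [actFun_eq hf x hn (rep_spec x _), actFun_eq hf y hn (rep_spec y _),
          actFun_eq hf (x + y) hn (r := rep x n + rep y n)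
            (by rw [map_add, map_add, rep_spec, rep_spec]), add_smul]
      map_smul' := fun c x => LinearMap.ext fun e => by
        obtain ⟨n, hn⟩ := exists_mem_T hf e
        show actFun hf (c • x) e = c • actFun hf x e
        rw [actFun_eq hf x hn (rep_spec x _),
          actFun_eq hf (c • x) hn (r := c * rep x n)
            (by rw [← smul_eq_mul, map_smul, map_smul, rep_spec]), mul_smul] }
    (LinearMap.ext fun e => by
      obtain ⟨n, hn⟩ := exists_mem_T hf e
      show actFun hf 1 e = e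
      rw [actFun_eq hf 1 hn (r := 1) rfl, one_smul])
    (fun x y => LinearMap.ext fun e => by
      obtain ⟨n, hn⟩ := exists_mem_T hf e
      show actFun hf (x * y) e = actFun hf x (actFun hf y e)
      rw [actFun_eq hf y hn (rep_spec y _),
        actFun_eq hf x (Submodule.smul_mem _ _ hn) (rep_spec x _),
        actFun_eq hf (x * y) hn (r := rep x n * rep y n) (by
          rw [AdicCompletion.eval_apply, AdicCompletion.val_mul, ← AdicCompletion.eval_apply,
            ← AdicCompletion.eval_apply, ← rep_spec x n, ← rep_spec y n]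
          rfl), mul_smul])

theorem act_eq (hf : IsInjectiveHull f) (x : AdicCompletion 𝔪 R) {e : E} {n : ℕ}
    (he : e ∈ T R E n) {r : R} (hr : Submodule.mkQ _ r = AdicCompletion.eval 𝔪 R n x) :
    act hf x e = r • e :=
  actFun_eq hf x he hr

theorem act_bijective (hf : IsInjectiveHull f) : Function.Bijective (act hf) := by
  constructor
  · rw [injective_iff_map_eq_zero]
    intro x hx
    refine AdicCompletion.ext fun n => ?_
    have hmem : rep x n ∈ 𝔪 ^ n := mem_pow_of_kill hf fun e he => by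
      rw [← act_eq hf x he (rep_spec x n), hx, LinearMap.zero_apply]
    rw [← AdicCompletion.eval_apply, ← rep_spec, Submodule.mkQ_apply,
      show (0 : AdicCompletion 𝔪 R).val n = 0 from rfl, Submodule.Quotient.mk_eq_zero, smul_eq_mul,
      Ideal.mul_top]
    exact hmem
  · intro ψ
    choose r hr using fun n => exists_scalar hf (ψ ∘ₗ (T R E n).subtype)
    let x : AdicCompletion 𝔪 R := ⟨fun n => Submodule.mkQ _ (r n), fun {n k} hnk => by
      show (Submodule.mkQ _ (r k) : R ⧸ (𝔪 ^ n • ⊤ : Submodule R R)) = Submodule.mkQ _ (r n)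
      rw [Submodule.mkQ_apply, Submodule.mkQ_apply, Submodule.Quotient.eq, smul_eq_mul,
        Ideal.mul_top]
      refine mem_pow_of_kill hf fun e he => ?_
      rw [sub_smul, ← hr n ⟨e, he⟩, ← hr k ⟨e, T_mono hnk he⟩]
      exact sub_self _⟩
    refine ⟨x, LinearMap.ext fun e => ?_⟩
    obtain ⟨n, hn⟩ := exists_mem_T hf e
    rw [act_eq hf x hn (r := r n) rfl, ← hr n ⟨e, hn⟩]
    rfl

theorem isArtinian (hf : IsInjectiveHull f) : IsArtinian R E := by
  have := CplNoeth.isNoetherianRing_completion 𝔪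
  let I : Submodule R E → (Ideal (AdicCompletion 𝔪 R))ᵒᵈ := fun N => OrderDual.toDual
    { carrier := {x | ∀ e ∈ N, act hf x e = 0}
      zero_mem' := fun e _ => by rw [map_zero, LinearMap.zero_apply]
      add_mem' := fun {a b} ha hb e he => by
        rw [map_add, LinearMap.add_apply, ha e he, hb e he, add_zero]
      smul_mem' := fun c a ha e he => by
        rw [smul_eq_mul, map_mul, Module.End.mul_apply, ha e he, map_zero] }
  have hI : StrictMono I := by
    intro N N' hlt
    refine lt_of_le_of_ne (fun x hx e he => hx e (hlt.le he)) fun heq => ?_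
    obtain ⟨e, he, heN⟩ := SetLike.exists_of_lt hlt
    obtain ⟨φ, hφ⟩ := exists_hom_ne_zero hf (x := N.mkQ e)
      (fun h => heN ((Submodule.Quotient.mk_eq_zero N).mp h))
    obtain ⟨x, hx⟩ := (act_bijective hf).2 (φ ∘ₗ N.mkQ)
    have h1 : x ∈ OrderDual.ofDual (I N) := fun a ha => by
      rw [hx, LinearMap.comp_apply, Submodule.mkQ_apply, (Submodule.Quotient.mk_eq_zero N).mpr ha,
        map_zero]
    rw [heq] at h1
    exact hφ (by rw [← LinearMap.comp_apply, ← hx]; exact h1 e he)
  exact ⟨hI.wellFoundedLT.wf⟩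

omit [IsNoetherianRing R] in
theorem exists_embedding (hf : IsInjectiveHull f) (M : Type u) [AddCommGroup M] [Module R M]
    (hM : LocCoh.IsPowerTorsion 𝔪 M) [Module.Finite (R ⧸ 𝔪) ↥(LocCoh.torsionBy 𝔪 M)] (n : ℕ)
    (hn : Module.finrank (R ⧸ 𝔪) ↥(LocCoh.torsionBy 𝔪 M) = n) :
    ∃ g : M →ₗ[R] (Fin n → E), Function.Injective g := by
  let _ : Field (R ⧸ 𝔪) := Ideal.Quotient.field 𝔪
  let b := Module.finBasisOfFinrankEq (R ⧸ 𝔪) (LocCoh.torsionBy 𝔪 M) hn
  let g₀ : LocCoh.torsionBy 𝔪 M →ₗ[R] (Fin n → IsLocalRing.ResidueField R) :=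
    b.equivFun.toLinearMap.restrictScalars R
  choose g hg using fun i => IH.extend_to_injective hf.isInjective (LocCoh.torsionBy 𝔪 M).subtype
    (LocCoh.torsionBy 𝔪 M).injective_subtype (f ∘ₗ LinearMap.proj i ∘ₗ g₀)
  refine ⟨LinearMap.pi g, ?_⟩
  rw [injective_iff_map_eq_zero]
  intro x hx
  classical
  by_contra hx0
  obtain ⟨N, hN⟩ := hM x
  have hex : ∃ N, ∀ a ∈ 𝔪 ^ N, a • x = 0 := ⟨N, hN⟩
  have hpos : Nat.find hex ≠ 0 := fun h => hx0 (by
    have := Nat.find_spec hex (1 : R) (by rw [h, pow_zero, Ideal.one_eq_top]; exact Submodule.mem_top)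
    simpa using this)
  obtain ⟨a, ha, hax⟩ : ∃ a ∈ 𝔪 ^ (Nat.find hex - 1), a • x ≠ 0 := by
    by_contra hall
    push Not at hall
    exact Nat.find_min hex (by omega) hall
  have hsoc : a • x ∈ LocCoh.torsionBy 𝔪 M := by
    rw [Submodule.mem_torsionBySet_iff]
    rintro ⟨c, hc⟩
    show c • a • x = 0
    rw [← mul_smul]
    refine Nat.find_spec hex _ ?_
    rw [show Nat.find hex = (Nat.find hex - 1) + 1 by omega, pow_succ']
    exact Ideal.mul_mem_mul hc ha
  have h0 : g₀ ⟨a • x, hsoc⟩ = 0 := funext fun i => hf.injective (by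
    have h1 := LinearMap.congr_fun (hg i) ⟨a • x, hsoc⟩
    simp only [LinearMap.comp_apply, Submodule.subtype_apply, LinearMap.proj_apply] at h1
    rw [← h1, map_smul, show g i x = 0 from congrFun hx i, smul_zero, Pi.zero_apply, map_zero])
  have h2 : (⟨a • x, hsoc⟩ : LocCoh.torsionBy 𝔪 M) = 0 :=
    b.equivFun.injective (by rw [map_zero]; exact h0)
  exact hax (congrArg Subtype.val h2)

theorem isArtinian_pi (hf : IsInjectiveHull f) (n : ℕ) : IsArtinian R (Fin n → E) :=
  have := isArtinian hf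
  inferInstance

theorem isPowerTorsion_of_isArtinian (M : Type u) [AddCommGroup M] [Module R M] [IsArtinian R M] :
    LocCoh.IsPowerTorsion 𝔪 M := by
  intro x
  let t := LinearMap.toSpanSingleton R M x
  let S : ℕ →o (Submodule R M)ᵒᵈ := ⟨fun n => OrderDual.toDual (Submodule.map t (𝔪 ^ n : Ideal R)),
    fun i j hij => Submodule.map_mono (Ideal.pow_le_pow_right hij)⟩
  obtain ⟨n, hn⟩ := IsArtinian.monotone_stabilizes S
  have h1 : Submodule.map t (𝔪 ^ n : Ideal R) = Submodule.map t (𝔪 ^ (n + 1) : Ideal R) :=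
    hn (n + 1) (by omega)
  have hbot : Submodule.map t (𝔪 ^ n : Ideal R) = ⊥ := by
    refine Submodule.eq_bot_of_le_smul_of_le_jacobson_bot 𝔪 _
      ((IsNoetherian.noetherian (𝔪 ^ n : Ideal R)).map t) ?_ (IsLocalRing.maximalIdeal_le_jacobson _)
    rw [← Submodule.map_smul'', smul_eq_mul, ← pow_succ', ← h1]
  refine ⟨n, fun a ha => ?_⟩
  exact (Submodule.eq_bot_iff _).mp hbot _ ⟨a, ha, rfl⟩

theorem finite_socle_of_isArtinian (M : Type u) [AddCommGroup M] [Module R M] [IsArtinian R M] :
    Module.Finite (R ⧸ 𝔪) ↥(LocCoh.torsionBy 𝔪 M) := by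
  let _ : Field (R ⧸ 𝔪) := Ideal.Quotient.field 𝔪
  have : IsArtinian (R ⧸ 𝔪) ↥(LocCoh.torsionBy 𝔪 M) := isArtinian_of_tower R inferInstance
  exact ((IsSemisimpleModule.finite_tfae (R := R ⧸ 𝔪) (M := ↥(LocCoh.torsionBy 𝔪 M))).out 2 0).mp this

theorem bijective_algebraMap_end [IsAdicComplete 𝔪 R] (hf : IsInjectiveHull f) :
    Function.Bijective (algebraMap R (Module.End R E)) := by
  have : (algebraMap R (Module.End R E) : R → Module.End R E) =
      act hf ∘ AdicCompletion.of 𝔪 R := by
    funext r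
    refine LinearMap.ext fun e => ?_
    obtain ⟨n, hn⟩ := exists_mem_T hf e
    rw [Function.comp_apply, act_eq hf _ hn (r := r) rfl]
    rfl
  rw [this]
  exact (act_bijective hf).comp (AdicCompletion.of_bijective 𝔪 R)

/-- Every functional on `Hom(E^n, E)` is an evaluation, for complete `R`. -/
theorem applyₗ_pi_surjective [IsAdicComplete 𝔪 R] (hf : IsInjectiveHull f) (n : ℕ)
    (η : ((Fin n → E) →ₗ[R] E) →ₗ[R] E) :
    ∃ v : Fin n → E, ∀ φ, η φ = φ v := by
  classical
  refine ⟨fun i => η (LinearMap.proj i), fun φ => ?_⟩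
  choose r hr using fun i => (bijective_algebraMap_end hf).2 (φ ∘ₗ LinearMap.single R (fun _ => E) i)
  have hφ : φ = ∑ i, r i • LinearMap.proj i := by
    refine LinearMap.pi_ext fun i e => ?_
    have h1 := LinearMap.congr_fun (hr i) e
    rw [LinearMap.comp_apply, Module.algebraMap_end_apply] at h1
    rw [LinearMap.sum_apply, Finset.sum_eq_single i]
    · rw [LinearMap.smul_apply, LinearMap.proj_apply, Pi.single_eq_same]
      exact h1.symm
    · intro j _ hj
      rw [LinearMap.smul_apply, LinearMap.proj_apply, Pi.single_eq_of_ne hj, smul_zero]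
    · simp
  conv_lhs => rw [hφ]
  rw [map_sum, hφ, LinearMap.sum_apply]
  exact Finset.sum_congr rfl fun i _ => by rw [map_smul]; rfl

theorem duality_finite [IsAdicComplete 𝔪 R] (hf : IsInjectiveHull f) (M : Type u) [AddCommGroup M]
    [Module R M] [Module.Finite R M] :
    IsArtinian R (M →ₗ[R] E) ∧
      Function.Bijective (LinearMap.applyₗ : M →ₗ[R] (M →ₗ[R] E) →ₗ[R] E) := by
  obtain ⟨n, π, hπ⟩ := Module.Finite.exists_fin' R M
  let pull := LinearMap.lcomp R E π
  have hpull : Function.Injective pull := fun φ ψ h => LinearMap.ext fun m => by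
    obtain ⟨v, rfl⟩ := hπ m
    exact LinearMap.congr_fun h v
  let e : ((Fin n → R) →ₗ[R] E) ≃ₗ[R] (Fin n → E) :=
    ((Pi.basisFun R (Fin n)).constr R).symm
  have := isArtinian_pi hf n
  refine ⟨isArtinian_of_injective (e.toLinearMap ∘ₗ pull) (e.injective.comp hpull),
    applyₗ_injective hf M, fun ξ => ?_⟩
  obtain ⟨η, hη⟩ := IH.extend_to_injective hf.isInjective pull hpull ξ
  have hη' : ∀ φ, η φ = η (e.symm (e φ)) := fun φ => by rw [e.symm_apply_apply]
  choose r hr using fun i => (bijective_algebraMap_end hf).2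
    ((η ∘ₗ e.symm.toLinearMap) ∘ₗ LinearMap.single R (fun _ => E) i)
  refine ⟨π r, LinearMap.ext fun φ => ?_⟩
  rw [← hη, LinearMap.comp_apply]
  show φ (π r) = η (pull φ)
  rw [hη']
  have h2 : ∀ v, (η ∘ₗ e.symm.toLinearMap) v = ∑ i, r i • v i := by
    intro v
    conv_lhs => rw [← Finset.univ_sum_single v]
    rw [map_sum]
    refine Finset.sum_congr rfl fun i _ => ?_
    have h1 := LinearMap.congr_fun (hr i) (v i)
    rw [LinearMap.comp_apply, Module.algebraMap_end_apply] at h1
    exact h1.symm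
  rw [show η (e.symm (e (pull φ))) = _ from h2 (e (pull φ))]
  show (φ ∘ₗ π) r = _
  conv_lhs => rw [← (Pi.basisFun R (Fin n)).sum_repr r, map_sum]
  refine Finset.sum_congr rfl fun i _ => ?_
  rw [map_smul, Pi.basisFun_repr]
  rfl

theorem duality_artinian [IsAdicComplete 𝔪 R] (hf : IsInjectiveHull f) (M : Type u) [AddCommGroup M]
    [Module R M] [IsArtinian R M] :
    Module.Finite R (M →ₗ[R] E) ∧
      Function.Bijective (LinearMap.applyₗ : M →ₗ[R] (M →ₗ[R] E) →ₗ[R] E) := by
  classical
  have := finite_socle_of_isArtinian (R := R) M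
  obtain ⟨g, hg⟩ := exists_embedding hf M (isPowerTorsion_of_isArtinian M) _ rfl
  generalize Module.finrank (R ⧸ 𝔪) ↥(LocCoh.torsionBy 𝔪 M) = n at g hg
  let pull := LinearMap.lcomp R E g
  have hpull : Function.Surjective pull := fun φ => by
    obtain ⟨h, hh⟩ := IH.extend_to_injective hf.isInjective g hg φ
    exact ⟨h, hh⟩
  have hfree : Module.Finite R ((Fin n → E) →ₗ[R] E) := by
    refine Module.Finite.of_surjective
      ({ toFun := fun r => ∑ i, r i • LinearMap.proj i
         map_add' := fun a b => by simp [add_smul, Finset.sum_add_distrib]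
         map_smul' := fun c a => by simp [Finset.smul_sum, smul_smul] } :
        (Fin n → R) →ₗ[R] ((Fin n → E) →ₗ[R] E)) (fun φ => ?_)
    choose r hr using fun i => (bijective_algebraMap_end hf).2 (φ ∘ₗ LinearMap.single R (fun _ => E) i)
    refine ⟨r, LinearMap.pi_ext fun i e => ?_⟩
    have h1 := LinearMap.congr_fun (hr i) e
    rw [LinearMap.comp_apply, Module.algebraMap_end_apply] at h1
    show (∑ i, r i • LinearMap.proj i : (Fin n → E) →ₗ[R] E) (Pi.single i e) = _
    rw [LinearMap.sum_apply, Finset.sum_eq_single i]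
    · rw [LinearMap.smul_apply, LinearMap.proj_apply, Pi.single_eq_same]
      exact h1
    · intro j _ hj
      rw [LinearMap.smul_apply, LinearMap.proj_apply, Pi.single_eq_of_ne hj, smul_zero]
    · simp
  refine ⟨Module.Finite.of_surjective pull hpull, applyₗ_injective hf M, fun ξ => ?_⟩
  obtain ⟨v, hv⟩ := applyₗ_pi_surjective hf n (ξ ∘ₗ pull)
  have hvM : v ∈ LinearMap.range g := by
    by_contra hv'
    obtain ⟨φ, hφ⟩ := exists_hom_ne_zero hf (x := (LinearMap.range g).mkQ v)
      (fun h => hv' ((Submodule.Quotient.mk_eq_zero _).mp h))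
    have h1 := hv (φ ∘ₗ (LinearMap.range g).mkQ)
    have h2 : pull (φ ∘ₗ (LinearMap.range g).mkQ) = 0 := LinearMap.ext fun x => by
      show φ ((LinearMap.range g).mkQ (g x)) = 0
      rw [Submodule.mkQ_apply, (Submodule.Quotient.mk_eq_zero (LinearMap.range g)).mpr (LinearMap.mem_range_self g x), map_zero]
    rw [LinearMap.comp_apply, h2, map_zero] at h1
    exact hφ h1.symm
  obtain ⟨x, rfl⟩ := hvM
  refine ⟨x, LinearMap.ext fun φ => ?_⟩
  obtain ⟨ψ, rfl⟩ := hpull φ
  exact (hv ψ).symm

end Groth.Agent.Matlis
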