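/-
Flat base change of injective hulls of residue fields.
-/
import Mathlib
import Groth.Prelude.Def_CAlg
import Groth.Prelude.Def_Wider
import Groth.Agent.Lib.InjHullBasic
import Groth.Agent.Lib.InjHullLocal
import Groth.Agent.Lib.InjDimResidue
import Groth.Agent.Lib.GorensteinQuotient
import Groth.Agent.Lib.GorensteinCM
import Groth.Agent.Lib.GorensteinFlatBase
import Groth.Agent.Lib.GorensteinFlat
import Groth.Agent.Lib.GorensteinRings

open CategoryTheory
open InjHull
open Groth.Agent.GorensteinQuotient
open Groth.Agent.GorensteinCM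
open Groth.Agent.GorensteinFlatBase
open Groth.Agent.GorensteinFlat
open Groth.Agent.GorensteinRings
open TensorProduct
universe u

namespace Groth.Agent.InjHullBaseChange


theorem ext_baseChange_gen {A B : Type u} [CommRing A] [IsNoetherianRing A] [CommRing B] [Algebra A B]
    [Module.Flat A B] (N : Type u) [AddCommGroup N] [Module A N] :
    ∀ (i : ℕ) (M : Type u) [AddCommGroup M] [Module A M] [Module.Finite A M],
      (Subsingleton (Abelian.Ext (ModuleCat.of A M) (ModuleCat.of A N) (i + 1)) →
        Subsingleton (Abelian.Ext (ModuleCat.of B (B ⊗[A] M)) (ModuleCat.of B (B ⊗[A] N)) (i + 1))) ∧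
      (Module.FaithfullyFlat A B →
        Subsingleton (Abelian.Ext (ModuleCat.of B (B ⊗[A] M)) (ModuleCat.of B (B ⊗[A] N)) (i + 1)) →
          Subsingleton (Abelian.Ext (ModuleCat.of A M) (ModuleCat.of A N) (i + 1))) := by
  intro i
  induction i with
  | zero =>
    intro M _ _ _
    obtain ⟨r, π, hπ⟩ := Module.Finite.exists_fin' A M
    let ι := (LinearMap.ker π).subtype
    have hι : Function.Injective ι := Subtype.val_injective
    have hex : Function.Exact ι π := LinearMap.exact_subtype_ker_map π
    have hι' : Function.Injective (ι.baseChange B) := Module.Flat.lTensor_preserves_injective_linearMap ι hι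
    have hπ' : Function.Surjective (π.baseChange B) := LinearMap.lTensor_surjective B hπ
    have hex' : Function.Exact (ι.baseChange B) (π.baseChange B) := lTensor_exact B hex hπ
    rw [ext_one_iff hι hπ hex, ext_one_iff hι' hπ' hex']
    haveI : Module.FinitePresentation A (LinearMap.ker π) := Module.finitePresentation_of_finite A _
    have bK := Module.FinitePresentation.isBaseChange_map A (LinearMap.ker π) N B
    have bP := Module.FinitePresentation.isBaseChange_map A (Fin r → A) N B
    have hcomm : ∀ φ : (Fin r → A) →ₗ[A] N,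
        ((ι.baseChange B).lcomp B (B ⊗[A] N)) (LinearMap.baseChangeHom A B _ N φ) =
          LinearMap.baseChangeHom A B _ N (ι.lcomp A N φ) := fun φ => by
      ext x; simp
    constructor
    · intro h g
      induction g using bK.inductionOn with
      | zero => exact ⟨0, map_zero _⟩
      | tmul x =>
        obtain ⟨φ, rfl⟩ := h x
        exact ⟨_, hcomm φ⟩
      | smul b x hx => obtain ⟨y, rfl⟩ := hx; exact ⟨b • y, map_smul _ _ _⟩
      | add x y hx hy => obtain ⟨x, rfl⟩ := hx; obtain ⟨y, rfl⟩ := hy; exact ⟨x + y, map_add _ _ _⟩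
    · intro _ h
      rw [← Module.FaithfullyFlat.lTensor_surjective_iff_surjective A B]
      intro z
      obtain ⟨y, hy⟩ := h (bK.equiv z)
      refine ⟨bP.equiv.symm y, bK.equiv.injective ?_⟩
      rw [← hy]
      have key : bK.equiv.toLinearMap ∘ₗ ((ι.lcomp A N).baseChange B) =
          ((ι.baseChange B).lcomp B (B ⊗[A] N)) ∘ₗ bP.equiv.toLinearMap := by
        refine TensorProduct.AlgebraTensorModule.curry_injective (LinearMap.ext_ring (LinearMap.ext fun φ => ?_))
        ext x
        simp [IsBaseChange.equiv_tmul]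
      have := LinearMap.congr_fun key (bP.equiv.symm y)
      simp only [LinearMap.coe_comp, Function.comp_apply, LinearEquiv.coe_coe, LinearEquiv.apply_symm_apply] at this
      exact this
  | succ i ih =>
    intro M _ _ _
    obtain ⟨r, π, hπ⟩ := Module.Finite.exists_fin' A M
    let ι := (LinearMap.ker π).subtype
    have hι : Function.Injective ι := Subtype.val_injective
    have hex : Function.Exact ι π := LinearMap.exact_subtype_ker_map π
    have hι' : Function.Injective (ι.baseChange B) := Module.Flat.lTensor_preserves_injective_linearMap ι hι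
    have hπ' : Function.Surjective (π.baseChange B) := LinearMap.lTensor_surjective B hπ
    have hex' : Function.Exact (ι.baseChange B) (π.baseChange B) := lTensor_exact B hex hπ
    rw [← shift_iff hι hπ hex, ← shift_iff hι' hπ' hex']
    exact ih (LinearMap.ker π)


theorem socle_simple {F : Type u} [CommRing F] [IsLocalRing F] [IsNoetherianRing F] (hF : Module.Injective F F)
    {u v : F} (hu0 : u ≠ 0) (hu : ∀ r ∈ IsLocalRing.maximalIdeal F, r * u = 0)
    (hv : ∀ r ∈ IsLocalRing.maximalIdeal F, r * v = 0) : ∃ c, v = c * u := by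
  let t := LinearMap.toSpanSingleton F F u
  have hle : LinearMap.ker t ≤ LinearMap.ker (LinearMap.toSpanSingleton F F v) := by
    intro r hr
    have : r ∈ IsLocalRing.maximalIdeal F := fun h => hu0 (by
      obtain ⟨s, rfl⟩ := h
      simpa [t] using congrArg (fun z => (↑s⁻¹ : F) * z) (show (s : F) * u = 0 from hr))
    simpa using hv r this
  obtain ⟨h, hh⟩ := hF.out ((LinearMap.ker t).liftQ t le_rfl)
    (LinearMap.ker_eq_bot.mp (Submodule.ker_liftQ_eq_bot _ _ _ le_rfl))
    ((LinearMap.ker t).liftQ (LinearMap.toSpanSingleton F F v) hle)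
  refine ⟨h 1, ?_⟩
  have h1 : h u = v := by
    have := hh (Submodule.Quotient.mk 1)
    rw [Submodule.liftQ_apply, Submodule.liftQ_apply] at this
    simpa [t, LinearMap.toSpanSingleton_apply] using this
  rw [← h1, mul_comm, ← smul_eq_mul, ← map_smul, smul_eq_mul, mul_one]

/-- Flat base change of the injective hull of the residue field along a map with Gorenstein artinian closed fibre. -/
theorem hull_baseChange (A : Type u) [CommRing A] [IsLocalRing A] [IsNoetherianRing A] (B : Type u) [CommRing B]
    [IsLocalRing B] [IsNoetherianRing B] [Algebra A B] [Module.Flat A B]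
    (hG : LocCoh.IsGorensteinLocalRing (B ⧸ (IsLocalRing.maximalIdeal A).map (algebraMap A B)))
    (hArt : IsArtinianRing (B ⧸ (IsLocalRing.maximalIdeal A).map (algebraMap A B)))
    (E : Type u) [AddCommGroup E] [Module A E] (f : IsLocalRing.ResidueField A →ₗ[A] E) (hf : InjHull.IsInjectiveHull f) :
    ∃ g : IsLocalRing.ResidueField B →ₗ[B] TensorProduct A B E, InjHull.IsInjectiveHull g := by
  let m := IsLocalRing.maximalIdeal A
  let J := m.map (algebraMap A B)
  let M := B ⊗[A] E
  haveI := hG
  have hf' : InjHull.IsInjectiveHull (f : (A ⧸ m) →ₗ[A] E) := hf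
  haveI : Module.FinitePresentation A (A ⧸ m) := Module.finitePresentation_of_finite A _
  have bC := Module.FinitePresentation.isBaseChange_map A (A ⧸ m) E B
  let q : (B ⊗[A] (A ⧸ m)) ≃ₗ[B] (B ⧸ J) :=
    (Algebra.TensorProduct.quotIdealMapEquivTensorQuot B m).symm.toLinearEquiv
  -- `Hom(k, E) = k`
  let v : (A ⧸ m) →ₗ[A] ((A ⧸ m) →ₗ[A] E) :=
    Submodule.liftQ m (LinearMap.toSpanSingleton A _ (f : (A ⧸ m) →ₗ[A] E))
      (fun r hr => by
        rw [LinearMap.mem_ker]
        refine LinearMap.ext fun x => ?_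
        change r • (f : (A ⧸ m) →ₗ[A] E) x = 0
        exact Groth.Agent.InjHullLocal.smul_range (f := (f : (A ⧸ m) →ₗ[A] E)) r hr _ ⟨x, rfl⟩)
  have hv : Function.Bijective v := by
    constructor
    · intro a b hab
      obtain ⟨a, rfl⟩ := Submodule.Quotient.mk_surjective _ a
      obtain ⟨b, rfl⟩ := Submodule.Quotient.mk_surjective _ b
      have := LinearMap.congr_fun hab (Submodule.Quotient.mk 1)
      change a • (f : (A ⧸ m) →ₗ[A] E) (Submodule.Quotient.mk 1) = b • (f : (A ⧸ m) →ₗ[A] E) (Submodule.Quotient.mk 1) at this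
      have key : ∀ c : A, c • (f : (A ⧸ m) →ₗ[A] E) (Submodule.Quotient.mk 1) = (f : (A ⧸ m) →ₗ[A] E) (Submodule.Quotient.mk c) :=
        fun c => ((f : (A ⧸ m) →ₗ[A] E).map_smul c _).symm.trans
          (congrArg (f : (A ⧸ m) →ₗ[A] E) ((Submodule.Quotient.mk_smul m c (1 : A)).symm.trans (by rw [smul_eq_mul, mul_one])))
      rw [key, key] at this
      exact hf'.injective this
    · intro ψ
      have hmem : ψ (Submodule.Quotient.mk 1) ∈ LinearMap.range (f : (A ⧸ m) →ₗ[A] E) := by
        by_cases hz : ψ (Submodule.Quotient.mk 1) = 0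
        · rw [hz]; exact zero_mem _
        obtain ⟨z, ⟨hzx, hzf⟩, hz0⟩ := Submodule.exists_mem_ne_zero_of_ne_bot
          (hf'.essential (Submodule.span A {ψ (Submodule.Quotient.mk 1)}) (by simpa using hz))
        obtain ⟨r, rfl⟩ := Submodule.mem_span_singleton.mp hzx
        have hr : r ∉ m := fun h => hz0 (by
          rw [← map_smul, ← Submodule.Quotient.mk_smul, smul_eq_mul, mul_one,
            (Submodule.Quotient.mk_eq_zero m).mpr h, map_zero])
        obtain ⟨s, hs⟩ := IsLocalRing.notMem_maximalIdeal.mp hr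
        have := Submodule.smul_mem (LinearMap.range (f : (A ⧸ m) →ₗ[A] E)) (↑s⁻¹ : A) hzf
        rwa [smul_smul, ← hs, Units.inv_mul, one_smul] at this
      obtain ⟨w, hw⟩ := hmem
      obtain ⟨a, rfl⟩ := Submodule.Quotient.mk_surjective _ w
      refine ⟨Submodule.Quotient.mk a, Submodule.linearMap_qext _ (LinearMap.ext_ring ?_)⟩
      change a • f (Submodule.Quotient.mk 1) = ψ (Submodule.Quotient.mk 1)
      rw [← hw]
      conv_rhs => rw [← mul_one a, ← smul_eq_mul, Submodule.Quotient.mk_smul]
      exact (map_smul (f : (A ⧸ m) →ₗ[A] E) a _).symm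
  -- torsion of the base change
  have hacy : Acy J M := by
    intro i hi
    obtain ⟨j, rfl⟩ : ∃ j, i = j + 1 := ⟨i - 1, by omega⟩
    exact ext_iso q.toModuleIso (Iso.refl _) _
      ((ext_baseChange_gen (B := B) E j (A ⧸ m)).1 (ext_injective_zero hf.isInjective _ (j + 1) (by omega)))
  let e1 : T J M ≃ₗ[B] ((B ⧸ J) →ₗ[B] M) :=
    { toFun := fun x => Submodule.liftQ J (LinearMap.toSpanSingleton B M x)
        (fun a ha => by simpa using (mem_T (x : M)).mp x.2 a ha)
      invFun := fun g => ⟨g (Submodule.Quotient.mk 1), by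
        rw [mem_T]; intro a ha
        rw [← map_smul, ← Submodule.Quotient.mk_smul, smul_eq_mul, mul_one,
          (Submodule.Quotient.mk_eq_zero J).mpr ha, map_zero]⟩
      map_add' := fun x y => Submodule.linearMap_qext _ (LinearMap.ext fun b => smul_add b (x : M) y)
      map_smul' := fun c x => Submodule.linearMap_qext _ (LinearMap.ext fun b => smul_comm b c (x : M))
      left_inv := fun x => Subtype.ext (one_smul B (x : M))
      right_inv := fun g => Submodule.linearMap_qext _ (LinearMap.ext_ring (one_smul B _)) }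
  let eT : (B ⧸ J) ≃ₗ[B] T J M :=
    q.symm ≪≫ₗ (LinearEquiv.ofBijective v hv).baseChange A B ≪≫ₗ bC.equiv ≪≫ₗ
      LinearEquiv.arrowCongr q (LinearEquiv.refl B M) ≪≫ₗ e1.symm
  let eT' : (B ⧸ J) ≃ₗ[B ⧸ J] T J M :=
    LinearEquiv.ofBijective (LinearMap.extendScalarsOfSurjective Ideal.Quotient.mk_surjective eT.toLinearMap)
      eT.bijective
  -- the fibre is self-injective with simple socle
  have hFi : Module.Injective (B ⧸ J) (B ⧸ J) := by
    obtain ⟨n, hn⟩ := (gor_iff (B ⧸ J)).mp hG
    obtain ⟨d, -, hd, hdim, -⟩ := gor_seq n (B ⧸ J) hn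
    haveI := hArt
    rw [ringKrullDimZero_iff_ringKrullDim_eq_zero.mp inferInstance] at hdim
    obtain rfl : d = 0 := by exact_mod_cast hdim.symm
    exact injD_one_iff.mp hd
  have hTi : Module.Injective (B ⧸ J) (T J M) := injD_one_iff.mp (injD_congr eT' 1 (injD_one_iff.mpr hFi))
  obtain ⟨p, hp⟩ := associatedPrimes.nonempty (B ⧸ J) (B ⧸ J)
  have hpm : p = IsLocalRing.maximalIdeal (B ⧸ J) := by
    haveI := hp.isPrime
    haveI := hArt
    exact IsLocalRing.eq_maximalIdeal inferInstance
  obtain ⟨-, u, hu⟩ := isAssociatedPrime_iff.mp hp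
  have huk : ∀ r ∈ IsLocalRing.maximalIdeal (B ⧸ J), r * u = 0 := fun r hr => by
    rw [← hpm, hu, Submodule.mem_colon_singleton] at hr
    simpa using hr
  have hu0 : u ≠ 0 := by
    intro h0
    subst h0
    exact hp.isPrime.ne_top ((Ideal.eq_top_iff_one _).mpr (hu ▸ Submodule.mem_colon_singleton.mpr (by simp)))
  let z : M := (eT u : M)
  have hJB : J ≤ IsLocalRing.maximalIdeal B := IsLocalRing.le_maximalIdeal fun h => by
    have : Subsingleton (B ⧸ J) := Ideal.Quotient.subsingleton_iff.mpr h
    exact hu0 (Subsingleton.elim _ _)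
  have hmk : ∀ b : B, Ideal.Quotient.mk J b ∈ IsLocalRing.maximalIdeal (B ⧸ J) ↔ b ∈ IsLocalRing.maximalIdeal B := by
    intro b
    haveI := IsLocalHom.of_surjective (Ideal.Quotient.mk J) Ideal.Quotient.mk_surjective
    exact ⟨fun h hb => h (hb.map _), fun h hb => h (isUnit_of_map_unit _ _ hb)⟩
  let g : IsLocalRing.ResidueField B →ₗ[B] M :=
    Submodule.liftQ (IsLocalRing.maximalIdeal B) (LinearMap.toSpanSingleton B M z) (fun b hb => by
      rw [LinearMap.mem_ker, LinearMap.toSpanSingleton_apply]
      have : b • u = 0 := by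
        rw [Algebra.smul_def, Ideal.Quotient.algebraMap_eq]
        exact huk _ ((hmk b).mpr hb)
      have h2 := congrArg (fun w => (eT w : M)) this
      simpa using h2)
  have hz0 : z ≠ 0 := fun h => hu0 (eT.injective (Subtype.ext (h.trans (by simp))))
  have hrange : ∀ x : M, (∀ b ∈ IsLocalRing.maximalIdeal B, b • x = 0) → x ∈ LinearMap.range g := by
    intro x hx
    have hxT : x ∈ T J M := (mem_T x).mpr fun a ha => hx a (hJB ha)
    let w := eT.symm ⟨x, hxT⟩
    have hw : ∀ r ∈ IsLocalRing.maximalIdeal (B ⧸ J), r * w = 0 := by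
      intro r hr
      obtain ⟨b, rfl⟩ := Ideal.Quotient.mk_surjective r
      rw [← Ideal.Quotient.algebraMap_eq, ← Algebra.smul_def]
      apply eT.injective
      rw [map_smul, eT.apply_symm_apply, map_zero]
      exact Subtype.ext (hx b ((hmk b).mp hr))
    obtain ⟨c, hc⟩ := socle_simple hFi hu0 huk hw
    obtain ⟨c, rfl⟩ := Ideal.Quotient.mk_surjective c
    refine ⟨Submodule.Quotient.mk c, ?_⟩
    change c • z = x
    rw [← Ideal.Quotient.algebraMap_eq, ← Algebra.smul_def] at hc
    have h2 := congrArg (fun w => (eT w : M)) hc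
    simp only [w, eT.apply_symm_apply, map_smul] at h2
    exact h2.symm
  -- power torsion for the maximal ideal
  have htor : ∀ x : M, ∃ n : ℕ, ∀ a ∈ IsLocalRing.maximalIdeal B ^ n, a • x = 0 := by
    haveI := hArt
    obtain ⟨k, hk⟩ : ∃ k, IsLocalRing.maximalIdeal B ^ k ≤ J := by
      obtain ⟨k, hk⟩ := IsArtinianRing.isNilpotent_jacobson_bot (R := B ⧸ J)
      refine ⟨k, fun a ha => ?_⟩
      rw [IsLocalRing.jacobson_eq_maximalIdeal ⊥ bot_ne_top] at hk
      have : Ideal.Quotient.mk J a ∈ IsLocalRing.maximalIdeal (B ⧸ J) ^ k := by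
        rw [← IsLocalRing.map_maximalIdeal_of_surjective (Ideal.Quotient.mk J) Ideal.Quotient.mk_surjective,
          ← Ideal.map_pow]
        exact Ideal.mem_map_of_mem _ ha
      rw [hk] at this
      exact Ideal.Quotient.eq_zero_iff_mem.mp (by simpa using this)
    intro x
    induction x using TensorProduct.induction_on with
    | zero => exact ⟨0, fun a _ => smul_zero a⟩
    | tmul b e =>
      have hle : m ≤ Ideal.radical (LinearMap.ker (LinearMap.toSpanSingleton A E e)) := fun r hr => by
        obtain ⟨n, hn⟩ := Groth.Agent.InjHullLocal.pow_kills hf' r hr e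
        exact ⟨n, hn⟩
      obtain ⟨n, hn⟩ := Ideal.exists_pow_le_of_le_radical_of_fg hle (IsNoetherian.noetherian m)
      refine ⟨k * n, fun a ha => ?_⟩
      have h1 : a ∈ (m ^ n).map (algebraMap A B) := by
        rw [Ideal.map_pow]
        exact Ideal.pow_right_mono hk n (by rwa [← pow_mul])
      clear ha
      induction h1 using Submodule.span_induction with
      | mem c hc =>
        obtain ⟨c, hc, rfl⟩ := hc
        have hce : c • e = 0 := by simpa using hn hc
        rw [algebraMap_smul, ← TensorProduct.tmul_smul, hce, TensorProduct.tmul_zero]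
      | zero => exact zero_smul B _
      | add c d _ _ hc hd => rw [add_smul, hc, hd, add_zero]
      | smul c d _ hd => rw [smul_eq_mul, mul_smul, hd, smul_zero]
    | add x y hx hy =>
      obtain ⟨n, hn⟩ := hx; obtain ⟨l, hl⟩ := hy
      exact ⟨n + l, fun a ha => by
        rw [smul_add, hn a (Ideal.pow_le_pow_right (Nat.le_add_right _ _) ha),
          hl a (Ideal.pow_le_pow_right (Nat.le_add_left _ _) ha), add_zero]⟩
  have hext : Subsingleton (Abelian.Ext (ModuleCat.of B (IsLocalRing.ResidueField B)) (ModuleCat.of B M) 1) :=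
    ext_vanish_of_T_injective 0 M hacy hTi _ (fun a ha w => by
      rw [Algebra.smul_def, IsLocalRing.ResidueField.algebraMap_eq, (IsLocalRing.residue_eq_zero_iff a).mpr (hJB ha), zero_mul])
  have hess : ∀ N : Submodule B M, N ≠ ⊥ → N ⊓ LinearMap.range g ≠ ⊥ := by
    intro N hN
    obtain ⟨x, hxN, hx0⟩ := Submodule.exists_mem_ne_zero_of_ne_bot hN
    obtain ⟨n, hn⟩ := htor x
    suffices ∀ (n : ℕ) (x : M), x ∈ N → x ≠ 0 → (∀ a ∈ IsLocalRing.maximalIdeal B ^ n, a • x = 0) →
        ∃ y ∈ N, y ≠ 0 ∧ ∀ a ∈ IsLocalRing.maximalIdeal B, a • y = 0 by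
      obtain ⟨y, hyN, hy0, hy⟩ := this n x hxN hx0 hn
      exact fun hbot => hy0 ((Submodule.eq_bot_iff _).mp hbot y ⟨hyN, hrange y hy⟩)
    intro n
    induction n with
    | zero => intro x _ hx0 h; exact absurd (by simpa using h 1 (by simp)) hx0
    | succ n ih =>
      intro x hxN hx0 h
      by_cases hc : ∀ a ∈ IsLocalRing.maximalIdeal B, a • x = 0
      · exact ⟨x, hxN, hx0, hc⟩
      · push Not at hc
        obtain ⟨a, ha, hax⟩ := hc
        exact ih (a • x) (N.smul_mem a hxN) hax fun c hc => by
          rw [← mul_smul]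
          exact h _ (by rw [pow_succ]; exact Ideal.mul_mem_mul hc ha)
  refine ⟨g, ⟨⟨?_, hess⟩, ?_⟩⟩
  · refine LinearMap.ker_eq_bot.mp (Submodule.ker_liftQ_eq_bot _ _ _ fun b hb => ?_)
    by_contra hc
    obtain ⟨s, rfl⟩ := IsLocalRing.notMem_maximalIdeal.mp hc
    rw [LinearMap.mem_ker, LinearMap.toSpanSingleton_apply] at hb
    exact hz0 (by simpa [smul_smul] using congrArg (fun w => (↑s⁻¹ : B) • w) hb)
  · -- `M` is a direct summand, indeed all, of its injective hull
    obtain ⟨I, _, _, ι, hι1, hι2, hι3⟩ := Groth.Agent.IH.exists_hull B M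
    have hι : InjHull.IsInjectiveHull ι := ⟨⟨hι1, (Groth.Agent.IH.ess_iff _).mp hι2⟩, hι3⟩
    have hS := shortExact_mk ι (LinearMap.range ι).mkQ hι.injective (Submodule.mkQ_surjective _)
      (LinearMap.exact_map_mkQ_range ι)
    have hIs : ∀ y : I, (∀ a ∈ IsLocalRing.maximalIdeal B, a • y ∈ LinearMap.range ι) → y ∈ LinearMap.range ι := by
      intro y hy
      let h : IsLocalRing.ResidueField B →ₗ[B] I ⧸ LinearMap.range ι :=
        Submodule.liftQ (IsLocalRing.maximalIdeal B) (LinearMap.toSpanSingleton B _ (Submodule.Quotient.mk y))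
          (fun a ha => by
            rw [LinearMap.mem_ker, LinearMap.toSpanSingleton_apply, ← Submodule.Quotient.mk_smul,
              Submodule.Quotient.mk_eq_zero]
            exact hy a ha)
      obtain ⟨w, hw⟩ := Abelian.Ext.covariant_sequence_exact₃ _ hS (Abelian.Ext.mk₀ (ModuleCat.ofHom h))
        (show 0 + 1 = 1 from rfl) (hext.elim _ _)
      obtain ⟨k, rfl⟩ := (Abelian.Ext.mk₀_bijective _ _).2 w
      rw [Abelian.Ext.mk₀_comp_mk₀, (Abelian.Ext.mk₀_bijective _ _).1.eq_iff] at hw
      let y' : I := k.hom (Submodule.Quotient.mk (1 : B))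
      have h1 : (LinearMap.range ι).mkQ y' = Submodule.Quotient.mk y := by
        have := congrArg (fun z => z.hom (Submodule.Quotient.mk (1 : B))) hw
        exact this.trans ((Submodule.liftQ_apply _ _ (1 : B)).trans (one_smul B _))
      have hy'soc : ∀ a ∈ IsLocalRing.maximalIdeal B, a • y' = 0 := fun a ha => by
        exact (k.hom.map_smul a _).symm.trans <| (congrArg k.hom (show a • (Submodule.Quotient.mk (1 : B) : IsLocalRing.ResidueField B) = 0 from
          (Submodule.Quotient.mk_smul _ a (1 : B)).symm.trans ((Submodule.Quotient.mk_eq_zero _).mpr (by simpa using ha)))).trans (map_zero _)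
      have hy' : y' ∈ LinearMap.range ι := by
        by_cases h0 : y' = 0
        · rw [h0]; exact zero_mem _
        obtain ⟨z', ⟨hz1, hz2⟩, hz0⟩ := Submodule.exists_mem_ne_zero_of_ne_bot
          (hι.essential (Submodule.span B {y'}) (by simpa using h0))
        obtain ⟨r, rfl⟩ := Submodule.mem_span_singleton.mp hz1
        have hr : r ∉ IsLocalRing.maximalIdeal B := fun h => hz0 (hy'soc r h)
        obtain ⟨s, rfl⟩ := IsLocalRing.notMem_maximalIdeal.mp hr
        simpa [smul_smul] using Submodule.smul_mem _ (↑s⁻¹ : B) hz2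
      rw [Submodule.mkQ_apply, Submodule.Quotient.eq] at h1
      simpa using Submodule.sub_mem _ hy' h1
    -- every element of the hull is killed by a power of the maximal ideal modulo the image
    have htorI : ∀ (r : B), r ∈ IsLocalRing.maximalIdeal B → ∀ y : I, ∃ n : ℕ, r ^ n • y = 0 := by
      intro r hr y
      let N := Submodule.span B {y}
      haveI : IsNoetherian B N := isNoetherian_of_fg_of_noetherian N (Submodule.fg_span_singleton y)
      let c : ℕ →o Submodule B N := ⟨fun n => Submodule.torsionBy B N (r ^ n), fun a b hab x hx => by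
        rw [Submodule.mem_torsionBy_iff] at hx ⊢
        obtain ⟨d, rfl⟩ := Nat.exists_eq_add_of_le hab
        rw [pow_add, mul_comm, mul_smul, hx, smul_zero]⟩
      obtain ⟨n, hn⟩ := monotone_stabilizes_iff_noetherian.mpr inferInstance c
      refine ⟨n, ?_⟩
      by_contra hne
      obtain ⟨w, ⟨hwL, x, rfl⟩, hw0⟩ := Submodule.exists_mem_ne_zero_of_ne_bot
        (hι.essential (Submodule.span B {r ^ n • y}) (by simpa using hne))
      obtain ⟨a, ha⟩ := Submodule.mem_span_singleton.mp hwL
      obtain ⟨l, hl⟩ := htor x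
      let xN : N := ⟨a • y, Submodule.smul_mem _ _ (Submodule.mem_span_singleton_self y)⟩
      have hx' : xN ∈ c (n + l) := by
        change xN ∈ Submodule.torsionBy B N (r ^ (n + l))
        rw [Submodule.mem_torsionBy_iff]
        apply Subtype.ext
        change r ^ (n + l) • a • y = 0
        rw [add_comm n l, pow_add, mul_smul, smul_comm (r ^ n) a y, ha, ← map_smul,
          hl _ (Ideal.pow_mem_pow hr l), map_zero]
      rw [← hn (n + l) (Nat.le_add_right n l)] at hx'
      change xN ∈ Submodule.torsionBy B N (r ^ n) at hx'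
      rw [Submodule.mem_torsionBy_iff] at hx'
      have : r ^ n • a • y = 0 := congrArg Subtype.val hx'
      exact hw0 (by rw [← ha, smul_comm, this])
    have hsurj : Function.Surjective ι := by
      intro y
      have hrad : IsLocalRing.maximalIdeal B ≤ Ideal.radical (LinearMap.ker (LinearMap.toSpanSingleton B I y)) :=
        fun r hr => by
          obtain ⟨n, hn⟩ := htorI r hr y
          exact ⟨n, hn⟩
      obtain ⟨n, hn⟩ := Ideal.exists_pow_le_of_le_radical_of_fg hrad (IsNoetherian.noetherian _)
      suffices ∀ (n : ℕ) (y : I), (∀ a ∈ IsLocalRing.maximalIdeal B ^ n, a • y = 0) → y ∈ LinearMap.range ι from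
        this n y (fun a ha => by simpa using hn ha)
      intro n
      induction n with
      | zero => intro y h; rw [show y = 0 by simpa using h 1 (by simp)]; exact zero_mem _
      | succ n ih =>
        intro y h
        exact hIs y fun a ha => ih (a • y) fun c hc => by
          rw [← mul_smul]
          exact h _ (by rw [pow_succ]; exact Ideal.mul_mem_mul hc ha)
    exact Groth.Agent.IH.injective_congr hι.isInjective (LinearEquiv.ofBijective ι ⟨hι.injective, hsurj⟩)

end Groth.Agent.InjHullBaseChange
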