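import Mathlib

/-!
Lifting bilinear maps satisfying the Leibniz identity to linear maps on Kähler differentials.
-/

namespace Groth.Agent.KLift

open Finsupp

variable {k A : Type*} [CommRing k] [CommRing A] [Algebra k A]

theorem exists_lift {Q : Type*} [AddCommGroup Q] [Module k Q] (E : A →ₗ[k] A →ₗ[k] Q)
    (hE : ∀ a b c : A, E a (b * c) = E (a * b) c + E (a * c) b) :
    ∃ Φ : Ω[A⁄k] →ₗ[k] Q, ∀ a b : A, Φ (a • KaehlerDifferential.D k A b) = E a b := by
  classical
  let F : (A →₀ A) →ₗ[k] Q := Finsupp.lsum k fun b => E.flip b
  have hF : ∀ b a, F (Finsupp.single b a) = E a b := fun b a => by simp [F]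
  have h1 : ∀ a, E a 1 = 0 := fun a => by simpa using hE a 1 1
  have hker : (KaehlerDifferential.kerTotal k A).restrictScalars k ≤ LinearMap.ker F := by
    intro x hx
    rw [Submodule.restrictScalars_mem] at hx
    suffices h : ∀ c : A, F (c • x) = 0 by simpa using h 1
    induction hx using Submodule.span_induction with
    | mem y hy =>
      intro c
      rcases hy with (⟨⟨p, q⟩, rfl⟩ | ⟨⟨p, q⟩, rfl⟩) | ⟨t, rfl⟩
      · simp only [smul_add, smul_sub, Finsupp.smul_single, smul_eq_mul, mul_one, map_add, map_sub,
          hF, sub_self]
      · simp only [smul_add, smul_sub, Finsupp.smul_single, smul_eq_mul, mul_one, map_add, map_sub,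
          hF, hE c p q, sub_self]
      · simp only [Finsupp.smul_single, smul_eq_mul, mul_one, hF]
        rw [Algebra.algebraMap_eq_smul_one, map_smul, h1, smul_zero]
    | zero => simp
    | add y z _ _ hy hz => intro c; rw [smul_add, map_add, hy, hz, add_zero]
    | smul a y _ hy => intro c; rw [smul_smul]; exact hy _
  let e := (KaehlerDifferential.quotKerTotalEquiv k A).symm
  let G : ((A →₀ A) ⧸ KaehlerDifferential.kerTotal k A) →ₗ[k] Q :=
    { toFun := fun z => ((KaehlerDifferential.kerTotal k A).restrictScalars k).liftQ F hker z
      map_add' := fun a b => map_add _ a b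
      map_smul' := fun c a => by
        induction a using Submodule.Quotient.induction_on with
        | H a =>
          change F (c • a) = c • F a
          exact map_smul F c a }
  refine ⟨G.comp (e.toLinearMap.restrictScalars k), fun a b => ?_⟩
  have he : e (a • KaehlerDifferential.D k A b) = Submodule.Quotient.mk (Finsupp.single b a) := by
    rw [LinearEquiv.symm_apply_eq]
    change _ = Finsupp.linearCombination A (KaehlerDifferential.D k A) (Finsupp.single b a)
    simp
  change G (e (a • KaehlerDifferential.D k A b)) = _
  rw [he]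
  exact hF b a

theorem mem_of_smul_D (S : Submodule k Ω[A⁄k])
    (h : ∀ a b : A, a • KaehlerDifferential.D k A b ∈ S) (w : Ω[A⁄k]) : w ∈ S := by
  classical
  obtain ⟨l, rfl⟩ := KaehlerDifferential.linearCombination_surjective k A w
  rw [Finsupp.linearCombination_apply]
  exact Submodule.sum_mem _ fun b _ => h _ _

end Groth.Agent.KLift
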