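/-
kernel of d over perfect fields
-/
import Mathlib

open Polynomial

universe u

namespace Groth.Agent.KerDerivation


theorem finrank_adjoin_pth_root {F K : Type u} [Field F] [Field K] [Algebra F K] (p : ℕ) [Fact p.Prime] [CharP K p]
    {a : K} {c : F} (hc : algebraMap F K c = a ^ p) (ha : a ∉ (algebraMap F K).range) :
    Module.finrank F (IntermediateField.adjoin F ({a} : Set K)) = p := by
  have hp : p.Prime := Fact.out
  have hirr : Irreducible (X ^ p - C c : F[X]) := X_pow_sub_C_irreducible_of_prime hp fun b hb => ha ⟨b, by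
    have : (algebraMap F K b - a) ^ p = 0 := by rw [sub_pow_char, ← map_pow, hb, hc, sub_self]
    exact sub_eq_zero.mp (pow_eq_zero_iff hp.ne_zero |>.mp this)⟩
  have hint : IsIntegral F a := ⟨X ^ p - C c, monic_X_pow_sub_C _ hp.ne_zero, by simp [hc]⟩
  have hmin : minpoly F a = X ^ p - C c := (minpoly.eq_of_irreducible_of_monic hirr (by simp [hc])
    (monic_X_pow_sub_C _ hp.ne_zero)).symm
  rw [IntermediateField.adjoin.finrank hint, hmin, natDegree_X_pow_sub_C]

end Groth.Agent.KerDerivation
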