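import Groth.Agent.Lib.LQAff
import Groth.Prelude.Def_RelSpec2

set_option autoImplicit false
universe u

open CategoryTheory Limits AlgebraicGeometry TopologicalSpace Opposite

namespace Groth.Agent.LAMod

variable {X S : Scheme.{u}}

theorem epi_dirImg (f : X ⟶ S) [IsAffineHom f] {F G : X.Modules} [F.IsQuasicoherent] [G.IsQuasicoherent]
    (v : F ⟶ G) [Epi v] : Epi ((AMod.dirImg f).map v) := by
  let φ := (AMod.dirImg f).map v
  haveI : Epi ((SheafOfModules.toSheaf (AMod.ringSheaf (RelSpec.QCAlg.directImage f))).map φ) := by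
    refine (TopCat.Sheaf.isLocallySurjective_iff_epi (X := S.toTopCat) _).1 ?_
    refine (TopCat.Presheaf.isLocallySurjective_iff (X := S.toTopCat) _).2 fun V s x hx => ?_
    obtain ⟨W, hW, hxW, hWV⟩ := S.isBasis_affineOpens.exists_subset_of_mem_open hx V.2
    obtain ⟨W, hWa, rfl⟩ := hW
    haveI := LQcoh.isQuasicoherent_kernel v
    let T := ShortComplex.mk (kernel.ι v) v (kernel.condition v)
    have hT : T.ShortExact := { exact := ShortComplex.exact_of_f_is_kernel _ (kernelIsKernel v) }
    haveI : T.X₁.IsQuasicoherent := ‹_›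
    let s' : Γ(G, f ⁻¹ᵁ V) := s
    obtain ⟨t, ht⟩ := LQcoh.app_surjective hT (hWa.preimage f)
      (LQcoh.res G (f.preimage_mono (show W ≤ V from fun q hq => hWV hq)) s')
    exact ⟨W, fun q hq => hWV hq, ⟨t, ht⟩, hxW⟩
  haveI : (SheafOfModules.toSheaf (AMod.ringSheaf (RelSpec.QCAlg.directImage f))).Faithful := inferInstance
  exact (SheafOfModules.toSheaf (AMod.ringSheaf (RelSpec.QCAlg.directImage f))).epi_of_epi_map ‹_›

end Groth.Agent.LAMod
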