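import Groth.Prelude.Def_ARSys

set_option autoImplicit false
set_option backward.isDefEq.respectTransparency false
set_option backward.isDefEq.respectTransparency.types false
set_option linter.style.haveILetI false

universe w v u

open CategoryTheory CategoryTheory.Limits Opposite

namespace Groth.Agent.LARBasic

variable {C : Type u} [Category.{v} C]

lemma tr_comp (X : ARSys.PS C) {a b c : ℕ} (h1 : a ≤ b) (h2 : b ≤ c) :
    ARSys.tr X h2 ≫ ARSys.tr X h1 = ARSys.tr X (h1.trans h2) := by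
  rw [ARSys.tr, ARSys.tr, ARSys.tr, ← X.map_comp]; rfl

lemma tr_nat {X Y : ARSys.PS C} (u : X ⟶ Y) {a b : ℕ} (h : a ≤ b) :
    ARSys.tr X h ≫ u.app (op a) = u.app (op b) ≫ ARSys.tr Y h := u.naturality _

lemma tr_nat_assoc {X Y : ARSys.PS C} (u : X ⟶ Y) {a b : ℕ} (h : a ≤ b) {Z : C} (g : Y.obj (op a) ⟶ Z) :
    ARSys.tr X h ≫ u.app (op a) ≫ g = u.app (op b) ≫ ARSys.tr Y h ≫ g := by
  rw [← Category.assoc, tr_nat, Category.assoc]

section Abelian

variable [Abelian C]

lemma app_shortExact (S : ShortComplex (ARSys.PS C)) (hS : S.ShortExact) (k : ℕ) :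
    (S.map ((evaluation ℕᵒᵖ C).obj (op k))).ShortExact :=
  hS.map_of_exact _

lemma null_iff (X : ARSys.PS C) : ARSys.IsARNull X ↔ ∃ r, ∀ a b (h : a + r ≤ b), ARSys.tr X ((Nat.le_add_right a r).trans h) = 0 := by
  refine ⟨fun ⟨r, hr⟩ => ⟨r, fun a b h => ?_⟩, fun ⟨r, hr⟩ => ⟨r, fun n => hr n (n + r) le_rfl⟩⟩
  rw [← tr_comp X (Nat.le_add_right a r) h]
  exact (congrArg (ARSys.tr X h ≫ ·) (hr a)).trans comp_zero

theorem null_of_shortExact (S : ShortComplex (ARSys.PS C)) (hS : S.ShortExact) :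
    ARSys.IsARNull S.X₂ ↔ (ARSys.IsARNull S.X₁ ∧ ARSys.IsARNull S.X₃) := by
  constructor
  · rintro ⟨r, hr⟩
    refine ⟨⟨r, fun n => ?_⟩, ⟨r, fun n => ?_⟩⟩
    · haveI : Mono (S.f.app (op n)) := (app_shortExact S hS n).mono_f
      rw [← cancel_mono (S.f.app (op n)), zero_comp]
      exact (tr_nat S.f _).trans ((congrArg (S.f.app _ ≫ ·) (hr n)).trans comp_zero)
    · haveI : Epi (S.g.app (op (n + r))) := (app_shortExact S hS (n + r)).epi_g
      rw [← cancel_epi (S.g.app (op (n + r))), comp_zero]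
      exact (tr_nat S.g _).symm.trans ((congrArg (· ≫ S.g.app _) (hr n)).trans zero_comp)
  · rintro ⟨⟨r1, h1⟩, ⟨r3, h3⟩⟩
    refine ⟨r1 + r3, fun n => ?_⟩
    have ha : n + r1 ≤ n + r1 + r3 := Nat.le_add_right _ _
    have hz : ARSys.tr S.X₂ ha ≫ S.g.app (op (n + r1)) = 0 :=
      (tr_nat S.g _).trans ((congrArg (S.g.app _ ≫ ·) (h3 (n + r1))).trans comp_zero)
    haveI : Mono (S.map ((evaluation ℕᵒᵖ C).obj (op (n + r1)))).f := (app_shortExact S hS _).mono_f
    obtain ⟨l, hl⟩ := (app_shortExact S hS (n + r1)).exact.lift' (ARSys.tr S.X₂ ha) hz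
    replace hl : l ≫ S.f.app (op (n + r1)) = ARSys.tr S.X₂ ha := hl
    have : ARSys.tr S.X₂ ((Nat.le_add_right n r1).trans ha) = 0 := by
      rw [← tr_comp S.X₂ (Nat.le_add_right n r1) ha, ← hl, Category.assoc, ← tr_nat S.f,
        show ARSys.tr S.X₁ (Nat.le_add_right n r1) = 0 from h1 n, zero_comp, comp_zero]
    have key : ∀ b c (hb : n ≤ b) (hc : n ≤ c), b = c → ARSys.tr S.X₂ hb = 0 → ARSys.tr S.X₂ hc = 0 := by
      rintro b c hb hc rfl h; exact h
    exact key _ _ _ _ (Nat.add_assoc n r1 r3) this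

lemma image_le_iff {X Y Z : C} (f : X ⟶ Z) (g : Y ⟶ Z) :
    imageSubobject f ≤ imageSubobject g ↔ f ≫ cokernel.π g = 0 := by
  have hg : (imageSubobject g).arrow ≫ cokernel.π g = 0 := by
    rw [← cancel_epi (factorThruImageSubobject g), imageSubobject_arrow_comp_assoc, cokernel.condition, comp_zero]
  constructor
  · intro h
    calc f ≫ cokernel.π g = (factorThruImageSubobject f ≫ Subobject.ofLE _ _ h ≫ (imageSubobject g).arrow) ≫ cokernel.π g := by
          rw [Subobject.ofLE_arrow, imageSubobject_arrow_comp]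
      _ = 0 := by rw [Category.assoc, Category.assoc, hg, comp_zero, comp_zero]
  · intro h
    have hz : (imageSubobject g).arrow ≫ cokernel.π (imageSubobject g).arrow = 0 := cokernel.condition _
    have hd : g ≫ cokernel.π (imageSubobject g).arrow = 0 := by
      conv_lhs => arg 1; rw [← imageSubobject_arrow_comp g]
      rw [Category.assoc, hz, comp_zero]
    have : f ≫ cokernel.π (imageSubobject g).arrow = 0 := by
      rw [← cokernel.π_desc g _ hd, ← Category.assoc, h, zero_comp]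
    exact imageSubobject_le f (Abelian.monoLift (imageSubobject g).arrow f this) (Abelian.monoLift_comp _ _ _)

/-- Element-free form of the uniform Mittag-Leffler condition. -/
def MLr (X : ARSys.PS C) (r : ℕ) : Prop :=
  ∀ n b (h : n + r ≤ b), ∀ (Z : C) (ψ : X.obj (op n) ⟶ Z),
    ARSys.tr X ((Nat.le_add_right n r).trans h) ≫ ψ = 0 → ARSys.tr X (Nat.le_add_right n r) ≫ ψ = 0

theorem isMLAR_iff (X : ARSys.PS C) : ARSys.IsMLAR X ↔ ∃ r, MLr X r := by
  constructor
  · rintro ⟨r, hr⟩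
    refine ⟨r, fun n b h Z ψ hψ => ?_⟩
    obtain ⟨s, rfl⟩ := Nat.le.dest ((Nat.le_add_right n r).trans h)
    have hle := (image_le_iff _ _).1 (hr s (by omega) n).ge
    have hψ' : ARSys.shiftMap X s n ≫ ψ = 0 := hψ
    rw [← cokernel.π_desc _ ψ hψ', ← Category.assoc]
    exact (congrArg (· ≫ _) hle).trans zero_comp
  · rintro ⟨r, hr⟩
    refine ⟨r, fun s hs n => le_antisymm ?_ ?_⟩
    · rw [image_le_iff]
      rw [show ARSys.shiftMap X s n = ARSys.tr X (Nat.add_le_add_left hs n) ≫ ARSys.shiftMap X r n from (tr_comp X _ _).symm,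
        Category.assoc, cokernel.condition, comp_zero]
    · rw [image_le_iff]
      exact hr n (n + s) (Nat.add_le_add_left hs n) _ _ (cokernel.condition _)

theorem mlar_quot (S : ShortComplex (ARSys.PS C)) (hS : S.ShortExact) (hY : ARSys.IsMLAR S.X₂) : ARSys.IsMLAR S.X₃ := by
  rw [isMLAR_iff] at hY ⊢
  obtain ⟨r, hr⟩ := hY
  refine ⟨r, fun n b h Z ψ hψ => ?_⟩
  haveI : Epi (S.g.app (op (n + r))) := (app_shortExact S hS _).epi_g
  rw [← cancel_epi (S.g.app (op (n + r))), comp_zero, ← tr_nat_assoc]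
  exact hr n b h _ _ (by rw [tr_nat_assoc, hψ, comp_zero])

theorem mlar_ext (S : ShortComplex (ARSys.PS C)) (hS : S.ShortExact) (hX : ARSys.IsMLAR S.X₁) (hZ : ARSys.IsMLAR S.X₃) :
    ARSys.IsMLAR S.X₂ := by
  rw [isMLAR_iff] at hX hZ ⊢
  obtain ⟨r1, h1⟩ := hX
  obtain ⟨r3, h3⟩ := hZ
  refine ⟨r1 + r3, fun n b h Z ψ hψ => ?_⟩
  have hb : n + r1 + r3 ≤ b := by omega
  let q := ARSys.tr S.X₂ (Nat.le_add_right n r1) ≫ ψ
  have hfq : S.f.app (op (n + r1)) ≫ q = 0 := by
    rw [← tr_nat_assoc]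
    exact h1 n b (by omega) _ _ (by rw [tr_nat_assoc, hψ, comp_zero])
  haveI : Epi (S.map ((evaluation ℕᵒᵖ C).obj (op (n + r1)))).g := (app_shortExact S hS _).epi_g
  obtain ⟨q', hq'⟩ := (app_shortExact S hS (n + r1)).exact.desc' q hfq
  replace hq' : S.g.app (op (n + r1)) ≫ q' = q := hq'
  haveI : Epi (S.g.app (op b)) := (app_shortExact S hS b).epi_g
  have hq0 := h3 (n + r1) b hb _ q' (by
    rw [← cancel_epi (S.g.app (op b)), comp_zero, ← tr_nat_assoc, hq', ← Category.assoc, tr_comp]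
    exact hψ)
  have h0 : ARSys.tr S.X₂ (Nat.le_add_right (n + r1) r3) ≫ q = 0 := by
    rw [← hq', tr_nat_assoc, hq0, comp_zero]
  have key : ∀ c d (hc : n ≤ c) (hd : n ≤ d), c = d → ARSys.tr S.X₂ hc ≫ ψ = 0 → ARSys.tr S.X₂ hd ≫ ψ = 0 := by
    rintro c d hc hd rfl h; exact h
  refine key _ _ ((Nat.le_add_right n r1).trans (Nat.le_add_right (n + r1) r3)) _ (Nat.add_assoc n r1 r3) ?_
  rw [← tr_comp S.X₂ (Nat.le_add_right n r1) (Nat.le_add_right (n + r1) r3), Category.assoc]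
  exact h0

instance epi_app {X Y : ARSys.PS C} (u : X ⟶ Y) [Epi u] (k : ℕᵒᵖ) : Epi (u.app k) :=
  ((evaluation ℕᵒᵖ C).obj k).map_epi u

instance mono_app {X Y : ARSys.PS C} (u : X ⟶ Y) [Mono u] (k : ℕᵒᵖ) : Mono (u.app k) :=
  ((evaluation ℕᵒᵖ C).obj k).map_mono u

lemma coker_app_desc {X Y : ARSys.PS C} (u : X ⟶ Y) (n : ℕ) {Z : C} (ψ : Y.obj (op n) ⟶ Z)
    (h : u.app (op n) ≫ ψ = 0) : ∃ d, (cokernel.π u).app (op n) ≫ d = ψ := by
  have hx : ((ShortComplex.mk u (cokernel.π u) (cokernel.condition u)).map ((evaluation ℕᵒᵖ C).obj (op n))).Exact :=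
    (ShortComplex.exact_of_g_is_cokernel _ (cokernelIsCokernel u)).map _
  haveI : Epi ((ShortComplex.mk u (cokernel.π u) (cokernel.condition u)).map ((evaluation ℕᵒᵖ C).obj (op n))).g :=
    inferInstanceAs (Epi ((cokernel.π u).app (op n)))
  obtain ⟨d, hd⟩ := hx.desc' ψ h
  exact ⟨d, hd⟩

lemma coker_null_iff {X Y : ARSys.PS C} (u : X ⟶ Y) (r : ℕ) :
    (∀ n, ARSys.shiftMap (cokernel u) r n = 0) ↔ ∀ n, ARSys.shiftMap Y r n ≫ cokernel.π (u.app (op n)) = 0 := by
  refine forall_congr' fun n => ⟨fun h => ?_, fun h => ?_⟩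
  · obtain ⟨d, hd⟩ := coker_app_desc u n _ (cokernel.condition (u.app (op n)))
    rw [← hd, ← Category.assoc, tr_nat]
    rw [show ARSys.tr (cokernel u) _ = 0 from h, comp_zero, zero_comp]
  · have h0 : u.app (op n) ≫ (cokernel.π u).app (op n) = 0 := by
      rw [← NatTrans.comp_app, cokernel.condition]; rfl
    rw [← cancel_epi ((cokernel.π u).app (op (n + r))), comp_zero, ← tr_nat, ← cokernel.π_desc _ _ h0, ← Category.assoc]
    rw [show ARSys.tr Y _ ≫ cokernel.π (u.app (op n)) = 0 from h, zero_comp]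

theorem strict_image {X Y : ARSys.PS C} (u : Y ⟶ X) (hY : ARSys.IsStrict Y) (hu : ARSys.IsARIso u) :
    ∃ r : ℕ, ∀ s : ℕ, r ≤ s → ∀ n : ℕ,
      imageSubobject (ARSys.shiftMap X s n) = imageSubobject (u.app (op n)) := by
  obtain ⟨r, hr⟩ := hu.2
  have hr' := (coker_null_iff u r).1 hr
  refine ⟨r, fun s hs n => le_antisymm ?_ ?_⟩
  · rw [image_le_iff, show ARSys.shiftMap X s n = ARSys.tr X (Nat.add_le_add_left hs n) ≫ ARSys.shiftMap X r n from (tr_comp X _ _).symm,
      Category.assoc, hr' n, comp_zero]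
  · rw [image_le_iff]
    haveI := hY n (n + s) (Nat.le_add_right n s)
    rw [← cancel_epi (ARSys.tr Y (Nat.le_add_right n s)), comp_zero, tr_nat_assoc, cokernel.condition, comp_zero]

theorem mlar_iff_strict (X : ARSys.PS C) :
    ARSys.IsMLAR X ↔ ∃ (Y : ARSys.PS C) (u : Y ⟶ X), ARSys.IsStrict Y ∧ ARSys.IsARIso u := by
  constructor
  · intro h
    obtain ⟨r, hr⟩ := (isMLAR_iff X).1 h
    let t : (ARSys.shift C r).obj X ⟶ X :=
      { app := fun k => X.map (homOfLE (Nat.le_add_right k.unop r)).op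
        naturality := fun a b f => by
          show X.map _ ≫ X.map _ = X.map _ ≫ X.map _
          rw [← X.map_comp, ← X.map_comp]; rfl }
    let e := Abelian.factorThruImage t
    let ι := Abelian.image.ι t
    have he : ∀ k : ℕ, e.app (op k) ≫ ι.app (op k) = ARSys.shiftMap X r k := fun k => by
      rw [← NatTrans.comp_app, Abelian.image.fac]
    refine ⟨_, ι, fun n m hnm => Preadditive.epi_of_cancel_zero _ fun {Z} ψ hψ => ?_, ⟨0, fun n => ?_⟩, ⟨r, (coker_null_iff ι r).2 fun n => ?_⟩⟩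
    · haveI : Mono (pushout.inr (ι.app (op n)) ψ) := inferInstance
      have hd : ARSys.tr X ((Nat.le_add_right n r).trans (Nat.add_le_add_right hnm r)) ≫ pushout.inl (ι.app (op n)) ψ = 0 := by
        rw [← tr_comp X hnm (Nat.le_add_right m r), ← show e.app (op m) ≫ ι.app (op m) = ARSys.tr X (Nat.le_add_right m r) from he m,
          Category.assoc, Category.assoc, ← tr_nat_assoc, pushout.condition, ← Category.assoc (ARSys.tr _ hnm), hψ, zero_comp, comp_zero]
      have h0 := hr n (m + r) (Nat.add_le_add_right hnm r) _ _ hd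
      rw [← show e.app (op n) ≫ ι.app (op n) = ARSys.tr X (Nat.le_add_right n r) from he n, Category.assoc, pushout.condition,
        ← Category.assoc] at h0
      rw [← cancel_mono (pushout.inr (ι.app (op n)) ψ), zero_comp, ← cancel_epi (e.app (op n)), ← Category.assoc, h0, comp_zero]
    · exact ((Functor.isZero_iff _).1 (isZero_kernel_of_mono ι) (op (n + 0))).eq_of_src _ _
    · rw [← he, Category.assoc, cokernel.condition, comp_zero]
  · rintro ⟨Y, u, hY, hu⟩
    obtain ⟨r, hr⟩ := strict_image u hY hu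
    exact ⟨r, fun s hs n => (hr s hs n).trans (hr r le_rfl n).symm⟩

theorem exists_unique_desc {A : Type w} [CommRing A] [Linear A C]
    (J : Ideal A) (X Y : ARSys.PS C) (hX : ARSys.IsAdic J X) (hY : ARSys.TermKilled J Y) (r : ℕ)
    (f : (ARSys.shift C r).obj X ⟶ Y) :
    ∃! g : X ⟶ Y, ∀ n : ℕ, f.app (op n) = ARSys.shiftMap X r n ≫ g.app (op n) := by
  have hk : ∀ n, ARSys.HomKilledBy (J ^ (n + 1)) (f.app (op n)) := fun n a ha => by
    rw [show a • f.app (op n) = f.app (op n) ≫ (a • 𝟙 (Y.obj (op n))) by simp, hY n a ha, comp_zero]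
  choose g hg hu using fun n => (hX.2 n (n + r) (Nat.le_add_right n r)).2 _ (f.app (op n)) (hk n)
  refine ⟨{ app := fun k => g k.unop, naturality := ?_ }, fun n => (hg n).symm, fun g' hg' => ?_⟩
  · rintro ⟨m⟩ ⟨n⟩ k
    have hnm : n ≤ m := leOfHom k.unop
    show ARSys.tr X hnm ≫ g n = g m ≫ ARSys.tr Y hnm
    have hepi : ∀ {Z : C} (a b : X.obj (op m) ⟶ Z), (∀ c : A, c ∈ J ^ (m + 1) → c • a = 0 ∧ c • b = 0) →
        ARSys.shiftMap X r m ≫ a = ARSys.shiftMap X r m ≫ b → a = b := fun {Z} a b hc hab => by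
      obtain ⟨ψ, -, huniq⟩ := (hX.2 m (m + r) (Nat.le_add_right m r)).2 _ (ARSys.shiftMap X r m ≫ a) (fun c hc' => by
        rw [← Linear.comp_smul, (hc c hc').1, comp_zero])
      exact (huniq a rfl).trans (huniq b hab.symm).symm
    refine hepi _ _ (fun c hc => ?_) ?_
    · constructor <;> rw [← Category.id_comp (_ ≫ _), ← Linear.smul_comp, hX.1 m c hc, zero_comp]
    · have e1 : ARSys.shiftMap X r m ≫ g m = f.app (op m) := hg m
      have e2 : ARSys.shiftMap X r n ≫ g n = f.app (op n) := hg n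
      rw [← Category.assoc, ← Category.assoc, e1, tr_comp]
      have e3 := f.naturality (homOfLE hnm).op
      show _ = f.app (op m) ≫ ARSys.tr Y hnm
      rw [← e3, ← e2, ← Category.assoc]
      congr 1
      exact (tr_comp X (Nat.le_add_right n r) (Nat.add_le_add_right hnm r)).symm
  · ext ⟨n⟩
    exact hu n _ (hg' n).symm

end Abelian

end Groth.Agent.LARBasic
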