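import Mathlib
import Groth.Agent.Lib.H5RAcy

/-! Objects of an adapted class are acyclic. -/

set_option autoImplicit false
universe w w' v v' u u'
open CategoryTheory Category Limits

namespace Groth.Agent.LAcyClass

variable {A : Type u} [Category.{v} A] [Abelian A] {B : Type u'} [Category.{v'} B] [Abelian B]
  (F : A ⥤ B) [F.Additive] (I : ObjectProperty A)

def Ret (Z : A) : Prop := ∃ (Y : A) (s : Z ⟶ Y) (r : Y ⟶ Z), I Y ∧ s ≫ r = 𝟙 Z

lemma step (h1 : ∀ X : A, ∃ (Y : A) (ι : X ⟶ Y), I Y ∧ Mono ι)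
    (h2 : ∀ S : ShortComplex A, S.ShortExact → I S.X₁ → I S.X₂ → I S.X₃ ∧ (S.map F).ShortExact)
    (T : ShortComplex A) (hT : T.ShortExact) [Injective T.X₂] (h : Ret I T.X₁) :
    (T.map F).ShortExact ∧ Ret I T.X₃ := by
  haveI := hT.mono_f
  haveI := hT.epi_g
  obtain ⟨Z, s, r, hZ, hsr⟩ := h
  haveI : IsSplitMono s := ⟨⟨⟨r, hsr⟩⟩⟩
  obtain ⟨Y, e, hY, he⟩ := h1 (pushout s T.f)
  haveI := he
  let i : Z ⟶ Y := pushout.inl s T.f ≫ e
  haveI : Mono i := mono_comp _ _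
  let a : T.X₂ ⟶ Y := pushout.inr s T.f ≫ e
  let π : Y ⟶ T.X₂ := Injective.factorThru
    (pushout.desc (r ≫ T.f) (𝟙 T.X₂) (by rw [← assoc, hsr, id_comp, comp_id])) e
  have hq : e ≫ π = pushout.desc (r ≫ T.f) (𝟙 T.X₂) (by rw [← assoc, hsr, id_comp, comp_id]) :=
    Injective.comp_factorThru _ _
  have hπi : i ≫ π = r ≫ T.f := by
    rw [show i ≫ π = pushout.inl s T.f ≫ (e ≫ π) from assoc _ _ _, hq, pushout.inl_desc]
  have haπ : a ≫ π = 𝟙 _ := by
    rw [show a ≫ π = pushout.inr s T.f ≫ (e ≫ π) from assoc _ _ _, hq, pushout.inr_desc]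
  have hsa : s ≫ i = T.f ≫ a := by simp only [i, a, ← assoc, pushout.condition]
  let T' : ShortComplex A := ShortComplex.mk i (cokernel.π i) (cokernel.condition i)
  have hT' : T'.ShortExact := { exact := ShortComplex.exact_of_g_is_cokernel _ (cokernelIsCokernel _) }
  obtain ⟨hQ, hF⟩ := h2 T' hT' hZ hY
  let hTc : IsColimit (CokernelCofork.ofπ T.g T.zero) := hT.gIsCokernel
  obtain ⟨c, hc⟩ := CokernelCofork.IsColimit.desc' hTc (a ≫ cokernel.π i) (by
    rw [← assoc, ← hsa, assoc, cokernel.condition, comp_zero])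
  replace hc : T.g ≫ c = a ≫ cokernel.π i := hc
  let c' : cokernel i ⟶ T.X₃ := cokernel.desc i (π ≫ T.g) (by rw [← assoc, hπi, assoc, T.zero, comp_zero])
  have hcc : c ≫ c' = 𝟙 _ := by
    rw [← cancel_epi T.g, ← assoc, hc, assoc, cokernel.π_desc, ← assoc, haπ]
    exact (id_comp _).trans (comp_id _).symm
  refine ⟨?_, ⟨_, c, c', hQ, hcc⟩⟩
  haveI : Mono (F.map i) := hF.mono_f
  haveI : Epi (F.map (cokernel.π i)) := hF.epi_g
  refine ShortComplex.ShortExact.mk' ?_ ?_ ?_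
  · rw [ShortComplex.exact_iff_exact_up_to_refinements]
    intro W x hx
    change W ⟶ F.obj T.X₂ at x
    change x ≫ F.map T.g = 0 at hx
    obtain ⟨W', p, hp, y, hy⟩ := hF.exact.exact_up_to_refinements (x ≫ F.map a)
      (show (x ≫ F.map a) ≫ F.map (cokernel.π i) = 0 by
        rw [assoc, ← F.map_comp, ← hc, F.map_comp, ← assoc, hx, zero_comp])
    change W' ⟶ F.obj Z at y
    change p ≫ x ≫ F.map a = y ≫ F.map i at hy
    refine ⟨W', p, hp, y ≫ F.map r, ?_⟩
    change p ≫ x = (y ≫ F.map r) ≫ F.map T.f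
    calc p ≫ x = p ≫ x ≫ F.map (a ≫ π) := by rw [haπ, F.map_id, comp_id]
      _ = (p ≫ x ≫ F.map a) ≫ F.map π := by simp only [F.map_comp, assoc]
      _ = (y ≫ F.map i) ≫ F.map π := by rw [hy]
      _ = (y ≫ F.map r) ≫ F.map T.f := by rw [assoc, ← F.map_comp, hπi, F.map_comp, assoc]
  · haveI : Mono (F.map s) := inferInstance
    haveI : Mono (F.map s ≫ F.map i) := mono_comp _ _
    refine @mono_of_mono _ _ _ _ _ (F.map T.f) (F.map a) ?_
    rw [← F.map_comp, ← hsa, F.map_comp]; infer_instance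
  · haveI : Epi (F.map c') := (SplitEpi.map ⟨c, hcc⟩ F).epi
    haveI : Epi (F.map (cokernel.π i) ≫ F.map c') := epi_comp _ _
    refine @epi_of_epi _ _ _ _ _ (F.map π) (F.map T.g) ?_
    rw [← F.map_comp, ← cokernel.π_desc i (π ≫ T.g) (by rw [← assoc, hπi, assoc, T.zero, comp_zero]), F.map_comp]
    infer_instance

/-- exact complexes of injectives starting with an object of the class stay exact -/
lemma exactAt_map (h1 : ∀ X : A, ∃ (Y : A) (ι : X ⟶ Y), I Y ∧ Mono ι)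
    (h2 : ∀ S : ShortComplex A, S.ShortExact → I S.X₁ → I S.X₂ → I S.X₃ ∧ (S.map F).ShortExact)
    (C : CochainComplex A ℤ) (m : ℤ) [C.IsStrictlyGE m] (hC : ∀ i, C.ExactAt i)
    (hm : Ret I (C.X m)) (hinj : ∀ i, m < i → Injective (C.X i)) :
    ∀ i, ((F.mapHomologicalComplex (.up ℤ)).obj C).ExactAt i := by
  have w : ∀ n, C.iCycles n ≫ C.toCycles n (n + 1) = 0 := fun n => by
    rw [← cancel_mono (C.iCycles (n + 1)), assoc, C.toCycles_i, C.iCycles_d, zero_comp]
  have hT : ∀ n, (ShortComplex.mk (C.iCycles n) (C.toCycles n (n + 1)) (w n)).ShortExact := fun n => by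
    haveI : Epi (C.toCycles n (n + 1)) := by
      have h2 := C.exactAt_iff_isZero_homology (n + 1) |>.1 (hC (n + 1))
      exact (ShortComplex.exact_of_g_is_cokernel (ShortComplex.mk (C.toCycles n (n + 1)) (C.homologyπ (n + 1)) (by simp))
        (C.homologyIsCokernel n (n + 1) (by simp))).epi_f (h2.eq_of_tgt _ _)
    refine ShortComplex.ShortExact.mk' ?_ inferInstance inferInstance
    rw [ShortComplex.exact_iff_exact_up_to_refinements]
    intro W x hx
    change W ⟶ C.X n at x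
    change x ≫ C.toCycles n (n + 1) = 0 at hx
    refine ⟨W, 𝟙 W, inferInstance, C.liftCycles x (n + 1) (by simp) ?_, ?_⟩
    · rw [← C.toCycles_i n (n + 1), ← assoc, hx, zero_comp]
    · simp
  have hz0 : ∀ n, n ≤ m → IsZero (C.cycles n) := fun n hn => by
    obtain ⟨l, rfl⟩ : ∃ l, n = l + 1 := ⟨n - 1, by omega⟩
    haveI : Epi (C.toCycles l (l + 1)) := (hT l).epi_g
    exact IsZero.of_epi (C.toCycles l (l + 1)) (C.isZero_of_isStrictlyGE m _ (by omega))
  have hlow : ∀ n, n ≤ m → (((ShortComplex.mk (C.iCycles n) (C.toCycles n (n + 1)) (w n)).map F).ShortExact) ∧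
      IsIso (C.toCycles n (n + 1)) := fun n hn => by
    haveI : IsIso (C.toCycles n (n + 1)) := (hT n).isIso_g_iff.2 (hz0 n hn)
    refine ⟨?_, inferInstance⟩
    exact (ShortComplex.Splitting.map (ShortComplex.Splitting.ofIsZeroOfIsIso _ (hz0 n hn) ‹_›) F).shortExact
  have hZ : ∀ k : ℕ, Ret I (C.cycles (m + 1 + k)) := by
    intro k
    induction k with
    | zero =>
      haveI := (hlow m le_rfl).2
      obtain ⟨Y, s, r, hY, hsr⟩ := hm
      simp only [Nat.cast_zero, add_zero]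
      exact ⟨Y, inv (C.toCycles m (m + 1)) ≫ s, r ≫ C.toCycles m (m + 1), hY, by
        rw [assoc, ← assoc s r, hsr, id_comp, IsIso.inv_hom_id]⟩
    | succ k ih =>
      haveI : Injective (ShortComplex.mk (C.iCycles (m + 1 + k)) (C.toCycles (m + 1 + k) (m + 1 + k + 1)) (w _)).X₂ :=
        hinj _ (by omega)
      have := (step F I h1 h2 _ (hT (m + 1 + k)) ih).2
      rwa [show m + 1 + ((k + 1 : ℕ) : ℤ) = m + 1 + (k : ℤ) + 1 by push_cast; ring]
  have hall : ∀ n, ((ShortComplex.mk (C.iCycles n) (C.toCycles n (n + 1)) (w n)).map F).ShortExact := fun n => by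
    by_cases hn : n ≤ m
    · exact (hlow n hn).1
    · obtain ⟨k, rfl⟩ : ∃ k : ℕ, n = m + 1 + k := ⟨(n - m - 1).toNat, by omega⟩
      haveI : Injective (ShortComplex.mk (C.iCycles (m + 1 + k)) (C.toCycles (m + 1 + k) (m + 1 + k + 1)) (w _)).X₂ :=
        hinj _ (by omega)
      exact (step F I h1 h2 _ (hT _) (hZ k)).1
  intro i
  obtain ⟨l, rfl⟩ : ∃ l, i = l + 1 := ⟨i - 1, by omega⟩
  haveI : Epi (F.map (C.toCycles l (l + 1))) := (hall l).epi_g
  haveI : Mono (F.map (C.iCycles (l + 1 + 1))) := (hall (l + 1 + 1)).mono_f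
  rw [HomologicalComplex.exactAt_iff' _ l (l + 1) (l + 1 + 1) (by simp) (by simp),
    ShortComplex.exact_iff_exact_up_to_refinements]
  intro W x hx
  change W ⟶ F.obj (C.X (l + 1)) at x
  change x ≫ F.map (C.d (l + 1) (l + 1 + 1)) = 0 at hx
  obtain ⟨W₁, π₁, _, y, hy⟩ : ∃ (W₁ : B) (π₁ : W₁ ⟶ W) (_ : Epi π₁) (y : W₁ ⟶ F.obj (C.cycles (l + 1))),
      π₁ ≫ x = y ≫ F.map (C.iCycles (l + 1)) :=
    (hall (l + 1)).exact.exact_up_to_refinements x (by
      change x ≫ F.map (C.toCycles (l + 1) (l + 1 + 1)) = 0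
      rw [← cancel_mono (F.map (C.iCycles (l + 1 + 1))), assoc, ← F.map_comp, C.toCycles_i, hx, zero_comp])
  obtain ⟨W₂, π₂, _, z, hz⟩ := surjective_up_to_refinements_of_epi (F.map (C.toCycles l (l + 1))) y
  refine ⟨W₂, π₂ ≫ π₁, inferInstance, z, ?_⟩
  change (π₂ ≫ π₁) ≫ x = z ≫ F.map (C.d l (l + 1))
  rw [assoc, hy, ← assoc, hz, assoc, ← F.map_comp, C.toCycles_i]

end Groth.Agent.LAcyClass
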