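import Groth.Prelude.Def_AffAlg
import Groth.Prelude.Def_RelSpec

set_option autoImplicit false
universe u

open CategoryTheory Limits AlgebraicGeometry TopologicalSpace Opposite

namespace Groth.Agent.LAffAlg

variable {X Y Z S : Scheme.{u}}

/-- morphism from an open to an affine open given by a ring map -/
noncomputable def P {T : X.Opens} (hT : IsAffineOpen T) (W : Y.Opens) (φ : Γ(X, T) ⟶ Γ(Y, W)) :
    (W : Scheme.{u}) ⟶ X :=
  W.toSpecΓ ≫ Spec.map φ ≫ hT.fromSpec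

lemma P_appLE {T : X.Opens} (hT : IsAffineOpen T) (W : Y.Opens) (h : Y ⟶ X) (e : W ≤ h ⁻¹ᵁ T) :
    P hT W (h.appLE T W e) = W.ι ≫ h := by
  rw [P, ← Category.assoc, Scheme.Opens.toSpecΓ_SpecMap_appLE, Category.assoc,
    IsAffineOpen.toSpecΓ_fromSpec, Scheme.Hom.resLE_comp_ι]

lemma P_injective {T : X.Opens} (hT : IsAffineOpen T) (W : Y.Opens) {φ ψ : Γ(X, T) ⟶ Γ(Y, W)}
    (h : P hT W φ = P hT W ψ) : φ = ψ := by
  simp only [P, ← Category.assoc, cancel_mono] at h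
  have h' := congrArg Scheme.Hom.appTop h
  simp only [Scheme.Hom.comp_appTop, Scheme.Opens.toSpecΓ_appTop] at h'
  rw [← Category.assoc, ← Category.assoc, cancel_mono, Scheme.ΓSpecIso_naturality,
    Scheme.ΓSpecIso_naturality, cancel_epi] at h'
  exact h'

variable {f : X ⟶ S} [IsAffineHom f] {g : Y ⟶ S}

lemma algHom_app (h : Y ⟶ X) (w : h ≫ f = g) (U : S.Opens) (e : g ⁻¹ᵁ U ≤ h ⁻¹ᵁ (f ⁻¹ᵁ U)) :
    (AffAlg.algHom f g h w).app (op U) = h.appLE (f ⁻¹ᵁ U) (g ⁻¹ᵁ U) e := by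
  subst w
  simp only [AffAlg.algHom]
  rw [Scheme.Hom.appLE]
  change h.app (f ⁻¹ᵁ U) ≫ 𝟙 _ = _
  exact (congrArg (h.app (f ⁻¹ᵁ U) ≫ ·) (Y.presheaf.map_id _).symm).trans rfl

lemma P_algHom (h : Y ⟶ X) (w : h ≫ f = g) {U : S.Opens} (hU : IsAffineOpen U) :
    P (hU.preimage f) (g ⁻¹ᵁ U) ((AffAlg.algHom f g h w).app (op U)) = (g ⁻¹ᵁ U).ι ≫ h := by
  have e : g ⁻¹ᵁ U ≤ h ⁻¹ᵁ (f ⁻¹ᵁ U) := by subst w; rfl
  rw [algHom_app h w U e, P_appLE]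

lemma P_comp (ω : AffAlg.alg f ⟶ AffAlg.alg g) (hω : f.c ≫ ω = g.c) {U : S.Opens} (hU : IsAffineOpen U) :
    P (hU.preimage f) (g ⁻¹ᵁ U) (ω.app (op U)) ≫ f = (g ⁻¹ᵁ U).ι ≫ g := by
  have h1 : Spec.map (f.app U) ≫ hU.fromSpec = (hU.preimage f).fromSpec ≫ f := by
    rw [← hU.SpecMap_appLE_fromSpec f (hU.preimage f) le_rfl, ← Scheme.Hom.app_eq_appLE]
  have h2 : f.app U ≫ ω.app (op U) = g.app U := NatTrans.congr_app hω (op U)
  rw [P, Category.assoc, Category.assoc, ← h1]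
  rw [← Spec.map_comp_assoc]
  refine Eq.trans ?_ (morphismRestrict_ι g U)
  rw [← hU.toSpecΓ_fromSpec, ← Category.assoc (g ∣_ U), ← Scheme.Opens.toSpecΓ_naturality,
    Category.assoc]
  exact congrArg (fun φ => (g ⁻¹ᵁ U).toSpecΓ ≫ Spec.map φ ≫ hU.fromSpec) h2

lemma P_restrict (ω : AffAlg.alg f ⟶ AffAlg.alg g) {U V : S.Opens} (hU : IsAffineOpen U)
    (hV : IsAffineOpen V) (hVU : V ≤ U) :
    Y.homOfLE (g.preimage_mono hVU) ≫ P (hU.preimage f) (g ⁻¹ᵁ U) (ω.app (op U)) =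
      P (hV.preimage f) (g ⁻¹ᵁ V) (ω.app (op V)) := by
  have hn : X.presheaf.map (homOfLE (f.preimage_mono hVU)).op ≫ ω.app (op V) =
      ω.app (op U) ≫ Y.presheaf.map (homOfLE (g.preimage_mono hVU)).op :=
    ω.naturality (homOfLE hVU).op
  rw [P, P, ← Category.assoc, ← Scheme.Opens.toSpecΓ_SpecMap_presheaf_map, Category.assoc,
    ← Spec.map_comp_assoc, ← hn, Spec.map_comp_assoc,
    IsAffineOpen.map_fromSpec (hU.preimage f) (hV.preimage f)]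

lemma hom_ext_affine {W : Scheme.{u}} (a b : Y ⟶ W)
    (h : ∀ U : S.affineOpens, (g ⁻¹ᵁ U.1).ι ≫ a = (g ⁻¹ᵁ U.1).ι ≫ b) : a = b :=
  (Scheme.openCoverOfIsOpenCover Y (fun U : S.affineOpens => g ⁻¹ᵁ U.1)
    (by rw [IsOpenCover, ← Scheme.Hom.preimage_iSup, iSup_affineOpens_eq_top]; rfl)).hom_ext a b h

theorem algOf_injective : Function.Injective (AffAlg.algOf f g) := by
  rintro ⟨h, w⟩ ⟨h', w'⟩ he
  have he' : AffAlg.algHom f g h w = AffAlg.algHom f g h' w' := congrArg Subtype.val he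
  refine Subtype.ext (hom_ext_affine (g := g) h h' fun U => ?_)
  rw [← P_algHom h w U.2, ← P_algHom h' w' U.2, he']

lemma algHoms_ext (ω ω' : AffAlg.alg f ⟶ AffAlg.alg g)
    (h : ∀ (U : S.Opens), IsAffineOpen U → ω.app (op U) = ω'.app (op U)) : ω = ω' := by
  apply (Functor.IsCoverDense.restrictHomEquivHom (G := Scheme.AffineZariskiSite.toOpensFunctor S)
    (K := Opens.grothendieckTopology S) (ℱ := AffAlg.alg f)
    (ℱ' := (⟨AffAlg.alg g, TopCat.Sheaf.pushforward_sheaf_of_sheaf _ Y.sheaf.property⟩ :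
      TopCat.Sheaf CommRingCat.{u} S.carrier))).symm.injective
  ext U : 2
  exact h U.unop.1 U.unop.2

theorem exists_hom (ω : AffAlg.alg f ⟶ AffAlg.alg g) (hω : f.c ≫ ω = g.c) :
    ∃ (h : Y ⟶ X) (w : h ≫ f = g), AffAlg.algHom f g h w = ω := by
  have hcov : IsOpenCover (fun U : S.affineOpens => g ⁻¹ᵁ U.1) := by
    rw [IsOpenCover, ← Scheme.Hom.preimage_iSup, iSup_affineOpens_eq_top]; rfl
  let 𝒰 := Scheme.openCoverOfIsOpenCover Y _ hcov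
  let m : ∀ U : S.affineOpens, ((g ⁻¹ᵁ U.1 : Y.Opens) : Scheme.{u}) ⟶ X :=
    fun U => P (U.2.preimage f) (g ⁻¹ᵁ U.1) (ω.app (op U.1))
  have hc : ∀ U V : S.affineOpens,
      pullback.fst (g ⁻¹ᵁ U.1).ι (g ⁻¹ᵁ V.1).ι ≫ m U =
        pullback.snd (g ⁻¹ᵁ U.1).ι (g ⁻¹ᵁ V.1).ι ≫ m V := by
    intro U V
    let p := pullback.fst (g ⁻¹ᵁ U.1).ι (g ⁻¹ᵁ V.1).ι
    let q := pullback.snd (g ⁻¹ᵁ U.1).ι (g ⁻¹ᵁ V.1).ι
    let z := p ≫ (g ⁻¹ᵁ U.1).ι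
    let ι' := {W : S.affineOpens // W.1 ≤ U.1 ∧ W.1 ≤ V.1}
    have hc' : IsOpenCover (fun W : ι' => z ⁻¹ᵁ (g ⁻¹ᵁ W.1.1)) := by
      refine top_le_iff.1 fun x _ => ?_
      have hxU : g (z x) ∈ U.1 := by
        change g ((g ⁻¹ᵁ U.1).ι (p x)) ∈ U.1
        exact (p x).2
      have hxV : g (z x) ∈ V.1 := by
        change g ((p ≫ (g ⁻¹ᵁ U.1).ι) x) ∈ V.1
        rw [pullback.condition]
        exact (q x).2
      obtain ⟨W, hW, hxW, hle⟩ := S.isBasis_affineOpens.exists_subset_of_mem_open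
        (show g (z x) ∈ ((U.1 ⊓ V.1 : S.Opens) : Set S) from ⟨hxU, hxV⟩) (U.1 ⊓ V.1).2
      obtain ⟨W, hWa, rfl⟩ := hW
      exact Opens.mem_iSup.2 ⟨⟨⟨W, hWa⟩, fun a ha => (hle ha).1, fun a ha => (hle ha).2⟩, hxW⟩
    refine (Scheme.openCoverOfIsOpenCover _ _ hc').hom_ext _ _ fun (W : ι') => ?_
    let r := z.resLE (g ⁻¹ᵁ W.1.1) (z ⁻¹ᵁ (g ⁻¹ᵁ W.1.1)) le_rfl
    have h1 : (z ⁻¹ᵁ (g ⁻¹ᵁ W.1.1)).ι ≫ p = r ≫ Y.homOfLE (g.preimage_mono W.2.1) := by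
      rw [← cancel_mono (g ⁻¹ᵁ U.1).ι, Category.assoc, Category.assoc, Scheme.homOfLE_ι]
      exact (Scheme.Hom.resLE_comp_ι z _).symm
    have h2 : (z ⁻¹ᵁ (g ⁻¹ᵁ W.1.1)).ι ≫ q = r ≫ Y.homOfLE (g.preimage_mono W.2.2) := by
      rw [← cancel_mono (g ⁻¹ᵁ V.1).ι, Category.assoc, Category.assoc, Scheme.homOfLE_ι,
        show q ≫ (g ⁻¹ᵁ V.1).ι = z from pullback.condition.symm]
      exact (Scheme.Hom.resLE_comp_ι z _).symm
    change (z ⁻¹ᵁ (g ⁻¹ᵁ W.1.1)).ι ≫ p ≫ m U = (z ⁻¹ᵁ (g ⁻¹ᵁ W.1.1)).ι ≫ q ≫ m V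
    rw [reassoc_of% h1, reassoc_of% h2, P_restrict ω U.2 W.1.2 W.2.1, P_restrict ω V.2 W.1.2 W.2.2]
  let h := 𝒰.glueMorphisms m hc
  have hh : ∀ U : S.affineOpens, (g ⁻¹ᵁ U.1).ι ≫ h = m U := fun U =>
    𝒰.ι_glueMorphisms m hc U
  have w : h ≫ f = g := hom_ext_affine (g := g) _ _ fun U => by
    rw [← Category.assoc, hh U]
    exact P_comp ω hω U.2
  refine ⟨h, w, algHoms_ext _ _ fun U hU => P_injective (hU.preimage f) _ ?_⟩
  rw [P_algHom h w hU]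
  exact hh ⟨U, hU⟩

theorem algOf_bijective : Function.Bijective (AffAlg.algOf f g) :=
  ⟨algOf_injective, fun ω => by
    obtain ⟨h, w, e⟩ := exists_hom ω.1 ω.2
    exact ⟨⟨h, w⟩, Subtype.ext e⟩⟩

theorem algHom_id (hid : 𝟙 X ≫ f = f) : AffAlg.algHom f f (𝟙 X) hid = 𝟙 _ :=
  algHoms_ext _ _ fun U hU => P_injective (hU.preimage f) _ (by
    rw [P_algHom _ _ hU]
    change _ = (f ⁻¹ᵁ U).toSpecΓ ≫ Spec.map (𝟙 Γ(X, f ⁻¹ᵁ U)) ≫ (hU.preimage f).fromSpec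
    rw [Spec.map_id, Category.id_comp, IsAffineOpen.toSpecΓ_fromSpec, Category.comp_id])

theorem algHom_comp {e : Z ⟶ S} [IsAffineHom g] (h : Y ⟶ X) (w : h ≫ f = g) (k : Z ⟶ Y) (w' : k ≫ g = e)
    (w'' : (k ≫ h) ≫ f = e) :
    AffAlg.algHom f g h w ≫ AffAlg.algHom g e k w' = AffAlg.algHom f e (k ≫ h) w'' :=
  algHoms_ext _ _ fun U hU => by
    subst w w'
    rw [NatTrans.comp_app, algHom_app h rfl U le_rfl, algHom_app k rfl U le_rfl,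
      algHom_app (k ≫ h) w'' U le_rfl]
    exact Scheme.Hom.appLE_comp_appLE _ _ _ _ _ _ _

theorem isIso_iff [IsAffineHom g] (h : Y ⟶ X) (w : h ≫ f = g) :
    IsIso h ↔ IsIso (AffAlg.algHom f g h w) := by
  constructor
  · intro hi
    have w' : inv h ≫ g = f := by rw [IsIso.inv_comp_eq, w]
    refine ⟨AffAlg.algHom g f (inv h) w', ?_, ?_⟩
    · rw [algHom_comp h w (inv h) w' (by rw [IsIso.inv_hom_id, Category.id_comp])]
      simp only [IsIso.inv_hom_id, algHom_id]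
    · rw [algHom_comp (f := g) (inv h) w' h w (by rw [IsIso.hom_inv_id, Category.id_comp])]
      simp only [IsIso.hom_inv_id, algHom_id]
  · intro hi
    obtain ⟨k, wk, ek⟩ := exists_hom (f := g) (g := f) (inv (AffAlg.algHom f g h w))
      (by rw [IsIso.comp_inv_eq, AffAlg.algHom_comm])
    refine ⟨k, ?_, ?_⟩
    · have w2 : (h ≫ k) ≫ g = g := by rw [Category.assoc, wk, w]
      refine congrArg Subtype.val (algOf_injective (f := g) (g := g) (a₁ := ⟨h ≫ k, w2⟩)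
        (a₂ := ⟨𝟙 Y, Category.id_comp g⟩) (Subtype.ext ?_))
      change AffAlg.algHom g g (h ≫ k) w2 = AffAlg.algHom g g (𝟙 Y) (Category.id_comp g)
      rw [← algHom_comp (f := g) k wk h w w2, ek, algHom_id, IsIso.inv_hom_id]
    · have w2 : (k ≫ h) ≫ f = f := by rw [Category.assoc, w, wk]
      refine congrArg Subtype.val (algOf_injective (f := f) (g := f) (a₁ := ⟨k ≫ h, w2⟩)
        (a₂ := ⟨𝟙 X, Category.id_comp f⟩) (Subtype.ext ?_))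
      change AffAlg.algHom f f (k ≫ h) w2 = AffAlg.algHom f f (𝟙 X) (Category.id_comp f)
      rw [← algHom_comp h w k wk w2, ek, algHom_id, IsIso.hom_inv_id]

end Groth.Agent.LAffAlg
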