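import Groth.Agent.Lib.LAmpleRel
import Groth.Agent.Lib.LPullInv
import Mathlib

/-! Inverse images of ample modules. -/

set_option autoImplicit false
universe u
open CategoryTheory Limits AlgebraicGeometry Opposite TopologicalSpace

namespace Groth.Agent.LAmple

open Groth.Agent.LInv Groth.Agent.LPullInv

variable {X X' Y : Scheme.{u}} {L : X.Modules}

theorem pullPow (g : X' ⟶ X) (hL : PicF.IsInvertible L) : ∀ n : ℕ,
    ∀ s : Coh.structureModule X ⟶ CohB1.tensorPow L n,
      ∃ t : Coh.structureModule X' ⟶ CohB1.tensorPow ((Scheme.Modules.pullback g).obj L) n,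
        CohB1.genLocus _ t = g ⁻¹ᵁ CohB1.genLocus _ s := by
  intro n s
  obtain ⟨e⟩ := iso_pullPow g hL n
  exact ⟨pullHom g s ≫ e.hom, by rw [genLocus_comp_iso, genLocus_pullHom g (isInvertible_tensorPow hL n)]⟩
where
  iso_tensor (g : X' ⟶ X) {M N : X.Modules} (hM : PicF.IsInvertible M) (hN : PicF.IsInvertible N) :
      Nonempty ((Scheme.Modules.pullback g).obj (CohB1.tensorMod M N) ≅
        CohB1.tensorMod ((Scheme.Modules.pullback g).obj M) ((Scheme.Modules.pullback g).obj N)) := by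
    let P := CohB1.tensorMod ((Scheme.Modules.pullback g).obj M) ((Scheme.Modules.pullback g).obj N)
    let β : CohB1.tensorMod M N ⟶ (Scheme.Modules.pushforward g).obj P :=
      LTensor.lift (fun U m n => (show Γ((Scheme.Modules.pushforward g).obj P, U) from
          SecTwist.tmul _ _ (g ⁻¹ᵁ U) (pullSect g M U m) (pullSect g N U n)))
        (fun U m m' n => (congrArg (fun a => SecTwist.tmul _ _ (g ⁻¹ᵁ U) a (pullSect g N U n))
          (map_add ((((Scheme.Modules.pullbackPushforwardAdjunction g).unit.app M)).app U).hom m m')).trans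
          (LTensor.tmul_add_left _ _ _ _ _ _))
        (fun U r m n => (congrArg (fun a => SecTwist.tmul _ _ (g ⁻¹ᵁ U) a (pullSect g N U n))
          (pullSect_smul g M U r m)).trans (LTensor.tmul_smul_left _ _ _ (g.app U r) _ _))
        (fun U m n n' => (congrArg (fun a => SecTwist.tmul _ _ (g ⁻¹ᵁ U) (pullSect g M U m) a)
          (map_add ((((Scheme.Modules.pullbackPushforwardAdjunction g).unit.app N)).app U).hom n n')).trans
          (LTensor.tmul_add_right _ _ _ _ _ _))
        (fun U r m n => (congrArg (fun a => SecTwist.tmul _ _ (g ⁻¹ᵁ U) (pullSect g M U m) a)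
          (pullSect_smul g N U r n)).trans (LTensor.tmul_smul_right _ _ _ (g.app U r) _ _))
        (fun U V i m n => (SecTwist.map_tmul _ _ (homOfLE (g.preimage_mono i.le)) _ _).trans
          (congrArg₂ (SecTwist.tmul _ _ (g ⁻¹ᵁ V)) (pullSect_map g M i.le m).symm (pullSect_map g N i.le n).symm))
    let θ := ((Scheme.Modules.pullbackPushforwardAdjunction g).homEquiv _ _).symm β
    have hθ : ∀ (U : X.Opens) (m : Γ(M, U)) (n : Γ(N, U)),
        θ.app (g ⁻¹ᵁ U) (pullSect g (CohB1.tensorMod M N) U (SecTwist.tmul M N U m n)) =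
          SecTwist.tmul _ _ (g ⁻¹ᵁ U) (pullSect g M U m) (pullSect g N U n) := by
      intro U m n
      have := congrArg (fun (ψ : CohB1.tensorMod M N ⟶ (Scheme.Modules.pushforward g).obj P) =>
          ψ.app U (SecTwist.tmul M N U m n))
        (((Scheme.Modules.pullbackPushforwardAdjunction g).homEquiv_unit _ _ θ).symm.trans (Equiv.apply_symm_apply _ β))
      exact this.trans (LTensor.lift_tmul _ _ _ _ _ _ U m n)
    have : IsIso θ := by
      choose U σ τ hx _ _ hσ hτ using fun x : X => exists_common_gen hM hN (x := x) (V := ⊤) trivial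
      refine isIso_of_gen θ fun y => ⟨g ⁻¹ᵁ U (g y), pullSect g _ _ (SecTwist.tmul M N _ (σ (g y)) (τ (g y))),
        hx (g y), genOn_pull g (genOn_tensor (hσ _) (hτ _)), ?_⟩
      rw [hθ]
      exact genOn_tensor (genOn_pull g (hσ _)) (genOn_pull g (hτ _))
    exact ⟨asIso θ⟩
  isIso_of_gen {Z : Scheme.{u}} {A B : Z.Modules} (φ : A ⟶ B)
      (h : ∀ z : Z, ∃ (U : Z.Opens) (σ : Γ(A, U)), z ∈ U ∧ GenOn A U σ ∧ GenOn B U (φ.app U σ)) : IsIso φ := by
    have hU : ∀ z, ∃ (U : Z.Opens), z ∈ U ∧ ∀ W ≤ U, Function.Bijective (φ.app W) := fun z => by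
      obtain ⟨U, σ, hz, hA, hB⟩ := h z
      refine ⟨U, hz, fun W hW => ?_⟩
      have : (fun r : Γ(Z, W) => φ.app W (r • LQcoh.res A hW σ)) = fun r => r • LQcoh.res B hW (φ.app U σ) := by
        funext r
        rw [Scheme.Modules.Hom.app_smul]
        exact congrArg (r • ·) (NatTrans.naturality_apply ((Scheme.Modules.toPresheaf _).map φ) (homOfLE hW).op σ)
      refine (Function.Bijective.of_comp_iff (f := ⇑(φ.app W)) (hA W hW)).1 ?_
      show Function.Bijective (fun r : Γ(Z, W) => φ.app W (r • LQcoh.res A hW σ))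
      rw [this]
      exact hB W hW
    rw [Scheme.Modules.Hom.isIso_iff_isIso_app]
    intro W
    rw [ConcreteCategory.isIso_iff_bijective]
    refine TopCat.Presheaf.app_bijective_of_stalkFunctor_map_bijective ((LQcoh.toShf Z).map φ) W fun z _ => ?_
    obtain ⟨U, hz, hU'⟩ := hU z
    haveI : IsIso ((Scheme.Modules.restrictFunctor U.ι).map φ) := (isIso_restrict_iff φ U).2 hU'
    have : IsIso ((Scheme.Modules.toPresheaf Z ⋙ TopCat.Presheaf.stalkFunctor _ (U.ι ⟨z, hz⟩)).map φ) :=
      (NatIso.isIso_map_iff (Scheme.Modules.restrictStalkNatIso U.ι ⟨z, hz⟩) φ).1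
        (inferInstanceAs (IsIso ((Scheme.Modules.toPresheaf U.toScheme ⋙
          TopCat.Presheaf.stalkFunctor AddCommGrpCat.{u} (⟨z, hz⟩ : U)).map
          ((Scheme.Modules.restrictFunctor U.ι).map φ))))
    exact (ConcreteCategory.isIso_iff_bijective _).1 this
  iso_pullPow (g : X' ⟶ X) {L : X.Modules} (hL : PicF.IsInvertible L) : ∀ n : ℕ,
      Nonempty ((Scheme.Modules.pullback g).obj (CohB1.tensorPow L n) ≅
        CohB1.tensorPow ((Scheme.Modules.pullback g).obj L) n)
    | 0 => ⟨PicLoc.pullbackStructureIso g⟩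
    | n + 1 =>
      let ⟨e⟩ := iso_tensor g (isInvertible_tensorPow hL n) hL
      let ⟨e'⟩ := iso_pullPow g hL n
      ⟨e ≪≫ LTensor.mapIso e' (Iso.refl _)⟩

/-- inverse image along a quasi-compact morphism whose affine preimages are quasi-affine -/
theorem isAmple_pullback (g : X' ⟶ X) [QuasiCompact g]
    (hg : ∀ V : X.Opens, IsAffineOpen V → Scheme.IsQuasiAffine (g ⁻¹ᵁ V).toScheme) (hL : CohB1.IsAmple L) :
    CohB1.IsAmple ((Scheme.Modules.pullback g).obj L) := by
  haveI := hL.2.1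
  haveI : CompactSpace X' := QuasiCompact.compactSpace_of_compactSpace g
  have hM := PicLoc.isInvertible_pullback g hL.1
  choose n s hs ha using hL.2.2
  choose t ht using fun x => pullPow g hL.1 (n x + 1) (s x)
  have hqa : ∀ x, Scheme.IsQuasiAffine (CohB1.genLocus _ (t x)).toScheme := fun x => by
    rw [ht x]; exact hg _ (ha x)
  haveI : QuasiSeparatedSpace X' := .of_isOpenCover (U := fun x : X => CohB1.genLocus _ (t x))
    (eq_top_iff.mpr fun y _ => Opens.mem_iSup.mpr ⟨g y, by rw [ht]; exact hs (g y)⟩)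
    (fun x => isRetrocompact_genLocus (isInvertible_tensorPow hM _) (t x))
    (fun x => (isQuasiSeparated_iff_quasiSeparatedSpace _ (CohB1.genLocus _ (t x)).2).2
      (haveI := hqa x; inferInstanceAs (QuasiSeparatedSpace (CohB1.genLocus _ (t x)).toScheme)))
  refine ⟨hM, inferInstance, fun y => ?_⟩
  haveI := hqa (g y)
  let P := CohB1.genLocus _ (t (g y))
  have hy : y ∈ P := (ht (g y)).ge (hs (g y))
  obtain ⟨_, ⟨_, ⟨r, hr, rfl⟩, rfl⟩, hyr, -⟩ := (Scheme.IsQuasiAffine.isBasis_basicOpen P.toScheme).exists_subset_of_mem_open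
    (Set.mem_univ (⟨y, hy⟩ : P)) isOpen_univ
  let r' : Γ(X', P) := LQcoh.resO (image_ι_top P).ge ((P.ι.appIso ⊤).inv r)
  have hD : X'.basicOpen r' = P.ι ''ᵁ P.toScheme.basicOpen r := by
    rw [Scheme.image_basicOpen]
    refine (Scheme.basicOpen_res X' _ _).trans (inf_eq_right.2 ?_)
    exact (X'.basicOpen_le _).trans (image_ι_top P).le
  obtain ⟨N, t', ht'⟩ := exists_section_basicOpen hM (t (g y)) r'
  refine ⟨N, t', ?_⟩
  rw [ht', hD]
  exact ⟨⟨⟨y, hy⟩, hyr, rfl⟩, hr.image_of_isOpenImmersion _⟩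

/-- inverse image along a quasi-compact topological embedding -/
theorem isAmple_pullback_embedding (g : X' ⟶ X) [QuasiCompact g] (hg : Topology.IsEmbedding g.base)
    (hL : CohB1.IsAmple L) : CohB1.IsAmple ((Scheme.Modules.pullback g).obj L) := by
  haveI := hL.2.1
  haveI : CompactSpace X' := QuasiCompact.compactSpace_of_compactSpace g
  have hM := PicLoc.isInvertible_pullback g hL.1
  refine ⟨hM, inferInstance, fun y => ?_⟩
  obtain ⟨A, hA, hyA, -⟩ := exists_isAffineOpen_mem_and_subset (U := (⊤ : X'.Opens)) (x := y) trivial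
  obtain ⟨U, hU, hUA⟩ := hg.isInducing.isOpen_iff.1 A.2
  have hyU : g y ∈ U := by
    have : y ∈ g.base ⁻¹' U := by rw [hUA]; exact hyA
    exact this
  obtain ⟨n, s, hs, hle, -⟩ := basis_of_ample hL (U := ⟨U, hU⟩) hyU
  obtain ⟨t, ht⟩ := pullPow g hL.1 (n + 1) s
  refine ⟨n, t, ht.ge hs, ?_⟩
  have := isAffineOpen_genLocus_inf (isInvertible_tensorPow hM (n + 1)) t hA
  rwa [inf_eq_left.2] at this
  intro z hz
  have : z ∈ g.base ⁻¹' U := hle (ht.le hz)
  rw [hUA] at this
  exact this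

/-- inverse image commutes with restriction -/
noncomputable def pullRestrictIso (g : X' ⟶ X) (U : X.Opens) {L : X.Modules} :
    ((Scheme.Modules.pullback g).obj L).restrict (g ⁻¹ᵁ U).ι ≅
      (Scheme.Modules.pullback (g ∣_ U)).obj (L.restrict U.ι) :=
  (Scheme.Modules.restrictFunctorIsoPullback (g ⁻¹ᵁ U).ι).app _ ≪≫
    ((Scheme.Modules.pullbackComp (g ⁻¹ᵁ U).ι g).app L) ≪≫
    (Scheme.Modules.pullbackCongr (morphismRestrict_ι g U).symm).app L ≪≫
    (Scheme.Modules.pullbackComp (g ∣_ U) U.ι).symm.app L ≪≫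
    (Scheme.Modules.pullback (g ∣_ U)).mapIso ((Scheme.Modules.restrictFunctorIsoPullback U.ι).symm.app L)

theorem isRelAmple_pullback (f : X ⟶ Y) (g : X' ⟶ X) [QuasiCompact g] [QuasiCompact f]
    (hL : RelAmple.IsRelAmple f L)
    (h : ∀ (U : X.Opens) (M : U.toScheme.Modules), CohB1.IsAmple M →
      CohB1.IsAmple ((Scheme.Modules.pullback (g ∣_ U)).obj M)) :
    RelAmple.IsRelAmple (g ≫ f) ((Scheme.Modules.pullback g).obj L) :=
  ⟨inferInstance, fun V => isAmple_of_iso (pullRestrictIso g (f ⁻¹ᵁ V.1)).symm (h _ _ (hL.2 V))⟩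

end Groth.Agent.LAmple
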