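import Mathlib
import Groth.Agent.Lib.AzumayaBasic
import Groth.Agent.Lib.H7CSATensor

set_option autoImplicit false
universe u v w
open TensorProduct

namespace Groth.Agent.LAzuFibre

theorem field_iff (k : Type u) [Field k] (A : Type v) [Ring A] [Algebra k A] [Module.Finite k A]
    [Nontrivial A] : IsAzumaya k A ↔ Algebra.IsCentral k A ∧ IsSimpleRing A := by
  constructor
  · intro h
    refine ⟨inferInstance, IsSimpleRing.of_eq_bot_or_eq_top fun I => or_iff_not_imp_left.2 fun hI => ?_⟩
    obtain ⟨x, hx, hx0⟩ := SetLike.exists_of_lt (bot_lt_iff_ne_bot.mpr hI)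
    rw [TwoSidedIdeal.mem_bot] at hx0
    rw [← TwoSidedIdeal.one_mem_iff]
    obtain ⟨f, hf⟩ := Module.Projective.exists_dual_ne_zero k hx0
    let φ : Module.End k A := ((f x)⁻¹ • f).smulRight (1 : A)
    have hφ : φ x = 1 := by simp [φ, inv_mul_cancel₀ hf]
    obtain ⟨t, ht⟩ := (IsAzumaya.bij (R := k) (A := A)).2 φ
    have key : ∀ s : A ⊗[k] Aᵐᵒᵖ, AlgHom.mulLeftRight k A s x ∈ I := by
      intro s
      induction s with
      | zero => simp [I.zero_mem]
      | add a b ha hb => rw [map_add]; exact I.add_mem ha hb
      | tmul a b =>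
        rw [AlgHom.mulLeftRight_apply]
        exact I.mul_mem_right _ _ (I.mul_mem_left _ _ hx)
    rw [← hφ, ← ht]
    exact key t
  · rintro ⟨hc, hs⟩
    haveI : Algebra.IsCentral k Aᵐᵒᵖ := ⟨fun z hz => by
      rw [Subalgebra.mem_center_iff] at hz
      have h1 : z.unop ∈ Subalgebra.center k A :=
        Subalgebra.mem_center_iff.2 fun b => (congrArg MulOpposite.unop (hz (MulOpposite.op b))).symm
      obtain ⟨c, hc'⟩ := Algebra.mem_bot.1 (Algebra.IsCentral.out h1)
      exact Algebra.mem_bot.2 ⟨c, MulOpposite.unop_injective hc'⟩⟩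
    have : IsSimpleRing (A ⊗[k] Aᵐᵒᵖ) := Groth.Agent.H7CSA.isSimpleRing_tensor k A Aᵐᵒᵖ
    refine { bij := ?_ }
    have hinj : Function.Injective (AlgHom.mulLeftRight k A).toLinearMap :=
      (AlgHom.mulLeftRight k A).toRingHom.injective
    have hdim : Module.finrank k (A ⊗[k] Aᵐᵒᵖ) = Module.finrank k (Module.End k A) := by
      rw [Module.finrank_tensorProduct, Module.finrank_linearMap,
        ← (MulOpposite.opLinearEquiv k (M := A)).finrank_eq]
    exact ⟨hinj, (LinearMap.injective_iff_surjective_of_finrank_eq_finrank hdim).1 hinj⟩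

theorem bijective_of_family (R : Type u) [CommRing R] {ι : Type*} (S : ι → Type u)
    [∀ i, CommRing (S i)] [∀ i, Algebra R (S i)]
    (hS : ∀ (C : Type v) [AddCommGroup C] [Module R C] [Module.Finite R C],
      (∀ i, Subsingleton (S i ⊗[R] C)) → Subsingleton C)
    {M N : Type v} [AddCommGroup M] [Module R M] [AddCommGroup N] [Module R N] [Module.Finite R M]
    [Module.Finite R N] [Module.Projective R N] (f : M →ₗ[R] N)
    (hf : ∀ i, Function.Bijective (f.baseChange (S i))) : Function.Bijective f := by
  have hsurj : Function.Surjective f := by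
    rw [← LinearMap.range_eq_top, ← Submodule.Quotient.subsingleton_iff]
    refine hS _ fun i => subsingleton_of_forall_eq 0 fun z => ?_
    obtain ⟨y, rfl⟩ := LinearMap.lTensor_surjective (S i) (Submodule.mkQ_surjective (LinearMap.range f)) z
    obtain ⟨x, rfl⟩ := (hf i).2 y
    change LinearMap.lTensor (S i) _ (LinearMap.lTensor (S i) f x) = 0
    rw [← LinearMap.comp_apply, ← LinearMap.lTensor_comp]
    have : (LinearMap.range f).mkQ.comp f = 0 := by ext a; simp
    simp [this]
  refine ⟨?_, hsurj⟩
  obtain ⟨g, hg⟩ := Module.projective_lifting_property f LinearMap.id hsurj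
  let π : M →ₗ[R] LinearMap.ker f := LinearMap.codRestrict _ (LinearMap.id - g.comp f) fun x => by
    have := LinearMap.congr_fun hg (f x)
    simp only [LinearMap.comp_apply, LinearMap.id_apply] at this
    simp [this]
  have hπ : ∀ x : LinearMap.ker f, π x = x := fun x => Subtype.ext (by simp [π])
  have : Module.Finite R (LinearMap.ker f) := Module.Finite.of_surjective π fun x => ⟨x, hπ x⟩
  have : Subsingleton (LinearMap.ker f) := by
    refine hS _ fun i => subsingleton_of_forall_eq 0 fun z => ?_
    have h1 : (π.baseChange (S i)) ((LinearMap.ker f).subtype.baseChange (S i) z) = z := by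
      rw [← LinearMap.comp_apply, ← LinearMap.baseChange_comp,
        show π.comp (LinearMap.ker f).subtype = LinearMap.id from LinearMap.ext hπ,
        LinearMap.baseChange_id, LinearMap.id_apply]
    have h0 : (LinearMap.ker f).subtype.baseChange (S i) z = 0 := (hf i).1 (by
      rw [← LinearMap.comp_apply, ← LinearMap.baseChange_comp, LinearMap.comp_ker_subtype,
      LinearMap.baseChange_zero, LinearMap.zero_apply, map_zero])
    rw [← h1, h0, map_zero]
  rw [← LinearMap.ker_eq_bot]
  exact Submodule.subsingleton_iff_eq_bot.1 this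

theorem faithful_of_fibres (R : Type u) [CommRing R] (A : Type v) [AddCommGroup A] [Module R A]
    [Module.Finite R A] [Module.Projective R A]
    (h : ∀ (p : Ideal R) [p.IsPrime], Nontrivial (p.ResidueField ⊗[R] A)) : FaithfulSMul R A := by
  obtain ⟨n, f, hf⟩ := Module.Finite.exists_fin' R A
  obtain ⟨s, hs⟩ := Module.projective_lifting_property f LinearMap.id hf
  let I : Ideal R := Ideal.span (Set.range fun q : A × Fin n => s q.1 q.2)
  have hI : I • (⊤ : Submodule R A) = ⊤ := by
    refine eq_top_iff.2 fun a _ => ?_
    have ha : a = ∑ i, s a i • f (Pi.single i 1) := by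
      conv_lhs => rw [← LinearMap.id_apply (R := R) a, ← hs, LinearMap.comp_apply,
        pi_eq_sum_univ (s a), map_sum]
      refine Finset.sum_congr rfl fun i _ => ?_
      rw [map_smul]
      congr 2
      ext j
      simp [Pi.single_apply, eq_comm]
    rw [ha]
    exact Submodule.sum_mem _ fun i _ =>
      Submodule.smul_mem_smul (Ideal.subset_span ⟨(a, i), rfl⟩) trivial
  have htop : I = ⊤ := by
    by_contra hne
    obtain ⟨m, hm, hIm⟩ := Ideal.exists_le_maximal I hne
    obtain ⟨r, hr, hr'⟩ := Submodule.exists_sub_one_mem_and_smul_eq_zero_of_fg_of_le_smul m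
      (⊤ : Submodule R A) Module.Finite.fg_top (hI.ge.trans (Submodule.smul_mono_left hIm))
    have hsupp : (⟨m, hm.isPrime⟩ : PrimeSpectrum R) ∈ Module.support R A := by
      rw [Module.mem_support_iff_nontrivial_residueField_tensorProduct]
      exact h m
    have hann : r ∈ Module.annihilator R A := Module.mem_annihilator.2 fun a => hr' a trivial
    have := Module.mem_support_iff_of_finite.1 hsupp hann
    exact hm.ne_top ((Ideal.eq_top_iff_one m).2 (by simpa using m.sub_mem this hr))
  refine ⟨fun {r r'} hrr => sub_eq_zero.1 ?_⟩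
  have hz : ∀ x ∈ I, (r - r') * x = 0 := by
    intro x hx
    induction hx using Submodule.span_induction with
    | mem x hx =>
      obtain ⟨⟨a, i⟩, rfl⟩ := hx
      have : (r - r') • a = 0 := by rw [sub_smul, hrr a, sub_self]
      have h2 := congrArg (fun b => s b i) this
      simpa using h2
    | zero => simp
    | add x y _ _ hx hy => rw [mul_add, hx, hy, add_zero]
    | smul c x _ hx => rw [smul_eq_mul, mul_left_comm, hx, mul_zero]
  simpa using hz 1 (htop ▸ trivial)

theorem bijective_of_azumaya_fibres (R : Type u) [CommRing R] (A : Type u) [Ring A] [Algebra R A]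
    [Module.Finite R A] [Module.Projective R A] [FaithfulSMul R A] {ι : Type*} (S : ι → Type u)
    [∀ i, CommRing (S i)] [∀ i, Algebra R (S i)]
    (hS : ∀ (C : Type u) [AddCommGroup C] [Module R C] [Module.Finite R C],
      (∀ i, Subsingleton (S i ⊗[R] C)) → Subsingleton C)
    (h : ∀ i, IsAzumaya (S i) (S i ⊗[R] A)) : IsAzumaya R A := by
  have : Module.Projective R (Module.End R A) :=
    Module.Projective.of_equiv (dualTensorHomEquiv R A A)
  have : Module.Finite R (Module.End R A) := Module.Finite.equiv (dualTensorHomEquiv R A A)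
  refine { bij := ?_ }
  exact bijective_of_family R S hS (AlgHom.mulLeftRight R A).toLinearMap
    fun i => (Groth.Agent.Azu.bijective_baseChange_iff R A (S i)).1 (h i).bij

theorem local_iff (R : Type u) [CommRing R] [IsLocalRing R] (A : Type u) [Ring A] [Algebra R A]
    [Module.Finite R A] [Module.Free R A] [Nontrivial A] :
    IsAzumaya R A ↔ Algebra.IsCentral (IsLocalRing.ResidueField R) ((IsLocalRing.ResidueField R) ⊗[R] A) ∧
      IsSimpleRing ((IsLocalRing.ResidueField R) ⊗[R] A) := by
  have : Nontrivial ((IsLocalRing.ResidueField R) ⊗[R] A) := by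
    rw [← not_subsingleton_iff_nontrivial, IsLocalRing.subsingleton_tensorProduct, not_subsingleton_iff_nontrivial]
    infer_instance
  constructor
  · intro h
    have := Groth.Agent.Azu.isAzumaya_baseChange R A (IsLocalRing.ResidueField R)
    exact (field_iff _ _).1 this
  · intro h
    exact bijective_of_azumaya_fibres R A (fun _ : Unit => IsLocalRing.ResidueField R)
      (fun C _ _ _ hC => IsLocalRing.subsingleton_tensorProduct.1 (hC ())) (fun _ => (field_iff _ _).2 h)

theorem global_iff (R : Type u) [CommRing R] (A : Type u) [Ring A] [Algebra R A] [Module.Finite R A]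
    [Module.Projective R A] : IsAzumaya R A ↔ ∀ (p : Ideal R) [p.IsPrime],
      Algebra.IsCentral p.ResidueField (p.ResidueField ⊗[R] A) ∧ IsSimpleRing (p.ResidueField ⊗[R] A) := by
  constructor
  · intro h p _
    have hb := Groth.Agent.Azu.isAzumaya_baseChange R A p.ResidueField
    have : Nontrivial (p.ResidueField ⊗[R] A) := by
      have := Groth.Agent.Azu.faithfullyFlat R A
      infer_instance
    exact (field_iff _ _).1 hb
  · intro h
    have : FaithfulSMul R A := faithful_of_fibres R A fun p _ => by
      have := (h p).2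
      infer_instance
    refine bijective_of_azumaya_fibres R A (fun p : PrimeSpectrum R => p.asIdeal.ResidueField) ?_ ?_
    · intro C _ _ _ hC
      by_contra hne
      rw [not_subsingleton_iff_nontrivial] at hne
      obtain ⟨p, hp⟩ := Module.nonempty_support_of_nontrivial (R := R) (M := C)
      rw [Module.mem_support_iff_nontrivial_residueField_tensorProduct] at hp
      exact not_subsingleton _ (hC p)
    · intro p
      have := (h p.asIdeal).2
      exact (field_iff _ _).2 (h p.asIdeal)

end Groth.Agent.LAzuFibre
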