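import Groth.Agent.Lib.LCech

set_option autoImplicit false
universe u

open CategoryTheory Limits TopologicalSpace Opposite TopCat

namespace Groth.Agent.LCech

variable {X : TopCat.{u}}

/-- presheaf of discontinuous sections of a family over `π : Q → X` -/
noncomputable def god {Q : Type u} (π : Q → X) (A : Q → AddCommGrpCat.{u}) :
    TopCat.Presheaf AddCommGrpCat.{u} X where
  obj V := AddCommGrpCat.of (∀ q : Q, PLift (π q ∈ V.unop) → A q)
  map i := AddCommGrpCat.ofHom
    { toFun := fun f q h => f q ⟨i.unop.le h.down⟩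
      map_zero' := rfl
      map_add' := fun _ _ => rfl }
  map_id _ := rfl
  map_comp _ _ := rfl

theorem acyclic_god {Q : Type u} (π : Q → X) (A : Q → AddCommGrpCat.{u}) {ι : Type u}
    (U : ι → Opens X) : Acyclic U (god π A) := by
  intro n
  rw [exactAt_succ_iff]
  intro c hc
  classical
  have hmem : ∀ (x : Fin (n + 1) → ι) (q : Q) (hq : π q ∈ inter U x), ∃ i, π q ∈ U i :=
    fun x q hq => ⟨x 0, inter_le U x 0 hq⟩
  let idx : ∀ q : Q, (∃ i, π q ∈ U i) → ι := fun q h => h.choose
  let b : ∀ x : Fin (n + 1) → ι, (god π A).obj (op (inter U x)) := fun x q hq =>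
    coord U _ (Fin.cons (idx q (hmem x q hq.down)) x) c q
      ⟨(mem_inter_iff U _ _).2 (Fin.cases (by simpa using (hmem x q hq.down).choose_spec)
        fun k => by simpa using inter_le U x k hq.down)⟩
  refine ⟨mk U _ b, coord_ext U _ fun x => ?_⟩
  rw [coord_d]
  simp only [coord_mk]
  funext q hq
  have hex : ∃ i, π q ∈ U i := ⟨x 0, inter_le U x 0 hq.down⟩
  have h := exists_b_of_contraction U (god π A) c hc hex.choose x
    (V := inter U x ⊓ U hex.choose) inf_le_left inf_le_right
  have h' := congrArg (fun t => t q ⟨⟨hq.down, hex.choose_spec⟩⟩) h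
  let ev : ∀ (V : Opens X) (_ : π q ∈ V), (god π A).obj (op V) →+ A q := fun V hV =>
    { toFun := fun f => f q ⟨hV⟩, map_zero' := rfl, map_add' := fun _ _ => rfl }
  have hqi : π q ∈ inter U x ⊓ U hex.choose := ⟨hq.down, hex.choose_spec⟩
  change ev (inter U x) hq.down (∑ j : Fin (n + 2), _) = ev (inter U x) hq.down (coord U _ x c)
  have h'' := congrArg (ev _ hqi) h
  erw [map_sum] at h'' ⊢
  refine Eq.trans ?_ h''.symm
  refine Finset.sum_congr rfl fun j _ => ?_
  first | rfl | (erw [map_zsmul, map_zsmul]; rfl)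

/-- Abelian sheaves on a space. -/
abbrev Shf (X : TopCat.{u}) := CategoryTheory.Sheaf (Opens.grothendieckTopology X) AddCommGrpCat.{u}

noncomputable def godSheaf {Q : Type u} (π : Q → X) (A : Q → AddCommGrpCat.{u}) :
    Shf X :=
  ⟨god π A, (TopCat.Presheaf.isSheaf_iff_isSheafUniqueGluing (god π A)).2 (by
    intro κ W s hs
    refine ⟨fun q hq => s (Opens.mem_iSup.1 hq.down).choose q ⟨(Opens.mem_iSup.1 hq.down).choose_spec⟩,
      fun i => ?_, fun t ht => ?_⟩
    · funext q hq
      exact congrArg (fun f => f q ⟨⟨(Opens.mem_iSup.1 (leOfHom (Opens.leSupr W i) hq.down)).choose_spec,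
        hq.down⟩⟩) (hs (Opens.mem_iSup.1 (leOfHom (Opens.leSupr W i) hq.down)).choose i)
    · funext q hq
      exact congrArg (fun f => f q ⟨(Opens.mem_iSup.1 hq.down).choose_spec⟩)
        (ht (Opens.mem_iSup.1 hq.down).choose))⟩

/-- the stalk family of a sheaf -/
noncomputable abbrev stalks (F : Shf X) : X → AddCommGrpCat.{u} :=
  fun x => TopCat.Presheaf.stalk F.obj x

/-- the canonical map to the sheaf of discontinuous germs -/
noncomputable def toGod (F : Shf X) : F ⟶ godSheaf (id : X → X) (stalks F) :=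
  ⟨{ app := fun V => AddCommGrpCat.ofHom
      { toFun := fun s q h => TopCat.Presheaf.germ F.obj V.unop q h.down s
        map_zero' := by funext q h; exact map_zero _
        map_add' := fun a b => by funext q h; exact map_add _ a b }
     naturality := fun V W i => by
      ext s
      funext q h
      exact TopCat.Presheaf.germ_res_apply F.obj i.unop q h.down s }⟩

instance mono_toGod (F : Shf X) : Mono (toGod F) := by
  haveI : Mono (toGod F).hom := by
    rw [NatTrans.mono_iff_mono_app]
    intro V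
    rw [AddCommGrpCat.mono_iff_injective]
    intro s t h
    exact TopCat.Presheaf.section_ext (C := AddCommGrpCat.{u}) F V.unop s t
      fun q hq => congrArg (fun f => f q ⟨hq⟩) h
  exact (sheafToPresheaf _ _).mono_of_mono_map (f := toGod F) this

theorem acyclic_injective (I : Shf X) [Injective I]
    {ι : Type u} (U : ι → Opens X) : Acyclic U I.obj :=
  Acyclic.retract U _ (acyclic_god _ _ U) (toGod I).hom
    (Injective.factorThru (𝟙 I) (toGod I)).hom
    (congrArg (fun φ => InducedCategory.Hom.hom φ) (Injective.comp_factorThru (𝟙 I) (toGod I)))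

theorem acyclic_injective_push {Y : TopCat.{u}} (f : X ⟶ Y) (I : Shf X) [Injective I]
    {ι : Type u} (U : ι → Opens Y) :
    Acyclic U ((TopCat.Presheaf.pushforward AddCommGrpCat.{u} f).obj I.obj) := by
  refine Acyclic.retract U
    ((TopCat.Presheaf.pushforward AddCommGrpCat.{u} f).obj
      (god (id : X → X) (stalks I))) ?_
    ((TopCat.Presheaf.pushforward AddCommGrpCat.{u} f).map (toGod I).hom)
    ((TopCat.Presheaf.pushforward AddCommGrpCat.{u} f).map
      (Injective.factorThru (𝟙 I) (toGod I)).hom) ?_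
  · exact acyclic_god (fun x => f x) (stalks I) U
  · refine ((Functor.map_comp _ _ _).symm.trans ?_).trans (CategoryTheory.Functor.map_id _ _)
    exact congrArg _ (congrArg (fun φ => InducedCategory.Hom.hom φ)
      (Injective.comp_factorThru (𝟙 I) (toGod I)))

/-- A system of coverings for a collection `B` of opens, stable in the sense of Cartan's lemma. -/
structure CovSys (X : TopCat.{u}) where
  B : Set (Opens X)
  Cov : ∀ (V : Opens X) {ι : Type u}, (ι → Opens X) → Prop
  iSup_eq : ∀ {V : Opens X} {ι : Type u} {W : ι → Opens X}, Cov V W → iSup W = V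
  inter_mem : ∀ {V : Opens X} {ι : Type u} {W : ι → Opens X}, Cov V W →
    ∀ {n : ℕ} (x : Fin (n + 1) → ι), inter W x ∈ B
  refine' : ∀ V ∈ B, ∀ (κ : Type u) (U : κ → Opens X), V ≤ iSup U →
    ∃ (ι : Type u) (W : ι → Opens X), Cov V W ∧ ∀ i, ∃ k, W i ≤ U k

def CovSys.Good (S : CovSys X) (F : TopCat.Presheaf AddCommGrpCat.{u} X) : Prop :=
  ∀ V ∈ S.B, ∀ (ι : Type u) (W : ι → Opens X), S.Cov V W → Acyclic W F

instance cech_additive {ι : Type u} (U : ι → Opens X) :
    (cechComplexFunctor (A := AddCommGrpCat.{u}) U).Additive where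
  map_add := by
    intro P P' f g
    ext n c
    refine coord_ext U P' fun x => ?_
    rw [HomologicalComplex.add_f_apply, AddCommGrpCat.hom_add, AddMonoidHom.add_apply, map_add]
    exact (coord_map U (f + g) c x).trans
      (congrArg₂ (· + ·) (coord_map U f c x).symm (coord_map U g c x).symm)

lemma app_injective {F G : Shf X} (φ : F ⟶ G) [Mono φ] (V : Opens X) :
    Function.Injective (φ.hom.app (op V)) := by
  rw [← AddCommGrpCat.mono_iff_injective]
  infer_instance

lemma surjective_of_good (S : CovSys X) (T : ShortComplex (Shf X)) (hT : T.ShortExact)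
    (hF : S.Good T.X₁.obj) {V : Opens X} (hV : V ∈ S.B) :
    Function.Surjective (T.g.hom.app (op V)) := by
  intro s
  have := hT.mono_f
  have hls : TopCat.Presheaf.IsLocallySurjective T.g.hom := by
    have := hT.epi_g
    exact (TopCat.Sheaf.isLocallySurjective_iff_epi (X := X) T.g).mpr this
  rw [TopCat.Presheaf.isLocallySurjective_iff] at hls
  choose D hDV hD hxD using fun p : V => hls V s p.1 p.2
  obtain ⟨ι, W, hW, hWD⟩ := S.refine' V hV V D
    (fun p hp => Opens.mem_iSup.2 ⟨⟨p, hp⟩, hxD ⟨p, hp⟩⟩)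
  choose k hk using hWD
  choose t₀ ht₀ using hD
  have hWV : ∀ i, W i ≤ V := fun i => (le_iSup W i).trans (S.iSup_eq hW).le
  have ht₀' : ∀ (p : V), T.g.hom.app (op (D p)) (t₀ p) = rs T.X₃.obj (hDV p) s := ht₀
  have nat : ∀ {A B : Opens X} (h : B ≤ A) (a : T.X₂.obj.obj (op A)),
      T.g.hom.app (op B) (rs T.X₂.obj h a) = rs T.X₃.obj h (T.g.hom.app (op A) a) :=
    fun h a => NatTrans.naturality_apply T.g.hom (homOfLE h).op a
  let tb : (cplx W T.X₂.obj).X 0 := mk W _ fun x =>
    rs T.X₂.obj ((inter_le W x 0).trans (hk (x 0))) (t₀ (k (x 0)))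
  have htb : ∀ x : Fin 1 → ι, T.g.hom.app _ (coord W _ x tb) =
      rs T.X₃.obj ((inter_le W x 0).trans (hWV _)) s := by
    intro x
    simp only [tb, coord_mk]
    rw [nat, ht₀', rs_rs]
  let Φ := cechComplexFunctor (A := AddCommGrpCat.{u}) W
  have hdiff : ∀ x : Fin 2 → ι, T.g.hom.app _ (coord W _ x ((cplx W T.X₂.obj).d 0 1 tb)) = 0 := by
    intro x
    rw [coord_d, map_sum, Fin.sum_univ_two]
    simp only [map_zsmul, nat, htb, rs_rs]
    simp
  choose e he using fun x : Fin 2 → ι =>
    TopCat.Sheaf.sections_exact_of_left_exact hT.exact hT.mono_f _ (hdiff x)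
  have hde : (cplx W T.X₁.obj).d 1 2 (mk W _ e) = 0 := by
    refine coord_ext W _ fun x => app_injective T.f _ ?_
    rw [← coord_map W T.f.hom, ← ConcreteCategory.comp_apply, ← (Φ.map T.f.hom).comm 1 2,
      ConcreteCategory.comp_apply, map_zero, map_zero]
    have : (Φ.map T.f.hom).f 1 (mk W _ e) = (cplx W T.X₂.obj).d 0 1 tb :=
      coord_ext W _ fun y => by rw [coord_map, coord_mk, he]
    erw [this, d_d, map_zero]
  obtain ⟨b, hb⟩ := (exactAt_succ_iff W _ 0).1 (hF V hV ι W hW 0) _ hde
  let t' : (cplx W T.X₂.obj).X 0 := tb - (Φ.map T.f.hom).f 0 b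
  have hdt' : (cplx W T.X₂.obj).d 0 1 t' = 0 := by
    simp only [t', map_sub]
    rw [sub_eq_zero, ← ConcreteCategory.comp_apply, (Φ.map T.f.hom).comm 0 1,
      ConcreteCategory.comp_apply]
    erw [hb]
    refine coord_ext W _ fun y => ?_
    rw [coord_map, coord_mk, he]
  let sf : ∀ i, T.X₂.obj.obj (op (W i)) := fun i =>
    rs T.X₂.obj ((le_inter_iff W (fun _ => i) _).2 fun _ => le_rfl)
      (coord W _ (fun _ : Fin 1 => i) t')
  have hcomp : TopCat.Presheaf.IsCompatible T.X₂.obj W sf := by
    intro i j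
    have hle : W i ⊓ W j ≤ inter W ![i, j] :=
      (le_inter_iff W _ _).2 (by simp [Fin.forall_fin_two])
    have h := congrArg (fun z => rs T.X₂.obj hle (coord W _ ![i, j] z)) hdt'
    simp only [coord_d] at h
    have e0 : (![i, j] ∘ (0 : Fin 2).succAbove) = fun _ => j := by ext z; fin_cases z; rfl
    have e1 : (![i, j] ∘ (1 : Fin 2).succAbove) = fun _ => i := by ext z; fin_cases z; rfl
    simp only [rs, map_sum, map_zsmul, map_zero] at h
    rw [Fin.sum_univ_two] at h
    norm_num at h
    rw [← sub_eq_add_neg, sub_eq_zero] at h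
    have key : ∀ (y y' : Fin 1 → ι) (_ : y = y') {Z : Opens X} (hy : Z ≤ inter W y)
        (hy' : Z ≤ inter W y'),
        rs T.X₂.obj hy (coord W _ y t') = rs T.X₂.obj hy' (coord W _ y' t') := by
      rintro y _ rfl _ _ _; rfl
    change rs T.X₂.obj inf_le_left _ = rs T.X₂.obj inf_le_right _
    simp only [sf, rs_rs]
    refine Eq.trans (key _ _ e1.symm _ (hle.trans (inter_succAbove W _ 1))) ?_
    refine Eq.trans ?_ (key _ _ e0 (hle.trans (inter_succAbove W _ 0)) _)
    exact (rs_rs T.X₂.obj _ hle _).symm.trans (h.symm.trans (rs_rs T.X₂.obj _ hle _))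
  obtain ⟨t, ht, -⟩ := TopCat.Sheaf.existsUnique_gluing' T.X₂ W V (fun i => homOfLE (hWV i))
    (S.iSup_eq hW).ge sf hcomp
  refine ⟨t, TopCat.Sheaf.eq_of_locally_eq' T.X₃ W V (fun i => homOfLE (hWV i))
    (S.iSup_eq hW).ge _ _ fun i => ?_⟩
  change rs T.X₃.obj (hWV i) _ = rs T.X₃.obj (hWV i) s
  rw [← nat]
  change T.g.hom.app _ ((T.X₂.obj).map _ t) = _
  erw [ht i]
  simp only [sf, t', nat, map_sub, coord_map]
  have hz : ∀ {A : Opens X} (a : T.X₁.obj.obj (op A)), T.g.hom.app _ (T.f.hom.app _ a) = 0 := by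
    intro A a
    rw [← ConcreteCategory.comp_apply, ← NatTrans.comp_app, ← ObjectProperty.FullSubcategory.comp_hom,
      T.zero]
    rfl
  erw [coord_map, hz]
  rw [show rs T.X₃.obj _ (0 : T.X₃.obj.obj (op (inter W fun _ : Fin 1 => i))) = 0 from map_zero _,
    sub_zero]
  erw [htb, rs_rs]

/-- Sections on the intersections of a covering are exact, hence so are Cech complexes. -/
lemma cplx_shortExact {ι : Type u} (U : ι → Opens X) (T : ShortComplex (Shf X)) (hT : T.ShortExact)
    (hs : ∀ (n : ℕ) (x : Fin (n + 1) → ι), Function.Surjective (T.g.hom.app (op (inter U x)))) :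
    ((T.map (sheafToPresheaf _ _)).map
      (cechComplexFunctor (A := AddCommGrpCat.{u}) U)).ShortExact := by
  refine HomologicalComplex.shortExact_of_degreewise_shortExact _ fun n => ?_
  have := hT.mono_f
  refine { exact := ?_, mono_f := ?_, epi_g := ?_ }
  · rw [ShortComplex.ab_exact_iff]
    intro c hc
    choose e he using fun x : Fin (n + 1) → ι =>
      TopCat.Sheaf.sections_exact_of_left_exact hT.exact hT.mono_f (coord U _ x c) (by
        exact (coord_map U T.g.hom c x).symm.trans ((congrArg (coord U _ x) hc).trans (map_zero _)))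
    exact ⟨mk U _ e, coord_ext U _ fun x => by erw [coord_map, coord_mk]; exact he x⟩
  · rw [AddCommGrpCat.mono_iff_injective]
    intro a b hab
    refine coord_ext U _ fun x => app_injective T.f _ ?_
    have := congrArg (fun z => coord U _ x z) hab
    erw [coord_map, coord_map] at this
    exact this
  · rw [AddCommGrpCat.epi_iff_surjective]
    intro c
    choose e he using fun x : Fin (n + 1) → ι => hs n x (coord U _ x c)
    exact ⟨mk U _ e, coord_ext U _ fun x => by erw [coord_map, coord_mk]; exact he x⟩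

lemma good_quotient (S : CovSys X) (T : ShortComplex (Shf X)) (hT : T.ShortExact)
    (hF : S.Good T.X₁.obj) (hI : S.Good T.X₂.obj) : S.Good T.X₃.obj := by
  intro V hV ι W hW n
  have hC := cplx_shortExact W T hT fun m x => surjective_of_good S T hT hF (S.inter_mem hW x)
  rw [HomologicalComplex.exactAt_iff_isZero_homology]
  refine ShortComplex.Exact.isZero_of_both_zeros (hC.homology_exact₃ (n + 1) (n + 2) (by simp)) ?_ ?_
  · exact ((HomologicalComplex.exactAt_iff_isZero_homology _ _).1 (hI V hV ι W hW n)).eq_of_src _ _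
  · exact ((HomologicalComplex.exactAt_iff_isZero_homology _ _).1
      (hF V hV ι W hW (n + 1))).eq_of_tgt _ _

/-- The standard short exact sequence into an injective sheaf. -/
noncomputable abbrev injSeq (F : Shf X) : ShortComplex (Shf X) :=
  ShortComplex.mk (Injective.ι F) (cokernel.π (Injective.ι F)) (cokernel.condition _)

lemma injSeq_shortExact (F : Shf X) : (injSeq F).ShortExact where
  exact := ShortComplex.exact_cokernel _

lemma good_injSeq (S : CovSys X) (F : Shf X) (hF : S.Good F.obj) :
    S.Good (injSeq F).X₃.obj :=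
  good_quotient S _ (injSeq_shortExact F) hF (fun _ _ _ W _ => acyclic_injective _ W)

open Abelian in
/-- Vanishing in degree one. -/
lemma subsingleton_H_one [HasExt.{u} (Shf X)] (F : Shf X)
    (hs : Function.Surjective ((injSeq F).g.hom.app (op ⊤))) : Subsingleton (Sheaf.H F 1) := by
  refine subsingleton_of_forall_eq 0 fun x => ?_
  obtain ⟨x₃, rfl⟩ := Ext.covariant_sequence_exact₁ _ (injSeq_shortExact F) x
    (Ext.eq_zero_of_injective _) (zero_add 1)
  let e := Sheaf.H.equiv₀ (injSeq F).X₃ Limits.isTerminalTop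
  obtain ⟨a, ha⟩ := hs (e x₃)
  have : x₃ = Sheaf.H.map (injSeq F).g 0
      ((Sheaf.H.equiv₀ (injSeq F).X₂ Limits.isTerminalTop).symm a) := by
    apply e.injective
    rw [Sheaf.H.equiv₀_symm_naturality, AddEquiv.apply_symm_apply]
    exact ha.symm
  rw [this, Sheaf.H.map_apply, Ext.comp_assoc_of_second_deg_zero,
    ShortComplex.ShortExact.comp_extClass, Ext.comp_zero]

open Abelian in
/-- Cartan's lemma. -/
theorem subsingleton_H_succ [HasExt.{u} (Shf X)] (S : CovSys X) (htop : ⊤ ∈ S.B) :
    ∀ (n : ℕ) (F : Shf X), S.Good F.obj → Subsingleton (Sheaf.H F (n + 1))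
  | 0, F, hF => subsingleton_H_one F (surjective_of_good S _ (injSeq_shortExact F) hF htop)
  | n + 1, F, hF => by
    have := subsingleton_H_succ S htop n _ (good_injSeq S F hF)
    refine subsingleton_of_forall_eq 0 fun x => ?_
    obtain ⟨x₃, rfl⟩ := Ext.covariant_sequence_exact₁ _ (injSeq_shortExact F) x
      (Ext.eq_zero_of_injective _) (rfl : n + 1 + 1 = n + 2)
    rw [Subsingleton.elim x₃ 0, Ext.zero_comp]

end Groth.Agent.LCech
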