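import Groth.Agent.Lib.LCech

/-! The Cech complex of a family containing its union is contractible. -/

universe u

open CategoryTheory Limits TopologicalSpace Opposite TopCat

namespace Groth.Agent.LCechContract
open Groth.Agent.LCech

variable {X : TopCat.{u}} {ι : Type u} (U : ι → Opens X) (P : TopCat.Presheaf AddCommGrpCat.{u} X)
  (i : ι) (hi : U i = iSup U)

include hi in
lemma le_cons {n : ℕ} (x : Fin (n + 1) → ι) : inter U x ≤ inter U (Fin.cons i x) :=
  (le_inter_iff U _ _).2 (Fin.cases (by simpa [hi] using (inter_le U x 0).trans (le_iSup U _)) fun k => by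
    simpa using inter_le U x k)

include hi in
lemma le_single : iSup U ≤ inter U (fun _ : Fin 1 => i) :=
  (le_inter_iff U _ _).2 fun _ => hi.ge

lemma inter_le_iSup {n : ℕ} (x : Fin (n + 1) → ι) : inter U x ≤ iSup U := (inter_le U x 0).trans (le_iSup U _)

lemma key {n : ℕ} (c : (cplx U P).X n) {V : Opens X} {y y' : Fin (n + 1) → ι} (e : y = y')
    (hy : V ≤ inter U y) (hy' : V ≤ inter U y') :
    rs P hy (coord U P y c) = rs P hy' (coord U P y' c) := by
  subst e; rfl

/-- augmentation -/
noncomputable def ε : P.obj (op (iSup U)) →+ (cplx U P).X 0 :=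
  AddMonoidHom.mk' (fun s => mk U P fun x => rs P (inter_le_iSup U x) s) fun a b =>
    coord_ext U P fun x => by simp [coord_mk, rs]

/-- evaluation at the big open -/
noncomputable def r : (cplx U P).X 0 →+ P.obj (op (iSup U)) :=
  AddMonoidHom.mk' (fun c => rs P (le_single U i hi) (coord U P (fun _ => i) c)) fun a b => by simp [rs]

/-- contraction -/
noncomputable def h (n : ℕ) : (cplx U P).X (n + 1) →+ (cplx U P).X n :=
  AddMonoidHom.mk' (fun c => mk U P fun x => rs P (le_cons U i hi x) (coord U P (Fin.cons i x) c)) fun a b =>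
    coord_ext U P fun x => by simp [coord_mk, rs]

lemma d_ε (s : P.obj (op (iSup U))) : (cplx U P).d 0 1 (ε U P s) = 0 := by
  refine coord_ext U P fun x => ?_
  rw [coord_d, map_zero, Fin.sum_univ_two]
  simp only [ε, AddMonoidHom.mk'_apply, coord_mk, rs_rs]
  simp

lemma h_d {n : ℕ} (c : (cplx U P).X n) (x : Fin (n + 1) → ι) :
    coord U P x (h U P i hi n ((cplx U P).d n (n + 1) c)) =
      coord U P x c - ∑ j : Fin (n + 1), ((-1 : ℤ) ^ (j : ℕ)) •
        rs P ((le_inter_iff U (Fin.cons i x ∘ j.succ.succAbove) (inter U x)).2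
          (fun k => (le_cons U i hi x).trans (inter_le U _ _))) (coord U P (Fin.cons i x ∘ j.succ.succAbove) c) := by
  simp only [h, AddMonoidHom.mk'_apply, coord_mk, coord_d, rs, map_sum, map_zsmul]
  rw [Fin.sum_univ_succ]
  simp only [Fin.val_zero, pow_zero, one_smul, Fin.val_succ]
  rw [sub_eq_add_neg, ← Finset.sum_neg_distrib]
  congr 1
  · refine (rs_rs P _ (le_cons U i hi x) _).trans ((key U P c (y' := x) ?_ _ le_rfl).trans (rs_self P _ _))
    ext k; simp
  · refine Finset.sum_congr rfl fun j _ => ?_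
    rw [pow_succ, mul_neg_one, neg_smul]
    congr 2
    exact rs_rs P _ (le_cons U i hi x) _

lemma comm_zero (c : (cplx U P).X 0) : h U P i hi 0 ((cplx U P).d 0 1 c) + ε U P (r U P i hi c) = c := by
  refine coord_ext U P fun x => ?_
  rw [map_add, h_d, Fin.sum_univ_one]
  simp only [ε, r, AddMonoidHom.mk'_apply, coord_mk, rs_rs, Fin.val_zero, pow_zero, one_smul]
  rw [key U P c (y' := fun _ => i) (by ext k; fin_cases k; simp) _ ((inter_le_iSup U x).trans (le_single U i hi))]
  abel

lemma comm_succ {n : ℕ} (c : (cplx U P).X (n + 1)) :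
    h U P i hi (n + 1) ((cplx U P).d (n + 1) (n + 2) c) + (cplx U P).d n (n + 1) (h U P i hi n c) = c := by
  refine coord_ext U P fun x => ?_
  rw [map_add, h_d, coord_d]
  simp only [h, AddMonoidHom.mk'_apply, coord_mk, rs_rs]
  rw [sub_add_eq_add_sub, add_sub_assoc, add_eq_left, sub_eq_zero]
  refine Finset.sum_congr rfl fun j _ => ?_
  congr 1
  refine key U P c ?_ _ _
  ext k
  refine Fin.cases ?_ ?_ k <;> simp [Fin.succ_succAbove_succ]

include hi in
theorem main : Nonempty (HomotopyEquiv ((CochainComplex.single₀ AddCommGrpCat.{u}).obj (P.obj (op (iSup U))))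
    ((cechComplexFunctor U).obj P)) := by
  let S := (CochainComplex.single₀ AddCommGrpCat.{u}).obj (P.obj (op (iSup U)))
  let K := cplx U P
  let f : S ⟶ K := (CochainComplex.fromSingle₀Equiv _ _).symm
    ⟨AddCommGrpCat.ofHom (ε U P), by ext s; exact d_ε U P s⟩
  let g : K ⟶ S := (CochainComplex.toSingle₀Equiv _ _).symm (AddCommGrpCat.ofHom (r U P i hi))
  have hf : f.f 0 = AddCommGrpCat.ofHom (ε U P) := CochainComplex.fromSingle₀Equiv_symm_apply_f_zero _ _
  have hg : g.f 0 = AddCommGrpCat.ofHom (r U P i hi) := CochainComplex.toSingle₀Equiv_symm_apply_f_zero _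
  have hfg : f ≫ g = 𝟙 S := HomologicalComplex.from_single_hom_ext (by
    rw [HomologicalComplex.comp_f, hf, hg, HomologicalComplex.id_f]
    ext s
    change rs P _ (coord U P (fun _ => i) (mk U P _)) = s
    rw [coord_mk, rs_rs, rs_self])
  let H : ∀ a b : ℕ, K.X a ⟶ K.X b := fun a b =>
    if hab : b + 1 = a then eqToHom (congrArg K.X hab.symm) ≫ AddCommGrpCat.ofHom (h U P i hi b) else 0
  have hH : ∀ b, H (b + 1) b = AddCommGrpCat.ofHom (h U P i hi b) := fun b => by simp [H]; rfl
  refine ⟨⟨f, g, Homotopy.ofEq hfg, Homotopy.symm ⟨H, fun a b hab => dif_neg hab, fun n => ?_⟩⟩⟩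
  rw [dNext_eq H (show (ComplexShape.up ℕ).Rel n (n + 1) from rfl), hH, HomologicalComplex.id_f, HomologicalComplex.comp_f]
  rcases n with _ | n
  · erw [Homotopy.prevD_zero_cochainComplex]
    rw [add_zero, hg, hf]
    ext c
    exact (comm_zero U P i hi c).symm
  · rw [prevD_eq H (show (ComplexShape.up ℕ).Rel n (n + 1) from rfl), hH]
    have : g.f (n + 1) = 0 := (HomologicalComplex.isZero_single_obj_X _ 0 _ (n + 1) (by omega)).eq_of_tgt _ _
    rw [this, zero_comp, add_zero]
    ext c
    exact (comm_succ U P i hi c).symm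

end Groth.Agent.LCechContract
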