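import Groth.Agent.Lib.LCartan
import Groth.Agent.Lib.LCechContract
import Groth.Agent.Lib.H5TopCoh

/-! Flasque sheaves have acyclic Cech complexes. -/

universe u

open CategoryTheory Limits TopologicalSpace Opposite TopCat

namespace Groth.Agent.LCechFlasque
open Groth.Agent.LCech

variable {X : TopCat.{u}} {ι : Type u} (U : ι → Opens X)

/-- degree zero cocycles glue -/
lemma exists_glue (F : Shf X) (c : (cplx U F.obj).X 0) (hc : (cplx U F.obj).d 0 1 c = 0) :
    ∃ t, LCechContract.ε U F.obj t = c := by
  let sf : ∀ i, F.obj.obj (op (U i)) := fun i =>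
    rs F.obj ((le_inter_iff U (fun _ => i) _).2 fun _ => le_rfl) (coord U _ (fun _ : Fin 1 => i) c)
  have hcomp : TopCat.Presheaf.IsCompatible F.obj U sf := by
    intro i j
    have hle : U i ⊓ U j ≤ inter U ![i, j] := (le_inter_iff U _ _).2 (by simp [Fin.forall_fin_two])
    have h := congrArg (fun z => rs F.obj hle (coord U _ ![i, j] z)) hc
    simp only [coord_d] at h
    have e0 : (![i, j] ∘ (0 : Fin 2).succAbove) = fun _ => j := by ext z; fin_cases z; rfl
    have e1 : (![i, j] ∘ (1 : Fin 2).succAbove) = fun _ => i := by ext z; fin_cases z; rfl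
    simp only [rs, map_sum, map_zsmul, map_zero] at h
    rw [Fin.sum_univ_two] at h
    norm_num at h
    rw [← sub_eq_add_neg, sub_eq_zero] at h
    change rs F.obj inf_le_left _ = rs F.obj inf_le_right _
    simp only [sf, rs_rs]
    refine Eq.trans (LCechContract.key U _ c e1.symm _ (hle.trans (inter_succAbove U _ 1))) ?_
    refine Eq.trans ?_ (LCechContract.key U _ c e0 (hle.trans (inter_succAbove U _ 0)) _)
    exact (rs_rs F.obj _ hle _).symm.trans (h.symm.trans (rs_rs F.obj _ hle _))
  obtain ⟨t, ht, -⟩ := TopCat.Sheaf.existsUnique_gluing' F U (iSup U) (fun i => homOfLE (le_iSup U i)) le_rfl sf hcomp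
  refine ⟨t, coord_ext U _ fun x => ?_⟩
  simp only [LCechContract.ε, AddMonoidHom.mk'_apply, coord_mk]
  have hx : x = fun _ => x 0 := by ext k; rw [Fin.fin_one_eq_zero k]
  rw [← rs_rs F.obj (le_iSup U (x 0)) (inter_le U x 0)]
  rw [show rs F.obj (le_iSup U (x 0)) t = sf (x 0) from ht (x 0)]
  simp only [sf, rs_rs]
  exact (LCechContract.key U _ c (y' := x) hx.symm _ le_rfl).trans (rs_self _ _ _)

theorem acyclic_flasque (n : ℕ) : ∀ F : Shf X, TopCat.Sheaf.IsFlasque F → (cplx U F.obj).ExactAt (n + 1) := by
  induction n with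
  | zero =>
    intro F hF
    let T := injSeq F
    have hT : T.ShortExact := injSeq_shortExact F
    have := hT.mono_f
    let Φ := cechComplexFunctor (A := AddCommGrpCat.{u}) U
    rw [exactAt_succ_iff]
    intro c hc
    have hci : (cplx U T.X₂.obj).d 1 2 ((Φ.map T.f.hom).f 1 c) = 0 := by
      rw [← ConcreteCategory.comp_apply, (Φ.map T.f.hom).comm 1 2, ConcreteCategory.comp_apply]
      exact (congrArg _ hc).trans (map_zero _)
    obtain ⟨b, hb⟩ := (exactAt_succ_iff U _ 0).1 (acyclic_injective T.X₂ U 0) _ hci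
    have hz : ∀ {A : Opens X} (a : T.X₁.obj.obj (op A)), T.g.hom.app _ (T.f.hom.app _ a) = 0 := by
      intro A a
      rw [← ConcreteCategory.comp_apply, ← NatTrans.comp_app, ← ObjectProperty.FullSubcategory.comp_hom, T.zero]
      rfl
    have hq : (cplx U T.X₃.obj).d 0 1 ((Φ.map T.g.hom).f 0 b) = 0 := by
      rw [← ConcreteCategory.comp_apply, (Φ.map T.g.hom).comm 0 1, ConcreteCategory.comp_apply]
      erw [hb]
      refine coord_ext U _ fun x => ?_
      erw [coord_map, coord_map, hz, map_zero]
    obtain ⟨q, hq'⟩ := exists_glue U T.X₃ _ hq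
    obtain ⟨s, hs⟩ := H5TopCoh.surjective_of_flasque hT hF (iSup U) q
    let b' := b - LCechContract.ε U T.X₂.obj s
    have hb' : ∀ x : Fin 1 → ι, T.g.hom.app _ (coord U _ x b') = 0 := fun x => by
      rw [map_sub, map_sub, sub_eq_zero]
      refine (coord_map U T.g.hom b x).symm.trans ((congrArg (coord U _ x) hq'.symm).trans ?_)
      simp only [LCechContract.ε, AddMonoidHom.mk'_apply, coord_mk]
      rw [← hs]
      exact (NatTrans.naturality_apply T.g.hom _ s).symm
    choose e he using fun x : Fin 1 → ι =>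
      TopCat.Sheaf.sections_exact_of_left_exact hT.exact hT.mono_f _ (hb' x)
    refine ⟨mk U _ e, coord_ext U _ fun x => app_injective T.f _ ?_⟩
    have hbe : (Φ.map T.f.hom).f 0 (mk U _ e) = b' := coord_ext U _ fun y => by
      erw [coord_map, coord_mk]; exact he y
    refine (coord_map U T.f.hom _ x).symm.trans (Eq.trans ?_ (coord_map U T.f.hom c x))
    congr 1
    rw [← ConcreteCategory.comp_apply, ← (Φ.map T.f.hom).comm 0 1, ConcreteCategory.comp_apply, hbe]
    refine (map_sub _ _ _).trans ?_
    rw [hb]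
    erw [LCechContract.d_ε]
    exact sub_zero _
  | succ n ih =>
    intro F hF
    let T := injSeq F
    have hT : T.ShortExact := injSeq_shortExact F
    have hS := cplx_shortExact U T hT fun m x => H5TopCoh.surjective_of_flasque hT hF _
    rw [HomologicalComplex.exactAt_iff_isZero_homology]
    exact (hS.homology_exact₁ (n + 1) (n + 1 + 1) rfl).isZero_of_both_zeros
      (((HomologicalComplex.exactAt_iff_isZero_homology _ _).1
        (ih _ (H5TopCoh.flasque_quotient hT hF inferInstance))).eq_of_src _ _)
      (((HomologicalComplex.exactAt_iff_isZero_homology _ _).1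
        (acyclic_injective T.X₂ U (n + 1))).eq_of_tgt _ _)

end Groth.Agent.LCechFlasque
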