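import Groth.Agent.Lib.H5Cech

universe w v u

namespace Groth.Agent.LCechPsh
open CategoryTheory Limits Opposite
open Groth.Agent

variable {C : Type u} [Category.{v} C] [LocallySmall.{w} C] {U : C} [HasFiniteProducts (Over U)] {ι : Type w} (Y : ι → Over U)

/-- iterated fibre products -/
noncomputable abbrev W {n : ℕ} (a : Fin n → ι) : Over U := ∏ᶜ (Y ∘ a)

/-- projections -/
noncomputable def pr {n : ℕ} (a : Fin n → ι) (k : Fin n) : (W Y a).left ⟶ (Y (a k)).left :=
  (Pi.π (Y ∘ a) k).left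

lemma pr_hom {n : ℕ} (a : Fin n → ι) (k : Fin n) : pr Y a k ≫ (Y (a k)).hom = (W Y a).hom :=
  Over.w (Pi.π (Y ∘ a) k)

/-- maps into fibre products -/
noncomputable def lft {n : ℕ} (a : Fin n → ι) {V : C} (g : V ⟶ U) (x : ∀ k, V ⟶ (Y (a k)).left)
    (w : ∀ k, x k ≫ (Y (a k)).hom = g) : V ⟶ (W Y a).left :=
  (Pi.lift (f := Y ∘ a) (fun k => (Over.homMk (x k) (w k) : Over.mk g ⟶ Y (a k)))).left

lemma lft_pr {n : ℕ} (a : Fin n → ι) {V : C} (g : V ⟶ U) (x : ∀ k, V ⟶ (Y (a k)).left)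
    (w : ∀ k, x k ≫ (Y (a k)).hom = g) (k : Fin n) : lft Y a g x w ≫ pr Y a k = x k :=
  congrArg CommaMorphism.left
    (Pi.lift_π (f := Y ∘ a) (fun k => (Over.homMk (x k) (w k) : Over.mk g ⟶ Y (a k))) k)

lemma W_ext {n : ℕ} {a : Fin (n + 1) → ι} {V : C} {l l' : V ⟶ (W Y a).left}
    (h : ∀ k, l ≫ pr Y a k = l' ≫ pr Y a k) : l = l' := by
  have hg : l' ≫ (W Y a).hom = l ≫ (W Y a).hom := by
    rw [← pr_hom Y a 0, ← Category.assoc, ← Category.assoc, h 0]
  have := Pi.hom_ext (f := Y ∘ a) (Over.homMk l rfl : Over.mk (l ≫ (W Y a).hom) ⟶ W Y a)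
    (Over.homMk l' hg) (fun k => Over.OverMorphism.ext (h k))
  exact congrArg CommaMorphism.left this

/-- restriction to faces -/
noncomputable def face {n : ℕ} (a : Fin (n + 1) → ι) (j : Fin (n + 1)) :
    (W Y a).left ⟶ (W Y (a ∘ j.succAbove)).left :=
  (Pi.lift (f := Y ∘ (a ∘ j.succAbove)) (fun k => Pi.π (Y ∘ a) (j.succAbove k))).left

lemma face_pr {n : ℕ} (a : Fin (n + 1) → ι) (j : Fin (n + 1)) (k : Fin n) :
    face Y a j ≫ pr Y (a ∘ j.succAbove) k = pr Y a (j.succAbove k) :=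
  congrArg CommaMorphism.left (Pi.lift_π (f := Y ∘ (a ∘ j.succAbove)) (fun k => Pi.π (Y ∘ a) (j.succAbove k)) k)

variable (P : Cᵒᵖ ⥤ AddCommGrpCat.{w})

/-- the Cech complex -/
noncomputable abbrev cplx : CochainComplex AddCommGrpCat.{w} ℕ :=
  (cechComplexFunctor Y).obj ((Over.forget U).op ⋙ P)

/-- a component of a cochain -/
noncomputable def coord {n : ℕ} (a : Fin (n + 1) → ι) : (cplx Y P).X n →+ P.obj (op (W Y a).left) :=
  (Pi.π (fun i : Fin (n + 1) → ι => P.obj (op (W Y i).left)) a).hom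

lemma coord_ext {n : ℕ} {c c' : (cplx Y P).X n} (h : ∀ a, coord Y P a c = coord Y P a c') : c = c' :=
  Concrete.limit_ext (F := Discrete.functor (fun i : Fin (n + 1) → ι => P.obj (op (W Y i).left)))
    c c' (fun x => h x.as)

/-- a cochain from components -/
noncomputable def mk {n : ℕ} (f : ∀ a : Fin (n + 1) → ι, P.obj (op (W Y a).left)) : (cplx Y P).X n :=
  (Concrete.productEquiv (fun i : Fin (n + 1) → ι => P.obj (op (W Y i).left))).symm f

lemma coord_mk {n : ℕ} (f : ∀ a : Fin (n + 1) → ι, P.obj (op (W Y a).left)) (a : Fin (n + 1) → ι) :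
    coord Y P a (mk Y P f) = f a :=
  Concrete.productEquiv_symm_apply_π _ f a

/-- `hom`, as an additive map -/
noncomputable def homAdd (A B : AddCommGrpCat.{w}) : (A ⟶ B) →+ (A →+ B) where
  toFun := AddCommGrpCat.Hom.hom
  map_zero' := rfl
  map_add' _ _ := rfl

lemma coord_d {n : ℕ} (c : (cplx Y P).X n) (a : Fin (n + 2) → ι) :
    coord Y P a ((cplx Y P).d n (n + 1) c) =
      ∑ j : Fin (n + 2), ((-1 : ℤ) ^ (j : ℕ)) • P.map (face Y a j).op (coord Y P (a ∘ j.succAbove) c) := by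
  have hd : (cplx Y P).d n (n + 1) = AlgebraicTopology.AlternatingCofaceMapComplex.objD
      ((FormalCoproduct.cosimplicialObjectFunctor (FormalCoproduct.mk _ Y).cech).obj ((Over.forget U).op ⋙ P)) n := by
    simp only [cplx, cechComplexFunctor, FormalCoproduct.cochainComplexFunctor, Functor.comp_obj]
    dsimp [AlgebraicTopology.alternatingCofaceMapComplex, AlgebraicTopology.AlternatingCofaceMapComplex.obj, CochainComplex.of]
    rw [CochainComplex.of_d]
    rfl
  rw [hd]
  let π' : (cplx Y P).X (n + 1) ⟶ P.obj (op (W Y a).left) :=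
    Pi.π (fun i : Fin (n + 2) → ι => P.obj (op (W Y i).left)) a
  change (AlgebraicTopology.AlternatingCofaceMapComplex.objD
      ((FormalCoproduct.cosimplicialObjectFunctor (FormalCoproduct.mk _ Y).cech).obj ((Over.forget U).op ⋙ P)) n ≫ π').hom c = _
  rw [AlgebraicTopology.AlternatingCofaceMapComplex.objD]
  erw [Preadditive.sum_comp]
  change homAdd _ _ (∑ j : Fin (n + 2), _) c = _
  erw [map_sum, AddMonoidHom.finsetSum_apply]
  refine Finset.sum_congr rfl fun j _ => ?_
  erw [Preadditive.zsmul_comp, map_zsmul]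
  rw [AddMonoidHom.smul_apply]
  congr 1
  change AddCommGrpCat.Hom.hom (_ ≫ π') c = AddCommGrpCat.Hom.hom
    (Pi.π (fun i : Fin (n + 1) → ι => P.obj (op (W Y i).left)) (a ∘ j.succAbove) ≫ P.map (face Y a j).op) c
  congr 2
  exact Limits.Pi.lift_π _ _

lemma d_d {n : ℕ} (c : (cplx Y P).X n) : (cplx Y P).d (n + 1) (n + 2) ((cplx Y P).d n (n + 1) c) = 0 := by
  rw [← ConcreteCategory.comp_apply, HomologicalComplex.d_comp_d]
  rfl

lemma exactAt_succ_iff (n : ℕ) : (cplx Y P).ExactAt (n + 1) ↔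
    ∀ c : (cplx Y P).X (n + 1), (cplx Y P).d (n + 1) (n + 2) c = 0 →
      ∃ b, (cplx Y P).d n (n + 1) b = c := by
  rw [(cplx Y P).exactAt_iff' n (n + 1) (n + 2) (by simp) (by simp), ShortComplex.ab_exact_iff]
  rfl

/-! ### the free resolution at the level of presheaves -/

/-- simplices -/
@[ext]
structure Smp (n : ℕ) (V : C) where
  g : V ⟶ U
  pt : Fin (n + 1) → Σ i : ι, (V ⟶ (Y i).left)
  w : ∀ k, (pt k).2 ≫ (Y (pt k).1).hom = g

variable {Y}

/-- restriction of simplices -/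
def Smp.res {n : ℕ} {V V' : C} (v : V' ⟶ V) (s : Smp Y n V) : Smp Y n V' where
  g := v ≫ s.g
  pt k := ⟨(s.pt k).1, v ≫ (s.pt k).2⟩
  w k := by rw [Category.assoc, s.w]

/-- faces of simplices -/
def Smp.δ {n : ℕ} {V : C} (s : Smp Y (n + 1) V) (j : Fin (n + 2)) : Smp Y n V where
  g := s.g
  pt := s.pt ∘ j.succAbove
  w _ := s.w _

/-- the classifying map -/
noncomputable def Smp.cls {n : ℕ} {V : C} (s : Smp Y n V) : V ⟶ (W Y (fun k => (s.pt k).1)).left :=
  lft Y _ s.g (fun k => (s.pt k).2) s.w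

variable (Y)

/-- the universal simplex -/
noncomputable def univS {n : ℕ} (a : Fin (n + 1) → ι) : Smp Y n (W Y a).left where
  g := (W Y a).hom
  pt k := ⟨a k, pr Y a k⟩
  w k := pr_hom Y a k

instance small_smp (n : ℕ) (V : C) : Small.{w} (Smp Y n V) :=
  small_of_injective (f := fun s : Smp Y n V => (s.g, s.pt)) fun s t h =>
    Smp.ext (congrArg Prod.fst h) (congrArg Prod.snd h)

/-- small free groups on simplices -/
abbrev FS (n : ℕ) (V : C) : Type w := FreeAbelianGroup (Shrink.{w} (Smp Y n V))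

/-- generator -/
@[irreducible] noncomputable def oS {n : ℕ} {V : C} (s : Smp Y n V) : FS Y n V :=
  FreeAbelianGroup.of (equivShrink _ s)

/-- extension -/
@[irreducible] noncomputable def lS {n : ℕ} {V : C} {G : Type w} [AddCommGroup G] (f : Smp Y n V → G) : FS Y n V →+ G :=
  FreeAbelianGroup.lift fun x => f ((equivShrink _).symm x)

lemma lS_oS {n : ℕ} {V : C} {G : Type w} [AddCommGroup G] (f : Smp Y n V → G) (s : Smp Y n V) :
    lS Y f (oS Y s) = f s := by unfold lS oS; simp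

lemma FS_ext {n : ℕ} {V : C} {G : Type w} [AddCommGroup G] {f g : FS Y n V →+ G}
    (h : ∀ s, f (oS Y s) = g (oS Y s)) : f = g :=
  FreeAbelianGroup.lift_ext _ _ fun x => by have := h ((equivShrink _).symm x); unfold oS at this; simpa using this

/-- free presheaf on simplices -/
noncomputable def ZS (n : ℕ) : Cᵒᵖ ⥤ AddCommGrpCat.{w} where
  obj V := AddCommGrpCat.of (FS Y n V.unop)
  map {V V'} v := AddCommGrpCat.ofHom (lS Y fun s => oS Y (Smp.res v.unop s))
  map_id V := by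
    apply AddCommGrpCat.hom_ext
    refine FS_ext Y fun s => (lS_oS Y _ s).trans ?_
    exact congrArg (oS Y) (by apply Smp.ext <;> simp [Smp.res])
  map_comp {A B D} v v' := by
    apply AddCommGrpCat.hom_ext
    refine FS_ext Y fun s => (lS_oS Y _ s).trans ?_
    refine Eq.trans ?_ ((congrArg (lS Y fun s => oS Y (Smp.res v'.unop s)) (lS_oS Y _ s)).trans (lS_oS Y _ _)).symm
    exact congrArg (oS Y) (by apply Smp.ext <;> simp [Smp.res])

/-- the boundary on sections -/
noncomputable def bdry (n : ℕ) (V : C) : FS Y (n + 1) V →+ FS Y n V :=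
  lS Y fun s => ∑ j : Fin (n + 2), ((-1 : ℤ) ^ (j : ℕ)) • oS Y (s.δ j)

lemma bdry_of (n : ℕ) {V : C} (s : Smp Y (n + 1) V) :
    bdry Y n V (oS Y s) = ∑ j : Fin (n + 2), ((-1 : ℤ) ^ (j : ℕ)) • oS Y (s.δ j) :=
  lS_oS Y _ _

/-- the boundary -/
noncomputable def dS (n : ℕ) : ZS Y (n + 1) ⟶ ZS Y n where
  app V := AddCommGrpCat.ofHom (bdry Y n V.unop)
  naturality {V V'} v := by
    apply AddCommGrpCat.hom_ext
    refine FS_ext Y fun s => ?_
    change bdry Y n V'.unop ((lS Y fun s => oS Y (Smp.res v.unop s)) (oS Y s)) =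
      (lS Y fun s => oS Y (Smp.res v.unop s)) (bdry Y n V.unop (oS Y s))
    rw [lS_oS, bdry_of, bdry_of, map_sum]
    refine Finset.sum_congr rfl fun j _ => ?_
    rw [map_zsmul, lS_oS]
    rfl

/-- a chosen member of the family lifting `g` -/
noncomputable def pick {V : C} (g : V ⟶ U) (h : ∃ p : Σ i : ι, (V ⟶ (Y i).left), p.2 ≫ (Y p.1).hom = g) :
    Σ i : ι, (V ⟶ (Y i).left) := Classical.choose h

/-- the cone on a simplex -/
noncomputable def cone {n : ℕ} {V : C} (s : Smp Y n V) : Smp Y (n + 1) V where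
  g := s.g
  pt := Fin.cons (pick Y s.g ⟨s.pt 0, s.w 0⟩) s.pt
  w k := by
    induction k using Fin.cases with
    | zero => exact Classical.choose_spec (p := fun p : Σ i : ι, (V ⟶ (Y i).left) => p.2 ≫ (Y p.1).hom = s.g) ⟨s.pt 0, s.w 0⟩
    | succ k => exact s.w k

lemma cone_δ_zero {n : ℕ} {V : C} (s : Smp Y n V) : (cone Y s).δ 0 = s := by
  apply Smp.ext
  · rfl
  · funext k; simp [Smp.δ, cone]

lemma cone_δ_succ {n : ℕ} {V : C} (s : Smp Y (n + 1) V) (j : Fin (n + 2)) :
    (cone Y s).δ j.succ = cone Y (s.δ j) := by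
  apply Smp.ext
  · rfl
  · funext k
    induction k using Fin.cases with
    | zero => simp only [Smp.δ, cone, Function.comp_apply, Fin.succ_succAbove_zero, Fin.cons_zero]
    | succ k => simp only [Smp.δ, cone, Function.comp_apply, Fin.succ_succAbove_succ, Fin.cons_succ]

lemma bdry_exact (n : ℕ) (V : C) (x : FS Y (n + 1) V) (hx : bdry Y n V x = 0) :
    ∃ y, bdry Y (n + 1) V y = x := by
  let h : ∀ m : ℕ, FS Y m V →+ FS Y (m + 1) V := fun m =>
    lS Y fun s => oS Y (cone Y s)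
  have key : (bdry Y (n + 1) V).comp (h (n + 1)) + (h n).comp (bdry Y n V) = AddMonoidHom.id _ := by
    refine FS_ext Y fun s => ?_
    simp only [AddMonoidHom.add_apply, AddMonoidHom.comp_apply, AddMonoidHom.id_apply, h,
      lS_oS, bdry_of, map_sum, map_zsmul]
    rw [Fin.sum_univ_succ, cone_δ_zero, add_assoc]
    simp [cone_δ_succ, pow_succ, ← Finset.sum_add_distrib]
  refine ⟨h (n + 1) x, ?_⟩
  have := DFunLike.congr_fun key x
  simpa [hx] using this

/-- evaluation of a cochain on a simplex -/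
noncomputable def evS {n : ℕ} (c : (cplx Y P).X n) {V : C} (s : Smp Y n V) : P.obj (op V) :=
  P.map s.cls.op (coord Y P _ c)

lemma cls_pr {n : ℕ} {V : C} (s : Smp Y n V) (k : Fin (n + 1)) :
    s.cls ≫ pr Y (fun k => (s.pt k).1) k = (s.pt k).2 := lft_pr Y _ _ _ _ _

lemma evS_congr {n : ℕ} (c : (cplx Y P).X n) {V : C} {a b : Fin (n + 1) → ι} (e : a = b)
    (l : V ⟶ (W Y a).left) (l' : V ⟶ (W Y b).left) (h : ∀ k, l ≫ pr Y a k ≍ l' ≫ pr Y b k) :
    P.map l.op (coord Y P a c) = P.map l'.op (coord Y P b c) := by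
  subst e
  rw [W_ext Y (l := l) (l' := l') (fun k => eq_of_heq (h k))]

lemma evS_res {n : ℕ} (c : (cplx Y P).X n) {V V' : C} (v : V' ⟶ V) (s : Smp Y n V) :
    evS Y P c (Smp.res v s) = P.map v.op (evS Y P c s) := by
  change P.map (Smp.res v s).cls.op (coord Y P (fun k => (s.pt k).1) c) =
    P.map v.op (P.map s.cls.op (coord Y P (fun k => (s.pt k).1) c))
  rw [← ConcreteCategory.comp_apply, ← P.map_comp, ← op_comp]
  exact evS_congr Y P c rfl _ _ fun k => heq_of_eq ((cls_pr Y (Smp.res v s) k).trans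
    ((Category.assoc _ _ _).trans (congrArg (fun z => v ≫ z) (cls_pr Y s k))).symm)

lemma evS_d {n : ℕ} (c : (cplx Y P).X n) {V : C} (s : Smp Y (n + 1) V) :
    evS Y P ((cplx Y P).d n (n + 1) c) s = ∑ j : Fin (n + 2), ((-1 : ℤ) ^ (j : ℕ)) • evS Y P c (s.δ j) := by
  rw [evS, coord_d, map_sum]
  refine Finset.sum_congr rfl fun j _ => ?_
  rw [map_zsmul, ← ConcreteCategory.comp_apply, ← P.map_comp, ← op_comp]
  congr 1
  refine congrArg (fun l : V ⟶ _ => P.map l.op (coord Y P _ c)) (W_ext Y fun k => ?_)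
  rw [Category.assoc, face_pr]
  exact (cls_pr Y s (j.succAbove k)).trans (cls_pr Y (s.δ j) k).symm

lemma evS_univ {n : ℕ} (c : (cplx Y P).X n) (a : Fin (n + 1) → ι) :
    evS Y P c (univS Y a) = coord Y P a c := by
  refine (evS_congr Y P c (a := a) rfl (univS Y a).cls (𝟙 _) fun k =>
    heq_of_eq ((cls_pr Y (univS Y a) k).trans (Category.id_comp _).symm)).trans ?_
  simp

/-- a cochain as a map -/
noncomputable def φS {n : ℕ} (c : (cplx Y P).X n) : ZS Y n ⟶ P where
  app V := AddCommGrpCat.ofHom (lS Y fun s => evS Y P c s)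
  naturality {V V'} v := by
    apply AddCommGrpCat.hom_ext
    refine FS_ext Y fun s => ?_
    change lS Y (fun s => evS Y P c s) ((lS Y fun s => oS Y (Smp.res v.unop s)) (oS Y s)) =
      P.map v (lS Y (fun s => evS Y P c s) (oS Y s))
    simp only [lS_oS]
    exact evS_res Y P c v.unop s

/-- injective presheaves have acyclic Cech complexes -/
theorem exactAt_of_injective [Injective P] (n : ℕ) : (cplx Y P).ExactAt (n + 1) := by
  rw [exactAt_succ_iff]
  intro c hc
  let d := dS Y n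
  have hker : kernel.ι d ≫ φS Y P c = 0 := by
    apply NatTrans.ext
    funext V
    apply AddCommGrpCat.hom_ext
    ext x
    have hx : bdry Y n V.unop ((kernel.ι d).app V x) = 0 :=
      ConcreteCategory.congr_hom (congr_app (kernel.condition d) V) x
    obtain ⟨y, hy⟩ := bdry_exact Y n V.unop _ hx
    change lS Y (fun s => evS Y P c s) ((kernel.ι d).app V x) = (0 : P.obj V)
    rw [← hy, ← AddMonoidHom.comp_apply]
    refine DFunLike.congr_fun (g := (0 : FS Y (n + 2) V.unop →+ P.obj V))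
      (FS_ext Y fun s => ?_) y
    rw [AddMonoidHom.comp_apply, bdry_of, map_sum]
    simp only [map_zsmul, lS_oS]
    rw [← evS_d, hc, evS, map_zero, map_zero, AddMonoidHom.zero_apply]
  let φ₁ : Abelian.coimage d ⟶ P := cokernel.desc (kernel.ι d) (φS Y P c) hker
  let ψ : ZS Y n ⟶ P := Injective.factorThru φ₁ (Abelian.factorThruCoimage d)
  have hψ : d ≫ ψ = φS Y P c := by
    calc d ≫ ψ = (Abelian.coimage.π d ≫ Abelian.factorThruCoimage d) ≫ ψ := by rw [Abelian.coimage.fac]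
      _ = Abelian.coimage.π d ≫ φ₁ := by rw [Category.assoc, Injective.comp_factorThru]
      _ = φS Y P c := cokernel.π_desc _ _ _
  refine ⟨mk Y P fun a => ψ.app (op (W Y a).left) (oS Y (univS Y a)), coord_ext Y P fun a => ?_⟩
  rw [coord_d, ← evS_univ Y P c a]
  have h := ConcreteCategory.congr_hom (congr_app hψ (op (W Y a).left)) (oS Y (univS Y a))
  change ψ.app _ (bdry Y n _ (oS Y (univS Y a))) =
    lS Y (fun s => evS Y P c s) (oS Y (univS Y a)) at h
  rw [lS_oS, bdry_of] at h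
  erw [map_sum] at h
  refine Eq.trans (Finset.sum_congr rfl fun j _ => ?_) h
  rw [coord_mk]
  erw [map_zsmul, ← NatTrans.naturality_apply]
  congr 1
  refine congrArg (ψ.app _) ((lS_oS Y _ _).trans (congrArg (oS Y) (Smp.ext ?_ ?_)))
  · exact Over.w (Pi.lift (f := Y ∘ (a ∘ j.succAbove)) (fun k => Pi.π (Y ∘ a) (j.succAbove k)))
  · funext k
    exact Sigma.ext rfl (heq_of_eq (face_pr Y a j k))


end Groth.Agent.LCechPsh
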