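import Groth.Agent.Lib.H6.DVRVal
import Mathlib

/-! Centres of valuation subrings of the function field. -/

set_option linter.all false
set_option autoImplicit false
set_option backward.isDefEq.respectTransparency.types false
universe u
open CategoryTheory CategoryTheory.Limits AlgebraicGeometry IsLocalRing

namespace Groth.Agent.LCenter

open Groth.Agent.H6

variable {X Z : Scheme.{u}} [IsIntegral X]

/-- inclusion of a valuation subring -/
noncomputable abbrev incl (R : ValuationSubring X.functionField) :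
    Spec X.functionField ⟶ Spec (CommRingCat.of R) :=
  Spec.map (CommRingCat.ofHom R.subtype)

/-- the generic point -/
noncomputable abbrev genS (X : Scheme.{u}) [IsIntegral X] : Spec X.functionField ⟶ X := X.fromSpecStalk (genericPoint X)

theorem dom_of_hom (R : ValuationSubring X.functionField) (q : X ⟶ Z) (g : Spec (CommRingCat.of R) ⟶ Z)
    (hg : incl R ≫ g = genS X ≫ q) (z : Z) (hz : g (closedPoint R) = z) :
    ∃ h : q (genericPoint X) ⤳ z,
      (∀ a : Z.presheaf.stalk z, (Z.presheaf.stalkSpecializes h ≫ q.stalkMap (genericPoint X)).hom a ∈ R) ∧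
      ∀ a ∈ maximalIdeal (Z.presheaf.stalk z),
        (Z.presheaf.stalkSpecializes h ≫ q.stalkMap (genericPoint X)).hom a ∈ R.nonunits := by
  subst hz
  have hgen : q (genericPoint X) = g (incl R (closedPoint X.functionField)) := by
    rw [← Scheme.Hom.comp_apply, hg, Scheme.Hom.comp_apply]
    exact congrArg q.base (X.fromSpecStalk_closedPoint (x := genericPoint X)).symm
  have h : q (genericPoint X) ⤳ g (closedPoint R) := by
    rw [hgen]
    exact (IsLocalRing.specializes_closedPoint (R := R) _).map g.continuous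
  have key : Z.presheaf.stalkSpecializes h ≫ q.stalkMap (genericPoint X) =
      Scheme.stalkClosedPointTo g ≫ CommRingCat.ofHom R.subtype := by
    apply Spec.map_injective
    rw [← cancel_mono (Z.fromSpecStalk (g (closedPoint R)))]
    rw [Spec.map_comp, Spec.map_comp, Category.assoc, Category.assoc, Scheme.SpecMap_stalkSpecializes_fromSpecStalk,
      Scheme.SpecMap_stalkMap_fromSpecStalk, Scheme.Spec_stalkClosedPointTo_fromSpecStalk]
    exact hg.symm
  refine ⟨h, fun a => ?_, fun a ha => ?_⟩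
  · rw [key]
    exact ((Scheme.stalkClosedPointTo g).hom a).2
  · rw [key]
    refine (ValuationSubring.coe_mem_nonunits_iff (A := R)).2 ?_
    exact map_nonunit (Scheme.stalkClosedPointTo g).hom a ha

theorem hom_of_dom (R : ValuationSubring X.functionField) (q : X ⟶ Z) (z : Z) (h : q (genericPoint X) ⤳ z)
    (h1 : ∀ a : Z.presheaf.stalk z, (Z.presheaf.stalkSpecializes h ≫ q.stalkMap (genericPoint X)).hom a ∈ R)
    (h2 : ∀ a ∈ maximalIdeal (Z.presheaf.stalk z),
        (Z.presheaf.stalkSpecializes h ≫ q.stalkMap (genericPoint X)).hom a ∈ R.nonunits) :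
    ∃ g : Spec (CommRingCat.of R) ⟶ Z, incl R ≫ g = genS X ≫ q ∧ g (closedPoint R) = z := by
  let φ : Z.presheaf.stalk z ⟶ CommRingCat.of R :=
    CommRingCat.ofHom ((Z.presheaf.stalkSpecializes h ≫ q.stalkMap (genericPoint X)).hom.codRestrict R.toSubring h1)
  refine ⟨Spec.map φ ≫ Z.fromSpecStalk z, ?_, ?_⟩
  · have : φ ≫ CommRingCat.ofHom R.subtype = Z.presheaf.stalkSpecializes h ≫ q.stalkMap (genericPoint X) := rfl
    refine (Spec.map_comp_assoc _ _ _).symm.trans ((congrArg (fun ψ => Spec.map ψ ≫ Z.fromSpecStalk z) this).trans ?_)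
    rw [Spec.map_comp, Category.assoc, Scheme.SpecMap_stalkSpecializes_fromSpecStalk, Scheme.SpecMap_stalkMap_fromSpecStalk]
  · haveI : IsLocalHom φ.hom := ⟨fun a ha => by
      by_contra hna
      have hn := h2 a ((IsLocalRing.mem_maximalIdeal a).2 hna)
      exact (IsLocalRing.mem_maximalIdeal _).1 ((ValuationSubring.coe_mem_nonunits_iff (A := R) (a := φ.hom a)).1 hn) ha⟩
    rw [Scheme.Hom.comp_apply, show Spec.map φ (closedPoint R) = closedPoint (Z.presheaf.stalk z) from
      IsLocalRing.comap_closedPoint φ.hom, Z.fromSpecStalk_closedPoint]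

/-- morphisms from a valuation ring into a separated scheme are determined generically -/
theorem hom_unique [Z.IsSeparated] {A : Type u} [CommRing A] [IsDomain A] [ValuationRing A] (K : Type u) [Field K]
    [Algebra A K] [IsFractionRing A K] {g g' : Spec (CommRingCat.of A) ⟶ Z}
    (h : Spec.map (CommRingCat.ofHom (algebraMap A K)) ≫ g = Spec.map (CommRingCat.ofHom (algebraMap A K)) ≫ g') :
    g = g' := by
  haveI : IsSeparated (terminal.from Z) := (Scheme.isSeparated_iff Z).1 ‹_›
  have hu := IsSeparated.valuativeCriterion (terminal.from Z)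
  have := hu ⟨A, K, Spec.map (CommRingCat.ofHom (algebraMap A K)) ≫ g, terminal.from _, ⟨terminal.hom_ext _ _⟩⟩
  exact congrArg CommSq.LiftStruct.l (this.elim ⟨g, rfl, terminal.hom_ext _ _⟩ ⟨g', h.symm, terminal.hom_ext _ _⟩)

/-- every valuation ring over `Y` has a centre on `X` -/
def HasCentres {Y : Scheme.{u}} (f : X ⟶ Y) : Prop :=
  ∀ (R : ValuationSubring X.functionField) (gY : Spec (CommRingCat.of R) ⟶ Y),
    incl R ≫ gY = genS X ≫ f → ∃ g : Spec (CommRingCat.of R) ⟶ X, incl R ≫ g = genS X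

/-- centres for all valuations of the function field give the valuative criterion -/
theorem existence_of_hasCentres {Y : Scheme.{u}} [X.IsSeparated] [Y.IsSeparated] (f : X ⟶ Y)
    (H : HasCentres f) : ValuativeCriterion.Existence f := by
  intro sq
  let x₀ := sq.i₁ (closedPoint sq.K)
  let ι : X.residueField x₀ ⟶ CommRingCat.of sq.K := Scheme.descResidueField (Scheme.stalkClosedPointTo sq.i₁)
  have hι : Spec.map ι ≫ X.fromSpecResidueField x₀ = sq.i₁ := Scheme.descResidueField_stalkClosedPointTo_fromSpecResidueField _ _ _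
  let V : ValuationSubring sq.K := ⟨(algebraMap sq.R sq.K).range, fun a => by
    rcases ValuationRing.isInteger_or_isInteger sq.R a with h | h
    · exact Or.inl h
    · exact Or.inr h⟩
  let V₀ : ValuationSubring (X.residueField x₀) := V.comap ι.hom
  -- a valuation ring of the function field centred at `x₀`
  have hsp : genericPoint X ⤳ x₀ := genericPoint_specializes x₀
  let r₀ : X.presheaf.stalk x₀ ⟶ X.functionField := X.presheaf.stalkSpecializes hsp
  obtain ⟨R₀, hR₀, hloc₀⟩ := IsLocalRing.exists_factor_valuationRing r₀.hom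
  let ρ : X.presheaf.stalk x₀ →+* R₀ := r₀.hom.codRestrict R₀.toSubring hR₀
  haveI : IsLocalHom ρ := hloc₀
  let j : X.residueField x₀ →+* ResidueField R₀ := IsLocalRing.ResidueField.map ρ
  let jV : V₀ →+* ResidueField R₀ := j.comp V₀.subtype
  obtain ⟨V', hV', hloc'⟩ := IsLocalRing.exists_factor_valuationRing jV
  haveI : IsLocalHom (jV.codRestrict V'.toSubring hV') := hloc'
  have hcap : ∀ c, j c ∈ V' → c ∈ V₀ := fun c hc => by
    rcases V₀.mem_or_inv_mem c with h | h
    · exact h
    · rcases eq_or_ne c 0 with rfl | hc0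
      · exact V₀.zero_mem
      have hu : IsUnit (jV.codRestrict V'.toSubring hV' ⟨c⁻¹, h⟩) :=
        IsUnit.of_mul_eq_one ⟨j c, hc⟩ (Subtype.ext (by
          show j c⁻¹ * j c = 1
          rw [← map_mul, inv_mul_cancel₀ hc0, map_one]))
      obtain ⟨b, hb⟩ := (IsUnit.of_map (jV.codRestrict V'.toSubring hV') _ hu).exists_right_inv
      have : c = (b : X.residueField x₀) := by
        have hb' : c⁻¹ * (b : X.residueField x₀) = 1 := congrArg Subtype.val hb
        exact (mul_left_cancel₀ (inv_ne_zero hc0) (hb'.trans (inv_mul_cancel₀ hc0).symm)).symm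
      exact this ▸ b.2
  -- the composite valuation ring
  let S : Subring X.functionField := (V'.toSubring.comap (residue R₀)).map R₀.subtype
  have hS : ∀ a, a ∈ S ↔ ∃ h : a ∈ R₀, residue R₀ ⟨a, h⟩ ∈ V' := fun a =>
    ⟨fun ⟨c, hc, e⟩ => e ▸ ⟨c.2, hc⟩, fun ⟨h, hc⟩ => ⟨⟨a, h⟩, hc, rfl⟩⟩
  let R : ValuationSubring X.functionField := ⟨S, fun a => by
    rcases R₀.mem_or_inv_mem a with h | h
    · by_cases hu : IsUnit (⟨a, h⟩ : R₀)
      · obtain ⟨b, hb⟩ := hu.exists_right_inv
        rcases V'.mem_or_inv_mem (residue R₀ ⟨a, h⟩) with h' | h'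
        · exact Or.inl ((hS a).2 ⟨h, h'⟩)
        · refine Or.inr ((hS _).2 ⟨?_, ?_⟩)
          · have hb' : a * (b : X.functionField) = 1 := congrArg Subtype.val hb
            rw [inv_eq_of_mul_eq_one_right hb']
            exact b.2
          · have hb' : residue R₀ ⟨a, h⟩ * residue R₀ b = 1 := by rw [← map_mul, hb, map_one]
            rw [inv_eq_of_mul_eq_one_right hb'] at h'
            convert h' using 3
            exact inv_eq_of_mul_eq_one_right (congrArg Subtype.val hb)
      · refine Or.inl ((hS a).2 ⟨h, ?_⟩)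
        rw [(residue_eq_zero_iff (R := R₀) _).2 hu]
        exact V'.zero_mem
    · by_cases hu : IsUnit (⟨a⁻¹, h⟩ : R₀)
      · obtain ⟨b, hb⟩ := hu.exists_right_inv
        have hb' : a⁻¹ * (b : X.functionField) = 1 := congrArg Subtype.val hb
        have ha : (b : X.functionField) = a := by rw [← inv_eq_of_mul_eq_one_right hb', inv_inv]
        rcases V'.mem_or_inv_mem (residue R₀ ⟨a⁻¹, h⟩) with h' | h'
        · exact Or.inr ((hS _).2 ⟨h, h'⟩)
        · refine Or.inl ((hS a).2 ⟨ha ▸ b.2, ?_⟩)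
          rw [inv_eq_of_mul_eq_one_right (show residue R₀ ⟨a⁻¹, h⟩ * residue R₀ b = 1 by rw [← map_mul, hb, map_one])] at h'
          convert h' using 3
          exact ha.symm
      · refine Or.inr ((hS _).2 ⟨h, ?_⟩)
        rw [(residue_eq_zero_iff (R := R₀) _).2 hu]
        exact V'.zero_mem⟩
  have hRR : R.toSubring ≤ R₀.toSubring := fun a ha => ((hS a).1 ha).1
  -- the morphisms
  let g₀ : Spec (CommRingCat.of R₀) ⟶ X := Spec.map (CommRingCat.ofHom ρ) ≫ X.fromSpecStalk x₀
  have hg₀ : incl R₀ ≫ g₀ = genS X := by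
    exact (Spec.map_comp_assoc _ _ _).symm.trans ((congrArg (fun θ => Spec.map θ ≫ X.fromSpecStalk x₀)
      (show _ = r₀ from rfl)).trans (Scheme.SpecMap_stalkSpecializes_fromSpecStalk hsp))
  have hg₀cl : g₀ (closedPoint R₀) = x₀ := by
    rw [Scheme.Hom.comp_apply, show Spec.map (CommRingCat.ofHom ρ) (closedPoint R₀) = closedPoint (X.presheaf.stalk x₀) from
      IsLocalRing.comap_closedPoint ρ, X.fromSpecStalk_closedPoint]
  let jC : X.residueField x₀ ⟶ CommRingCat.of (ResidueField R₀) := CommRingCat.ofHom j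
  let πC : CommRingCat.of R₀ ⟶ CommRingCat.of (ResidueField R₀) := CommRingCat.ofHom (residue R₀)
  have hk : Spec.map πC ≫ g₀ = Spec.map jC ≫ X.fromSpecResidueField x₀ := by
    rw [Scheme.fromSpecResidueField, ← Spec.map_comp_assoc, ← Spec.map_comp_assoc]
    rfl
  -- the morphism to `Y`
  obtain ⟨W, hW, hyW, -⟩ := exists_isAffineOpen_mem_and_subset (X := Y) (x := sq.i₂ (closedPoint sq.R)) (U := ⊤) trivial
  obtain ⟨a, ha⟩ := DVRVal.exists_factor hW sq.i₂ (DVRVal.mem_of_closed sq.i₂ hyW)
  have hfx₀ : f x₀ ∈ W := by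
    rw [← Scheme.Hom.comp_apply, sq.commSq.w, Scheme.Hom.comp_apply]
    exact DVRVal.mem_of_closed sq.i₂ hyW _
  obtain ⟨c₀, hc₀⟩ := DVRVal.exists_factor hW (g₀ ≫ f) (DVRVal.mem_of_closed (g₀ ≫ f)
    (by rw [Scheme.Hom.comp_apply, hg₀cl]; exact hfx₀))
  obtain ⟨e, he⟩ := DVRVal.exists_factor hW (X.fromSpecResidueField x₀ ≫ f) (fun p => by
    rw [Scheme.Hom.comp_apply, Scheme.fromSpecResidueField_apply]; exact hfx₀)
  have he1 : e ≫ ι = a ≫ CommRingCat.ofHom (algebraMap sq.R sq.K) := DVRVal.factor_unique hW (by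
    rw [Spec.map_comp, Spec.map_comp, Category.assoc, Category.assoc, he, ha, ← Category.assoc, hι]
    exact sq.commSq.w)
  have he2 : c₀ ≫ πC = e ≫ jC := DVRVal.factor_unique hW (by
    rw [Spec.map_comp, Spec.map_comp, Category.assoc, Category.assoc, he, hc₀, ← Category.assoc, hk, Category.assoc])
  have heV : ∀ w, e.hom w ∈ V₀ := fun w =>
    ⟨a.hom w, (congrArg (fun φ : Γ(Y, W) ⟶ CommRingCat.of sq.K => φ.hom w) he1).symm⟩
  have hcR : ∀ w, ((c₀.hom w : R₀) : X.functionField) ∈ R := fun w => (hS _).2 ⟨(c₀.hom w).2, by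
    rw [show residue R₀ ⟨_, (c₀.hom w).2⟩ = j (e.hom w) from congrArg (fun φ : Γ(Y, W) ⟶ CommRingCat.of (ResidueField R₀) => φ.hom w) he2]
    exact hV' ⟨_, heV w⟩⟩
  let cR : Γ(Y, W) ⟶ CommRingCat.of R := CommRingCat.ofHom ((R₀.subtype.comp c₀.hom).codRestrict R.toSubring hcR)
  let gY : Spec (CommRingCat.of R) ⟶ Y := Spec.map cR ≫ hW.fromSpec
  have hgY : incl R ≫ gY = genS X ≫ f := by
    refine (Spec.map_comp_assoc _ _ _).symm.trans ((congrArg (fun θ => Spec.map θ ≫ hW.fromSpec)
      (show _ = c₀ ≫ CommRingCat.ofHom R₀.subtype from rfl)).trans ?_)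
    refine (Spec.map_comp_assoc _ _ _).trans ((congrArg (incl R₀ ≫ ·) hc₀).trans ?_)
    rw [← Category.assoc, hg₀]
  obtain ⟨g, hg⟩ := H R gY hgY
  -- descend to `V₀`
  let i : CommRingCat.of R ⟶ CommRingCat.of R₀ := CommRingCat.ofHom (Subring.inclusion hRR)
  have hgg₀ : Spec.map i ≫ g = g₀ := hom_unique X.functionField (by
    show incl R₀ ≫ _ = incl R₀ ≫ _
    rw [hg₀]
    exact (Spec.map_comp_assoc _ _ _).symm.trans ((congrArg (fun θ => Spec.map θ ≫ g)
      (show _ = CommRingCat.ofHom R.subtype from rfl)).trans hg))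
  obtain ⟨U, hU, hxU, -⟩ := exists_isAffineOpen_mem_and_subset (X := X) (x := g (closedPoint R)) (U := ⊤) trivial
  obtain ⟨cU, hcU⟩ := DVRVal.exists_factor hU g (DVRVal.mem_of_closed g hxU)
  have hx₀U : x₀ ∈ U := by
    rw [← hg₀cl, ← hgg₀, Scheme.Hom.comp_apply]
    exact DVRVal.mem_of_closed g hxU _
  obtain ⟨ψ, hψ⟩ := DVRVal.exists_factor hU (X.fromSpecResidueField x₀) (fun p => by
    rw [Scheme.fromSpecResidueField_apply]; exact hx₀U)
  have hψ2 : cU ≫ i ≫ πC = ψ ≫ jC := DVRVal.factor_unique hU (by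
    rw [Spec.map_comp, Spec.map_comp, Spec.map_comp, Category.assoc, Category.assoc, Category.assoc, hψ, hcU, hgg₀, hk])
  have hψV : ∀ b, ψ.hom b ∈ V₀ := fun b => hcap _ (by
    rw [show j (ψ.hom b) = residue R₀ (i.hom (cU.hom b)) from (congrArg (fun φ : Γ(X, U) ⟶ CommRingCat.of (ResidueField R₀) => φ.hom b) hψ2).symm]
    exact ((hS _).1 (cU.hom b).2).2)
  have hKV : ∀ w : V₀, ι.hom w.1 ∈ (algebraMap sq.R sq.K).range := fun w => w.2
  choose sel hsel using fun b => hKV ⟨_, hψV b⟩
  have hsel' : ∀ b, algebraMap sq.R sq.K (sel b) = ι.hom (ψ.hom b) := hsel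
  have hinj := IsFractionRing.injective sq.R sq.K
  let ψ' : Γ(X, U) ⟶ CommRingCat.of sq.R := CommRingCat.ofHom
    { toFun := sel
      map_one' := hinj (by rw [hsel', map_one, map_one, map_one])
      map_mul' := fun b b' => hinj (by rw [hsel', map_mul, map_mul, map_mul, hsel', hsel'])
      map_zero' := hinj (by rw [hsel', map_zero, map_zero, map_zero])
      map_add' := fun b b' => hinj (by rw [hsel', map_add, map_add, map_add, hsel', hsel']) }
  have hψ' : ψ' ≫ CommRingCat.ofHom (algebraMap sq.R sq.K) = ψ ≫ ι := by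
    ext b
    exact hsel' b
  have hl : Spec.map (CommRingCat.ofHom (algebraMap sq.R sq.K)) ≫ Spec.map ψ' ≫ hU.fromSpec = sq.i₁ := by
    rw [← Spec.map_comp_assoc, hψ', Spec.map_comp, Category.assoc, hψ, hι]
  refine ⟨⟨⟨Spec.map ψ' ≫ hU.fromSpec, hl, hom_unique sq.K ?_⟩⟩⟩
  rw [← Category.assoc, hl, sq.commSq.w]

theorem hasCentres_of_forall {Y : Scheme.{u}} (f : X ⟶ Y)
    (H : ∀ (R : ValuationSubring X.functionField), R ≠ ⊤ → ∀ (y : Y) (hy : f (genericPoint X) ⤳ y),
      ((∀ a : Y.presheaf.stalk y, (Y.presheaf.stalkSpecializes hy ≫ f.stalkMap (genericPoint X)).hom a ∈ R) ∧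
          ∀ a ∈ maximalIdeal (Y.presheaf.stalk y),
            R.valuation ((Y.presheaf.stalkSpecializes hy ≫ f.stalkMap (genericPoint X)).hom a) < 1) →
        ∃ x : X, (∀ a : X.presheaf.stalk x, algebraMap (X.presheaf.stalk x) X.functionField a ∈ R) ∧
          ∀ a ∈ maximalIdeal (X.presheaf.stalk x), R.valuation (algebraMap (X.presheaf.stalk x) X.functionField a) < 1) :
    HasCentres f := by
  intro R gY hgY
  suffices ∃ x : X, (∀ a : X.presheaf.stalk x, algebraMap (X.presheaf.stalk x) X.functionField a ∈ R) ∧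
      ∀ a ∈ maximalIdeal (X.presheaf.stalk x), R.valuation (algebraMap (X.presheaf.stalk x) X.functionField a) < 1 by
    obtain ⟨x, h1, h2⟩ := this
    obtain ⟨g, hg, -⟩ := hom_of_dom R (𝟙 X) x (genericPoint_specializes x)
      (fun a => by rw [Scheme.Hom.stalkMap_id]; exact h1 a)
      (fun a ha => by rw [Scheme.Hom.stalkMap_id]; exact (ValuationSubring.mem_nonunits_iff R).2 (h2 a ha))
    exact ⟨g, hg.trans (Category.comp_id _)⟩
  by_cases hR : R = ⊤
  · refine ⟨genericPoint X, fun a => hR ▸ trivial, fun a ha => ?_⟩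
    have : a = 0 := by
      have hf : IsField (X.presheaf.stalk (genericPoint X)) := Field.toIsField X.functionField
      rwa [IsLocalRing.isField_iff_maximalIdeal_eq.1 hf, Submodule.mem_bot] at ha
    rw [this, map_zero, map_zero]
    exact zero_lt_one
  · obtain ⟨hy, h1, h2⟩ := dom_of_hom R f gY hgY _ rfl
    exact H R hR _ hy ⟨h1, fun a ha => (ValuationSubring.mem_nonunits_iff R).1 (h2 a ha)⟩

theorem isProper_of_hasCentres {Y : Scheme.{u}} [X.IsSeparated] [Y.IsSeparated] (f : X ⟶ Y)
    [LocallyOfFiniteType f] [QuasiCompact f] (H : HasCentres f) : IsProper f := by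
  haveI : IsSeparated (terminal.from X) := (Scheme.isSeparated_iff X).1 ‹_›
  haveI : IsSeparated (f ≫ terminal.from Y) := by
    rw [show f ≫ terminal.from Y = terminal.from X from terminal.hom_ext _ _]; infer_instance
  haveI : IsSeparated f := IsSeparated.of_comp f (terminal.from Y)
  haveI : UniversallyClosed f := UniversallyClosed.of_valuativeCriterion f (existence_of_hasCentres f H)
  exact ⟨⟩

end Groth.Agent.LCenter
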