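import Mathlib
import Groth.Prelude.Def_W4c2conddiscmodels

/-! contraction of a chain of connecting edges in a multigraph with multiplicities -/

set_option autoImplicit false
universe u
open Finset

namespace Groth.Agent.LChain

variable {V E : Type u} [Fintype V] [Fintype E] [DecidableEq V] [DecidableEq E] {ends : E → V × V} {β : V → ℤ}

theorem mult_comm (v w : V) : LabGraph.edgeMult ends v w = LabGraph.edgeMult ends w v := by
  simp only [LabGraph.edgeMult, or_comm]

theorem mult_pos {v w : V} {e : E} (h : ends e = (v, w) ∨ ends e = (w, v)) : 1 ≤ LabGraph.edgeMult ends v w :=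
  Finset.card_pos.2 ⟨e, Finset.mem_filter.2 ⟨Finset.mem_univ _, h⟩⟩

theorem diag (hβ : LabGraph.IsMultFn ends β) (v : V) :
    β v * LabGraph.mfMatrix ends β v v = -∑ w ∈ univ.erase v, β w * (LabGraph.edgeMult ends v w : ℤ) := by
  rw [LabGraph.mfMatrix, if_pos rfl, Int.mul_ediv_cancel' (dvd_neg.2 (hβ v).2)]

theorem offdiag {v w : V} (h : v ≠ w) : LabGraph.mfMatrix ends β v w = LabGraph.edgeMult ends v w := by
  rw [LabGraph.mfMatrix, if_neg h]

theorem row (hβ : LabGraph.IsMultFn ends β) (v : V) : ∑ w, LabGraph.mfMatrix ends β v w * β w = 0 := by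
  rw [← Finset.add_sum_erase _ _ (Finset.mem_univ v), mul_comm, diag hβ v, add_comm, ← sub_eq_add_neg, sub_eq_zero]
  exact Finset.sum_congr rfl fun w hw => by rw [offdiag (Finset.ne_of_mem_erase hw).symm, mul_comm]

/-- a cut consisting of one edge -/
theorem cut (hβ : LabGraph.IsMultFn ends β) (S : V → Prop) [DecidablePred S] {e₀ : E} {a b : V}
    (he : ends e₀ = (a, b) ∨ ends e₀ = (b, a)) (ha : S a) (hb : ¬ S b)
    (hS : ∀ e, (S (ends e).1 ↔ ¬ S (ends e).2) → e = e₀) (v : V) :
    (LabGraph.mfMatrix ends β).mulVec (fun w => if S w then β w else 0) v =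
      (if v = b then β a else 0) - (if v = a then β b else 0) := by
  have hm : ∀ v w, S v → ¬ S w → (LabGraph.edgeMult ends v w : ℤ) = if v = a ∧ w = b then 1 else 0 := by
    intro v w hv hw
    have huniq : ∀ e, (ends e = (v, w) ∨ ends e = (w, v)) → e = e₀ ∧ v = a ∧ w = b := by
      intro e h
      have he' : e = e₀ := hS e (by rcases h with h | h <;> rw [h] <;> simp [hv, hw])
      subst he'
      refine ⟨rfl, ?_⟩
      rcases he with he | he <;> rcases h with h | h <;> rw [he, Prod.mk.injEq] at h <;> obtain ⟨rfl, rfl⟩ := h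
      · exact ⟨rfl, rfl⟩
      · exact absurd ha hw
      · exact absurd ha hw
      · exact ⟨rfl, rfl⟩
    rw [LabGraph.edgeMult]
    split_ifs with h
    · obtain ⟨rfl, rfl⟩ := h
      rw [show (Finset.univ.filter fun e => ends e = (v, w) ∨ ends e = (w, v)) = {e₀} by
        ext e; simpa using ⟨fun h => (huniq e h).1, fun h => h ▸ he⟩]
      simp
    · rw [Finset.card_eq_zero.2 (Finset.filter_eq_empty_iff.2 fun e _ h' => h (huniq e h').2)]
      simp
  rw [Matrix.mulVec, dotProduct]
  by_cases hv : S v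
  · have : ∀ w, LabGraph.mfMatrix ends β v w * (if S w then β w else 0) =
        LabGraph.mfMatrix ends β v w * β w - (if v = a then (if w = b then β b else 0) else 0) := by
      intro w
      by_cases hw : S w
      · rw [if_pos hw, if_neg (fun h : w = b => hb (h ▸ hw)), ite_self, sub_zero]
      · rw [if_neg hw, mul_zero, offdiag (fun h : v = w => hw (h ▸ hv)), hm v w hv hw]
        by_cases h1 : v = a <;> by_cases h2 : w = b <;> simp [h1, h2]
    rw [Finset.sum_congr rfl fun w _ => this w, Finset.sum_sub_distrib, row hβ, if_neg (fun h : v = b => hb (h ▸ hv))]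
    by_cases h1 : v = a <;> simp [h1]
  · have : ∀ w, LabGraph.mfMatrix ends β v w * (if S w then β w else 0) =
        (if v = b then (if w = a then β a else 0) else 0) := by
      intro w
      by_cases hw : S w
      · rw [if_pos hw, offdiag (fun h : v = w => hv (h.symm ▸ hw)), mult_comm, hm w v hw hv]
        by_cases h1 : v = b <;> by_cases h2 : w = a <;> simp [h1, h2]
      · rw [if_neg hw, mul_zero, if_neg (fun h : w = a => hw (h ▸ ha))]
        simp
    rw [Finset.sum_congr rfl fun w _ => this w, if_neg (fun h : v = a => hv (h ▸ ha))]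
    by_cases h1 : v = b <;> simp [h1]

section chain

variable {m : ℕ} {f : Fin (m + 1) → V} {e : Fin m → E}

theorem interior_edges (hβ : LabGraph.IsMultFn ends β) (hC : LabGraph.IsChain ends f e) (hβm : ∀ i, β (f i) = m)
    (hα : ∀ i, LabGraph.mfMatrix ends β (f i) (f i) = -2) {a b : Fin m} (hab : a.succ = b.castSucc) (v : V) :
    LabGraph.mfMatrix ends β (f a.succ) v =
      (if v = f a.castSucc then 1 else 0) + (if v = f b.succ then 1 else 0) - (if v = f a.succ then 2 else 0) := by
  have hv : (a : ℕ) + 1 = b := by have := congrArg Fin.val hab; simpa using this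
  have h1 : f a.castSucc ≠ f a.succ := hC.1.ne (by simp [Fin.ext_iff])
  have h2 : f b.succ ≠ f a.succ := hC.1.ne (by simp [Fin.ext_iff]; omega)
  have h3 : f b.succ ≠ f a.castSucc := hC.1.ne (by simp [Fin.ext_iff]; omega)
  have hm0 : (0 : ℤ) < m := by have := a.2; omega
  have hs := diag hβ (f a.succ)
  rw [hα, hβm, ← Finset.add_sum_erase _ _ (Finset.mem_erase.2 ⟨h1, Finset.mem_univ (f a.castSucc)⟩),
    ← Finset.add_sum_erase _ _ (Finset.mem_erase.2 ⟨h3, Finset.mem_erase.2 ⟨h2, Finset.mem_univ (f b.succ)⟩⟩), hβm, hβm] at hs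
  have hp : 1 ≤ LabGraph.edgeMult ends (f a.succ) (f a.castSucc) := mult_pos (hC.2.2 a).symm
  have hn : 1 ≤ LabGraph.edgeMult ends (f a.succ) (f b.succ) := mult_pos (e := e b) (hab ▸ hC.2.2 b)
  set R := ∑ w ∈ ((univ.erase (f a.succ)).erase (f a.castSucc)).erase (f b.succ),
    β w * (LabGraph.edgeMult ends (f a.succ) w : ℤ)
  have hR : 0 ≤ R := Finset.sum_nonneg fun w _ => mul_nonneg (hβ w).1.le (by positivity)
  have hp' : (LabGraph.edgeMult ends (f a.succ) (f a.castSucc) : ℤ) = 1 := by nlinarith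
  have hn' : (LabGraph.edgeMult ends (f a.succ) (f b.succ) : ℤ) = 1 := by nlinarith
  have hR0 : R = 0 := by rw [hp', hn'] at hs; linarith
  by_cases e1 : v = f a.succ
  · subst e1; rw [hα, if_neg h1.symm, if_neg h2.symm, if_pos rfl]; norm_num
  rw [if_neg e1, offdiag (Ne.symm e1), sub_zero]
  by_cases e2 : v = f a.castSucc
  · subst e2; rw [hp', if_pos rfl, if_neg h3.symm, add_zero]
  by_cases e3 : v = f b.succ
  · subst e3; rw [hn', if_neg h3, if_pos rfl, zero_add]
  rw [if_neg e2, if_neg e3, add_zero]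
  have := (Finset.sum_eq_zero_iff_of_nonneg fun w _ => mul_nonneg (hβ w).1.le (by positivity)).1 hR0 v (by simp [e1, e2, e3])
  rcases mul_eq_zero.1 this with h | h
  · exact absurd h (hβ v).1.ne'
  · exact h

theorem interior_uniq (hβ : LabGraph.IsMultFn ends β) (hC : LabGraph.IsChain ends f e) (hβm : ∀ i, β (f i) = m)
    (hα : ∀ i, LabGraph.mfMatrix ends β (f i) (f i) = -2) {a b : Fin m} (hab : a.succ = b.castSucc) {w : V} {e' : E}
    (he : ends e' = (f a.succ, w) ∨ ends e' = (w, f a.succ)) (hw : w ≠ f a.succ) : e' ∈ univ.image e := by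
  have hv : (a : ℕ) + 1 = b := by have := congrArg Fin.val hab; simpa using this
  have h3 : f b.succ ≠ f a.castSucc := hC.1.ne (by simp [Fin.ext_iff]; omega)
  have h1 := interior_edges hβ hC hβm hα hab w
  rw [offdiag hw.symm, if_neg hw, sub_zero] at h1
  have hpos := mult_pos (v := f a.succ) (w := w) he
  have key : ∀ {i : Fin m}, (ends (e i) = (f a.succ, w) ∨ ends (e i) = (w, f a.succ)) →
      LabGraph.edgeMult ends (f a.succ) w = 1 → e' ∈ univ.image e := fun {i} hi h => by
    have := Finset.card_le_one.1 h.le (e i) (Finset.mem_filter.2 ⟨Finset.mem_univ _, hi⟩) e'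
      (Finset.mem_filter.2 ⟨Finset.mem_univ _, he⟩)
    exact this ▸ Finset.mem_image_of_mem _ (Finset.mem_univ i)
  by_cases e2 : w = f a.castSucc
  · subst e2
    rw [if_pos rfl, if_neg h3.symm] at h1
    exact key (hC.2.2 a).symm (by omega)
  by_cases e3 : w = f b.succ
  · subst e3
    rw [if_neg h3, if_pos rfl] at h1
    exact key (i := b) (hab ▸ hC.2.2 b) (by omega)
  rw [if_neg e2, if_neg e3] at h1
  omega

theorem same_class (hC : LabGraph.IsChain ends f e) (j : Fin (m + 1)) :
    DualGr.ctrMk ends (univ.image e) (f j) = DualGr.ctrMk ends (univ.image e) (f 0) := by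
  induction j using Fin.induction with
  | zero => rfl
  | succ i ih =>
    have := DualGr.ctrMk_fst_eq_ctrMk_snd ends (univ.image e) (Finset.mem_image_of_mem e (Finset.mem_univ i))
    rcases hC.2.2 i with h | h <;> rw [h] at this
    · exact this.symm.trans ih
    · exact this.trans ih

theorem class_iff (hC : LabGraph.IsChain ends f e) {v w : V} :
    DualGr.ctrMk ends (univ.image e) v = DualGr.ctrMk ends (univ.image e) w ↔
      v = w ∨ (∃ i, f i = v) ∧ ∃ j, f j = w := by
  constructor
  · intro h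
    have h' : Relation.EqvGen (DualGr.CtrRel ends (univ.image e)) v w := Quotient.exact h
    clear h
    induction h' with
    | rel x y h =>
      obtain ⟨e', he', hxy⟩ := h
      obtain ⟨i, -, rfl⟩ := Finset.mem_image.1 he'
      rcases hC.2.2 i with h | h <;> rw [h, Prod.mk.injEq] at hxy <;> obtain ⟨rfl, rfl⟩ := hxy <;>
        exact Or.inr ⟨⟨_, rfl⟩, _, rfl⟩
    | refl x => exact Or.inl rfl
    | symm x y _ ih => exact ih.imp Eq.symm And.symm
    | trans x y z _ _ ih1 ih2 =>
      rcases ih1 with rfl | ⟨h1, h2⟩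
      · exact ih2
      rcases ih2 with rfl | ⟨h3, h4⟩
      · exact Or.inr ⟨h1, h2⟩
      · exact Or.inr ⟨h1, h4⟩
  · rintro (rfl | ⟨⟨i, rfl⟩, j, rfl⟩)
    · rfl
    · rw [same_class hC i, same_class hC j]

theorem out_eq {γ : V → ℤ} (hC : LabGraph.IsChain ends f e) (hγ : ∀ i j, γ (f i) = γ (f j)) (v : V) :
    LabGraph.ctrFn ends (univ.image e) γ (DualGr.ctrMk ends (univ.image e) v) = γ v := by
  rw [LabGraph.ctrFn]
  rcases (class_iff hC).1 (Quotient.out_eq (s := DualGr.ctrSetoid ends (univ.image e))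
    (DualGr.ctrMk ends (univ.image e) v) : DualGr.ctrMk ends (univ.image e)
      (Quotient.out (s := DualGr.ctrSetoid ends (univ.image e)) (DualGr.ctrMk ends (univ.image e) v)) = _) with h | ⟨⟨i, hi⟩, j, hj⟩
  · rw [h]
  · rw [← hi, ← hj, hγ i j]

theorem ctr_mult (c c' : DualGr.CtrVert ends (univ.image e)) (h : c ≠ c') :
    (LabGraph.edgeMult (DualGr.ctrEnds ends (univ.image e)) c c' : ℤ) =
      ∑ v ∈ univ.filter (fun v => DualGr.ctrMk ends (univ.image e) v = c),
        ∑ w ∈ univ.filter (fun w => DualGr.ctrMk ends (univ.image e) w = c'), (LabGraph.edgeMult ends v w : ℤ) := by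
  classical
  have hR : ∀ v w, (LabGraph.edgeMult ends v w : ℤ) = ∑ x : E, if ends x = (v, w) ∨ ends x = (w, v) then 1 else 0 :=
    fun v w => by rw [LabGraph.edgeMult, Finset.sum_boole]
  rw [LabGraph.edgeMult]
  have hL : ((univ.filter fun x : DualGr.CtrEdge (univ.image e) => DualGr.ctrEnds ends (univ.image e) x = (c, c') ∨ DualGr.ctrEnds ends (univ.image e) x = (c', c)).card : ℤ) =
      ∑ x : E, if (DualGr.ctrMk ends (univ.image e) (ends x).1 = c ∧ DualGr.ctrMk ends (univ.image e) (ends x).2 = c') ∨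
        (DualGr.ctrMk ends (univ.image e) (ends x).1 = c' ∧ DualGr.ctrMk ends (univ.image e) (ends x).2 = c) then 1 else 0 := by
    rw [Finset.sum_boole]
    refine congrArg Nat.cast ?_
    refine Finset.card_bij (fun x _ => x.1) (fun x hx => ?_) (fun x _ y _ hxy => Subtype.ext hxy) (fun x hx => ?_)
    · simpa [DualGr.ctrEnds, Prod.ext_iff] using hx
    · simp only [Finset.mem_filter, Finset.mem_univ, true_and] at hx
      refine ⟨⟨x, fun hxD => ?_⟩, by simpa [DualGr.ctrEnds, Prod.ext_iff] using hx, rfl⟩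
      have := DualGr.ctrMk_fst_eq_ctrMk_snd ends (univ.image e) hxD
      rcases hx with ⟨h1, h2⟩ | ⟨h1, h2⟩
      · exact h (h1.symm.trans (this.trans h2))
      · exact h (h2.symm.trans (this.symm.trans h1))
  refine hL.trans ?_
  simp only [hR]
  rw [eq_comm, Finset.sum_congr rfl fun v _ => Finset.sum_comm, Finset.sum_comm]
  refine Finset.sum_congr rfl fun x _ => ?_
  rcases hx : ends x with ⟨p, q⟩
  simp only [Prod.mk.injEq]
  split_ifs with hxc
  · rcases hxc with ⟨h1, h2⟩ | ⟨h1, h2⟩
    · rw [Finset.sum_eq_single p, Finset.sum_eq_single q]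
      · simp
      · intro w hw hwq
        rw [if_neg]
        rintro (⟨-, rfl⟩ | ⟨rfl, rfl⟩)
        · exact hwq rfl
        · exact hwq rfl
      · intro hq; simp [h2] at hq
      · intro v hv hvp
        refine Finset.sum_eq_zero fun w hw => if_neg ?_
        rintro (⟨rfl, -⟩ | ⟨-, rfl⟩)
        · exact hvp rfl
        · exact h ((Finset.mem_filter.1 hv).2.symm.trans h2)
      · intro hp; simp [h1] at hp
    · rw [Finset.sum_eq_single q, Finset.sum_eq_single p]
      · simp
      · intro w hw hwq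
        rw [if_neg]
        rintro (⟨rfl, rfl⟩ | ⟨rfl, -⟩)
        · exact hwq rfl
        · exact hwq rfl
      · intro hq; simp [h1] at hq
      · intro v hv hvp
        refine Finset.sum_eq_zero fun w hw => if_neg ?_
        rintro (⟨rfl, -⟩ | ⟨-, rfl⟩)
        · exact h ((Finset.mem_filter.1 hv).2.symm.trans h1)
        · exact hvp rfl
      · intro hp; simp [h2] at hp
  · refine Finset.sum_eq_zero fun v hv => Finset.sum_eq_zero fun w hw => if_neg ?_
    rintro (⟨rfl, rfl⟩ | ⟨rfl, rfl⟩)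
    · exact hxc (Or.inl ⟨(Finset.mem_filter.1 hv).2, (Finset.mem_filter.1 hw).2⟩)
    · exact hxc (Or.inr ⟨(Finset.mem_filter.1 hw).2, (Finset.mem_filter.1 hv).2⟩)

/-- summed entries of the matrix over two classes -/
noncomputable def blk (c c' : DualGr.CtrVert ends (univ.image e)) : ℤ :=
  ∑ v ∈ univ.filter (fun v => DualGr.ctrMk ends (univ.image e) v = c),
    ∑ w ∈ univ.filter (fun w => DualGr.ctrMk ends (univ.image e) w = c'), LabGraph.mfMatrix ends β v w

theorem blk_offdiag {c c' : DualGr.CtrVert ends (univ.image e)} (h : c ≠ c') :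
    blk (β := β) c c' = (LabGraph.edgeMult (DualGr.ctrEnds ends (univ.image e)) c c' : ℤ) := by
  rw [ctr_mult c c' h, blk]
  refine Finset.sum_congr rfl fun v hv => Finset.sum_congr rfl fun w hw => offdiag ?_
  rintro rfl
  exact h ((Finset.mem_filter.1 hv).2.symm.trans (Finset.mem_filter.1 hw).2)

theorem pushV_mulVec (hC : LabGraph.IsChain ends f e) (z : V → ℤ) (hz : ∀ i j, z (f i) = z (f j))
    (c : DualGr.CtrVert ends (univ.image e)) :
    DualGr.pushV ends (univ.image e) ((LabGraph.mfMatrix ends β).mulVec z) c =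
      ∑ c', blk (β := β) c c' * LabGraph.ctrFn ends (univ.image e) z c' := by
  simp only [DualGr.pushV, LinearMap.coe_mk, AddHom.coe_mk, Matrix.mulVec, dotProduct, blk, Finset.sum_mul]
  rw [Finset.sum_comm (γ := V)]
  refine Eq.trans ?_ (Finset.sum_comm)
  refine Eq.trans ?_ (Finset.sum_congr rfl fun v _ => (Finset.sum_congr rfl fun c' _ => Finset.sum_congr rfl fun w hw => by
    rw [← (Finset.mem_filter.1 hw).2, out_eq hC hz w] : ∑ c', ∑ w ∈ univ.filter (fun w => DualGr.ctrMk ends (univ.image e) w = c'),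
      LabGraph.mfMatrix ends β v w * z w = _))
  rw [Finset.sum_comm]
  refine Finset.sum_congr rfl fun v _ => ?_
  rw [Finset.sum_fiberwise]

theorem ctr_dvd (hβ : LabGraph.IsMultFn ends β) (hC : LabGraph.IsChain ends f e) (hc : ∀ i j, β (f i) = β (f j))
    (c : DualGr.CtrVert ends (univ.image e)) :
    blk (β := β) c c * LabGraph.ctrFn ends (univ.image e) β c +
      ∑ c' ∈ univ.erase c, LabGraph.ctrFn ends (univ.image e) β c' *
        (LabGraph.edgeMult (DualGr.ctrEnds ends (univ.image e)) c c' : ℤ) = 0 := by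
  have h := pushV_mulVec (β := β) hC β hc c
  rw [show (LabGraph.mfMatrix ends β).mulVec β = 0 from funext fun v => row hβ v, map_zero, Pi.zero_apply,
    ← Finset.add_sum_erase _ _ (Finset.mem_univ c)] at h
  rw [h]
  refine congrArg₂ (· + ·) rfl (Finset.sum_congr rfl fun c' hc' => ?_)
  rw [blk_offdiag (Finset.ne_of_mem_erase hc').symm, mul_comm]

theorem ctr_isMult (hβ : LabGraph.IsMultFn ends β) (hC : LabGraph.IsChain ends f e) (hc : ∀ i j, β (f i) = β (f j)) :
    LabGraph.IsMultFn (DualGr.ctrEnds ends (univ.image e)) (LabGraph.ctrFn ends (univ.image e) β) := by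
  intro c
  refine ⟨(hβ _).1, ⟨-blk (β := β) c c, ?_⟩⟩
  have := ctr_dvd hβ hC hc c
  linarith

theorem ctr_matrix (hβ : LabGraph.IsMultFn ends β) (hC : LabGraph.IsChain ends f e) (hc : ∀ i j, β (f i) = β (f j))
    (c c' : DualGr.CtrVert ends (univ.image e)) :
    LabGraph.mfMatrix (DualGr.ctrEnds ends (univ.image e)) (LabGraph.ctrFn ends (univ.image e) β) c c' = blk (β := β) c c' := by
  by_cases h : c = c'
  · subst h
    have h1 := diag (ctr_isMult hβ hC hc) c
    have h2 := ctr_dvd hβ hC hc c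
    have h3 : LabGraph.ctrFn ends (univ.image e) β c ≠ 0 := (hβ _).1.ne'
    exact mul_left_cancel₀ h3 (by linarith)
  · rw [offdiag h, blk_offdiag h]

theorem ctr_mulVec (hβ : LabGraph.IsMultFn ends β) (hC : LabGraph.IsChain ends f e) (hc : ∀ i j, β (f i) = β (f j))
    (z : V → ℤ) (hz : ∀ i j, z (f i) = z (f j)) :
    (LabGraph.mfMatrix (DualGr.ctrEnds ends (univ.image e)) (LabGraph.ctrFn ends (univ.image e) β)).mulVec
      (LabGraph.ctrFn ends (univ.image e) z) = DualGr.pushV ends (univ.image e) ((LabGraph.mfMatrix ends β).mulVec z) := by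
  funext c
  rw [pushV_mulVec hC z hz c, Matrix.mulVec, dotProduct]
  exact Finset.sum_congr rfl fun c' _ => by rw [ctr_matrix hβ hC hc]

theorem pushV_liftAt (hC : LabGraph.IsChain ends f e) (x : DualGr.CtrVert ends (univ.image e) → ℤ) :
    DualGr.pushV ends (univ.image e) (LabGraph.liftAt ends (univ.image e) (f 0) x) = x := by
  funext c
  obtain ⟨v, rfl⟩ := DualGr.ctrMk_surjective ends (univ.image e) c
  show ∑ w ∈ univ.filter _, LabGraph.liftAt ends (univ.image e) (f 0) x w = _
  by_cases hv : DualGr.ctrMk ends (univ.image e) v = DualGr.ctrMk ends (univ.image e) (f 0)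
  · rw [hv, Finset.sum_eq_single (f 0)]
    · simp [LabGraph.liftAt]
    · intro w hw hne; simp [LabGraph.liftAt, (Finset.mem_filter.1 hw).2, hne]
    · simp
  · rw [Finset.sum_eq_single v]
    · simp [LabGraph.liftAt, hv]
    · intro w hw hne
      rcases (class_iff hC).1 (Finset.mem_filter.1 hw).2 with h | ⟨-, j, rfl⟩
      · exact absurd h hne
      · exact absurd (same_class hC j) hv
    · simp

theorem liftAt_pushV (hC : LabGraph.IsChain ends f e) (u : V → ℤ) :
    u - LabGraph.liftAt ends (univ.image e) (f 0) (DualGr.pushV ends (univ.image e) u) =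
      ∑ j, u (f j) • ((Pi.single (f j) (1 : ℤ) : V → ℤ) - Pi.single (f 0) 1) := by
  funext v
  simp only [Pi.sub_apply, Finset.sum_apply, Pi.smul_apply, smul_eq_mul, mul_sub, Finset.sum_sub_distrib, LabGraph.liftAt]
  by_cases hv : DualGr.ctrMk ends (univ.image e) v = DualGr.ctrMk ends (univ.image e) (f 0)
  · obtain ⟨i, rfl⟩ : ∃ i, f i = v := by
      rcases (class_iff hC).1 hv with h | ⟨h, -⟩
      exacts [⟨0, h.symm⟩, h]
    have hone : ∑ j, u (f j) * (Pi.single (f j) (1 : ℤ) : V → ℤ) (f i) = u (f i) := by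
      rw [Finset.sum_eq_single i]
      · simp
      · intro j _ hj; simp [Pi.single_apply, (hC.1.ne hj).symm]
      · simp
    rw [hone]
    by_cases h0 : i = 0
    · subst h0
      have hP : DualGr.pushV ends (univ.image e) u (DualGr.ctrMk ends (univ.image e) (f 0)) = ∑ j, u (f j) := by
        show ∑ x ∈ univ.filter _, u x = _
        refine (Finset.sum_bij (fun j _ => f j) (fun j _ => by simp [same_class hC j]) (fun _ _ _ _ h => hC.1 h) (fun x hx => ?_) (fun _ _ => rfl)).symm
        rcases (class_iff hC).1 (Finset.mem_filter.1 hx).2 with h | ⟨⟨j, hj⟩, -⟩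
        exacts [⟨0, Finset.mem_univ _, h.symm⟩, ⟨j, Finset.mem_univ _, hj⟩]
      simp [hP]
    · rw [if_pos ⟨hv, hC.1.ne h0⟩]
      simp [Pi.single_apply, hC.1.ne h0]
  · rw [if_neg (fun h => hv h.1)]
    have hne : ∀ j, v ≠ f j := fun j h => hv (h ▸ same_class hC j)
    have hP : DualGr.pushV ends (univ.image e) u (DualGr.ctrMk ends (univ.image e) v) = u v := by
      show ∑ x ∈ univ.filter _, u x = _
      rw [Finset.sum_eq_single v]
      · intro w hw h
        rcases (class_iff hC).1 (Finset.mem_filter.1 hw).2 with h' | ⟨-, j, hj⟩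
        exacts [absurd h' h, absurd hj.symm (hne j)]
      · simp
    simp [hP, Pi.single_apply, hne]

theorem exists_cut (hC : LabGraph.IsChain ends f e) (hconn : ∀ i, LabGraph.IsConnecting ends (e i)) (hm : 0 < m) :
    ∃ S : Finset V, f 0 ∈ S ∧ (∀ e', ((ends e').1 ∈ S ↔ (ends e').2 ∉ S) ↔ e' = e ⟨0, hm⟩) ∧
      ∀ j : Fin (m + 1), j ≠ 0 → f j ∉ S := by
  obtain ⟨S, hS⟩ : ∃ S : Finset V, f 0 ∈ S ∧ ∀ e', ((ends e').1 ∈ S ↔ (ends e').2 ∉ S) ↔ e' = e ⟨0, hm⟩ := by
    obtain ⟨S, hS⟩ := hconn ⟨0, hm⟩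
    by_cases h : f 0 ∈ S
    · exact ⟨S, h, hS⟩
    · refine ⟨Sᶜ, by simpa using h, fun e' => ?_⟩
      rw [← hS e']
      simp only [Finset.mem_compl, not_not]
      tauto
  obtain ⟨h0S, hS⟩ := hS
  have hstep : ∀ j : Fin m, (f j.castSucc ∈ S ↔ f j.succ ∈ S) ↔ j ≠ ⟨0, hm⟩ := fun j => by
    have := hS (e j)
    rw [hC.2.1.eq_iff] at this
    rcases hC.2.2 j with h | h <;> rw [h] at this <;> simp only [ne_eq, ← this] <;> tauto
  have hnS : ∀ j : Fin (m + 1), j ≠ 0 → f j ∉ S := by
    intro j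
    induction j using Fin.induction with
    | zero => exact fun h => absurd rfl h
    | succ j ih =>
      intro _
      by_cases hj : j = ⟨0, hm⟩
      · subst hj
        intro h
        exact ((hstep ⟨0, hm⟩).1 ⟨fun _ => h, fun _ => h0S⟩) rfl
      · intro h
        exact ih (fun h0 => hj (Fin.ext (by simpa [Fin.ext_iff] using h0))) (((hstep j).2 hj).2 h)
  exact ⟨S, h0S, hS, hnS⟩

theorem mult_zero_succ (hC : LabGraph.IsChain ends f e) (hconn : ∀ i, LabGraph.IsConnecting ends (e i))
    {i : Fin (m + 1)} (hi : i ≠ 0) :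
    LabGraph.edgeMult ends (f i) (f 0) = if (i : ℕ) = 1 then 1 else 0 := by
  have hm : 0 < m := by rcases Nat.eq_zero_or_pos m with rfl | h; exacts [absurd (Fin.eq_zero i) hi, h]
  obtain ⟨S, h0S, hS, hnS⟩ := exists_cut hC hconn hm
  have huniq : ∀ e', (ends e' = (f i, f 0) ∨ ends e' = (f 0, f i)) → e' = e ⟨0, hm⟩ ∧ (i : ℕ) = 1 := by
    intro e' h
    have he' : e' = e ⟨0, hm⟩ := (hS e').1 (by rcases h with h | h <;> rw [h] <;> simp [h0S, hnS i hi])
    refine ⟨he', ?_⟩
    subst he'
    have hv : ∀ {a b : Fin (m + 1)}, f a = f b → (a : ℕ) = b := fun h => congrArg Fin.val (hC.1 h)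
    rcases hC.2.2 ⟨0, hm⟩ with h' | h' <;> rcases h with h | h <;> rw [h', Prod.mk.injEq] at h <;>
      obtain ⟨ha, hb⟩ := h <;> have := hv ha <;> have := hv hb <;>
      simp only [Fin.val_castSucc, Fin.val_succ, Fin.val_zero] at * <;> omega
  rw [LabGraph.edgeMult]
  split_ifs with h
  · rw [Finset.card_eq_one]
    refine ⟨e ⟨0, hm⟩, Finset.eq_singleton_iff_unique_mem.2 ⟨?_, fun e' he' => (huniq e' (Finset.mem_filter.1 he').2).1⟩⟩
    have : i = (⟨0, hm⟩ : Fin m).succ := Fin.ext (by simpa using h)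
    rw [Finset.mem_filter, this]
    refine ⟨Finset.mem_univ _, ?_⟩
    rcases hC.2.2 ⟨0, hm⟩ with h' | h'
    · exact Or.inr h'
    · exact Or.inl h'
  · exact Finset.card_eq_zero.2 (Finset.filter_eq_empty_iff.2 fun e' _ he' => h (huniq e' he').2)

theorem mat_symm (v w : V) : LabGraph.mfMatrix ends β v w = LabGraph.mfMatrix ends β w v := by
  by_cases h : v = w
  · rw [h]
  · rw [offdiag h, offdiag (Ne.symm h), mult_comm]

theorem beta_pushV (hC : LabGraph.IsChain ends f e) (hc : ∀ i j, β (f i) = β (f j)) (u : V → ℤ) :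
    LabGraph.betaHom (LabGraph.ctrFn ends (univ.image e) β) (DualGr.pushV ends (univ.image e) u) = LabGraph.betaHom β u := by
  simp only [LabGraph.betaHom, Fintype.linearCombination_apply, smul_eq_mul, DualGr.pushV, LinearMap.coe_mk, AddHom.coe_mk, Finset.sum_mul]
  rw [← Finset.sum_fiberwise univ (DualGr.ctrMk ends (univ.image e))]
  exact Finset.sum_congr rfl fun c _ => Finset.sum_congr rfl fun v hv => by
    rw [← (Finset.mem_filter.1 hv).2, out_eq hC hc v]

theorem exists_end_vector (hβ : LabGraph.IsMultFn ends β) (hC : LabGraph.IsChain ends f e) (hβm : ∀ i, β (f i) = m)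
    (hα : ∀ i, LabGraph.mfMatrix ends β (f i) (f i) = -2) (hconn : ∀ i, LabGraph.IsConnecting ends (e i)) :
    ∃ w : V → ℤ, (∀ j : Fin (m + 1), w (f j) = (m : ℤ) - j) ∧
      (LabGraph.mfMatrix ends β).mulVec w = (Pi.single (f (Fin.last m)) 1 : V → ℤ) - Pi.single (f 0) 1 := by
  rcases Nat.eq_zero_or_pos m with rfl | hm
  · exact ⟨0, fun j => by simp [Fin.eq_zero j], by simp⟩
  obtain ⟨S, h0S, hS, hnS⟩ := exists_cut hC hconn hm
  classical
  let T : V → Prop := fun v => v ∈ S ∧ ∀ j, v ≠ f j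
  let w : V → ℤ := fun v => if T v then β v else ∑ i : Fin m, if ∃ j : Fin (m + 1), (j : ℕ) ≤ i ∧ v = f j then 1 else 0
  have hwf : ∀ j : Fin (m + 1), w (f j) = (m : ℤ) - j := by
    intro j
    show (if T (f j) then _ else _) = _
    rw [if_neg (fun h : T (f j) => h.2 j rfl), Finset.sum_boole]
    have : (univ.filter fun i : Fin m => ∃ j' : Fin (m + 1), (j' : ℕ) ≤ i ∧ f j = f j') = univ.filter (fun i : Fin m => (j : ℕ) ≤ i) := by
      ext i
      simp only [Finset.mem_filter, Finset.mem_univ, true_and]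
      exact ⟨fun ⟨j', h, h'⟩ => hC.1 h' ▸ h, fun h => ⟨j, h, rfl⟩⟩
    rw [this]
    have hcard : (univ.filter (fun i : Fin m => (j : ℕ) ≤ i)).card = m - j := by
      rw [show (univ.filter (fun i : Fin m => (j : ℕ) ≤ i)) = (univ.filter (fun i : Fin m => (i : ℕ) < j))ᶜ by ext; simp,
        Finset.card_compl, Fintype.card_fin, Fin.card_filter_val_lt, min_eq_right (Nat.le_of_lt_succ j.2)]
    rw [hcard]
    push_cast [Nat.le_of_lt_succ j.2]
    ring
  refine ⟨w, hwf, ?_⟩
  let S' : Fin m → V → Prop := fun i v => T v ∨ ∃ j : Fin (m + 1), (j : ℕ) ≤ i ∧ v = f j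
  have hS'f : ∀ i j, S' i (f j) ↔ (j : ℕ) ≤ i := fun i j =>
    ⟨fun h => h.elim (fun h => absurd rfl (h.2 j)) fun ⟨j', h, h'⟩ => hC.1 h' ▸ h, fun h => Or.inr ⟨j, h, rfl⟩⟩
  have hint : ∀ {e' : E} {v v' : V}, e' ∉ univ.image e → (ends e' = (v, v') ∨ ends e' = (v', v)) → v ≠ v' →
      ∀ j : Fin (m + 1), v = f j → (j : ℕ) = 0 ∨ (j : ℕ) = m := by
    intro e' v v' he' h hne j hj
    by_contra hcon
    push Not at hcon
    have hj2 := j.2
    refine he' (interior_uniq hβ hC hβm hα (a := ⟨(j : ℕ) - 1, by omega⟩) (b := ⟨j, by omega⟩) (Fin.ext (by simp; omega)) (w := v') ?_ ?_)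
    · rw [show f (Fin.succ (⟨(j : ℕ) - 1, by omega⟩ : Fin m)) = v by rw [hj]; congr 1; ext; simp; omega]; exact h
    · rw [show f (Fin.succ (⟨(j : ℕ) - 1, by omega⟩ : Fin m)) = v by rw [hj]; congr 1; ext; simp; omega]; exact hne.symm
  have hagree : ∀ i v, (∀ j, v = f j → (j : ℕ) = 0 ∨ (j : ℕ) = m) → (S' i v ↔ v ∈ S) := by
    intro i v hv
    by_cases h : ∃ j, v = f j
    · obtain ⟨j, rfl⟩ := h
      rw [hS'f]
      rcases hv j rfl with h | h
      · exact ⟨fun _ => (show j = 0 from Fin.ext h) ▸ h0S, fun _ => by omega⟩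
      · exact ⟨fun h' => absurd h' (by have := i.2; omega), fun h' => absurd h' (hnS j (fun h0 => by simp [h0] at h; omega))⟩
    · push Not at h
      exact ⟨fun h' => h'.elim (fun h' => h'.1) fun ⟨j, _, hj⟩ => absurd hj (h j), fun h' => Or.inl ⟨h', h⟩⟩
  have hcut : ∀ (i : Fin m) v, (LabGraph.mfMatrix ends β).mulVec (fun x => if S' i x then β x else 0) v =
      (m : ℤ) * ((if v = f i.succ then 1 else 0) - (if v = f i.castSucc then 1 else 0)) := by
    intro i v
    rw [cut hβ (S' i) (e₀ := e i) (hC.2.2 i) ((hS'f i _).2 (by simp)) (fun h => by have := (hS'f i _).1 h; simp at this) ?_ v, hβm, hβm]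
    · split_ifs <;> ring
    intro e' he'
    by_cases hD : e' ∈ univ.image e
    · obtain ⟨l, -, rfl⟩ := Finset.mem_image.1 hD
      rcases hC.2.2 l with h | h <;> rw [h] at he' <;> simp only [hS'f, Fin.val_castSucc, Fin.val_succ] at he' <;>
        exact congrArg e (Fin.ext (by omega))
    · exfalso
      have hne : (ends e').1 ≠ (ends e').2 := fun h => by rw [h] at he'; exact (iff_not_self he').elim
      rw [hagree i _ (hint hD (v' := (ends e').2) (Or.inl rfl) hne), hagree i _ (hint hD (v' := (ends e').1) (Or.inr rfl) hne.symm)] at he'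
      exact hD ((hS e').1 he' ▸ Finset.mem_image_of_mem _ (Finset.mem_univ _))
  have hsum : (m : ℤ) • w = ∑ i : Fin m, fun x => if S' i x then β x else 0 := by
    funext v
    simp only [Pi.smul_apply, smul_eq_mul, Finset.sum_apply]
    by_cases hT : T v
    · rw [Finset.sum_congr rfl fun i _ => if_pos (Or.inl hT : S' i v)]
      simp [w, hT]
    · simp only [w, if_neg hT, Finset.mul_sum, S', hT, false_or, mul_ite, mul_one, mul_zero]
      refine Finset.sum_congr rfl fun i _ => ?_
      split_ifs with h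
      · obtain ⟨j, -, rfl⟩ := h; rw [hβm]
      · rfl
  have h1 := congrArg (LabGraph.mfMatrix ends β).mulVec hsum
  rw [Matrix.mulVec_smul, Matrix.mulVec_sum] at h1
  funext v
  refine mul_left_cancel₀ (show (m : ℤ) ≠ 0 by omega) ?_
  have h2 := congrFun h1 v
  simp only [Pi.smul_apply, smul_eq_mul, Finset.sum_apply, hcut, ← Finset.mul_sum] at h2
  rw [h2, Finset.sum_sub_distrib]
  congr 1
  have ha := Fin.sum_univ_castSucc (fun j : Fin (m + 1) => if v = f j then (1 : ℤ) else 0)
  have hb := Fin.sum_univ_succ (fun j : Fin (m + 1) => if v = f j then (1 : ℤ) else 0)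
  simp only [Pi.sub_apply, Pi.single_apply]
  linarith

theorem arith (hβ : LabGraph.IsMultFn ends β) (hC : LabGraph.IsChain ends f e) (hβm : ∀ i, β (f i) = m)
    (hα : ∀ i, LabGraph.mfMatrix ends β (f i) (f i) = -2) (y : V → ℤ) {a b : Fin m} (hab : a.succ = b.castSucc) :
    (LabGraph.mfMatrix ends β).mulVec y (f a.succ) = y (f a.castSucc) + y (f b.succ) - 2 * y (f a.succ) := by
  simp only [Matrix.mulVec, dotProduct, interior_edges hβ hC hβm hα hab, sub_mul, add_mul, ite_mul, one_mul, zero_mul,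
    Finset.sum_sub_distrib, Finset.sum_add_distrib, Finset.sum_ite_eq', Finset.mem_univ, if_true]

end chain

end Groth.Agent.LChain
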