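import Mathlib
import Groth.Agent.Lib.H8AffDim
import Groth.Agent.Lib.H2IntegralDim
import Groth.Agent.Lib.Catenary

/-! Maximal chains of primes in affine domains have length equal to the dimension. -/

set_option autoImplicit false
universe u
open MvPolynomial

namespace Groth.Agent.LChainDim

theorem dim_quotient_eq {k A : Type u} [Field k] [CommRing A] [IsDomain A] [Algebra k A] [Algebra.FiniteType k A]
    (P : PrimeSpectrum A) (hP : (⊥ : PrimeSpectrum A) ⋖ P) :
    ringKrullDim (A ⧸ P.asIdeal) + 1 = ringKrullDim A := by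
  refine le_antisymm ?_ ?_
  · have h := H8AffDim.dim_quotient_succ_le (bot_le (a := P.asIdeal)) P.isPrime.ne_top (fun Q hQ hle => by
      rw [Ideal.minimalPrimes_eq_subsingleton_self] at hQ
      subst hQ
      exact hP.1.not_ge hle)
    rwa [ringKrullDim_eq_of_ringEquiv (RingEquiv.quotientBot A)] at h
  obtain ⟨d, g, hg, hfin⟩ := exists_finite_inj_algHom_of_fg k A
  letI := g.toRingHom.toAlgebra
  haveI : IsScalarTower k (MvPolynomial (Fin d) k) A :=
    IsScalarTower.of_algebraMap_eq fun r => (g.commutes r).symm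
  haveI : Module.Finite (MvPolynomial (Fin d) k) A := hfin
  haveI : Algebra.IsIntegral (MvPolynomial (Fin d) k) A := Algebra.IsIntegral.of_finite _ _
  haveI : FaithfulSMul (MvPolynomial (Fin d) k) A := (faithfulSMul_iff_algebraMap_injective _ _).mpr hg
  have hd : ringKrullDim A = (d : WithBot ℕ∞) := by
    rw [H2IntegralDim.ringKrullDim_eq_of_isIntegral_of_comap_surjective (R := MvPolynomial (Fin d) k)
      (fun P => by
        obtain ⟨Q, -, hQ, hQc⟩ := Ideal.exists_ideal_over_prime_of_isIntegral (S := A) P.asIdeal ⊥ (by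
          intro x hx
          obtain rfl : x = 0 := (injective_iff_map_eq_zero g).mp hg x hx
          exact zero_mem _)
        exact ⟨⟨Q, hQ⟩, PrimeSpectrum.ext hQc⟩), MvPolynomial.ringKrullDim_of_isNoetherianRing,
      ringKrullDim_eq_zero_of_field]
    simp
  let p : Ideal (MvPolynomial (Fin d) k) := P.asIdeal.under _
  have hp0 : p ≠ ⊥ := fun h => hP.1.ne' (PrimeSpectrum.ext (Ideal.eq_bot_of_comap_eq_bot h))
  obtain ⟨q, hq, hqp⟩ := Ideal.IsPrime.exists_mem_prime_of_ne_bot (inferInstance : p.IsPrime) hp0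
  have hpq : p = Ideal.span {q} := by
    by_contra hne
    have hlt : Ideal.span {q} < p := lt_of_le_of_ne ((Ideal.span_singleton_le_iff_mem _).mpr hq) (Ne.symm hne)
    haveI : (Ideal.span {q}).IsPrime := (Ideal.span_singleton_prime hqp.ne_zero).mpr hqp
    obtain ⟨Q, hQlt, hQ, hQo⟩ := Ideal.exists_ideal_lt_liesOver_of_lt P.asIdeal hlt
    have hQ0 : Q ≠ ⊥ := fun h => hqp.ne_zero (by
      have : q ∈ Q.under _ := by rw [← hQo.over]; exact Ideal.mem_span_singleton_self q
      simpa [h] using this)
    exact hP.2 (c := ⟨Q, hQ⟩) (bot_lt_iff_ne_bot.mpr fun h => hQ0 (congrArg PrimeSpectrum.asIdeal h)) hQlt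
  obtain ⟨i, hi⟩ : ∃ i, q.degreeOf i ≠ 0 := by
    by_contra! h
    have hv : q.vars = ∅ := Finset.eq_empty_of_forall_notMem fun i hi => mem_vars_iff_degreeOf_ne_zero.mp hi (h i)
    rw [vars_eq_empty_iff_eq_C.mp hv] at hqp
    refine hqp.not_isUnit (IsUnit.map _ (isUnit_iff_ne_zero.mpr fun h0 => hqp.ne_zero (by simp [h0])))
  obtain ⟨e, rfl⟩ : ∃ e, d = e + 1 := ⟨d - 1, by have := i.pos; omega⟩
  let f : MvPolynomial (Fin e) k →ₐ[k] A ⧸ P.asIdeal :=
    (Ideal.Quotient.mkₐ k P.asIdeal).comp (g.comp (rename i.succAbove))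
  have hf : Function.Injective f := by
    refine (injective_iff_map_eq_zero f).mpr fun h hh => by_contra fun h0 => ?_
    have hmem : rename i.succAbove h ∈ p := show g (rename i.succAbove h) ∈ P.asIdeal from Ideal.Quotient.eq_zero_iff_mem.mp hh
    rw [hpq, Ideal.mem_span_singleton] at hmem
    obtain ⟨r, hr⟩ := hmem
    have hne : rename i.succAbove h ≠ 0 := (map_ne_zero_iff _ (rename_injective _ i.succAbove_right_injective)).mpr h0
    have h1 : (rename i.succAbove h).degreeOf i = 0 := by
      by_contra hc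
      obtain ⟨j, -, hj⟩ := Finset.mem_image.mp (vars_rename i.succAbove h (mem_vars_iff_degreeOf_ne_zero.mpr hc))
      exact i.succAbove_ne j hj
    rw [hr, degreeOf_mul_eq hqp.ne_zero (fun h => hne (by rw [hr, h, mul_zero]))] at h1
    omega
  haveI : Algebra.FiniteType k (A ⧸ P.asIdeal) :=
    Algebra.FiniteType.of_surjective (Ideal.Quotient.mkₐ k _) (Ideal.Quotient.mkₐ_surjective k _)
  rw [hd, Nat.cast_add, Nat.cast_one]
  gcongr
  exact H8AffDim.natCast_le_dim f hf

theorem length_eq (k : Type u) [Field k] : ∀ (n : ℕ) (A : Type u) [CommRing A] [IsDomain A] [Algebra k A]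
    [Algebra.FiniteType k A] (c : LTSeries (PrimeSpectrum A)), c.length = n → c.head.asIdeal = ⊥ →
    c.last.asIdeal.IsMaximal → (∀ i : Fin c.length, c i.castSucc ⋖ c i.succ) →
    (n : WithBot ℕ∞) = ringKrullDim A := by
  intro n
  induction n with
  | zero =>
    intro A _ _ _ _ c hc h0 hmax _
    have : c.last = c.head := congrArg c (Fin.ext (by simp [hc]))
    rw [this, h0] at hmax
    exact ((ringKrullDim_eq_zero_of_isField (Ideal.Quotient.maximal_ideal_iff_isField_quotient _ |>.mp hmax |> (RingEquiv.quotientBot A).symm.toMulEquiv.isField))).symm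
  | succ n ih =>
    intro A _ _ _ _ c hc h0 hmax hsat
    let i0 : Fin c.length := ⟨0, by omega⟩
    let P := c i0.succ
    have hP : (⊥ : PrimeSpectrum A) ⋖ P := by
      have := hsat i0
      rwa [show c i0.castSucc = ⊥ from PrimeSpectrum.ext h0] at this
    let d : LTSeries (PrimeSpectrum A) := c.drop ⟨1, by omega⟩
    have hd : d.length = n := by simp [d, hc]
    have hPd : d.head = P := by simp [d, P, i0]
    obtain ⟨s, hl, hs⟩ := Catenary.pullback_series (Catenary.comapQuot P.asIdeal) d (fun j => by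
      rw [Catenary.mem_range_comapQuot]
      exact (hPd ▸ (Catenary.series_le d j).1 : P ≤ d j))
    haveI : Algebra.FiniteType k (A ⧸ P.asIdeal) :=
      Algebra.FiniteType.of_surjective (Ideal.Quotient.mkₐ k _) (Ideal.Quotient.mkₐ_surjective k _)
    have cov : ∀ {a b}, Catenary.comapQuot P.asIdeal a ⋖ Catenary.comapQuot P.asIdeal b → a ⋖ b := fun h =>
      ⟨(Catenary.comapQuot P.asIdeal).lt_iff_lt.mp h.1, fun c h1 h2 =>
        h.2 ((Catenary.comapQuot P.asIdeal).lt_iff_lt.mpr h1) ((Catenary.comapQuot P.asIdeal).lt_iff_lt.mpr h2)⟩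
    have e0 : Catenary.comapQuot P.asIdeal s.head = P := by
      exact (hs 0).trans ((congrArg d (Fin.ext rfl)).trans hPd)
    have eL : Catenary.comapQuot P.asIdeal s.last = c.last := by
      rw [← RelSeries.last_drop c ⟨1, by omega⟩]
      exact (hs (Fin.last _)).trans (congrArg d (Fin.ext (by simp [d, hl])))
    have hb := ih (A ⧸ P.asIdeal) s (hl.trans hd) ?_ ?_ ?_
    · rw [Nat.cast_add, Nat.cast_one, hb]
      exact dim_quotient_eq (k := k) P hP
    · refine (Ideal.comap_injective_of_surjective _ (Ideal.Quotient.mk_surjective (I := P.asIdeal))) ?_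
      rw [← RingHom.ker_eq_comap_bot, Ideal.mk_ker]
      exact congrArg PrimeSpectrum.asIdeal e0
    · have h2 : (Ideal.comap (Ideal.Quotient.mk P.asIdeal) s.last.asIdeal).IsMaximal := by
        rw [show Ideal.comap (Ideal.Quotient.mk P.asIdeal) s.last.asIdeal = c.last.asIdeal from congrArg PrimeSpectrum.asIdeal eL]
        exact hmax
      rw [← Ideal.map_comap_of_surjective _ Ideal.Quotient.mk_surjective s.last.asIdeal]
      exact (Ideal.map_eq_top_or_isMaximal_of_surjective _ Ideal.Quotient.mk_surjective h2).resolve_left (by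
        rw [Ideal.map_comap_of_surjective _ Ideal.Quotient.mk_surjective]; exact s.last.isPrime.ne_top)
    · intro j
      refine cov ?_
      rw [hs, hs]
      have := hsat ⟨(j : ℕ) + 1, by omega⟩
      convert this using 1 <;> exact congrArg c (Fin.ext (by simp))

end Groth.Agent.LChainDim
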