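import Groth.Prelude.Def_W4c6equivkfinstabCyc
import Mathlib

open Polynomial W4c6equivkfinstab

universe u v

noncomputable section

namespace Groth.Agent.LCycGrp

variable {Λ : Type u} [CommRing Λ] {M : Type v} [AddCommGroup M]

abbrev t (a : M) : AddMonoidAlgebra Λ M := AddMonoidAlgebra.single a 1

lemma t_add (a b : M) : (t (a + b) : AddMonoidAlgebra Λ M) = t a * t b := by
  rw [AddMonoidAlgebra.single_mul_single, one_mul]

lemma t_zero : (t (0 : M) : AddMonoidAlgebra Λ M) = 1 := rfl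

lemma t_nsmul (n : ℕ) (a : M) : (t (n • a) : AddMonoidAlgebra Λ M) = t a ^ n := by
  induction n with
  | zero => rw [zero_smul, pow_zero, t_zero]
  | succ n ih => rw [succ_nsmul, t_add, ih, pow_succ]

abbrev mkB (B : AddSubgroup M) : M →+ M ⧸ B := QuotientAddGroup.mk' B

abbrev J (Λ : Type u) [CommRing Λ] (B : AddSubgroup M) : Ideal (AddMonoidAlgebra Λ M) :=
  RingHom.ker (cycQuotMap Λ M B)

abbrev K (Λ : Type u) [CommRing Λ] (B : AddSubgroup M) : Ideal (AddMonoidAlgebra Λ M) :=
  RingHom.ker (quotMap Λ M B)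

lemma quotMap_single (B : AddSubgroup M) (a : M) (r : Λ) :
    quotMap Λ M B (AddMonoidAlgebra.single a r) = AddMonoidAlgebra.single (mkB B a) r :=
  AddMonoidAlgebra.mapDomain_single

lemma quotMap_t (B : AddSubgroup M) (a : M) : quotMap Λ M B (t a) = t (mkB B a) := quotMap_single B a 1

lemma quotMap_surjective (B : AddSubgroup M) : Function.Surjective (quotMap Λ M B) := by
  intro y
  induction y using AddMonoidAlgebra.induction_linear with
  | zero => exact ⟨0, map_zero _⟩
  | add x y hx hy =>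
    obtain ⟨a, rfl⟩ := hx; obtain ⟨b, rfl⟩ := hy
    exact ⟨a + b, map_add _ _ _⟩
  | single q r =>
    obtain ⟨a, rfl⟩ := QuotientAddGroup.mk'_surjective B q
    exact ⟨_, quotMap_single B a r⟩

lemma cycQuotMap_surjective (B : AddSubgroup M) : Function.Surjective (cycQuotMap Λ M B) :=
  Ideal.Quotient.mk_surjective.comp (quotMap_surjective B)

lemma K_le_J (B : AddSubgroup M) : K Λ B ≤ J Λ B := fun x hx => by
  rw [RingHom.mem_ker] at hx ⊢
  show Ideal.Quotient.mk _ (quotMap Λ M B x) = 0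
  rw [hx, map_zero]

lemma t_sub_one_mem_K {B : AddSubgroup M} {a : M} (ha : a ∈ B) : t a - 1 ∈ K Λ B := by
  rw [RingHom.mem_ker, map_sub, map_one, quotMap_t]
  have : mkB B a = 0 := (QuotientAddGroup.eq_zero_iff a).2 ha
  rw [this, t_zero, sub_self]

lemma aeval_quotMap (B : AddSubgroup M) (P : Λ[X]) (a : M) :
    quotMap Λ M B (aeval (t a) P) = aeval (t (mkB B a) : AddMonoidAlgebra Λ (M ⧸ B)) P := by
  induction P using Polynomial.induction_on with
  | C c =>
    rw [aeval_C, aeval_C, AddMonoidAlgebra.coe_algebraMap, AddMonoidAlgebra.coe_algebraMap]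
    simp only [Function.comp_apply]
    rw [quotMap_single, map_zero]
  | add P Q hP hQ => rw [map_add, map_add, map_add, hP, hQ]
  | monomial n c ih =>
    rw [pow_succ, ← mul_assoc, map_mul (aeval (t a)), map_mul (quotMap Λ M B), aeval_X, ih, quotMap_t, map_mul _ _ X, aeval_X]

lemma natCast_ne_zero {k : Type*} [Field k] (φ : AddMonoidAlgebra Λ M →+* k) {n : ℕ}
    (hn : IsUnit ((n : ℕ) : Λ)) : (n : k) ≠ 0 := by
  have h := (hn.map (φ.comp (algebraMap Λ (AddMonoidAlgebra Λ M)))).ne_zero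
  rwa [map_natCast] at h

lemma char_ker (B : AddSubgroup M) [B.FiniteIndex] [IsAddCyclic (M ⧸ B)] (hu : IsUnit ((B.index : ℕ) : Λ))
    {k : Type*} [Field k] (φ : AddMonoidAlgebra Λ M →+* k) (hφ : J Λ B ≤ RingHom.ker φ) (a : M) :
    φ (t a) = 1 ↔ a ∈ B := by
  have hB : ∀ b ∈ B, φ (t b) = 1 := fun b hb => by
    have := hφ (K_le_J B (t_sub_one_mem_K hb))
    rwa [RingHom.mem_ker, map_sub, map_one, sub_eq_zero] at this
  refine ⟨fun ha => ?_, hB a⟩
  classical
  haveI : Finite (M ⧸ B) := AddSubgroup.finite_quotient_of_finiteIndex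
  obtain ⟨g, hg⟩ := IsAddCyclic.exists_zsmul_surjective (G := M ⧸ B)
  obtain ⟨a₀, rfl⟩ := QuotientAddGroup.mk'_surjective B g
  have hgen : AddSubgroup.zmultiples (mkB B a₀) = ⊤ := by
    rw [eq_top_iff]; intro q _
    obtain ⟨i, hi⟩ := hg q
    exact ⟨i, hi⟩
  have hmem : aeval (t a₀ : AddMonoidAlgebra Λ M) (cyclotomic B.index Λ) ∈ J Λ B := by
    rw [RingHom.mem_ker]
    show Ideal.Quotient.mk _ (quotMap Λ M B _) = 0
    rw [aeval_quotMap, Ideal.Quotient.eq_zero_iff_mem]
    exact Ideal.subset_span ⟨_, hgen, rfl⟩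
  have h0 : φ (aeval (t a₀ : AddMonoidAlgebra Λ M) (cyclotomic B.index Λ)) = 0 := hφ hmem
  rw [aeval_def, hom_eval₂, ← eval₂_map, map_cyclotomic] at h0
  have hroot : IsRoot (cyclotomic B.index k) (φ (t a₀)) := by
    rw [← map_cyclotomic B.index (φ.comp (algebraMap Λ (AddMonoidAlgebra Λ M))), IsRoot, eval_map, ← hom_eval₂, ← aeval_def]
    exact hφ hmem
  haveI : NeZero (B.index : k) := ⟨natCast_ne_zero φ hu⟩
  have hprim := isRoot_cyclotomic_iff.1 hroot
  obtain ⟨i, hi⟩ := Submodule.mem_span_singleton.1 (show mkB B a ∈ Submodule.span ℤ {mkB B a₀} from by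
    rw [Submodule.mem_span_singleton]; exact hg _)
  -- reduce the exponent modulo the index
  obtain ⟨j, hj⟩ : ∃ j : ℕ, j • mkB B a₀ = mkB B a := by
    have : mkB B a ∈ AddSubgroup.zmultiples (mkB B a₀) := hgen ▸ AddSubgroup.mem_top _
    rw [(isOfFinAddOrder_of_finite _).mem_zmultiples_iff_mem_range_addOrderOf] at this
    simp only [Finset.mem_coe, Finset.mem_image, Finset.mem_range] at this
    obtain ⟨j, -, hj⟩ := this
    exact ⟨j, hj⟩
  have hdiff : a - j • a₀ ∈ B := by
    rw [← QuotientAddGroup.eq_zero_iff]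
    show mkB B (a - j • a₀) = 0
    rw [map_sub, map_nsmul, hj, sub_self]
  have : φ (t a₀) ^ j = 1 := by
    have e : (t a : AddMonoidAlgebra Λ M) = t (a - j • a₀) * t a₀ ^ j := by rw [← t_nsmul, ← t_add, sub_add_cancel]
    rw [e, map_mul, hB _ hdiff, one_mul, map_pow] at ha
    exact ha
  obtain ⟨c, rfl⟩ := hprim.dvd_of_pow_eq_one j this
  have : mkB B a = 0 := by
    rw [← hj, mul_comm, mul_nsmul]
    simp [AddSubgroup.index, card_nsmul_eq_zero']
  exact (QuotientAddGroup.eq_zero_iff a).1 this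

lemma J_sup_J (B B' : AddSubgroup M) [B.FiniteIndex] [IsAddCyclic (M ⧸ B)] [B'.FiniteIndex] [IsAddCyclic (M ⧸ B')]
    (hu : IsUnit ((B.index : ℕ) : Λ)) (hu' : IsUnit ((B'.index : ℕ) : Λ)) (hne : B ≠ B') :
    J Λ B ⊔ J Λ B' = ⊤ := by
  by_contra h
  obtain ⟨m, hm, hle⟩ := Ideal.exists_le_maximal _ h
  letI := Ideal.Quotient.field m
  have h1 : J Λ B ≤ RingHom.ker (Ideal.Quotient.mk m) := by rw [Ideal.mk_ker]; exact le_trans le_sup_left hle
  have h2 : J Λ B' ≤ RingHom.ker (Ideal.Quotient.mk m) := by rw [Ideal.mk_ker]; exact le_trans le_sup_right hle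
  exact hne (AddSubgroup.ext fun a => (char_ker B hu _ h1 a).symm.trans (char_ker B' hu' _ h2 a))

lemma K_sup_J (B₀ B : AddSubgroup M) [B.FiniteIndex] [IsAddCyclic (M ⧸ B)]
    (hu : IsUnit ((B.index : ℕ) : Λ)) (hle : ¬ B₀ ≤ B) : K Λ B₀ ⊔ J Λ B = ⊤ := by
  by_contra h
  obtain ⟨m, hm, hmle⟩ := Ideal.exists_le_maximal _ h
  letI := Ideal.Quotient.field m
  have h2 : J Λ B ≤ RingHom.ker (Ideal.Quotient.mk m) := by rw [Ideal.mk_ker]; exact le_trans le_sup_right hmle
  refine hle fun a ha => (char_ker B hu _ h2 a).1 ?_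
  have : Ideal.Quotient.mk m (t a - 1) = 0 := Ideal.Quotient.eq_zero_iff_mem.2 (hmle (Ideal.mem_sup_left (t_sub_one_mem_K ha)))
  rwa [map_sub, map_one, sub_eq_zero] at this

section finite

variable {C : Type v} [AddCommGroup C]

def N (Λ : Type u) [CommRing Λ] (p : ℕ) (c : C) : AddMonoidAlgebra Λ C := ∑ i ∈ Finset.range p, t c ^ i

lemma N_mul_t {p : ℕ} {c : C} (hpc : p • c = 0) : N Λ p c * t c = N Λ p c := by
  have h := geom_sum_mul (t c : AddMonoidAlgebra Λ C) p
  rw [← t_nsmul p c, hpc, t_zero, sub_self] at h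
  rw [mul_sub, mul_one, sub_eq_zero] at h
  exact h

lemma N_mul_t_zsmul {p : ℕ} {c : C} (hpc : p • c = 0) (i : ℤ) : N Λ p c * t (i • c) = N Λ p c := by
  induction i using Int.induction_on with
  | zero => rw [zero_smul, t_zero, mul_one]
  | succ i ih => rw [add_smul, one_smul, t_add, ← mul_assoc, ih, N_mul_t hpc]
  | pred i ih =>
    have e : (t ((-(i:ℤ)) • c) : AddMonoidAlgebra Λ C) = t ((-(i:ℤ) - 1) • c) * t c := by
      rw [← t_add, sub_smul, one_smul, sub_add_cancel]
    rw [e, ← mul_assoc, mul_right_comm, N_mul_t hpc] at ih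
    exact ih

lemma card_torsion_le [Fintype C] [DecidableEq C]
    (h : ∀ p : ℕ, p.Prime → (Finset.univ.filter fun c : C => p • c = 0).card ≤ p) :
    ∀ n : ℕ, 0 < n → (Finset.univ.filter fun c : C => n • c = 0).card ≤ n := by
  intro n
  induction n using Nat.strong_induction_on with
  | _ n ih =>
    intro hn
    by_cases h1 : n = 1
    · subst h1; simp [Finset.filter_eq']
    obtain ⟨p, hp, hpn⟩ := Nat.exists_prime_and_dvd h1
    obtain ⟨m, rfl⟩ := hpn
    have hm : 0 < m := pos_of_mul_pos_right hn (Nat.zero_le _)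
    have hmlt : m < p * m := lt_mul_left hm hp.one_lt
    calc (Finset.univ.filter fun c : C => (p * m) • c = 0).card
        ≤ p * (Finset.univ.filter fun c : C => m • c = 0).card := by
          refine Finset.card_le_mul_card_image_of_maps_to (f := fun c => p • c) ?_ p ?_
          · intro c hc
            simp only [Finset.mem_filter, Finset.mem_univ, true_and] at hc ⊢
            rw [← mul_nsmul, hc]
          · intro b hb
            by_cases he : ∃ c₀ : C, p • c₀ = b
            · obtain ⟨c₀, rfl⟩ := he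
              refine le_trans (Finset.card_le_card_of_injOn (fun c => c - c₀) ?_ ?_) (h p hp)
              · intro c hc
                simp only [Finset.mem_coe, Finset.mem_filter, Finset.mem_univ, true_and] at hc ⊢
                rw [nsmul_sub, hc.2, sub_self]
              · intro a _ b _ hab; exact sub_left_injective hab
            · rw [Finset.card_eq_zero.2 (Finset.filter_eq_empty_iff.2 fun c _ hc => he ⟨c, hc⟩)]
              exact Nat.zero_le _
      _ ≤ p * m := Nat.mul_le_mul_left _ (ih m hmlt hm)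

lemma exists_two [Finite C] (hnc : ¬ IsAddCyclic C) :
    ∃ (p : ℕ) (u w : C), p.Prime ∧ p ∣ Nat.card C ∧ p • u = 0 ∧ p • w = 0 ∧ w ≠ 0 ∧ u ∉ AddSubgroup.zmultiples w := by
  classical
  haveI := Fintype.ofFinite C
  by_contra hcon
  push Not at hcon
  refine hnc (isAddCyclic_of_card_nsmul_eq_zero_le (card_torsion_le fun p hp => ?_))
  by_cases hw : ∃ w : C, p • w = 0 ∧ w ≠ 0
  · obtain ⟨w, hw, hw0⟩ := hw
    haveI := Fact.mk hp
    have ho : addOrderOf w = p := addOrderOf_eq_prime hw hw0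
    refine le_trans (Finset.card_le_card (t := (Finset.range p).image fun i => i • w) ?_) ?_
    · intro c hc
      simp only [Finset.mem_filter, Finset.mem_univ, true_and] at hc
      have := hcon p c w hp (ho ▸ addOrderOf_dvd_natCard w) hc hw hw0
      rw [(isOfFinAddOrder_of_finite w).mem_zmultiples_iff_mem_range_addOrderOf, ho] at this
      exact this
    · exact le_trans Finset.card_image_le (by simp)
  · push Not at hw
    refine le_trans (Finset.card_le_card (t := {0}) ?_) (by simpa using hp.one_le)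
    intro c hc
    simp only [Finset.mem_filter, Finset.mem_univ, true_and] at hc
    simp [hw c hc]

lemma sum_N {p : ℕ} (hp : p.Prime) {u w : C} (hu : p • u = 0) (hw : p • w = 0) :
    ∑ j ∈ Finset.range p, N Λ p (u + j • w) =
      (p : AddMonoidAlgebra Λ C) + (∑ i ∈ (Finset.range p).erase 0, t u ^ i) * N Λ p w := by
  classical
  unfold N
  rw [Finset.sum_comm, ← Finset.sum_erase_add _ _ (Finset.mem_range.2 hp.pos), add_comm, Finset.sum_mul]
  congr 1
  · simp
  · refine Finset.sum_congr rfl fun i hi => ?_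
    rw [Finset.mul_sum]
    have hW : (t w : AddMonoidAlgebra Λ C) ^ p = 1 := by rw [← t_nsmul, hw, t_zero]
    rw [Finset.mem_erase, Finset.mem_range] at hi
    have hcop : Nat.Coprime p i := (hp.coprime_iff_not_dvd).2 fun hd => absurd (Nat.le_of_dvd (Nat.pos_of_ne_zero hi.1) hd) (by omega)
    have hinj : Set.InjOn (fun j => i * j % p) (Finset.range p : Set ℕ) := fun a ha b hb hab => by
      simp only [Finset.coe_range, Set.mem_Iio] at ha hb
      have h2 : a ≡ b [MOD p] := Nat.ModEq.cancel_left_of_coprime hcop hab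
      rwa [Nat.ModEq, Nat.mod_eq_of_lt ha, Nat.mod_eq_of_lt hb] at h2
    refine Finset.sum_nbij (fun j => i * j % p) (fun j _ => Finset.mem_range.2 (Nat.mod_lt _ hp.pos)) hinj
      (Finset.surjOn_of_injOn_of_card_le _ (fun j _ => Finset.mem_range.2 (Nat.mod_lt _ hp.pos)) hinj le_rfl) fun j _ => ?_
    rw [t_add, mul_pow, t_nsmul, ← pow_mul, mul_comm j i]
    congr 1
    conv_lhs => rw [← Nat.mod_add_div (i * j) p, pow_add, pow_mul, hW, one_pow, mul_one]

lemma cyclotomic_dvd_expand {n k : ℕ} (hn : 0 < n) (hk : Nat.Coprime k n) :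
    cyclotomic n Λ ∣ (cyclotomic n Λ).comp (X ^ k) := by
  have key : cyclotomic n ℤ ∣ (cyclotomic n ℤ).comp (X ^ k) := by
    have hζ := Complex.isPrimitiveRoot_exp n hn.ne'
    have hint := hζ.isIntegral hn
    rw [cyclotomic_eq_minpoly hζ hn]
    refine minpoly.isIntegrallyClosed_dvd hint ?_
    rw [← cyclotomic_eq_minpoly hζ hn, aeval_comp, aeval_X_pow, aeval_def, ← eval_map, map_cyclotomic]
    exact IsPrimitiveRoot.isRoot_cyclotomic hn (hζ.pow_of_coprime k hk)
  have := map_dvd (mapRingHom (Int.castRingHom Λ)) key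
  simpa [coe_mapRingHom, map_cyclotomic, map_comp] using this

lemma cyclotomic_pairwise_coprime {n : ℕ} (hn0 : 0 < n) (hn : IsUnit (n : Λ)) :
    Pairwise (Function.onFun IsCoprime fun i : n.divisors => cyclotomic (i : ℕ) Λ) := by
  rintro ⟨d, hd⟩ ⟨d', hd'⟩ hne
  have hne' : d' ≠ d := fun h => hne (Subtype.ext h.symm)
  have hsep : (∏ i ∈ n.divisors, cyclotomic i Λ).Separable := by
    rw [prod_cyclotomic_eq_X_pow_sub_one hn0]
    simpa using separable_X_pow_sub_C_unit (1 : Λˣ) hn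
  rw [← Finset.mul_prod_erase _ _ hd] at hsep
  exact hsep.isCoprime.of_isCoprime_of_dvd_right (Finset.dvd_prod_of_mem _ (Finset.mem_erase.2 ⟨hne', hd'⟩))

lemma prod_dvd_geom {n p m : ℕ} (hn : 0 < n) (hm : n = m * p) {d : ℕ} (hd : d ∣ m) :
    (∑ i ∈ Finset.range p, ((X : Λ[X]) ^ m) ^ i) ∣ ∏ j ∈ n.divisors \ {d}, cyclotomic j Λ := by
  have hm0 : 0 < m := pos_of_mul_pos_left (hm ▸ hn) (Nat.zero_le _)
  have hsub : m.divisors ⊆ n.divisors := Nat.divisors_subset_of_dvd hn.ne' (hm ▸ dvd_mul_right m p)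
  have key : (∑ i ∈ Finset.range p, ((X : Λ[X]) ^ m) ^ i) * (X ^ m - 1) =
      (∏ j ∈ n.divisors \ m.divisors, cyclotomic j Λ) * (X ^ m - 1) := by
    rw [geom_sum_mul, ← pow_mul, ← hm, ← prod_cyclotomic_eq_X_pow_sub_one hn Λ]
    conv_rhs => rw [← prod_cyclotomic_eq_X_pow_sub_one hm0 Λ]
    exact (Finset.prod_sdiff hsub).symm
  have hmon : ((X : Λ[X]) ^ m - 1).Monic := by simpa using monic_X_pow_sub_C (1 : Λ) hm0.ne'
  have e := hmon.isRegular.right key
  rw [e]
  refine Finset.prod_dvd_prod_of_subset _ _ _ fun j hj => ?_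
  rw [Finset.mem_sdiff] at hj ⊢
  exact ⟨hj.1, fun h => hj.2 (by rw [Finset.mem_singleton] at h; subst h; exact Nat.mem_divisors.2 ⟨hd, hm0.ne'⟩)⟩

/-- A finite cyclic group: vanishing in the cyclotomic quotient and under all norms forces zero. -/
lemma cyclic_case [Finite C] [IsAddCyclic C] (hn : IsUnit ((Nat.card C : ℕ) : Λ)) (y : AddMonoidAlgebra Λ C)
    (hy : y ∈ cycIdeal Λ C) (hN : ∀ (p : ℕ) (e : C), p.Prime → p • e = 0 → e ≠ 0 → y * N Λ p e = 0) : y = 0 := by
  classical
  set n := Nat.card C with hndef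
  have hn0 : 0 < n := Nat.card_pos
  obtain ⟨g, hg0⟩ := IsAddCyclic.exists_generator (α := C)
  have hg : addOrderOf g = n := addOrderOf_eq_card_of_forall_mem_zmultiples hg0
  let T : AddMonoidAlgebra Λ C := t g
  let Q : ℕ → Λ[X] := fun d => ∏ j ∈ n.divisors \ {d}, cyclotomic j Λ
  have hP0 : aeval T (∏ j ∈ n.divisors, cyclotomic j Λ) = 0 := by
    rw [prod_cyclotomic_eq_X_pow_sub_one hn0, map_sub, map_one, aeval_X_pow, ← t_nsmul, ← hg, addOrderOf_nsmul_eq_zero, t_zero, sub_self]
  have hQn : y * aeval T (Q n) = 0 := by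
    have : cycIdeal Λ C ≤ LinearMap.ker (LinearMap.mulRight (AddMonoidAlgebra Λ C) (aeval T (Q n))) := by
      refine Ideal.span_le.2 ?_
      rintro x ⟨g', hg', rfl⟩
      show _ * aeval T (Q n) = 0
      have hg'o : addOrderOf g' = n := by
        rw [← Nat.card_zmultiples, hg', AddSubgroup.card_top]
      have hgtop : g' ∈ AddSubgroup.zmultiples g := by
        rw [AddSubgroup.eq_top_of_card_eq (AddSubgroup.zmultiples g) (by rw [Nat.card_zmultiples, hg])]; trivial
      rw [(isOfFinAddOrder_of_finite g).mem_zmultiples_iff_mem_range_addOrderOf] at hgtop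
      simp only [Finset.mem_coe, Finset.mem_image, Finset.mem_range] at hgtop
      obtain ⟨k, -, rfl⟩ := hgtop
      have hk : Nat.Coprime k n := by
        rw [addOrderOf_nsmul, hg, Nat.div_eq_self] at hg'o
        rcases hg'o with h | h
        · omega
        · exact Nat.Coprime.symm h
      obtain ⟨r, hr⟩ := cyclotomic_dvd_expand (Λ := Λ) hn0 hk
      show aeval (t (k • g) : AddMonoidAlgebra Λ C) (cyclotomic n Λ) * _ = 0
      rw [t_nsmul, show (t g : AddMonoidAlgebra Λ C) ^ k = aeval T (X ^ k : Λ[X]) by rw [aeval_X_pow],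
        ← aeval_comp, hr, ← map_mul, mul_right_comm, map_mul]
      have : cyclotomic n Λ * Q n = ∏ j ∈ n.divisors, cyclotomic j Λ := by
        rw [← Finset.prod_sdiff (show ({n} : Finset ℕ) ⊆ n.divisors by simp [hn0.ne'])]
        simp [Q, mul_comm]
      rw [this, hP0, zero_mul]
    exact this hy
  have hQ : ∀ d ∈ n.divisors, y * aeval T (Q d) = 0 := by
    intro d hd
    by_cases hdn : d = n
    · exact hdn ▸ hQn
    obtain ⟨c, hc⟩ := (Nat.mem_divisors.1 hd).1
    have hc1 : c ≠ 1 := fun h => hdn (by rw [hc, h, mul_one])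
    obtain ⟨p, hp, c', rfl⟩ := Nat.exists_prime_and_dvd hc1
    set m := d * c' with hm
    have hnm : n = m * p := by rw [hc, hm]; ring
    have hm0 : 0 < m := pos_of_mul_pos_left (hnm ▸ hn0) (Nat.zero_le _)
    have hpe : p • (m • g) = 0 := by rw [← mul_nsmul, ← hnm, ← hg, addOrderOf_nsmul_eq_zero]
    have he : m • g ≠ 0 := fun h => by
      have h' := Nat.le_of_dvd hm0 (addOrderOf_dvd_of_nsmul_eq_zero h)
      rw [hg] at h'
      have : m * 1 < m * p := Nat.mul_lt_mul_of_pos_left hp.one_lt hm0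
      omega
    obtain ⟨r, hr⟩ := prod_dvd_geom (Λ := Λ) hn0 hnm (d := d) (hm ▸ dvd_mul_right d c')
    show y * aeval T (∏ j ∈ n.divisors \ {d}, cyclotomic j Λ) = 0
    rw [hr, map_mul, map_sum, ← mul_assoc]
    have : (∑ i ∈ Finset.range p, aeval T (((X : Λ[X]) ^ m) ^ i)) = N Λ p (m • g) := by
      refine Finset.sum_congr rfl fun i _ => ?_
      rw [map_pow, aeval_X_pow, t_nsmul]
    rw [this, hN p _ hp hpe he, zero_mul]
  obtain ⟨μ, hμ⟩ := (exists_sum_eq_one_iff_pairwise_coprime (t := n.divisors) (s := fun j => cyclotomic j Λ) ⟨n, by simp [hn0.ne']⟩).2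
    (cyclotomic_pairwise_coprime hn0 hn)
  calc y = y * aeval T (1 : Λ[X]) := by rw [map_one, mul_one]
    _ = 0 := by
      rw [← hμ, map_sum, Finset.mul_sum]
      refine Finset.sum_eq_zero fun d hd => ?_
      rw [map_mul, mul_left_comm]
      exact (congrArg _ (hQ d hd)).trans (mul_zero _)

end finite

lemma mul_N_eq_zero (H H' : AddSubgroup M) {p : ℕ} (e : M) (hpe : p • mkB H e = 0)
    (hH' : H' = H ⊔ AddSubgroup.zmultiples e) (x : AddMonoidAlgebra Λ M) (hx : x ∈ K Λ H') :
    quotMap Λ M H x * N Λ p (mkB H e) = 0 := by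
  let F : AddMonoidAlgebra Λ (M ⧸ H') →+ AddMonoidAlgebra Λ (M ⧸ H) :=
    AddMonoidAlgebra.liftNC (algebraMap Λ (AddMonoidAlgebra Λ (M ⧸ H))).toAddMonoidHom
      (fun q => t (mkB H (Quotient.out q.toAdd)) * N Λ p (mkB H e))
  have key : ∀ z : AddMonoidAlgebra Λ M, quotMap Λ M H z * N Λ p (mkB H e) = F (quotMap Λ M H' z) := by
    intro z
    induction z using AddMonoidAlgebra.induction_linear with
    | zero => simp only [map_zero, zero_mul]
    | add a b ha hb => simp only [map_add, add_mul, ha, hb]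
    | single a r =>
      rw [quotMap_single, quotMap_single, AddMonoidAlgebra.liftNC_single]
      show _ = algebraMap Λ _ r * _
      set a' := Quotient.out (mkB H' a) with ha'
      have : a - a' ∈ H' := by
        rw [← QuotientAddGroup.eq_zero_iff]
        show mkB H' (a - a') = 0
        rw [map_sub, sub_eq_zero]
        exact (Quotient.out_eq (mkB H' a)).symm
      rw [hH', AddSubgroup.mem_sup] at this
      obtain ⟨h, hh, z, ⟨i, rfl⟩, hsum⟩ := this
      have e1 : mkB H a = mkB H a' + i • mkB H e := by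
        have h0 : mkB H h = 0 := (QuotientAddGroup.eq_zero_iff h).2 hh
        have := congrArg (mkB H) hsum
        rw [map_add, h0, zero_add, map_zsmul, map_sub] at this
        rw [this]; abel
      have e2 : AddMonoidAlgebra.single (mkB H a) r = algebraMap Λ (AddMonoidAlgebra Λ (M ⧸ H)) r * t (mkB H a) := by
        simp [AddMonoidAlgebra.single_mul_single]
      rw [e2, e1, t_add, mul_assoc, mul_assoc, mul_comm (t (i • mkB H e)), N_mul_t_zsmul hpe]
      rfl
  rw [key, (RingHom.mem_ker).1 hx, map_zero]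

lemma unit_of_dvd {m n : ℕ} (h : m ∣ n) (hn : IsUnit (n : Λ)) : IsUnit (m : Λ) :=
  isUnit_of_dvd_unit (Nat.cast_dvd_cast h) hn

/-- An element killed in all cyclotomic quotients above `B₀` dies in `Λ[M ⧸ B₀]`. -/
lemma mem_K_of_forall (B₀ : AddSubgroup M) [B₀.FiniteIndex] (hu : IsUnit ((B₀.index : ℕ) : Λ))
    (x : AddMonoidAlgebra Λ M) (hx : ∀ B : AddSubgroup M, B₀ ≤ B → IsAddCyclic (M ⧸ B) → x ∈ J Λ B) :
    x ∈ K Λ B₀ := by
  suffices ∀ (n : ℕ) (H : AddSubgroup M), H.index = n → B₀ ≤ H → x ∈ K Λ H from this _ B₀ rfl le_rfl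
  intro n
  induction n using Nat.strong_induction_on with
  | _ n ih =>
    intro H hHn hH
    haveI : H.FiniteIndex := AddSubgroup.finiteIndex_of_le hH
    haveI : Finite (M ⧸ H) := AddSubgroup.finite_quotient_of_finiteIndex
    have huH : IsUnit ((Nat.card (M ⧸ H) : ℕ) : Λ) := unit_of_dvd (AddSubgroup.index_dvd_of_le hH) hu
    have hkill : ∀ (p : ℕ) (c : M ⧸ H), p • c = 0 → c ≠ 0 → quotMap Λ M H x * N Λ p c = 0 := by
      intro p c hpc hc
      obtain ⟨e, rfl⟩ := QuotientAddGroup.mk'_surjective H c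
      refine mul_N_eq_zero H _ e hpc rfl x (ih _ ?_ _ rfl (hH.trans le_sup_left))
      have hlt : H < H ⊔ AddSubgroup.zmultiples e := by
        refine lt_of_le_of_ne le_sup_left fun h => hc ((QuotientAddGroup.eq_zero_iff e).2 ?_)
        rw [h]; exact AddSubgroup.mem_sup_right (AddSubgroup.mem_zmultiples e)
      rw [← hHn]
      exact AddSubgroup.index_strictAnti hlt
    rw [RingHom.mem_ker]
    by_cases hcyc : IsAddCyclic (M ⧸ H)
    · exact cyclic_case huH _ (Ideal.Quotient.eq_zero_iff_mem.1 (hx H hH hcyc)) fun p e _ hpe he => hkill p e hpe he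
    · obtain ⟨p, u, w, hp, hpdvd, hpu, hpw, hw0, huw⟩ := exists_two hcyc
      have h0 : ∀ j : ℕ, quotMap Λ M H x * N Λ p (u + j • w) = 0 := fun j => hkill p _
        (by rw [nsmul_add, hpu, ← mul_nsmul, mul_comm, mul_nsmul, hpw, smul_zero, add_zero]) (fun h => huw (by
          rw [add_eq_zero_iff_eq_neg] at h
          rw [h]; exact neg_mem (AddSubgroup.nsmul_mem_zmultiples w j)))
      have h1 := congrArg (quotMap Λ M H x * ·) (sum_N (Λ := Λ) hp hpu hpw)
      simp only [Finset.mul_sum, mul_add] at h1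
      rw [Finset.sum_eq_zero fun j _ => h0 j, mul_left_comm, hkill p w hpw hw0, mul_zero, add_zero] at h1
      have hunit : IsUnit (p : AddMonoidAlgebra Λ (M ⧸ H)) := by
        have := (unit_of_dvd hpdvd huH).map (algebraMap Λ (AddMonoidAlgebra Λ (M ⧸ H)))
        rwa [map_natCast] at this
      exact hunit.mul_left_eq_zero.1 h1.symm

lemma finite_over (B₀ : AddSubgroup M) [B₀.FiniteIndex] :
    Finite {B : AddSubgroup M // B₀ ≤ B ∧ IsAddCyclic (M ⧸ B)} := by
  haveI : Finite (M ⧸ B₀) := AddSubgroup.finite_quotient_of_finiteIndex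
  refine Finite.of_injective (fun B => B.1.map (mkB B₀)) fun B B' h => Subtype.ext ?_
  have hc : ∀ B : AddSubgroup M, B₀ ≤ B → (B.map (mkB B₀)).comap (mkB B₀) = B := fun B hB => by
    rw [AddSubgroup.comap_map_eq, QuotientAddGroup.ker_mk', sup_eq_left.2 hB]
  rw [← hc B.1 B.2.1, ← hc B'.1 B'.2.1]
  exact congrArg _ h

lemma pairwise_coprime (B₀ : AddSubgroup M) [B₀.FiniteIndex] (hu : IsUnit ((B₀.index : ℕ) : Λ)) :
    Pairwise (Function.onFun IsCoprime fun B : {B : AddSubgroup M // B₀ ≤ B ∧ IsAddCyclic (M ⧸ B)} => J Λ B.1) := by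
  intro B B' hne
  haveI := B.2.2
  haveI := B'.2.2
  haveI : B.1.FiniteIndex := AddSubgroup.finiteIndex_of_le B.2.1
  haveI : B'.1.FiniteIndex := AddSubgroup.finiteIndex_of_le B'.2.1
  exact Ideal.isCoprime_iff_sup_eq.2 (J_sup_J _ _ (unit_of_dvd (AddSubgroup.index_dvd_of_le B.2.1) hu)
    (unit_of_dvd (AddSubgroup.index_dvd_of_le B'.2.1) hu) fun h => hne (Subtype.ext h))

end Groth.Agent.LCycGrp

end
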