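import Mathlib

/-!
Deligne's theorem: a finitary site with finite limits has enough points.
-/

set_option autoImplicit false
set_option linter.style.haveILetI false
set_option backward.isDefEq.respectTransparency false
set_option backward.isDefEq.respectTransparency.types false

universe u

open CategoryTheory CategoryTheory.Limits Opposite

noncomputable section

namespace Groth.Agent.LDeligne

variable {C : Type u} [SmallCategory C]

section fib

variable {K : Type u} [SmallCategory K] (W : K ⥤ C)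

/-- Filtered colimit of corepresentable functors. -/
def Fib : C ⥤ Type u := colimit (W.op ⋙ coyoneda)

/-- The element of the colimit given by a morphism out of a stage. -/
def el {Y : C} (k : K) (f : W.obj k ⟶ Y) : (Fib W).obj Y :=
  (colimit.ι (W.op ⋙ coyoneda) (op k)).app Y f

theorem el_map {Y Y' : C} (k : K) (f : W.obj k ⟶ Y) (g : Y ⟶ Y') : (Fib W).map g (el W k f) = el W k (f ≫ g) :=
  ((colimit.ι (W.op ⋙ coyoneda) (op k)).naturality_apply g f).symm

theorem el_surj {Y : C} (z : (Fib W).obj Y) : ∃ (k : K) (f : W.obj k ⟶ Y), el W k f = z := by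
  obtain ⟨⟨k⟩, f, hf⟩ := Types.jointly_surjective_of_isColimit
    (isColimitOfPreserves ((evaluation C (Type u)).obj Y) (colimit.isColimit (W.op ⋙ coyoneda))) z
  exact ⟨k, f, hf⟩

theorem el_w {Y : C} {k k' : K} (h : k ⟶ k') (f : W.obj k' ⟶ Y) : el W k (W.map h ≫ f) = el W k' f :=
  congrArg (fun t : (W.op ⋙ coyoneda).obj (op k') ⟶ Fib W => t.app Y f) (colimit.w (W.op ⋙ coyoneda) h.op)

variable [IsCofiltered K]

theorem el_eq {Y : C} {k k' : K} (f : W.obj k ⟶ Y) (f' : W.obj k' ⟶ Y) (h : el W k f = el W k' f') :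
    ∃ (l : K) (a : l ⟶ k) (b : l ⟶ k'), W.map a ≫ f = W.map b ≫ f' := by
  obtain ⟨⟨l⟩, a, b, hab⟩ := (Types.FilteredColimit.isColimit_eq_iff _
    (isColimitOfPreserves ((evaluation C (Type u)).obj Y) (colimit.isColimit (W.op ⋙ coyoneda)))).1 h
  exact ⟨l, a.unop, b.unop, hab⟩

theorem fib_cofiltered : IsCofiltered (Fib W).Elements := by
  haveI : Nonempty K := IsCofiltered.nonempty
  haveI : Nonempty (Fib W).Elements := ⟨⟨_, el W (Classical.arbitrary K) (𝟙 _)⟩⟩
  haveI : IsCofilteredOrEmpty (Fib W).Elements := by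
    refine ⟨?_, ?_⟩
    · rintro ⟨Y, y⟩ ⟨Z, z⟩
      obtain ⟨k, f, rfl⟩ := el_surj W y
      obtain ⟨k', g, rfl⟩ := el_surj W z
      refine ⟨⟨W.obj (IsCofiltered.min k k'), el W _ (𝟙 _)⟩,
        CategoryOfElements.homMk _ _ (W.map (IsCofiltered.minToLeft k k') ≫ f) ?_,
        CategoryOfElements.homMk _ _ (W.map (IsCofiltered.minToRight k k') ≫ g) ?_, trivial⟩
      · exact (el_map W _ _ _).trans (by rw [Category.id_comp, el_w])
      · exact (el_map W _ _ _).trans (by rw [Category.id_comp, el_w])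
    · rintro ⟨Y, y⟩ ⟨Z, z⟩ ⟨p, hp⟩ ⟨q, hq⟩
      obtain ⟨k, f, rfl⟩ := el_surj W y
      have e := hp.trans hq.symm
      change (Fib W).map p (el W k f) = (Fib W).map q (el W k f) at e
      rw [el_map, el_map] at e
      obtain ⟨l, a, b, hab⟩ := el_eq W _ _ e
      obtain ⟨l', c, hc⟩ : ∃ (l' : K) (c : l' ⟶ l), c ≫ a = c ≫ b :=
        ⟨IsCofiltered.eq a b, IsCofiltered.eqHom a b, IsCofiltered.eq_condition a b⟩
      refine ⟨⟨W.obj l', el W l' (𝟙 _)⟩, CategoryOfElements.homMk _ _ (W.map (c ≫ a) ≫ f) ?_, Subtype.ext ?_⟩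
      · exact (el_map W _ _ _).trans (by rw [Category.id_comp, el_w])
      · show (W.map (c ≫ a) ≫ f) ≫ p = (W.map (c ≫ a) ≫ f) ≫ q
        have := congrArg (W.map c ≫ ·) hab
        simp only [← Category.assoc, ← W.map_comp] at this ⊢
        rw [← hc] at this; exact this
  exact {}

end fib

variable (J : GrothendieckTopology C) {X : C} (S : Sieve X)

/-- A pro-object over `X` on which `S` does not become covering. -/
structure State where
  F : C ⥤ Type u
  cof : IsCofiltered F.Elements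
  x0 : F.obj X
  noncov : ∀ (U : C) (u : F.obj U) (p : U ⟶ X), F.map p u = x0 → S.pullback p ∉ J U

/-- A finite covering of the target of an element. -/
structure Task (F : C ⥤ Type u) : Type u where
  V : C
  v : F.obj V
  n : ℕ
  B : Fin n → C
  g : ∀ k, B k ⟶ V
  cov : Sieve.ofArrows B g ∈ J V

variable {J S}

theorem inter_mem {U : C} {ι : Type u} (s : Finset ι) (R : ι → Sieve U) (h : ∀ i ∈ s, R i ∈ J U) :
    ∃ T ∈ J U, ∀ i ∈ s, T ≤ R i := by
  classical
  induction s using Finset.induction_on with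
  | empty => exact ⟨⊤, J.top_mem U, by simp⟩
  | insert i s hi ih =>
    obtain ⟨T, hT, hle⟩ := ih fun j hj => h j (Finset.mem_insert_of_mem hj)
    refine ⟨R i ⊓ T, J.intersection_covering (h i (Finset.mem_insert_self i s)) hT, fun j hj => ?_⟩
    rcases Finset.mem_insert.1 hj with rfl | hj
    · exact inf_le_left
    · exact inf_le_right.trans (hle j hj)

section cof

variable (F : C ⥤ Type u) [IsCofiltered F.Elements]

theorem exists_lift {ι : Type u} [Finite ι] (V : ι → C) (v : ∀ i, F.obj (V i)) :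
    ∃ (e : F.Elements) (a : ∀ i, e.1 ⟶ V i), ∀ i, F.map (a i) e.2 = v i := by
  classical
  letI := Fintype.ofFinite ι
  obtain ⟨e, he⟩ := IsCofiltered.inf_objs_exists (Finset.univ.image fun i => F.elementsMk (V i) (v i))
  have h : ∀ i, Nonempty (e ⟶ F.elementsMk (V i) (v i)) := fun i => he (Finset.mem_image_of_mem (fun i => F.elementsMk (V i) (v i)) (Finset.mem_univ i))
  exact ⟨e, fun i => (h i).some.1, fun i => (h i).some.2⟩

theorem exists_equalize {ι : Type u} [Finite ι] (e : F.Elements) (V : ι → C) (a b : ∀ i, e.1 ⟶ V i)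
    (h : ∀ i, F.map (a i) e.2 = F.map (b i) e.2) :
    ∃ (e' : F.Elements) (l : e' ⟶ e), ∀ i, l.1 ≫ a i = l.1 ≫ b i := by
  classical
  letI := Fintype.ofFinite ι
  suffices H : ∀ s : Finset ι, ∃ (e' : F.Elements) (l : e' ⟶ e), ∀ i ∈ s, l.1 ≫ a i = l.1 ≫ b i by
    obtain ⟨e', l, hl⟩ := H Finset.univ
    exact ⟨e', l, fun i => hl i (Finset.mem_univ i)⟩
  intro s
  induction s using Finset.induction_on with
  | empty => exact ⟨e, 𝟙 e, by simp⟩
  | insert i s hi ih =>
    obtain ⟨e', l, hl⟩ := ih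
    let P : e ⟶ (⟨V i, F.map (a i) e.2⟩ : F.Elements) := CategoryOfElements.homMk _ _ (a i) rfl
    let Q : e ⟶ (⟨V i, F.map (a i) e.2⟩ : F.Elements) := CategoryOfElements.homMk _ _ (b i) (h i).symm
    refine ⟨IsCofiltered.eq (l ≫ P) (l ≫ Q), IsCofiltered.eqHom _ _ ≫ l, fun j hj => ?_⟩
    rcases Finset.mem_insert.1 hj with rfl | hj
    · have := congrArg Subtype.val (IsCofiltered.eq_condition (l ≫ P) (l ≫ Q))
      exact (Category.assoc _ _ _).trans (this.trans (Category.assoc _ _ _).symm)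
    · show (_ ≫ l.1) ≫ a j = (_ ≫ l.1) ≫ b j
      rw [Category.assoc, Category.assoc, hl j hj]

end cof

variable [HasFiniteLimits C]

section step

variable (Φ : State J S)

/-- The fibre product of an object with chosen members of finitely many coverings. -/
abbrev obj' {U : C} (T : Finset (Task J Φ.F)) (a : ∀ t : T, U ⟶ t.1.V) (c : ∀ t : T, Fin t.1.n) : C :=
  pullback (Limits.Pi.lift a) (Limits.Pi.map fun t : T => t.1.g (c t))

/-- Functoriality of `obj'`. -/
abbrev map' {U U' : C} {T T' : Finset (Task J Φ.F)} (h : U' ⟶ U) (hs : T ⊆ T') (a : ∀ t : T, U ⟶ t.1.V)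
    (a' : ∀ t : T', U' ⟶ t.1.V) (c' : ∀ t : T', Fin t.1.n) (hc : ∀ t : T, a' ⟨t.1, hs t.2⟩ = h ≫ a t) :
    obj' Φ T' a' c' ⟶ obj' Φ T a (fun t => c' ⟨t.1, hs t.2⟩) :=
  pullback.map _ _ _ _ h (Limits.Pi.lift fun t : T => Limits.Pi.π _ (⟨t.1, hs t.2⟩ : T'))
    (Limits.Pi.lift fun t : T => Limits.Pi.π _ (⟨t.1, hs t.2⟩ : T'))
    (Limits.Pi.hom_ext _ _ fun t => by simp [hc]) (Limits.Pi.hom_ext _ _ fun t => by simp)

/-- A choice of members is good if `S` never becomes covering on the resulting fibre products. -/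
def Good (T : Finset (Task J Φ.F)) (c : ∀ t : T, Fin t.1.n) : Prop :=
  ∀ (e : Φ.F.Elements) (p : e.1 ⟶ X) (_ : Φ.F.map p e.2 = Φ.x0) (a : ∀ t : T, e.1 ⟶ t.1.V)
    (_ : ∀ t : T, Φ.F.map (a t) e.2 = t.1.v), S.pullback (pullback.fst (Limits.Pi.lift a) (Limits.Pi.map fun t : T => t.1.g (c t)) ≫ p) ∉ J _

theorem good_restrict {T T' : Finset (Task J Φ.F)} (hs : T ⊆ T') (c : ∀ t : T', Fin t.1.n) (hc : Good Φ T' c) :
    Good Φ T fun t => c ⟨t.1, hs t.2⟩ := by
  intro e p hp a ha hcov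
  haveI := Φ.cof
  obtain ⟨e1, b, hb⟩ := exists_lift Φ.F (fun t : T' => t.1.V) fun t => t.1.v
  obtain ⟨e2, l, l1, -⟩ := IsCofilteredOrEmpty.cone_objs e e1
  obtain ⟨e3, m, hm⟩ := exists_equalize Φ.F e2 (fun t : T => t.1.V) (fun t => l.1 ≫ a t) (fun t => l1.1 ≫ b ⟨t.1, hs t.2⟩)
    fun t => by simp [l.2, l1.2, ha, hb]
  refine hc e3 ((m ≫ l).1 ≫ p) (by simp [m.2, l.2, hp]) (fun t => (m ≫ l1).1 ≫ b t) (fun t => by simp [m.2, l1.2, hb]) ?_
  have := J.pullback_stable (map' Φ (m ≫ l).1 hs a (fun t => (m ≫ l1).1 ≫ b t) c fun t => by simpa using (hm t).symm) hcov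
  rw [← Sieve.pullback_comp] at this
  simpa using this

theorem good_exists (T : Finset (Task J Φ.F)) : ∃ c, Good Φ T c := by
  by_contra hall
  simp only [not_exists, Good, not_forall, not_not] at hall
  choose e p hp a ha hcov using hall
  haveI := Φ.cof
  obtain ⟨e1, b, hb⟩ := exists_lift Φ.F (fun t : T => t.1.V) fun t => t.1.v
  obtain ⟨e2, p2, hp2⟩ : ∃ (e2 : Φ.F.Elements) (p2 : e2.1 ⟶ X), Φ.F.map p2 e2.2 = Φ.x0 :=
    ⟨⟨X, Φ.x0⟩, 𝟙 X, by simp⟩
  obtain ⟨e3, l, hl⟩ := exists_lift Φ.F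
    (fun i : Option (Option (∀ t : T, Fin t.1.n)) => match i with | none => e1.1 | some none => e2.1 | some (some c) => (e c).1)
    (fun i => match i with | none => e1.2 | some none => e2.2 | some (some c) => (e c).2)
  let b3 := fun t : T => l none ≫ b t
  let p3 := l (some none) ≫ p2
  obtain ⟨e4, m, hm⟩ := exists_equalize Φ.F e3 (fun i : (∀ t : T, Fin t.1.n) × Option T => match i.2 with | none => X | some t => t.1.V)
    (fun i => match i with | (c, none) => l (some (some c)) ≫ p c | (c, some t) => l (some (some c)) ≫ a c t)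
    (fun i => match i with | (_, none) => p3 | (_, some t) => b3 t) (by
      rintro ⟨c, _ | t⟩
      · show Φ.F.map _ _ = Φ.F.map _ _
        simp [p3, hl, hp, hp2]
        try exact ((congrArg _ (hl (some (some c)))).trans (hp c)).trans ((congrArg _ (hl (some none))).trans hp2).symm
      · show Φ.F.map _ _ = Φ.F.map _ _
        simp [b3, hl, ha, hb]
        try exact ((congrArg _ (hl (some (some c)))).trans (ha c t)).trans ((congrArg _ (hl none)).trans (hb t)).symm)
  refine Φ.noncov e4.1 e4.2 (m.1 ≫ p3) (by simp [m.2, p3]; exact (congrArg _ (hl (some none))).trans hp2) ?_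
  obtain ⟨R, hR, hRle⟩ := inter_mem (J := J) (Finset.univ : Finset T) (fun t => (Sieve.ofArrows t.1.B t.1.g).pullback (m.1 ≫ b3 t))
    fun t _ => J.pullback_stable _ t.1.cov
  apply J.transitive hR
  intro Y h hh
  have hf : ∀ t : T, ∃ (k : Fin t.1.n) (w : Y ⟶ t.1.B k), w ≫ t.1.g k = h ≫ m.1 ≫ b3 t := fun t => by
    obtain ⟨Z, w, _, ⟨k⟩, hw⟩ := hRle t (Finset.mem_univ t) _ hh
    exact ⟨k, w, hw⟩
  choose k w hw using hf
  let q : Y ⟶ obj' Φ T (a k) k := pullback.lift (h ≫ m.1 ≫ l (some (some k))) (Limits.Pi.lift w) (Limits.Pi.hom_ext _ _ fun t => by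
    simp only [Category.assoc, Limits.Pi.lift_π, Limits.Pi.map_π, Limits.Pi.lift_π_assoc, hw]
    exact congrArg (h ≫ ·) (hm (k, some t)))
  have := J.pullback_stable q (hcov k)
  rw [← Sieve.pullback_comp] at this
  rw [← Sieve.pullback_comp]
  have e : q ≫ pullback.fst (Limits.Pi.lift (a k)) (Limits.Pi.map fun t : T => t.1.g (k t)) ≫ p k = h ≫ m.1 ≫ p3 := by
    rw [pullback.lift_fst_assoc, Category.assoc, Category.assoc]
    exact congrArg (h ≫ ·) (hm (k, none))
  rw [e] at this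
  exact this

theorem exists_choice : ∃ c : ∀ t : Task J Φ.F, Fin t.n, ∀ T : Finset (Task J Φ.F), Good Φ T fun t => c t.1 := by
  classical
  let G : (Finset (Task J Φ.F))ᵒᵖ ⥤ Type u :=
    { obj := fun T => {c : ∀ t : T.unop, Fin t.1.n // Good Φ T.unop c}
      map := fun {T T'} h => TypeCat.ofHom fun c => ⟨fun t => c.1 ⟨t.1, h.unop.le t.2⟩, good_restrict Φ h.unop.le c.1 c.2⟩ }
  haveI : ∀ T, Finite (G.obj T) := fun T => by dsimp [G]; infer_instance
  haveI : ∀ T, Nonempty (G.obj T) := fun T => by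
    obtain ⟨c, hc⟩ := good_exists Φ T.unop
    exact ⟨⟨c, hc⟩⟩
  obtain ⟨s, hs⟩ := nonempty_sections_of_finite_inverse_system G
  refine ⟨fun t => (s (op {t})).1 ⟨t, Finset.mem_singleton_self t⟩, fun T => ?_⟩
  convert (s (op T)).2 using 1
  funext t
  have := hs (j := op T) (j' := op {t.1}) (homOfLE (Finset.singleton_subset_iff.2 t.2)).op
  show (s (op {t.1})).1 _ = _
  exact (congrFun (congrArg Subtype.val this) ⟨t.1, Finset.mem_singleton_self t.1⟩).symm

variable (c : ∀ t : Task J Φ.F, Fin t.n)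

/-- An element together with finitely many tasks. -/
structure Node : Type u where
  e : Φ.F.Elements
  T : Finset (Task J Φ.F)
  a : ∀ t : T, e.1 ⟶ t.1.V
  ha : ∀ t : T, Φ.F.map (a t) e.2 = t.1.v

@[ext]
structure NodeHom (k k' : Node Φ) : Type u where
  h : k.e ⟶ k'.e
  sub : k'.T ⊆ k.T
  comm : ∀ t : k'.T, k.a ⟨t.1, sub t.2⟩ = h.1 ≫ k'.a t

instance : SmallCategory (Node Φ) where
  Hom := NodeHom Φ
  id k := ⟨𝟙 _, subset_rfl, fun t => (Category.id_comp _).symm⟩
  comp f g := ⟨f.h ≫ g.h, g.sub.trans f.sub, fun t => by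
    rw [f.comm ⟨t.1, g.sub t.2⟩, g.comm t]; exact (Category.assoc _ _ _).symm⟩
  id_comp f := NodeHom.ext (Category.id_comp _)
  comp_id f := NodeHom.ext (Category.comp_id _)
  assoc f g h := NodeHom.ext (Category.assoc _ _ _)

instance : IsCofiltered (Node Φ) := by
  classical
  haveI := Φ.cof
  haveI : Nonempty (Node Φ) :=
    ⟨⟨⟨X, Φ.x0⟩, ∅, fun t => absurd t.2 (Finset.notMem_empty _), fun t => absurd t.2 (Finset.notMem_empty _)⟩⟩
  haveI : IsCofilteredOrEmpty (Node Φ) := by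
    refine ⟨fun k k' => ?_, fun k k' f g => ?_⟩
    · obtain ⟨e1, b, hb⟩ := exists_lift Φ.F (fun t : ↥(k.T ∪ k'.T) => t.1.V) fun t => t.1.v
      obtain ⟨e2, l, l', -⟩ := IsCofilteredOrEmpty.cone_objs k.e k'.e
      obtain ⟨e3, m, m1, -⟩ := IsCofilteredOrEmpty.cone_objs e2 e1
      obtain ⟨e4, n, hn⟩ := exists_equalize Φ.F e3 (fun t : k.T ⊕ k'.T => Sum.elim (fun t : k.T => t.1.V) (fun t : k'.T => t.1.V) t)
        (fun t => match t with | .inl t => (m ≫ l).1 ≫ k.a t | .inr t => (m ≫ l').1 ≫ k'.a t)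
        (fun t => match t with
          | .inl t => m1.1 ≫ b ⟨t.1, Finset.mem_union_left _ t.2⟩
          | .inr t => m1.1 ≫ b ⟨t.1, Finset.mem_union_right _ t.2⟩)
        (by rintro (t | t) <;> simp [m.2, l.2, l'.2, m1.2, k.ha, k'.ha, hb])
      refine ⟨⟨e4, k.T ∪ k'.T, fun t => (n ≫ m1).1 ≫ b t, fun t => by simp [n.2, m1.2, hb]⟩,
        ⟨n ≫ m ≫ l, Finset.subset_union_left, fun t => ?_⟩, ⟨n ≫ m ≫ l', Finset.subset_union_right, fun t => ?_⟩, trivial⟩
      · simpa using (hn (.inl t)).symm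
      · simpa using (hn (.inr t)).symm
    · refine ⟨⟨IsCofiltered.eq f.h g.h, k.T, fun t => (IsCofiltered.eqHom f.h g.h).1 ≫ k.a t,
        fun t => by simp [(IsCofiltered.eqHom f.h g.h).2, k.ha]⟩, ⟨IsCofiltered.eqHom f.h g.h, subset_rfl, fun t => rfl⟩,
        NodeHom.ext (IsCofiltered.eq_condition f.h g.h)⟩
  exact {}

/-- The refined pro-object. -/
def Wf : Node Φ ⥤ C where
  obj k := obj' Φ k.T k.a fun t => c t.1
  map {k k'} f := map' Φ f.h.1 f.sub k'.a k.a (fun t => c t.1) f.comm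
  map_id k := pullback.hom_ext (by simp; exact Category.comp_id _) (by
    simp only [map', pullback.lift_snd, Category.id_comp]
    exact Limits.Pi.hom_ext _ _ fun t => by simp)
  map_comp f g := pullback.hom_ext (by simp; rfl) (by
    simp only [map', pullback.lift_snd, Category.assoc, pullback.lift_snd_assoc]
    exact congrArg (pullback.snd _ _ ≫ ·) (Limits.Pi.hom_ext _ _ fun t => by simp))

/-- The node of an element without tasks. -/
def base {U : C} (u : Φ.F.obj U) : Node Φ :=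
  ⟨⟨U, u⟩, ∅, fun t => absurd t.2 (Finset.notMem_empty _), fun t => absurd t.2 (Finset.notMem_empty _)⟩

/-- The map to the refined pro-object. -/
def η : Φ.F ⟶ Fib (Wf Φ c) where
  app U := TypeCat.ofHom fun u => el (Wf Φ c) (base Φ u) (pullback.fst _ _)
  naturality {U U'} f := by
    ext u
    show el (Wf Φ c) (base Φ (Φ.F.map f u)) (pullback.fst _ _) = (Fib (Wf Φ c)).map f (el (Wf Φ c) (base Φ u) (pullback.fst _ _))
    rw [el_map]
    have := el_w (Wf Φ c) (Y := U') (k := base Φ u) (k' := base Φ (Φ.F.map f u))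
      ⟨CategoryOfElements.homMk (F := Φ.F) ⟨U, u⟩ ⟨U', Φ.F.map f u⟩ f rfl, subset_rfl, fun t => absurd t.2 (Finset.notMem_empty _)⟩
      (pullback.fst _ _)
    rw [← this]
    exact congrArg _ (pullback.lift_fst _ _ _)

theorem exists_step : ∃ (Ψ : State J S) (η : Φ.F ⟶ Ψ.F), η.app X Φ.x0 = Ψ.x0 ∧
    ∀ t : Task J Φ.F, ∃ (k : Fin t.n) (y : Ψ.F.obj (t.B k)), Ψ.F.map (t.g k) y = η.app t.V t.v := by
  obtain ⟨c, hc⟩ := exists_choice Φ
  refine ⟨⟨Fib (Wf Φ c), fib_cofiltered _, (η Φ c).app X Φ.x0, ?_⟩, η Φ c, rfl, fun t => ?_⟩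
  · intro U u p hp hcov
    obtain ⟨k, f, rfl⟩ := el_surj (Wf Φ c) u
    rw [el_map] at hp
    obtain ⟨l, a, b, hab⟩ := el_eq (Wf Φ c) (k' := base Φ Φ.x0) (f ≫ p) (pullback.fst _ _) hp
    refine hc l.T l.e b.h.1 b.h.2 l.a l.ha ?_
    have := J.pullback_stable ((Wf Φ c).map a ≫ f) hcov
    rw [← Sieve.pullback_comp, Category.assoc, hab] at this
    have e : (Wf Φ c).map b ≫ pullback.fst _ _ = pullback.fst (Limits.Pi.lift l.a) (Limits.Pi.map fun t : l.T => t.1.g (c t.1)) ≫ b.h.1 :=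
      pullback.lift_fst _ _ _
    rw [e] at this
    exact this
  · let k : Node Φ := ⟨⟨t.V, t.v⟩, {t}, fun s => eqToHom (by rw [Finset.mem_singleton.1 s.2]), ?_⟩
    · refine ⟨c t, el (Wf Φ c) k (pullback.snd _ _ ≫ Limits.Pi.π _ (⟨t, Finset.mem_singleton_self t⟩ : k.T)), ?_⟩
      rw [el_map]
      refine Eq.trans ?_ (el_w (Wf Φ c) (k := k) (k' := base Φ t.v)
        ⟨𝟙 _, Finset.empty_subset _, fun s => absurd s.2 (Finset.notMem_empty _)⟩ (pullback.fst _ _))
      apply congrArg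
      have h0 := congrArg (· ≫ Limits.Pi.π (fun s : k.T => s.1.V) (⟨t, Finset.mem_singleton_self t⟩ : k.T))
        (pullback.condition (f := Limits.Pi.lift k.a) (g := Limits.Pi.map fun s : k.T => s.1.g (c s.1)))
      simp only [Category.assoc, Limits.Pi.lift_π, Limits.Pi.map_π] at h0
      refine Eq.trans ?_ (pullback.lift_fst _ _ _).symm
      simpa [k] using h0.symm
    · rintro ⟨s, hs⟩
      obtain rfl := Finset.mem_singleton.1 hs
      simp

end step

theorem exists_point (hJ : ∀ (U : C) (R : Sieve U), R ∈ J U →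
      ∃ (n : ℕ) (V : Fin n → C) (g : ∀ k, V k ⟶ U), (∀ k, R (g k)) ∧ Sieve.ofArrows V g ∈ J U)
    {X : C} (S : Sieve X) (hS : S ∉ J X) :
    ∃ (Φ : GrothendieckTopology.Point.{u} J) (x : Φ.fiber.obj X),
      ∀ (Y : C) (g : Y ⟶ X) (y : Φ.fiber.obj Y), Φ.fiber.map g y = x → ¬ S g := by
  have init : ∃ Φ : State J S, True := by
    refine ⟨⟨coyoneda.obj (op X), ?_, 𝟙 X, fun U (u : X ⟶ U) p hp hcov => hS ?_⟩, trivial⟩
    · haveI : Nonempty (coyoneda.obj (op X)).Elements := ⟨⟨X, (𝟙 X : X ⟶ X)⟩⟩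
      haveI : IsCofilteredOrEmpty (coyoneda.obj (op X)).Elements := by
        refine ⟨fun ⟨Y, (y : X ⟶ Y)⟩ ⟨Z, (z : X ⟶ Z)⟩ => ⟨⟨X, (𝟙 X : X ⟶ X)⟩, CategoryOfElements.homMk _ _ y (Category.id_comp y),
          CategoryOfElements.homMk _ _ z (Category.id_comp z), trivial⟩, fun ⟨Y, (y : X ⟶ Y)⟩ e p q =>
          ⟨⟨X, (𝟙 X : X ⟶ X)⟩, CategoryOfElements.homMk _ _ y (Category.id_comp y), Subtype.ext ?_⟩⟩
        exact p.2.trans q.2.symm
      exact {}
    · have := J.pullback_stable u hcov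
      rw [← Sieve.pullback_comp, show u ≫ p = 𝟙 X from hp, Sieve.pullback_id] at this
      exact this
  obtain ⟨Φ₀, -⟩ := init
  choose next η hη hlift using exists_step (J := J) (S := S)
  let st : ℕ → State J S := fun n => Nat.rec Φ₀ (fun _ Φ => next Φ) n
  let G : ℕ ⥤ C ⥤ Type u := Functor.ofSequence (X := fun n => (st n).F) fun n => η (st n)
  let F : C ⥤ Type u := colimit G
  have hc := fun V : C => isColimitOfPreserves ((evaluation C (Type u)).obj V) (colimit.isColimit G)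
  let ι := fun (n : ℕ) {V : C} (v : (st n).F.obj V) => ((colimit.ι G n).app V v : F.obj V)
  have ιmap : ∀ (n : ℕ) {V V' : C} (f : V ⟶ V') (v : (st n).F.obj V), F.map f (ι n v) = ι n ((st n).F.map f v) :=
    fun n V V' f v => ((colimit.ι G n).naturality_apply f v).symm
  have surj : ∀ {V : C} (v : F.obj V), ∃ (n : ℕ) (v' : (st n).F.obj V), ι n v' = v := fun {V} v =>
    Types.jointly_surjective_of_isColimit (hc V) v
  have up : ∀ {n m : ℕ} (h : n ≤ m) {V : C} (v : (st n).F.obj V), ι m ((G.map (homOfLE h)).app V v) = ι n v :=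
    fun {n m} h {V} v => congrArg (fun t : G.obj n ⟶ F => t.app V v) (colimit.w G (homOfLE h))
  have eqv : ∀ {n : ℕ} {V : C} (v w : (st n).F.obj V), ι n v = ι n w →
      ∃ (m : ℕ) (h : n ≤ m), (G.map (homOfLE h)).app V v = (G.map (homOfLE h)).app V w := fun {n V} v w h => by
    obtain ⟨m, f, hf⟩ := (Types.FilteredColimit.isColimit_eq_iff' (hc V) v w).1 h
    exact ⟨m, f.le, hf⟩
  let x := ι 0 (st 0).x0
  have hx : ∀ n, ι n (st n).x0 = x := fun n => by
    induction n with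
    | zero => rfl
    | succ n ih =>
      rw [← ih, ← up (Nat.le_succ n)]
      refine congrArg (fun z => ι (n + 1) z) ?_
      rw [Functor.ofSequence_map_homOfLE_succ]
      exact (hη (st n)).symm
  have nat : ∀ {n m : ℕ} (h : n ≤ m) {V V' : C} (f : V ⟶ V') (v : (st n).F.obj V),
      (G.map (homOfLE h)).app V' ((st n).F.map f v) = (st m).F.map f ((G.map (homOfLE h)).app V v) :=
    fun h V V' f v => (G.map (homOfLE h)).naturality_apply f v
  haveI : Nonempty F.Elements := ⟨⟨X, x⟩⟩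
  haveI : IsCofilteredOrEmpty F.Elements := by
    refine ⟨?_, ?_⟩
    · rintro ⟨Y, y⟩ ⟨Z, z⟩
      obtain ⟨n, y', rfl⟩ := surj y
      obtain ⟨m, z', rfl⟩ := surj z
      haveI := (st (max n m)).cof
      obtain ⟨⟨W, w⟩, ⟨p, hp⟩, ⟨q, hq⟩, -⟩ := IsCofilteredOrEmpty.cone_objs
        ((st (max n m)).F.elementsMk Y ((G.map (homOfLE (le_max_left n m))).app Y y'))
        ((st (max n m)).F.elementsMk Z ((G.map (homOfLE (le_max_right n m))).app Z z'))
      refine ⟨⟨W, ι _ w⟩, CategoryOfElements.homMk _ _ p ?_, CategoryOfElements.homMk _ _ q ?_, trivial⟩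
      · exact (ιmap _ p w).trans ((congrArg (fun r => ι (max n m) r) hp).trans (up _ y'))
      · exact (ιmap _ q w).trans ((congrArg (fun r => ι (max n m) r) hq).trans (up _ z'))
    · rintro ⟨Y, y⟩ ⟨Z, z⟩ ⟨p, hp⟩ ⟨q, hq⟩
      obtain ⟨n, y', rfl⟩ := surj y
      obtain ⟨m, h, e⟩ := eqv _ _ (((ιmap n p y').symm.trans hp).trans (hq.symm.trans (ιmap n q y')))
      rw [nat, nat] at e
      haveI := (st m).cof
      let Y' : (st m).F.Elements := ⟨Y, (G.map (homOfLE h)).app Y y'⟩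
      let P : Y' ⟶ (⟨Z, (st m).F.map p Y'.2⟩ : (st m).F.Elements) := CategoryOfElements.homMk _ _ p rfl
      let Q : Y' ⟶ (⟨Z, (st m).F.map p Y'.2⟩ : (st m).F.Elements) := CategoryOfElements.homMk _ _ q e.symm
      obtain ⟨⟨W, w⟩, ⟨r, hr⟩, hrr⟩ := IsCofilteredOrEmpty.cone_maps P Q
      refine ⟨⟨W, ι m w⟩, CategoryOfElements.homMk _ _ r ?_, Subtype.ext (congrArg Subtype.val hrr :)⟩
      exact (ιmap _ r w).trans ((congrArg (fun s => ι m s) hr).trans (up h y'))
  haveI : IsCofiltered F.Elements := {}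
  haveI : InitiallySmall.{u} F.Elements := initiallySmall_of_essentiallySmall _
  refine ⟨{ fiber := F, jointly_surjective := fun {U} R hR v => ?_ }, x, fun Y g y hy hg => ?_⟩
  · obtain ⟨n, v', rfl⟩ := surj v
    obtain ⟨k, V, g, hg, hcov⟩ := hJ U R hR
    obtain ⟨i, y, hy⟩ := hlift (st n) ⟨U, v', k, V, g, hcov⟩
    refine ⟨V i, g i, hg i, ι (n + 1) y, (ιmap _ _ _).trans ?_⟩
    rw [← up (Nat.le_succ n) v', Functor.ofSequence_map_homOfLE_succ]
    exact congrArg (fun r => ι (n + 1) r) hy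
  · obtain ⟨n, y', rfl⟩ := surj y
    rw [ιmap, ← hx n] at hy
    obtain ⟨m, h, e⟩ := eqv _ _ hy
    rw [nat] at e
    have e2 : (G.map (homOfLE h)).app X (st n).x0 = (st m).x0 := by
      clear e hy
      induction h with
      | refl => rw [show homOfLE (le_refl n) = 𝟙 n from rfl, G.map_id]; rfl
      | @step m h ih =>
        rw [← homOfLE_comp (show n ≤ m from h) (Nat.le_succ m), G.map_comp, Functor.ofSequence_map_homOfLE_succ]
        show (η (st m)).app X ((G.map (homOfLE (show n ≤ m from h))).app X (st n).x0) = _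
        rw [ih]
        exact hη (st m)
    refine (st m).noncov Y _ g (e.trans e2) ?_
    rw [Sieve.pullback_eq_top_of_mem S hg]
    exact J.top_mem Y

theorem hasEnoughPoints (hJ : ∀ (U : C) (R : Sieve U), R ∈ J U →
      ∃ (n : ℕ) (V : Fin n → C) (g : ∀ k, V k ⟶ U), (∀ k, R (g k)) ∧ Sieve.ofArrows V g ∈ J U) :
    GrothendieckTopology.HasEnoughPoints.{u} J := by
  classical
  choose Φ x hx using fun p : (Σ X : C, {S : Sieve X // S ∉ J X}) => exists_point hJ p.2.1 p.2.2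
  refine ⟨ObjectProperty.ofObj Φ, inferInstance, ObjectProperty.IsConservativeFamilyOfPoints.mk' (fun X S h => ?_)⟩
  by_contra hS
  obtain ⟨Y, g, hg, y, hy⟩ := h ⟨Φ ⟨X, S, hS⟩, ObjectProperty.ofObj_apply Φ _⟩ (x ⟨X, S, hS⟩)
  exact hx ⟨X, S, hS⟩ Y g y hy hg

end Groth.Agent.LDeligne

end
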