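import Mathlib

/-! Composition of right derived functors at an acyclic object. -/

universe v v' v'' u u' u''

open CategoryTheory Limits Category

namespace Groth.Agent.LDerAcyclic

variable {A : Type u} [Category.{v} A] [Abelian A] [HasInjectiveResolutions A]
  {B : Type u'} [Category.{v'} B] [Abelian B] [HasInjectiveResolutions B]
  {C : Type u''} [Category.{v''} C] [Abelian C]
  (T : A ⥤ B) [T.Additive] [PreservesFiniteLimits T]
  (hT : ∀ X : A, Injective X → Injective (T.obj X)) (X : A)
  (hX : ∀ n, IsZero ((T.rightDerived (n + 1)).obj X))

include hT hX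

/-- image of an injective resolution of an acyclic object -/
noncomputable def mapRes : InjectiveResolution (T.obj X) where
  cocomplex := (T.mapHomologicalComplex _).obj (injectiveResolution X).cocomplex
  injective n := hT _ ((injectiveResolution X).injective n)
  ι := (CochainComplex.fromSingle₀Equiv _ _).symm ⟨T.map ((injectiveResolution X).ι.f 0), by
    refine Eq.trans (T.map_comp _ _).symm ?_
    exact (congrArg T.map (injectiveResolution X).ι_f_zero_comp_complex_d).trans (T.map_zero _ _)⟩
  quasiIso := ⟨fun n => by
    cases n with
    | zero =>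
      rw [CochainComplex.quasiIsoAt₀_iff, ShortComplex.quasiIso_iff_of_zeros]
      · have h := (injectiveResolution X).isLimitKernelFork
        let S := ShortComplex.mk ((injectiveResolution X).ι.f 0) ((injectiveResolution X).cocomplex.d 0 1)
          ((injectiveResolution X).ι_f_zero_comp_complex_d)
        have hS : (S.map T).Exact ∧ Mono (S.map T).f :=
          (S.map T).exact_and_mono_f_iff_f_is_kernel.2 ⟨KernelFork.mapIsLimit _ h T⟩
        refine (ShortComplex.exact_and_mono_f_iff_of_iso ?_).2 hS
        exact ShortComplex.isoMk (Iso.refl _) (Iso.refl _) (Iso.refl _)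
          (by simp [S]; exact (id_comp _).trans (comp_id _).symm) (by simp [S]; exact (id_comp _).trans (comp_id _).symm)
      all_goals first | rfl | (simp; try rfl)
    | succ n =>
      rw [quasiIsoAt_iff_exactAt]
      · rw [HomologicalComplex.exactAt_iff_isZero_homology]
        exact (hX n).of_iso ((injectiveResolution X).isoRightDerivedObj T (n + 1)).symm
      · exact CochainComplex.exactAt_succ_single_obj _ _⟩

theorem nonempty_comp (G : B ⥤ C) [G.Additive] (p : ℕ) :
    Nonempty ((G.rightDerived p).obj (T.obj X) ≅ ((T ⋙ G).rightDerived p).obj X) :=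
  ⟨(mapRes T hT X hX).isoRightDerivedObj G p ≪≫ ((injectiveResolution X).isoRightDerivedObj (T ⋙ G) p).symm⟩

end Groth.Agent.LDerAcyclic
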