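import Mathlib

/-! Connecting isomorphisms for `0 → G → 𝟭 → T`, exact on injectives. -/

universe v u

open CategoryTheory Limits Category

namespace Groth.Agent.LDerConn

variable {A : Type u} [Category.{v} A] [Abelian A] [HasInjectiveResolutions A]
  {G T : A ⥤ A} [G.Additive] [T.Additive] (α : G ⟶ 𝟭 A) (β : 𝟭 A ⟶ T) (w : α ≫ β = 0)
  (h : ∀ I : A, Injective I → (ShortComplex.mk (α.app I) (β.app I) (by
    rw [← NatTrans.comp_app, w]; rfl)).ShortExact)

/-- the sequence of complexes of a resolution -/
noncomputable def seq {X : A} (P : InjectiveResolution X) : ShortComplex (CochainComplex A ℕ) :=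
  ShortComplex.mk ((NatTrans.mapHomologicalComplex α (ComplexShape.up ℕ)).app P.cocomplex)
    ((NatTrans.mapHomologicalComplex β (ComplexShape.up ℕ)).app P.cocomplex) (by
      ext n
      exact congrArg (fun t => t.app (P.cocomplex.X n)) w)

include h in
lemma seq_shortExact {X : A} (P : InjectiveResolution X) : (seq α β w P).ShortExact :=
  HomologicalComplex.shortExact_of_degreewise_shortExact _ fun n => h _ (P.injective n)

lemma isZero_middle {X : A} (P : InjectiveResolution X) (n : ℕ) :
    IsZero ((((𝟭 A).mapHomologicalComplex (ComplexShape.up ℕ)).obj P.cocomplex).homology (n + 1)) :=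
  (HomologicalComplex.exactAt_iff_isZero_homology _ _).1 (P.cocomplex_exactAt_succ n)

/-- maps of sequences -/
noncomputable def seqMap {X Y : A} (P : InjectiveResolution X) (Q : InjectiveResolution Y) (φ : P.cocomplex ⟶ Q.cocomplex) :
    seq α β w P ⟶ seq α β w Q where
  τ₁ := (G.mapHomologicalComplex _).map φ
  τ₂ := ((𝟭 A).mapHomologicalComplex _).map φ
  τ₃ := (T.mapHomologicalComplex _).map φ
  comm₁₂ := (NatTrans.mapHomologicalComplex α (ComplexShape.up ℕ)).naturality φ
  comm₂₃ := (NatTrans.mapHomologicalComplex β (ComplexShape.up ℕ)).naturality φ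

variable (X : A)

/-- connecting map -/
noncomputable def conn (n : ℕ) : (T.rightDerived n).obj X ⟶ (G.rightDerived (n + 1)).obj X :=
  ((injectiveResolution X).isoRightDerivedObj T n).hom ≫
    (seq_shortExact α β w h (injectiveResolution X)).δ n (n + 1) (show (ComplexShape.up ℕ).Rel n (n + 1) from rfl) ≫
    ((injectiveResolution X).isoRightDerivedObj G (n + 1)).inv

/-- connecting natural transformation -/
noncomputable def connNat (n : ℕ) : T.rightDerived n ⟶ G.rightDerived (n + 1) where
  app X := conn α β w h X n
  naturality X Y f := by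
    let φ := InjectiveResolution.desc f (injectiveResolution Y) (injectiveResolution X)
    have hc : (injectiveResolution X).ι.f 0 ≫ φ.f 0 = f ≫ (injectiveResolution Y).ι.f 0 :=
      InjectiveResolution.desc_commutes_zero f (injectiveResolution Y) (injectiveResolution X)
    have h1 := InjectiveResolution.isoRightDerivedObj_hom_naturality f (injectiveResolution X) (injectiveResolution Y) φ hc T n
    have h2 := InjectiveResolution.isoRightDerivedObj_inv_naturality f (injectiveResolution X) (injectiveResolution Y) φ hc G (n + 1)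
    have h3 := HomologicalComplex.HomologySequence.δ_naturality (seqMap α β w (injectiveResolution X) (injectiveResolution Y) φ)
      (seq_shortExact α β w h (injectiveResolution X)) (seq_shortExact α β w h (injectiveResolution Y)) n (n + 1) (show (ComplexShape.up ℕ).Rel n (n + 1) from rfl)
    dsimp only [conn]
    rw [reassoc_of% h1]
    simp only [assoc]
    erw [h2]
    congr 1
    exact ((assoc _ _ _).symm.trans ((congrArg (· ≫ _) h3.symm).trans (assoc _ _ _)))

include α β w h in
theorem succ_iso (n : ℕ) : Nonempty (T.rightDerived (n + 1) ≅ G.rightDerived (n + 1 + 1)) := by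
  have : ∀ X, IsIso ((connNat α β w h (n + 1)).app X) := fun X => by
    have := (seq_shortExact α β w h (injectiveResolution X)).isIso_δ (n + 1) (n + 1 + 1) rfl
      (isZero_middle (injectiveResolution X) n) (isZero_middle (injectiveResolution X) (n + 1))
    change IsIso (conn α β w h X (n + 1))
    dsimp only [conn]
    exact IsIso.comp_isIso' inferInstance (IsIso.comp_isIso' this inferInstance)
  have := NatIso.isIso_of_isIso_app (connNat α β w h (n + 1))
  exact ⟨asIso (connNat α β w h (n + 1))⟩

include α β w h in
theorem one_iso [PreservesFiniteLimits T] : Nonempty (G.rightDerived 1 ≅ cokernel β) := by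
  let π : T ⟶ G.rightDerived 1 := T.toRightDerivedZero ≫ connNat α β w h 0
  have hx : ∀ X, ∃ hz : β.app X ≫ π.app X = 0, (ShortComplex.mk (β.app X) (π.app X) hz).Exact ∧ Epi (π.app X) := by
    intro X
    let P := injectiveResolution X
    have hS := seq_shortExact α β w h P
    let δ := hS.δ 0 1 rfl
    let g := HomologicalComplex.homologyMap (seq α β w P).g 0
    have hg : g ≫ δ = 0 := hS.comp_δ 0 1 rfl
    have he : (ShortComplex.mk g δ hg).Exact := hS.homology_exact₃ 0 1 rfl
    have : Epi δ := hS.epi_δ 0 1 rfl (isZero_middle P 0)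
    let a : T.obj X ≅ (seq α β w P).X₃.homology 0 :=
      asIso (P.toRightDerivedZero' T) ≪≫ CochainComplex.isoHomologyπ₀ _
    let b : X ≅ (seq α β w P).X₂.homology 0 :=
      @asIso _ _ _ _ (P.toRightDerivedZero' (𝟭 A)) inferInstance ≪≫ CochainComplex.isoHomologyπ₀ _
    let c := (P.isoRightDerivedObj G 1).symm
    have hπ : π.app X = a.hom ≫ δ ≫ c.hom := by
      change T.toRightDerivedZero.app X ≫ conn α β w h X 0 = _
      rw [InjectiveResolution.toRightDerivedZero_eq P T]
      dsimp only [conn]
      simp only [assoc]
      erw [Iso.inv_hom_id_assoc]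
      exact (assoc _ _ _).symm
    have hb : b.hom ≫ g = β.app X ≫ a.hom := by
      dsimp only [a, b, Iso.trans_hom, asIso_hom]
      rw [assoc]
      erw [HomologicalComplex.homologyπ_naturality]
      rw [← assoc, ← assoc]
      congr 1
      rw [← cancel_mono (HomologicalComplex.iCycles _ 0)]
      simp only [assoc]
      erw [HomologicalComplex.cyclesMap_i]
      refine (P.toRightDerivedZero'_comp_iCycles_assoc (𝟭 A) _).trans
        (Eq.trans ?_ ((assoc _ _ _).trans (congrArg (β.app X ≫ ·) (P.toRightDerivedZero'_comp_iCycles T))).symm)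
      exact β.naturality (P.ι.f 0)
    have hz : β.app X ≫ π.app X = 0 := by
      rw [hπ, ← assoc, ← hb, assoc, reassoc_of% hg, zero_comp, comp_zero]
    refine ⟨hz, ShortComplex.exact_of_iso (ShortComplex.isoMk b.symm a.symm c ?_ ?_) he, ?_⟩
    · change b.inv ≫ β.app X = g ≫ a.inv
      rw [Iso.inv_comp_eq, ← assoc, Iso.eq_comp_inv]
      exact hb.symm
    · change a.inv ≫ π.app X = δ ≫ c.hom
      rw [hπ, Iso.inv_hom_id_assoc]
    · rw [hπ]
      infer_instance
  have hz : β ≫ π = 0 := NatTrans.ext (funext fun X => (hx X).1)
  let S := ShortComplex.mk β π hz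
  have hS : S.Exact := by
    rw [S.exact_iff_isZero_homology]
    refine Functor.isZero _ fun X => ?_
    exact IsZero.of_iso ((ShortComplex.exact_iff_isZero_homology _).1 (hx X).2.1)
      (S.mapHomologyIso ((evaluation A A).obj X)).symm
  have : ∀ X, Epi (π.app X) := fun X => (hx X).2.2
  have : Epi S.g := NatTrans.epi_of_epi_app π
  exact ⟨IsColimit.coconePointUniqueUpToIso hS.gIsCokernel (colimit.isColimit (parallelPair β 0))⟩

end Groth.Agent.LDerConn
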