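import Mathlib

/-! Precomposition of right derived functors with an exact functor preserving injectives. -/

universe v v' v'' u u' u''

open CategoryTheory Limits Category

namespace Groth.Agent.LDerPrecomp

variable {A : Type u} [Category.{v} A] [Abelian A] [HasInjectiveResolutions A]
  {B : Type u'} [Category.{v'} B] [Abelian B] [HasInjectiveResolutions B]
  {C : Type u''} [Category.{v''} C] [Abelian C]
  (T : A ⥤ B) [T.Additive] [PreservesFiniteLimits T] [PreservesFiniteColimits T]
  (hT : ∀ X : A, Injective X → Injective (T.obj X))

include hT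

/-- image of an injective resolution -/
noncomputable def mapRes {X : A} (P : InjectiveResolution X) : InjectiveResolution (T.obj X) where
  cocomplex := (T.mapHomologicalComplex _).obj P.cocomplex
  injective n := hT _ (P.injective n)
  ι := (HomologicalComplex.singleMapHomologicalComplex T (ComplexShape.up ℕ) 0).inv.app X ≫
    (T.mapHomologicalComplex _).map P.ι
  quasiIso := by
    have : QuasiIso ((T.mapHomologicalComplex (ComplexShape.up ℕ)).map P.ι) := inferInstance
    infer_instance

lemma mapRes_ι_f {X : A} (P : InjectiveResolution X) :
    (mapRes T hT P).ι.f 0 = T.map (P.ι.f 0) := by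
  change _ ≫ T.map (P.ι.f 0) = _
  refine Eq.trans ?_ (id_comp _)
  congr 1

theorem nonempty_precomp (G : B ⥤ C) [G.Additive] (n : ℕ) :
    Nonempty ((T ⋙ G).rightDerived n ≅ T ⋙ G.rightDerived n) := by
  refine ⟨NatIso.ofComponents
    (fun X => (injectiveResolution X).isoRightDerivedObj (T ⋙ G) n ≪≫
      ((mapRes T hT (injectiveResolution X)).isoRightDerivedObj G n).symm) fun {X Y} f => ?_⟩
  let φ := InjectiveResolution.desc f (injectiveResolution Y) (injectiveResolution X)
  have hc : (injectiveResolution X).ι.f 0 ≫ φ.f 0 = f ≫ (injectiveResolution Y).ι.f 0 :=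
    InjectiveResolution.desc_commutes_zero f (injectiveResolution Y) (injectiveResolution X)
  have h1 := InjectiveResolution.isoRightDerivedObj_hom_naturality f (injectiveResolution X)
    (injectiveResolution Y) φ hc (T ⋙ G) n
  have h2 := InjectiveResolution.isoRightDerivedObj_inv_naturality (T.map f) (mapRes T hT (injectiveResolution X))
    (mapRes T hT (injectiveResolution Y)) ((T.mapHomologicalComplex _).map φ) (by
      rw [mapRes_ι_f, mapRes_ι_f]
      exact (T.map_comp _ _).symm.trans ((congrArg T.map hc).trans (T.map_comp _ _))) G n
  simp only [Iso.trans_hom, Iso.symm_hom, Functor.comp_map]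
  rw [reassoc_of% h1, assoc]
  congr 1
  exact h2.symm

end Groth.Agent.LDerPrecomp
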