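import Groth.Agent.Lib.LShift

set_option autoImplicit false
universe u

open CategoryTheory Limits TopologicalSpace Opposite TopCat

namespace Groth.Agent.LCech

section Splice

variable {C : Type (u + 1)} [Category.{u} C] [Abelian C]
variable {T : ShortComplex C} (hT : T.ShortExact) [Injective T.X₂] (J : InjectiveResolution T.X₃)

/-- the augmentation -/
noncomputable def iota0 : T.X₃ ⟶ J.cocomplex.X 0 := J.ι.f 0

omit [Injective T.X₂] in
lemma iota0_d : iota0 J ≫ J.cocomplex.d 0 1 = 0 := J.ι_f_zero_comp_complex_d

omit [Injective T.X₂] in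
lemma iota0_exact : (ShortComplex.mk (iota0 J) (J.cocomplex.d 0 1) (iota0_d J)).Exact ∧ Mono (iota0 J) :=
  ⟨ShortComplex.exact_of_f_is_kernel _ J.isLimitKernelFork,
    mono_of_isLimit_fork J.isLimitKernelFork⟩

/-- splice a resolution of a cokernel -/
noncomputable def spliceComplex : CochainComplex C ℕ :=
  J.cocomplex.augment (T.g ≫ iota0 J) (by rw [Category.assoc, iota0_d, comp_zero])

include hT in
omit [Injective T.X₂] in
lemma spliceComplex_exactAt (n : ℕ) : (spliceComplex J).ExactAt (n + 1) := by
  rw [(spliceComplex J).exactAt_iff' n (n + 1) (n + 2) (by simp) (by simp)]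
  rcases n with - | n
  · let φ : (spliceComplex J).sc' 0 1 2 ⟶ ShortComplex.mk (iota0 J) (J.cocomplex.d 0 1) (iota0_d J) :=
      { τ₁ := T.g, τ₂ := 𝟙 _, τ₃ := 𝟙 _
        comm₁₂ := (Category.comp_id _).symm
        comm₂₃ := (Category.id_comp _).trans (Category.comp_id _).symm }
    have : Epi φ.τ₁ := hT.epi_g
    have : IsIso φ.τ₂ := IsIso.id _
    have : Mono φ.τ₃ := IsIso.mono_of_iso (𝟙 _)
    exact (ShortComplex.exact_iff_of_epi_of_isIso_of_mono φ).2 (iota0_exact J).1
  · exact J.exact_succ n

/-- spliced resolution -/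
noncomputable def spliceResolution : InjectiveResolution T.X₁ where
  cocomplex := spliceComplex J
  injective
    | 0 => inferInstanceAs (Injective T.X₂)
    | n + 1 => inferInstanceAs (Injective (J.cocomplex.X n))
  ι := (CochainComplex.fromSingle₀Equiv _ _).symm ⟨T.f, by
    change T.f ≫ (T.g ≫ iota0 J) = 0
    rw [← Category.assoc, T.zero, zero_comp]⟩
  quasiIso := ⟨fun n => by
    rcases n with - | n
    · rw [CochainComplex.quasiIsoAt₀_iff, ShortComplex.quasiIso_iff_of_zeros]
      · haveI := (iota0_exact J).2
        let S' : ShortComplex C := ShortComplex.mk T.f (T.g ≫ iota0 J)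
          (by rw [← Category.assoc, T.zero, zero_comp])
        let φ : T ⟶ S' :=
          { τ₁ := 𝟙 _, τ₂ := 𝟙 _, τ₃ := iota0 J
            comm₁₂ := (Category.id_comp _).trans (Category.comp_id _).symm
            comm₂₃ := Category.id_comp _ }
        have : Epi φ.τ₁ := inferInstanceAs (Epi (𝟙 T.X₁))
        have : IsIso φ.τ₂ := IsIso.id _
        have : Mono φ.τ₃ := (iota0_exact J).2
        refine (ShortComplex.exact_and_mono_f_iff_of_iso ?_).2
          ⟨(ShortComplex.exact_iff_of_epi_of_isIso_of_mono φ).1 hT.exact, hT.mono_f⟩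
        exact ShortComplex.isoMk (Iso.refl _) (Iso.refl _) (Iso.refl _)
          (by
            refine (Category.id_comp _).trans (Eq.trans ?_ (Category.comp_id _).symm)
            exact (CochainComplex.fromSingle₀Equiv_symm_apply_f_zero (C := spliceComplex J) T.f _).symm)
          ((Category.id_comp _).trans (Category.comp_id _).symm)
      all_goals rfl
    · rw [quasiIsoAt_iff_exactAt]
      · exact spliceComplex_exactAt hT J n
      · apply CochainComplex.exactAt_succ_single_obj⟩

include hT in
/-- dimension shift for right derived functors -/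
lemma isZero_rightDerived_succ_succ {D : Type (u + 1)} [Category.{u} D] [Abelian D]
    [HasInjectiveResolutions C] (G : C ⥤ D) [G.Additive] (n : ℕ)
    (h : IsZero ((G.rightDerived (n + 1)).obj T.X₃)) :
    IsZero ((G.rightDerived (n + 2)).obj T.X₁) := by
  let J : InjectiveResolution T.X₃ := (HasInjectiveResolution.out (Z := T.X₃)).some
  rw [(J.isoRightDerivedObj G (n + 1)).isZero_iff] at h
  rw [((spliceResolution hT J).isoRightDerivedObj G (n + 2)).isZero_iff]
  change IsZero (((G.mapHomologicalComplex _).obj _).homology _)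
  change IsZero (((G.mapHomologicalComplex _).obj J.cocomplex).homology (n + 1)) at h
  rw [← HomologicalComplex.exactAt_iff_isZero_homology,
    HomologicalComplex.exactAt_iff' _ n (n + 1) (n + 2) (by simp) (by simp)] at h
  rw [← HomologicalComplex.exactAt_iff_isZero_homology,
    HomologicalComplex.exactAt_iff' _ (n + 1) (n + 2) (n + 3) (by simp) (by simp)]
  exact h

include hT in
/-- vanishing of the first derived functor -/
lemma isZero_rightDerived_one {D : Type (u + 1)} [Category.{u} D] [Abelian D]
    [HasInjectiveResolutions C] (G : C ⥤ D) [G.Additive] [PreservesFiniteLimits G]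
    (h : Epi (G.map T.g)) :
    IsZero ((G.rightDerived 1).obj T.X₁) := by
  let J : InjectiveResolution T.X₃ := (HasInjectiveResolution.out (Z := T.X₃)).some
  rw [((spliceResolution hT J).isoRightDerivedObj G 1).isZero_iff]
  change IsZero (((G.mapHomologicalComplex _).obj _).homology _)
  rw [← HomologicalComplex.exactAt_iff_isZero_homology,
    HomologicalComplex.exactAt_iff' _ 0 1 2 (by simp) (by simp)]
  let S₀ := (ShortComplex.mk (iota0 J) (J.cocomplex.d 0 1) (iota0_d J)).map G
  have h₀ : S₀.Exact := by
    exact (((Functor.preservesFiniteLimits_tfae G).out 1 3 rfl rfl).mpr inferInstance _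
      (iota0_exact J)).1
  let φ : ((G.mapHomologicalComplex _).obj (spliceComplex J)).sc' 0 1 2 ⟶ S₀ :=
    { τ₁ := G.map T.g, τ₂ := 𝟙 _, τ₃ := 𝟙 _
      comm₁₂ := (G.map_comp _ _).symm.trans (Category.comp_id _).symm
      comm₂₃ := (Category.id_comp _).trans (Category.comp_id _).symm }
  have : Epi φ.τ₁ := h
  have : IsIso φ.τ₂ := IsIso.id _
  have : Mono φ.τ₃ := IsIso.mono_of_iso (𝟙 _)
  exact (ShortComplex.exact_iff_of_epi_of_isIso_of_mono φ).2 h₀

end Splice

end Groth.Agent.LCech
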