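import Groth.Agent.Lib.LAmplePull
import Groth.Prelude.Def_RefHull
import Groth.Prelude.Def_ClSub2
import Mathlib

/-! The dual of an invertible module is an inverse for the tensor product. -/

set_option autoImplicit false
universe u
open CategoryTheory Limits AlgebraicGeometry Opposite TopologicalSpace

namespace Groth.Agent.LDual

open Groth.Agent.LQcoh Groth.Agent.LInv

variable {X : Scheme.{u}} {L : X.Modules}

theorem mod_ext (M : X.Modules) {U : X.Opens} {s t : Γ(M, U)}
    (h : ∀ (x : X) (hx : x ∈ U), M.presheaf.germ U x hx s = M.presheaf.germ U x hx t) : s = t :=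
  TopCat.Presheaf.section_ext ((toShf X).obj M) U s t h

lemma germ_res (M : X.Modules) {U W : X.Opens} (h : W ≤ U) (x : X) (hx : x ∈ W) (s : Γ(M, U)) :
    M.presheaf.germ W x hx (res M h s) = M.presheaf.germ U x (h hx) s :=
  TopCat.Presheaf.germ_res_apply M.presheaf (homOfLE h) x hx s

/-- the germ of `1` -/
noncomputable def one (x : X) : (Coh.structureModule X).presheaf.stalk x :=
  (Coh.structureModule X).presheaf.germ ⊤ x trivial (show Γ(Coh.structureModule X, ⊤) from (1 : Γ(X, ⊤)))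

lemma germ_fun {W : X.Opens} (x : X) (hx : x ∈ W) (r : Γ(X, W)) :
    (Coh.structureModule X).presheaf.germ W x hx (show Γ(Coh.structureModule X, W) from r) =
      X.presheaf.germ W x hx r • one x := by
  have h1 : (Coh.structureModule X).presheaf.germ W x hx (show Γ(Coh.structureModule X, W) from (1 : Γ(X, W))) = one x := by
    rw [one, ← germ_res (Coh.structureModule X) (le_top : W ≤ ⊤) x hx]
    exact congrArg ((Coh.structureModule X).presheaf.germ W x hx)
      (map_one (X.presheaf.map (homOfLE (le_top : W ≤ ⊤)).op).hom).symm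
  rw [← h1, ← Mero.germ_smul]
  exact congrArg ((Coh.structureModule X).presheaf.germ W x hx) (mul_one r).symm

theorem basis_bijective {U : X.Opens} {σ : Γ(L, U)} (hσ : GenOn L U σ) (x : U) :
    Function.Bijective (LinearMap.toSpanSingleton (X.presheaf.stalk x.1) (L.presheaf.stalk x.1)
      (L.presheaf.germ U x.1 x.2 σ)) := by
  constructor
  · refine (injective_iff_map_eq_zero _).2 fun a ha => ?_
    obtain ⟨V, hxV, r, rfl⟩ := TopCat.Presheaf.exists_germ_eq X.presheaf a
    have hle : V ⊓ U ≤ U := inf_le_right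
    have ha' : L.presheaf.germ (V ⊓ U) x.1 ⟨hxV, x.2⟩ (resO (inf_le_left : V ⊓ U ≤ V) r • res L hle σ) =
        L.presheaf.germ (V ⊓ U) x.1 ⟨hxV, x.2⟩ 0 := by
      rw [map_zero, Mero.germ_smul, germ_res, resO, TopCat.Presheaf.germ_res_apply]
      exact ha
    obtain ⟨W, hxW, i, i', e⟩ := TopCat.Presheaf.germ_eq L.presheaf (U := V ⊓ U) (V := V ⊓ U) x.1 ⟨hxV, x.2⟩ ⟨hxV, x.2⟩ _ _ ha'
    have e' : resO i.le (resO inf_le_left r) • res L (i.le.trans hle) σ = 0 := by
      rw [← res_res L hle i.le, ← res_smul]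
      exact e.trans (map_zero _)
    have := (hσ W (i.le.trans hle)).1 (e'.trans (zero_smul _ _).symm)
    rw [← TopCat.Presheaf.germ_res_apply X.presheaf (homOfLE (i.le.trans inf_le_left)) x.1 hxW r]
    rw [resO_resO] at this
    exact (congrArg _ this).trans (map_zero _)
  · intro v
    obtain ⟨V, hxV, m, rfl⟩ := TopCat.Presheaf.exists_germ_eq L.presheaf v
    obtain ⟨r, hr⟩ := (hσ (V ⊓ U) inf_le_right).2 (res L inf_le_left m)
    refine ⟨X.presheaf.germ (V ⊓ U) x.1 ⟨hxV, x.2⟩ r, ?_⟩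
    have := congrArg (L.presheaf.germ (V ⊓ U) x.1 ⟨hxV, x.2⟩) hr
    rw [Mero.germ_smul, germ_res, germ_res] at this
    exact this

/-- the coordinate form of a generator at a point -/
noncomputable def δx {U : X.Opens} {σ : Γ(L, U)} (hσ : GenOn L U σ) (x : U) :
    RefHull.StalkHom L (Coh.structureModule X) x.1 :=
  (LinearMap.toSpanSingleton (X.presheaf.stalk x.1) _ (one x.1)).comp
    (LinearEquiv.ofBijective _ (basis_bijective hσ x)).symm.toLinearMap

lemma δx_gen {U : X.Opens} {σ : Γ(L, U)} (hσ : GenOn L U σ) (x : U) :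
    δx hσ x (L.presheaf.germ U x.1 x.2 σ) = one x.1 := by
  have : (LinearEquiv.ofBijective _ (basis_bijective hσ x)).symm (L.presheaf.germ U x.1 x.2 σ) = 1 := by
    rw [LinearEquiv.symm_apply_eq]
    exact (one_smul (X.presheaf.stalk x.1) _).symm
  show (LinearMap.toSpanSingleton _ _ (one x.1)) ((LinearEquiv.ofBijective _ (basis_bijective hσ x)).symm _) = _
  rw [this, LinearMap.toSpanSingleton_apply, one_smul]

/-- the dual generator -/
noncomputable def δ {U : X.Opens} {σ : Γ(L, U)} (hσ : GenOn L U σ) : Γ(RefHull.dual L, U) :=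
  ⟨fun x => δx hσ x, fun V i m x => by
    obtain ⟨r, rfl⟩ := (hσ V i.le).2 m
    refine ⟨V, x.2, 𝟙 V, (show Γ(Coh.structureModule X, V) from r), fun y => ?_⟩
    dsimp only
    rw [Mero.germ_smul, map_smul, germ_res, germ_fun]
    exact congrArg (X.presheaf.germ V y.1 y.2 r • ·) (δx_gen hσ ⟨y.1, i.le y.2⟩)⟩

/-- pairing of a section with a form -/
theorem exists_pair {U : X.Opens} (m : Γ(L, U)) (φ : Γ(RefHull.dual L, U)) :
    ∃ n : Γ(Coh.structureModule X, U), ∀ (y : X) (hy : y ∈ U),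
      φ.1 ⟨y, hy⟩ (L.presheaf.germ U y hy m) = (Coh.structureModule X).presheaf.germ U y hy n := by
  choose W hxW j n hn using fun x : U => RefHull.isLocSect_of_mem φ U (𝟙 U) m x
  have hcov : iSup W = U := le_antisymm (iSup_le fun x => (j x).le) fun x hx => Opens.mem_iSup.2 ⟨⟨x, hx⟩, hxW ⟨x, hx⟩⟩
  obtain ⟨N, hN⟩ := exists_glue (Coh.structureModule X) W hcov n fun a b => mod_ext _ fun y hy => by
    rw [germ_res, germ_res]
    exact (hn a ⟨y, hy.1⟩).symm.trans (hn b ⟨y, hy.2⟩)
  refine ⟨N, fun y hy => ?_⟩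
  rw [← germ_res (Coh.structureModule X) ((le_iSup W ⟨y, hy⟩).trans hcov.le) y (hxW ⟨y, hy⟩) N, hN]
  exact hn ⟨y, hy⟩ ⟨y, hxW ⟨y, hy⟩⟩

/-- the value of a form on a section -/
noncomputable def pair {U : X.Opens} (m : Γ(L, U)) (φ : Γ(RefHull.dual L, U)) : Γ(Coh.structureModule X, U) :=
  (exists_pair m φ).choose

lemma pair_germ {U : X.Opens} (m : Γ(L, U)) (φ : Γ(RefHull.dual L, U)) (y : X) (hy : y ∈ U) :
    (Coh.structureModule X).presheaf.germ U y hy (pair m φ) = φ.1 ⟨y, hy⟩ (L.presheaf.germ U y hy m) :=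
  ((exists_pair m φ).choose_spec y hy).symm

/-- evaluation `L ⊗ L^∨ ⟶ O` -/
noncomputable def ev (L : X.Modules) : CohB1.tensorMod L (RefHull.dual L) ⟶ Coh.structureModule X :=
  LTensor.lift (M := L) (N := RefHull.dual L) (P := Coh.structureModule X) (fun _ m φ => pair m φ)
    (fun U (m m' : Γ(L, U)) (φ : Γ(RefHull.dual L, U)) => mod_ext _ fun y hy => by
      refine Eq.trans ?_ (map_add ((Coh.structureModule X).presheaf.germ U y hy).hom (pair m φ) (pair m' φ)).symm
      erw [pair_germ, pair_germ, pair_germ]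
      exact (congrArg (φ.1 ⟨y, hy⟩) (map_add (L.presheaf.germ U y hy).hom m m')).trans (map_add (φ.1 ⟨y, hy⟩) _ _))
    (fun U r (m : Γ(L, U)) (φ : Γ(RefHull.dual L, U)) => mod_ext _ fun y hy => by
      refine (pair_germ _ _ y hy).trans (Eq.trans ?_ (Mero.germ_smul (Coh.structureModule X) U y hy r (pair m φ)).symm)
      rw [pair_germ]
      exact (congrArg (φ.1 ⟨y, hy⟩) (Mero.germ_smul L U y hy r m)).trans (map_smul (φ.1 ⟨y, hy⟩) _ _))
    (fun U (m : Γ(L, U)) (φ φ' : Γ(RefHull.dual L, U)) => mod_ext _ fun y hy => by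
      refine Eq.trans ?_ (map_add ((Coh.structureModule X).presheaf.germ U y hy).hom (pair m φ) (pair m φ')).symm
      erw [pair_germ, pair_germ, pair_germ]
      rfl)
    (fun U r (m : Γ(L, U)) (φ : Γ(RefHull.dual L, U)) => mod_ext _ fun y hy => by
      refine (pair_germ _ _ y hy).trans (Eq.trans ?_ (Mero.germ_smul (Coh.structureModule X) U y hy r (pair m φ)).symm)
      rw [pair_germ]
      rfl)
    (fun U V i (m : Γ(L, U)) (φ : Γ(RefHull.dual L, U)) => mod_ext _ fun y hy => by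
      refine (germ_res (Coh.structureModule X) i.le y hy (pair m φ)).trans ?_
      refine (pair_germ m φ y (i.le hy)).trans ?_
      refine Eq.trans ?_ (pair_germ _ _ y hy).symm
      show _ = φ.1 ⟨y, i.le hy⟩ (L.presheaf.germ V y hy (res L i.le m))
      rw [germ_res])

theorem genOn_δ {U : X.Opens} {σ : Γ(L, U)} (hσ : GenOn L U σ) : GenOn (RefHull.dual L) U (δ hσ) := by
  intro W h
  constructor
  · intro r r' e
    have : (show Γ(Coh.structureModule X, W) from r) = r' := mod_ext _ fun y hy => by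
      have h' := congrArg (fun (φ : Γ(RefHull.dual L, W)) => φ.1 ⟨y, hy⟩ (L.presheaf.germ U y (h hy) σ)) e
      have hl : ∀ r : Γ(X, W), (r • res (RefHull.dual L) h (δ hσ)).1 ⟨y, hy⟩ (L.presheaf.germ U y (h hy) σ) =
          X.presheaf.germ W y hy r • one y := fun r =>
        congrArg (X.presheaf.germ W y hy r • ·) (δx_gen hσ ⟨y, h hy⟩)
      rw [germ_fun, germ_fun, ← hl, ← hl]
      exact h'
    exact this
  · intro φ
    refine ⟨pair (res L h σ) φ, Subtype.ext (funext fun y => ?_)⟩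
    refine LinearMap.ext fun v => ?_
    obtain ⟨a, rfl⟩ := (basis_bijective hσ ⟨y.1, h y.2⟩).2 v
    rw [LinearMap.toSpanSingleton_apply, map_smul, map_smul]
    congr 1
    show X.presheaf.germ W y.1 y.2 (pair (res L h σ) φ) • δx hσ ⟨y.1, h y.2⟩ (L.presheaf.germ U y.1 (h y.2) σ) = _
    rw [δx_gen, ← germ_fun]
    refine (pair_germ _ _ y.1 y.2).trans ?_
    rw [germ_res]

theorem pair_δ {U : X.Opens} {σ : Γ(L, U)} (hσ : GenOn L U σ) :
    pair σ (δ hσ) = (show Γ(Coh.structureModule X, U) from (1 : Γ(X, U))) := mod_ext _ fun y hy => by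
  rw [pair_germ, germ_fun, map_one, one_smul]
  exact δx_gen hσ ⟨y, hy⟩

theorem isInvertible_dual (hL : PicF.IsInvertible L) : PicF.IsInvertible (RefHull.dual L) :=
  (isInvertible_iff _).2 fun x =>
    let ⟨U, _, hx, hσ⟩ := (isInvertible_iff _).1 hL x
    ⟨U, _, hx, genOn_δ hσ⟩

theorem isIso_ev (hL : PicF.IsInvertible L) : IsIso (ev L) := by
  refine LAmple.pullPow.isIso_of_gen (ev L) fun x => ?_
  obtain ⟨U, σ, hx, hσ⟩ := (isInvertible_iff _).1 hL x
  refine ⟨U, SecTwist.tmul L (RefHull.dual L) U σ (δ hσ), hx, genOn_tensor hσ (genOn_δ hσ), ?_⟩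
  have : (ev L).app U (SecTwist.tmul L (RefHull.dual L) U σ (δ hσ)) =
      (show Γ(Coh.structureModule X, U) from (1 : Γ(X, U))) := by
    unfold ev
    exact (LTensor.lift_tmul _ _ _ _ _ _ U σ (δ hσ)).trans (pair_δ hσ)
  rw [this]
  intro W h
  have h1 : res (Coh.structureModule X) h (show Γ(Coh.structureModule X, U) from (1 : Γ(X, U))) = (1 : Γ(X, W)) :=
    map_one (X.presheaf.map (homOfLE h).op).hom
  exact h1 ▸ bij_smul_one

/-- `L ⊗ L^∨ ≅ O` -/
theorem inverse (hL : PicF.IsInvertible L) :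
    PicF.IsInvertible (RefHull.dual L) ∧ Nonempty (CohB1.tensorMod L (RefHull.dual L) ≅ Coh.structureModule X) :=
  haveI := isIso_ev hL
  ⟨isInvertible_dual hL, ⟨asIso (ev L)⟩⟩

theorem exists_inverse (hL : PicF.IsInvertible L) :
    ∃ M : X.Modules, PicF.IsInvertible M ∧ ClSub.IsInverseOf L M :=
  ⟨_, (inverse hL).1, (inverse hL).2⟩

/-- two-sided inverses agree -/
theorem inverse_unique {M M' : X.Modules} (e : ClSub.IsInverseOf L M) (e' : ClSub.IsInverseOf L M') :
    Nonempty (M ≅ M') := by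
  obtain ⟨e⟩ := e
  obtain ⟨e'⟩ := e'
  obtain ⟨a⟩ := LTensor.assoc M L M'
  exact ⟨(LTensor.unitorL M).symm ≪≫ LTensor.mapIso e'.symm (Iso.refl M) ≪≫ LTensor.comm _ _ ≪≫
    a.symm ≪≫ LTensor.mapIso (LTensor.comm M L ≪≫ e) (Iso.refl M') ≪≫ LTensor.unitorL M'⟩

theorem inverse_symm {M : X.Modules} (e : ClSub.IsInverseOf L M) : ClSub.IsInverseOf M L :=
  e.map fun e => LTensor.comm M L ≪≫ e

/-- an inverse of an invertible module is invertible -/
theorem isInvertible_of_inverse (hL : PicF.IsInvertible L) {M : X.Modules} (e : ClSub.IsInverseOf L M) :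
    PicF.IsInvertible M :=
  let ⟨i⟩ := inverse_unique (inverse hL).2 e
  LInv.isInvertible_of_iso i (inverse hL).1

end Groth.Agent.LDual
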