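import Groth.Agent.Lib.SourceDescentRing

/-! Formal unramifiedness and smoothness descend along etale faithfully flat algebras (source descent). -/

set_option backward.isDefEq.respectTransparency.types false
set_option linter.style.haveILetI false

universe u

open TensorProduct

namespace Groth.Agent.SourceDescent

variable (R A B : Type u) [CommRing R] [CommRing A] [CommRing B] [Algebra R A] [Algebra A B]
  [Algebra R B] [IsScalarTower R A B]

theorem formallyUnramified_of_etale [Algebra.FormallyEtale A B] [Module.FaithfullyFlat A B]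
    [Algebra.FormallyUnramified R B] : Algebra.FormallyUnramified R A := by
  refine ⟨?_⟩
  have : Subsingleton (B ⊗[A] Ω[A⁄R]) :=
    (KaehlerDifferential.tensorKaehlerEquivOfFormallyEtale R A B).toEquiv.subsingleton
  exact Module.FaithfullyFlat.lTensor_reflects_triviality A B _

/-- A standard etale pair lifts along a surjection. -/
theorem exists_lift_pair {P : Type u} [CommRing P] [Algebra P A]
    (hπ : Function.Surjective (algebraMap P A)) (T : Type u) [CommRing T] [Algebra A T]
    [Algebra.IsStandardEtale A T] :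
    ∃ E : StandardEtalePair P, Nonempty (T ≃ₐ[A] A ⊗[P] E.Ring) := by
  obtain ⟨p⟩ := Algebra.IsStandardEtale.nonempty_standardEtalePresentation (R := A) (S := T)
  rcases subsingleton_or_nontrivial A with hA | hA
  · haveI : Subsingleton T := RingHom.codomain_trivial (algebraMap A T)
    let E : StandardEtalePair P := ⟨1, Polynomial.monic_one, 1, 0, 1, 0, by simp⟩
    haveI : Subsingleton (A ⊗[P] E.Ring) := RingHom.codomain_trivial (algebraMap A (A ⊗[P] E.Ring))
    refine ⟨E, ⟨⟨⟨fun _ => 0, fun _ => 0, fun _ => Subsingleton.elim _ _, fun _ => Subsingleton.elim _ _⟩,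
      ?_, ?_, ?_⟩⟩⟩ <;> intros <;> exact Subsingleton.elim _ _
  obtain ⟨f, hf, -, hfm⟩ := Polynomial.lifts_and_degree_eq_and_monic
    ((Polynomial.map_surjective _ hπ) p.f |> fun ⟨q, hq⟩ => (⟨q, hq⟩ : p.f ∈ Polynomial.lifts (algebraMap P A)))
    p.monic_f
  obtain ⟨g, hg⟩ := Polynomial.map_surjective _ hπ p.g
  let E : StandardEtalePair P :=
    ⟨f, hfm, g * Polynomial.derivative f, g, 0, 1, by rw [mul_zero, add_zero, pow_one, mul_comm]⟩
  let E' := E.map (algebraMap P A)
  have h₁ : E'.f = p.f := hf
  have h₂ : E'.g = p.g * Polynomial.derivative p.f := by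
    change Polynomial.map _ (g * Polynomial.derivative f) = _
    rw [Polynomial.map_mul, hg, ← Polynomial.derivative_map, hf]
  have hp : E'.HasMap p.x := by
    refine ⟨h₁ ▸ p.hasMap.1, ?_⟩
    rw [h₂, map_mul]
    exact p.hasMap.2.mul p.hasMap.isUnit_derivative_f
  have hX : p.P.HasMap E'.X := by
    refine ⟨h₁ ▸ StandardEtalePair.hasMap_X.1, ?_⟩
    have := (StandardEtalePair.hasMap_X (P := E')).2
    rw [h₂, map_mul] at this
    exact isUnit_of_mul_isUnit_left this
  let q : StandardEtalePresentation P E.Ring :=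
    { __ := E
      x := E.X
      hasMap := StandardEtalePair.hasMap_X
      lift_bijective := by rw [StandardEtalePair.lift_X_left]; exact Function.bijective_id }
  let φ : T ≃ₐ[A] E'.Ring := AlgEquiv.ofAlgHom ((p.P.lift E'.X hX).comp p.equivRing.toAlgHom)
    (E'.lift p.x hp) (E'.hom_ext (by simp)) (p.hom_ext (by simp))
  exact ⟨E, ⟨φ.trans ((q.baseChange (T := A)).equivRing).symm⟩⟩

theorem flat_h1_subsingleton {P : Algebra.Extension.{u} R A} [Algebra.FormallySmooth R P.Ring]
    (Q : Type u) [CommRing Q] [Algebra P.Ring Q] [Algebra.Etale P.Ring Q] [Algebra R Q]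
    [IsScalarTower R P.Ring Q] [Subsingleton (Algebra.H1Cotangent R (A ⊗[P.Ring] Q))] :
    Subsingleton ((A ⊗[P.Ring] Q) ⊗[A] Algebra.H1Cotangent R A) := by
  let π : Q →ₐ[R] A ⊗[P.Ring] Q :=
    (Algebra.TensorProduct.includeRight (R := P.Ring) (A := A) (B := Q)).restrictScalars R
  have hπ : Function.Surjective π := fun z => by
    induction z using TensorProduct.induction_on with
    | zero => exact ⟨0, map_zero _⟩
    | add x y hx hy =>
      obtain ⟨a, rfl⟩ := hx
      obtain ⟨b, rfl⟩ := hy
      exact ⟨a + b, map_add _ _ _⟩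
    | tmul a q =>
      obtain ⟨p, rfl⟩ := P.algebraMap_surjective a
      refine ⟨p • q, ?_⟩
      change (1 : A) ⊗ₜ[P.Ring] (p • q) = _
      rw [← TensorProduct.smul_tmul, Algebra.smul_def, mul_one]
  let QE : Algebra.Extension R (A ⊗[P.Ring] Q) := .ofSurjective π hπ
  let f : P.Hom QE :=
    { toRingHom := algebraMap P.Ring Q
      toRingHom_algebraMap := fun x => (IsScalarTower.algebraMap_apply R P.Ring Q x).symm
      algebraMap_toRingHom := fun x => by
        change (1 : A) ⊗ₜ[P.Ring] algebraMap P.Ring Q x = algebraMap P.Ring A x ⊗ₜ[P.Ring] (1 : Q)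
        rw [Algebra.TensorProduct.tmul_one_eq_one_tmul] }
  letI : Algebra P.Ring QE.Ring := ‹Algebra P.Ring Q›
  haveI : Algebra.FormallySmooth P.Ring QE.Ring := (inferInstance : Algebra.FormallySmooth P.Ring Q)
  haveI : IsScalarTower R P.Ring QE.Ring := ‹IsScalarTower R P.Ring Q›
  haveI : Algebra.FormallySmooth R QE.Ring := .comp R P.Ring QE.Ring
  have hker : QE.ker = Ideal.map (algebraMap P.Ring Q) P.ker := by
    have h := Algebra.TensorProduct.rTensor_ker (R := P.Ring) (C := Q) (Algebra.ofId P.Ring A)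
      P.algebraMap_surjective
    have e : (Algebra.TensorProduct.map (Algebra.ofId P.Ring A) (AlgHom.id P.Ring Q)).toRingHom.comp
        (Algebra.TensorProduct.lid P.Ring Q).symm.toRingHom = π.toRingHom := by
      ext q
      change Algebra.TensorProduct.map _ _ ((1 : P.Ring) ⊗ₜ[P.Ring] q) = (1 : A) ⊗ₜ[P.Ring] q
      simp
    change RingHom.ker π.toRingHom = _
    rw [← e, ← RingHom.comap_ker,
      show RingHom.ker (Algebra.TensorProduct.map (Algebra.ofId P.Ring A) (AlgHom.id P.Ring Q)).toRingHom = _
        from h]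
    let el := (Algebra.TensorProduct.lid P.Ring Q).toRingEquiv
    change Ideal.comap el.symm _ = _
    rw [Ideal.comap_symm]
    change Ideal.map el.toRingHom (Ideal.map (Algebra.TensorProduct.includeLeftRingHom) _) = _
    rw [Ideal.map_map]
    congr 1
    ext p
    change Algebra.TensorProduct.lid P.Ring Q (p ⊗ₜ 1) = _
    simp [Algebra.smul_def]
  have h₂ : Function.Bijective ((f.mapKer rfl).liftBaseChange QE.Ring) := by
    constructor
    · let val : QE.ker →ₗ[QE.Ring] QE.Ring := QE.ker.subtype
      have e : (val ∘ₗ (f.mapKer rfl).liftBaseChange QE.Ring).restrictScalars P.Ring =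
          ((TensorProduct.rid P.Ring QE.Ring).toLinearMap ∘ₗ
            LinearMap.lTensor QE.Ring (Submodule.subtype P.ker)) := by
        ext q x
        change q • algebraMap P.Ring QE.Ring x.1 = (x.1 : P.Ring) • q
        rw [smul_eq_mul, Algebra.smul_def]
        exact mul_comm _ _
      refine Function.Injective.of_comp (f := val) ?_
      have : Function.Injective ((TensorProduct.rid P.Ring QE.Ring).toLinearMap ∘ₗ
            LinearMap.lTensor QE.Ring (Submodule.subtype P.ker)) := by
        haveI : Module.Flat P.Ring QE.Ring := (inferInstance : Module.Flat P.Ring Q)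
        exact (TensorProduct.rid P.Ring QE.Ring).injective.comp
          (Module.Flat.lTensor_preserves_injective_linearMap _ Subtype.val_injective)
      rw [← e] at this
      exact this
    · intro y
      have hy : (y.1 : QE.Ring) ∈ Ideal.map (algebraMap P.Ring QE.Ring) P.ker := by
        show y.1 ∈ Ideal.map (algebraMap P.Ring Q) P.ker
        rw [← hker]
        exact y.2
      suffices hh : ∀ z ∈ Ideal.map (algebraMap P.Ring QE.Ring) P.ker,
          ∃ t, ((f.mapKer rfl).liftBaseChange QE.Ring t).1 = z by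
        obtain ⟨t, ht⟩ := hh _ hy
        exact ⟨t, Subtype.ext ht⟩
      intro z hz
      refine Submodule.span_induction ?_ ?_ ?_ ?_ hz
      · rintro _ ⟨x, hx, rfl⟩
        refine ⟨(1 : QE.Ring) ⊗ₜ ⟨x, hx⟩, ?_⟩
        rw [LinearMap.liftBaseChange_tmul, one_smul]
        rfl
      · exact ⟨0, by rw [map_zero]; rfl⟩
      · rintro _ _ _ _ ⟨s, rfl⟩ ⟨t, rfl⟩
        exact ⟨s + t, by rw [map_add]; rfl⟩
      · rintro q _ _ ⟨t, rfl⟩
        exact ⟨q • t, by rw [map_smul]; rfl⟩
  have H₁ : f.toRingHom.FormallyEtale :=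
    RingHom.formallyEtale_algebraMap.mpr (inferInstance : Algebra.FormallyEtale P.Ring Q)
  let e₁ := Algebra.Extension.tensorH1CotangentOfFormallyEtale f rfl H₁ h₂
  haveI : Subsingleton QE.H1Cotangent :=
    (Algebra.Extension.equivH1CotangentOfFormallySmooth QE).toEquiv.subsingleton
  haveI : Subsingleton ((A ⊗[P.Ring] Q) ⊗[A] P.H1Cotangent) := e₁.toEquiv.subsingleton
  exact ((Algebra.Extension.equivH1CotangentOfFormallySmooth P).symm.lTensor
    (A ⊗[P.Ring] Q)).toEquiv.subsingleton

theorem smooth_of_etale [Algebra.Etale A B] [Module.FaithfullyFlat A B] [Algebra.Smooth R B] :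
    Algebra.Smooth R A := by
  haveI hfp : Algebra.FinitePresentation R A := finitePresentation_of_smooth R A B
  refine ⟨?_, hfp⟩
  rw [Algebra.formallySmooth_iff]
  constructor
  · haveI : Module.Flat B (B ⊗[A] Ω[A⁄R]) :=
      .of_linearEquiv (KaehlerDifferential.tensorKaehlerEquivOfFormallyEtale R A B)
    haveI : Module.Flat A Ω[A⁄R] := Module.Flat.of_flat_tensorProduct _ _ B
    exact Module.Flat.projective_of_finitePresentation
  refine ⟨fun m₀ m₁ => ?_⟩
  suffices ∀ m : Algebra.H1Cotangent R A, m = 0 by rw [this m₀, this m₁]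
  intro m
  by_contra hm
  obtain ⟨p, hp, hle⟩ := Ideal.exists_le_maximal (LinearMap.ker (LinearMap.toSpanSingleton A _ m))
    (fun h => hm (by
      have h1 : (1 : A) ∈ LinearMap.ker (LinearMap.toSpanSingleton A _ m) := by rw [h]; trivial
      simpa using h1))
  obtain ⟨q, hq⟩ := PrimeSpectrum.comap_surjective_of_faithfullyFlat (A := A) (B := B) ⟨p, hp.isPrime⟩
  obtain ⟨g, hg, hst⟩ := Algebra.IsEtaleAt.exists_isStandardEtale (R := A) (S := B) q.asIdeal
  let T := Localization.Away g
  haveI : Algebra.IsStandardEtale A T := hst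
  let P : Algebra.Extension R A := (Algebra.Generators.self R A).toExtension
  haveI : Algebra.FormallySmooth R P.Ring := inferInstanceAs (Algebra.FormallySmooth R (MvPolynomial A R))
  obtain ⟨E, ⟨e⟩⟩ := exists_lift_pair (P := P.Ring) A P.algebraMap_surjective T
  letI : Algebra R E.Ring := ((algebraMap P.Ring E.Ring).comp (algebraMap R P.Ring)).toAlgebra
  haveI : IsScalarTower R P.Ring E.Ring := IsScalarTower.of_algebraMap_eq' rfl
  haveI : Algebra.Smooth R T := Algebra.Smooth.comp R B T
  haveI : Subsingleton (Algebra.H1Cotangent R (A ⊗[P.Ring] E.Ring)) :=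
    (Algebra.H1Cotangent.mapEquiv R _ _ (e.restrictScalars R)).symm.toEquiv.subsingleton
  haveI := flat_h1_subsingleton (R := R) (A := A) (P := P) E.Ring
  haveI : Subsingleton (T ⊗[A] Algebra.H1Cotangent R A) :=
    (e.toLinearEquiv.rTensor (Algebra.H1Cotangent R A)).toEquiv.subsingleton
  let l := LinearMap.toSpanSingleton A (Algebra.H1Cotangent R A) m
  have hinj : Function.Injective (LinearMap.lTensor T (l.ker.liftQ l le_rfl)) :=
    Module.Flat.lTensor_preserves_injective_linearMap _
      (LinearMap.ker_eq_bot.1 (Submodule.ker_liftQ_eq_bot _ _ _ le_rfl))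
  haveI : Subsingleton (T ⊗[A] (A ⧸ l.ker)) := hinj.subsingleton
  let mI : Ideal A := l.ker
  haveI : Subsingleton (T ⧸ mI.map (algebraMap A T)) :=
    (Algebra.TensorProduct.quotIdealMapEquivTensorQuot T mI).toEquiv.subsingleton
  have htop : mI.map (algebraMap A T) = ⊤ := Ideal.Quotient.subsingleton_iff.1 inferInstance
  haveI hqT : (q.asIdeal.map (algebraMap B T)).IsPrime :=
    IsLocalization.isPrime_of_isPrime_disjoint (.powers g) _ _ q.2
      ((Ideal.disjoint_powers_iff_notMem_of_isPrime _).mpr hg)
  refine hqT.ne_top (top_le_iff.1 (htop ▸ ?_))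
  rw [IsScalarTower.algebraMap_eq A B T, ← Ideal.map_map]
  refine Ideal.map_mono ((Ideal.map_le_iff_le_comap).2 (hle.trans ?_))
  exact le_of_eq (congrArg (·.asIdeal) hq).symm

theorem etale_of_etale [Algebra.Etale A B] [Module.FaithfullyFlat A B] [Algebra.Etale R B] :
    Algebra.Etale R A := by
  rw [Algebra.Etale.iff_formallyUnramified_and_smooth]
  exact ⟨formallyUnramified_of_etale R A B, smooth_of_etale R A B⟩

end Groth.Agent.SourceDescent
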