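import Mathlib
import Groth.Prelude.Def_EtBase
import Groth.Agent.Lib.SourceDescentSmooth

/-! Étale neighbourhoods lift along closed immersions. -/

set_option autoImplicit false
universe u
open CategoryTheory Category Limits Opposite AlgebraicGeometry TensorProduct

namespace Groth.Agent.LEtLift

theorem exists_lift_open {Z X : Scheme.{u}} (i : Z ⟶ X) [IsClosedImmersion i] (W : Z.Etale) (w : W.left) :
    ∃ (V : X.Etale) (φ : (EtCoh.bc i).obj V ⟶ W), IsOpenImmersion φ.left ∧ w ∈ Set.range φ.left := by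
  obtain ⟨_, ⟨U, hU, rfl⟩, hxU, -⟩ :=
    X.isBasis_affineOpens.exists_subset_of_mem_open (Set.mem_univ (i (W.hom w))) isOpen_univ
  have hZU : IsAffineOpen (i ⁻¹ᵁ U) := hU.preimage i
  have hwU : w ∈ W.hom ⁻¹ᵁ (i ⁻¹ᵁ U) := hxU
  obtain ⟨_, ⟨O, hO, rfl⟩, hwO, hOle⟩ :=
    W.left.isBasis_affineOpens.exists_subset_of_mem_open hwU (W.hom ⁻¹ᵁ (i ⁻¹ᵁ U)).2
  let r := i.appLE U (i ⁻¹ᵁ U) le_rfl
  let g : W.left ⟶ Z := W.hom
  let s : Γ(Z, i ⁻¹ᵁ U) ⟶ Γ(W.left, O) := g.appLE (i ⁻¹ᵁ U) O hOle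
  have hr : Function.Surjective r.hom := by
    have : r = i.app U := i.appLE_eq_app
    rw [this]
    exact i.app_surjective U hU
  have hs : s.hom.Etale := HasRingHomProperty.appLE @Etale g W.prop ⟨_, hZU⟩ ⟨_, hO⟩ hOle
  letI : Algebra Γ(X, U) Γ(Z, i ⁻¹ᵁ U) := r.hom.toAlgebra
  letI : Algebra Γ(Z, i ⁻¹ᵁ U) Γ(W.left, O) := s.hom.toAlgebra
  haveI : Algebra.Etale Γ(Z, i ⁻¹ᵁ U) Γ(W.left, O) := hs
  let q := hO.primeIdealOf ⟨w, hwO⟩
  obtain ⟨f, hf, hst⟩ := Algebra.IsEtaleAt.exists_isStandardEtale (R := Γ(Z, i ⁻¹ᵁ U)) (S := Γ(W.left, O)) q.asIdeal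
  haveI := hst
  obtain ⟨E, ⟨e⟩⟩ := SourceDescent.exists_lift_pair (P := Γ(X, U)) Γ(Z, i ⁻¹ᵁ U) hr (Localization.Away f)
  let a : Γ(X, U) ⟶ CommRingCat.of E.Ring := CommRingCat.ofHom (algebraMap Γ(X, U) E.Ring)
  have ha : Etale (Spec.map a) :=
    (HasRingHomProperty.Spec_iff (P := @Etale)).2 (RingHom.etale_algebraMap.2 inferInstance)
  have : Etale (Spec.map a ≫ hU.fromSpec) := MorphismProperty.comp_mem @Etale _ _ ha inferInstance
  let V : X.Etale := Scheme.Etale.mk (Spec.map a ≫ hU.fromSpec)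
  let b : Γ(W.left, O) ⟶ CommRingCat.of (Γ(Z, i ⁻¹ᵁ U) ⊗[Γ(X, U)] E.Ring) :=
    CommRingCat.ofHom ((e.toRingEquiv.toRingHom).comp (algebraMap Γ(W.left, O) (Localization.Away f)))
  let c : Γ(Z, i ⁻¹ᵁ U) ⟶ CommRingCat.of (Γ(Z, i ⁻¹ᵁ U) ⊗[Γ(X, U)] E.Ring) :=
    CommRingCat.ofHom Algebra.TensorProduct.includeLeftRingHom
  have hcb : s ≫ b = c := by
    refine CommRingCat.hom_ext (RingHom.ext fun x => ?_)
    change e (algebraMap Γ(W.left, O) (Localization.Away f) (algebraMap _ Γ(W.left, O) x)) = _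
    rw [← IsScalarTower.algebraMap_apply]
    exact e.commutes x
  have hA : IsPullback (Spec.map r) hZU.fromSpec hU.fromSpec i := by
    refine (IsOpenImmersion.isPullback (Spec.map r) hZU.fromSpec hU.fromSpec i
      (hU.SpecMap_appLE_fromSpec i hZU le_rfl).symm ?_)
    rw [hZU.opensRange_fromSpec, hU.opensRange_fromSpec]
  have hB := (isPullback_SpecMap_of_isPushout _ _ _ _
    (CommRingCat.isPushout_tensorProduct Γ(X, U) Γ(Z, i ⁻¹ᵁ U) E.Ring)).flip
  have hP : IsPullback (Spec.map (CommRingCat.ofHom (S := Γ(Z, i ⁻¹ᵁ U) ⊗[Γ(X, U)] E.Ring)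
      Algebra.TensorProduct.includeRight.toRingHom)) (Spec.map c ≫ hZU.fromSpec)
      (Spec.map a ≫ hU.fromSpec) i := hB.paste_vert hA
  let m : ((EtCoh.bc i).obj V).left ⟶ W.left := hP.isoPullback.inv ≫ Spec.map b ≫ hO.fromSpec
  have hm : m ≫ W.hom = ((EtCoh.bc i).obj V).hom := by
    simp only [m, Category.assoc]
    change _ ≫ _ ≫ _ ≫ g = _
    rw [← hZU.SpecMap_appLE_fromSpec g hO hOle, ← Spec.map_comp_assoc]
    change hP.isoPullback.inv ≫ Spec.map (s ≫ b) ≫ _ = _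
    rw [hcb]
    exact hP.isoPullback_inv_snd
  haveI : IsOpenImmersion (Spec.map (CommRingCat.ofHom (algebraMap Γ(W.left, O) (Localization.Away f)))) :=
    IsOpenImmersion.of_isLocalization f
  have hb : IsOpenImmersion (Spec.map b) := by
    let e' : CommRingCat.of (Localization.Away f) ≅ CommRingCat.of (Γ(Z, i ⁻¹ᵁ U) ⊗[Γ(X, U)] E.Ring) :=
      e.toRingEquiv.toCommRingCatIso
    have : b = CommRingCat.ofHom (algebraMap Γ(W.left, O) (Localization.Away f)) ≫ e'.hom := rfl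
    rw [this, Spec.map_comp]
    infer_instance
  haveI := hb
  refine ⟨V, MorphismProperty.Over.homMk m hm trivial, ?_, ?_⟩
  · change IsOpenImmersion (hP.isoPullback.inv ≫ Spec.map b ≫ hO.fromSpec)
    infer_instance
  obtain ⟨t, ht⟩ : q ∈ Set.range (PrimeSpectrum.comap (algebraMap Γ(W.left, O) (Localization.Away f))) := by
    rw [PrimeSpectrum.localization_away_comap_range (Localization.Away f) f]
    exact hf
  let t' : Spec (CommRingCat.of (Γ(Z, i ⁻¹ᵁ U) ⊗[Γ(X, U)] E.Ring)) :=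
    PrimeSpectrum.comap e.symm.toRingEquiv.toRingHom t
  refine ⟨hP.isoPullback.hom t', ?_⟩
  change m (hP.isoPullback.hom t') = w
  refine (Scheme.Hom.comp_apply hP.isoPullback.hom m t').symm.trans ?_
  have hh : hP.isoPullback.hom ≫ m = Spec.map b ≫ hO.fromSpec := hP.isoPullback.hom_inv_id_assoc _
  refine (congrArg (fun k : Spec _ ⟶ W.left => k t') hh).trans ((Scheme.Hom.comp_apply _ _ t').trans ?_)
  refine (congrArg hO.fromSpec ?_).trans (hO.fromSpec_primeIdealOf ⟨w, hwO⟩)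
  refine Eq.trans ?_ ht
  apply PrimeSpectrum.ext
  ext x
  change e.symm (e (algebraMap Γ(W.left, O) (Localization.Away f) x)) ∈ t.asIdeal ↔ _
  rw [e.symm_apply_apply]
  rfl

theorem exists_lift {Z X : Scheme.{u}} (i : Z ⟶ X) [IsClosedImmersion i] (W : Z.Etale) (w : W.left) :
    ∃ (V : X.Etale) (φ : (EtCoh.bc i).obj V ⟶ W), w ∈ Set.range φ.left :=
  let ⟨V, φ, _, h⟩ := exists_lift_open i W w
  ⟨V, φ, h⟩

end Groth.Agent.LEtLift
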