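import Groth.Agent.Lib.LEtStalkPull

/-! The comparison of stalks of an inverse image, on germs. -/

set_option autoImplicit false
universe u
open CategoryTheory Category Limits Opposite AlgebraicGeometry

namespace Groth.Agent.LEtStalkPull

variable {X Y : Scheme.{u}} (f : X ⟶ Y) {Ω : Type u} [Field Ω] [IsSepClosed Ω] (ξ : Spec (CommRingCat.of Ω) ⟶ X)

lemma germ_comapIso (F : EtCoh.Ab Y) (V : Y.Etale) (x : (Scheme.pointSmallEtale ξ).fiber.obj ((EtCoh.bc f).obj V)) :
    ((Scheme.pointSmallEtale ξ).comap (EtCoh.bc f) (EtCoh.coverPreserving_bc f)).toPresheafFiber V x F.obj ≫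
      ((Scheme.pointSmallEtale ξ).sheafFiberComapIso (EtCoh.bc f) (EtCoh.coverPreserving_bc f) AddCommGrpCat.{u + 1}).hom.app F =
      ((EtCoh.pullPushAdj f).unit.app F).hom.app (op V) ≫
        (Scheme.pointSmallEtale ξ).toPresheafFiber ((EtCoh.bc f).obj V) x ((EtCoh.pull f).obj F).obj := by
  let Φ := Scheme.pointSmallEtale ξ
  let hF := EtCoh.coverPreserving_bc f
  let adj₁ := ((EtCoh.bc f).sheafAdjunctionContinuous AddCommGrpCat.{u + 1} Y.smallEtaleTopology
    X.smallEtaleTopology).comp Φ.skyscraperSheafAdjunction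
  let adj₂ := (Φ.comap (EtCoh.bc f) hF).skyscraperSheafAdjunction (A := AddCommGrpCat.{u + 1})
  have h := unit_conjugateEquiv_symm adj₁ adj₂
    (Φ.skyscraperSheafFunctorCompSheafPushforwardContinuous (EtCoh.bc f) hF AddCommGrpCat.{u + 1}).hom F
  have h2 : adj₁.unit.app F = adj₂.homEquiv _ _
      ((Φ.sheafFiberComapIso (EtCoh.bc f) hF AddCommGrpCat.{u + 1}).hom.app F) := by
    rw [Adjunction.homEquiv_unit]
    exact (Category.comp_id _).symm.trans h
  have h3 := congrArg (fun t : F ⟶ _ => t.hom.app (op V) ≫ Pi.π _ x) h2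
  have e2 : (adj₂.homEquiv F _ ((Φ.sheafFiberComapIso (EtCoh.bc f) hF AddCommGrpCat.{u + 1}).hom.app F)).hom.app (op V) ≫ Pi.π _ x =
      (Φ.comap (EtCoh.bc f) hF).toPresheafFiber V x F.obj ≫
        (Φ.sheafFiberComapIso (EtCoh.bc f) hF AddCommGrpCat.{u + 1}).hom.app F := by
    erw [(Φ.comap (EtCoh.bc f) hF).skyscraperSheafAdjunction_homEquiv_apply_hom]
    rw [GrothendieckTopology.Point.skyscraperPresheafHomEquiv_apply_app]
    exact Pi.lift_π _ _
  have e1 : (adj₁.unit.app F).hom.app (op V) ≫ Pi.π _ x =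
      ((EtCoh.pullPushAdj f).unit.app F).hom.app (op V) ≫
        Φ.toPresheafFiber ((EtCoh.bc f).obj V) x ((EtCoh.pull f).obj F).obj := by
    simp only [adj₁, Adjunction.comp_unit_app]
    refine (Category.assoc _ _ _).trans (congrArg (((EtCoh.pullPushAdj f).unit.app F).hom.app (op V) ≫ ·) ?_)
    change (Φ.skyscraperPresheafHomEquiv (𝟙 _)).app (op ((EtCoh.bc f).obj V)) ≫ _ = _
    rw [GrothendieckTopology.Point.skyscraperPresheafHomEquiv_apply_app]
    exact (Pi.lift_π _ _).trans (Category.comp_id _)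
  exact e2.symm.trans (h3.symm.trans e1)

lemma germ_inv {C : Type*} [Category* C] {J : GrothendieckTopology C} (Φ₁ Φ₂ : GrothendieckTopology.Point.{u} J)
    (e : Φ₁.fiber ≅ Φ₂.fiber) (P : Cᵒᵖ ⥤ AddCommGrpCat.{u + 1}) (V : C) (y : Φ₁.fiber.obj V) :
    Φ₂.toPresheafFiber V (e.hom.app V y) P ≫
      (GrothendieckTopology.Point.Hom.mk e.inv : Φ₁ ⟶ Φ₂).presheafFiber.app P = Φ₁.toPresheafFiber V y P := by
  simp [GrothendieckTopology.Point.Hom.presheafFiber]

lemma germ_stalkPull (F : EtCoh.Ab Y) (V : Y.Etale) (x : (Scheme.pointSmallEtale ξ).fiber.obj ((EtCoh.bc f).obj V)) :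
    (Scheme.pointSmallEtale (ξ ≫ f)).toPresheafFiber V ((fiberIso f ξ).hom.app V x) F.obj ≫
      (stalkPullIso f ξ).inv.app F =
      ((EtCoh.pullPushAdj f).unit.app F).hom.app (op V) ≫
        (Scheme.pointSmallEtale ξ).toPresheafFiber ((EtCoh.bc f).obj V) x ((EtCoh.pull f).obj F).obj := by
  rw [← germ_comapIso]
  simp only [stalkPullIso, Iso.trans_inv, Iso.symm_inv, NatTrans.comp_app]
  refine (Category.assoc _ _ _).symm.trans (congrArg (· ≫ _) ?_)
  exact germ_inv ((Scheme.pointSmallEtale ξ).comap (EtCoh.bc f) (EtCoh.coverPreserving_bc f))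
    (Scheme.pointSmallEtale (ξ ≫ f)) (fiberIso f ξ) F.obj V x

end Groth.Agent.LEtStalkPull
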