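import Groth.Agent.Lib.LEtImm
import Groth.Agent.Lib.LEtLift
import Groth.Agent.Lib.LEtStalkPullGerm

/-! Direct images along closed immersions of small étale sites. -/

set_option autoImplicit false
universe u
open CategoryTheory Category Limits Opposite AlgebraicGeometry

namespace Groth.Agent.LEtClosed

variable {Z X : Scheme.{u}} (i : Z ⟶ X) [IsClosedImmersion i]

section maps

variable {W : Z.Etale} {V : X.Etale}

/-- two maps agreeing at a point agree on a neighbourhood coming from `X` -/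
lemma exists_refine {Ω : Type u} [Field Ω] [IsSepClosed Ω] (ζ : Spec (CommRingCat.of Ω) ⟶ Z)
    (a b : (EtCoh.bc i).obj V ⟶ W) (y : (Scheme.pointSmallEtale ζ).fiber.obj ((EtCoh.bc i).obj V))
    (h : (Scheme.pointSmallEtale ζ).fiber.map a y = (Scheme.pointSmallEtale ζ).fiber.map b y) :
    ∃ (V' : X.Etale) (o : V' ⟶ V) (y' : (Scheme.pointSmallEtale ζ).fiber.obj ((EtCoh.bc i).obj V')),
      (Scheme.pointSmallEtale ζ).fiber.map ((EtCoh.bc i).map o) y' = y ∧
        (EtCoh.bc i).map o ≫ a = (EtCoh.bc i).map o ≫ b := by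
  let B : Scheme.{u} := ((EtCoh.bc i).obj V).left
  let g : W.left ⟶ Z := W.hom
  haveI : Etale g := W.prop
  have hw : (a.left : B ⟶ W.left) ≫ g = b.left ≫ g :=
    (MorphismProperty.Over.w a).trans (MorphismProperty.Over.w b).symm
  let d : B ⟶ pullback g g := pullback.lift a.left b.left hw
  let e : pullback (pullback.diagonal g) d ⟶ B := pullback.snd _ _
  have he : (e ≫ a.left : _ ⟶ W.left) = e ≫ b.left := by
    have h1 : e ≫ d = pullback.fst (pullback.diagonal g) d ≫ pullback.diagonal g :=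
      pullback.condition.symm
    calc e ≫ a.left = (e ≫ d) ≫ pullback.fst g g := by rw [Category.assoc, pullback.lift_fst]
      _ = (e ≫ d) ≫ pullback.snd g g := by rw [h1, Category.assoc, Category.assoc, pullback.diagonal_fst, pullback.diagonal_snd]
      _ = e ≫ b.left := by rw [Category.assoc, pullback.lift_snd]
  have hy : (y.left ≫ a.left : _ ⟶ W.left) = y.left ≫ b.left := congrArg (fun t => t.left) h
  let t : Spec (CommRingCat.of Ω) ⟶ pullback (pullback.diagonal g) d :=
    pullback.lift (y.left ≫ a.left) y.left (pullback.hom_ext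
      (by simp only [d, Category.assoc, pullback.diagonal_fst, Category.comp_id, pullback.lift_fst]; rfl)
      (by simp only [d, Category.assoc, pullback.diagonal_snd, Category.comp_id, pullback.lift_snd]; exact hy))
  haveI : IsOpenImmersion e := inferInstance
  let p : B ⟶ V.left := pullback.fst V.hom i
  have hp : Topology.IsInducing p := (inferInstance : IsClosedImmersion (pullback.fst V.hom i)).base_closed.isInducing
  obtain ⟨O, hO, hOeq⟩ := hp.isOpen_iff.1 e.opensRange.2
  let O' : V.left.Opens := ⟨O, hO⟩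
  have : Etale (O'.ι ≫ V.hom) := MorphismProperty.comp_mem @Etale O'.ι V.hom inferInstance V.prop
  let V' : X.Etale := Scheme.Etale.mk (O'.ι ≫ V.hom)
  let o : V' ⟶ V := MorphismProperty.Over.homMk O'.ι rfl trivial
  have hrange : Set.range ((EtCoh.bc i).map o).left ⊆ Set.range e := by
    intro x hx
    obtain ⟨s, rfl⟩ := hx
    refine (Set.ext_iff.1 hOeq _).1 ?_
    change p (((EtCoh.bc i).map o).left s) ∈ O
    have e1 : p (((EtCoh.bc i).map o).left s) = O'.ι ((pullback.fst V'.hom i) s) :=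
      (Scheme.Hom.comp_apply _ p s).symm.trans ((congrArg (fun k : _ ⟶ V.left => k s)
        (EtCoh.isPullback_bc_map i o).w).trans (Scheme.Hom.comp_apply _ _ s))
    rw [e1]
    exact ((pullback.fst V'.hom i) s).2
  have hmem : Set.range (y.left ≫ p : _ ⟶ V.left) ⊆ Set.range O'.ι := by
    intro x hx
    obtain ⟨s, rfl⟩ := hx
    refine (Set.ext_iff.1 (Scheme.Opens.range_ι O') _).2 ?_
    rw [Scheme.Hom.comp_apply]
    refine (Set.ext_iff.1 hOeq (y.left s)).2 ⟨t s, ?_⟩
    exact (Scheme.Hom.comp_apply t e s).symm.trans (congrArg (fun k : _ ⟶ B => k s) (pullback.lift_snd _ _ _))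
  haveI hO' : IsOpenImmersion O'.ι := inferInstance
  let l : Spec (CommRingCat.of Ω) ⟶ (V'.left : Scheme.{u}) := @IsOpenImmersion.lift _ _ _ O'.ι (y.left ≫ p) hO' hmem
  have hl : l ≫ O'.ι = y.left ≫ p := @IsOpenImmersion.lift_fac _ _ _ O'.ι (y.left ≫ p) hO' hmem
  let y' : (Scheme.pointSmallEtale ζ).fiber.obj ((EtCoh.bc i).obj V') :=
    Over.homMk (pullback.lift l ζ (by
      change l ≫ O'.ι ≫ V.hom = _
      rw [← Category.assoc, hl, Category.assoc]
      refine (congrArg (y.left ≫ ·) (pullback.condition (f := V.hom) (g := i))).trans ?_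
      exact (Category.assoc _ _ _).symm.trans (congrArg (· ≫ i) (Over.w y)))) (pullback.lift_snd _ _ _)
  refine ⟨V', o, y', Over.OverMorphism.ext (pullback.hom_ext ?_ ?_), MorphismProperty.Over.Hom.ext ?_⟩
  · exact (Category.assoc _ _ _).trans ((congrArg (y'.left ≫ ·) (EtCoh.isPullback_bc_map i o).w).trans
      ((Category.assoc _ _ _).symm.trans ((congrArg (· ≫ O'.ι) (pullback.lift_fst _ _ _)).trans hl)))
  · exact (Category.assoc _ _ _).trans ((congrArg (y'.left ≫ ·) (MorphismProperty.Over.w ((EtCoh.bc i).map o))).trans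
      ((Over.w y').trans (Over.w y).symm))
  · change ((EtCoh.bc i).map o).left ≫ a.left = ((EtCoh.bc i).map o).left ≫ b.left
    rw [← IsOpenImmersion.lift_fac e ((EtCoh.bc i).map o).left hrange, Category.assoc, Category.assoc, he]

end maps

variable (G : EtCoh.Ab Z) {Ω : Type u} [Field Ω] [IsSepClosed Ω] (ζ : Spec (CommRingCat.of Ω) ⟶ Z)

/-- the comparison map -/
noncomputable def θ : (EtCoh.stalk (ζ ≫ i)).obj ((EtCoh.push i).obj G) ⟶ (EtCoh.stalk ζ).obj G :=
  (LEtStalkPull.stalkPullIso i ζ).inv.app ((EtCoh.push i).obj G) ≫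
    (EtCoh.stalk ζ).map ((EtCoh.pullPushAdj i).counit.app G)

lemma germ_θ (V : X.Etale) (x : (Scheme.pointSmallEtale ζ).fiber.obj ((EtCoh.bc i).obj V)) :
    (Scheme.pointSmallEtale (ζ ≫ i)).toPresheafFiber V ((LEtStalkPull.fiberIso i ζ).hom.app V x)
        ((EtCoh.push i).obj G).obj ≫ θ i G ζ =
      (Scheme.pointSmallEtale ζ).toPresheafFiber ((EtCoh.bc i).obj V) x G.obj := by
  refine (Category.assoc _ _ _).symm.trans ?_
  refine (congrArg (· ≫ _) (LEtStalkPull.germ_stalkPull i ζ ((EtCoh.push i).obj G) V x)).trans ?_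
  refine (Category.assoc _ _ _).trans ?_
  refine (congrArg (((EtCoh.pullPushAdj i).unit.app ((EtCoh.push i).obj G)).hom.app (op V) ≫ ·)
    ((Scheme.pointSmallEtale ζ).toPresheafFiber_naturality ((EtCoh.pullPushAdj i).counit.app G).hom
      ((EtCoh.bc i).obj V) x)).trans ?_
  refine (Category.assoc _ _ _).symm.trans ?_
  refine (congrArg (· ≫ _) (congrArg (fun t : (EtCoh.push i).obj G ⟶ (EtCoh.push i).obj G => t.hom.app (op V))
    ((EtCoh.pullPushAdj i).right_triangle_components G))).trans ?_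
  exact Category.id_comp _

lemma fib_surj (V : X.Etale) (v : (Scheme.pointSmallEtale (ζ ≫ i)).fiber.obj V) :
    ∃ x : (Scheme.pointSmallEtale ζ).fiber.obj ((EtCoh.bc i).obj V), (LEtStalkPull.fiberIso i ζ).hom.app V x = v :=
  ((LEtStalkPull.fiberIso i ζ).app V).toEquiv.surjective v

lemma fib_inj (V : X.Etale) (s t : (Scheme.pointSmallEtale ζ).fiber.obj ((EtCoh.bc i).obj V))
    (e : (LEtStalkPull.fiberIso i ζ).hom.app V s = (LEtStalkPull.fiberIso i ζ).hom.app V t) : s = t :=
  ((LEtStalkPull.fiberIso i ζ).app V).toEquiv.injective e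

lemma fib_nat {V V' : X.Etale} (o : V' ⟶ V) (x : (Scheme.pointSmallEtale ζ).fiber.obj ((EtCoh.bc i).obj V')) :
    (LEtStalkPull.fiberIso i ζ).hom.app V ((Scheme.pointSmallEtale ζ).fiber.map ((EtCoh.bc i).map o) x) =
      (Scheme.pointSmallEtale (ζ ≫ i)).fiber.map o ((LEtStalkPull.fiberIso i ζ).hom.app V' x) :=
  Over.OverMorphism.ext (by
    change (x.left ≫ ((EtCoh.bc i).map o).left) ≫ pullback.fst V.hom i = (x.left ≫ pullback.fst V'.hom i) ≫ o.left
    rw [Category.assoc, Category.assoc]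
    exact congrArg (x.left ≫ ·) (EtCoh.isPullback_bc_map i o).w)

lemma germ_θ_apply (V : X.Etale) (x : (Scheme.pointSmallEtale ζ).fiber.obj ((EtCoh.bc i).obj V))
    (z : G.obj.obj (op ((EtCoh.bc i).obj V))) :
    θ i G ζ ((Scheme.pointSmallEtale (ζ ≫ i)).toPresheafFiber V ((LEtStalkPull.fiberIso i ζ).hom.app V x)
        ((EtCoh.push i).obj G).obj z) =
      (Scheme.pointSmallEtale ζ).toPresheafFiber ((EtCoh.bc i).obj V) x G.obj z :=
  DFunLike.congr_fun (congrArg AddCommGrpCat.Hom.hom (germ_θ i G ζ V x)) z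

theorem bijective_θ : Function.Bijective (θ i G ζ) := by
  let Φ := Scheme.pointSmallEtale ζ
  let Ψ := Scheme.pointSmallEtale (ζ ≫ i)
  constructor
  · rw [injective_iff_map_eq_zero]
    intro p hp
    obtain ⟨V, v, z, rfl⟩ := Ψ.toPresheafFiber_jointly_surjective (P := ((EtCoh.push i).obj G).obj) p
    obtain ⟨x, rfl⟩ := fib_surj i ζ V v
    have h1 : Φ.toPresheafFiber ((EtCoh.bc i).obj V) x G.obj z = 0 :=
      (germ_θ_apply i G ζ V x z).symm.trans hp
    rw [← map_zero (Φ.toPresheafFiber ((EtCoh.bc i).obj V) x G.obj).hom] at h1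
    obtain ⟨W, g, w, hgw, hg⟩ := (Φ.toPresheafFiber_eq_iff' _ x z 0).1 h1
    rw [map_zero] at hg
    obtain ⟨V₁, φ, hφ⟩ := LEtLift.exists_lift i W (w.left (default : Spec (CommRingCat.of Ω)))
    obtain ⟨q, hq⟩ := hφ
    have : Etale φ.left := by
      have : Etale (φ.left ≫ W.hom) := by rw [MorphismProperty.Over.w φ]; exact ((EtCoh.bc i).obj V₁).prop
      exact MorphismProperty.of_postcomp (W := @Etale) (W' := @Etale) φ.left W.hom W.prop this
    obtain ⟨l, hl1, hl2⟩ := Scheme.exists_fac_of_etale_of_isSepClosed φ.left w.left q hq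
    let y₁ : Φ.fiber.obj ((EtCoh.bc i).obj V₁) := Over.homMk l
      ((congrArg (l ≫ ·) (MorphismProperty.Over.w φ).symm).trans ((Category.assoc _ _ _).symm.trans
        ((congrArg (· ≫ W.hom) hl1).trans (Over.w w))))
    have hy₁ : Φ.fiber.map φ y₁ = w := Over.OverMorphism.ext hl1
    obtain ⟨K, k, b, c, hb, hc⟩ : ∃ (K : X.Etale) (k : Ψ.fiber.obj K) (b : K ⟶ V) (c : K ⟶ V₁),
        Ψ.fiber.map b k = (LEtStalkPull.fiberIso i ζ).hom.app V x ∧
          Ψ.fiber.map c k = (LEtStalkPull.fiberIso i ζ).hom.app V₁ y₁ :=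
      let k₁ : Ψ.fiber.Elements := ⟨V, (LEtStalkPull.fiberIso i ζ).hom.app V x⟩
      let k₂ : Ψ.fiber.Elements := ⟨V₁, (LEtStalkPull.fiberIso i ζ).hom.app V₁ y₁⟩
      ⟨_, _, (IsCofiltered.minToLeft k₁ k₂).1, (IsCofiltered.minToRight k₁ k₂).1,
        (IsCofiltered.minToLeft k₁ k₂).2, (IsCofiltered.minToRight k₁ k₂).2⟩
    obtain ⟨k', rfl⟩ := fib_surj i ζ K k
    have hb' : Φ.fiber.map ((EtCoh.bc i).map b) k' = x := fib_inj i ζ _ _ _ ((fib_nat i ζ b k').trans hb)
    have hc' : Φ.fiber.map ((EtCoh.bc i).map c) k' = y₁ := fib_inj i ζ _ _ _ ((fib_nat i ζ c k').trans hc)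
    obtain ⟨V', o, y', hy', ho⟩ := exists_refine i ζ ((EtCoh.bc i).map c ≫ φ ≫ g) ((EtCoh.bc i).map b) k' (by
      rw [Functor.map_comp, Functor.map_comp, ConcreteCategory.comp_apply, ConcreteCategory.comp_apply, hc', hy₁, hgw, hb'])
    have h3 : G.obj.map ((EtCoh.bc i).map (o ≫ b)).op z = 0 := by
      rw [Functor.map_comp, ← ho, op_comp, op_comp, op_comp, Functor.map_comp, Functor.map_comp, Functor.map_comp]
      change G.obj.map ((EtCoh.bc i).map o).op (G.obj.map ((EtCoh.bc i).map c).op (G.obj.map φ.op (G.obj.map g.op z))) = 0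
      change G.obj.map g.op z = 0 at hg
      rw [hg, map_zero, map_zero, map_zero]
    have h4 : Ψ.fiber.map (o ≫ b) ((LEtStalkPull.fiberIso i ζ).hom.app V' y') =
        (LEtStalkPull.fiberIso i ζ).hom.app V x := by
      refine (fib_nat i ζ (o ≫ b) y').symm.trans ?_
      refine congrArg ((LEtStalkPull.fiberIso i ζ).hom.app V) ?_
      change Φ.fiber.map ((EtCoh.bc i).map (o ≫ b)) y' = x
      rw [Functor.map_comp, Functor.map_comp, ConcreteCategory.comp_apply, hy', hb']
    rw [← h4, ← Ψ.toPresheafFiber_w_apply (o ≫ b)]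
    refine (congrArg _ h3).trans ?_
    exact map_zero (Ψ.toPresheafFiber V' _ ((EtCoh.push i).obj G).obj).hom
  · intro p
    obtain ⟨W, w, z, rfl⟩ := Φ.toPresheafFiber_jointly_surjective (P := G.obj) p
    obtain ⟨V, φ, q, hq⟩ := LEtLift.exists_lift i W (w.left (default : Spec (CommRingCat.of Ω)))
    have : Etale φ.left := by
      have : Etale (φ.left ≫ W.hom) := by rw [MorphismProperty.Over.w φ]; exact ((EtCoh.bc i).obj V).prop
      exact MorphismProperty.of_postcomp (W := @Etale) (W' := @Etale) φ.left W.hom W.prop this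
    obtain ⟨l, hl1, hl2⟩ := Scheme.exists_fac_of_etale_of_isSepClosed φ.left w.left q hq
    let y : Φ.fiber.obj ((EtCoh.bc i).obj V) := Over.homMk l
      ((congrArg (l ≫ ·) (MorphismProperty.Over.w φ).symm).trans ((Category.assoc _ _ _).symm.trans
        ((congrArg (· ≫ W.hom) hl1).trans (Over.w w))))
    have hy : Φ.fiber.map φ y = w := Over.OverMorphism.ext hl1
    refine ⟨Ψ.toPresheafFiber V ((LEtStalkPull.fiberIso i ζ).hom.app V y) ((EtCoh.push i).obj G).obj
      (G.obj.map φ.op z), ?_⟩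
    refine (germ_θ_apply i G ζ V y (G.obj.map φ.op z)).trans ?_
    rw [Φ.toPresheafFiber_w_apply, hy]

theorem isIso_counit : IsIso ((EtCoh.pullPushAdj i).counit.app G) :=
  (LEtStalk.isIso_iff _).2 fun Ω _ _ ζ => by
    have h : IsIso ((LEtStalkPull.stalkPullIso i ζ).inv.app ((EtCoh.push i).obj G) ≫
      (EtCoh.stalk ζ).map ((EtCoh.pullPushAdj i).counit.app G)) := (ConcreteCategory.isIso_iff_bijective _).2 (bijective_θ i G ζ)
    exact IsIso.of_isIso_comp_left ((LEtStalkPull.stalkPullIso i ζ).inv.app ((EtCoh.push i).obj G)) _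

theorem full_faithful : (EtCoh.push i).Full ∧ (EtCoh.push i).Faithful := by
  have : ∀ G, IsIso ((EtCoh.pullPushAdj i).counit.app G) := fun G => isIso_counit i G
  have : IsIso (EtCoh.pullPushAdj i).counit := NatIso.isIso_of_isIso_app _
  exact ⟨(EtCoh.pullPushAdj i).fullyFaithfulROfIsIsoCounit.full, (EtCoh.pullPushAdj i).fullyFaithfulROfIsIsoCounit.faithful⟩

end Groth.Agent.LEtClosed
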