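import Groth.Prelude.Def_EtShriek2
import Groth.Agent.Lib.LEtClosed

/-! Stalks of extension by zero along étale morphisms. -/

set_option autoImplicit false
universe u
open CategoryTheory Category Limits Opposite AlgebraicGeometry

namespace Groth.Agent.LEtExtStalk

variable {U X : Scheme.{u}} (j : U ⟶ X) [Etale j] [EtShriek.JCont j]

/-- restriction along `j` is the inverse image -/
noncomputable def restrAlongIso : EtShriek.restrAlong j ≅ EtCoh.pull j := LEtExtZero.restrIsoPull j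

theorem isZero_stalk_extZero (G : EtCoh.Ab U) {Ω : Type u} [Field Ω] [IsSepClosed Ω]
    (ξ : Spec (CommRingCat.of Ω) ⟶ X) (h : Disjoint (Set.range ξ) (Set.range j)) :
    IsZero ((EtCoh.stalk ξ).obj ((EtShriek.extZero j).obj G)) := by
  let Φ := Scheme.pointSmallEtale ξ
  rw [IsZero.iff_id_eq_zero]
  apply (Φ.skyscraperSheafAdjunction.homEquiv _ _).injective
  apply ((EtShriek.extZeroAdj j).homEquiv _ _).injective
  apply Sheaf.hom_ext
  refine NatTrans.ext (funext fun W => Pi.hom_ext _ _ fun (t : Φ.fiber.obj ((EtShriek.compEtale j).obj W.unop)) => ?_)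
  have e : ξ (default : Spec (CommRingCat.of Ω)) = j (W.unop.hom (t.left (default : Spec (CommRingCat.of Ω)))) :=
    (congrArg (fun s : Spec _ ⟶ X => s default) (Over.w t).symm).trans
      ((Scheme.Hom.comp_apply t.left (W.unop.hom ≫ j) _).trans (Scheme.Hom.comp_apply W.unop.hom j _))
  exact (Set.disjoint_left.1 h ⟨_, e⟩ ⟨_, rfl⟩).elim

/-- stalks at points of `U` only see the restriction -/
noncomputable def stalkRestrIso {Ω : Type u} [Field Ω] [IsSepClosed Ω] (ζ : Spec (CommRingCat.of Ω) ⟶ U) :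
    EtShriek.restrAlong j ⋙ EtCoh.stalk ζ ≅ EtCoh.stalk (ζ ≫ j) :=
  Functor.isoWhiskerRight (restrAlongIso j) _ ≪≫ LEtStalkPull.stalkPullIso j ζ

section open'

variable {U X : Scheme.{u}} (j : U ⟶ X) [IsOpenImmersion j] [EtShriek.JCont j]

theorem isIso_unit : IsIso (EtShriek.extZeroAdj j).unit := by
  let t : Adjunction.Triple (EtShriek.extZero j) (EtShriek.restrAlong j) (EtCoh.push j) :=
    ⟨EtShriek.extZeroAdj j, (EtCoh.pullPushAdj j).ofNatIsoLeft (restrAlongIso j).symm⟩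
  refine t.isIso_unit_iff_isIso_counit.2 ?_
  have : ∀ G, IsIso (((EtCoh.pullPushAdj j).ofNatIsoLeft (restrAlongIso j).symm).counit.app G) := fun G => by
    change IsIso ((restrAlongIso j).symm.inv.app _ ≫ (EtCoh.pullPushAdj j).counit.app G)
    infer_instance
  exact NatIso.isIso_of_isIso_app _

theorem isIso_stalk_counit (F : EtCoh.Ab X) {Ω : Type u} [Field Ω] [IsSepClosed Ω]
    (ζ : Spec (CommRingCat.of Ω) ⟶ U) :
    IsIso ((EtCoh.stalk (ζ ≫ j)).map ((EtShriek.extZeroAdj j).counit.app F)) := by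
  have := isIso_unit j
  have : IsIso ((EtShriek.restrAlong j).map ((EtShriek.extZeroAdj j).counit.app F)) := by
    have : IsIso ((EtShriek.extZeroAdj j).unit.app ((EtShriek.restrAlong j).obj F) ≫
        (EtShriek.restrAlong j).map ((EtShriek.extZeroAdj j).counit.app F)) := by
      rw [(EtShriek.extZeroAdj j).right_triangle_components F]
      exact IsIso.id _
    exact IsIso.of_isIso_comp_left ((EtShriek.extZeroAdj j).unit.app _) _
  exact (NatIso.isIso_map_iff (stalkRestrIso j ζ) _).1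
    (inferInstanceAs (IsIso ((EtCoh.stalk ζ).map ((EtShriek.restrAlong j).map ((EtShriek.extZeroAdj j).counit.app F)))))

theorem exists_factor_open {Ω : Type u} [Field Ω] [IsSepClosed Ω] (ξ : Spec (CommRingCat.of Ω) ⟶ X)
    (h : ¬ Disjoint (Set.range ξ) (Set.range j)) : ∃ ζ : Spec (CommRingCat.of Ω) ⟶ U, ζ ≫ j = ξ := by
  refine ⟨IsOpenImmersion.lift j ξ ?_, IsOpenImmersion.lift_fac _ _ _⟩
  intro a ha
  obtain ⟨s, rfl⟩ := ha
  obtain ⟨b, ⟨s', rfl⟩, hb⟩ := Set.not_disjoint_iff.1 h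
  rwa [Subsingleton.elim s s']

end open'

theorem exists_factor_closed {Z X : Scheme.{u}} (i : Z ⟶ X) [IsClosedImmersion i] {Ω : Type u} [Field Ω]
    (ξ : Spec (CommRingCat.of Ω) ⟶ X) (h : ¬ Disjoint (Set.range ξ) (Set.range i)) :
    ∃ ζ : Spec (CommRingCat.of Ω) ⟶ Z, ζ ≫ i = ξ := by
  obtain ⟨b, ⟨s, rfl⟩, hb⟩ := Set.not_disjoint_iff.1 h
  obtain ⟨z, hz⟩ := hb
  obtain ⟨w, -, hw⟩ := Scheme.Pullback.exists_preimage_pullback (f := ξ) (g := i) s z hz.symm
  have : Surjective (pullback.fst ξ i) := ⟨fun s' => ⟨w, Subsingleton.elim _ _⟩⟩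
  have : IsIso (pullback.fst ξ i) := isIso_of_isClosedImmersion_of_surjective _
  exact ⟨inv (pullback.fst ξ i) ≫ pullback.snd ξ i, by
    rw [Category.assoc, ← pullback.condition, IsIso.inv_hom_id_assoc]⟩

theorem isZero_pull_push {Z U X : Scheme.{u}} (i : Z ⟶ X) [IsClosedImmersion i] (j : U ⟶ X)
    (hd : Disjoint (Set.range i) (Set.range j)) (G : EtCoh.Ab Z) :
    IsZero ((EtCoh.pull j).obj ((EtCoh.push i).obj G)) :=
  LEtStalk.isZero_iff.2 fun Ω _ _ ζ => (LEtImm.isZero_stalk_push i i.isClosedEmbedding.isClosed_range G (ζ ≫ j) (by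
    refine Set.disjoint_left.2 ?_
    intro x hx hi
    obtain ⟨s, rfl⟩ := hx
    exact Set.disjoint_left.1 hd hi ⟨_, (Scheme.Hom.comp_apply ζ j s).symm⟩)).of_iso
      ((LEtStalkPull.stalkPullIso j ζ).app _)

end Groth.Agent.LEtExtStalk
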