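import Mathlib
import Groth.Prelude.Def_EtBase
import Groth.Agent.Lib.LEtPullExactAb

/-! Extension by zero along an étale morphism: inverse image preserves injectives. -/

set_option autoImplicit false
universe u
open CategoryTheory Category Limits Opposite AlgebraicGeometry

namespace Groth.Agent.LEtExtZero

variable {X U : Scheme.{u}} (j : U ⟶ X) [hj : Etale j]

/-- composition with `j` -/
noncomputable abbrev ext : U.Etale ⥤ X.Etale :=
  MorphismProperty.Over.map (P := EtCoh.etaleMP.{u}) ⊤ (f := j) hj

/-- the adjunction with base change -/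
noncomputable def extAdj : ext j ⊣ EtCoh.bc j :=
  MorphismProperty.Over.mapPullbackAdj (P := EtCoh.etaleMP.{u}) (Q := ⊤) j hj trivial

/-- an object over `U` -/
noncomputable def liftObj (W : X.Etale) (φ : W.left ⟶ U) (hφ : φ ≫ j = W.hom) : U.Etale :=
  haveI : Etale (φ ≫ j) := hφ ▸ W.prop
  haveI : Etale φ := MorphismProperty.of_postcomp (W := @Etale) (W' := @Etale) φ j hj this
  Scheme.Etale.mk φ

lemma coverPreserving_ext : CoverPreserving U.smallEtaleTopology X.smallEtaleTopology (ext j) := by
  constructor
  intro W S hS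
  have eU : U.smallEtaleTopology = (U.smallPretopology (P := EtCoh.etaleMP) (Q := EtCoh.etaleMP)).toGrothendieck :=
    Scheme.smallGrothendieckTopology_eq_toGrothendieck_smallPretopology U le_rfl
  have eX : X.smallEtaleTopology = (X.smallPretopology (P := EtCoh.etaleMP) (Q := EtCoh.etaleMP)).toGrothendieck :=
    Scheme.smallGrothendieckTopology_eq_toGrothendieck_smallPretopology X le_rfl
  rw [eU] at hS
  rw [eX]
  replace hS := (Scheme.mem_toGrothendieck_smallPretopology W S).1 hS
  refine (Scheme.mem_toGrothendieck_smallPretopology ((ext j).obj W) _).2 fun x => ?_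
  obtain ⟨V, g, v, hg, he, hv⟩ := hS x
  exact ⟨(ext j).obj V, (ext j).map g, v, Sieve.image_mem_functorPushforward _ _ hg, he, hv⟩

lemma compatiblePreserving_ext : CompatiblePreserving.{u + 1} X.smallEtaleTopology (ext j) := by
  constructor
  intro ℱ Z T x hx Y₁ Y₂ W f₁ f₂ g₁ g₂ hg₁ hg₂ e
  have hw : (f₁.left ≫ Y₁.hom) ≫ j = W.hom := (Category.assoc _ _ _).trans (MorphismProperty.Over.w f₁)
  let W' : U.Etale := liftObj j W (f₁.left ≫ Y₁.hom) hw
  have el : f₁.left ≫ g₁.left = f₂.left ≫ g₂.left :=
    congrArg (fun t : W ⟶ (ext j).obj Z => t.left) e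
  have hY : f₂.left ≫ Y₂.hom = f₁.left ≫ Y₁.hom := by
    rw [← MorphismProperty.Over.w g₁, ← MorphismProperty.Over.w g₂]
    exact (Category.assoc _ _ _).symm.trans ((congrArg (· ≫ Z.hom) el.symm).trans (Category.assoc _ _ _))
  let a₁ : W' ⟶ Y₁ := MorphismProperty.Over.homMk f₁.left rfl trivial
  let a₂ : W' ⟶ Y₂ := MorphismProperty.Over.homMk f₂.left hY trivial
  let i : W ⟶ (ext j).obj W' := MorphismProperty.Over.homMk (𝟙 _) ((Category.id_comp _).trans hw) trivial
  have h₁ : f₁ = i ≫ (ext j).map a₁ := MorphismProperty.Over.Hom.ext (Category.id_comp _).symm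
  have h₂ : f₂ = i ≫ (ext j).map a₂ := MorphismProperty.Over.Hom.ext (Category.id_comp _).symm
  have hc := hx a₁ a₂ hg₁ hg₂ (MorphismProperty.Over.Hom.ext el)
  rw [h₁, h₂, op_comp, op_comp, ℱ.obj.map_comp, ℱ.obj.map_comp]
  exact congrArg (ℱ.obj.map i.op) hc

instance ext_continuous : (ext j).IsContinuous U.smallEtaleTopology X.smallEtaleTopology :=
  Functor.isContinuous_of_coverPreserving (compatiblePreserving_ext j) (coverPreserving_ext j)

/-- restriction to `U` -/
noncomputable abbrev restr : EtCoh.Ab X ⥤ EtCoh.Ab U :=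
  (ext j).sheafPushforwardContinuous AddCommGrpCat.{u + 1} U.smallEtaleTopology X.smallEtaleTopology

/-- restriction is the inverse image -/
noncomputable def restrAdj : restr j ⊣ EtCoh.push j :=
  (extAdj j).sheafPushforwardContinuous U.smallEtaleTopology X.smallEtaleTopology

/-- restriction is the inverse image -/
noncomputable def restrIsoPull : restr j ≅ EtCoh.pull j :=
  (restrAdj j).leftAdjointUniq (EtCoh.pullPushAdj j)

/-- the component objects -/
noncomputable def incl (V : X.Etale) :
    Discrete (ULift.{u + 1} {φ : V.left ⟶ U // φ ≫ j = V.hom}) ⥤ CostructuredArrow (ext j).op (op V) :=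
  Discrete.functor fun φ => CostructuredArrow.mk (Y := op (liftObj j V φ.down.1 φ.down.2))
    (MorphismProperty.Over.homMk (𝟙 _) ((Category.id_comp _).trans φ.down.2) trivial :
      V ⟶ (ext j).obj (liftObj j V φ.down.1 φ.down.2)).op

variable {j} in
lemma arrow_w {V : X.Etale} {a b : CostructuredArrow (ext j).op (op V)} (f : a ⟶ b) :
    a.hom.unop.left = b.hom.unop.left ≫ f.left.unop.left :=
  (congrArg (fun t : op _ ⟶ op V => t.unop.left) (CostructuredArrow.w f)).symm

/-- the component map -/
noncomputable def comp (V : X.Etale) :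
    CostructuredArrow (ext j).op (op V) ⥤ Discrete (ULift.{u + 1} {φ : V.left ⟶ U // φ ≫ j = V.hom}) where
  obj a := ⟨⟨a.hom.unop.left ≫ a.left.unop.hom,
    (Category.assoc _ _ _).trans (MorphismProperty.Over.w a.hom.unop)⟩⟩
  map {a b} f := Discrete.eqToHom (ULift.ext _ _ (Subtype.ext (by
    change a.hom.unop.left ≫ a.left.unop.hom = b.hom.unop.left ≫ b.left.unop.hom
    rw [arrow_w f]
    exact (Category.assoc _ _ _).trans (congrArg (_ ≫ ·) (MorphismProperty.Over.w f.left.unop)))))

instance final_incl (V : X.Etale) : (incl j V).Final := by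
  refine Functor.final_of_adjunction (L := comp j V) (Adjunction.mkOfHomEquiv
    { homEquiv := fun a φ =>
        { toFun := fun h => CostructuredArrow.homMk (MorphismProperty.Over.homMk
              (A := liftObj j V φ.as.down.1 φ.as.down.2) (B := a.left.unop) a.hom.unop.left
              (congrArg (fun t : ULift.{u + 1} {φ : V.left ⟶ U // φ ≫ j = V.hom} => t.down.1) (Discrete.eq_of_hom h))
              trivial).op
            (Quiver.Hom.unop_inj (MorphismProperty.Over.Hom.ext (Category.id_comp _)))
          invFun := fun f => Discrete.eqToHom (ULift.ext _ _ (Subtype.ext (by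
            change a.hom.unop.left ≫ a.left.unop.hom = φ.as.down.1
            rw [arrow_w f]
            refine ((Category.assoc _ _ _).trans (congrArg (_ ≫ ·) (MorphismProperty.Over.w f.left.unop))).trans ?_
            exact Category.id_comp _)))
          left_inv := fun h => Subsingleton.elim _ _
          right_inv := fun f => by
            apply CostructuredArrow.hom_ext
            apply Quiver.Hom.unop_inj
            apply MorphismProperty.Over.Hom.ext
            change a.hom.unop.left = f.left.unop.left
            rw [arrow_w f]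
            exact Category.id_comp _ }
      homEquiv_naturality_left_symm := fun _ _ => Subsingleton.elim _ _
      homEquiv_naturality_right := fun {a φ ψ} h k => by
        obtain ⟨φ⟩ := φ; obtain ⟨ψ⟩ := ψ
        obtain rfl : φ = ψ := Discrete.eq_of_hom k
        rw [show k = 𝟙 _ from Subsingleton.elim _ _, (incl j V).map_id, Category.comp_id, Category.comp_id] })

theorem lan_preservesFiniteLimits :
    PreservesFiniteLimits ((ext j).op.lan : (U.Etaleᵒᵖ ⥤ AddCommGrpCat.{u + 1}) ⥤ X.Etaleᵒᵖ ⥤ AddCommGrpCat.{u + 1}) := by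
  refine ⟨fun K _ _ => ?_⟩
  apply preservesLimitsOfShape_of_evaluation
  intro V
  haveI : PreservesFiniteLimits
      (colim : (Discrete (ULift.{u + 1} {φ : V.unop.left ⟶ U // φ ≫ j = V.unop.hom}) ⥤ AddCommGrpCat.{u + 1}) ⥤ AddCommGrpCat.{u + 1}) :=
    inferInstance
  haveI : PreservesFiniteLimits
      (colim : (CostructuredArrow (ext j).op (op V.unop) ⥤ AddCommGrpCat.{u + 1}) ⥤ AddCommGrpCat.{u + 1}) :=
    preservesFiniteLimits_of_natIso (Functor.Final.colimIso (E := AddCommGrpCat.{u + 1}) (incl j V.unop))
  haveI : PreservesLimitsOfShape K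
      (colim : (CostructuredArrow (ext j).op V ⥤ AddCommGrpCat.{u + 1}) ⥤ AddCommGrpCat.{u + 1}) :=
    (inferInstance : PreservesLimitsOfShape K
      (colim : (CostructuredArrow (ext j).op (op V.unop) ⥤ AddCommGrpCat.{u + 1}) ⥤ AddCommGrpCat.{u + 1}))
  exact preservesLimitsOfShape_of_natIso (LEtPullExactAb.lanEvalIso (ext j).op V).symm

theorem injective_pull (I : EtCoh.Ab X) [Injective I] : Injective ((EtCoh.pull j).obj I) := by
  haveI := lan_preservesFiniteLimits j
  let adj := Functor.sheafPullbackConstruction.sheafAdjunctionContinuous (ext j) AddCommGrpCat.{u + 1}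
    U.smallEtaleTopology X.smallEtaleTopology
  haveI : PreservesFiniteLimits (Functor.sheafPullbackConstruction.sheafPullback (ext j) AddCommGrpCat.{u + 1}
      U.smallEtaleTopology X.smallEtaleTopology) := by
    haveI : PreservesFiniteLimits ((ext j).op.lan ⋙ presheafToSheaf X.smallEtaleTopology AddCommGrpCat.{u + 1}) :=
      comp_preservesFiniteLimits _ _
    apply comp_preservesFiniteLimits
  exact Injective.of_iso ((restrIsoPull j).app I) (Injective.injective_of_adjoint adj I)

section injPsh

variable {C : Type (u + 1)} [Category.{u} C]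

lemma mono_freeMap {α β : Type (u + 1)} (f : α → β) (hf : Function.Injective f) :
    Function.Injective (FreeAbelianGroup.map f) := by
  rcases isEmpty_or_nonempty α with h | h
  · intro x y _
    exact Subsingleton.elim x y
  · intro x y e
    have := congrArg (FreeAbelianGroup.map (Function.invFun f)) e
    rwa [← FreeAbelianGroup.map_comp_apply, ← FreeAbelianGroup.map_comp_apply,
      Function.invFun_comp hf, FreeAbelianGroup.map_id_apply, FreeAbelianGroup.map_id_apply] at this

/-- free presheaf on an object -/
noncomputable abbrev freeOn (W : C) : Cᵒᵖ ⥤ AddCommGrpCat.{u + 1} :=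
  uliftYoneda.{u + 1}.obj W ⋙ AddCommGrpCat.free

lemma surjective_map_of_mono {W V : C} (m : W ⟶ V) [Mono m] (P : Cᵒᵖ ⥤ AddCommGrpCat.{u + 1}) [Injective P] :
    Function.Surjective (P.map m.op) := by
  intro t
  let ι : freeOn W ⟶ freeOn V := Functor.whiskerRight (uliftYoneda.{u + 1}.map m) _
  have : ∀ Z, Mono (ι.app Z) := fun Z => (AddCommGrpCat.mono_iff_injective _).2
    (mono_freeMap _ fun a b h => by
      have h' := congrArg ULift.down h
      exact ULift.ext _ _ ((cancel_mono m).1 h'))
  have : Mono ι := NatTrans.mono_of_mono_app ι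
  let adj := (AddCommGrpCat.adj.{u + 1}).whiskerRight Cᵒᵖ
  let f : freeOn W ⟶ P := (adj.homEquiv (uliftYoneda.{u + 1}.obj W) P).symm
    (uliftYonedaEquiv.symm t)
  let g := Injective.factorThru f ι
  refine ⟨uliftYonedaEquiv (adj.homEquiv (uliftYoneda.{u + 1}.obj V) P g), ?_⟩
  have h : uliftYoneda.{u + 1}.map m ≫ adj.homEquiv _ _ g = uliftYonedaEquiv.symm t := by
    rw [← adj.homEquiv_naturality_left, ← (adj.homEquiv _ _).right_inv (uliftYonedaEquiv.symm t)]
    exact congrArg (adj.homEquiv (uliftYoneda.{u + 1}.obj W) P) (Injective.comp_factorThru f ι)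
  refine Eq.trans ?_ ((congrArg uliftYonedaEquiv h).trans (Equiv.apply_symm_apply _ t))
  exact uliftYonedaEquiv_naturality (F := P ⋙ forget AddCommGrpCat.{u + 1}) (adj.homEquiv _ P g) m.op

end injPsh

theorem epi_unit [IsOpenImmersion j] (I : EtCoh.Ab X) [Injective I] :
    Epi ((EtCoh.pullPushAdj j).unit.app I) := by
  have hI : Injective I.obj :=
    Injective.injective_of_adjoint (sheafificationAdjunction X.smallEtaleTopology AddCommGrpCat.{u + 1}) I
  have : ∀ V, Epi (((restrAdj j).unit.app I).hom.app V) := fun V => by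
    refine (AddCommGrpCat.epi_iff_surjective _).2 ?_
    have : Mono ((extAdj j).counit.app V.unop).left := by
      change Mono (pullback.fst V.unop.hom j)
      infer_instance
    have : Mono ((extAdj j).counit.app V.unop) :=
      (Scheme.Etale.forget X ⋙ CategoryTheory.Over.forget X).mono_of_mono_map this
    exact surjective_map_of_mono ((extAdj j).counit.app V.unop) I.obj
  have : Epi ((restrAdj j).unit.app I).hom := NatTrans.epi_of_epi_app _
  have : Epi ((restrAdj j).unit.app I) := (sheafToPresheaf _ _).epi_of_epi_map this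
  rw [← Adjunction.unit_leftAdjointUniq_hom_app (restrAdj j) (EtCoh.pullPushAdj j) I]
  exact epi_comp _ _

end Groth.Agent.LEtExtZero
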