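import Groth.Agent.Lib.LEtStalk
import Groth.Prelude.Def_EtShriek2

/-! Germs of sections at geometric points. -/

set_option autoImplicit false
universe u
open CategoryTheory Category Limits Opposite AlgebraicGeometry

namespace Groth.Agent.LEtGerm

variable {X : Scheme.{u}}

lemma exists_lift_point {Ω : Type u} [Field Ω] [IsSepClosed Ω] (ξ : Spec (CommRingCat.of Ω) ⟶ X)
    {W V : X.Etale} (g : W ⟶ V) (v : (Scheme.pointSmallEtale ξ).fiber.obj V) (w : W.left)
    (hw : g.left w = v.left (default : Spec (CommRingCat.of Ω))) :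
    ∃ y : (Scheme.pointSmallEtale ξ).fiber.obj W, (Scheme.pointSmallEtale ξ).fiber.map g y = v := by
  have : Etale g.left := by
    have : Etale (g.left ≫ V.hom) := by rw [MorphismProperty.Over.w g]; exact W.prop
    exact MorphismProperty.of_postcomp (W := @Etale) (W' := @Etale) g.left V.hom V.prop this
  obtain ⟨l, hl1, -⟩ := Scheme.exists_fac_of_etale_of_isSepClosed g.left v.left w hw
  exact ⟨Over.homMk l ((congrArg (l ≫ ·) (MorphismProperty.Over.w g).symm).trans ((Category.assoc _ _ _).symm.trans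
    ((congrArg (· ≫ V.hom) hl1).trans (Over.w v)))), Over.OverMorphism.ext hl1⟩

lemma exists_point (V : X.Etale) (x : V.left) :
    ∃ (Ω : Type u) (_ : Field Ω) (_ : IsSepClosed Ω) (ξ : Spec (CommRingCat.of Ω) ⟶ X)
      (v : (Scheme.pointSmallEtale ξ).fiber.obj V), v.left (default : Spec (CommRingCat.of Ω)) = x :=
  ⟨SeparableClosure (V.left.residueField x), inferInstance, inferInstance,
    (Scheme.SpecToEquivOfField (SeparableClosure (V.left.residueField x)) V.left).symm
      ⟨x, CommRingCat.ofHom (algebraMap (V.left.residueField x) _)⟩ ≫ V.hom,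
    Over.homMk _ rfl, (Scheme.Hom.comp_apply _ _ _).trans (V.left.fromSpecResidueField_apply x _)⟩

theorem germ_eq_zero_iff (F : EtCoh.Ab X) {Ω : Type u} [Field Ω] [IsSepClosed Ω] (ξ : Spec (CommRingCat.of Ω) ⟶ X)
    (V : X.Etale) (v : (Scheme.pointSmallEtale ξ).fiber.obj V) (z : EtCoh.sect F V) :
    (Scheme.pointSmallEtale ξ).toPresheafFiber V v F.obj z = 0 ↔
      ∃ (W : X.Etale) (g : W ⟶ V), (∃ w : W.left, g.left w = v.left (default : Spec (CommRingCat.of Ω))) ∧
        F.obj.map g.op z = 0 := by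
  let Φ := Scheme.pointSmallEtale ξ
  constructor
  · intro h
    rw [← map_zero (Φ.toPresheafFiber V v F.obj).hom] at h
    obtain ⟨W, g, y, hy, hg⟩ := (Φ.toPresheafFiber_eq_iff' _ v z 0).1 h
    refine ⟨W, g, ⟨y.left (default : Spec (CommRingCat.of Ω)), ?_⟩, hg.trans (map_zero _)⟩
    exact (Scheme.Hom.comp_apply y.left g.left _).symm.trans
      (congrArg (fun t : (Scheme.pointSmallEtale ξ).fiber.obj V => t.left (default : Spec (CommRingCat.of Ω))) hy)
  · rintro ⟨W, g, ⟨w, hw⟩, hg⟩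
    obtain ⟨y, hy⟩ := exists_lift_point ξ g v w hw
    rw [← hy, ← Φ.toPresheafFiber_w_apply g]
    exact (congrArg _ hg).trans (map_zero (Φ.toPresheafFiber W y F.obj).hom)

theorem germ_ne_zero_iff (F : EtCoh.Ab X) {Ω : Type u} [Field Ω] [IsSepClosed Ω] (ξ : Spec (CommRingCat.of Ω) ⟶ X)
    (V : X.Etale) (v : (Scheme.pointSmallEtale ξ).fiber.obj V) (z : EtCoh.sect F V) :
    (Scheme.pointSmallEtale ξ).toPresheafFiber V v F.obj z ≠ 0 ↔
      v.left (default : Spec (CommRingCat.of Ω)) ∈ EtShriek.sectSupp F V z := by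
  rw [Ne, germ_eq_zero_iff]
  exact ⟨fun h W g hw h0 => h ⟨W, g, hw, h0⟩, fun h ⟨W, g, hw, h0⟩ => h W g hw h0⟩

end Groth.Agent.LEtGerm
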