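import Groth.Agent.Lib.LEtStalk

/-! Gluing sections over disjoint opens of étale schemes. -/

set_option autoImplicit false
universe u
open CategoryTheory Category Limits Opposite AlgebraicGeometry

namespace Groth.Agent.LEtGlue

variable {X : Scheme.{u}}

/-- the open subscheme as an étale scheme -/
noncomputable def sub (B : X.Etale) (O : B.left.Opens) : X.Etale :=
  haveI : Etale (O.ι ≫ B.hom) := MorphismProperty.comp_mem @Etale O.ι B.hom inferInstance B.prop
  Scheme.Etale.mk (O.ι ≫ B.hom)

/-- its inclusion -/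
noncomputable def incl (B : X.Etale) (O : B.left.Opens) : sub B O ⟶ B := MorphismProperty.Over.homMk O.ι rfl trivial

theorem eq_of_restrict (P : X.Etaleᵒᵖ ⥤ Type (u + 1)) (hP : Presieve.IsSheaf X.smallEtaleTopology P) (B : X.Etale)
    {μ : Type u} (W : μ → B.left.Opens) (hsup : (⨆ a, W a) = ⊤) (s t : P.obj (op B))
    (h : ∀ a, P.map (incl B (W a)).op s = P.map (incl B (W a)).op t) : s = t := by
  have eX : X.smallEtaleTopology = (X.smallPretopology (P := EtCoh.etaleMP) (Q := EtCoh.etaleMP)).toGrothendieck :=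
    Scheme.smallGrothendieckTopology_eq_toGrothendieck_smallPretopology X le_rfl
  have hS : Sieve.ofArrows _ (fun a => incl B (W a)) ∈ X.smallEtaleTopology B := by
    rw [eX]
    refine (Scheme.mem_toGrothendieck_smallPretopology B _).2 fun x => ?_
    obtain ⟨a, ha⟩ := TopologicalSpace.Opens.mem_iSup.1 (show x ∈ ⨆ a, W a by rw [hsup]; trivial)
    exact ⟨sub B (W a), incl B (W a), ⟨x, ha⟩, Sieve.ofArrows_mk _ _ a,
      (inferInstance : Etale (W a).ι), rfl⟩
  refine (hP _ hS).isSeparatedFor.ext fun Z f hf => ?_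
  obtain ⟨a, k, rfl⟩ := Sieve.mem_ofArrows_iff _ _ _ |>.1 hf
  simp only [op_comp, Functor.map_comp, ConcreteCategory.comp_apply, h a]

theorem exists_glue (P : X.Etaleᵒᵖ ⥤ Type (u + 1)) (hP : Presieve.IsSheaf X.smallEtaleTopology P) (B : X.Etale)
    {μ : Type u} (W : μ → B.left.Opens) (hd : ∀ a b, a ≠ b → Disjoint (W a) (W b)) (hsup : (⨆ a, W a) = ⊤)
    (s : ∀ a, P.obj (op (sub B (W a)))) : ∃ t, ∀ a, P.map (incl B (W a)).op t = s a := by
  classical
  have eX : X.smallEtaleTopology = (X.smallPretopology (P := EtCoh.etaleMP) (Q := EtCoh.etaleMP)).toGrothendieck :=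
    Scheme.smallGrothendieckTopology_eq_toGrothendieck_smallPretopology X le_rfl
  have hS : Sieve.ofArrows _ (fun a => incl B (W a)) ∈ X.smallEtaleTopology B := by
    rw [eX]
    refine (Scheme.mem_toGrothendieck_smallPretopology B _).2 fun x => ?_
    obtain ⟨a, ha⟩ := TopologicalSpace.Opens.mem_iSup.1 (show x ∈ ⨆ a, W a by rw [hsup]; trivial)
    exact ⟨sub B (W a), incl B (W a), ⟨x, ha⟩, Sieve.ofArrows_mk _ _ a,
      (inferInstance : Etale (W a).ι), rfl⟩
  have h := (Presieve.isSheafFor_iff_generate _).2 (hP _ hS)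
  obtain ⟨t, ht, -⟩ := (Presieve.isSheafFor_arrows_iff P _).1 h s (by
    intro a b Z ga gb e
    by_cases hab : a = b
    · subst hab
      have : ga = gb := MorphismProperty.Over.Hom.ext ((cancel_mono (W a).ι).1
        (congrArg (fun k : Z ⟶ B => k.left) e))
      rw [this]
    · have hZ : IsEmpty Z.left := ⟨fun z => by
        have h1 : (W a).ι (ga.left z) = (W b).ι (gb.left z) :=
          (Scheme.Hom.comp_apply ga.left (W a).ι z).symm.trans
            ((congrArg (fun k : Z ⟶ B => k.left z) e).trans (Scheme.Hom.comp_apply gb.left (W b).ι z))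
        exact (hd a b hab).le_bot ⟨(ga.left z).2, (congrArg (· ∈ W b) h1).mpr (gb.left z).2⟩⟩
      have hbot : (⊥ : Sieve Z) ∈ X.smallEtaleTopology Z := by
        rw [eX]
        exact (Scheme.mem_toGrothendieck_smallPretopology Z ⊥).2 fun z => hZ.elim z
      exact (hP ⊥ hbot).isSeparatedFor.ext fun _ f hf => hf.elim)
  exact ⟨t, ht⟩

end Groth.Agent.LEtGlue
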