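import Groth.Agent.Lib.LEtStalkPull
import Groth.Agent.Lib.LEtExtZero

/-! Stalks and direct images along immersions. -/

set_option autoImplicit false
universe u
open CategoryTheory Category Limits Opposite AlgebraicGeometry

namespace Groth.Agent.LEtImm

variable {Z X : Scheme.{u}}

/-- sections over an empty étale scheme -/
lemma subsingleton_sect {G : EtCoh.Ab Z} (W : Z.Etale) (hW : IsEmpty W.left) : Subsingleton (G.obj.obj (op W)) := by
  have eX : Z.smallEtaleTopology = (Z.smallPretopology (P := EtCoh.etaleMP) (Q := EtCoh.etaleMP)).toGrothendieck :=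
    Scheme.smallGrothendieckTopology_eq_toGrothendieck_smallPretopology Z le_rfl
  have h : (⊥ : Sieve W) ∈ Z.smallEtaleTopology W := by
    rw [eX]
    exact (Scheme.mem_toGrothendieck_smallPretopology W ⊥).2 fun w => hW.elim w
  exact AddCommGrpCat.subsingleton_of_isZero ((Sheaf.isTerminalOfBotCover G W h).isZero)

theorem isZero_stalk_push (i : Z ⟶ X) (hi : IsClosed (Set.range i)) (G : EtCoh.Ab Z) {Ω : Type u} [Field Ω]
    [IsSepClosed Ω] (ξ : Spec (CommRingCat.of Ω) ⟶ X)
    (hξ : Disjoint (Set.range ξ) (Set.range i)) :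
    IsZero ((EtCoh.stalk ξ).obj ((EtCoh.push i).obj G)) := by
  suffices h : Subsingleton ((EtCoh.stalk ξ).obj ((EtCoh.push i).obj G)) from
    AddCommGrpCat.isZero_of_subsingleton _
  refine subsingleton_of_forall_eq 0 fun p => ?_
  let Φ := Scheme.pointSmallEtale ξ
  let P : X.Etaleᵒᵖ ⥤ AddCommGrpCat.{u + 1} := ((EtCoh.push i).obj G).obj
  obtain ⟨V, v, z, rfl⟩ := Φ.toPresheafFiber_jointly_surjective (P := P) p
  let O : V.left.Opens := ⟨V.hom ⁻¹' (Set.range i)ᶜ, hi.isOpen_compl.preimage V.hom.continuous⟩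
  have : Etale (O.ι ≫ V.hom) := MorphismProperty.comp_mem @Etale O.ι V.hom inferInstance V.prop
  let V' : X.Etale := Scheme.Etale.mk (O.ι ≫ V.hom)
  let g : V' ⟶ V := MorphismProperty.Over.homMk O.ι rfl trivial
  haveI hO : IsOpenImmersion O.ι := inferInstance
  have hv : Set.range v.left ⊆ Set.range O.ι := by
    intro a ha
    obtain ⟨t, rfl⟩ := ha
    refine (Set.ext_iff.1 (Scheme.Opens.range_ι O) _).2 ?_
    have e : V.hom (v.left t) = ξ t :=
      (Scheme.Hom.comp_apply v.left V.hom t).symm.trans (congrArg (fun s : Spec _ ⟶ X => s t) (Over.w v))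
    exact fun h => Set.disjoint_left.1 hξ ⟨t, e.symm⟩ h
  let v' : Φ.fiber.obj V' := Over.homMk (@IsOpenImmersion.lift _ _ _ O.ι v.left hO hv)
    ((Category.assoc _ _ _).symm.trans ((congrArg (· ≫ V.hom) (@IsOpenImmersion.lift_fac _ _ _ O.ι v.left hO hv)).trans (Over.w v)))
  have hv' : Φ.fiber.map g v' = v := Over.OverMorphism.ext (@IsOpenImmersion.lift_fac _ _ _ O.ι v.left hO hv)
  have he : IsEmpty ((EtCoh.bc i).obj V').left := ⟨fun (w : (Limits.pullback V'.hom i : Scheme.{u})) => by
    have e : V'.hom ((pullback.fst V'.hom i) w) = i ((pullback.snd V'.hom i) w) :=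
      (Scheme.Hom.comp_apply _ _ w).symm.trans
        ((congrArg (fun s : _ ⟶ X => s w) pullback.condition).trans (Scheme.Hom.comp_apply _ _ w))
    exact ((pullback.fst V'.hom i) w).2 ⟨_, e.symm.trans (Scheme.Hom.comp_apply O.ι V.hom _)⟩⟩
  have := subsingleton_sect (G := G) _ he
  rw [← hv', ← Φ.toPresheafFiber_w_apply g v' P z]
  rw [Subsingleton.elim (α := G.obj.obj (op ((EtCoh.bc i).obj V'))) (P.map g.op z) 0]
  exact map_zero (Φ.toPresheafFiber V' v' P).hom

section open'

variable (j : Z ⟶ X) [IsOpenImmersion j]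

instance isIso_unit_extAdj : IsIso (LEtExtZero.extAdj j).unit := by
  have : ∀ W, IsIso ((LEtExtZero.extAdj j).unit.app W) := fun W => by
    have h : IsPullback (𝟙 W.left) W.hom (W.hom ≫ j) j :=
      ⟨⟨Category.id_comp _⟩, ⟨PullbackCone.IsLimit.mk _ (fun s => s.fst) (fun s => Category.comp_id _)
        (fun s => (cancel_mono j).1 ((Category.assoc _ _ _).trans s.condition))
        (fun s m h1 _ => (Category.comp_id m).symm.trans h1)⟩⟩
    have : IsIso ((LEtExtZero.extAdj j).unit.app W).left := by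
      have e : ((LEtExtZero.extAdj j).unit.app W).left = h.isoPullback.hom := by
        refine pullback.hom_ext ((pullback.lift_fst _ _ _).trans h.isoPullback_hom_fst.symm)
          ((pullback.lift_snd _ _ _).trans h.isoPullback_hom_snd.symm)
      rw [e]
      infer_instance
    have : IsIso ((Scheme.Etale.forget Z ⋙ CategoryTheory.Over.forget Z).map ((LEtExtZero.extAdj j).unit.app W)) := this
    exact isIso_of_reflects_iso _ (Scheme.Etale.forget Z ⋙ CategoryTheory.Over.forget Z)
  exact NatIso.isIso_of_isIso_app _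

instance isIso_counit (G : EtCoh.Ab Z) : IsIso ((EtCoh.pullPushAdj j).counit.app G) := by
  have h1 : IsIso ((LEtExtZero.restrAdj j).counit.app G) := by
    have : ∀ W, IsIso (((LEtExtZero.restrAdj j).counit.app G).hom.app W) := fun W => by
      change IsIso (G.obj.map ((LEtExtZero.extAdj j).unit.app W.unop).op)
      infer_instance
    have : IsIso ((LEtExtZero.restrAdj j).counit.app G).hom := NatIso.isIso_of_isIso_app _
    have : IsIso ((sheafToPresheaf Z.smallEtaleTopology AddCommGrpCat.{u + 1}).map ((LEtExtZero.restrAdj j).counit.app G)) := this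
    exact isIso_of_reflects_iso _ (sheafToPresheaf _ _)
  have e := Adjunction.leftAdjointUniq_hom_app_counit (LEtExtZero.restrAdj j) (EtCoh.pullPushAdj j) G
  rw [← e] at h1
  exact IsIso.of_isIso_comp_left ((Adjunction.leftAdjointUniq (LEtExtZero.restrAdj j) (EtCoh.pullPushAdj j)).hom.app _) _

/-- stalks of direct images along open immersions -/
noncomputable def stalkPushIso (G : EtCoh.Ab Z) {Ω : Type u} [Field Ω] [IsSepClosed Ω]
    (ζ : Spec (CommRingCat.of Ω) ⟶ Z) :
    (EtCoh.stalk (ζ ≫ j)).obj ((EtCoh.push j).obj G) ≅ (EtCoh.stalk ζ).obj G :=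
  ((LEtStalkPull.stalkPullIso j ζ).app ((EtCoh.push j).obj G)).symm ≪≫
    (EtCoh.stalk ζ).mapIso (asIso ((EtCoh.pullPushAdj j).counit.app G))

end open'

end Groth.Agent.LEtImm
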