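import Mathlib
import Groth.Prelude.Def_EtBase

/-! Geometric stalks detect monos, epis and exactness on small étale sites. -/

set_option autoImplicit false
universe u
open CategoryTheory Category Limits Opposite AlgebraicGeometry

namespace Groth.Agent.LEtStalk

variable {X : Scheme.{u}}

/-- jointly surjective on geometric fibres implies covering -/
lemma mem_topology (W : X.Etale) (S : Sieve W)
    (h : ∀ (Ω : Type u) [Field Ω] [IsSepClosed Ω] (ξ : Spec (CommRingCat.of Ω) ⟶ X)
      (x : (Scheme.pointSmallEtale ξ).fiber.obj W), ∃ (Y : X.Etale) (g : Y ⟶ W) (_ : S g)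
        (y : (Scheme.pointSmallEtale ξ).fiber.obj Y), (Scheme.pointSmallEtale ξ).fiber.map g y = x) :
    S ∈ X.smallEtaleTopology W := by
  have eX : X.smallEtaleTopology = (X.smallPretopology (P := EtCoh.etaleMP) (Q := EtCoh.etaleMP)).toGrothendieck :=
    Scheme.smallGrothendieckTopology_eq_toGrothendieck_smallPretopology X le_rfl
  rw [eX]
  refine (Scheme.mem_toGrothendieck_smallPretopology W S).2 fun w => ?_
  let ξW := (Scheme.SpecToEquivOfField (SeparableClosure (W.left.residueField w)) W.left).symm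
    ⟨w, CommRingCat.ofHom (algebraMap (W.left.residueField w) _)⟩
  obtain ⟨Y, g, hg, y, hy⟩ := h _ (ξW ≫ W.hom) (Over.homMk ξW rfl)
  refine ⟨Y, g, y.left (default : Spec (CommRingCat.of (SeparableClosure (W.left.residueField w)))), hg, ?_, ?_⟩
  · have : Etale (g.left ≫ W.hom) := by rw [MorphismProperty.Over.w g]; exact Y.prop
    exact MorphismProperty.of_postcomp (W := @Etale) (W' := @Etale) g.left W.hom W.prop this
  · have e : y.left ≫ g.left = ξW := congrArg (fun t => t.left) hy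
    refine ((Scheme.Hom.comp_apply y.left g.left _).symm.trans
      (congrArg (fun t : Spec _ ⟶ W.left => t (default : Spec (CommRingCat.of (SeparableClosure (W.left.residueField w))))) e)).trans ?_
    simp [ξW, Scheme.SpecToEquivOfField]

/-- covering criterion from a family of geometric points meeting every point -/
lemma mem_topology_of_family {ι : Type u} {Ω : ι → Type u} [∀ i, Field (Ω i)] [∀ i, IsSepClosed (Ω i)]
    (ξ : ∀ i, Spec (CommRingCat.of (Ω i)) ⟶ X) (hξ : ∀ x : X, ∃ i, ξ i default = x)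
    (W : X.Etale) (S : Sieve W)
    (h : ∀ (i : ι) (x : (Scheme.pointSmallEtale (ξ i)).fiber.obj W), ∃ (Y : X.Etale) (g : Y ⟶ W) (_ : S g)
        (y : (Scheme.pointSmallEtale (ξ i)).fiber.obj Y), (Scheme.pointSmallEtale (ξ i)).fiber.map g y = x) :
    S ∈ X.smallEtaleTopology W := by
  have eX : X.smallEtaleTopology = (X.smallPretopology (P := EtCoh.etaleMP) (Q := EtCoh.etaleMP)).toGrothendieck :=
    Scheme.smallGrothendieckTopology_eq_toGrothendieck_smallPretopology X le_rfl
  rw [eX]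
  refine (Scheme.mem_toGrothendieck_smallPretopology W S).2 fun w => ?_
  obtain ⟨i, hi⟩ := hξ (W.hom w)
  obtain ⟨x, hx⟩ := Scheme.pointSmallEtaleFiberObjToPreimage_surjective (ξ i) hi W ⟨w, rfl⟩
  obtain ⟨Y, g, hg, y, hy⟩ := h i x
  refine ⟨Y, g, y.left (default : Spec (CommRingCat.of (Ω i))), hg, ?_, ?_⟩
  · have : Etale (g.left ≫ W.hom) := by rw [MorphismProperty.Over.w g]; exact Y.prop
    exact MorphismProperty.of_postcomp (W := @Etale) (W' := @Etale) g.left W.hom W.prop this
  · refine ((Scheme.Hom.comp_apply y.left g.left _).symm.trans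
      (congrArg (fun t : Spec _ ⟶ W.left => t (default : Spec (CommRingCat.of (Ω i)))) (congrArg (fun t => t.left) hy))).trans ?_
    exact congrArg Subtype.val hx

variable {A : Type (u + 2)} [Category.{u + 1} A] [HasColimitsOfSize.{u, u} A]
  {FC : A → A → Type*} {CC : A → Type (u + 1)}
  [∀ (X Y : A), FunLike (FC X Y) (CC X) (CC Y)] [ConcreteCategory.{u + 1} A FC]
  [PreservesFilteredColimitsOfSize.{u, u} (forget A)]

variable {F G : X.Etaleᵒᵖ ⥤ A} (f : F ⟶ G)

lemma isLocallyInjective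
    (h : ∀ (Ω : Type u) [Field Ω] [IsSepClosed Ω] (ξ : Spec (CommRingCat.of Ω) ⟶ X),
      Function.Injective ((Scheme.pointSmallEtale ξ).presheafFiber.map f)) :
    Presheaf.IsLocallyInjective X.smallEtaleTopology f where
  equalizerSieve_mem {W} a b e := by
    refine mem_topology W.unop _ fun Ω _ _ ξ x => ?_
    let Φ := Scheme.pointSmallEtale ξ
    have h1 : Φ.toPresheafFiber W.unop x F a = Φ.toPresheafFiber W.unop x F b := h Ω ξ (by
      rw [Φ.toPresheafFiber_naturality_apply, Φ.toPresheafFiber_naturality_apply, e])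
    obtain ⟨Y, g, y, hy, hg⟩ := (Φ.toPresheafFiber_eq_iff' W.unop x a b).1 h1
    exact ⟨Y, g, hg, y, hy⟩

lemma isLocallySurjective
    (h : ∀ (Ω : Type u) [Field Ω] [IsSepClosed Ω] (ξ : Spec (CommRingCat.of Ω) ⟶ X),
      Function.Surjective ((Scheme.pointSmallEtale ξ).presheafFiber.map f)) :
    Presheaf.IsLocallySurjective X.smallEtaleTopology f where
  imageSieve_mem {W} s := by
    refine mem_topology W _ fun Ω _ _ ξ x => ?_
    let Φ := Scheme.pointSmallEtale ξ
    obtain ⟨p, hp⟩ := h Ω ξ (Φ.toPresheafFiber W x G s)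
    obtain ⟨V, v, z, rfl⟩ := Φ.toPresheafFiber_jointly_surjective p
    rw [Φ.toPresheafFiber_naturality_apply] at hp
    obtain ⟨Z, z', a, b, ha, hb⟩ : ∃ (Z : X.Etale) (z' : Φ.fiber.obj Z) (a : Z ⟶ V) (b : Z ⟶ W),
        Φ.fiber.map a z' = v ∧ Φ.fiber.map b z' = x :=
      let k₁ : Φ.fiber.Elements := ⟨V, v⟩
      let k₂ : Φ.fiber.Elements := ⟨W, x⟩
      ⟨_, _, (IsCofiltered.minToLeft k₁ k₂).1, (IsCofiltered.minToRight k₁ k₂).1,
        (IsCofiltered.minToLeft k₁ k₂).2, (IsCofiltered.minToRight k₁ k₂).2⟩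
    subst ha hb
    rw [← Φ.toPresheafFiber_w_apply a, ← Φ.toPresheafFiber_w_apply b] at hp
    obtain ⟨Y, g, y, hy, hg⟩ := (Φ.toPresheafFiber_eq_iff' Z z' _ _).1 hp
    refine ⟨Y, g ≫ b, ⟨F.map g.op (F.map a.op z), ?_⟩, y, ?_⟩
    · rw [op_comp, Functor.map_comp, ConcreteCategory.comp_apply, NatTrans.naturality_apply,
        NatTrans.naturality_apply]
      exact hg
    · rw [Functor.map_comp, ConcreteCategory.comp_apply, hy]

section Ab

instance pfc : PreservesFilteredColimitsOfSize.{u, u} (forget AddCommGrpCat.{u + 1}) :=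
  preservesFilteredColimitsOfSize_shrink.{u, u + 1, u, u + 1} _

instance ab5 : AB5OfSize.{u, u} AddCommGrpCat.{u + 1} := AB5OfSize_of_univLE.{u, u, u + 1, u + 1} _

variable {P Q : EtCoh.Ab X} (φ : P ⟶ Q)

theorem mono_iff : Mono φ ↔ ∀ (Ω : Type u) [Field Ω] [IsSepClosed Ω] (ξ : Spec (CommRingCat.of Ω) ⟶ X),
    Function.Injective ((EtCoh.stalk ξ).map φ) := by
  constructor
  · intro _ Ω _ _ ξ
    exact (AddCommGrpCat.mono_iff_injective ((EtCoh.stalk ξ).map φ)).1 inferInstance
  · intro h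
    have : Sheaf.IsLocallyInjective φ := isLocallyInjective φ.hom h
    exact Sheaf.mono_of_isLocallyInjective φ

theorem mono_of_family {ι : Type u} {Ω : ι → Type u} [∀ i, Field (Ω i)] [∀ i, IsSepClosed (Ω i)]
    (ξ : ∀ i, Spec (CommRingCat.of (Ω i)) ⟶ X) (hξ : ∀ x : X, ∃ i, ξ i default = x)
    (h : ∀ i, Function.Injective ((EtCoh.stalk (ξ i)).map φ)) : Mono φ := by
  have : Sheaf.IsLocallyInjective φ := ⟨fun {W} a b e => by
    refine mem_topology_of_family ξ hξ W.unop _ fun i x => ?_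
    let Φ := Scheme.pointSmallEtale (ξ i)
    have h1 : Φ.toPresheafFiber W.unop x P.obj a = Φ.toPresheafFiber W.unop x P.obj b := h i (by
      change Φ.presheafFiber.map φ.hom _ = Φ.presheafFiber.map φ.hom _
      rw [Φ.toPresheafFiber_naturality_apply, Φ.toPresheafFiber_naturality_apply, e])
    obtain ⟨Y, g, y, hy, hg⟩ := (Φ.toPresheafFiber_eq_iff' W.unop x a b).1 h1
    exact ⟨Y, g, hg, y, hy⟩⟩
  exact Sheaf.mono_of_isLocallyInjective φ

theorem epi_iff : Epi φ ↔ ∀ (Ω : Type u) [Field Ω] [IsSepClosed Ω] (ξ : Spec (CommRingCat.of Ω) ⟶ X),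
    Function.Surjective ((EtCoh.stalk ξ).map φ) := by
  constructor
  · intro _ Ω _ _ ξ
    exact (AddCommGrpCat.epi_iff_surjective ((EtCoh.stalk ξ).map φ)).1 inferInstance
  · intro h
    have : Sheaf.IsLocallySurjective φ := isLocallySurjective φ.hom h
    infer_instance

theorem isIso_iff : IsIso φ ↔ ∀ (Ω : Type u) [Field Ω] [IsSepClosed Ω] (ξ : Spec (CommRingCat.of Ω) ⟶ X),
    IsIso ((EtCoh.stalk ξ).map φ) := by
  constructor
  · intro _ Ω _ _ ξ
    infer_instance
  · intro h
    have : Mono φ := (mono_iff φ).2 fun Ω _ _ ξ =>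
      ((AddCommGrpCat.mono_iff_injective _).1 (h Ω ξ).mono_of_iso)
    have : Epi φ := (epi_iff φ).2 fun Ω _ _ ξ =>
      ((AddCommGrpCat.epi_iff_surjective _).1 (h Ω ξ).epi_of_iso)
    exact isIso_of_mono_of_epi φ

theorem isZero_iff : IsZero P ↔ ∀ (Ω : Type u) [Field Ω] [IsSepClosed Ω] (ξ : Spec (CommRingCat.of Ω) ⟶ X),
    IsZero ((EtCoh.stalk ξ).obj P) := by
  constructor
  · intro h Ω _ _ ξ
    exact (EtCoh.stalk ξ).map_isZero h
  · intro h
    have : Mono (0 : P ⟶ P) := (mono_iff _).2 fun Ω _ _ ξ a b _ => by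
      have := AddCommGrpCat.subsingleton_of_isZero (h Ω ξ)
      exact Subsingleton.elim a b
    exact IsZero.of_mono_zero P P

theorem exact_iff (S : ShortComplex (EtCoh.Ab X)) :
    S.Exact ↔ ∀ (Ω : Type u) [Field Ω] [IsSepClosed Ω] (ξ : Spec (CommRingCat.of Ω) ⟶ X),
      (S.map (EtCoh.stalk ξ)).Exact := by
  rw [S.exact_iff_isZero_homology, isZero_iff (P := S.homology)]
  refine forall_congr' fun Ω => forall_congr' fun _ => forall_congr' fun _ => forall_congr' fun ξ => ?_
  rw [ShortComplex.exact_iff_isZero_homology]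
  exact (S.mapHomologyIso (EtCoh.stalk ξ)).isZero_iff.symm

end Ab

end Groth.Agent.LEtStalk
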