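import Mathlib
import Groth.Agent.Lib.RegularLocalSerre

set_option autoImplicit false
universe u
open IsLocalRing AlgebraicGeometry

namespace Groth.Agent.LEtaleLocal

variable {R S : Type u} [CommRing R] [CommRing S] [IsLocalRing R] [IsLocalRing S] [Algebra R S]
  [IsLocalHom (algebraMap R S)] [IsNoetherianRing R] [IsNoetherianRing S] [Module.Flat R S]

theorem dim_eq (h : (maximalIdeal R).map (algebraMap R S) = maximalIdeal S) :
    ringKrullDim S = ringKrullDim R := by
  haveI : (maximalIdeal S).LiesOver (maximalIdeal R) :=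
    ⟨(((local_hom_TFAE (algebraMap R S)).out 0 4 rfl rfl).mp inferInstance).symm⟩
  rw [← maximalIdeal_height_eq_ringKrullDim, ← maximalIdeal_height_eq_ringKrullDim,
    Ideal.height_eq_height_add_of_liesOver_of_hasGoingDown (maximalIdeal R) (maximalIdeal S)]
  have h0 : ((maximalIdeal S).map (Ideal.Quotient.mk ((maximalIdeal R).map (algebraMap R S)))).height = 0 := by
    rw [h, Ideal.map_quotient_self]
    haveI : Nontrivial (S ⧸ maximalIdeal S) := Ideal.Quotient.nontrivial_iff.2 (Ideal.IsMaximal.ne_top inferInstance)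
    exact Ideal.height_bot
  rw [h0, add_zero]

theorem regular_iff (h : (maximalIdeal R).map (algebraMap R S) = maximalIdeal S) :
    IsRegularLocalRing R ↔ IsRegularLocalRing S := by
  refine ⟨fun hR => IsRegularLocalRing.of_spanFinrank_maximalIdeal_le _ ?_,
    fun hS => Groth.Agent.RegLocal.regular_of_flat (S := S)⟩
  rw [dim_eq h, ← hR.spanFinrank_maximalIdeal, ← h]
  exact_mod_cast Ideal.spanFinrank_map_le_of_fg (algebraMap R S) (IsNoetherian.noetherian (maximalIdeal R))

theorem stalk {X Y : Scheme.{u}} (f : X ⟶ Y) [Etale f] [IsLocallyNoetherian Y] (x : X) :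
    ringKrullDim (X.presheaf.stalk x) = ringKrullDim (Y.presheaf.stalk (f x)) ∧
      (IsRegularLocalRing (X.presheaf.stalk x) ↔ IsRegularLocalRing (Y.presheaf.stalk (f x))) := by
  haveI : IsLocallyNoetherian X := LocallyOfFiniteType.isLocallyNoetherian f
  algebraize [(f.stalkMap x).hom]
  haveI : IsLocalHom (algebraMap (Y.presheaf.stalk (f x)) (X.presheaf.stalk x)) :=
    inferInstanceAs <| IsLocalHom (f.stalkMap x).hom
  haveI : Algebra.EssFiniteType (Y.presheaf.stalk (f x)) (X.presheaf.stalk x) := by
    rw [← RingHom.essFiniteType_algebraMap, RingHom.algebraMap_toAlgebra]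
    exact LocallyOfFiniteType.stalkMap f x
  haveI : Algebra.FormallyUnramified (Y.presheaf.stalk (f x)) (X.presheaf.stalk x) := by
    rw [← RingHom.formallyUnramified_algebraMap, RingHom.algebraMap_toAlgebra]
    exact FormallyUnramified.stalkMap f x
  haveI : Module.Flat (Y.presheaf.stalk (f x)) (X.presheaf.stalk x) := by
    rw [← RingHom.flat_algebraMap_iff, RingHom.algebraMap_toAlgebra]
    exact Flat.stalkMap f x
  have h := Algebra.FormallyUnramified.map_maximalIdeal (R := Y.presheaf.stalk (f x)) (S := X.presheaf.stalk x)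
  exact ⟨dim_eq h, (regular_iff h).symm⟩

end Groth.Agent.LEtaleLocal
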