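import Mathlib

/-! Integrality descends along a faithfully flat map modulo nilpotents. -/

set_option autoImplicit false
universe u
open Polynomial

namespace Groth.Agent.LFFIntegral

variable {A B : Type u} [CommRing A] [IsDomain A] [CommRing B] [Algebra A B] [Module.FaithfullyFlat A B]

theorem algebraMap_red_injective : Function.Injective (algebraMap A (B ⧸ nilradical B)) := by
  rw [injective_iff_map_eq_zero]
  intro a ha
  rw [IsScalarTower.algebraMap_apply A B (B ⧸ nilradical B),
    Ideal.Quotient.algebraMap_eq, Ideal.Quotient.eq_zero_iff_mem, mem_nilradical] at ha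
  obtain ⟨k, hk⟩ := ha
  rw [← map_pow, ← map_zero (algebraMap A B)] at hk
  exact eq_zero_of_pow_eq_zero (FaithfulSMul.algebraMap_injective A B hk)

theorem mem_nonZeroDivisors (a : A) (ha : a ≠ 0) :
    algebraMap A (B ⧸ nilradical B) a ∈ nonZeroDivisors (B ⧸ nilradical B) := by
  rw [mem_nonZeroDivisors_iff_right]
  intro c hc
  obtain ⟨c, rfl⟩ := Ideal.Quotient.mk_surjective c
  rw [IsScalarTower.algebraMap_apply A B (B ⧸ nilradical B), Ideal.Quotient.algebraMap_eq, ← map_mul,
    Ideal.Quotient.eq_zero_iff_mem, mem_nilradical] at hc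
  obtain ⟨k, hk⟩ := hc
  refine Ideal.Quotient.eq_zero_iff_mem.mpr (mem_nilradical.mpr ⟨k, ?_⟩)
  have h : IsSMulRegular B (a ^ k) :=
    Module.Flat.isSMulRegular_of_isRegular (isRegular_of_ne_zero (pow_ne_zero k ha))
  refine h ?_
  simp only [smul_zero, Algebra.smul_def, map_pow, mul_zero, ← mul_pow]
  rw [mul_comm]; exact hk

theorem exists_poly {K : Type u} [Field K] [Algebra A K] (a b : A) (hb : algebraMap A K b ≠ 0) :
    ∀ (k : ℕ) (z : A), z ∈ (Ideal.span {a, b}) ^ k →
      ∃ q : A[X], q.natDegree ≤ k ∧ aeval (algebraMap A K a / algebraMap A K b) q * algebraMap A K b ^ k = algebraMap A K z := by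
  intro k
  induction k with
  | zero => intro z _; exact ⟨C z, by simp, by simp⟩
  | succ k ih =>
    intro z hz
    rw [pow_succ'] at hz
    refine Submodule.mul_induction_on hz ?_ ?_
    · intro u hu w hw
      obtain ⟨s, t, rfl⟩ := Ideal.mem_span_pair.mp hu
      obtain ⟨q, hq, he⟩ := ih w hw
      refine ⟨(C s * X + C t) * q, le_trans natDegree_mul_le ?_, ?_⟩
      · have : (C s * X + C t).natDegree ≤ 1 := natDegree_linear_le
        omega
      · simp only [map_mul, map_add, aeval_C, aeval_X, ← he, pow_succ]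
        field_simp
    · rintro u w ⟨q, hq, he⟩ ⟨q', hq', he'⟩
      exact ⟨q + q', (natDegree_add_le _ _).trans (max_le hq hq'), by rw [map_add, add_mul, he, he', map_add]⟩

theorem isIntegral_iff (R : Type u) [CommRing R] [Algebra (B ⧸ nilradical B) R] [IsFractionRing (B ⧸ nilradical B) R]
    [Algebra A R] [IsScalarTower A (B ⧸ nilradical B) R] [Algebra (FractionRing A) R]
    [IsScalarTower A (FractionRing A) R] (x : FractionRing A) :
    IsIntegral (B ⧸ nilradical B) (algebraMap (FractionRing A) R x) ↔ IsIntegral A x := by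
  refine ⟨fun h => ?_, fun h => (h.map (IsScalarTower.toAlgHom A (FractionRing A) R)).tower_top⟩
  obtain ⟨a, b, hb, rfl⟩ := IsFractionRing.div_surjective (A := A) x
  have hb0 : algebraMap A (FractionRing A) b ≠ 0 := IsFractionRing.to_map_ne_zero_of_mem_nonZeroDivisors hb
  set xx := algebraMap A (FractionRing A) a / algebraMap A (FractionRing A) b
  obtain ⟨p, hp, hpx⟩ := h
  let φ : B →+* R := (algebraMap (B ⧸ nilradical B) R).comp (Ideal.Quotient.mk _)
  have hφ : ∀ c : A, φ (algebraMap A B c) = algebraMap A R c := fun c => by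
    rw [IsScalarTower.algebraMap_apply A (B ⧸ nilradical B) R, IsScalarTower.algebraMap_apply A B (B ⧸ nilradical B)]
    rfl
  obtain ⟨n, hn⟩ : ∃ n, p.natDegree = n := ⟨_, rfl⟩
  choose q hq using fun i => Ideal.Quotient.mk_surjective (I := nilradical B) (p.coeff i)
  let y : B := algebraMap A B a ^ n + ∑ i ∈ Finset.range n, q i * algebraMap A B (a ^ i * b ^ (n - i))
  have hy : IsNilpotent y := by
    refine Ideal.Quotient.eq_zero_iff_mem.mp (IsFractionRing.injective (B ⧸ nilradical B) R ?_)
    rw [map_zero]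
    show φ y = 0
    have hxb : algebraMap (FractionRing A) R xx * algebraMap A R b = algebraMap A R a := by
      rw [IsScalarTower.algebraMap_apply A (FractionRing A) R b, ← map_mul, div_mul_cancel₀ _ hb0,
        ← IsScalarTower.algebraMap_apply]
    rw [eval₂_eq_sum_range, hn] at hpx
    calc φ y = (∑ i ∈ Finset.range (n + 1), algebraMap (B ⧸ nilradical B) R (p.coeff i) * algebraMap (FractionRing A) R xx ^ i) *
          algebraMap A R b ^ n := by
            rw [Finset.sum_mul, Finset.sum_range_succ, show p.coeff n = 1 from hn ▸ hp, map_one, one_mul, ← mul_pow, hxb]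
            simp only [y, map_add, map_pow, map_sum, map_mul, hφ]
            rw [add_comm]
            congr 1
            refine Finset.sum_congr rfl fun i hi => ?_
            have hin : i + (n - i) = n := by have := Finset.mem_range.mp hi; omega
            rw [show φ (q i) = algebraMap (B ⧸ nilradical B) R (p.coeff i) by rw [← hq i]; rfl]
            conv_rhs => rw [← hin, pow_add]
            rw [← hxb, mul_pow]; ring
      _ = 0 := by rw [hpx, zero_mul]
  obtain ⟨m, hm⟩ := hy
  rcases Nat.eq_zero_or_pos n with rfl | hn0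
  · rw [show p = 1 from hp.natDegree_eq_zero.mp hn] at hpx
    haveI : Subsingleton R := subsingleton_of_zero_eq_one (by simpa using hpx.symm)
    exfalso
    have := algebraMap_red_injective (A := A) (B := B) (IsFractionRing.injective (B ⧸ nilradical B) R
      (Subsingleton.elim (algebraMap _ R (algebraMap A (B ⧸ nilradical B) 1)) (algebraMap _ R (algebraMap A (B ⧸ nilradical B) 0))))
    exact one_ne_zero this
  let I : Ideal A := Ideal.span {a, b}
  let J : Ideal A := Ideal.span {b} * I ^ (n - 1)
  have hmon : ∀ i < n, a ^ i * b ^ (n - i) ∈ J := fun i hi => by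
    have h1 : a ^ i * b ^ (n - 1 - i) ∈ I ^ (n - 1) := by
      rw [show I ^ (n - 1) = I ^ i * I ^ (n - 1 - i) by rw [← pow_add]; congr 1; omega]
      exact Ideal.mul_mem_mul (Ideal.pow_mem_pow (Ideal.subset_span (by simp)) _)
        (Ideal.pow_mem_pow (Ideal.subset_span (by simp)) _)
    rw [show n - i = 1 + (n - 1 - i) by omega, pow_add, pow_one, mul_left_comm]
    exact Ideal.mul_mem_mul (Ideal.mem_span_singleton_self b) h1
  have hJI : J ≤ I ^ n := by
    have hle : Ideal.span {b} ≤ I := Ideal.span_mono (by simp)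
    exact (Ideal.mul_mono_left hle).trans (le_of_eq (by rw [← pow_succ']; congr 1; omega))
  have hyJ : algebraMap A B a ^ n - y ∈ J.map (algebraMap A B) := by
    simp only [y, sub_add_cancel_left]
    exact neg_mem (sum_mem fun i hi => Ideal.mul_mem_left _ _ (Ideal.mem_map_of_mem _ (hmon i (Finset.mem_range.mp hi))))
  have haI : algebraMap A B a ^ n ∈ (I ^ n).map (algebraMap A B) := by
    rw [← map_pow]
    exact Ideal.mem_map_of_mem _ (Ideal.pow_mem_pow (Ideal.subset_span (by simp)) _)
  have hyI : y ∈ (I ^ n).map (algebraMap A B) := by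
    have := sub_mem haI (Ideal.map_mono hJI hyJ)
    simpa using this
  obtain ⟨m, rfl⟩ : ∃ k, m = k + 1 := ⟨m - 1, by
    rcases Nat.eq_zero_or_pos m with rfl | h
    · haveI : Subsingleton B := subsingleton_of_zero_eq_one (by simpa using hm.symm)
      exact absurd (FaithfulSMul.algebraMap_injective A B (Subsingleton.elim (algebraMap A B 1) (algebraMap A B 0))) one_ne_zero
    · omega⟩
  have hbig : a ^ (n * (m + 1)) ∈ Ideal.span {b} * I ^ (n * (m + 1) - 1) := by
    rw [← Ideal.comap_map_eq_self_of_faithfullyFlat (B := B) (Ideal.span {b} * I ^ (n * (m + 1) - 1)), Ideal.mem_comap]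
    have hgeom := (Commute.all (algebraMap A B a ^ n) y).mul_geom_sum₂ (m + 1)
    rw [hm, sub_zero, ← pow_mul] at hgeom
    rw [map_pow, ← hgeom, show n * (m + 1) - 1 = (n - 1) + n * m by rw [mul_add, mul_one]; omega, pow_add, ← mul_assoc,
      Ideal.map_mul]
    refine Ideal.mul_mem_mul hyJ (sum_mem fun j hj => ?_)
    have hjm : j ≤ m := by have := Finset.mem_range.mp hj; omega
    rw [show n * m = n * j + n * (m - j) by rw [← mul_add, Nat.add_sub_cancel' hjm], pow_add, Ideal.map_mul, pow_mul, pow_mul,
      Ideal.map_pow, Ideal.map_pow]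
    rw [show m + 1 - 1 - j = m - j by omega]
    exact Ideal.mul_mem_mul (by rw [← pow_mul, ← Ideal.map_pow, pow_mul, Ideal.map_pow]; exact Ideal.pow_mem_pow haI _)
      (by rw [Ideal.map_pow]; exact Ideal.pow_mem_pow hyI _)
  obtain ⟨z, hz, hzeq⟩ := Ideal.mem_span_singleton_mul.mp hbig
  obtain ⟨r, hr, he⟩ := exists_poly (K := FractionRing A) a b hb0 _ z hz
  have hN : 0 < n * (m + 1) := Nat.mul_pos hn0 (Nat.succ_pos _)
  refine ⟨X ^ (n * (m + 1)) - r, monic_X_pow_sub ((degree_le_of_natDegree_le hr).trans_lt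
    (by exact_mod_cast Nat.sub_lt hN one_pos)), ?_⟩
  show aeval xx (X ^ (n * (m + 1)) - r) = 0
  refine mul_right_cancel₀ (pow_ne_zero (n * (m + 1)) hb0) ?_
  rw [zero_mul, map_sub, sub_mul, map_pow, aeval_X, ← mul_pow, div_mul_cancel₀ _ hb0]
  obtain ⟨N, hN'⟩ : ∃ N, n * (m + 1) = N + 1 := ⟨_, (Nat.succ_pred_eq_of_pos hN).symm⟩
  rw [hN'] at he hzeq ⊢
  rw [pow_succ _ N, pow_succ (algebraMap A (FractionRing A) b) N, ← mul_assoc]
  rw [show aeval xx r * algebraMap A (FractionRing A) b ^ N = algebraMap A (FractionRing A) z by simpa using he,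
    ← map_pow, ← map_mul, ← map_mul, ← pow_succ, ← hzeq, mul_comm z b, sub_self]

end Groth.Agent.LFFIntegral
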