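import Groth.Prelude.Def_W4stkcategoriessitesFib
import Groth.Agent.Lib.H9FibEquiv
import Groth.Agent.Lib.H5CatBasics

set_option autoImplicit false
set_option linter.style.haveILetI false
set_option linter.unusedSectionVars false
set_option backward.isDefEq.respectTransparency false
set_option backward.isDefEq.respectTransparency.types false

universe v₃ u₃ v₂ u₂ v u

open CategoryTheory CategoryTheory.Functor CategoryTheory.Limits

namespace Groth.Agent.LFib

section plain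

variable {C : Type u} [Category.{v} C] {S : Type u₂} [Category.{v₂} S] {p : S ⥤ C}

theorem sc (h : FibCat.IsFibGrpd p) {V U : C} {y x : S} (f : V ⟶ U) (φ : y ⟶ x) [p.IsHomLift f φ] :
    p.IsStronglyCartesian f φ := by
  subst_hom_lift p f φ
  exact h.isStronglyCartesian φ

theorem isFibered (h : FibCat.IsFibGrpd p) : p.IsFibered := by
  refine Functor.IsFibered.of_exists_isStronglyCartesian fun a R f => ?_
  obtain ⟨b, φ, hφ⟩ := h.exists_lift f
  exact ⟨b, φ, sc h f φ⟩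

theorem isIso_vertical (h : FibCat.IsFibGrpd p) {U : C} {y x : S} (φ : y ⟶ x) [p.IsHomLift (𝟙 U) φ] : IsIso φ := by
  haveI := sc h (𝟙 U) φ
  exact IsStronglyCartesian.isIso_of_base_isIso p (𝟙 U) φ

theorem isIso_fiber_iff {U : C} {a b : p.Fiber U} (φ : a ⟶ b) : IsIso φ ↔ IsIso φ.1 := by
  constructor
  · intro _
    exact inferInstanceAs (IsIso (Fiber.fiberInclusion.map φ))
  · intro _
    haveI : p.IsHomLift (𝟙 U) φ.1 := φ.2
    exact ⟨⟨⟨inv φ.1, inferInstance⟩, Fiber.hom_ext (by exact IsIso.hom_inv_id φ.1), Fiber.hom_ext (by exact IsIso.inv_hom_id φ.1)⟩⟩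

theorem isFibGrpd_of (h1 : p.IsFibered) (h2 : ∀ U : C, IsGroupoid (p.Fiber U)) : FibCat.IsFibGrpd p where
  exists_lift {x V} f := by
    obtain ⟨y, φ, hφ⟩ := IsPreFibered.exists_isCartesian' (p := p) (a := x) f
    exact ⟨y, φ, hφ.toIsHomLift⟩
  isStronglyCartesian {y x} φ := by
    obtain ⟨y', ψ, hψ⟩ := IsPreFibered.exists_isCartesian' (p := p) (a := x) (p.map φ)
    let χ : y ⟶ y' := IsCartesian.map p (p.map φ) ψ φ
    have hχ : p.IsHomLift (𝟙 (p.obj y)) χ := IsCartesian.map_isHomLift p (p.map φ) ψ φ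
    have hy' : p.obj y' = p.obj y := IsHomLift.domain_eq p (p.map φ) ψ
    let a : p.Fiber (p.obj y) := ⟨y, rfl⟩
    let b : p.Fiber (p.obj y) := ⟨y', hy'⟩
    let χ' : a ⟶ b := ⟨χ, hχ⟩
    haveI : IsIso χ := (isIso_fiber_iff χ').1 ((h2 _).all_isIso χ')
    have e : χ ≫ ψ = φ := IsCartesian.fac p (p.map φ) ψ φ
    haveI : p.IsStronglyCartesian (𝟙 (p.obj y)) χ := IsStronglyCartesian.of_isIso p (𝟙 _) χ
    haveI : p.IsStronglyCartesian (p.map φ) ψ := inferInstance
    have := (inferInstance : p.IsStronglyCartesian (𝟙 _ ≫ p.map φ) (χ ≫ ψ))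
    rwa [e, Category.id_comp] at this

theorem ext_thin (h : FibCat.IsFibGrpd p) {V U : C} (hT : Quiver.IsThin (p.Fiber V)) {y x : S} (f : V ⟶ U) (a b : y ⟶ x)
    [p.IsHomLift f a] [p.IsHomLift f b] : a = b := by
  haveI := sc h f b
  let χ : y ⟶ y := IsStronglyCartesian.map p f b (g := 𝟙 V) (Category.id_comp f).symm a
  have hy := IsHomLift.domain_eq p f a
  let Y : p.Fiber V := ⟨y, hy⟩
  let χ' : Y ⟶ Y := ⟨χ, IsStronglyCartesian.map_isHomLift p f b (Category.id_comp f).symm a⟩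
  haveI := hT Y Y
  have e : χ = 𝟙 y := congrArg Subtype.val (Subsingleton.elim χ' (𝟙 Y))
  have := IsStronglyCartesian.fac p f b (g := 𝟙 V) (Category.id_comp f).symm a
  rw [← this, show IsStronglyCartesian.map p f b (g := 𝟙 V) (Category.id_comp f).symm a = 𝟙 y from e, Category.id_comp]

end plain

section based

variable {C : Type u} [Category.{v} C] {X : BasedCategory.{v₂, u₂} C} {Y : BasedCategory.{v₃, u₃} C} {F : X ⥤ᵇ Y}

/-- Every object of `Y` is vertically isomorphic to an image. -/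
theorem exists_lift_obj (hF : FibCat.IsEquivOver F) {U : C} (η : Y.obj) (hη : Y.p.obj η = U) :
    ∃ (ξ : X.obj) (e : F.obj ξ ≅ η), Y.p.IsHomLift (𝟙 U) e.hom := by
  subst hη
  exact (H9Fib.full_of_isEquivOver hF).2.2 η

theorem isStronglyCartesian_iff (hF : FibCat.IsEquivOver F) {R T : C} (f : R ⟶ T) {a b : X.obj} (φ : a ⟶ b) :
    Y.p.IsStronglyCartesian f (F.map φ) ↔ X.p.IsStronglyCartesian f φ := by
  obtain ⟨hfull, hfaith, -⟩ := H9Fib.full_of_isEquivOver hF
  constructor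
  · intro h
    haveI : X.p.IsHomLift f φ := (BasedFunctor.isHomLift_iff F _ _).1 h.toIsHomLift
    refine { universal_property' := fun {z} g ψ hψ => ?_ }
    haveI := hψ
    haveI : Y.p.IsHomLift (g ≫ f) (F.map ψ) := inferInstance
    obtain ⟨χ, ⟨h1, h2⟩, hu⟩ := IsStronglyCartesian.universal_property Y.p f (F.map φ) g (g ≫ f) rfl (F.map ψ)
    obtain ⟨χ', rfl⟩ := F.toFunctor.map_surjective χ
    refine ⟨χ', ⟨(BasedFunctor.isHomLift_iff F _ _).1 h1, F.toFunctor.map_injective (by rw [F.toFunctor.map_comp]; exact h2)⟩, ?_⟩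
    rintro κ ⟨k1, k2⟩
    exact F.toFunctor.map_injective (hu _ ⟨(BasedFunctor.isHomLift_iff F _ _).2 k1, by rw [← F.toFunctor.map_comp, k2]⟩)
  · intro h
    haveI := h
    refine { universal_property' := fun {z} g ψ hψ => ?_ }
    haveI := hψ
    obtain ⟨ξ, e, he⟩ := exists_lift_obj hF z rfl
    haveI := he
    obtain ⟨ψ', hψ'⟩ := F.toFunctor.map_surjective (e.hom ≫ ψ)
    haveI : Y.p.IsHomLift (g ≫ f) (e.hom ≫ ψ) := inferInstance
    haveI : X.p.IsHomLift (g ≫ f) ψ' := (BasedFunctor.isHomLift_iff F _ _).1 (by rw [hψ']; infer_instance)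
    obtain ⟨χ, ⟨h1, h2⟩, hu⟩ := IsStronglyCartesian.universal_property X.p f φ g (g ≫ f) rfl ψ'
    haveI := h1
    refine ⟨e.inv ≫ F.map χ, ⟨inferInstance, ?_⟩, ?_⟩
    · rw [Category.assoc, ← F.toFunctor.map_comp, h2, hψ', e.inv_hom_id_assoc]
    · rintro κ ⟨k1, k2⟩
      haveI := k1
      rw [Iso.eq_inv_comp]
      obtain ⟨κ', hκ'⟩ := F.toFunctor.map_surjective (e.hom ≫ κ)
      rw [← hκ']
      refine congrArg _ (hu _ ⟨(BasedFunctor.isHomLift_iff F _ _).1 (by rw [hκ']; infer_instance), F.toFunctor.map_injective ?_⟩)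
      rw [F.toFunctor.map_comp, hκ', Category.assoc, k2, hψ']

theorem isCartesian_iff (hF : FibCat.IsEquivOver F) {R T : C} (f : R ⟶ T) {a b : X.obj} (φ : a ⟶ b) :
    Y.p.IsCartesian f (F.map φ) ↔ X.p.IsCartesian f φ := by
  obtain ⟨hfull, hfaith, -⟩ := H9Fib.full_of_isEquivOver hF
  constructor
  · intro h
    haveI : X.p.IsHomLift f φ := (BasedFunctor.isHomLift_iff F _ _).1 h.toIsHomLift
    refine { universal_property := fun {z} ψ hψ => ?_ }
    haveI := hψ
    obtain ⟨χ, ⟨h1, h2⟩, hu⟩ := IsCartesian.universal_property (p := Y.p) (f := f) (φ := F.map φ) (F.map ψ)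
    obtain ⟨χ', rfl⟩ := F.toFunctor.map_surjective χ
    refine ⟨χ', ⟨(BasedFunctor.isHomLift_iff F _ _).1 h1, F.toFunctor.map_injective (by rw [F.toFunctor.map_comp]; exact h2)⟩, ?_⟩
    rintro κ ⟨k1, k2⟩
    exact F.toFunctor.map_injective (hu _ ⟨(BasedFunctor.isHomLift_iff F _ _).2 k1, by rw [← F.toFunctor.map_comp, k2]⟩)
  · intro h
    haveI := h
    refine { universal_property := fun {z} ψ hψ => ?_ }
    haveI := hψ
    obtain ⟨ξ, e, he⟩ := exists_lift_obj hF z (IsHomLift.domain_eq Y.p f ψ)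
    haveI := he
    obtain ⟨ψ', hψ'⟩ := F.toFunctor.map_surjective (e.hom ≫ ψ)
    haveI : X.p.IsHomLift f ψ' := (BasedFunctor.isHomLift_iff F _ _).1 (by rw [hψ']; infer_instance)
    obtain ⟨χ, ⟨h1, h2⟩, hu⟩ := IsCartesian.universal_property (p := X.p) (f := f) (φ := φ) ψ'
    haveI := h1
    refine ⟨e.inv ≫ F.map χ, ⟨inferInstance, ?_⟩, ?_⟩
    · rw [Category.assoc, ← F.toFunctor.map_comp, h2, hψ', e.inv_hom_id_assoc]
    · rintro κ ⟨k1, k2⟩
      haveI := k1
      rw [Iso.eq_inv_comp]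
      obtain ⟨κ', hκ'⟩ := F.toFunctor.map_surjective (e.hom ≫ κ)
      rw [← hκ']
      refine congrArg _ (hu _ ⟨(BasedFunctor.isHomLift_iff F _ _).1 (by rw [hκ']; infer_instance), F.toFunctor.map_injective ?_⟩)
      rw [F.toFunctor.map_comp, hκ', Category.assoc, k2, hψ']

theorem isFibered_iff (hF : FibCat.IsEquivOver F) : X.p.IsFibered ↔ Y.p.IsFibered := by
  obtain ⟨hfull, hfaith, hess⟩ := H9Fib.full_of_isEquivOver hF
  constructor
  · intro h
    refine Functor.IsFibered.of_exists_isStronglyCartesian fun η R f => ?_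
    obtain ⟨ξ, e, he⟩ := hess η
    have hξ : X.p.obj ξ = Y.p.obj η := (F.w_obj ξ).symm.trans (IsHomLift.domain_eq Y.p (𝟙 (Y.p.obj η)) e.hom)
    haveI := he
    obtain ⟨y, φ, hφ⟩ := IsPreFibered.exists_isCartesian X.p hξ f
    haveI := hφ
    haveI : X.p.IsStronglyCartesian f φ := inferInstance
    haveI : Y.p.IsStronglyCartesian f (F.map φ) := (isStronglyCartesian_iff hF f φ).2 inferInstance
    haveI : Y.p.IsStronglyCartesian (𝟙 (Y.p.obj η)) e.hom := inferInstance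
    exact ⟨F.obj y, F.map φ ≫ e.hom, by simpa using (inferInstance : Y.p.IsStronglyCartesian (f ≫ 𝟙 _) (F.map φ ≫ e.hom))⟩
  · intro h
    refine Functor.IsFibered.of_exists_isStronglyCartesian fun a R f => ?_
    obtain ⟨η, φ, hφ⟩ := IsPreFibered.exists_isCartesian Y.p (F.w_obj a) f
    haveI := hφ
    obtain ⟨ξ, e, he⟩ := exists_lift_obj hF η (IsHomLift.domain_eq Y.p f φ)
    haveI := he
    obtain ⟨ψ, hψ⟩ := F.toFunctor.map_surjective (e.hom ≫ φ)
    haveI : Y.p.IsStronglyCartesian (𝟙 R) e.hom := inferInstance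
    haveI : Y.p.IsStronglyCartesian (𝟙 R ≫ f) (e.hom ≫ φ) := inferInstance
    refine ⟨ξ, ψ, (isStronglyCartesian_iff hF f ψ).1 ?_⟩
    rw [hψ]
    simpa using (inferInstance : Y.p.IsStronglyCartesian (𝟙 R ≫ f) (e.hom ≫ φ))

end based

section fib

variable {C : Type u} [Category.{v} C] {X : BasedCategory.{v₂, u₂} C} {Y : BasedCategory.{v₃, u₃} C} (G : X ⥤ᵇ Y)

theorem fiber_faithful (h : G.toFunctor.Faithful) (U : C) : (FibCat.fiberFunctor G U).Faithful where
  map_injective {_ _} _ _ e := Fiber.hom_ext (G.toFunctor.map_injective (congrArg Subtype.val e))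

theorem fiber_full (h : G.toFunctor.Full) (U : C) : (FibCat.fiberFunctor G U).Full where
  map_surjective {a b} k := by
    obtain ⟨m, hm⟩ := G.toFunctor.map_surjective k.1
    refine ⟨⟨m, (BasedFunctor.isHomLift_iff G _ _).1 ?_⟩, Fiber.hom_ext hm⟩
    rw [show G.map m = k.1 from hm]
    exact k.2

theorem faithful_of_fiber (hX : FibCat.IsFibGrpd X.p) (hY : FibCat.IsFibGrpd Y.p)
    (h : ∀ U : C, (FibCat.fiberFunctor G U).Faithful) : G.toFunctor.Faithful where
  map_injective {x y} a b e := by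
    haveI hb : Y.p.IsHomLift (X.p.map b) (G.map b) := inferInstance
    haveI ha : Y.p.IsHomLift (X.p.map a) (G.map a) := inferInstance
    have hab : X.p.map a = X.p.map b := by
      have e1 := IsHomLift.fac Y.p (X.p.map a) (G.map a)
      have e2 := IsHomLift.fac Y.p (X.p.map b) (G.map b)
      exact (e1.trans (congrArg (fun k => eqToHom (G.w_obj x).symm ≫ Y.p.map k ≫ eqToHom (G.w_obj y)) e)).trans e2.symm
    haveI : X.p.IsHomLift (X.p.map b) a := hab ▸ inferInstance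
    haveI := hX.isStronglyCartesian b
    let χ : x ⟶ x := IsStronglyCartesian.map X.p (X.p.map b) b (g := 𝟙 _) (Category.id_comp _).symm a
    have hfac : χ ≫ b = a := IsStronglyCartesian.fac X.p (X.p.map b) b _ a
    haveI : X.p.IsHomLift (𝟙 (X.p.obj x)) χ := IsStronglyCartesian.map_isHomLift X.p (X.p.map b) b _ a
    have hGχ : G.map χ = 𝟙 (G.obj x) := by
      haveI := sc hY (X.p.map b) (G.map b)
      refine IsStronglyCartesian.ext Y.p (X.p.map b) (G.map b) (g := 𝟙 (X.p.obj x)) ?_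
      rw [← G.toFunctor.map_comp, hfac, Category.id_comp]
      exact e
    let A : X.p.Fiber (X.p.obj x) := ⟨x, rfl⟩
    let χ' : A ⟶ A := ⟨χ, inferInstance⟩
    have h1 : χ' = 𝟙 A := (h (X.p.obj x)).map_injective (Fiber.hom_ext (hGχ.trans (G.toFunctor.map_id x).symm))
    rw [← hfac, show χ = 𝟙 x from congrArg Subtype.val h1, Category.id_comp]

theorem full_of_fiber (hX : FibCat.IsFibGrpd X.p) (hY : FibCat.IsFibGrpd Y.p)
    (h : ∀ U : C, (FibCat.fiberFunctor G U).Full) : G.toFunctor.Full where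
  map_surjective {x y} k := by
    let u : X.p.obj x ⟶ X.p.obj y := eqToHom (G.w_obj x).symm ≫ Y.p.map k ≫ eqToHom (G.w_obj y)
    haveI : Y.p.IsHomLift u k := IsHomLift.of_fac _ _ _ (G.w_obj x) (G.w_obj y) rfl
    obtain ⟨x', ψ, hψ⟩ := hX.exists_lift u
    haveI := hψ
    haveI := sc hY u (G.map ψ)
    let m : G.obj x ⟶ G.obj x' := IsStronglyCartesian.map Y.p u (G.map ψ) (g := 𝟙 _) (Category.id_comp _).symm k
    have hm : Y.p.IsHomLift (𝟙 (X.p.obj x)) m := IsStronglyCartesian.map_isHomLift Y.p u (G.map ψ) _ k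
    have hfac : m ≫ G.map ψ = k := IsStronglyCartesian.fac Y.p u (G.map ψ) _ k
    let A : X.p.Fiber (X.p.obj x) := ⟨x, rfl⟩
    let B : X.p.Fiber (X.p.obj x) := ⟨x', IsHomLift.domain_eq X.p u ψ⟩
    let m' : (FibCat.fiberFunctor G _).obj A ⟶ (FibCat.fiberFunctor G _).obj B := ⟨m, hm⟩
    obtain ⟨n, hn⟩ := (h (X.p.obj x)).map_surjective m'
    refine ⟨n.1 ≫ ψ, ?_⟩
    rw [G.toFunctor.map_comp, show G.map n.1 = m from congrArg Subtype.val hn]
    exact hfac

theorem essSurj_of_fiber (h : ∀ U : C, (FibCat.fiberFunctor G U).EssSurj) : G.toFunctor.EssSurj where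
  mem_essImage η := by
    obtain ⟨ξ, ⟨e⟩⟩ := (h (Y.p.obj η)).mem_essImage ⟨η, rfl⟩
    exact ⟨ξ.1, ⟨Fiber.fiberInclusion.mapIso e⟩⟩

theorem fiber_essSurj (hX : FibCat.IsFibGrpd X.p) (h : G.toFunctor.EssSurj) (U : C) : (FibCat.fiberFunctor G U).EssSurj where
  mem_essImage := fun ⟨η, hη⟩ => by
    obtain ⟨ξ, ⟨i⟩⟩ := h.mem_essImage η
    let f : U ⟶ X.p.obj ξ := eqToHom hη.symm ≫ Y.p.map i.inv ≫ eqToHom (G.w_obj ξ)
    obtain ⟨ξ', φ, hφ⟩ := hX.exists_lift f
    haveI := hφ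
    haveI := sc hX f φ
    haveI : IsIso φ := IsStronglyCartesian.isIso_of_base_isIso X.p f φ
    haveI : Y.p.IsHomLift f i.inv := IsHomLift.of_fac _ _ _ hη (G.w_obj ξ) rfl
    haveI : Y.p.IsHomLift (inv f) i.hom := by simpa using IsHomLift.inv Y.p f i.inv
    haveI : Y.p.IsHomLift (𝟙 U) (G.map φ ≫ i.hom) := by simpa using (inferInstance : Y.p.IsHomLift (f ≫ inv f) (G.map φ ≫ i.hom))
    let A : X.p.Fiber U := ⟨ξ', IsHomLift.domain_eq X.p f φ⟩
    let k : (FibCat.fiberFunctor G U).obj A ⟶ ⟨η, hη⟩ := ⟨G.map φ ≫ i.hom, inferInstance⟩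
    haveI : IsIso (G.map φ ≫ i.hom) := inferInstance
    haveI : IsIso k := (isIso_fiber_iff k).2 inferInstance
    exact ⟨A, ⟨asIso k⟩⟩

end fib

end Groth.Agent.LFib
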