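import Groth.Agent.Lib.LFibCat

set_option autoImplicit false
set_option linter.style.haveILetI false
set_option linter.unusedSectionVars false
set_option backward.isDefEq.respectTransparency false
set_option backward.isDefEq.respectTransparency.types false

universe v₃ u₃ v₂ u₂ v u

open CategoryTheory CategoryTheory.Functor CategoryTheory.Limits

namespace Groth.Agent.LFib

section fibset

variable {C : Type u} [Category.{v} C] {A : Type u₂} [Category.{v₂} A] {p : A ⥤ C}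

theorem isFibSet_unique (h : FibCat.IsFibSet p) {η : A} {U : C} (f : U ⟶ p.obj η) :
    ∀ φ φ' : (Σ ξ : A, (ξ ⟶ η)), p.IsHomLift f φ.2 → p.IsHomLift f φ'.2 → φ = φ' := by
  rintro ⟨a, φ⟩ ⟨b, ψ⟩ (ha : p.IsHomLift f φ) (hb : p.IsHomLift f ψ)
  haveI := sc h.1 f ψ
  let χ : a ⟶ b := IsStronglyCartesian.map p f ψ (g := 𝟙 U) (Category.id_comp f).symm φ
  have hχ : p.IsHomLift (𝟙 U) χ := IsStronglyCartesian.map_isHomLift p f ψ (Category.id_comp f).symm φ
  let a' : p.Fiber U := ⟨a, IsHomLift.domain_eq p f φ⟩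
  let b' : p.Fiber U := ⟨b, IsHomLift.domain_eq p f ψ⟩
  haveI := h.2 U
  let χ' : a' ⟶ b' := ⟨χ, hχ⟩
  obtain rfl : a = b := congrArg Subtype.val (IsDiscrete.eq_of_hom (C := p.Fiber U) χ')
  have e : χ' = 𝟙 a' := Subsingleton.elim _ _
  have hfac : χ ≫ ψ = φ := IsStronglyCartesian.fac p f ψ _ φ
  rw [show χ = 𝟙 a from congrArg Subtype.val e, Category.id_comp] at hfac
  subst hfac; rfl

theorem isFibSet_of (h : ∀ (η : A) (U : C) (f : U ⟶ p.obj η), ∃! φ : (Σ ξ : A, (ξ ⟶ η)), p.IsHomLift f φ.2) :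
    FibCat.IsFibSet p := by
  refine ⟨{ exists_lift := fun {x V} f => ?_, isStronglyCartesian := fun {y x} φ => ?_ }, fun U => ?_⟩
  · obtain ⟨⟨y, φ⟩, hφ, -⟩ := h x V f
    exact ⟨y, φ, hφ⟩
  · refine { universal_property' := fun {z} g ψ hψ => ?_ }
    haveI := hψ
    obtain ⟨⟨z', χ⟩, hχ, hu⟩ := h y (p.obj z) g
    haveI : p.IsHomLift g χ := hχ
    have e : (⟨z', χ ≫ φ⟩ : Σ ξ : A, (ξ ⟶ x)) = ⟨z, ψ⟩ :=
      (h x (p.obj z) (g ≫ p.map φ)).unique (y₁ := ⟨z', χ ≫ φ⟩) (y₂ := ⟨z, ψ⟩) (inferInstanceAs (p.IsHomLift (g ≫ p.map φ) (χ ≫ φ))) hψ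
    obtain rfl : z' = z := congrArg Sigma.fst e
    refine ⟨χ, ⟨inferInstance, eq_of_heq (Sigma.mk.inj_iff.1 e).2⟩, ?_⟩
    rintro χ' ⟨h1, -⟩
    exact eq_of_heq (Sigma.mk.inj_iff.1 (hu ⟨z', χ'⟩ h1)).2
  · have key : ∀ {a b : p.Fiber U} (k : a ⟶ b), (⟨a.1, k.1⟩ : Σ ξ : A, (ξ ⟶ b.1)) = ⟨b.1, 𝟙 b.1⟩ := fun {a b} k => by
      obtain ⟨b, rfl⟩ := b
      exact (h b _ (𝟙 _)).unique (y₁ := ⟨a.1, k.1⟩) (y₂ := ⟨b, 𝟙 b⟩) k.2 (inferInstanceAs (p.IsHomLift (𝟙 (p.obj b)) (𝟙 b)))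
    exact { eq_of_hom := fun {a b} k => Subtype.ext (congrArg Sigma.fst (key k))
            subsingleton := fun a b => ⟨fun k l => Fiber.hom_ext (eq_of_heq (Sigma.mk.inj_iff.1 ((key k).trans (key l).symm)).2)⟩ }

theorem faithful_of_fibSet (h : FibCat.IsFibSet p) : p.Faithful where
  map_injective {a b} f g e := by
    haveI : p.IsHomLift (p.map g) f := e ▸ inferInstance
    exact eq_of_heq (Sigma.mk.inj_iff.1 (isFibSet_unique h (p.map g) ⟨a, f⟩ ⟨a, g⟩ inferInstance (inferInstanceAs (p.IsHomLift (p.map g) g)))).2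

/-- A morphism strongly cartesian for `F ⋙ p`, with strongly cartesian image, is strongly cartesian for `F`. -/
theorem sc_left {B : Type u₃} [Category.{v₃} B] (F : B ⥤ A) {x y : B} (φ : x ⟶ y)
    [hφ : (F ⋙ p).IsStronglyCartesian ((F ⋙ p).map φ) φ] [hFφ : p.IsStronglyCartesian (p.map (F.map φ)) (F.map φ)] :
    F.IsStronglyCartesian (F.map φ) φ where
  universal_property' := fun {z} g ψ hψ => by
    have e : g ≫ F.map φ = F.map ψ := IsHomLift.eq_of_isHomLift F (g ≫ F.map φ) ψ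
    haveI : (F ⋙ p).IsHomLift (p.map g ≫ (F ⋙ p).map φ) ψ := by
      have : p.map g ≫ (F ⋙ p).map φ = (F ⋙ p).map ψ := by
        rw [Functor.comp_map, Functor.comp_map, ← Functor.map_comp, e]
      rw [this]; infer_instance
    obtain ⟨χ, ⟨h1, h2⟩, hu⟩ := IsStronglyCartesian.universal_property (F ⋙ p) ((F ⋙ p).map φ) φ (p.map g) _ rfl ψ
    have hpχ : p.map (F.map χ) = p.map g := (IsHomLift.eq_of_isHomLift (F ⋙ p) (p.map g) χ).symm
    have hFχ : F.map χ = g := by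
      haveI : p.IsHomLift (p.map g) (F.map χ) := hpχ ▸ inferInstance
      refine IsStronglyCartesian.ext p (p.map (F.map φ)) (F.map φ) (g := p.map g) ?_
      rw [← F.map_comp, h2, e]
    refine ⟨χ, ⟨hFχ ▸ inferInstance, h2⟩, ?_⟩
    rintro χ' ⟨k1, k2⟩
    haveI := k1
    have := IsHomLift.eq_of_isHomLift F g χ'
    exact hu _ ⟨by rw [this]; exact inferInstanceAs ((F ⋙ p).IsHomLift ((F ⋙ p).map χ') χ'), k2⟩

theorem sc_id {R T : C} (f : R ⟶ T) : (𝟭 C).IsStronglyCartesian f f where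
  toIsHomLift := IsHomLift.of_fac' _ _ _ rfl rfl (by simp)
  universal_property' := fun {z} g ψ hψ => by
    have e : g ≫ f = ψ := IsHomLift.eq_of_isHomLift (𝟭 C) (g ≫ f) ψ
    refine ⟨g, ⟨IsHomLift.of_fac' _ _ _ rfl rfl (by simp), e⟩, ?_⟩
    rintro χ ⟨h1, -⟩
    exact (IsHomLift.eq_of_isHomLift (𝟭 C) g χ).symm

theorem isFibSet_overForget (U : C) : FibCat.IsFibSet (Over.forget U) := by
  refine isFibSet_of fun η V f => ⟨⟨Over.mk (f ≫ η.hom), Over.homMk f rfl⟩, IsHomLift.of_fac' _ _ _ rfl rfl (by simp), ?_⟩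
  rintro ⟨ξ, φ⟩ (hφ : (Over.forget U).IsHomLift f φ)
  have hd : ξ.left = V := IsHomLift.domain_eq (Over.forget U) f φ
  subst hd
  have e : φ.left = f := (IsHomLift.eq_of_isHomLift (Over.forget U) f φ).symm
  subst e
  obtain ⟨l, ⟨⟨⟩⟩, m⟩ := ξ
  have key : ∀ (k : l ⟶ η.left) (hk : k ≫ η.hom = m),
      (⟨Over.mk m, Over.homMk k hk⟩ : Σ ξ : Over U, (ξ ⟶ η)) = ⟨Over.mk (k ≫ η.hom), Over.homMk k rfl⟩ := by
    intro k hk; subst hk; rfl
  exact key φ.left (Over.w φ)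

end fibset

section based

variable {C : Type u} [Category.{v} C] {X : BasedCategory.{v₂, u₂} C} {Y : BasedCategory.{v₃, u₃} C} {F : X ⥤ᵇ Y}

theorem toSelf_sc {R T : C} (f : R ⟶ T) {a b : X.obj} (φ : a ⟶ b) [X.p.IsHomLift f φ] :
    (FibCat.selfOver C).p.IsStronglyCartesian f ((FibCat.toSelf X).map φ) := by
  subst_hom_lift X.p f φ
  exact sc_id _

theorem isFibGrpd_of_equiv (hF : FibCat.IsEquivOver F) (hY : FibCat.IsFibGrpd Y.p) : FibCat.IsFibGrpd X.p := by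
  obtain ⟨hfull, hfaith, -⟩ := H9Fib.full_of_isEquivOver hF
  refine isFibGrpd_of ((isFibered_iff hF).2 (isFibered hY)) fun U => ⟨fun {a b} (φ : a ⟶ b) => ?_⟩
  haveI : X.p.IsHomLift (𝟙 U) φ.1 := φ.2
  haveI := isIso_vertical hY (U := U) (F.map φ.1)
  haveI : IsIso φ.1 := isIso_of_fully_faithful F.toFunctor φ.1
  exact (isIso_fiber_iff φ).2 inferInstance

variable (G : X ⥤ᵇ Y)

theorem fiberFunctor_unique (U : C) (GU : X.p.Fiber U ⥤ Y.p.Fiber U)
    (h : GU ⋙ Fiber.fiberInclusion = Fiber.fiberInclusion ⋙ G.toFunctor) : GU = FibCat.fiberFunctor G U := by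
  refine CategoryTheory.Functor.ext (fun a => Fiber.fiberInclusion_obj_inj (Functor.congr_obj h a)) fun a b k => ?_
  apply Fiber.fiberInclusion.map_injective
  simp only [Functor.map_comp, eqToHom_map]
  exact Functor.congr_hom h k

theorem faithful_of_fiber' [X.p.IsFibered] (hG : ∀ ⦃a b : X.obj⦄ (φ : a ⟶ b), X.p.IsStronglyCartesian (X.p.map φ) φ → Y.p.IsStronglyCartesian (X.p.map φ) (G.map φ))
    (h : ∀ U : C, (FibCat.fiberFunctor G U).Faithful) : G.toFunctor.Faithful where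
  map_injective {x y} a b e := by
    haveI hb : Y.p.IsHomLift (X.p.map b) (G.map b) := inferInstance
    haveI ha : Y.p.IsHomLift (X.p.map a) (G.map a) := inferInstance
    have hab : X.p.map a = X.p.map b := by
      have e1 := IsHomLift.fac Y.p (X.p.map a) (G.map a)
      have e2 := IsHomLift.fac Y.p (X.p.map b) (G.map b)
      exact (e1.trans (congrArg (fun k => eqToHom (G.w_obj x).symm ≫ Y.p.map k ≫ eqToHom (G.w_obj y)) e)).trans e2.symm
    haveI : X.p.IsHomLift (X.p.map b) a := hab ▸ inferInstance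
    obtain ⟨x', ψ, hψ⟩ := IsPreFibered.exists_isCartesian' (p := X.p) (a := y) (X.p.map b)
    haveI := hψ
    have hx' : X.p.obj x' = X.p.obj x := IsHomLift.domain_eq X.p (X.p.map b) ψ
    haveI : Y.p.IsStronglyCartesian (X.p.map b) (G.map ψ) := by
      haveI hs : X.p.IsStronglyCartesian (X.p.map b) ψ := inferInstance
      have e0 : X.p.map ψ = eqToHom hx' ≫ X.p.map b := by simpa using IsHomLift.fac' X.p (X.p.map b) ψ
      have hs' : X.p.IsStronglyCartesian (X.p.map ψ) ψ := by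
        haveI : X.p.IsStronglyCartesian (X.p.map b) ψ := hs
        rw [e0]
        refine { universal_property' := fun {z} g k hk => ?_ }
        haveI := hk
        obtain ⟨χ, ⟨c1, c2⟩, cu⟩ := IsStronglyCartesian.universal_property X.p (X.p.map b) ψ (g ≫ eqToHom hx') _ (Category.assoc _ _ _).symm k
        haveI := c1
        refine ⟨χ, ⟨by simpa using (inferInstance : X.p.IsHomLift ((g ≫ eqToHom hx') ≫ eqToHom hx'.symm) χ), c2⟩, ?_⟩
        rintro κ ⟨k1, k2⟩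
        haveI := k1
        exact cu _ ⟨inferInstance, k2⟩
      haveI := hG ψ hs'
      refine { toIsHomLift := inferInstance, universal_property' := fun {z} g k hk => ?_ }
      haveI := hk
      obtain ⟨χ, ⟨c1, c2⟩, cu⟩ := IsStronglyCartesian.universal_property Y.p (X.p.map ψ) (G.map ψ) (g ≫ eqToHom hx'.symm) (g ≫ X.p.map b) (by rw [e0]; simp) k
      haveI := c1
      refine ⟨χ, ⟨by simpa using (inferInstance : Y.p.IsHomLift ((g ≫ eqToHom hx'.symm) ≫ eqToHom hx') χ), c2⟩, ?_⟩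
      rintro κ ⟨k1, k2⟩
      haveI := k1
      exact cu _ ⟨inferInstance, k2⟩
    let χa : x ⟶ x' := IsCartesian.map X.p (X.p.map b) ψ a
    let χb : x ⟶ x' := IsCartesian.map X.p (X.p.map b) ψ b
    haveI : X.p.IsHomLift (𝟙 (X.p.obj x)) χa := IsCartesian.map_isHomLift X.p (X.p.map b) ψ a
    haveI : X.p.IsHomLift (𝟙 (X.p.obj x)) χb := IsCartesian.map_isHomLift X.p (X.p.map b) ψ b
    have fa : χa ≫ ψ = a := IsCartesian.fac X.p (X.p.map b) ψ a
    have fb : χb ≫ ψ = b := IsCartesian.fac X.p (X.p.map b) ψ b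
    have hGχ : G.map χa = G.map χb := by
      refine IsStronglyCartesian.ext Y.p (X.p.map b) (G.map ψ) (g := 𝟙 (X.p.obj x)) ?_
      rw [← G.toFunctor.map_comp, ← G.toFunctor.map_comp, fa, fb]
      exact e
    let A : X.p.Fiber (X.p.obj x) := ⟨x, rfl⟩
    let B : X.p.Fiber (X.p.obj x) := ⟨x', hx'⟩
    let a' : A ⟶ B := ⟨χa, inferInstance⟩
    let b' : A ⟶ B := ⟨χb, inferInstance⟩
    have h1 : a' = b' := (h (X.p.obj x)).map_injective (Fiber.hom_ext hGχ)
    rw [← fa, ← fb, show χa = χb from congrArg Subtype.val h1]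

end based

end Groth.Agent.LFib
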