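import Groth.Prelude.Def_FibClv
import Groth.Agent.Lib.LFibCat

set_option autoImplicit false
set_option linter.style.haveILetI false
set_option backward.isDefEq.respectTransparency false
set_option backward.isDefEq.respectTransparency.types false

universe v₁ v₂ u₁ u₂

open CategoryTheory CategoryTheory.Functor

namespace Groth.Agent.LFibClv

variable {𝒮 : Type u₁} {𝒳 : Type u₂} [Category.{v₁} 𝒮] [Category.{v₂} 𝒳] {p : 𝒳 ⥤ 𝒮} (K : FibCat.Cleavage p)

lemma congr_app {R S : 𝒮} {f f' : R ⟶ S} (h : f = f') (a : p.Fiber S) :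
    Fiber.fiberInclusion.map ((K.inverseImageCongr h).hom.app a) ≫ K.lift a.2 f' = K.lift a.2 f := by
  subst h
  have : (K.inverseImageCongr (rfl : f = f)).hom.app a = 𝟙 _ := by simp [FibCat.Cleavage.inverseImageCongr]
  rw [this, CategoryTheory.Functor.map_id]
  exact Category.id_comp _

lemma comp_app_fac {R T S : 𝒮} (f : T ⟶ S) (g : R ⟶ T) (a : p.Fiber S) :
    Fiber.fiberInclusion.map ((K.comp f g).app a) ≫ K.lift a.2 (g ≫ f) = K.lift (K.obj_proj a.2 f) g ≫ K.lift a.2 f := by
  rw [FibCat.Cleavage.comp_app]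
  exact IsCartesian.fac p (g ≫ f) (K.lift a.2 (g ≫ f)) _

lemma inv_map_fac {R S : 𝒮} (f : R ⟶ S) {a b : p.Fiber S} (k : a ⟶ b) :
    Fiber.fiberInclusion.map ((K.inverseImage f).map k) ≫ K.lift b.2 f = K.lift a.2 f ≫ Fiber.fiberInclusion.map k := by
  rw [FibCat.Cleavage.inverseImage_map]
  exact IsCartesian.fac p f (K.lift b.2 f) _

lemma ext_lift {R S : 𝒮} (f : R ⟶ S) (a : p.Fiber S) {z : p.Fiber R} {k l : z ⟶ (K.inverseImage f).obj a}
    (h : Fiber.fiberInclusion.map k ≫ K.lift a.2 f = Fiber.fiberInclusion.map l ≫ K.lift a.2 f) : k = l := by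
  apply Fiber.hom_ext
  haveI : p.IsHomLift (𝟙 R) (Fiber.fiberInclusion.map k) := k.2
  haveI : p.IsHomLift (𝟙 R) (Fiber.fiberInclusion.map l) := l.2
  exact IsCartesian.ext p f (K.lift a.2 f) _ _ h

theorem cocycle {S T U V : 𝒮} (f : T ⟶ S) (g : U ⟶ T) (h : V ⟶ U) :
    Functor.whiskerLeft (K.inverseImage f) (K.comp g h) ≫ K.comp f (h ≫ g) ≫ (K.inverseImageCongr (Category.assoc h g f)).hom =
      Functor.whiskerRight (K.comp f g) (K.inverseImage h) ≫ K.comp (g ≫ f) h := by
  apply NatTrans.ext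
  funext a
  apply ext_lift K
  simp only [NatTrans.comp_app, Functor.whiskerLeft_app, Functor.whiskerRight_app, CategoryTheory.Functor.map_comp, Category.assoc]
  rw [comp_app_fac K (g ≫ f) h a, ← congr_app K (Category.assoc h g f).symm a]
  have key : ∀ {f₁ f₂ : V ⟶ S} (e : f₁ = f₂),
      Fiber.fiberInclusion.map ((K.inverseImageCongr e).hom.app a) ≫ Fiber.fiberInclusion.map ((K.inverseImageCongr e.symm).hom.app a) = 𝟙 _ := by
    intro f₁ f₂ e; subst e
    simp [FibCat.Cleavage.inverseImageCongr]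
  conv_lhs => rw [← Category.assoc (Fiber.fiberInclusion.map ((K.inverseImageCongr _).hom.app a)), key, Category.id_comp]
  rw [comp_app_fac K f (h ≫ g) a, ← Category.assoc]
  erw [comp_app_fac K g h ((K.inverseImage f).obj a)]
  rw [Category.assoc, ← Category.assoc (Fiber.fiberInclusion.map _)]
  erw [inv_map_fac K h ((K.comp f g).app a)]
  rw [Category.assoc, comp_app_fac K f g a]

end Groth.Agent.LFibClv
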