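import Groth.Prelude.Def_FibCat2

set_option autoImplicit false
set_option linter.style.haveILetI false
set_option backward.isDefEq.respectTransparency false
set_option backward.isDefEq.respectTransparency.types false

universe v u v₂ u₂

open CategoryTheory CategoryTheory.Functor CategoryTheory.Limits

namespace Groth.Agent.LFibProd

variable {C : Type u} [Category.{v} C] {X Y : BasedCategory.{v₂, u₂} C}

abbrev P (X Y : BasedCategory.{v₂, u₂} C) := FibCat.fp (FibCat.toSelf X) (FibCat.toSelf Y)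

lemma eq_base (z : (P X Y).obj) : Y.p.obj z.obj.snd = X.p.obj z.obj.fst :=
  @IsHomLift.codomain_eq _ _ _ _ (𝟭 C) _ _ _ _ (𝟙 (X.p.obj z.obj.fst)) z.obj.iso.hom z.property

lemma iso_hom (z : (P X Y).obj) : z.obj.iso.hom = eqToHom (eq_base z).symm := by
  have h := @IsHomLift.fac' _ _ _ _ (𝟭 C) _ _ _ _ (𝟙 (X.p.obj z.obj.fst)) z.obj.iso.hom z.property
  simpa using h

/-- The object of the product given by two objects over the same base object. -/
def mk {R : C} (a : X.obj) (b : Y.obj) (ha : X.p.obj a = R) (hb : Y.p.obj b = R) : (P X Y).obj :=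
  ⟨{ fst := a, snd := b, iso := eqToIso (ha.trans hb.symm) },
    show (𝟭 C).IsHomLift (𝟙 (X.p.obj a)) (eqToHom (ha.trans hb.symm)) from IsHomLift.of_fac' _ _ _ rfl (hb.trans ha.symm) (by simp)⟩

/-- A morphism of the product given by two morphisms over the same base morphism. -/
def homMk {R S : C} {z w : (P X Y).obj} (f : R ⟶ S) (a : z.obj.fst ⟶ w.obj.fst) (b : z.obj.snd ⟶ w.obj.snd)
    [X.p.IsHomLift f a] [Y.p.IsHomLift f b] : z ⟶ w :=
  ObjectProperty.homMk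
    { fst := a, snd := b, w := by
        show X.p.map a ≫ w.obj.iso.hom = z.obj.iso.hom ≫ Y.p.map b
        rw [iso_hom, iso_hom, IsHomLift.fac' X.p f a, IsHomLift.fac' Y.p f b]
        simp }

lemma lift_fst {R S : C} {z w : (P X Y).obj} (f : R ⟶ S) (k : z ⟶ w) [(P X Y).p.IsHomLift f k] :
    X.p.IsHomLift f k.hom.fst :=
  BasedFunctor.preserves_isHomLift (FibCat.fpFst (FibCat.toSelf X) (FibCat.toSelf Y)) f k

lemma lift_snd {R S : C} {z w : (P X Y).obj} (f : R ⟶ S) (k : z ⟶ w) [(P X Y).p.IsHomLift f k] :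
    Y.p.IsHomLift f k.hom.snd :=
  BasedFunctor.preserves_isHomLift (FibCat.fpSnd (FibCat.toSelf X) (FibCat.toSelf Y)) f k

lemma lift_mk {R S : C} {z w : (P X Y).obj} (f : R ⟶ S) (k : z ⟶ w) [X.p.IsHomLift f k.hom.fst] :
    (P X Y).p.IsHomLift f k :=
  IsHomLift.of_fac' _ _ _ (IsHomLift.domain_eq X.p f k.hom.fst) (IsHomLift.codomain_eq X.p f k.hom.fst) (IsHomLift.fac' X.p f k.hom.fst)

theorem isCartesian_of {R S : C} {z w : (P X Y).obj} (f : R ⟶ S) (k : z ⟶ w)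
    [hA : X.p.IsCartesian f k.hom.fst] [hB : Y.p.IsCartesian f k.hom.snd] : (P X Y).p.IsCartesian f k := by
  haveI := lift_mk f k
  refine { universal_property := fun {z'} ψ hψ => ?_ }
  haveI := hψ
  haveI := lift_fst f ψ
  haveI := lift_snd f ψ
  obtain ⟨χ1, ⟨h1, e1⟩, u1⟩ := IsCartesian.universal_property (p := X.p) (f := f) (φ := k.hom.fst) ψ.hom.fst
  obtain ⟨χ2, ⟨h2, e2⟩, u2⟩ := IsCartesian.universal_property (p := Y.p) (f := f) (φ := k.hom.snd) ψ.hom.snd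
  haveI := h1; haveI := h2
  refine ⟨homMk (𝟙 R) χ1 χ2, ⟨?_, ObjectProperty.hom_ext _ (CategoricalPullback.hom_ext e1 e2)⟩, ?_⟩
  · haveI : X.p.IsHomLift (𝟙 R) (homMk (z := z') (w := z) (𝟙 R) χ1 χ2).hom.fst := h1
    exact lift_mk _ _
  · rintro χ ⟨hχ, eχ⟩
    haveI := hχ
    exact ObjectProperty.hom_ext _ (CategoricalPullback.hom_ext
      (u1 _ ⟨lift_fst _ χ, congrArg (fun q => q.hom.fst) eχ⟩) (u2 _ ⟨lift_snd _ χ, congrArg (fun q => q.hom.snd) eχ⟩))

theorem isStronglyCartesian_of {R S : C} {z w : (P X Y).obj} (f : R ⟶ S) (k : z ⟶ w)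
    [hA : X.p.IsStronglyCartesian f k.hom.fst] [hB : Y.p.IsStronglyCartesian f k.hom.snd] : (P X Y).p.IsStronglyCartesian f k := by
  haveI := lift_mk f k
  refine { universal_property' := fun {z'} g ψ hψ => ?_ }
  haveI := hψ
  haveI := lift_fst (g ≫ f) ψ
  haveI := lift_snd (g ≫ f) ψ
  obtain ⟨χ1, ⟨h1, e1⟩, u1⟩ := IsStronglyCartesian.universal_property X.p f k.hom.fst g _ rfl ψ.hom.fst
  obtain ⟨χ2, ⟨h2, e2⟩, u2⟩ := IsStronglyCartesian.universal_property Y.p f k.hom.snd g _ rfl ψ.hom.snd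
  haveI := h1; haveI := h2
  refine ⟨homMk g χ1 χ2, ⟨?_, ObjectProperty.hom_ext _ (CategoricalPullback.hom_ext e1 e2)⟩, ?_⟩
  · haveI : X.p.IsHomLift g (homMk (z := z') (w := z) g χ1 χ2).hom.fst := h1
    exact lift_mk _ _
  · rintro χ ⟨hχ, eχ⟩
    haveI := hχ
    exact ObjectProperty.hom_ext _ (CategoricalPullback.hom_ext
      (u1 _ ⟨lift_fst _ χ, congrArg (fun q => q.hom.fst) eχ⟩) (u2 _ ⟨lift_snd _ χ, congrArg (fun q => q.hom.snd) eχ⟩))

theorem isCartesian_components {R S : C} {z w : (P X Y).obj} (f : R ⟶ S) (k : z ⟶ w)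
    [hk : (P X Y).p.IsCartesian f k] : X.p.IsCartesian f k.hom.fst ∧ Y.p.IsCartesian f k.hom.snd := by
  haveI := lift_fst f k
  haveI := lift_snd f k
  have hz1 : X.p.obj z.obj.fst = R := IsHomLift.domain_eq X.p f k.hom.fst
  have hz2 : Y.p.obj z.obj.snd = R := IsHomLift.domain_eq Y.p f k.hom.snd
  constructor
  · refine { universal_property := fun {a} ψ hψ => ?_ }
    haveI := hψ
    let z' : (P X Y).obj := mk a z.obj.snd (IsHomLift.domain_eq X.p f ψ) hz2
    let m : z' ⟶ w := homMk f ψ k.hom.snd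
    haveI : X.p.IsHomLift f m.hom.fst := hψ
    haveI := lift_mk f m
    obtain ⟨χ, ⟨h1, e⟩, u⟩ := IsCartesian.universal_property (p := (P X Y).p) (f := f) (φ := k) m
    haveI := h1
    refine ⟨χ.hom.fst, ⟨lift_fst (𝟙 R) χ, congrArg (fun q => q.hom.fst) e⟩, ?_⟩
    rintro χ' ⟨k1, k2⟩
    haveI := k1
    haveI : Y.p.IsHomLift (𝟙 R) (𝟙 z.obj.snd) := IsHomLift.id hz2
    haveI : Y.p.IsHomLift (𝟙 R) (𝟙 z'.obj.snd) := IsHomLift.id hz2
    let n : z' ⟶ z := homMk (𝟙 R) χ' (𝟙 z.obj.snd)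
    haveI : X.p.IsHomLift (𝟙 R) n.hom.fst := k1
    have := u n ⟨lift_mk _ n, ObjectProperty.hom_ext _ (CategoricalPullback.hom_ext k2 (Category.id_comp _))⟩
    exact congrArg (fun q => q.hom.fst) this
  · refine { universal_property := fun {b} ψ hψ => ?_ }
    haveI := hψ
    let z' : (P X Y).obj := mk z.obj.fst b hz1 (IsHomLift.domain_eq Y.p f ψ)
    let m : z' ⟶ w := homMk f k.hom.fst ψ
    haveI : X.p.IsHomLift f m.hom.fst := inferInstanceAs (X.p.IsHomLift f k.hom.fst)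
    haveI := lift_mk f m
    obtain ⟨χ, ⟨h1, e⟩, u⟩ := IsCartesian.universal_property (p := (P X Y).p) (f := f) (φ := k) m
    haveI := h1
    refine ⟨χ.hom.snd, ⟨lift_snd (𝟙 R) χ, congrArg (fun q => q.hom.snd) e⟩, ?_⟩
    rintro χ' ⟨k1, k2⟩
    haveI := k1
    haveI : X.p.IsHomLift (𝟙 R) (𝟙 z.obj.fst) := IsHomLift.id hz1
    let n : z' ⟶ z := homMk (𝟙 R) (𝟙 z.obj.fst) χ'
    haveI : X.p.IsHomLift (𝟙 R) n.hom.fst := IsHomLift.id hz1
    have := u n ⟨lift_mk _ n, ObjectProperty.hom_ext _ (CategoricalPullback.hom_ext (Category.id_comp _) k2)⟩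
    exact congrArg (fun q => q.hom.snd) this

theorem exists_pair {R : C} (w : (P X Y).obj) (f : R ⟶ (P X Y).p.obj w) {a : X.obj} {b : Y.obj}
    (α : a ⟶ w.obj.fst) (β : b ⟶ w.obj.snd) [X.p.IsHomLift f α] [Y.p.IsHomLift f β] :
    ∃ (z : (P X Y).obj) (k : z ⟶ w) (h1 : z.obj.fst = a) (h2 : z.obj.snd = b), k.hom.fst = eqToHom h1 ≫ α ∧ k.hom.snd = eqToHom h2 ≫ β := by
  let z : (P X Y).obj := mk a b (IsHomLift.domain_eq X.p f α) (IsHomLift.domain_eq Y.p f β)
  exact ⟨z, homMk (z := z) (w := w) f α β, rfl, rfl, (Category.id_comp α).symm, (Category.id_comp β).symm⟩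

end Groth.Agent.LFibProd
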