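import Groth.Agent.Lib.LFibRep2
import Groth.Agent.Lib.LFibProd

set_option autoImplicit false
set_option linter.style.haveILetI false
set_option backward.isDefEq.respectTransparency false
set_option backward.isDefEq.respectTransparency.types false

universe v u

open CategoryTheory CategoryTheory.Functor CategoryTheory.Limits
open Groth.Agent.LFibRep

noncomputable section

namespace Groth.Agent.LFibDiag

variable {C : Type u} [Category.{v} C]

/-- Functors over `C` to `C` over itself are uniquely isomorphic. -/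
def uniqIso {X : BasedCategory.{v, max u v} C} (a b : X ⥤ᵇ FibCat.selfOver C) : a ≅ b :=
  BasedNatIso.mkNatIso
    (NatIso.ofComponents (fun x => eqToIso ((a.w_obj x).trans (b.w_obj x).symm))
      (fun {x y} k => by
        have h1 : a.map k = eqToHom (a.w_obj x) ≫ X.p.map k ≫ eqToHom (a.w_obj y).symm := Functor.congr_hom a.w k
        have h2 : b.map k = eqToHom (b.w_obj x) ≫ X.p.map k ≫ eqToHom (b.w_obj y).symm := Functor.congr_hom b.w k
        rw [h1, h2]; simp))
    (fun x => IsHomLift.of_fac' _ _ _ (a.w_obj x) (b.w_obj x) (by simp; rfl))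

/-- A vertical isomorphism of a product from vertical isomorphisms of the components. -/
def vIso {X Y : BasedCategory.{v, max u v} C} {z z' : (LFibProd.P X Y).obj} {R : C} (a : z.obj.fst ≅ z'.obj.fst)
    (b : z.obj.snd ≅ z'.obj.snd) (ha : X.p.IsHomLift (𝟙 R) a.hom) (hb : Y.p.IsHomLift (𝟙 R) b.hom) : z ≅ z' :=
  ObjectProperty.isoMk _ (CategoricalPullback.mkIso a b
    (haveI := ha; haveI := hb; (LFibProd.homMk (z := z) (w := z') (𝟙 R) a.hom b.hom).hom.w))

section pair

variable {X Y S : BasedCategory.{v, max u v} C} (K : X ⥤ᵇ S) (G : Y ⥤ᵇ S)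

/-- The product of two functors over `C`. -/
def pair : LFibProd.P X Y ⥤ᵇ LFibProd.P S S :=
  FibCat.fpLift (BasedFunctor.comp (FibCat.fpFst (FibCat.toSelf X) (FibCat.toSelf Y)) K)
    (BasedFunctor.comp (FibCat.fpSnd (FibCat.toSelf X) (FibCat.toSelf Y)) G) (uniqIso _ _)

/-- The base change of the diagonal along a product of functors, compared with the fibre product. -/
def pairBC : FibCat.fp (pair K G) (FibCat.diag (FibCat.toSelf S)) ⥤ᵇ FibCat.fp K G :=
  FibCat.fpLift
    (BasedFunctor.comp (FibCat.fpFst (pair K G) (FibCat.diag (FibCat.toSelf S))) (FibCat.fpFst _ _))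
    (BasedFunctor.comp (FibCat.fpFst (pair K G) (FibCat.diag (FibCat.toSelf S))) (FibCat.fpSnd _ _))
    (H9Fib.wRight (FibCat.fpIso (pair K G) (FibCat.diag (FibCat.toSelf S))) (FibCat.fpFst _ _) ≪≫
      (H9Fib.wRight (FibCat.fpIso (pair K G) (FibCat.diag (FibCat.toSelf S))) (FibCat.fpSnd _ _)).symm)

lemma pairBC_iso (w : (FibCat.fp (pair K G) (FibCat.diag (FibCat.toSelf S))).obj) :
    ((pairBC K G).obj w).obj.iso.hom = w.obj.iso.hom.hom.fst ≫ w.obj.iso.inv.hom.snd := rfl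

theorem pairBC_equiv : FibCat.IsEquivOver (pairBC K G) := by
  refine H9Fib.isEquivOver_of _ ⟨fun {w w'} k => ?_⟩ ⟨fun {w w'} {m m'} h => ?_⟩ fun η => ?_
  · haveI : Y.p.IsHomLift (X.p.map k.hom.fst) k.hom.snd := FibCat.fp_isHomLift_snd K G k
    let a : w.obj.fst ⟶ w'.obj.fst := LFibProd.homMk (X.p.map k.hom.fst) k.hom.fst k.hom.snd
    let s : w.obj.snd ⟶ w'.obj.snd := w.obj.iso.inv.hom.fst ≫ K.map k.hom.fst ≫ w'.obj.iso.hom.hom.fst
    have e1 : w.obj.iso.hom.hom.fst ≫ w.obj.iso.inv.hom.fst = 𝟙 _ := congrArg (fun r => r.hom.fst) w.obj.iso.hom_inv_id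
    have e2 : w.obj.iso.hom.hom.snd ≫ w.obj.iso.inv.hom.snd = 𝟙 _ := congrArg (fun r => r.hom.snd) w.obj.iso.hom_inv_id
    have e3 : w.obj.iso.inv.hom.snd ≫ w.obj.iso.hom.hom.snd = 𝟙 _ := congrArg (fun r => r.hom.snd) w.obj.iso.inv_hom_id
    have e4 : w'.obj.iso.inv.hom.snd ≫ w'.obj.iso.hom.hom.snd = 𝟙 _ := congrArg (fun r => r.hom.snd) w'.obj.iso.inv_hom_id
    have hk : K.map k.hom.fst ≫ (w'.obj.iso.hom.hom.fst ≫ w'.obj.iso.inv.hom.snd) =
      (w.obj.iso.hom.hom.fst ≫ w.obj.iso.inv.hom.snd) ≫ G.map k.hom.snd := k.hom.w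
    refine ⟨ObjectProperty.homMk { fst := a, snd := s, w := ?_ }, ObjectProperty.hom_ext _ (CategoricalPullback.hom_ext rfl rfl)⟩
    apply ObjectProperty.hom_ext
    apply CategoricalPullback.hom_ext
    · show K.map k.hom.fst ≫ w'.obj.iso.hom.hom.fst = w.obj.iso.hom.hom.fst ≫ s
      simp only [s, reassoc_of% e1]
    · show G.map k.hom.snd ≫ w'.obj.iso.hom.hom.snd = w.obj.iso.hom.hom.snd ≫ s
      have h5 : K.map k.hom.fst ≫ w'.obj.iso.hom.hom.fst = (w.obj.iso.hom.hom.fst ≫ w.obj.iso.inv.hom.snd) ≫ G.map k.hom.snd ≫ w'.obj.iso.hom.hom.snd := by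
        rw [← Category.assoc, ← hk]
        simp only [Category.assoc, e4]
        exact congrArg _ (Category.comp_id _).symm
      have e1' : w.obj.iso.inv.hom.fst ≫ w.obj.iso.hom.hom.fst = 𝟙 _ := congrArg (fun r => r.hom.fst) w.obj.iso.inv_hom_id
      simp only [s, h5, Category.assoc, reassoc_of% e1', reassoc_of% e2]
  · have h1 : m.hom.fst.hom.fst = m'.hom.fst.hom.fst := congrArg (fun r => r.hom.fst) h
    have h2 : m.hom.fst.hom.snd = m'.hom.fst.hom.snd := congrArg (fun r => r.hom.snd) h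
    refine ObjectProperty.hom_ext _ (CategoricalPullback.hom_ext (ObjectProperty.hom_ext _ (CategoricalPullback.hom_ext h1 h2)) ?_)
    have w1 : K.map m.hom.fst.hom.fst ≫ w'.obj.iso.hom.hom.fst = w.obj.iso.hom.hom.fst ≫ m.hom.snd := congrArg (fun r => r.hom.fst) m.hom.w
    have w2 : K.map m'.hom.fst.hom.fst ≫ w'.obj.iso.hom.hom.fst = w.obj.iso.hom.hom.fst ≫ m'.hom.snd := congrArg (fun r => r.hom.fst) m'.hom.w
    rw [h1, w2] at w1
    have e1' : w.obj.iso.inv.hom.fst ≫ w.obj.iso.hom.hom.fst = 𝟙 _ := congrArg (fun r => r.hom.fst) w.obj.iso.inv_hom_id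
    have := congrArg (fun t => w.obj.iso.inv.hom.fst ≫ t) w1.symm
    simpa only [reassoc_of% e1'] using this
  · obtain ⟨⟨x, y, i⟩, hi⟩ := η
    change K.obj x ≅ G.obj y at i
    haveI hi' : S.p.IsHomLift (𝟙 (X.p.obj x)) i.hom := hi
    have hy : Y.p.obj y = X.p.obj x := (G.w_obj y).symm.trans (IsHomLift.codomain_eq S.p (𝟙 (X.p.obj x)) i.hom)
    let j : (pair K G).obj (LFibProd.mk x y rfl hy) ≅ (FibCat.diag (FibCat.toSelf S)).obj (K.obj x) :=
      vIso (R := X.p.obj x) (Iso.refl (K.obj x)) i.symm (IsHomLift.id (K.w_obj x)) (IsHomLift.lift_id_inv _ _ _)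
    have hj : (LFibProd.P S S).p.IsHomLift (𝟙 ((LFibProd.P X Y).p.obj (LFibProd.mk x y rfl hy))) j.hom := by
      haveI : S.p.IsHomLift (𝟙 (X.p.obj x)) j.hom.hom.fst := show S.p.IsHomLift _ (𝟙 (K.obj x)) from IsHomLift.id (K.w_obj x)
      exact LFibProd.lift_mk (𝟙 (X.p.obj x)) j.hom
    refine ⟨⟨{ fst := LFibProd.mk x y rfl hy, snd := K.obj x, iso := j }, hj⟩,
      ObjectProperty.isoMk _ (CategoricalPullback.mkIso (Iso.refl x) (Iso.refl y) ?_), IsHomLift.of_fac' _ _ _ rfl rfl (by simp; exact X.p.map_id x)⟩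
    show K.map (𝟙 x) ≫ i.hom = (𝟙 _ ≫ i.hom) ≫ G.map (𝟙 y)
    simp

end pair

section slices

variable [HasBinaryProducts C] (U V : C)

/-- `C/(U × V) ⟶ C/U ×_C C/V`. -/
def prodFun : FibCat.overCat (U ⨯ V) ⥤ᵇ LFibProd.P (FibCat.overCat U) (FibCat.overCat V) :=
  FibCat.fpLift ⟨Over.map prod.fst, Over.mapForget_eq _⟩ ⟨Over.map prod.snd, Over.mapForget_eq _⟩ (uniqIso _ _)

theorem prodFun_equiv : FibCat.IsEquivOver (prodFun U V) := by
  refine H9Fib.isEquivOver_of _ ⟨fun {o o'} k => ?_⟩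
    ⟨fun {o o'} {m m'} h => Over.OverMorphism.ext ((congrArg (fun r => r.hom.fst.left) h :))⟩ fun η => ?_
  · haveI := FibCat.fp_isHomLift_snd (FibCat.toSelf (FibCat.overCat U)) (FibCat.toSelf (FibCat.overCat V)) k
    let a : (o : Over (U ⨯ V)).left ⟶ (o' : Over (U ⨯ V)).left := k.hom.fst.left
    have hs : a = k.hom.snd.left := by
      haveI : (Over.forget V).IsHomLift a k.hom.snd := FibCat.fp_isHomLift_snd (FibCat.toSelf (FibCat.overCat U)) (FibCat.toSelf (FibCat.overCat V)) k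
      have e : k.hom.snd.left = eqToHom _ ≫ a ≫ eqToHom _ := IsHomLift.fac' (Over.forget V) _ k.hom.snd
      exact ((e.trans (by simp))).symm
    have hw : a ≫ (o' : Over (U ⨯ V)).hom = (o : Over (U ⨯ V)).hom := by
      apply prod.hom_ext
      · rw [Category.assoc]; exact Over.w k.hom.fst
      · rw [Category.assoc, hs]; exact Over.w k.hom.snd
    exact ⟨Over.homMk a hw, ObjectProperty.hom_ext _ (CategoricalPullback.hom_ext (Over.OverMorphism.ext rfl) (Over.OverMorphism.ext hs))⟩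
  · have hy : (η.obj.snd : Over V).left = (η.obj.fst : Over U).left := LFibProd.eq_base η
    let o : Over (U ⨯ V) := Over.mk (prod.lift (η.obj.fst : Over U).hom (eqToHom hy.symm ≫ (η.obj.snd : Over V).hom))
    haveI l1 : (Over.forget U).IsHomLift (𝟙 (η.obj.fst : Over U).left) (Over.isoMk (f := (Over.map prod.fst).obj o) (g := η.obj.fst) (Iso.refl _) (by show 𝟙 _ ≫ _ = o.hom ≫ prod.fst; simp [o])).hom :=
      IsHomLift.of_fac' _ _ _ rfl rfl (by simp)
    refine ⟨o, vIso (Over.isoMk (Iso.refl _) (by show 𝟙 _ ≫ _ = o.hom ≫ prod.fst; simp [o])) (Over.isoMk (eqToIso hy.symm) (by rw [eqToIso.hom]; show eqToHom _ ≫ _ = o.hom ≫ prod.snd; simp [o])) l1 (IsHomLift.of_fac' _ _ _ rfl hy (by simp; rfl)), ?_⟩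
    exact IsHomLift.of_fac' _ _ _ rfl rfl (by simp; rfl)

end slices

section diagOver

variable {W U : C}

lemma hom_eq (k : FibCat.overCat W ⥤ᵇ FibCat.overCat U) (o : Over W) (o' : Over U) (m : (k.obj o : Over U) ⟶ o')
    (hm : (Over.forget U).IsHomLift (𝟙 o.left) m) :
    ∃ h : o.left = o'.left, o.hom ≫ LFib.ehom k = eqToHom h ≫ o'.hom := by
  haveI := hm
  refine ⟨(IsHomLift.codomain_eq (Over.forget U) (𝟙 o.left) m).symm, ?_⟩
  have e : m.left = eqToHom _ ≫ 𝟙 o.left ≫ eqToHom _ := IsHomLift.fac' (Over.forget U) (𝟙 o.left) m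
  have w := Over.w m
  rw [e, LFib.obj_hom k o] at w
  simp only [Category.id_comp, Category.assoc] at w
  rw [cancel_epi] at w
  exact w.symm

variable (U) in
theorem diag_over_rep1 [HasBinaryProducts C] [HasPullbacks C] :
    FibCat.IsRepresentable1 (FibCat.diag (FibCat.toSelf (FibCat.overCat U))) := by
  intro W K
  haveI : HasEqualizers C := hasEqualizers_of_hasPullbacks_and_binary_products
  let K1 : FibCat.overCat W ⥤ᵇ FibCat.overCat U := BasedFunctor.comp K (FibCat.fpFst _ _)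
  let K2 : FibCat.overCat W ⥤ᵇ FibCat.overCat U := BasedFunctor.comp K (FibCat.fpSnd _ _)
  have hl : ∀ w : (FibCat.fp K (FibCat.diag (FibCat.toSelf (FibCat.overCat U)))).obj,
      (Over.forget U).IsHomLift (𝟙 (w.obj.fst : Over W).left) w.obj.iso.hom.hom.fst ∧
      (Over.forget U).IsHomLift (𝟙 (w.obj.fst : Over W).left) w.obj.iso.hom.hom.snd := fun w => by
    haveI : (LFibProd.P (FibCat.overCat U) (FibCat.overCat U)).p.IsHomLift (𝟙 (w.obj.fst : Over W).left) w.obj.iso.hom := w.property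
    exact ⟨LFibProd.lift_fst (X := FibCat.overCat U) (Y := FibCat.overCat U) (𝟙 (w.obj.fst : Over W).left) w.obj.iso.hom, LFibProd.lift_snd (X := FibCat.overCat U) (Y := FibCat.overCat U) (𝟙 (w.obj.fst : Over W).left) w.obj.iso.hom⟩
  have hc : ∀ w : (FibCat.fp K (FibCat.diag (FibCat.toSelf (FibCat.overCat U)))).obj,
      (w.obj.fst : Over W).hom ≫ LFib.ehom K1 = (w.obj.fst : Over W).hom ≫ LFib.ehom K2 := fun w => by
    obtain ⟨h1, e1⟩ := hom_eq K1 w.obj.fst w.obj.snd w.obj.iso.hom.hom.fst (hl w).1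
    obtain ⟨h2, e2⟩ := hom_eq K2 w.obj.fst w.obj.snd w.obj.iso.hom.hom.snd (hl w).2
    rw [e1, e2]
  let F0 : (FibCat.fp K (FibCat.diag (FibCat.toSelf (FibCat.overCat U)))).obj ⥤ Over (equalizer (LFib.ehom K1) (LFib.ehom K2)) :=
    { obj := fun w => Over.mk (equalizer.lift (w.obj.fst : Over W).hom (hc w))
      map := fun {w w'} k => Over.homMk k.hom.fst.left (by
        apply equalizer.hom_ext
        simp only [Over.mk_hom, Category.assoc, equalizer.lift_ι]
        exact Over.w k.hom.fst)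
      map_id := fun w => by ext; rfl
      map_comp := fun k l => by ext; rfl }
  let F : FibCat.fp K (FibCat.diag (FibCat.toSelf (FibCat.overCat U))) ⥤ᵇ FibCat.overCat (equalizer (LFib.ehom K1) (LFib.ehom K2)) :=
    { toFunctor := F0, w := rfl }
  refine ⟨_, F, H9Fib.isEquivOver_of F ⟨fun {w w'} k => ?_⟩ ⟨fun {w w'} {m m'} h => ?_⟩ fun η => ?_⟩
  · let t : (w.obj.fst : Over W).left ⟶ (w'.obj.fst : Over W).left := k.left
    have ht : t ≫ (w'.obj.fst : Over W).hom = (w.obj.fst : Over W).hom := by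
      have hk := congrArg (fun r => r ≫ equalizer.ι (LFib.ehom K1) (LFib.ehom K2)) (Over.w k)
      simpa [F, F0] using hk
    obtain ⟨h, e⟩ := hom_eq K1 w.obj.fst w.obj.snd w.obj.iso.hom.hom.fst (hl w).1
    obtain ⟨h', e'⟩ := hom_eq K1 w'.obj.fst w'.obj.snd w'.obj.iso.hom.hom.fst (hl w').1
    let s : (w.obj.snd : Over U) ⟶ w'.obj.snd := Over.homMk (eqToHom h.symm ≫ t ≫ eqToHom h') (by
      simp only [Category.assoc]
      rw [← e', reassoc_of% ht, e, eqToHom_trans_assoc, eqToHom_refl, Category.id_comp])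
    let a : (w.obj.fst : Over W) ⟶ w'.obj.fst := Over.homMk t ht
    haveI := (hl w).1; haveI := (hl w).2; haveI := (hl w').1; haveI := (hl w').2
    refine ⟨ObjectProperty.homMk { fst := a, snd := s, w := ?_ }, Over.OverMorphism.ext rfl⟩
    apply ObjectProperty.hom_ext
    apply CategoricalPullback.hom_ext
    · apply Over.OverMorphism.ext
      show (show (K1.obj w.obj.fst : Over U) ⟶ _ from K1.map a).left ≫ w'.obj.iso.hom.hom.fst.left = w.obj.iso.hom.hom.fst.left ≫ s.left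
      rw [LFib.map_left, show w.obj.iso.hom.hom.fst.left = _ from IsHomLift.fac' (Over.forget U) (𝟙 (w.obj.fst : Over W).left) w.obj.iso.hom.hom.fst,
        show w'.obj.iso.hom.hom.fst.left = _ from IsHomLift.fac' (Over.forget U) (𝟙 (w'.obj.fst : Over W).left) w'.obj.iso.hom.hom.fst]
      simp [s, a]
    · apply Over.OverMorphism.ext
      show (show (K2.obj w.obj.fst : Over U) ⟶ _ from K2.map a).left ≫ w'.obj.iso.hom.hom.snd.left = w.obj.iso.hom.hom.snd.left ≫ s.left
      rw [LFib.map_left, show w.obj.iso.hom.hom.snd.left = _ from IsHomLift.fac' (Over.forget U) (𝟙 (w.obj.fst : Over W).left) w.obj.iso.hom.hom.snd,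
        show w'.obj.iso.hom.hom.snd.left = _ from IsHomLift.fac' (Over.forget U) (𝟙 (w'.obj.fst : Over W).left) w'.obj.iso.hom.hom.snd]
      simp [s, a]
  · have h1 : m.hom.fst = m'.hom.fst := Over.OverMorphism.ext ((congrArg CommaMorphism.left h :))
    refine ObjectProperty.hom_ext _ (CategoricalPullback.hom_ext h1 ?_)
    have w1 : K1.map m.hom.fst ≫ w'.obj.iso.hom.hom.fst = w.obj.iso.hom.hom.fst ≫ m.hom.snd := congrArg (fun r => r.hom.fst) m.hom.w
    have w2 : K1.map m'.hom.fst ≫ w'.obj.iso.hom.hom.fst = w.obj.iso.hom.hom.fst ≫ m'.hom.snd := congrArg (fun r => r.hom.fst) m'.hom.w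
    rw [h1, w2] at w1
    have e1' : w.obj.iso.inv.hom.fst ≫ w.obj.iso.hom.hom.fst = 𝟙 _ := congrArg (fun r => r.hom.fst) w.obj.iso.inv_hom_id
    have := congrArg (fun q => w.obj.iso.inv.hom.fst ≫ q) w1.symm
    simpa only [reassoc_of% e1'] using this
  · let o : Over W := Over.mk ((η : Over (equalizer (LFib.ehom K1) (LFib.ehom K2))).hom ≫ equalizer.ι _ _)
    let o' : Over U := Over.mk (o.hom ≫ LFib.ehom K1)
    let i1 : (K1.obj o : Over U) ≅ o' := Over.isoMk (eqToIso (LFib.hw K1 o)) (by rw [eqToIso.hom, LFib.obj_hom K1]; rfl)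
    let i2 : (K2.obj o : Over U) ≅ o' := Over.isoMk (eqToIso (LFib.hw K2 o)) (by
      rw [eqToIso.hom, LFib.obj_hom K2]; exact congrArg (fun q => eqToHom (LFib.hw K2 o) ≫ q) (show o.hom ≫ LFib.ehom K1 = o.hom ≫ LFib.ehom K2 from (Category.assoc _ _ _).trans ((congrArg (fun q => (η : Over (equalizer (LFib.ehom K1) (LFib.ehom K2))).hom ≫ q) (equalizer.condition _ _)).trans (Category.assoc _ _ _).symm)))
    have l1 : (Over.forget U).IsHomLift (𝟙 o.left) i1.hom := IsHomLift.of_fac' _ _ _ (LFib.hw K1 o) rfl (by simp [i1])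
    have l2 : (Over.forget U).IsHomLift (𝟙 o.left) i2.hom := IsHomLift.of_fac' _ _ _ (LFib.hw K2 o) rfl (by simp [i2])
    let j : K.obj o ≅ (FibCat.diag (FibCat.toSelf (FibCat.overCat U))).obj o' := vIso (R := o.left) i1 i2 l1 l2
    have hj : (LFibProd.P (FibCat.overCat U) (FibCat.overCat U)).p.IsHomLift (𝟙 o.left) j.hom := by
      haveI : (FibCat.overCat U).p.IsHomLift (𝟙 o.left) j.hom.hom.fst := l1
      exact LFibProd.lift_mk (𝟙 o.left) j.hom
    refine ⟨⟨{ fst := o, snd := o', iso := j }, hj⟩, Over.isoMk (Iso.refl _) (by show 𝟙 _ ≫ _ = _; apply equalizer.hom_ext; simp [F, F0, o]),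
      IsHomLift.of_fac' _ _ _ rfl rfl (by simp; rfl)⟩

end diagOver

section main

variable [HasBinaryProducts C] [HasPullbacks C] {S : BasedCategory.{v, max u v} C}

theorem diag_rep1_of_forall (h : ∀ (U : C) (G : FibCat.overCat U ⥤ᵇ S), FibCat.IsRepresentable1 G) :
    FibCat.IsRepresentable1 (FibCat.diag (FibCat.toSelf S)) := by
  intro U H
  let H1 : FibCat.overCat U ⥤ᵇ S := BasedFunctor.comp H (FibCat.fpFst _ _)
  let H2 : FibCat.overCat U ⥤ᵇ S := BasedFunctor.comp H (FibCat.fpSnd _ _)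
  obtain ⟨W, E, hE⟩ := rep_of_equiv (pairBC_equiv H1 H2) (h U H2 U H1)
  obtain ⟨E', hE', -, -⟩ := equiv_symm hE
  let D := FibCat.diag (FibCat.toSelf (FibCat.overCat U))
  let q := FibCat.fpFst (pair H1 H2) (FibCat.diag (FibCat.toSelf S))
  have hr : FibCat.IsRepresentable (FibCat.fp q D) :=
    rep_of_equiv' (fpMap_equiv (F := BasedFunctor.comp E' q) (G := D) (F' := q) (G' := D) E' (BasedFunctor.id _)
      (BasedFunctor.id _) (Iso.refl _) (Iso.refl _) hE' (H9Fib.isEquivOver_id _) (inferInstanceAs (𝟭 _).Full) (inferInstanceAs (𝟭 _).Faithful))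
      (diag_over_rep1 U W _)
  have hp : FibCat.IsRepresentable (FibCat.fp (BasedFunctor.comp D (pair H1 H2)) (FibCat.diag (FibCat.toSelf S))) :=
    rep_of_equiv' (bc_equiv D (pair H1 H2) (FibCat.diag (FibCat.toSelf S))) (rep_of_equiv (swap_equiv D q) hr)
  let e : BasedFunctor.comp (BasedFunctor.comp D (pair H1 H2)) (BasedFunctor.id _) ≅ BasedFunctor.comp (BasedFunctor.id _) H :=
    BasedNatIso.mkNatIso (NatIso.ofComponents (fun o => vIso (R := (o : Over U).left) (Iso.refl _) (Iso.refl _) (IsHomLift.id (H1.w_obj o)) (IsHomLift.id (H2.w_obj o)))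
      (fun {o o'} k => by
        apply ObjectProperty.hom_ext
        apply CategoricalPullback.hom_ext
        · show H1.map k ≫ 𝟙 _ = 𝟙 _ ≫ H1.map k; simp
        · show H2.map k ≫ 𝟙 _ = 𝟙 _ ≫ H2.map k; simp))
      (fun o => IsHomLift.of_fac' _ _ _ (H1.w_obj o) (H1.w_obj o) (by simp; exact S.p.map_id _))
  exact rep_of_equiv' (fpMap_equiv (F := BasedFunctor.comp D (pair H1 H2)) (G := FibCat.diag (FibCat.toSelf S)) (F' := H) (G' := FibCat.diag (FibCat.toSelf S))
    (BasedFunctor.id _) (BasedFunctor.id _) (BasedFunctor.id _) e (Iso.refl _)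
    (H9Fib.isEquivOver_id _) (H9Fib.isEquivOver_id _) (inferInstanceAs (𝟭 _).Full) (inferInstanceAs (𝟭 _).Faithful)) hp

theorem forall_of_diag_rep1 (h : FibCat.IsRepresentable1 (FibCat.diag (FibCat.toSelf S))) (V : C)
    (G : FibCat.overCat V ⥤ᵇ S) : FibCat.IsRepresentable1 G := by
  intro U K
  refine rep_of_equiv' (pairBC_equiv K G) (rep_of_equiv' (fpMap_equiv (F := BasedFunctor.comp (prodFun U V) (pair K G))
    (G := FibCat.diag (FibCat.toSelf S)) (F' := pair K G) (G' := FibCat.diag (FibCat.toSelf S))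
    (prodFun U V) (BasedFunctor.id _) (BasedFunctor.id _) (Iso.refl _) (Iso.refl _)
    (prodFun_equiv U V) (H9Fib.isEquivOver_id _) (inferInstanceAs (𝟭 _).Full) (inferInstanceAs (𝟭 _).Faithful)) (h _ _))

end main

end Groth.Agent.LFibDiag

end
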