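import Groth.Agent.Lib.LFibCat2

set_option autoImplicit false
set_option linter.style.haveILetI false
set_option backward.isDefEq.respectTransparency false
set_option backward.isDefEq.respectTransparency.types false

universe v u

open CategoryTheory CategoryTheory.Functor

namespace Groth.Agent.LFib

variable {C : Type u} [Category.{v} C] {A B D : C}

lemma hw (k : FibCat.overCat A ⥤ᵇ FibCat.overCat B) (o : Over A) : (k.obj o : Over B).left = o.left := k.w_obj o

lemma map_left (k : FibCat.overCat A ⥤ᵇ FibCat.overCat B) {o o' : Over A} (m : o ⟶ o') :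
    (show (k.obj o : Over B) ⟶ k.obj o' from k.map m).left = eqToHom (hw k o) ≫ m.left ≫ eqToHom (hw k o').symm :=
  Functor.congr_hom k.w m

/-- The morphism of `C` determined by a functor between slices over `C`. -/
def ehom (k : FibCat.overCat A ⥤ᵇ FibCat.overCat B) : A ⟶ B :=
  eqToHom (hw k (Over.mk (𝟙 A))).symm ≫ (k.obj (Over.mk (𝟙 A)) : Over B).hom

lemma obj_hom (k : FibCat.overCat A ⥤ᵇ FibCat.overCat B) (o : Over A) :
    (k.obj o : Over B).hom = eqToHom (hw k o) ≫ o.hom ≫ ehom k := by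
  let t : o ⟶ Over.mk (𝟙 A) := Over.homMk o.hom (by simp)
  rw [← Over.w (show (k.obj o : Over B) ⟶ k.obj (Over.mk (𝟙 A)) from k.map t), map_left, ehom]
  simp [t]

lemma ehom_comp (k : FibCat.overCat A ⥤ᵇ FibCat.overCat B) (l : FibCat.overCat B ⥤ᵇ FibCat.overCat D) :
    ehom (BasedFunctor.comp k l) = ehom k ≫ ehom l := by
  show eqToHom _ ≫ (l.obj (k.obj (Over.mk (𝟙 A))) : Over D).hom = _
  rw [obj_hom l]
  simp [ehom]

lemma ehom_id : ehom (BasedFunctor.id (FibCat.overCat A)) = 𝟙 A := by
  simp [ehom]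
  rfl

lemma ehom_congr {k l : FibCat.overCat A ⥤ᵇ FibCat.overCat B} (i : k ≅ l) : ehom k = ehom l := by
  have w := Over.w (show (k.obj (Over.mk (𝟙 A)) : Over B) ⟶ l.obj (Over.mk (𝟙 A)) from i.hom.toNatTrans.app (Over.mk (𝟙 A)))
  have h := @IsHomLift.fac' _ _ _ _ (Over.forget B) _ _ _ _ _ _ (i.hom.isHomLift (a := Over.mk (𝟙 A)) rfl)
  simp only [Over.forget_map] at h
  rw [h] at w
  rw [ehom, ← w]
  simp [ehom]

/-- A functor between slices over `C` is the composition with a morphism. -/
def mapIso (k : FibCat.overCat A ⥤ᵇ FibCat.overCat B) :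
    (⟨Over.map (ehom k), Over.mapForget_eq (ehom k)⟩ : FibCat.overCat A ⥤ᵇ FibCat.overCat B) ≅ k :=
  BasedNatIso.mkNatIso
    (NatIso.ofComponents
      (fun o => Over.isoMk (eqToIso (hw k o).symm) (show eqToHom (hw k o).symm ≫ (k.obj o : Over B).hom = o.hom ≫ ehom k by rw [obj_hom]; simp))
      (fun {o o'} m => by
        apply Over.OverMorphism.ext
        show m.left ≫ eqToHom (hw k o').symm = eqToHom (hw k o).symm ≫ (show (k.obj o : Over B) ⟶ k.obj o' from k.map m).left
        rw [map_left]; simp))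
    (fun o => IsHomLift.of_fac' _ _ _ rfl (hw k o) (by simp; rfl))

end Groth.Agent.LFib
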