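import Groth.Agent.Lib.LFibDiag

set_option autoImplicit false
set_option linter.style.haveILetI false
set_option backward.isDefEq.respectTransparency false
set_option backward.isDefEq.respectTransparency.types false

universe v u

open CategoryTheory CategoryTheory.Functor CategoryTheory.Limits
open Groth.Agent.LFibRep Groth.Agent.LFibDiag

noncomputable section

namespace Groth.Agent.LFibPair

variable {C : Type u} [Category.{v} C] {X Y' Y : BasedCategory.{v, max u v} C} (f : X ⥤ᵇ Y') 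

/-- The product of two functors over `C`. -/
def prodMap {A B A' B' : BasedCategory.{v, max u v} C} (K : A ⥤ᵇ A') (G : B ⥤ᵇ B') : LFibProd.P A B ⥤ᵇ LFibProd.P A' B' :=
  FibCat.fpLift (BasedFunctor.comp (FibCat.fpFst (FibCat.toSelf A) (FibCat.toSelf B)) K)
    (BasedFunctor.comp (FibCat.fpSnd (FibCat.toSelf A) (FibCat.toSelf B)) G) (uniqIso _ _)

/-- `f × id` as a base change of `f`. -/
def baseFun : LFibProd.P X Y ⥤ᵇ FibCat.fp (FibCat.fpFst (FibCat.toSelf Y') (FibCat.toSelf Y)) f :=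
  FibCat.fpLift (prodMap f (BasedFunctor.id Y)) (FibCat.fpFst _ _) (Iso.refl (BasedFunctor.comp (FibCat.fpFst (FibCat.toSelf X) (FibCat.toSelf Y)) f))

theorem baseFun_equiv : FibCat.IsEquivOver (baseFun (Y := Y) f) := by
  refine H9Fib.isEquivOver_of _ ⟨fun {w w'} k => ?_⟩ ⟨fun {w w'} {m m'} h => ?_⟩ fun η => ?_
  · haveI l1 : X.p.IsHomLift (Y'.p.map k.hom.fst.hom.fst) k.hom.snd := FibCat.fp_isHomLift_snd _ f k
    haveI l2 : Y.p.IsHomLift (Y'.p.map k.hom.fst.hom.fst) k.hom.fst.hom.snd := FibCat.fp_isHomLift_snd _ _ k.hom.fst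
    have w1 : k.hom.fst.hom.fst ≫ 𝟙 _ = 𝟙 _ ≫ f.map k.hom.snd := k.hom.w
    let m : w ⟶ w' := LFibProd.homMk (Y'.p.map k.hom.fst.hom.fst) k.hom.snd k.hom.fst.hom.snd
    exact ⟨m, ObjectProperty.hom_ext _ (CategoricalPullback.hom_ext
      (ObjectProperty.hom_ext _ (CategoricalPullback.hom_ext
        ((Category.comp_id _).symm.trans (w1.trans (Category.id_comp _))).symm rfl)) rfl)⟩
  · have h1 : m.hom.fst = m'.hom.fst := congrArg (fun r => r.hom.snd) h
    have h2 : m.hom.snd = m'.hom.snd := congrArg (fun r => r.hom.fst.hom.snd) h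
    exact ObjectProperty.hom_ext _ (CategoricalPullback.hom_ext h1 h2)
  · obtain ⟨⟨z, x, j⟩, hj⟩ := η
    change z.obj.fst ≅ f.obj x at j
    haveI hj' : Y'.p.IsHomLift (𝟙 (Y'.p.obj z.obj.fst)) j.hom := hj
    have hx : X.p.obj x = Y'.p.obj z.obj.fst := (f.w_obj x).symm.trans (IsHomLift.codomain_eq Y'.p (𝟙 (Y'.p.obj z.obj.fst)) j.hom)
    let w : (LFibProd.P X Y).obj := LFibProd.mk x z.obj.snd hx (LFibProd.eq_base z)
    have hinv : Y'.p.IsHomLift (𝟙 (Y'.p.obj z.obj.fst)) j.inv := IsHomLift.lift_id_inv _ _ _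
    let i : (prodMap f (BasedFunctor.id Y)).obj w ≅ z :=
      vIso (R := Y'.p.obj z.obj.fst) j.symm (Iso.refl z.obj.snd) hinv (IsHomLift.id (LFibProd.eq_base z))
    refine ⟨w, ObjectProperty.isoMk _ (CategoricalPullback.mkIso i (Iso.refl x) ?_), ?_⟩
    · show j.inv ≫ j.hom = 𝟙 (f.obj x) ≫ f.map (𝟙 x)
      simp
    · exact IsHomLift.of_fac' _ _ _ (IsHomLift.domain_eq Y'.p (𝟙 (Y'.p.obj z.obj.fst)) j.inv) rfl (IsHomLift.fac' Y'.p (𝟙 (Y'.p.obj z.obj.fst)) j.inv)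

theorem rep1_pair_id (hf : FibCat.IsRepresentable1 f) : FibCat.IsRepresentable1 (prodMap f (BasedFunctor.id Y)) :=
  (rep1_congr (f := FibCat.fpFst (FibCat.fpFst (FibCat.toSelf Y') (FibCat.toSelf Y)) f) (f' := prodMap f (BasedFunctor.id Y))
    (a := baseFun f) (b := BasedFunctor.id _) (baseFun_equiv f) (H9Fib.isEquivOver_id _) (Iso.refl _)).1 (rep1_fpFst _ hf)

/-- The symmetry of the product over `C`. -/
def swapP (A B : BasedCategory.{v, max u v} C) : LFibProd.P A B ⥤ᵇ LFibProd.P B A :=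
  FibCat.fpLift (FibCat.fpSnd _ _) (FibCat.fpFst _ _) (uniqIso _ _)

theorem swapP_equiv (A B : BasedCategory.{v, max u v} C) : FibCat.IsEquivOver (swapP A B) := by
  have key : ∀ (A B : BasedCategory.{v, max u v} C), Nonempty (BasedFunctor.comp (swapP A B) (swapP B A) ≅ BasedFunctor.id _) := fun A B =>
    ⟨BasedNatIso.mkNatIso (NatIso.ofComponents (fun w => vIso (R := A.p.obj w.obj.fst) (Iso.refl w.obj.fst) (Iso.refl w.obj.snd)
        (IsHomLift.id rfl) (IsHomLift.id (LFibProd.eq_base w)))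
      (fun {w w'} k => by
        apply ObjectProperty.hom_ext
        apply CategoricalPullback.hom_ext
        · show k.hom.fst ≫ 𝟙 _ = 𝟙 _ ≫ k.hom.fst; simp
        · show k.hom.snd ≫ 𝟙 _ = 𝟙 _ ≫ k.hom.snd; simp))
      (fun w => IsHomLift.of_fac' _ _ _ rfl rfl (by simp; exact A.p.map_id _))⟩
  exact ⟨swapP B A, key A B, key B A⟩

theorem rep1_id_pair (hf : FibCat.IsRepresentable1 f) : FibCat.IsRepresentable1 (prodMap (BasedFunctor.id Y) f) := by
  let s1 := swapP Y Y'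
  let s2 := swapP Y X
  let e : BasedFunctor.comp (prodMap (BasedFunctor.id Y) f) s1 ≅ BasedFunctor.comp s2 (prodMap f (BasedFunctor.id Y)) :=
    BasedNatIso.mkNatIso (NatIso.ofComponents (fun w => vIso (R := Y.p.obj w.obj.fst) (Iso.refl (f.obj w.obj.snd)) (Iso.refl w.obj.fst)
        (IsHomLift.id ((f.w_obj _).trans (LFibProd.eq_base w))) (IsHomLift.id rfl))
      (fun {w w'} k => by
        apply ObjectProperty.hom_ext
        apply CategoricalPullback.hom_ext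
        · show f.map k.hom.snd ≫ 𝟙 _ = 𝟙 _ ≫ f.map k.hom.snd; simp
        · show k.hom.fst ≫ 𝟙 _ = 𝟙 _ ≫ k.hom.fst; simp))
      (fun w => IsHomLift.of_fac' _ _ _ ((f.w_obj _).trans (LFibProd.eq_base w)) ((f.w_obj _).trans (LFibProd.eq_base w)) (by simp; exact Y'.p.map_id _))
  exact (rep1_congr (swapP_equiv Y X) (swapP_equiv Y Y') e).1 (rep1_pair_id f hf)

theorem rep1_prod {X₁ X₂ Y₁ Y₂ : BasedCategory.{v, max u v} C} {f₁ : X₁ ⥤ᵇ Y₁} {f₂ : X₂ ⥤ᵇ Y₂}
    (hf₁ : FibCat.IsRepresentable1 f₁) (hf₂ : FibCat.IsRepresentable1 f₂)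
    (e : BasedFunctor.comp (BasedFunctor.comp (FibCat.fpFst (FibCat.toSelf X₁) (FibCat.toSelf X₂)) f₁) (FibCat.toSelf Y₁) ≅ BasedFunctor.comp (BasedFunctor.comp (FibCat.fpSnd (FibCat.toSelf X₁) (FibCat.toSelf X₂)) f₂) (FibCat.toSelf Y₂)) :
    FibCat.IsRepresentable1 (FibCat.fpLift (BasedFunctor.comp (FibCat.fpFst (FibCat.toSelf X₁) (FibCat.toSelf X₂)) f₁) (BasedFunctor.comp (FibCat.fpSnd (FibCat.toSelf X₁) (FibCat.toSelf X₂)) f₂) e) := by
  let g := FibCat.fpLift (BasedFunctor.comp (FibCat.fpFst (FibCat.toSelf X₁) (FibCat.toSelf X₂)) f₁) (BasedFunctor.comp (FibCat.fpSnd (FibCat.toSelf X₁) (FibCat.toSelf X₂)) f₂) e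
  let i : BasedFunctor.comp g (BasedFunctor.id _) ≅ BasedFunctor.comp (BasedFunctor.id _) (BasedFunctor.comp (prodMap f₁ (BasedFunctor.id X₂)) (prodMap (BasedFunctor.id Y₁) f₂)) :=
    BasedNatIso.mkNatIso (NatIso.ofComponents (fun w => vIso (R := X₁.p.obj w.obj.fst) (Iso.refl (f₁.obj w.obj.fst)) (Iso.refl (f₂.obj w.obj.snd))
        (IsHomLift.id (f₁.w_obj _)) (IsHomLift.id ((f₂.w_obj _).trans (LFibProd.eq_base w))))
      (fun {w w'} k => by
        apply ObjectProperty.hom_ext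
        apply CategoricalPullback.hom_ext
        · show f₁.map k.hom.fst ≫ 𝟙 _ = 𝟙 _ ≫ f₁.map k.hom.fst; simp
        · show f₂.map k.hom.snd ≫ 𝟙 _ = 𝟙 _ ≫ f₂.map k.hom.snd; simp))
      (fun w => IsHomLift.of_fac' _ _ _ (f₁.w_obj _) (f₁.w_obj _) (by simp; exact Y₁.p.map_id _))
  exact (rep1_congr (H9Fib.isEquivOver_id _) (H9Fib.isEquivOver_id _) i).1 (rep1_comp (rep1_pair_id f₁ hf₁) (rep1_id_pair f₂ hf₂))

end Groth.Agent.LFibPair

end
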