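import Groth.Agent.Lib.LFibOver

set_option autoImplicit false
set_option linter.style.haveILetI false
set_option backward.isDefEq.respectTransparency false
set_option backward.isDefEq.respectTransparency.types false

universe v u v₂ u₂ v₃ u₃

open CategoryTheory CategoryTheory.Functor CategoryTheory.Limits

noncomputable section

namespace Groth.Agent.LFibRep

variable {C : Type u} [Category.{v} C]

theorem equiv_symm {X : BasedCategory.{v₂, u₂} C} {Y : BasedCategory.{v₃, u₃} C} {F : X ⥤ᵇ Y}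
    (h : FibCat.IsEquivOver F) : ∃ G : Y ⥤ᵇ X, FibCat.IsEquivOver G ∧
      Nonempty (BasedFunctor.comp F G ≅ BasedFunctor.id X) ∧ Nonempty (BasedFunctor.comp G F ≅ BasedFunctor.id Y) := by
  obtain ⟨G, a, b⟩ := h
  exact ⟨G, ⟨F, b, a⟩, a, b⟩

theorem rep_of_equiv {X : BasedCategory.{v₂, u₂} C} {Y : BasedCategory.{v₃, u₃} C} {F : X ⥤ᵇ Y}
    (h : FibCat.IsEquivOver F) (hY : FibCat.IsRepresentable Y) : FibCat.IsRepresentable X := by
  obtain ⟨U, E, hE⟩ := hY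
  exact ⟨U, BasedFunctor.comp F E, H9Fib.isEquivOver_trans h hE⟩

theorem rep_of_equiv' {X : BasedCategory.{v₂, u₂} C} {Y : BasedCategory.{v₃, u₃} C} {F : X ⥤ᵇ Y}
    (h : FibCat.IsEquivOver F) (hX : FibCat.IsRepresentable X) : FibCat.IsRepresentable Y := by
  obtain ⟨G, hG, -, -⟩ := equiv_symm h
  exact rep_of_equiv hG hX

section map

variable {X Y S X' Y' S' : BasedCategory.{v, max u v} C} {F : X ⥤ᵇ S} {G : Y ⥤ᵇ S} {F' : X' ⥤ᵇ S'} {G' : Y' ⥤ᵇ S'}
  (a : X ⥤ᵇ X') (b : Y ⥤ᵇ Y') (c : S ⥤ᵇ S')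
  (e₁ : BasedFunctor.comp F c ≅ BasedFunctor.comp a F') (e₂ : BasedFunctor.comp G c ≅ BasedFunctor.comp b G')

/-- The functor induced on fibre products. -/
def fpMap : FibCat.fp F G ⥤ᵇ FibCat.fp F' G' :=
  FibCat.fpLift (BasedFunctor.comp (FibCat.fpFst F G) a) (BasedFunctor.comp (FibCat.fpSnd F G) b)
    (H9Fib.wLeft (FibCat.fpFst F G) e₁.symm ≪≫ H9Fib.wRight (FibCat.fpIso F G) c ≪≫ H9Fib.wLeft (FibCat.fpSnd F G) e₂)

theorem fpMap_equiv (ha : FibCat.IsEquivOver a) (hb : FibCat.IsEquivOver b) (hc : c.toFunctor.Full) (hc' : c.toFunctor.Faithful) :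
    FibCat.IsEquivOver (fpMap a b c e₁ e₂) := by
  obtain ⟨haf, haf', hae⟩ := H9Fib.full_of_isEquivOver ha
  obtain ⟨hbf, hbf', hbe⟩ := H9Fib.full_of_isEquivOver hb
  have hiso : ∀ w : (FibCat.fp F G).obj, ((fpMap a b c e₁ e₂).obj w).obj.iso.hom =
      e₁.inv.toNatTrans.app w.obj.fst ≫ c.map w.obj.iso.hom ≫ e₂.hom.toNatTrans.app w.obj.snd := fun w => rfl
  refine H9Fib.isEquivOver_of _ ⟨fun {w w'} k => ?_⟩ ⟨fun {w w'} {m m'} h => ?_⟩ fun η => ?_
  · obtain ⟨p, hp⟩ := a.toFunctor.map_surjective k.hom.fst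
    obtain ⟨q, hq⟩ := b.toFunctor.map_surjective k.hom.snd
    have hw : F.map p ≫ w'.obj.iso.hom = w.obj.iso.hom ≫ G.map q := by
      apply c.toFunctor.map_injective
      have w0 : F'.map (a.map p) ≫ ((fpMap a b c e₁ e₂).obj w').obj.iso.hom = ((fpMap a b c e₁ e₂).obj w).obj.iso.hom ≫ G'.map (b.map q) := by
        show F'.map (a.toFunctor.map p) ≫ _ = _ ≫ G'.map (b.toFunctor.map q)
        rw [hp, hq]; exact k.hom.w
      rw [hiso, hiso] at w0
      have n1 : F'.map (a.map p) ≫ e₁.inv.toNatTrans.app w'.obj.fst = e₁.inv.toNatTrans.app w.obj.fst ≫ c.map (F.map p) :=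
        e₁.inv.toNatTrans.naturality p
      have n2 : c.map (G.map q) ≫ e₂.hom.toNatTrans.app w'.obj.snd = e₂.hom.toNatTrans.app w.obj.snd ≫ G'.map (b.map q) :=
        e₂.hom.toNatTrans.naturality q
      haveI : IsIso (e₁.inv.toNatTrans.app w.obj.fst) := inferInstanceAs (IsIso (((BasedNatTrans.forgetful _ _).mapIso e₁).inv.app w.obj.fst))
      haveI : IsIso (e₂.hom.toNatTrans.app w'.obj.snd) := inferInstanceAs (IsIso (((BasedNatTrans.forgetful _ _).mapIso e₂).hom.app w'.obj.snd))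
      rw [← Category.assoc, n1, Category.assoc, Category.assoc, Category.assoc, ← n2, cancel_epi] at w0
      rw [← Category.assoc, ← Category.assoc, cancel_mono] at w0
      rw [c.toFunctor.map_comp, c.toFunctor.map_comp]
      exact w0
    exact ⟨ObjectProperty.homMk { fst := p, snd := q, w := hw }, ObjectProperty.hom_ext _ (CategoricalPullback.hom_ext hp hq)⟩
  · exact ObjectProperty.hom_ext _ (CategoricalPullback.hom_ext (a.toFunctor.map_injective (congrArg (fun r => r.hom.fst) h)) (b.toFunctor.map_injective (congrArg (fun r => r.hom.snd) h)))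
  · obtain ⟨⟨x', y', i⟩, hi⟩ := η
    change F'.obj x' ≅ G'.obj y' at i
    haveI hi' : S'.p.IsHomLift (𝟙 (X'.p.obj x')) i.hom := hi
    have hy : Y'.p.obj y' = X'.p.obj x' := (G'.w_obj _).symm.trans (IsHomLift.codomain_eq S'.p (𝟙 (X'.p.obj x')) i.hom)
    obtain ⟨x, ea, hea⟩ := hae x'
    obtain ⟨y, eb, heb⟩ := LFib.exists_lift_obj hb y' hy
    haveI := hea; haveI := heb
    have hx : X.p.obj x = X'.p.obj x' := (a.w_obj x).symm.trans (IsHomLift.domain_eq X'.p (𝟙 (X'.p.obj x')) ea.hom)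
    have hy' : Y.p.obj y = X'.p.obj x' := (b.w_obj y).symm.trans (IsHomLift.domain_eq Y'.p (𝟙 (X'.p.obj x')) eb.hom)
    let i0 : c.obj (F.obj x) ≅ c.obj (G.obj y) := ((BasedNatTrans.forgetful _ _).mapIso e₁).app x ≪≫ F'.toFunctor.mapIso ea ≪≫ i ≪≫ (G'.toFunctor.mapIso eb).symm ≪≫ (((BasedNatTrans.forgetful _ _).mapIso e₂).app y).symm
    let j : F.obj x ≅ G.obj y := c.toFunctor.preimageIso i0
    have hcj : c.map j.hom = i0.hom := c.toFunctor.map_preimage _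
    haveI l1 : S'.p.IsHomLift (𝟙 (X'.p.obj x')) (e₁.hom.toNatTrans.app x) := e₁.hom.isHomLift hx
    haveI l2 : S'.p.IsHomLift (𝟙 (X'.p.obj x')) (e₂.inv.toNatTrans.app y) := e₂.inv.isHomLift hy'
    haveI : Y'.p.IsHomLift (𝟙 (X'.p.obj x')) eb.inv := IsHomLift.lift_id_inv _ _ _
    have hl : S'.p.IsHomLift (𝟙 (X'.p.obj x')) (c.map j.hom) := by
      rw [hcj]
      show S'.p.IsHomLift _ (e₁.hom.toNatTrans.app x ≫ F'.map ea.hom ≫ i.hom ≫ G'.map eb.inv ≫ e₂.inv.toNatTrans.app y)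
      infer_instance
    haveI := hl
    have hj : S.p.IsHomLift (𝟙 (X.p.obj x)) j.hom := by rw [hx]; exact BasedFunctor.isHomLift_map c _ _
    refine ⟨⟨{ fst := x, snd := y, iso := j }, hj⟩, ObjectProperty.isoMk _ (CategoricalPullback.mkIso ea eb ?_), ?_⟩
    · show F'.map ea.hom ≫ i.hom = ((fpMap a b c e₁ e₂).obj ⟨{ fst := x, snd := y, iso := j }, hj⟩).obj.iso.hom ≫ G'.map eb.hom
      rw [hiso]
      show _ = (e₁.inv.toNatTrans.app x ≫ c.map j.hom ≫ e₂.hom.toNatTrans.app y) ≫ _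
      rw [hcj]
      have h1 : e₁.inv.toNatTrans.app x ≫ e₁.hom.toNatTrans.app x = 𝟙 _ := congrArg (fun t => t.toNatTrans.app x) e₁.inv_hom_id
      have h2 : e₂.inv.toNatTrans.app y ≫ e₂.hom.toNatTrans.app y = 𝟙 _ := congrArg (fun t => t.toNatTrans.app y) e₂.inv_hom_id
      have h3 : G'.map eb.inv ≫ G'.map eb.hom = 𝟙 _ := (G'.toFunctor.mapIso eb).inv_hom_id
      show _ = (e₁.inv.toNatTrans.app x ≫ (e₁.hom.toNatTrans.app x ≫ F'.map ea.hom ≫ i.hom ≫ G'.map eb.inv ≫ e₂.inv.toNatTrans.app y) ≫ e₂.hom.toNatTrans.app y) ≫ G'.map eb.hom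
      simp only [Category.assoc, reassoc_of% h1, reassoc_of% h2, h3]
      simp
    · exact IsHomLift.of_fac' _ _ _ (IsHomLift.domain_eq X'.p (𝟙 (X'.p.obj x')) ea.hom) rfl (IsHomLift.fac' X'.p (𝟙 (X'.p.obj x')) ea.hom)

end map

section swap

variable {X Y S : BasedCategory.{v, max u v} C} (F : X ⥤ᵇ S) (G : Y ⥤ᵇ S)

/-- The symmetry of the fibre product. -/
def swap : FibCat.fp F G ⥤ᵇ FibCat.fp G F :=
  FibCat.fpLift (FibCat.fpSnd F G) (FibCat.fpFst F G) (FibCat.fpIso F G).symm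

theorem swap_w (w : (FibCat.fp F G).obj) :
    F.map (𝟙 w.obj.fst) ≫ w.obj.iso.hom = w.obj.iso.hom ≫ G.map (𝟙 w.obj.snd) := by simp

theorem swap_equiv : FibCat.IsEquivOver (swap F G) :=
  ⟨swap G F,
    ⟨BasedNatIso.mkNatIso (NatIso.ofComponents (fun w => ObjectProperty.isoMk _ (CategoricalPullback.mkIso (Iso.refl w.obj.fst) (Iso.refl w.obj.snd) (swap_w _ _ w)))
      (fun {w w'} k => by
        apply ObjectProperty.hom_ext
        apply CategoricalPullback.hom_ext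
        · show k.hom.fst ≫ 𝟙 _ = 𝟙 _ ≫ k.hom.fst; simp
        · show k.hom.snd ≫ 𝟙 _ = 𝟙 _ ≫ k.hom.snd; simp))
      (fun w => IsHomLift.of_fac' _ _ _ rfl rfl (by simp; exact X.p.map_id w.obj.fst))⟩,
    ⟨BasedNatIso.mkNatIso (NatIso.ofComponents (fun w => ObjectProperty.isoMk _ (CategoricalPullback.mkIso (Iso.refl w.obj.fst) (Iso.refl w.obj.snd) (swap_w _ _ w)))
      (fun {w w'} k => by
        apply ObjectProperty.hom_ext
        apply CategoricalPullback.hom_ext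
        · show k.hom.fst ≫ 𝟙 _ = 𝟙 _ ≫ k.hom.fst; simp
        · show k.hom.snd ≫ 𝟙 _ = 𝟙 _ ≫ k.hom.snd; simp))
      (fun w => IsHomLift.of_fac' _ _ _ rfl rfl (by simp; exact Y.p.map_id w.obj.fst))⟩⟩

end swap

section paste

variable {A X Y S : BasedCategory.{v, max u v} C} (G : A ⥤ᵇ S) (f : X ⥤ᵇ Y) (g : Y ⥤ᵇ S)

/-- Pasting of fibre products. -/
def paste : FibCat.fp (FibCat.fpSnd G g) f ⥤ᵇ FibCat.fp G (BasedFunctor.comp f g) :=
  FibCat.fpLift (BasedFunctor.comp (FibCat.fpFst (FibCat.fpSnd G g) f) (FibCat.fpFst G g)) (FibCat.fpSnd (FibCat.fpSnd G g) f)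
    (H9Fib.wLeft (FibCat.fpFst (FibCat.fpSnd G g) f) (FibCat.fpIso G g) ≪≫ H9Fib.wRight (FibCat.fpIso (FibCat.fpSnd G g) f) g)

theorem paste_equiv : FibCat.IsEquivOver (paste G f g) := by
  refine H9Fib.isEquivOver_of _ ⟨fun {w w'} k => ?_⟩ ⟨fun {w w'} {m m'} h => ?_⟩ fun η => ?_
  · let q : w.obj.fst.obj.snd ⟶ w'.obj.fst.obj.snd := w.obj.iso.hom ≫ f.map k.hom.snd ≫ w'.obj.iso.inv
    have hk : G.map k.hom.fst ≫ (w'.obj.fst.obj.iso.hom ≫ g.map w'.obj.iso.hom) = (w.obj.fst.obj.iso.hom ≫ g.map w.obj.iso.hom) ≫ g.map (f.map k.hom.snd) := k.hom.w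
    have hw : G.map k.hom.fst ≫ w'.obj.fst.obj.iso.hom = w.obj.fst.obj.iso.hom ≫ g.map q := by
      haveI : IsIso (g.map w'.obj.iso.hom) := inferInstanceAs (IsIso (g.toFunctor.mapIso w'.obj.iso).hom)
      rw [← cancel_mono (g.map w'.obj.iso.hom), Category.assoc, hk, Category.assoc, Category.assoc]
      congr 1
      show _ = g.toFunctor.map _ ≫ g.toFunctor.map _
      rw [← g.toFunctor.map_comp, ← g.toFunctor.map_comp]
      simp [q]
    refine ⟨ObjectProperty.homMk { fst := ObjectProperty.homMk { fst := k.hom.fst, snd := q, w := hw }, snd := k.hom.snd, w := ?_ }, ObjectProperty.hom_ext _ (CategoricalPullback.hom_ext rfl rfl)⟩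
    show q ≫ w'.obj.iso.hom = w.obj.iso.hom ≫ f.map k.hom.snd
    simp [q]
  · have h1 : m.hom.fst.hom.fst = m'.hom.fst.hom.fst := congrArg (fun r => r.hom.fst) h
    have h2 : m.hom.snd = m'.hom.snd := congrArg (fun r => r.hom.snd) h
    refine ObjectProperty.hom_ext _ (CategoricalPullback.hom_ext (ObjectProperty.hom_ext _ (CategoricalPullback.hom_ext h1 ?_)) h2)
    have w1 : m.hom.fst.hom.snd ≫ w'.obj.iso.hom = w.obj.iso.hom ≫ f.map m.hom.snd := m.hom.w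
    have w2 : m'.hom.fst.hom.snd ≫ w'.obj.iso.hom = w.obj.iso.hom ≫ f.map m'.hom.snd := m'.hom.w
    rw [← cancel_mono w'.obj.iso.hom, w1, w2, h2]
  · obtain ⟨⟨o, x, i⟩, hi⟩ := η
    change G.obj o ≅ g.obj (f.obj x) at i
    haveI hi' : S.p.IsHomLift (𝟙 (A.p.obj o)) i.hom := hi
    have hx : Y.p.obj (f.obj x) = A.p.obj o := (g.w_obj _).symm.trans (IsHomLift.codomain_eq S.p (𝟙 (A.p.obj o)) i.hom)
    let w0 : (FibCat.fp G g).obj := ⟨{ fst := o, snd := f.obj x, iso := i }, hi'⟩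
    let w : (FibCat.fp (FibCat.fpSnd G g) f).obj := ⟨{ fst := w0, snd := x, iso := Iso.refl (f.obj x) },
      show Y.p.IsHomLift (𝟙 (A.p.obj o)) (𝟙 (f.obj x)) from IsHomLift.id hx⟩
    refine ⟨w, ObjectProperty.isoMk _ (CategoricalPullback.mkIso (Iso.refl o) (Iso.refl x) ?_), IsHomLift.of_fac' _ _ _ rfl rfl (by simp; exact A.p.map_id o)⟩
    show G.map (𝟙 o) ≫ i.hom = (i.hom ≫ g.map (𝟙 (f.obj x))) ≫ g.map (f.map (𝟙 x))
    simp

end paste

section bc

variable {A X Y S : BasedCategory.{v, max u v} C} (G : A ⥤ᵇ Y) (g : Y ⥤ᵇ S) (f : X ⥤ᵇ S)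

/-- Base change of a projection. -/
def bc : FibCat.fp G (FibCat.fpFst g f) ⥤ᵇ FibCat.fp (BasedFunctor.comp G g) f :=
  FibCat.fpLift (FibCat.fpFst G (FibCat.fpFst g f)) (BasedFunctor.comp (FibCat.fpSnd G (FibCat.fpFst g f)) (FibCat.fpSnd g f))
    (H9Fib.wRight (FibCat.fpIso G (FibCat.fpFst g f)) g ≪≫ H9Fib.wLeft (FibCat.fpSnd G (FibCat.fpFst g f)) (FibCat.fpIso g f))

theorem bc_equiv : FibCat.IsEquivOver (bc G g f) := by
  refine H9Fib.isEquivOver_of _ ⟨fun {w w'} k => ?_⟩ ⟨fun {w w'} {m m'} h => ?_⟩ fun η => ?_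
  · let z : w.obj.snd.obj.fst ⟶ w'.obj.snd.obj.fst := w.obj.iso.inv ≫ G.map k.hom.fst ≫ w'.obj.iso.hom
    have hk : g.map (G.map k.hom.fst) ≫ (g.map w'.obj.iso.hom ≫ w'.obj.snd.obj.iso.hom) = (g.map w.obj.iso.hom ≫ w.obj.snd.obj.iso.hom) ≫ f.map k.hom.snd := k.hom.w
    have hw : g.map z ≫ w'.obj.snd.obj.iso.hom = w.obj.snd.obj.iso.hom ≫ f.map k.hom.snd := by
      haveI : IsIso (g.map w.obj.iso.hom) := inferInstanceAs (IsIso (g.toFunctor.mapIso w.obj.iso).hom)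
      rw [← cancel_epi (g.map w.obj.iso.hom), ← Category.assoc (g.map w.obj.iso.hom) _ (f.map k.hom.snd), ← hk, ← Category.assoc, ← Category.assoc]
      congr 1
      show g.toFunctor.map _ ≫ g.toFunctor.map _ = g.toFunctor.map _ ≫ g.toFunctor.map _
      rw [← g.toFunctor.map_comp, ← g.toFunctor.map_comp]
      simp [z]
    refine ⟨ObjectProperty.homMk { fst := k.hom.fst, snd := ObjectProperty.homMk { fst := z, snd := k.hom.snd, w := hw }, w := ?_ }, ObjectProperty.hom_ext _ (CategoricalPullback.hom_ext rfl rfl)⟩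
    show G.map k.hom.fst ≫ w'.obj.iso.hom = w.obj.iso.hom ≫ z
    simp [z]
  · have h1 : m.hom.fst = m'.hom.fst := congrArg (fun r => r.hom.fst) h
    have h2 : m.hom.snd.hom.snd = m'.hom.snd.hom.snd := congrArg (fun r => r.hom.snd) h
    refine ObjectProperty.hom_ext _ (CategoricalPullback.hom_ext h1 (ObjectProperty.hom_ext _ (CategoricalPullback.hom_ext ?_ h2)))
    have w1 : G.map m.hom.fst ≫ w'.obj.iso.hom = w.obj.iso.hom ≫ m.hom.snd.hom.fst := m.hom.w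
    have w2 : G.map m'.hom.fst ≫ w'.obj.iso.hom = w.obj.iso.hom ≫ m'.hom.snd.hom.fst := m'.hom.w
    rw [← cancel_epi w.obj.iso.hom, ← w1, ← w2, h1]
  · obtain ⟨⟨o, x, i⟩, hi⟩ := η
    change g.obj (G.obj o) ≅ f.obj x at i
    haveI hi' : S.p.IsHomLift (𝟙 (A.p.obj o)) i.hom := hi
    let w0 : (FibCat.fp g f).obj := ⟨{ fst := G.obj o, snd := x, iso := i },
      show S.p.IsHomLift (𝟙 (Y.p.obj (G.obj o))) i.hom by rw [G.w_obj o]; exact hi'⟩
    let w : (FibCat.fp G (FibCat.fpFst g f)).obj := ⟨{ fst := o, snd := w0, iso := Iso.refl (G.obj o) },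
      show Y.p.IsHomLift (𝟙 (A.p.obj o)) (𝟙 (G.obj o)) from IsHomLift.id (G.w_obj o)⟩
    refine ⟨w, ObjectProperty.isoMk _ (CategoricalPullback.mkIso (Iso.refl o) (Iso.refl x) ?_), IsHomLift.of_fac' _ _ _ rfl rfl (by simp; exact A.p.map_id o)⟩
    show g.map (G.map (𝟙 o)) ≫ i.hom = (g.map (𝟙 (G.obj o)) ≫ i.hom) ≫ f.map (𝟙 x)
    simp

end bc

section rep1

variable {X Y Z : BasedCategory.{v, max u v} C}

theorem rep1_comp {f : X ⥤ᵇ Y} {g : Y ⥤ᵇ Z} (hf : FibCat.IsRepresentable1 f) (hg : FibCat.IsRepresentable1 g) :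
    FibCat.IsRepresentable1 (BasedFunctor.comp f g) := by
  intro U G
  obtain ⟨V, E, hE⟩ := hg U G
  obtain ⟨E', hE', -, -⟩ := equiv_symm hE
  refine rep_of_equiv' (paste_equiv G f g) (rep_of_equiv' (fpMap_equiv E' (BasedFunctor.id X) (BasedFunctor.id Y)
    (F := BasedFunctor.comp E' (FibCat.fpSnd G g)) (G := f) (F' := FibCat.fpSnd G g) (G' := f)
    (Iso.refl _) (Iso.refl _) hE' (H9Fib.isEquivOver_id X) (inferInstanceAs (𝟭 Y.obj).Full) (inferInstanceAs (𝟭 Y.obj).Faithful)) ?_)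
  exact hf V _

theorem rep1_fpFst {f : X ⥤ᵇ Z} (g : Y ⥤ᵇ Z) (hf : FibCat.IsRepresentable1 f) :
    FibCat.IsRepresentable1 (FibCat.fpFst g f) := fun U G =>
  rep_of_equiv (bc_equiv G g f) (hf U _)

theorem rep1_congr {X' Y' : BasedCategory.{v, max u v} C} {f : X ⥤ᵇ Y} {f' : X' ⥤ᵇ Y'} {a : X' ⥤ᵇ X} {b : Y' ⥤ᵇ Y}
    (ha : FibCat.IsEquivOver a) (hb : FibCat.IsEquivOver b) (e : BasedFunctor.comp f' b ≅ BasedFunctor.comp a f) :
    FibCat.IsRepresentable1 f ↔ FibCat.IsRepresentable1 f' := by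
  obtain ⟨hbf, hbf', -⟩ := H9Fib.full_of_isEquivOver hb
  have key : ∀ (U : C) (G : FibCat.overCat U ⥤ᵇ Y'), FibCat.IsEquivOver
      (fpMap (F := G) (G := f') (F' := BasedFunctor.comp G b) (G' := f) (BasedFunctor.id (FibCat.overCat U)) a b (Iso.refl _) e) :=
    fun U G => fpMap_equiv _ _ _ _ _ (H9Fib.isEquivOver_id _) ha hbf hbf'
  constructor
  · exact fun h U G => rep_of_equiv (key U G) (h U _)
  · intro h U G
    obtain ⟨b', hb', -, ⟨i⟩⟩ := equiv_symm hb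
    have h1 := rep_of_equiv' (key U (BasedFunctor.comp G b')) (h U _)
    exact rep_of_equiv' (fpMap_equiv (F := BasedFunctor.comp (BasedFunctor.comp G b') b) (G := f) (F' := G) (G' := f)
      (BasedFunctor.id (FibCat.overCat U)) (BasedFunctor.id X) (BasedFunctor.id Y) (H9Fib.wLeft G i) (Iso.refl _)
      (H9Fib.isEquivOver_id _) (H9Fib.isEquivOver_id _) (inferInstanceAs (𝟭 Y.obj).Full) (inferInstanceAs (𝟭 Y.obj).Faithful)) h1

theorem rep1_fpSnd {f : X ⥤ᵇ Z} (g : Y ⥤ᵇ Z) (hf : FibCat.IsRepresentable1 f) :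
    FibCat.IsRepresentable1 (FibCat.fpSnd f g) :=
  (rep1_congr (f := FibCat.fpFst g f) (f' := FibCat.fpSnd f g) (a := swap f g) (b := BasedFunctor.id Y)
    (swap_equiv f g) (H9Fib.isEquivOver_id Y) (Iso.refl _)).1 (rep1_fpFst g hf)

end rep1

end Groth.Agent.LFibRep

end
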