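import Groth.Agent.Lib.LFibRep

set_option autoImplicit false
set_option linter.style.haveILetI false
set_option backward.isDefEq.respectTransparency false
set_option backward.isDefEq.respectTransparency.types false

universe v u

open CategoryTheory CategoryTheory.Functor CategoryTheory.Limits

noncomputable section

namespace Groth.Agent.LFibRep

variable {C : Type u} [Category.{v} C] {X Y Z : BasedCategory.{v, max u v} C} (f : X ⥤ᵇ Y) (g : Y ⥤ᵇ Z)

/-- The graph of `f` over `Z`. -/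
def graph : X ⥤ᵇ FibCat.fp (BasedFunctor.comp f g) g :=
  FibCat.fpLift (BasedFunctor.id X) f (Iso.refl (BasedFunctor.comp f g))

/-- The map `f × id`. -/
def gh : FibCat.fp (BasedFunctor.comp f g) g ⥤ᵇ FibCat.fp g g :=
  fpMap (F := BasedFunctor.comp f g) (G := g) (F' := g) (G' := g) f (BasedFunctor.id Y) (BasedFunctor.id Z) (Iso.refl _) (Iso.refl _)

lemma gh_iso (w : (FibCat.fp (BasedFunctor.comp f g) g).obj) : ((gh f g).obj w).obj.iso.hom = w.obj.iso.hom := by
  show 𝟙 _ ≫ w.obj.iso.hom ≫ 𝟙 _ = w.obj.iso.hom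
  simp

/-- The square exhibiting the graph as a base change of the diagonal. -/
def graphSq : BasedFunctor.comp (graph f g) (gh f g) ≅ BasedFunctor.comp f (FibCat.diag g) :=
  BasedNatIso.mkNatIso (NatIso.ofComponents (fun x => ObjectProperty.isoMk _ (CategoricalPullback.mkIso (Iso.refl (f.obj x)) (Iso.refl (f.obj x))
      (show g.map (𝟙 (f.obj x)) ≫ 𝟙 _ = ((gh f g).obj ((graph f g).obj x)).obj.iso.hom ≫ g.map (𝟙 (f.obj x)) by
        rw [gh_iso]; show _ = 𝟙 _ ≫ _; simp; exact (g.toFunctor.map_id _).symm)))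
    (fun {x x'} k => by
      apply ObjectProperty.hom_ext
      apply CategoricalPullback.hom_ext
      · show f.map k ≫ 𝟙 _ = 𝟙 _ ≫ f.map k; simp
      · show f.map k ≫ 𝟙 _ = 𝟙 _ ≫ f.map k; simp))
    (fun x => IsHomLift.of_fac' _ _ _ (f.w_obj x) (f.w_obj x) (by simp; exact Y.p.map_id _))

/-- The comparison functor. -/
def graphBC : X ⥤ᵇ FibCat.fp (gh f g) (FibCat.diag g) :=
  FibCat.fpLift (graph f g) f (graphSq f g)

theorem graphBC_equiv : FibCat.IsEquivOver (graphBC f g) := by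
  refine H9Fib.isEquivOver_of _ ⟨fun {x x'} k => ?_⟩ ⟨fun {x x'} {m m'} h => congrArg (fun r => r.hom.fst.hom.fst) h⟩ fun η => ?_
  · have w1 : f.map k.hom.fst.hom.fst ≫ 𝟙 (f.obj x') = 𝟙 (f.obj x) ≫ k.hom.snd := congrArg (fun r => r.hom.fst) k.hom.w
    have w2 : k.hom.fst.hom.snd ≫ 𝟙 (f.obj x') = 𝟙 (f.obj x) ≫ k.hom.snd := congrArg (fun r => r.hom.snd) k.hom.w
    replace w1 : f.map k.hom.fst.hom.fst = k.hom.snd := (Category.comp_id _).symm.trans (w1.trans (Category.id_comp _))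
    replace w2 : k.hom.fst.hom.snd = k.hom.snd := (Category.comp_id _).symm.trans (w2.trans (Category.id_comp _))
    exact ⟨k.hom.fst.hom.fst, ObjectProperty.hom_ext _ (CategoricalPullback.hom_ext
      (ObjectProperty.hom_ext _ (CategoricalPullback.hom_ext rfl (w1.trans w2.symm))) w1)⟩
  · obtain ⟨⟨⟨⟨x, y, i⟩, hi⟩, y', j⟩, hj⟩ := η
    let j1 : f.obj x ≅ y' := (CategoricalPullback.π₁ g.toFunctor g.toFunctor).mapIso ((FibCat.fpProp g g).ι.mapIso j)
    let j2 : y ≅ y' := (CategoricalPullback.π₂ g.toFunctor g.toFunctor).mapIso ((FibCat.fpProp g g).ι.mapIso j)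
    change g.obj (f.obj x) ≅ g.obj y at i
    have wj : g.map j1.hom ≫ 𝟙 _ = (𝟙 _ ≫ i.hom ≫ 𝟙 _) ≫ g.map j2.hom := j.hom.hom.w
    refine ⟨x, ObjectProperty.isoMk _ (CategoricalPullback.mkIso
      (ObjectProperty.isoMk _ (CategoricalPullback.mkIso (Iso.refl x) (j1 ≪≫ j2.symm) ?_)) j1 ?_), ?_⟩
    · show g.map (f.map (𝟙 x)) ≫ i.hom = 𝟙 _ ≫ g.map (j1.hom ≫ j2.inv)
      have h2 : g.map j2.hom ≫ g.map j2.inv = 𝟙 _ := (g.toFunctor.mapIso j2).hom_inv_id
      show _ = 𝟙 _ ≫ g.toFunctor.map _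
      simp only [Category.comp_id, Category.id_comp] at wj
      rw [g.toFunctor.map_comp, Category.id_comp, show g.toFunctor.map j1.hom = i.hom ≫ g.map j2.hom from wj, Category.assoc, h2]
      simp
    · apply ObjectProperty.hom_ext
      apply CategoricalPullback.hom_ext
      · show f.map (𝟙 x) ≫ j1.hom = 𝟙 _ ≫ j1.hom
        simp
      · show (j1.hom ≫ j2.inv) ≫ j2.hom = 𝟙 _ ≫ j1.hom
        simp
    · exact IsHomLift.of_fac' _ _ _ rfl rfl (by simp; exact X.p.map_id x)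

theorem rep1_cancel (hgf : FibCat.IsRepresentable1 (BasedFunctor.comp f g))
    (hΔ : FibCat.IsRepresentable1 (FibCat.diag g)) : FibCat.IsRepresentable1 f := by
  have hΓ : FibCat.IsRepresentable1 (graph f g) :=
    (rep1_congr (f := FibCat.fpFst (gh f g) (FibCat.diag g)) (f' := graph f g) (a := graphBC f g)
      (b := BasedFunctor.id _) (graphBC_equiv f g) (H9Fib.isEquivOver_id _) (Iso.refl _)).1 (rep1_fpFst _ hΔ)
  exact rep1_comp hΓ (rep1_fpSnd g hgf)

end Groth.Agent.LFibRep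

end
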