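import Groth.Agent.Lib.LFibCat2
import Groth.Agent.Lib.H9FibEquiv

set_option autoImplicit false
set_option linter.style.haveILetI false
set_option backward.isDefEq.respectTransparency false
set_option backward.isDefEq.respectTransparency.types false

universe v u v₂ u₂

open CategoryTheory CategoryTheory.Functor CategoryTheory.Limits

noncomputable section

namespace Groth.Agent.LFibSetoid

variable {C : Type u} [Category.{v} C]

theorem isFibGrpd_self : FibCat.IsFibGrpd (FibCat.selfOver C).p where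
  exists_lift {x V} f := ⟨V, f, IsHomLift.of_fac' _ _ _ rfl rfl (by simp; rfl)⟩
  isStronglyCartesian {y x} φ :=
    haveI : (FibCat.selfOver C).p.IsHomLift ((FibCat.selfOver C).p.map φ) φ := .map φ
    { universal_property' := fun {z} g ψ hψ => by
        haveI := hψ
        haveI : (𝟭 C).IsHomLift (g ≫ φ) ψ := hψ
        have e : ψ = g ≫ φ := (IsHomLift.eq_of_isHomLift (𝟭 C) (g ≫ φ) ψ).symm
        exact ⟨g, ⟨CategoryTheory.IsHomLift.map (𝟭 C) g, e.symm⟩, fun χ ⟨hχ, _⟩ => haveI : (𝟭 C).IsHomLift g χ := hχ; (IsHomLift.eq_of_isHomLift (𝟭 C) g χ).symm⟩ }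

theorem over_ext {U : C} {o V : Over U} (hl : o.left = V.left) (hh : o.hom = eqToHom hl ≫ V.hom) : o = V := by
  obtain ⟨l, ⟨⟨⟩⟩, h⟩ := o
  obtain ⟨l', ⟨⟨⟩⟩, h'⟩ := V
  cases hl
  simp at hh
  subst hh
  rfl

theorem fibGrpd_over {X : BasedCategory.{v₂, u₂} C} (hX : FibCat.IsFibGrpd X.p) {U : C}
    (q : X ⥤ᵇ FibCat.overCat U) : FibCat.IsFibGrpd q.toFunctor where
  exists_lift {x V} f := by
    obtain ⟨y, φ, hφ⟩ := hX.exists_lift (x := x) (f.left ≫ eqToHom (q.w_obj x))
    haveI := hφ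
    have hy : X.p.obj y = V.left := IsHomLift.domain_eq X.p (f.left ≫ eqToHom (q.w_obj x)) φ
    have hl : (q.obj y : Over U).left = V.left := (q.w_obj y).trans hy
    have hm : (q.map φ).left = eqToHom hl ≫ f.left := by
      have h1 : (q.map φ).left = eqToHom (q.w_obj y) ≫ X.p.map φ ≫ eqToHom (q.w_obj x).symm := Functor.congr_hom q.w φ
      rw [h1, IsHomLift.fac' X.p (f.left ≫ eqToHom (q.w_obj x)) φ]
      simp
    have hh : (q.obj y : Over U).hom = eqToHom hl ≫ V.hom := by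
      rw [← Over.w (q.map φ), hm, Category.assoc, Over.w f]
    have hV : q.obj y = V := over_ext hl hh
    subst hV
    refine ⟨y, φ, IsHomLift.of_fac' _ _ _ rfl rfl ?_⟩
    apply Over.OverMorphism.ext
    simp [hm]
  isStronglyCartesian {y x} φ :=
    haveI : q.toFunctor.IsHomLift (q.map φ) φ := .map φ
    { universal_property' := fun {z} g ψ hψ => by
        haveI := hψ
        haveI := hX.isStronglyCartesian φ
        have e : q.map ψ = g ≫ q.map φ := (IsHomLift.eq_of_isHomLift q.toFunctor (g ≫ q.map φ) ψ).symm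
        let g' : X.p.obj z ⟶ X.p.obj y := eqToHom (q.w_obj z).symm ≫ g.left ≫ eqToHom (q.w_obj y)
        have h2 : ∀ {a b : X.obj} (k : a ⟶ b), X.p.map k = eqToHom (q.w_obj a).symm ≫ (q.map k).left ≫ eqToHom (q.w_obj b) := fun {a b} k => by
          have h1 : (q.map k).left = eqToHom (q.w_obj a) ≫ X.p.map k ≫ eqToHom (q.w_obj b).symm := Functor.congr_hom q.w k
          rw [h1]; simp
        haveI : X.p.IsHomLift (g' ≫ X.p.map φ) ψ := by
          refine IsHomLift.of_fac' _ _ _ rfl rfl ?_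
          rw [h2 ψ, h2 φ, e, show (g ≫ q.map φ).left = g.left ≫ (q.map φ).left from rfl]; simp [g']
        obtain ⟨χ, ⟨h1, hc⟩, hu⟩ := Functor.IsStronglyCartesian.universal_property X.p (X.p.map φ) φ g' _ rfl ψ
        haveI := h1
        refine ⟨χ, ⟨IsHomLift.of_fac' _ _ _ rfl rfl ?_, hc⟩, ?_⟩
        · have := IsHomLift.eq_of_isHomLift X.p g' χ
          rw [h2 χ] at this
          apply Over.OverMorphism.ext
          simp only [g', cancel_epi, cancel_mono] at this
          simp [this]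
        · rintro k ⟨hk, ek⟩
          haveI := hk
          refine hu k ⟨IsHomLift.of_fac' _ _ _ rfl rfl ?_, ek⟩
          rw [h2 k, ← IsHomLift.eq_of_isHomLift q.toFunctor g k]; simp [g'] }

theorem setoid_pair_diag {S : BasedCategory.{v, max u v} C} (hS : FibCat.IsFibGrpd S.p) (U : C)
    (H : FibCat.overCat U ⥤ᵇ FibCat.fp (FibCat.toSelf S) (FibCat.toSelf S)) :
    FibCat.IsFibSetoid (FibCat.fpFst H (FibCat.diag (FibCat.toSelf S))).toFunctor := by
  haveI := hS
  haveI := isFibGrpd_self (C := C)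
  haveI : FibCat.IsFibGrpd (FibCat.fp (FibCat.toSelf S) (FibCat.toSelf S)).p := H9Fib.isFibGrpd_fp _ _
  haveI : FibCat.IsFibGrpd (FibCat.overCat U).p := (LFib.isFibSet_overForget U).1
  refine ⟨fibGrpd_over (H9Fib.isFibGrpd_fp H (FibCat.diag (FibCat.toSelf S))) _, fun V a b => ⟨fun m m' => ?_⟩⟩
  haveI : (FibCat.fpFst H (FibCat.diag (FibCat.toSelf S))).toFunctor.IsHomLift (𝟙 V) m.1 := m.2
  haveI : (FibCat.fpFst H (FibCat.diag (FibCat.toSelf S))).toFunctor.IsHomLift (𝟙 V) m'.1 := m'.2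
  have h1 : m.1.hom.fst = m'.1.hom.fst :=
    (IsHomLift.fac' (FibCat.fpFst H (FibCat.diag (FibCat.toSelf S))).toFunctor (𝟙 V) m.1).trans
      (IsHomLift.fac' (FibCat.fpFst H (FibCat.diag (FibCat.toSelf S))).toFunctor (𝟙 V) m'.1).symm
  apply Subtype.ext
  refine ObjectProperty.hom_ext _ (CategoricalPullback.hom_ext h1 ?_)
  have w1 : (H.map m.1.hom.fst).hom.fst ≫ b.1.obj.iso.hom.hom.fst = a.1.obj.iso.hom.hom.fst ≫ m.1.hom.snd := congrArg (fun r => r.hom.fst) m.1.hom.w
  have w2 : (H.map m'.1.hom.fst).hom.fst ≫ b.1.obj.iso.hom.hom.fst = a.1.obj.iso.hom.hom.fst ≫ m'.1.hom.snd := congrArg (fun r => r.hom.fst) m'.1.hom.w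
  rw [h1, w2] at w1
  have e1' : a.1.obj.iso.inv.hom.fst ≫ a.1.obj.iso.hom.hom.fst = 𝟙 _ := congrArg (fun r => r.hom.fst) a.1.obj.iso.inv_hom_id
  have := congrArg (fun t => a.1.obj.iso.inv.hom.fst ≫ t) w1.symm
  simpa only [reassoc_of% e1'] using this

end Groth.Agent.LFibSetoid

end
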