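import Mathlib

set_option autoImplicit false
universe u
open AlgebraicGeometry CategoryTheory

namespace Groth.Agent.LFibreDim

theorem dim_stalk_eq {X : Scheme.{u}} {U : X.Opens} (hU : IsAffineOpen U) (x : X) (hx : x ∈ U) :
    ringKrullDim (X.presheaf.stalk x) = (hU.primeIdealOf ⟨x, hx⟩).asIdeal.height := by
  letI := TopCat.Presheaf.algebra_section_stalk X.presheaf (⟨x, hx⟩ : U)
  haveI := hU.isLocalization_stalk ⟨x, hx⟩
  exact IsLocalization.AtPrime.ringKrullDim_eq_height (hU.primeIdealOf ⟨x, hx⟩).asIdeal _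

theorem exists_le {X Y : Scheme.{u}} (f : X ⟶ Y) [IsLocallyNoetherian X] [IsLocallyNoetherian Y] (x₀ : X) :
    ∃ x : X, f x = f x₀ ∧ ringKrullDim (X.presheaf.stalk x) ≤ ringKrullDim (Y.presheaf.stalk (f x₀)) := by
  obtain ⟨_, ⟨V, hV, rfl⟩, hyV, -⟩ :=
    Y.isBasis_affineOpens.exists_subset_of_mem_open (Set.mem_univ (f x₀)) isOpen_univ
  obtain ⟨_, ⟨U, hU, rfl⟩, hxU, hUV⟩ :=
    X.isBasis_affineOpens.exists_subset_of_mem_open (show x₀ ∈ f ⁻¹ᵁ V from hyV) (f ⁻¹ᵁ V).2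
  have hUV' : U ≤ f ⁻¹ᵁ V := hUV
  haveI := IsLocallyNoetherian.component_noetherian ⟨U, hU⟩
  haveI := IsLocallyNoetherian.component_noetherian ⟨V, hV⟩
  algebraize [(f.appLE V U hUV').hom]
  let p := (IsAffineOpen.primeIdealOf hV ⟨f x₀, hyV⟩).asIdeal
  let q := (IsAffineOpen.primeIdealOf hU ⟨x₀, hxU⟩).asIdeal
  have hqp : q.comap (algebraMap Γ(Y, V) Γ(X, U)) = p :=
    congr(PrimeSpectrum.asIdeal $(IsAffineOpen.comap_primeIdealOf_appLE V hV U hU hUV' hxU))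
  have hle : p.map (algebraMap Γ(Y, V) Γ(X, U)) ≤ q := Ideal.map_le_iff_le_comap.2 hqp.ge
  obtain ⟨P, hP, hPq⟩ := Ideal.exists_minimalPrimes_le hle
  haveI := hP.1.1
  have hPp : P.comap (algebraMap Γ(Y, V) Γ(X, U)) = p :=
    le_antisymm (hqp ▸ Ideal.comap_mono hPq) (Ideal.map_le_iff_le_comap.1 hP.1.2)
  haveI : P.LiesOver p := ⟨hPp.symm⟩
  let Pp : Spec Γ(X, U) := ⟨P, inferInstance⟩
  let x := IsAffineOpen.fromSpec hU Pp
  have hxU' : x ∈ U := (IsAffineOpen.range_fromSpec hU).le ⟨Pp, rfl⟩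
  have hpr : (IsAffineOpen.primeIdealOf hU ⟨x, hxU'⟩) = Pp :=
    (IsAffineOpen.fromSpec hU).isOpenEmbedding.injective (IsAffineOpen.fromSpec_primeIdealOf hU ⟨x, hxU'⟩)
  have hfx : f x = f x₀ := by
    have h1 := congr($(IsAffineOpen.SpecMap_appLE_fromSpec f hV hU hUV').base Pp)
    simp only [Scheme.Hom.comp_base, TopCat.comp_app] at h1
    refine (h1.symm.trans ?_).trans (IsAffineOpen.fromSpec_primeIdealOf hV ⟨f x₀, hyV⟩)
    congr 1
    exact PrimeSpectrum.ext hPp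
  refine ⟨x, hfx, ?_⟩
  rw [dim_stalk_eq hU x hxU', dim_stalk_eq hV (f x₀) hyV, hpr]
  have h0 : (P.map (Ideal.Quotient.mk (p.map (algebraMap Γ(Y, V) Γ(X, U))))).height = 0 := by
    have hmem : P.map (Ideal.Quotient.mk (p.map (algebraMap Γ(Y, V) Γ(X, U)))) ∈
        (⊥ : Ideal (Γ(X, U) ⧸ p.map (algebraMap Γ(Y, V) Γ(X, U)))).minimalPrimes := by
      rw [← Ideal.map_bot (f := Ideal.Quotient.mk (p.map (algebraMap Γ(Y, V) Γ(X, U)))),
        Ideal.minimalPrimes_map_of_surjective Ideal.Quotient.mk_surjective, Ideal.mk_ker, bot_sup_eq]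
      exact ⟨P, hP, rfl⟩
    haveI := hmem.1.1
    exact Ideal.height_eq_zero_iff.2 hmem
  have := Ideal.height_le_height_add_of_liesOver p P
  rw [h0, add_zero] at this
  exact_mod_cast this

theorem le_of_flat {X Y : Scheme.{u}} (f : X ⟶ Y) [IsLocallyNoetherian X] [IsLocallyNoetherian Y] [Flat f] (x : X) :
    ringKrullDim (Y.presheaf.stalk (f x)) ≤ ringKrullDim (X.presheaf.stalk x) := by
  algebraize [(f.stalkMap x).hom]
  haveI : IsLocalHom (algebraMap (Y.presheaf.stalk (f x)) (X.presheaf.stalk x)) :=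
    inferInstanceAs <| IsLocalHom (f.stalkMap x).hom
  haveI : Module.Flat (Y.presheaf.stalk (f x)) (X.presheaf.stalk x) := by
    rw [← RingHom.flat_algebraMap_iff, RingHom.algebraMap_toAlgebra]
    exact Flat.stalkMap f x
  haveI : (IsLocalRing.maximalIdeal (X.presheaf.stalk x)).LiesOver (IsLocalRing.maximalIdeal (Y.presheaf.stalk (f x))) :=
    ⟨(((IsLocalRing.local_hom_TFAE (algebraMap (Y.presheaf.stalk (f x)) (X.presheaf.stalk x))).out 0 4 rfl rfl).mp inferInstance).symm⟩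
  rw [← IsLocalRing.maximalIdeal_height_eq_ringKrullDim, ← IsLocalRing.maximalIdeal_height_eq_ringKrullDim,
    Ideal.height_eq_height_add_of_liesOver_of_hasGoingDown (IsLocalRing.maximalIdeal (Y.presheaf.stalk (f x))) (IsLocalRing.maximalIdeal (X.presheaf.stalk x))]
  exact_mod_cast le_self_add

end Groth.Agent.LFibreDim
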