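import Groth.Agent.Lib.LSectSuppAdj
import Groth.Agent.Lib.LDerived
import Groth.Agent.Lib.H5TopCoh

/-! Flasque sheaves have no local cohomology. -/

universe u

open CategoryTheory Limits TopologicalSpace Opposite Abelian

namespace Groth.Agent.LFlasqueHZ

variable {X : TopCat.{u}}

lemma surj_res (F : CohTop.Ab X) (hF : TopCat.Sheaf.IsFlasque F) {W V : Opens X} (h : W ≤ V) :
    Function.Surjective (F.obj.map (homOfLE h).op) :=
  (AddCommGrpCat.epi_iff_surjective _).1 (hF.epi _)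

theorem subsingleton_HZ (F : CohTop.Ab X) (hF : TopCat.Sheaf.IsFlasque F) (W V : Opens X) (h : W ≤ V) (i : ℕ)
    (hi : 0 < i) : Subsingleton (LocCohZ.HZ F i h) := by
  refine subsingleton_of_forall_eq 0 fun (x : Ext (LocCohZ.zq h) F i) => ?_
  obtain ⟨m, rfl⟩ : ∃ m, i = 1 + m := ⟨i - 1, by omega⟩
  have hS := LocCohZ.zqSeq_shortExact (X := X) h
  have hV : Subsingleton (Ext (LocCohZ.zqSeq h).X₂ F (1 + m)) := by
    rw [Nat.add_comm]
    exact H5TopCoh.flasque_acyclic F hF V m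
  obtain ⟨y, hy⟩ := Ext.contravariant_sequence_exact₃ hS F x (@Subsingleton.elim _ hV _ _) (rfl : 1 + m = 1 + m)
  obtain ⟨y', hy'⟩ : ∃ y' : Ext (LocCohZ.zqSeq h).X₂ F m, (Ext.mk₀ (LocCohZ.zqSeq h).f).comp y' (zero_add m) = y := by
    rcases m with _ | m
    · obtain ⟨φ, rfl⟩ := (Ext.mk₀_bijective _ _).2 y
      obtain ⟨s, hs⟩ := surj_res F hF h (H5SiteCoh.eqv W F φ)
      refine ⟨Ext.mk₀ ((H5SiteCoh.eqv (J := Opens.grothendieckTopology X) V F).symm s), ?_⟩
      rw [Ext.mk₀_comp_mk₀]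
      congr 1
      apply (H5SiteCoh.eqv W F).injective
      exact (H5SiteCoh.eqv_fMap (homOfLE h) _).trans (by rw [Equiv.apply_symm_apply]; exact hs)
    · have : Subsingleton (Ext (LocCohZ.zqSeq h).X₁ F (m + 1)) := H5TopCoh.flasque_acyclic F hF W m
      exact ⟨0, Subsingleton.elim _ _⟩
  rw [← hy, ← hy', ShortComplex.ShortExact.extClass_comp_assoc]
  rfl

lemma preservesFiniteLimits_sectSuppF (U : Opens X) : PreservesFiniteLimits (LocCohZ.sectSuppF U) := by
  let i := CohCx.inclCompl U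
  obtain ⟨a⟩ := LSectSuppAdj.main U
  let S := LocCohZ.sectSuppF U
  have : (S ⋙ CohTop.pull i).IsRightAdjoint := a.isRightAdjoint
  have : (CohTop.push i).IsRightAdjoint := (LTopDetect.adj i).isRightAdjoint
  let e : S ≅ (S ⋙ CohTop.pull i) ⋙ CohTop.push i :=
    NatIso.ofComponents (fun F => @asIso _ _ _ _ ((LTopDetect.adj i).unit.app (S.obj F)) (LTopDetect.isIso_unit_sectSupp U F))
      (fun φ => (LTopDetect.adj i).unit.naturality (S.map φ))
  have : PreservesFiniteLimits ((S ⋙ CohTop.pull i) ⋙ CohTop.push i) := comp_preservesFiniteLimits _ _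
  exact preservesFiniteLimits_of_natIso e.symm

/-- sections of `sectSupp` -/
lemma unit_eq_zero (U : Opens X) (F : CohTop.Ab X) (V : Opens X) (s : F.obj.obj (op V))
    (h : F.obj.map (homOfLE (inf_le_left : V ⊓ U ≤ V)).op s = 0) :
    ((LTopDetect.adj (CohCx.incl U)).unit.app F).hom.app (op V) s = 0 := by
  let j := CohCx.incl U
  let G := (CohTop.pull j).obj F
  have he : (Opens.map j).obj V = (Opens.map j).obj (V ⊓ U) := Opens.ext (by
    ext x
    exact ⟨fun hx => ⟨hx, x.2⟩, fun hx => hx.1⟩)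
  have : IsIso (((CohTop.push j).obj G).obj.map (homOfLE (inf_le_left : V ⊓ U ≤ V)).op) := by
    change IsIso (G.obj.map _)
    exact ⟨G.obj.map (homOfLE he.le).op, by rw [← Functor.map_comp]; exact G.obj.map_id _,
      by rw [← Functor.map_comp]; exact G.obj.map_id _⟩
  apply (AddCommGrpCat.mono_iff_injective (((CohTop.push j).obj G).obj.map (homOfLE (inf_le_left : V ⊓ U ≤ V)).op)).1 inferInstance
  exact ((NatTrans.naturality_apply ((LTopDetect.adj j).unit.app F).hom (homOfLE (inf_le_left : V ⊓ U ≤ V)).op s).symm.trans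
    ((congrArg (((LTopDetect.adj j).unit.app F).hom.app _) h).trans (map_zero _))).trans (map_zero _).symm

lemma epi_map_sectSupp (U : Opens X) {T : ShortComplex (CohTop.Ab X)} (hT : T.ShortExact)
    (hF : TopCat.Sheaf.IsFlasque T.X₁) : Epi ((LocCohZ.sectSuppF U).map T.g) := by
  suffices h : ∀ V, Epi (((LocCohZ.sectSuppF U).map T.g).hom.app V) by
    have : Epi ((LocCohZ.sectSuppF U).map T.g).hom := NatTrans.epi_of_epi_app _
    exact (sheafToPresheaf _ _).epi_of_epi_map this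
  rintro ⟨V⟩
  rw [AddCommGrpCat.epi_iff_surjective]
  intro q
  let j := CohCx.incl U
  let ιI : CohCx.sectSupp U T.X₂ ⟶ T.X₂ := kernel.ι _
  let ιQ : CohCx.sectSupp U T.X₃ ⟶ T.X₃ := kernel.ι _
  have hm : ∀ (F : CohTop.Ab X) (W : Opens X), Function.Injective ((kernel.ι ((LTopDetect.adj j).unit.app F)).hom.app (op W)) :=
    fun F W => (AddCommGrpCat.mono_iff_injective _).1 (by
      have : Mono ((sheafToPresheaf _ _).map (kernel.ι ((LTopDetect.adj j).unit.app F))) := inferInstance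
      exact (inferInstance : Mono (((sheafToPresheaf _ _).map (kernel.ι ((LTopDetect.adj j).unit.app F))).app (op W))))
  obtain ⟨s, hs⟩ := H5TopCoh.surjective_of_flasque hT hF V (ιQ.hom.app (op V) q)
  have hq : T.X₃.obj.map (homOfLE (inf_le_left : V ⊓ U ≤ V)).op (ιQ.hom.app (op V) q) = 0 :=
    (NatTrans.naturality_apply ιQ.hom (homOfLE (inf_le_left : V ⊓ U ≤ V)).op q).symm.trans
      ((congrArg (ιQ.hom.app _) (LTopDetect.sectSupp_eq_zero U T.X₃ _ inf_le_right _)).trans (map_zero _))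
  have hs0 : T.g.hom.app _ (T.X₂.obj.map (homOfLE (inf_le_left : V ⊓ U ≤ V)).op s) = 0 :=
    (NatTrans.naturality_apply T.g.hom _ s).trans ((congrArg _ hs).trans hq)
  obtain ⟨t₀, ht₀⟩ := TopCat.Sheaf.sections_exact_of_left_exact hT.exact hT.mono_f _ hs0
  obtain ⟨t, ht⟩ := surj_res T.X₁ hF (inf_le_left : V ⊓ U ≤ V) t₀
  let s' : T.X₂.obj.obj (op V) := s - T.f.hom.app (op V) t
  have hs' : T.X₂.obj.map (homOfLE (inf_le_left : V ⊓ U ≤ V)).op s' = 0 := by
    rw [map_sub, sub_eq_zero, ← ht₀, ← ht]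
    exact NatTrans.naturality_apply T.f.hom _ t
  have hk : ((LTopDetect.adj j).unit.app T.X₂).hom.app (op V) s' = 0 := unit_eq_zero U T.X₂ V s' hs'
  obtain ⟨z, hz⟩ := TopCat.Sheaf.sections_exact_of_left_exact
    (ShortComplex.exact_of_f_is_kernel (ShortComplex.mk _ _ (kernel.condition ((LTopDetect.adj j).unit.app T.X₂)))
      (kernelIsKernel _)) (inferInstance : Mono (kernel.ι ((LTopDetect.adj j).unit.app T.X₂))) _ hk
  refine ⟨z, hm T.X₃ V ?_⟩
  have hn : (LocCohZ.sectSuppF U).map T.g ≫ ιQ = ιI ≫ T.g := kernel.lift_ι _ _ _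
  refine (congrArg (fun f => f.hom.app (op V) z) hn).trans ?_
  change T.g.hom.app (op V) (ιI.hom.app (op V) z) = ιQ.hom.app (op V) q
  rw [show ιI.hom.app (op V) z = s' from hz, map_sub, hs, sub_eq_self]
  exact (congrArg (fun f => f.hom.app (op V) t) T.zero).trans rfl

theorem isZero_HZsh (U : Opens X) (n : ℕ) : ∀ F : CohTop.Ab X, TopCat.Sheaf.IsFlasque F →
    IsZero ((LocCohZ.HZsh U (n + 1)).obj F) := by
  have := preservesFiniteLimits_sectSuppF U
  induction n with
  | zero =>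
    exact fun F hF => LCech.isZero_rightDerived_one (T := H5SiteCoh.injSeq F)
      (H5SiteCoh.injSeq_shortExact F) (LocCohZ.sectSuppF U) (epi_map_sectSupp U (H5SiteCoh.injSeq_shortExact F) hF)
  | succ n ih =>
    exact fun F hF => LCech.isZero_rightDerived_succ_succ (T := H5SiteCoh.injSeq F)
      (H5SiteCoh.injSeq_shortExact F) (LocCohZ.sectSuppF U) n
      (ih _ (H5TopCoh.flasque_quotient (H5SiteCoh.injSeq_shortExact F) hF inferInstance))

end Groth.Agent.LFlasqueHZ
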