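import Mathlib

set_option autoImplicit false
universe u v w

namespace Groth.Agent.LFlatBasis

theorem flat_of_bijective {R : Type u} {S : Type v} [CommRing R] [CommRing S] (f : R →+* S)
    {E : Type w} (m : E → S)
    (h : Function.Bijective fun c : E →₀ R => c.sum fun e r => f r * m e) : f.Flat := by
  algebraize [f]
  let T : (E →₀ R) →ₗ[R] S := Finsupp.linearCombination R m
  have hT : ⇑T = fun c : E →₀ R => c.sum fun e r => f r * m e := funext fun c => by
    simp only [T, Finsupp.linearCombination_apply, Algebra.smul_def]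
    rfl
  have hbij : Function.Bijective T := hT ▸ h
  exact Module.Flat.of_linearEquiv (LinearEquiv.ofBijective T hbij).symm

theorem exists_trivial {R : Type u} [CommRing R] (f : R →+* R) (hf : f.Flat) {l : ℕ} (c w : Fin l → R)
    (h : ∑ i, f (c i) * w i = 0) :
    ∃ (k : ℕ) (a : Fin l → Fin k → R) (v : Fin k → R),
      (∀ i, w i = ∑ j, f (a i j) * v j) ∧ ∀ j, ∑ i, c i * a i j = 0 :=
  @Module.Flat.isTrivialRelation_of_sum_smul_eq_zero R R _ _ f.toAlgebra.toModule hf (Fin l) _ c w h

end Groth.Agent.LFlatBasis
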