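import Mathlib

/-! Flatness over semilocal rings with nilpotent radical is detected by jointly injective base changes. -/

set_option autoImplicit false
universe u
open scoped TensorProduct

namespace Groth.Agent.LFlatSemiLocal

theorem flat_of_family {A : Type u} [CommRing A]
    [Finite (MaximalSpectrum A)] (hnil : IsNilpotent (Ring.jacobson A))
    {ι : Type u} (B : ι → Type u) [∀ i, CommRing (B i)] [∀ i, Algebra A (B i)]
    (hB : ∀ a : A, (∀ i, algebraMap A (B i) a = 0) → a = 0)
    (M : Type u) [AddCommGroup M] [Module A M] (hM : ∀ i, Module.Flat (B i) (B i ⊗[A] M)) :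
    Module.Flat A M := by
  classical
  obtain ⟨N, hN⟩ := hnil
  have hJ : ∀ (x : A), (∀ m : MaximalSpectrum A, x ∈ m.asIdeal) → x ∈ Ring.jacobson A := fun x hx => by
    rw [Ring.jacobson_eq_sInf_isMaximal, Ideal.mem_sInf]
    exact fun {I} hI => hx ⟨I, hI⟩
  have hnilker : ∀ x ∈ RingHom.ker (Ideal.Quotient.mk (Ring.jacobson A)), IsNilpotent x := fun x hx => by
    rw [Ideal.mk_ker] at hx
    exact ⟨N, by simpa [hN] using Ideal.pow_mem_pow hx N⟩
  have he : ∀ m : MaximalSpectrum A, ∃ e : A, IsIdempotentElem e ∧ e - 1 ∈ m.asIdeal ∧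
      ∀ m' : MaximalSpectrum A, m' ≠ m → e ∈ m'.asIdeal := by
    intro m
    obtain ⟨a, ha⟩ := Ideal.exists_forall_sub_mem_ideal (I := fun m : MaximalSpectrum A => m.asIdeal)
      (fun p q hpq => Ideal.isCoprime_of_isMaximal fun h => hpq (MaximalSpectrum.ext h))
      (fun p => if p = m then 1 else 0)
    have hidem : IsIdempotentElem (Ideal.Quotient.mk (Ring.jacobson A) a) := by
      show _ = _
      rw [← map_mul, Ideal.Quotient.eq]
      refine hJ _ fun p => ?_
      have hp := ha p
      split_ifs at hp with h
      · rw [show a * a - a = a * (a - 1) by ring]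
        exact Ideal.mul_mem_left _ _ hp
      · rw [sub_zero] at hp
        exact sub_mem (Ideal.mul_mem_left _ _ hp) hp
    obtain ⟨e, he, hea⟩ := exists_isIdempotentElem_eq_of_ker_isNilpotent _ hnilker _ ⟨a, rfl⟩ hidem
    have hd : ∀ p : MaximalSpectrum A, e - a ∈ p.asIdeal := fun p => by
      have := Ideal.Quotient.eq.mp hea
      rw [Ring.jacobson_eq_sInf_isMaximal, Ideal.mem_sInf] at this
      exact this p.isMaximal
    refine ⟨e, he, ?_, fun p hp => ?_⟩
    · have := add_mem (hd m) (ha m)
      simpa using this
    · have := add_mem (hd p) (ha p)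
      simpa [hp] using this
  choose e hidem he1 he0 using he
  -- lifted bases of the fibres
  have hfib : ∀ m : MaximalSpectrum A, ∃ (κ : Type u) (v : κ → M),
      Submodule.span A (Set.range v) ⊔ m.asIdeal • ⊤ = ⊤ ∧
      ∀ c : κ →₀ A, Finsupp.linearCombination A v c ∈ m.asIdeal • (⊤ : Submodule A M) → ∀ l, c l ∈ m.asIdeal := by
    intro m
    letI := Ideal.Quotient.field m.asIdeal
    let b := Module.Basis.ofVectorSpace (A ⧸ m.asIdeal) (M ⧸ m.asIdeal • (⊤ : Submodule A M))
    choose v hv using fun l => Submodule.Quotient.mk_surjective _ (b l)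
    have key : ∀ c : _ →₀ A, Submodule.Quotient.mk (p := m.asIdeal • (⊤ : Submodule A M)) (Finsupp.linearCombination A v c) =
        b.repr.symm (c.mapRange (Ideal.Quotient.mk m.asIdeal) (map_zero _)) := by
      intro c
      induction c using Finsupp.induction_linear with
      | zero => simp
      | add f g hf hg => rw [map_add, Submodule.Quotient.mk_add, hf, hg, ← map_add,
          Finsupp.mapRange_add (map_add _)]
      | single l r => simp [hv]
    refine ⟨_, v, ?_, fun c hc l => ?_⟩
    · refine Submodule.eq_top_iff'.mpr fun x => ?_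
      obtain ⟨c', hc'⟩ := Finsupp.mapRange_surjective (Ideal.Quotient.mk m.asIdeal) (map_zero _)
        Ideal.Quotient.mk_surjective (b.repr (Submodule.Quotient.mk x))
      have hx : x - Finsupp.linearCombination A v c' ∈ m.asIdeal • (⊤ : Submodule A M) := by
        rw [← Submodule.Quotient.mk_eq_zero, Submodule.Quotient.mk_sub, key, hc', LinearEquiv.symm_apply_apply, sub_self]
      have := Submodule.add_mem_sup (S := Submodule.span A (Set.range v))
        (by rw [← Finsupp.range_linearCombination]; exact ⟨c', rfl⟩) hx
      simpa using this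
    · rw [← Submodule.Quotient.mk_eq_zero, key] at hc
      have := congrArg b.repr hc
      rw [LinearEquiv.apply_symm_apply, map_zero] at this
      simpa [Ideal.Quotient.eq_zero_iff_mem] using DFunLike.congr_fun this l
  choose κ v hspan hindep using hfib
  have hem : ∀ (m : MaximalSpectrum A) (x : A), x ∈ m.asIdeal → e m * x ∈ Ring.jacobson A := fun m x hx =>
    hJ _ fun p => by
      rcases eq_or_ne p m with rfl | hp
      · exact Ideal.mul_mem_left _ _ hx
      · exact Ideal.mul_mem_right _ _ (he0 m p hp)
  have hgen : ∀ (m : MaximalSpectrum A) (x : M), e m • x ∈ Submodule.span A (Set.range (v m)) := by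
    intro m
    let S := Submodule.span A (Set.range (v m))
    have h1 : ∀ x : M, e m • x ∈ S ⊔ Ring.jacobson A • (⊤ : Submodule A M).map (LinearMap.lsmul A M (e m)) := by
      intro x
      have hx : x ∈ S ⊔ m.asIdeal • (⊤ : Submodule A M) := by rw [hspan m]; trivial
      obtain ⟨s, hs, y, hy, rfl⟩ := Submodule.mem_sup.mp hx
      rw [smul_add]
      refine Submodule.add_mem_sup (Submodule.smul_mem _ _ hs) ?_
      refine Submodule.smul_induction_on hy (fun r hr z _ => ?_) fun a b ha hb => by rw [smul_add]; exact add_mem ha hb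
      rw [smul_smul, show e m * r = e m * r * e m by rw [mul_right_comm, (hidem m).eq], ← smul_smul]
      exact Submodule.smul_mem_smul (hem m r hr) ⟨z, trivial, rfl⟩
    have h2 : ∀ k, ∀ x : M, e m • x ∈ S ⊔ Ring.jacobson A ^ k • (⊤ : Submodule A M).map (LinearMap.lsmul A M (e m)) := by
      intro k
      induction k with
      | zero => intro x; exact Submodule.mem_sup_right (by simp)
      | succ k ih =>
        intro x
        have hle : Ring.jacobson A • (⊤ : Submodule A M).map (LinearMap.lsmul A M (e m)) ≤
            S ⊔ Ring.jacobson A ^ (k+1) • (⊤ : Submodule A M).map (LinearMap.lsmul A M (e m)) := by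
          refine Submodule.smul_le.mpr fun r hr y hy => ?_
          obtain ⟨z, -, rfl⟩ := hy
          obtain ⟨s, hs, w, hw, hsw⟩ := Submodule.mem_sup.mp (ih z)
          show r • (e m • z) ∈ _
          rw [← hsw, smul_add]
          refine Submodule.add_mem_sup (Submodule.smul_mem _ _ hs) ?_
          rw [pow_succ', Submodule.mul_smul]
          exact Submodule.smul_mem_smul hr hw
        exact (sup_le le_sup_left hle) (h1 x)
    intro x
    simpa [hN] using h2 N x
  have huniq : ∀ (m : MaximalSpectrum A) (c : κ m →₀ A),
      Finsupp.linearCombination A (v m) c = 0 → e m • c = 0 := by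
    intro m c hc
    refine Finsupp.ext fun l => hB _ fun i => ?_
    rw [Finsupp.smul_apply, smul_eq_mul, map_mul]
    let f := algebraMap A (B i)
    let w : κ m → B i ⊗[A] M := fun l => 1 ⊗ₜ v m l
    let b : c.support → B i := fun j => f (e m) * f (c j)
    have hrel : ∑ j, b j • w j = 0 := by
      simp only [b, w, ← map_mul, f, algebraMap_smul, ← TensorProduct.tmul_smul, ← TensorProduct.tmul_sum]
      rw [Finset.sum_coe_sort c.support (fun j => (e m * c j) • v m j), show ∑ j ∈ c.support, (e m * c j) • v m j =
        e m • Finsupp.linearCombination A (v m) c by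
          simp [Finsupp.linearCombination_apply, Finsupp.sum, Finset.smul_sum, mul_smul], hc]
      simp
    obtain ⟨k, a, y, hy, ha⟩ := (Module.Flat.isTrivialRelation_of_sum_smul_eq_zero (R := B i) hrel)
    have hyw : ∀ z : B i ⊗[A] M, ∃ g : κ m →₀ B i, f (e m) • z = Finsupp.linearCombination (B i) w g := by
      intro z
      induction z using TensorProduct.induction_on with
      | zero => exact ⟨0, by simp⟩
      | tmul r x =>
        obtain ⟨g, hg⟩ := (Finsupp.mem_span_range_iff_exists_finsupp (R := A)).mp (hgen m x)
        refine ⟨r • g.mapRange f (map_zero f), ?_⟩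
        rw [map_smul, Finsupp.linearCombination_apply, Finsupp.sum_mapRange_index (by simp)]
        simp only [w, f, algebraMap_smul, ← TensorProduct.tmul_smul]
        rw [Finsupp.sum, ← TensorProduct.tmul_sum, TensorProduct.smul_tmul', smul_eq_mul, mul_one]
        exact congrArg (r ⊗ₜ[A] ·) hg.symm
      | add z z' hz hz' =>
        obtain ⟨g, hg⟩ := hz
        obtain ⟨g', hg'⟩ := hz'
        exact ⟨g + g', by rw [smul_add, map_add, hg, hg']⟩
    choose g hg using fun k => hyw (y k)
    let d : c.support → κ m →₀ B i := fun j => f (e m) • Finsupp.single (j : κ m) 1 - ∑ t, a j t • g t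
    have hd : ∀ j l, f (e m) * d j l ∈ (Ring.jacobson A).map f := by
      intro j
      have h0 : Finsupp.linearCombination (B i) w (d j) = 0 := by
        simp only [d, map_sub, map_sum, map_smul, Finsupp.linearCombination_single, one_smul, ← hg]
        rw [show w j = _ from hy j, Finset.smul_sum, ← Finset.sum_sub_distrib]
        exact Finset.sum_eq_zero fun t _ => by rw [smul_comm, sub_self]
      intro l
      let φ : B i ⊗[A] M →ₗ[A] B i ⊗[A] (M ⧸ m.asIdeal • (⊤ : Submodule A M)) :=
        LinearMap.lTensor (B i) (Submodule.mkQ _)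
      letI := Ideal.Quotient.field m.asIdeal
      have hli : LinearIndependent (A ⧸ m.asIdeal) (fun l => Submodule.Quotient.mk (p := m.asIdeal • (⊤ : Submodule A M)) (v m l)) := by
        rw [linearIndependent_iff]
        intro c' hc'
        obtain ⟨c'', rfl⟩ := Finsupp.mapRange_surjective (Ideal.Quotient.mk m.asIdeal) (map_zero _)
          Ideal.Quotient.mk_surjective c'
        have hmem : Finsupp.linearCombination A (v m) c'' ∈ m.asIdeal • (⊤ : Submodule A M) := by
          rw [← Submodule.Quotient.mk_eq_zero, ← hc', ← Submodule.mkQ_apply, Finsupp.linearCombination_apply,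
            Finsupp.linearCombination_apply, map_finsuppSum, Finsupp.sum_mapRange_index (by simp)]
          exact Finsupp.sum_congr fun t _ => by rw [map_smul]; rfl
        exact Finsupp.ext fun t => by simpa [Ideal.Quotient.eq_zero_iff_mem] using hindep m c'' hmem t
      let bb := Module.Basis.mk hli (by
        rintro x -
        obtain ⟨x, rfl⟩ := Submodule.Quotient.mk_surjective _ x
        have hx : x ∈ Submodule.span A (Set.range (v m)) ⊔ m.asIdeal • (⊤ : Submodule A M) := by rw [hspan m]; trivial
        obtain ⟨s, hs, z, hz, rfl⟩ := Submodule.mem_sup.mp hx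
        rw [Submodule.Quotient.mk_add, (Submodule.Quotient.mk_eq_zero _).mpr hz, add_zero]
        refine Submodule.span_induction ?_ ?_ ?_ ?_ hs
        · rintro _ ⟨t, rfl⟩; exact Submodule.subset_span ⟨t, rfl⟩
        · simp
        · intro p q _ _ hp hq; rw [Submodule.Quotient.mk_add]; exact add_mem hp hq
        · intro r p _ hp; exact Submodule.smul_mem _ (Ideal.Quotient.mk m.asIdeal r) hp)
      let coord : M →ₗ[A] A ⧸ m.asIdeal := ((bb.coord l).restrictScalars A) ∘ₗ Submodule.mkQ _
      have hcoord : ∀ t, coord (v m t) = if t = l then 1 else 0 := fun t => by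
        have ht : (Submodule.mkQ (m.asIdeal • (⊤ : Submodule A M))) (v m t) = bb t := by rw [Submodule.mkQ_apply, Module.Basis.mk_apply]
        simp only [coord, LinearMap.comp_apply, LinearMap.restrictScalars_apply, ht, Module.Basis.coord_apply,
          Module.Basis.repr_self, Finsupp.single_apply]
      let Q := B i ⧸ m.asIdeal.map f
      let ev : A ⧸ m.asIdeal →ₗ[A] Q :=
        { toFun := Ideal.quotientMap (m.asIdeal.map f) f Ideal.le_comap_map
          map_add' := map_add _
          map_smul' := fun r x => by
            obtain ⟨x, rfl⟩ := Ideal.Quotient.mk_surjective x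
            simp [Algebra.smul_def, f]; rfl }
      let ψ : B i ⊗[A] M →ₗ[B i] Q := LinearMap.liftBaseChange (B i) (ev ∘ₗ coord)
      have hψ : ∀ t, ψ (w t) = if t = l then 1 else 0 := fun t => by
        simp [ψ, w, hcoord]; split_ifs <;> simp [ev]
      have hz := congrArg ψ h0
      rw [map_zero, Finsupp.linearCombination_apply, map_finsuppSum] at hz
      simp only [map_smul, hψ, smul_ite, smul_zero, Finsupp.sum_ite_eq'] at hz
      have hmem : d j l ∈ m.asIdeal.map f := by
        by_cases hl : l ∈ (d j).support
        · rw [if_pos hl, Algebra.smul_def, mul_one] at hz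
          exact Ideal.Quotient.eq_zero_iff_mem.mp hz
        · rw [Finsupp.notMem_support_iff.mp hl]; exact zero_mem _
      have hle : Ideal.span {f (e m)} * m.asIdeal.map f ≤ (Ring.jacobson A).map f := by
        rw [← Set.image_singleton, ← Ideal.map_span, ← Ideal.map_mul]
        refine Ideal.map_mono (Ideal.mul_le.mpr fun r hr s hs => ?_)
        obtain ⟨r', rfl⟩ := Ideal.mem_span_singleton.mp hr
        rw [mul_assoc, mul_comm r', ← mul_assoc]
        exact Ideal.mul_mem_right _ _ (hem m s hs)
      exact hle (Ideal.mul_mem_mul (Ideal.mem_span_singleton_self _) hmem)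
    let J : Ideal (B i) := Ideal.span (Set.range b)
    have hrep : ∀ j : c.support, b j = ∑ j', b j' * (f (e m) * d j' j) := by
      intro j
      have hee : f (e m) * f (e m) = f (e m) := by rw [← map_mul, (hidem m).eq]
      have h3 : ∑ j', b j' * ∑ t, a j' t * g t j = 0 := by
        simp only [Finset.mul_sum]
        rw [Finset.sum_comm]
        refine Finset.sum_eq_zero fun t _ => ?_
        simp only [← mul_assoc, ← Finset.sum_mul, ha t, zero_mul]
      have h4 : ∀ j', d j' j = (if j' = j then f (e m) else 0) - ∑ t, a j' t * g t j := fun j' => by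
        simp [d, Finsupp.single_apply, Subtype.coe_inj]
      simp only [h4, mul_sub, Finset.sum_sub_distrib, mul_left_comm _ (f (e m)), ← Finset.mul_sum, h3, mul_zero, sub_zero]
      simp [b, mul_comm _ (f (e m)), ← mul_assoc, hee]
    have hJle : J ≤ (Ring.jacobson A).map f * J := by
      refine Ideal.span_le.mpr ?_
      rintro _ ⟨j, rfl⟩
      rw [hrep j, SetLike.mem_coe]
      refine sum_mem fun j' _ => ?_
      rw [mul_comm (b j')]
      exact Ideal.mul_mem_mul (hd _ _) (Ideal.subset_span ⟨j', rfl⟩)
    have hJ0 : ∀ k, J ≤ (Ring.jacobson A).map f ^ k * J := by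
      intro k
      induction k with
      | zero => simp
      | succ k ih => exact hJle.trans ((Ideal.mul_mono_right ih).trans (by rw [pow_succ', mul_assoc]))
    by_cases hl : l ∈ c.support
    · have := hJ0 N (Ideal.subset_span ⟨⟨l, hl⟩, rfl⟩)
      rw [← Ideal.map_pow, hN, Submodule.zero_eq_bot, Ideal.map_bot] at this
      simpa [b] using this
    · rw [Finsupp.notMem_support_iff.mp hl]; simp
  have hcoef : ∀ (m : MaximalSpectrum A) (x : M), ∃ c : κ m →₀ A, Finsupp.linearCombination A (v m) c = e m • x := fun m x => by
    obtain ⟨c, hc⟩ := (Finsupp.mem_span_range_iff_exists_finsupp (R := A)).mp (hgen m x)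
    exact ⟨c, by rw [Finsupp.linearCombination_apply, hc]⟩
  choose C hC using hcoef
  have hCeq : ∀ (m : MaximalSpectrum A) (x : M) (c : κ m →₀ A),
      Finsupp.linearCombination A (v m) c = e m • x → e m • C m x = e m • c := fun m x c hc => by
    rw [← sub_eq_zero, ← smul_sub]
    exact huniq m _ (by rw [map_sub, hC, hc, sub_self])
  let Φ : ∀ m : MaximalSpectrum A, M →ₗ[A] (κ m →₀ A) := fun m =>
    { toFun := fun x => e m • C m x
      map_add' := fun x y => by rw [hCeq m (x + y) (C m x + C m y) (by rw [map_add, hC, hC, smul_add]), smul_add]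
      map_smul' := fun r x => by
        rw [hCeq m (r • x) (r • C m x) (by rw [map_smul, hC, smul_comm]), RingHom.id_apply, smul_comm] }
  haveI := Fintype.ofFinite (MaximalSpectrum A)
  let s : M →ₗ[A] ∀ m : MaximalSpectrum A, κ m →₀ A := LinearMap.pi Φ
  let p : (∀ m : MaximalSpectrum A, κ m →₀ A) →ₗ[A] M :=
    ∑ m, Finsupp.linearCombination A (v m) ∘ₗ LinearMap.proj m
  have hu : IsUnit (∑ m, e m) := by
    by_contra hu
    obtain ⟨I, hI, hmem⟩ := exists_max_ideal_of_mem_nonunits hu
    let m0 : MaximalSpectrum A := ⟨I, hI⟩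
    have h5 : ∑ m, e m - e m0 ∈ I := by
      rw [← Finset.add_sum_erase _ _ (Finset.mem_univ m0), add_sub_cancel_left]
      exact sum_mem fun q hq => he0 q m0 (Finset.ne_of_mem_erase hq).symm
    exact hI.ne_top ((Ideal.eq_top_iff_one _).mpr (by simpa using sub_mem (sub_mem hmem h5) (he1 m0)))
  obtain ⟨w, hw⟩ := hu.exists_left_inv
  have hps : (w • p) ∘ₗ s = LinearMap.id := LinearMap.ext fun x => by
    simp [p, s, Φ, LinearMap.sum_apply, hC, smul_smul, (hidem _).eq, ← Finset.sum_smul, hw]
  exact Module.Flat.of_retract s (w • p) hps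

end Groth.Agent.LFlatSemiLocal
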