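import Mathlib

/-! Abelian structure on a localization of an abelian category by a calculus of fractions. -/

universe v' v u' u

open CategoryTheory Limits

namespace Groth.Agent.LFracAbelian

variable {A : Type u} [Category.{v} A] [Abelian A] {D : Type u'} [Category.{v'} D]
  (W : MorphismProperty A) [W.HasLeftCalculusOfFractions] [W.HasRightCalculusOfFractions]
  (L : A ⥤ D) [L.IsLocalization W] [Preadditive D] [L.Additive]

include W L

set_option backward.isDefEq.respectTransparency false in
lemma preservesMonomorphisms : L.PreservesMonomorphisms where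
  preserves {X Y} f _ := by
    have := Localization.essSurj L W
    rw [Preadditive.mono_iff_cancel_zero]
    intro V z hz
    obtain ⟨φ, hφ⟩ := Localization.exists_rightFraction L W ((L.objObjPreimageIso V).hom ≫ z)
    rw [← cancel_epi (L.objObjPreimageIso V).hom, comp_zero, hφ, ← cancel_epi (L.map φ.s), comp_zero,
      MorphismProperty.RightFraction.map_s_comp_map]
    have h : L.map φ.f ≫ L.map f = 0 := by
      have : L.map φ.s ≫ (L.objObjPreimageIso V).hom ≫ z = L.map φ.f := by
        rw [hφ, MorphismProperty.RightFraction.map_s_comp_map]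
      rw [← this, Category.assoc, Category.assoc, hz, comp_zero, comp_zero]
    rw [← L.map_comp, ← L.map_zero, MorphismProperty.map_eq_iff_precomp L W] at h
    obtain ⟨Z, s, hs, e⟩ := h
    rw [comp_zero, ← Category.assoc] at e
    rw [← L.map_zero, MorphismProperty.map_eq_iff_precomp L W]
    exact ⟨Z, s, hs, by rw [comp_zero]; exact zero_of_comp_mono f e⟩

set_option backward.isDefEq.respectTransparency false in
lemma preservesEpimorphisms : L.PreservesEpimorphisms where
  preserves {X Y} f _ := by
    have := Localization.essSurj L W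
    rw [Preadditive.epi_iff_cancel_zero]
    intro V z hz
    obtain ⟨φ, hφ⟩ := Localization.exists_leftFraction L W (z ≫ (L.objObjPreimageIso V).inv)
    rw [← cancel_mono (L.objObjPreimageIso V).inv, zero_comp, hφ, ← cancel_mono (L.map φ.s), zero_comp,
      MorphismProperty.LeftFraction.map_comp_map_s]
    have h : L.map f ≫ L.map φ.f = 0 := by
      have : z ≫ (L.objObjPreimageIso V).inv ≫ L.map φ.s = L.map φ.f := by
        rw [reassoc_of% hφ, MorphismProperty.LeftFraction.map_comp_map_s]
      rw [← this, reassoc_of% hz, zero_comp]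
    rw [← L.map_comp, ← L.map_zero, MorphismProperty.map_eq_iff_postcomp L W] at h
    obtain ⟨Z, s, hs, e⟩ := h
    rw [zero_comp, Category.assoc] at e
    rw [← L.map_zero, MorphismProperty.map_eq_iff_postcomp L W]
    exact ⟨Z, s, hs, by rw [zero_comp]; exact zero_of_epi_comp f e⟩

set_option backward.isDefEq.respectTransparency false in
lemma preservesKernel {X Y : A} (f : X ⟶ Y) : PreservesLimit (parallelPair f 0) L := by
  have := preservesMonomorphisms W L
  have := Localization.essSurj L W
  suffices ∀ (V : D) (z : V ⟶ L.obj X) (_ : z ≫ L.map f = 0),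
      ∃ (l : V ⟶ L.obj (kernel f)), l ≫ L.map (kernel.ι f) = z from
    preservesLimit_of_preserves_limit_cone (kernelIsKernel f)
      ((KernelFork.isLimitMapConeEquiv _ L).2
        (Fork.IsLimit.ofExistsUnique
          (fun s ↦ existsUnique_of_exists_of_unique
            (this _ _ (KernelFork.condition s))
            (fun _ _ h₁ h₂ ↦ by simpa [cancel_mono] using h₁.trans h₂.symm))))
  intro V z hz
  obtain ⟨φ, hφ⟩ := Localization.exists_rightFraction L W ((L.objObjPreimageIso V).hom ≫ z)
  have hs : L.map φ.s ≫ (L.objObjPreimageIso V).hom ≫ z = L.map φ.f := by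
    rw [hφ, MorphismProperty.RightFraction.map_s_comp_map]
  have h : L.map φ.f ≫ L.map f = 0 := by
    rw [← hs, Category.assoc, Category.assoc, hz, comp_zero, comp_zero]
  rw [← L.map_comp, ← L.map_zero, MorphismProperty.map_eq_iff_precomp L W] at h
  obtain ⟨Z, t, ht, e⟩ := h
  rw [comp_zero, ← Category.assoc] at e
  have := Localization.inverts L W φ.s φ.hs
  have := Localization.inverts L W t ht
  refine ⟨(L.objObjPreimageIso V).inv ≫ inv (L.map φ.s) ≫ inv (L.map t) ≫ L.map (kernel.lift f _ e), ?_⟩
  rw [Category.assoc, Category.assoc, Category.assoc, ← L.map_comp, kernel.lift_ι, L.map_comp,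
    IsIso.inv_hom_id_assoc, ← hs]
  simp

set_option backward.isDefEq.respectTransparency false in
lemma preservesCokernel {X Y : A} (f : X ⟶ Y) : PreservesColimit (parallelPair f 0) L := by
  have := preservesEpimorphisms W L
  have := Localization.essSurj L W
  suffices ∀ (V : D) (z : L.obj Y ⟶ V) (_ : L.map f ≫ z = 0),
      ∃ (l : L.obj (cokernel f) ⟶ V), L.map (cokernel.π f) ≫ l = z from
    preservesColimit_of_preserves_colimit_cocone (cokernelIsCokernel f)
      ((CokernelCofork.isColimitMapCoconeEquiv _ L).2
        (Cofork.IsColimit.ofExistsUnique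
          (fun s ↦ existsUnique_of_exists_of_unique
            (this _ _ (CokernelCofork.condition s))
            (fun _ _ h₁ h₂ ↦ by simpa [cancel_epi] using h₁.trans h₂.symm))))
  intro V z hz
  obtain ⟨φ, hφ⟩ := Localization.exists_leftFraction L W (z ≫ (L.objObjPreimageIso V).inv)
  have hs : z ≫ (L.objObjPreimageIso V).inv ≫ L.map φ.s = L.map φ.f := by
    rw [reassoc_of% hφ, MorphismProperty.LeftFraction.map_comp_map_s]
  have h : L.map f ≫ L.map φ.f = 0 := by rw [← hs, reassoc_of% hz, zero_comp]
  rw [← L.map_comp, ← L.map_zero, MorphismProperty.map_eq_iff_postcomp L W] at h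
  obtain ⟨Z, t, ht, e⟩ := h
  rw [zero_comp, Category.assoc] at e
  have := Localization.inverts L W φ.s φ.hs
  have := Localization.inverts L W t ht
  refine ⟨L.map (cokernel.desc f _ e) ≫ inv (L.map t) ≫ inv (L.map φ.s) ≫ (L.objObjPreimageIso V).hom, ?_⟩
  rw [← L.map_comp_assoc, cokernel.π_desc, L.map_comp, Category.assoc, IsIso.hom_inv_id_assoc, ← hs]
  simp

set_option backward.isDefEq.respectTransparency false in
lemma hasKernels : HasKernels D where
  has_limit f := by
    obtain ⟨g, ⟨e⟩⟩ := (Localization.essSurj_mapArrow L W).mem_essImage (Arrow.mk f)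
    have := preservesKernel W L g.hom
    have : HasLimit (parallelPair (L.map g.hom) 0) :=
      ⟨_, (KernelFork.isLimitMapConeEquiv _ L).1 (isLimitOfPreserves L (kernelIsKernel g.hom))⟩
    exact hasLimit_of_iso (show parallelPair (L.map g.hom) 0 ≅ _ from
      parallelPair.ext (Arrow.leftFunc.mapIso e) (Arrow.rightFunc.mapIso e) (Arrow.w e.hom).symm (by simp))

set_option backward.isDefEq.respectTransparency false in
lemma hasCokernels : HasCokernels D where
  has_colimit f := by
    obtain ⟨g, ⟨e⟩⟩ := (Localization.essSurj_mapArrow L W).mem_essImage (Arrow.mk f)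
    have := preservesCokernel W L g.hom
    have : HasColimit (parallelPair (L.map g.hom) 0) :=
      ⟨_, (CokernelCofork.isColimitMapCoconeEquiv _ L).1 (isColimitOfPreserves L (cokernelIsCokernel g.hom))⟩
    exact hasColimit_of_iso (show _ ≅ parallelPair (L.map g.hom) 0 from
      parallelPair.ext (Arrow.leftFunc.mapIso e.symm) (Arrow.rightFunc.mapIso e.symm) (Arrow.w e.inv).symm (by simp))

set_option backward.isDefEq.respectTransparency false in
lemma isNormalMonoCategory : IsNormalMonoCategory D where
  normalMonoOfMono f hf := by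
    obtain ⟨g, ⟨e⟩⟩ := (Localization.essSurj_mapArrow L W).mem_essImage (Arrow.mk f)
    have hg : Mono (L.map g.hom) :=
      ((MorphismProperty.monomorphisms D).arrow_iso_iff e).2 (.infer_property f)
    have h0 : L.map (kernel.ι g.hom) = 0 := by
      rw [← cancel_mono (L.map g.hom), ← L.map_comp, kernel.condition, L.map_zero, zero_comp]
    have := preservesCokernel W L (kernel.ι g.hom)
    have hc := isColimitOfPreserves L (cokernelIsCokernel (kernel.ι g.hom))
    have hi : IsIso (L.map (cokernel.π (kernel.ι g.hom))) :=
      CokernelCofork.IsColimit.isIso_π _ ((CokernelCofork.isColimitMapCoconeEquiv _ L).1 hc) h0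
    have hp : IsIso (L.map (Abelian.factorThruImage g.hom)) := by
      have heq : Abelian.factorThruImage g.hom =
          cokernel.π (kernel.ι g.hom) ≫ (Abelian.coimageIsoImage g.hom).hom :=
        (cancel_mono (Abelian.image.ι g.hom)).1 (by
          rw [Category.assoc, Abelian.image.fac]
          exact (Abelian.coimage_image_factorisation g.hom).symm)
      rw [heq, L.map_comp]
      infer_instance
    let e' : Arrow.mk (L.map (Abelian.image.ι g.hom)) ≅ Arrow.mk f :=
      (Arrow.isoMk (asIso (L.map (Abelian.factorThruImage g.hom))) (Iso.refl _)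
        (by simp [← L.map_comp]) : Arrow.mk (L.map g.hom) ≅ Arrow.mk (L.map (Abelian.image.ι g.hom))).symm ≪≫ e
    let hf' := normalMonoOfMono (Abelian.image.ι g.hom)
    have := preservesKernel W L hf'.g
    refine ⟨NormalMono.ofArrowIso ?_ e'⟩
    exact {
      Z := L.obj hf'.Z
      g := L.map hf'.g
      w := by rw [← L.map_comp]; simp [hf'.w]
      isLimit := (KernelFork.isLimitMapConeEquiv _ L).1 (isLimitOfPreserves L hf'.isLimit) }

set_option backward.isDefEq.respectTransparency false in
lemma isNormalEpiCategory : IsNormalEpiCategory D where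
  normalEpiOfEpi f hf := by
    obtain ⟨g, ⟨e⟩⟩ := (Localization.essSurj_mapArrow L W).mem_essImage (Arrow.mk f)
    have hg : Epi (L.map g.hom) :=
      ((MorphismProperty.epimorphisms D).arrow_iso_iff e).2 (.infer_property f)
    have h0 : L.map (cokernel.π g.hom) = 0 := by
      rw [← cancel_epi (L.map g.hom), ← L.map_comp, cokernel.condition, L.map_zero, comp_zero]
    have := preservesKernel W L (cokernel.π g.hom)
    have hc := isLimitOfPreserves L (kernelIsKernel (cokernel.π g.hom))
    have hi : IsIso (L.map (kernel.ι (cokernel.π g.hom))) :=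
      KernelFork.IsLimit.isIso_ι _ ((KernelFork.isLimitMapConeEquiv _ L).1 hc) h0
    let e' : Arrow.mk (L.map (Abelian.factorThruImage g.hom)) ≅ Arrow.mk f :=
      (Arrow.isoMk (Iso.refl _) (asIso (L.map (kernel.ι (cokernel.π g.hom))))
        (by
          dsimp
          rw [Category.id_comp, ← L.map_comp]
          exact congrArg L.map (Abelian.image.fac g.hom).symm) :
          Arrow.mk (L.map (Abelian.factorThruImage g.hom)) ≅ Arrow.mk (L.map g.hom)) ≪≫ e
    let hf' := normalEpiOfEpi (Abelian.factorThruImage g.hom)
    have := preservesCokernel W L hf'.g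
    refine ⟨NormalEpi.ofArrowIso ?_ e'⟩
    exact {
      W := L.obj hf'.W
      g := L.map hf'.g
      w := by rw [← L.map_comp]; simp [hf'.w]
      isColimit := (CokernelCofork.isColimitMapCoconeEquiv _ L).1 (isColimitOfPreserves L hf'.isColimit) }

/-- The abelian structure. -/
@[instance_reducible]
noncomputable def abelian : Abelian D := by
  have := Localization.essSurj L W
  have := L.hasFiniteProducts_of_additive_of_essSurj
  have := hasKernels W L
  have := hasCokernels W L
  have := isNormalMonoCategory W L
  have := isNormalEpiCategory W L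
  constructor

end Groth.Agent.LFracAbelian
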