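import Mathlib

/-! The Galois group acts transitively on the primes of L ⊗ K. -/

set_option autoImplicit false
universe u v w
open scoped TensorProduct Pointwise

namespace Groth.Agent.LGalTensor

variable {k : Type u} {L : Type v} [Field k] [Field L] [Algebra k L]

theorem transitive [IsGalois k L] {K : Type w} [Field K] [Algebra k K] (P Q : Ideal (L ⊗[k] K)) [P.IsPrime] [Q.IsPrime] :
    ∃ σ : L ≃ₐ[k] L, Q = P.comap (Algebra.TensorProduct.map (σ : L →ₐ[k] L) (AlgHom.id k K)) := by
  classical
  let φ : (L ≃ₐ[k] L) →* ((L ⊗[k] K) →ₐ[k] (L ⊗[k] K)) :=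
    { toFun := fun σ => Algebra.TensorProduct.map (σ : L →ₐ[k] L) (AlgHom.id k K)
      map_one' := Algebra.TensorProduct.map_id
      map_mul' := fun σ τ => by ext x <;> simp }
  letI sG : SMul (L ≃ₐ[k] L) (L ⊗[k] K) := ⟨fun σ x => φ σ x⟩
  letI : MulSemiringAction (L ≃ₐ[k] L) (L ⊗[k] K) :=
    { toSMul := sG
      one_smul := fun x => by show φ 1 x = x; rw [map_one]; rfl
      mul_smul := fun σ τ x => by show φ (σ * τ) x = φ σ (φ τ x); rw [map_mul]; rfl
      smul_zero := fun σ => map_zero (φ σ)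
      smul_add := fun σ => map_add (φ σ)
      smul_one := fun σ => map_one (φ σ)
      smul_mul := fun σ => map_mul (φ σ) }
  have hsmul : ∀ (σ : L ≃ₐ[k] L) (x : L ⊗[k] K), σ • x = Algebra.TensorProduct.map (σ : L →ₐ[k] L) (AlgHom.id k K) x :=
    fun σ x => rfl
  letI : Algebra K (L ⊗[k] K) := Algebra.TensorProduct.rightAlgebra
  haveI : @SMulCommClass (L ≃ₐ[k] L) K (L ⊗[k] K) sG Algebra.toSMul := ⟨fun σ a x => by
    rw [Algebra.smul_def, Algebra.smul_def, hsmul, hsmul, map_mul]
    congr 1
    show Algebra.TensorProduct.map _ _ ((1 : L) ⊗ₜ[k] a) = (1 : L) ⊗ₜ[k] a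
    simp⟩
  let b := Module.Basis.ofVectorSpace k K
  let e := TensorProduct.equivFinsuppOfBasisRight (M := L) b
  have he : ∀ (σ : L ≃ₐ[k] L) (x : L ⊗[k] K) j, e (σ • x) j = σ (e x j) := by
    intro σ x j
    induction x using TensorProduct.induction_on with
    | zero => simp [hsmul]
    | tmul l a => simp [hsmul, e]
    | add x y hx hy => rw [hsmul, map_add, map_add, map_add, Finsupp.add_apply, Finsupp.add_apply, ← hsmul, ← hsmul, hx, hy, map_add]
  haveI : Algebra.IsInvariant K (L ⊗[k] K) (L ≃ₐ[k] L) := ⟨fun x hx => by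
    have hc : ∀ j, e x j ∈ Set.range (algebraMap k L) := fun j =>
      (InfiniteGalois.mem_range_algebraMap_iff_fixed _).mpr fun σ => (he σ x j).symm.trans (congrArg (fun y => e y j) (hx σ))
    choose c hc using hc
    refine ⟨∑ j ∈ (e x).support, c j • b j, e.injective (Finsupp.ext fun j => ?_)⟩
    show e ((1 : L) ⊗ₜ[k] _) j = _
    rw [TensorProduct.tmul_sum, map_sum, Finsupp.finsetSum_apply]
    simp only [TensorProduct.tmul_smul, map_smul, Finsupp.smul_apply, e,
      TensorProduct.equivFinsuppOfBasisRight_apply_tmul_apply, Module.Basis.repr_self, Finsupp.single_apply, ite_smul,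
      one_smul, zero_smul, smul_ite, smul_zero]
    rw [Finset.sum_ite_eq']
    split_ifs with h
    · rw [← Algebra.algebraMap_eq_smul_one, hc j]
    · exact (Finsupp.notMem_support_iff.mp h).symm⟩
  letI : TopologicalSpace (L ⊗[k] K) := ⊥
  haveI : DiscreteTopology (L ⊗[k] K) := ⟨rfl⟩
  haveI : ContinuousSMul (L ≃ₐ[k] L) (L ⊗[k] K) := continuousSMul_iff_stabilizer_isOpen.mpr fun x => by
    let S : Set L := ↑((e x).support.image (e x))
    haveI : FiniteDimensional k (IntermediateField.adjoin k S) :=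
      IntermediateField.finiteDimensional_adjoin fun y _ => Algebra.IsIntegral.isIntegral y
    refine Subgroup.isOpen_mono ?_ (IntermediateField.fixingSubgroup_isOpen (IntermediateField.adjoin k S))
    intro σ hσ
    refine MulAction.mem_stabilizer_iff.mpr (e.injective (Finsupp.ext fun j => ?_))
    refine (he σ x j).trans ?_
    by_cases hj : j ∈ (e x).support
    · exact (IntermediateField.mem_fixingSubgroup_iff _ σ).mp hσ _ (IntermediateField.subset_adjoin k S
        (Finset.mem_coe.mpr (Finset.mem_image_of_mem _ hj)))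
    · rw [Finsupp.notMem_support_iff.mp hj, map_zero]
  have hunder : ∀ R : Ideal (L ⊗[k] K), R.IsPrime → R.under K = ⊥ := fun R hR =>
    (Ideal.eq_bot_or_top _).resolve_right (Ideal.comap_ne_top _ hR.ne_top)
  obtain ⟨g, rfl⟩ := Algebra.IsInvariant.exists_smul_of_under_eq_of_profinite (A := K) (G := L ≃ₐ[k] L) P Q
    ((hunder P inferInstance).trans (hunder Q inferInstance).symm)
  exact ⟨g⁻¹, Ideal.ext fun x => Ideal.mem_pointwise_smul_iff_inv_smul_mem⟩

end Groth.Agent.LGalTensor
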