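import Groth.Agent.Lib.LPullInv
import Groth.Agent.Lib.LGlobGen
import Groth.Prelude.Def_Curv2
import Mathlib

/-! A generated invertible module has a non-vanishing global section at every point. -/

set_option autoImplicit false
universe u
open CategoryTheory Limits AlgebraicGeometry Opposite TopologicalSpace

namespace Groth.Agent.LGenSection

open Groth.Agent.LQcoh Groth.Agent.LInv

variable {X : Scheme.{u}}

theorem exists_mem_genLocus {L : X.Modules} (hL : PicF.IsInvertible L) (hg : Curv2.IsGloballyGenerated L)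
    (x : X) : ∃ s : Coh.structureModule X ⟶ L, x ∈ CohB1.genLocus L s := by
  obtain ⟨I, p, hp⟩ := hg
  by_contra hne
  rw [not_exists] at hne
  let K : Scheme.{u} := Spec (X.residueField x)
  let g : K ⟶ X := X.fromSpecResidueField x
  have hgx : ∀ y : K, g y = x := fun y => Scheme.fromSpecResidueField_apply x y
  obtain ⟨U, σ, hxU, -, -, hσ⟩ := exists_affine_gen hL (V := ⊤) (x := x) trivial
  have hpre : g ⁻¹ᵁ U = ⊤ := eq_top_iff.2 fun y _ => show g y ∈ U from (hgx y).symm ▸ hxU
  have hσ' := (LPullInv.genOn_pull g hσ).mono (V := ⊤) hpre.ge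
  have hzero : ∀ s : Coh.structureModule X ⟶ L, (Scheme.Modules.pullback g).map s = 0 := by
    intro s
    have hbot : CohB1.genLocus _ (LPullInv.pullHom g s) = ⊥ := by
      rw [LPullInv.genLocus_pullHom g hL]
      exact eq_bot_iff.2 fun y hy => hne s (hgx y ▸ hy)
    have hc := coeff_spec hσ' (SecTwist.val (LPullInv.pullHom g s) ⊤ : Γ((Scheme.Modules.pullback g).obj L, ⊤))
    set c := coeff hσ' (SecTwist.val (LPullInv.pullHom g s) ⊤ : Γ((Scheme.Modules.pullback g).obj L, ⊤))
    have hf : IsField Γ(K, ⊤) :=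
      MulEquiv.isField (Field.toIsField (X.residueField x)) (Scheme.ΓSpecIso (X.residueField x)).commRingCatIsoToRingEquiv.toMulEquiv
    have hc0 : c = 0 := by
      by_contra h
      obtain ⟨b, hb⟩ := hf.mul_inv_cancel h
      have h1 := genLocus_inf hσ' (LPullInv.pullHom g s) hc
      rw [hbot, bot_inf_eq, K.basicOpen_of_isUnit (IsUnit.of_mul_eq_one b hb)] at h1
      exact absurd (h1.symm ▸ trivial : (IsLocalRing.closedPoint (X.residueField x) : K) ∈ (⊥ : K.Opens)) id
    have : LPullInv.pullHom g s = 0 := by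
      have hv : (SecTwist.val (LPullInv.pullHom g s) ⊤ : Γ((Scheme.Modules.pullback g).obj L, ⊤)) = 0 := by
        rw [← hc, hc0]; exact zero_smul _ _
      apply ((Scheme.Modules.pullback g).obj L).unitHomEquiv.injective
      apply PresheafOfModules.sections_ext
      intro W
      exact (SecTwist.map_val (LPullInv.pullHom g s) (homOfLE (le_top (a := W.unop)))).symm.trans
        ((congrArg _ hv).trans (map_zero _))
    exact (cancel_epi (PicLoc.pullbackStructureIso g).inv).1 (this.trans comp_zero.symm)
  have hP : (Scheme.Modules.pullback g).map p = 0 := by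
    refine (isColimitOfPreserves (Scheme.Modules.pullback g)
      (SheafOfModules.isColimitFreeCofan (R := X.ringCatSheaf) I)).hom_ext fun i => ?_
    exact ((Scheme.Modules.pullback g).map_comp _ _).symm.trans ((hzero _).trans comp_zero.symm)
  haveI : @Epi X.Modules _ _ _ p := hp
  have hepi : Epi ((Scheme.Modules.pullback g).map p) := (Scheme.Modules.pullback g).map_epi p
  rw [hP] at hepi
  haveI := hepi
  have hid : 𝟙 ((Scheme.Modules.pullback g).obj L) = 0 := IsZero.eq_of_src (IsZero.of_epi_eq_zero _ (show (0 : (Scheme.Modules.pullback g).obj (SheafOfModules.free I) ⟶ (Scheme.Modules.pullback g).obj L) = 0 from rfl)) _ _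
  have hsub : ∀ v : Γ((Scheme.Modules.pullback g).obj L, ⊤), v = 0 := fun v =>
    (congrArg (fun φ => Scheme.Modules.Hom.app φ ⊤ v) hid)
  have h10 := (hσ' ⊤ le_rfl).1 (show (1 : Γ(K, ⊤)) • _ = (0 : Γ(K, ⊤)) • _ from (hsub _).trans (hsub _).symm)
  haveI : Nontrivial Γ(K, ⊤) :=
    (Scheme.ΓSpecIso (X.residueField x)).commRingCatIsoToRingEquiv.toEquiv.nontrivial
  exact one_ne_zero h10

end Groth.Agent.LGenSection
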