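import Mathlib

/-! gluing morphisms out of a family of charts closed under "intersection" -/

set_option autoImplicit false
universe u
open CategoryTheory CategoryTheory.Limits AlgebraicGeometry

namespace Groth.Agent.LGlueMul

theorem existsUnique {W Y : Scheme.{u}} {J : Type u} (S : J → Scheme.{u}) (c : ∀ j, S j ⟶ W)
    [∀ j, IsOpenImmersion (c j)] (hcov : ∀ w : W, ∃ j, w ∈ Set.range (c j).base) (m : ∀ j, S j ⟶ Y)
    (hmul : ∀ i j, ∃ (k : J) (r : S k ⟶ S i) (r' : S k ⟶ S j), r ≫ c i = c k ∧ r' ≫ c j = c k ∧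
      r ≫ m i = m k ∧ r' ≫ m j = m k ∧
      Set.range (c i).base ∩ Set.range (c j).base ⊆ Set.range (c k).base) :
    ∃! p : W ⟶ Y, ∀ j, c j ≫ p = m j := by
  choose idx hidx using hcov
  let 𝒰 : W.OpenCover :=
    { I₀ := J, X := S, f := c
      mem₀ := by
        rw [Scheme.presieve₀_mem_precoverage_iff]
        exact ⟨fun w => ⟨idx w, hidx w⟩, inferInstance⟩ }
  have hcompat : ∀ i j : J, pullback.fst (c i) (c j) ≫ m i = pullback.snd (c i) (c j) ≫ m j := by
    intro i j
    obtain ⟨k, r, r', h1, h2, h3, h4, h5⟩ := hmul i j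
    let l : S k ⟶ pullback (c i) (c j) := pullback.lift r r' (h1.trans h2.symm)
    have hl : l ≫ (pullback.fst (c i) (c j) ≫ c i) = c k := by
      rw [pullback.lift_fst_assoc, h1]
    haveI : IsOpenImmersion (l ≫ (pullback.fst (c i) (c j) ≫ c i)) := hl ▸ inferInstance
    haveI : IsOpenImmersion l := IsOpenImmersion.of_comp l (pullback.fst (c i) (c j) ≫ c i)
    haveI : Surjective l := ⟨fun p => by
      let q := pullback.fst (c i) (c j) ≫ c i
      have hqi : q.base p ∈ Set.range (c i).base := ⟨_, (Scheme.Hom.comp_apply _ _ p).symm⟩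
      have hqj : q.base p ∈ Set.range (c j).base := by
        refine ⟨(pullback.snd (c i) (c j)).base p, ?_⟩
        rw [← Scheme.Hom.comp_apply, ← pullback.condition]
      obtain ⟨s, hs⟩ := h5 ⟨hqi, hqj⟩
      refine ⟨s, q.isOpenEmbedding.injective ?_⟩
      rw [← Scheme.Hom.comp_apply, hl]
      exact hs⟩
    haveI : IsIso l := (isIso_iff_isOpenImmersion_and_epi_base l).2 ⟨inferInstance, (TopCat.epi_iff_surjective _).2 l.surjective⟩
    rw [← cancel_epi l, pullback.lift_fst_assoc, pullback.lift_snd_assoc, h3, h4]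
  refine ⟨𝒰.glueMorphisms m hcompat, fun j => 𝒰.ι_glueMorphisms m hcompat j, fun p hp => ?_⟩
  exact 𝒰.hom_ext _ _ fun j => (hp j).trans (𝒰.ι_glueMorphisms m hcompat j).symm

end Groth.Agent.LGlueMul
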