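import Groth.Agent.Lib.LTopDetect
import Mathlib

universe u

open CategoryTheory Limits TopologicalSpace Opposite

namespace Groth.Agent.LGodement

lemma isFlasque_discrete {Z : TopCat.{u}} [DiscreteTopology Z] (F : CohTop.Ab Z) : TopCat.Sheaf.IsFlasque F where
  epi {U V} r := by
    rw [AddCommGrpCat.epi_iff_surjective]
    intro s
    obtain ⟨U⟩ := U; obtain ⟨V⟩ := V
    have hVU : V ≤ U := r.unop.le
    let W : Opens Z := ⟨(U : Set Z) \ V, isOpen_discrete _⟩
    let fam : ULift.{u} Bool → Opens Z := fun b => cond b.down V W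
    have hle : ∀ b, fam b ≤ U := by rintro ⟨(_ | _)⟩; exacts [fun x hx => hx.1, hVU]
    have hcov : U ≤ iSup fam := fun x hx => by
      by_cases hxV : x ∈ V
      · exact Opens.mem_iSup.2 ⟨⟨true⟩, hxV⟩
      · exact Opens.mem_iSup.2 ⟨⟨false⟩, hx, hxV⟩
    have hsub : Subsingleton (F.obj.obj (op (W ⊓ V))) :=
      AddCommGrpCat.subsingleton_of_isZero (TopCat.Sheaf.isTerminalOfEqEmpty F (U := W ⊓ V)
        (Opens.ext (Set.eq_empty_iff_forall_notMem.2 fun x hx => hx.1.2 hx.2))).isZero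
    have hsub' : Subsingleton (F.obj.obj (op (V ⊓ W))) :=
      AddCommGrpCat.subsingleton_of_isZero (TopCat.Sheaf.isTerminalOfEqEmpty F (U := V ⊓ W)
        (Opens.ext (Set.eq_empty_iff_forall_notMem.2 fun x hx => hx.2.2 hx.1))).isZero
    let sf : ∀ b, F.obj.obj (op (fam b)) := fun b => match b with
      | ⟨true⟩ => s
      | ⟨false⟩ => 0
    obtain ⟨t, ht, -⟩ := TopCat.Sheaf.existsUnique_gluing' F fam U (fun b => homOfLE (hle b)) hcov sf (by
      rintro ⟨(_ | _)⟩ ⟨(_ | _)⟩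
      · rfl
      · exact @Subsingleton.elim _ hsub _ _
      · exact @Subsingleton.elim _ hsub' _ _
      · rfl)
    exact ⟨t, (ht ⟨true⟩)⟩

theorem godement {X : TopCat.{u}} (F : CohTop.Ab X) :
    Mono ((TopCat.Sheaf.pullbackPushforwardAdjunction AddCommGrpCat.{u} (TopCat.adj₁.counit.app X)).unit.app F) ∧
    TopCat.Sheaf.IsFlasque ((CohTop.push (TopCat.adj₁.counit.app X)).obj
      ((CohTop.pull (TopCat.adj₁.counit.app X)).obj F)) := by
  refine ⟨LTopDetect.mono_unit_of_surjective (TopCat.adj₁.counit.app X) (fun x => ⟨x, rfl⟩) F, ?_⟩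
  have : DiscreteTopology ((forget TopCat.{u} ⋙ TopCat.discrete).obj X) := ⟨rfl⟩
  have := isFlasque_discrete (Z := (forget TopCat.{u} ⋙ TopCat.discrete).obj X) ((CohTop.pull (TopCat.adj₁.counit.app X)).obj F)
  exact TopCat.Sheaf.IsFlasque.pushforward_isFlasque _ _

end Groth.Agent.LGodement
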