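import Mathlib

/-! generators of a graded algebra vs generators of the irrelevant ideal -/

set_option autoImplicit false
universe u
open DirectSum

namespace Groth.Agent.LGrGen

variable {R A : Type u} [CommRing R] [CommRing A] [Algebra R A] (𝒜 : ℕ → Submodule R A) [GradedAlgebra 𝒜]

theorem span_le {E : Set A} (hE : ∀ e ∈ E, ∃ d : ℕ, 0 < d ∧ e ∈ 𝒜 d) :
    Ideal.span E ≤ (HomogeneousIdeal.irrelevant 𝒜).toIdeal :=
  Ideal.span_le.2 fun e he => by
    obtain ⟨d, hd, hed⟩ := hE e he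
    exact HomogeneousIdeal.mem_irrelevant_of_mem _ hd hed

theorem irrelevant_le_of_adjoin {E : Set A} (hE : ∀ e ∈ E, ∃ d : ℕ, 0 < d ∧ e ∈ 𝒜 d)
    (h : Algebra.adjoin (𝒜 0) E = ⊤) : (HomogeneousIdeal.irrelevant 𝒜).toIdeal ≤ Ideal.span E := by
  intro a ha
  have key : ∀ x ∈ Algebra.adjoin (𝒜 0) E, x - GradedRing.proj 𝒜 0 x ∈ Ideal.span E := by
    intro x hx
    induction hx using Algebra.adjoin_induction with
    | mem e he =>
      obtain ⟨d, hd, hed⟩ := hE e he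
      rw [GradedRing.proj_apply, DirectSum.decompose_of_mem_ne 𝒜 hed hd.ne', sub_zero]
      exact Ideal.subset_span he
    | algebraMap r =>
      rw [show algebraMap (𝒜 0) A r = (r : A) from rfl, GradedRing.proj_apply, DirectSum.decompose_of_mem_same 𝒜 r.2, sub_self]
      exact zero_mem _
    | add x y _ _ hx hy =>
      rw [map_add, add_sub_add_comm]
      exact add_mem hx hy
    | mul x y _ _ hx hy =>
      have : GradedRing.proj 𝒜 0 (x * y) = GradedRing.proj 𝒜 0 x * GradedRing.proj 𝒜 0 y :=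
        map_mul (GradedRing.projZeroRingHom 𝒜) x y
      rw [this, show x * y - GradedRing.proj 𝒜 0 x * GradedRing.proj 𝒜 0 y =
        (x - GradedRing.proj 𝒜 0 x) * y + GradedRing.proj 𝒜 0 x * (y - GradedRing.proj 𝒜 0 y) by ring]
      exact add_mem (Ideal.mul_mem_right _ _ hx) (Ideal.mul_mem_left _ _ hy)
  have h2 := key a (by rw [h]; trivial)
  rwa [(HomogeneousIdeal.mem_irrelevant_iff 𝒜 a).1 ha, sub_zero] at h2

theorem adjoin_of_irrelevant_le {E : Set A} (hE : ∀ e ∈ E, ∃ d : ℕ, 0 < d ∧ e ∈ 𝒜 d)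
    (h : (HomogeneousIdeal.irrelevant 𝒜).toIdeal ≤ Ideal.span E) : Algebra.adjoin (𝒜 0) E = ⊤ := by
  classical
  have key : ∀ n : ℕ, ∀ a ∈ 𝒜 n, a ∈ Algebra.adjoin (𝒜 0) E := by
    intro n
    induction n using Nat.strong_induction_on with
    | _ n ih =>
      intro a ha
      rcases n.eq_zero_or_pos with rfl | hn
      · exact Subalgebra.algebraMap_mem (Algebra.adjoin (𝒜 0) E) ⟨a, ha⟩
      obtain ⟨l, hl, hsum⟩ := Finsupp.mem_span_iff_linearCombination A E a |>.1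
        (h (HomogeneousIdeal.mem_irrelevant_of_mem _ hn ha)) |> fun ⟨l, hl⟩ => (⟨l, trivial, hl⟩ : ∃ l : E →₀ A, True ∧ Finsupp.linearCombination A ((↑) : E → A) l = a)
      rw [← DirectSum.decompose_of_mem_same 𝒜 ha, ← hsum, Finsupp.linearCombination_apply, Finsupp.sum,
        DirectSum.decompose_sum, DFinsupp.finsetSum_apply, AddSubmonoidClass.coe_finsetSum]
      refine sum_mem fun e _ => ?_
      obtain ⟨d, hd, hed⟩ := hE e.1 e.2
      rw [smul_eq_mul, DirectSum.coe_decompose_mul_of_right_mem 𝒜 n hed]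
      split_ifs with hdn
      · exact mul_mem (ih (n - d) (by omega) _ (Subtype.mem _)) (Algebra.subset_adjoin e.2)
      · exact zero_mem _
  refine eq_top_iff.2 fun a _ => ?_
  rw [← DirectSum.sum_support_decompose 𝒜 a]
  exact sum_mem fun i _ => key i _ (Subtype.mem _)

theorem exists_homogeneous (h : (HomogeneousIdeal.irrelevant 𝒜).toIdeal.FG) :
    ∃ s : Finset A, (∀ e ∈ (s : Set A), ∃ d : ℕ, 0 < d ∧ e ∈ 𝒜 d) ∧
      (HomogeneousIdeal.irrelevant 𝒜).toIdeal = Ideal.span (s : Set A) := by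
  classical
  obtain ⟨F, hF⟩ := h
  let s : Finset A := F.biUnion fun f =>
    ((DirectSum.decompose 𝒜 f).support.filter (0 < ·)).image fun i => (DirectSum.decompose 𝒜 f i : A)
  have hs : ∀ e ∈ (s : Set A), ∃ d : ℕ, 0 < d ∧ e ∈ 𝒜 d := by
    intro e he
    simp only [s, Finset.coe_biUnion, Finset.coe_image, Set.mem_iUnion, Set.mem_image, Finset.mem_coe,
      Finset.mem_filter] at he
    obtain ⟨f, -, i, ⟨-, hi⟩, rfl⟩ := he
    exact ⟨i, hi, Subtype.mem _⟩
  refine ⟨s, hs, le_antisymm ?_ (span_le 𝒜 hs)⟩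
  rw [← hF]
  refine Submodule.span_le.2 fun f hf => ?_
  have h0 : GradedRing.proj 𝒜 0 f = 0 :=
    (HomogeneousIdeal.mem_irrelevant_iff 𝒜 f).1 (show f ∈ (HomogeneousIdeal.irrelevant 𝒜).toIdeal by rw [← hF]; exact Ideal.subset_span hf)
  rw [← DirectSum.sum_support_decompose 𝒜 f]
  refine sum_mem fun i hi => ?_
  rcases i.eq_zero_or_pos with rfl | hi0
  · rw [show (DirectSum.decompose 𝒜 f 0 : A) = 0 from h0]
    exact zero_mem _
  · refine Ideal.subset_span ?_
    simp only [s, Finset.coe_biUnion, Finset.coe_image, Set.mem_iUnion, Set.mem_image, Finset.mem_coe, Finset.mem_filter]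
    exact ⟨f, hf, i, ⟨hi, hi0⟩, rfl⟩

theorem finiteType_of_fg (h : (HomogeneousIdeal.irrelevant 𝒜).toIdeal.FG) : Algebra.FiniteType (𝒜 0) A := by
  obtain ⟨s, hs, e⟩ := exists_homogeneous 𝒜 h
  exact ⟨⟨s, adjoin_of_irrelevant_le 𝒜 hs e.le⟩⟩

theorem fg_of_finiteType [Algebra.FiniteType (𝒜 0) A] : (HomogeneousIdeal.irrelevant 𝒜).toIdeal.FG := by
  obtain ⟨s, h₁, h₂⟩ := GradedAlgebra.exists_finset_adjoin_eq_top_and_homogeneous_ne_zero 𝒜
  have hs : ∀ e ∈ (s : Set A), ∃ d : ℕ, 0 < d ∧ e ∈ 𝒜 d := fun e he => by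
    obtain ⟨n, hn, hen⟩ := h₂ e he
    exact ⟨n, Nat.pos_of_ne_zero hn, hen⟩
  exact ⟨s, le_antisymm (span_le 𝒜 hs) (irrelevant_le_of_adjoin 𝒜 hs h₁)⟩

theorem noetherian_zero [IsNoetherianRing A] : IsNoetherianRing (𝒜 0) :=
  isNoetherianRing_of_surjective A (𝒜 0) (GradedRing.projZeroRingHom' 𝒜) (fun x => ⟨x, Subtype.ext
    (DirectSum.decompose_of_mem_same 𝒜 x.2)⟩)

theorem finiteType [IsNoetherianRing A] : Algebra.FiniteType (𝒜 0) A :=
  finiteType_of_fg 𝒜 (IsNoetherian.noetherian _)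

end Groth.Agent.LGrGen
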