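import Mathlib
import Groth.Agent.Lib.H5KInjApps

/-! Extension by zero along `C/U → C` is exact, so restriction preserves K-injective complexes. -/

set_option autoImplicit false
universe u
open CategoryTheory Category Limits Opposite

namespace Groth.Agent.LOverExtZero

variable {C : Type u} [SmallCategory C] (U : C)

abbrev J (V : C) := CostructuredArrow (Over.forget U).op (op V)

/-- the objects given by morphisms to `U` -/
noncomputable def incl (V : C) : Discrete (V ⟶ U) ⥤ J U V :=
  Discrete.functor fun φ => CostructuredArrow.mk (Y := op (Over.mk φ)) (𝟙 (op V))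

/-- the component map -/
noncomputable def comp (V : C) : J U V ⥤ Discrete (V ⟶ U) where
  obj j := ⟨j.hom.unop ≫ j.left.unop.hom⟩
  map {j k} f := Discrete.eqToHom (by
    have h := congrArg Quiver.Hom.unop (CostructuredArrow.w f)
    simp only [Functor.op_map, unop_comp, Quiver.Hom.unop_op, Over.forget_map] at h
    exact ((congrArg (· ≫ _) h.symm).trans (Category.assoc _ _ _)).trans (congrArg (_ ≫ ·) (Over.w f.left.unop)))

instance final_incl (V : C) : (incl U V).Final := by
  refine Functor.final_of_adjunction (L := comp U V) (Adjunction.mkOfHomEquiv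
    { homEquiv := fun j φ =>
        { toFun := fun h => CostructuredArrow.homMk (Over.homMk (j.hom.unop : V ⟶ _) (by
              exact Discrete.eq_of_hom h)).op (Category.comp_id _)
          invFun := fun f => Discrete.eqToHom (by
            have h := congrArg Quiver.Hom.unop (CostructuredArrow.w f)
            simp only [Functor.op_map, unop_comp, Quiver.Hom.unop_op, Over.forget_map] at h
            have h2 := Over.w f.left.unop
            change j.hom.unop ≫ j.left.unop.hom = φ.as
            exact ((congrArg (· ≫ _) (h.symm.trans (Category.id_comp _))).trans h2))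
          left_inv := fun h => Subsingleton.elim _ _
          right_inv := fun f => by
            apply CostructuredArrow.hom_ext
            have h := congrArg Quiver.Hom.unop (CostructuredArrow.w f)
            simp only [Functor.op_map, unop_comp, Quiver.Hom.unop_op, Over.forget_map] at h
            apply Quiver.Hom.unop_inj
            apply Over.OverMorphism.ext
            change j.hom.unop = f.left.unop.left
            rw [← h]
            exact Category.id_comp _ }
      homEquiv_naturality_left_symm := fun _ _ => Subsingleton.elim _ _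
      homEquiv_naturality_right := fun {j φ ψ} h k => by
        obtain ⟨φ⟩ := φ; obtain ⟨ψ⟩ := ψ
        obtain rfl : φ = ψ := Discrete.eq_of_hom k
        rw [show k = 𝟙 _ from Subsingleton.elim _ _, (incl U V).map_id, Category.comp_id, Category.comp_id] })

variable (Sh : GrothendieckTopology C)

set_option backward.defeqAttrib.useBackward true in
set_option backward.isDefEq.respectTransparency false in
/-- evaluation of the left Kan extension as a colimit -/
noncomputable def lanEvalIso {A : Type u} [Category.{u} A] {B : Type u} [Category.{u} B] (F : A ⥤ B) (X : B) :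
    (F.lan : (A ⥤ AddCommGrpCat.{u}) ⥤ _) ⋙ (evaluation B AddCommGrpCat.{u}).obj X ≅
      (Functor.whiskeringLeft _ _ AddCommGrpCat.{u}).obj (CostructuredArrow.proj F X) ⋙ colim :=
  NatIso.ofComponents (fun G =>
    IsColimit.coconePointUniqueUpToIso
    (Functor.isPointwiseLeftKanExtensionLeftKanExtensionUnit F G X)
    (colimit.isColimit _)) (fun {G₁ G₂} φ => by
      apply (Functor.isPointwiseLeftKanExtensionLeftKanExtensionUnit F G₁ X).hom_ext
      intro T
      have h₁ := fun (G : A ⥤ AddCommGrpCat.{u}) => IsColimit.comp_coconePointUniqueUpToIso_hom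
        (Functor.isPointwiseLeftKanExtensionLeftKanExtensionUnit F G X) (colimit.isColimit _) T
      have h₂ := congr_app (F.lanUnit.naturality φ) T.left
      dsimp at h₁ h₂ ⊢
      simp only [Category.assoc] at h₁ ⊢
      simp only [Functor.lan, Functor.lanUnit] at h₂ ⊢
      rw [reassoc_of% h₁, NatTrans.naturality_assoc, ← reassoc_of% h₂, h₁,
        ι_colimMap, Functor.whiskerLeft_app]
      rfl)

theorem lan_preservesFiniteLimits :
    PreservesFiniteLimits ((Over.forget U).op.lan : ((Over U)ᵒᵖ ⥤ AddCommGrpCat.{u}) ⥤ Cᵒᵖ ⥤ AddCommGrpCat.{u}) := by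
  refine ⟨fun K _ _ => ?_⟩
  apply preservesLimitsOfShape_of_evaluation
  intro V
  haveI : PreservesFiniteLimits (colim : (Discrete (V.unop ⟶ U) ⥤ AddCommGrpCat.{u}) ⥤ AddCommGrpCat.{u}) :=
    inferInstance
  haveI : PreservesFiniteLimits (colim : (J U V.unop ⥤ AddCommGrpCat.{u}) ⥤ AddCommGrpCat.{u}) :=
    preservesFiniteLimits_of_natIso (Functor.Final.colimIso (E := AddCommGrpCat.{u}) (incl U V.unop))
  haveI : PreservesLimitsOfShape K
      (colim : (CostructuredArrow (Over.forget U).op V ⥤ AddCommGrpCat.{u}) ⥤ AddCommGrpCat.{u}) :=
    (inferInstance : PreservesLimitsOfShape K (colim : (J U V.unop ⥤ AddCommGrpCat.{u}) ⥤ AddCommGrpCat.{u}))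
  exact preservesLimitsOfShape_of_natIso (lanEvalIso (Over.forget U).op V).symm

theorem isKInjective_restrict (I : CochainComplex (Sheaf Sh AddCommGrpCat.{u}) ℤ) (hI : I.IsKInjective) :
    CochainComplex.IsKInjective ((((Over.forget U).sheafPushforwardContinuous AddCommGrpCat.{u} (Sh.over U) Sh).mapHomologicalComplex
      (ComplexShape.up ℤ)).obj I) := by
  haveI := lan_preservesFiniteLimits U
  let adj := Functor.sheafPullbackConstruction.sheafAdjunctionContinuous (Over.forget U) AddCommGrpCat.{u} (Sh.over U) Sh
  haveI : PreservesFiniteLimits (Functor.sheafPullbackConstruction.sheafPullback (Over.forget U) AddCommGrpCat.{u} (Sh.over U) Sh) := by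
    haveI : PreservesFiniteLimits ((Over.forget U).op.lan ⋙ presheafToSheaf Sh AddCommGrpCat.{u}) :=
      comp_preservesFiniteLimits _ _
    apply comp_preservesFiniteLimits
  haveI := adj.leftAdjoint_preservesColimits
  haveI := adj.left_adjoint_additive
  exact H5KApps.isKInjective_map_rightAdjoint adj I hI

end Groth.Agent.LOverExtZero
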