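import Groth.Agent.Lib.H5NegVan
import Groth.Agent.Lib.LOverExtZero
import Groth.Prelude.Def_CohCx

/-! Hypercohomology on an open as cohomology of the restriction. -/

universe w u

namespace Groth.Agent.LHDURestr
open CategoryTheory Limits Opposite TopologicalSpace
open Groth.Agent.H5NegVan

variable {X : TopCat.{u}}

lemma isKInjective_restr (U : Opens X) (I : CochainComplex (CohTop.Ab X) ℤ) (h : I.IsKInjective) :
    CochainComplex.IsKInjective (((CohTop.restrFunctor U).mapHomologicalComplex (ComplexShape.up ℤ)).obj I) := by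
  let E := (U.sheafEquivOver (A := AddCommGrpCat.{u}))
  haveI : E.functor.Additive := Functor.additive_of_preserves_binary_products _
  haveI : E.inverse.Additive := Functor.additive_of_preserves_binary_products _
  haveI : E.symm.functor.Additive := inferInstanceAs E.inverse.Additive
  haveI : E.symm.inverse.Additive := inferInstanceAs E.functor.Additive
  exact H5KApps.isKInjective_map_rightAdjoint E.symm.toAdjunction _
    (LOverExtZero.isKInjective_restrict U (Opens.grothendieckTopology X) I h)

theorem restrict (U : Opens X) [HasDerivedCategory.{u} (CohTop.Ab X)] [HasDerivedCategory.{u} (CohTop.Ab (TopCat.of U))]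
    [PreservesFiniteLimits (CohTop.restrFunctor U)] [PreservesFiniteColimits (CohTop.restrFunctor U)]
    (K : DerivedCategory (CohTop.Ab X)) (p : ℤ) :
    Nonempty (CohCx.HDU K p U ≃+ CohCx.HDU ((CohTop.restrFunctor U).mapDerivedCategory.obj K) p ⊤) := by
  let R := CohTop.restrFunctor U
  obtain ⟨I, hI, ⟨eI⟩⟩ := H5KApps.exists_kInj_iso H5KApps.enoughKInj_of_grothendieck K
  let I' : CochainComplex (CohTop.Ab X) ℤ := I⟦p⟧
  haveI : I'.IsKInjective := inferInstance
  let J' := (R.mapHomologicalComplex (ComplexShape.up ℤ)).obj I'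
  haveI : CochainComplex.IsKInjective J' := isKInjective_restr U I' inferInstance
  have eK : DerivedCategory.Q.obj I' ≅ (shiftFunctor (DerivedCategory (CohTop.Ab X)) p).obj K :=
    (DerivedCategory.Q.commShiftIso p).app I ≪≫ (shiftFunctor _ p).mapIso eI
  have eR : DerivedCategory.Q.obj J' ≅
      (shiftFunctor (DerivedCategory (CohTop.Ab (TopCat.of U))) p).obj (R.mapDerivedCategory.obj K) :=
    (R.mapDerivedCategoryFactors.app I').symm ≪≫ R.mapDerivedCategory.mapIso eK ≪≫
      (R.mapDerivedCategory.commShiftIso p).app K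
  have hT : (U.overEquivalence.inverse.obj ⊤).left = U := Opens.ext (by
    ext x
    exact ⟨fun ⟨y, _, e⟩ => e ▸ y.2, fun hx => ⟨⟨x, hx⟩, trivial, rfl⟩⟩)
  let V := (U.overEquivalence.inverse.obj ⊤).left
  let aX : Z0 I' V →+ CohCx.HDU K p V := (Preadditive.rightComp _ eK.hom).comp (ψ I' V)
  let aU : Z0 I' V →+ CohCx.HDU (R.mapDerivedCategory.obj K) p ⊤ :=
    (Preadditive.rightComp _ eR.hom).comp (ψ J' (⊤ : Opens (TopCat.of U)))
  have sX : Function.Surjective aX := fun y => by
    obtain ⟨x, hx⟩ := ψ_surjective I' V (y ≫ eK.inv)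
    exact ⟨x, (congrArg (· ≫ eK.hom) hx).trans (by simp)⟩
  have sU : Function.Surjective aU := fun y => by
    obtain ⟨x, hx⟩ := ψ_surjective J' ⊤ (y ≫ eR.inv)
    exact ⟨x, (congrArg (· ≫ eR.hom) hx).trans (by simp)⟩
  have hk : aX.ker = aU.ker := by
    ext x
    refine Iff.trans (b := Bd I' V x.1) ?_ (Iff.symm ?_)
    · rw [← ψ_eq_zero_iff I' V x]
      exact ⟨fun h => (cancel_mono eK.hom).1 (h.trans zero_comp.symm), fun h => (congrArg (· ≫ eK.hom) h).trans zero_comp⟩
    · refine Iff.trans ?_ (Iff.refl (Bd J' (⊤ : Opens (TopCat.of U)) x.1))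
      rw [← ψ_eq_zero_iff J' ⊤]
      exact ⟨fun h => (cancel_mono eR.hom).1 (h.trans zero_comp.symm), fun h => (congrArg (· ≫ eR.hom) h).trans zero_comp⟩
  let e := ((QuotientAddGroup.quotientKerEquivOfSurjective aX sX).symm.trans
    (QuotientAddGroup.quotientAddEquivOfEq hk)).trans (QuotientAddGroup.quotientKerEquivOfSurjective aU sU)
  exact ⟨(show CohCx.HDU K p U ≃+ CohCx.HDU K p V from hT.symm ▸ AddEquiv.refl _).trans e⟩

end Groth.Agent.LHDURestr
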