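import Groth.Agent.Lib.H5NegVan
import Groth.Prelude.Def_CohCx

/-! The cohomology sheaf is the sheafified hypercohomology presheaf. -/

universe w u

namespace Groth.Agent.LHDUSheaf
open CategoryTheory Limits Opposite
open Groth.Agent Groth.Agent.H5NegVan

variable {C : Type u} [SmallCategory C] {J : GrothendieckTopology C}
  (I : CochainComplex (Sheaf J AddCommGrpCat.{u}) ℤ)

/-- the complex of sections -/
noncomputable abbrev secI : CochainComplex (Cᵒᵖ ⥤ AddCommGrpCat.{u}) ℤ :=
  ((sheafToPresheaf J AddCommGrpCat.{u}).mapHomologicalComplex (ComplexShape.up ℤ)).obj I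

lemma iCycles_mem (U : Cᵒᵖ) (z : ((secI I).cycles 0).obj U) : ((secI I).iCycles 0).app U z ∈ Z0 I U.unop :=
  ConcreteCategory.congr_hom (congr_app ((secI I).iCycles_d 0 1) U) z

/-- cycles as cocycles -/
noncomputable def toZ0 (U : Cᵒᵖ) : ((secI I).cycles 0).obj U →+ Z0 I U.unop :=
  AddMonoidHom.codRestrict (((secI I).iCycles 0).app U).hom _ (iCycles_mem I U)

lemma toZ0_bijective (U : Cᵒᵖ) : Function.Bijective (toZ0 I U) := by
  constructor
  · intro a b h
    have : Mono (((secI I).iCycles 0).app U) := inferInstance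
    exact (AddCommGrpCat.mono_iff_injective _).1 this (congrArg Subtype.val h)
  · intro x
    obtain ⟨z, hz⟩ := (ShortComplex.ab_exact_iff _).1
      ((ShortComplex.exact_of_f_is_kernel (ShortComplex.mk _ _ ((secI I).iCycles_d 0 1))
        ((secI I).cyclesIsKernel 0 1 (by simp))).map ((evaluation _ AddCommGrpCat.{u}).obj U)) x.1 x.2
    exact ⟨z, Subtype.ext hz⟩

variable [HasDerivedCategory.{u} (Sheaf J AddCommGrpCat.{u})]

/-- the presheaf of maps into an object -/
noncomputable abbrev P (X : DerivedCategory (Sheaf J AddCommGrpCat.{u})) : Cᵒᵖ ⥤ AddCommGrpCat.{u} :=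
  (yoneda ⋙ (Functor.whiskeringRight _ _ _).obj AddCommGrpCat.free.{u} ⋙ presheafToSheaf J AddCommGrpCat.{u} ⋙
      DerivedCategory.singleFunctor (Sheaf J AddCommGrpCat.{u}) 0).op ⋙ preadditiveYoneda.obj X

/-- cycles give classes -/
noncomputable def τ : (secI I).cycles 0 ⟶ P (DerivedCategory.Q.obj I) where
  app U := AddCommGrpCat.ofHom ((ψ I U.unop).comp (toZ0 I U))
  naturality U V a := by
    ext z
    refine Eq.trans ?_ (ψ_nat I a.unop (toZ0 I U z)).symm
    exact congrArg (ψ I V.unop) (Subtype.ext (NatTrans.naturality_apply ((secI I).iCycles 0) a z))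

theorem presheaf_iso [I.IsKInjective] : Nonempty (P (DerivedCategory.Q.obj I) ≅ (secI I).homology 0) := by
  have hzero : ∀ U z, (τ I).app U z = 0 ↔ ∃ y, ((secI I).toCycles (-1) 0).app U y = z := by
    intro U z
    refine (ψ_eq_zero_iff I U.unop (toZ0 I U z)).trans ⟨fun ⟨y, hy⟩ => ⟨y, (toZ0_bijective I U).1 (Subtype.ext ?_)⟩, fun ⟨y, hy⟩ => ⟨y, ?_⟩⟩
    · exact (ConcreteCategory.congr_hom (congr_app ((secI I).toCycles_i (i := -1) (j := 0)) U) y).trans hy
    · exact (ConcreteCategory.congr_hom (congr_app ((secI I).toCycles_i (i := -1) (j := 0)) U) y).symm.trans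
        (congrArg (((secI I).iCycles 0).app U) hy)
  have w : (secI I).toCycles (-1) 0 ≫ τ I = 0 := by
    ext U y
    exact (hzero U _).2 ⟨y, rfl⟩
  let S := ShortComplex.mk _ _ w
  have hS : S.Exact := by
    rw [S.exact_iff_isZero_homology]
    refine Functor.isZero _ fun U => ?_
    refine IsZero.of_iso ((ShortComplex.exact_iff_isZero_homology _).1 ?_)
      (S.mapHomologyIso ((evaluation Cᵒᵖ AddCommGrpCat.{u}).obj U)).symm
    exact (ShortComplex.ab_exact_iff _).2 fun z hz => (hzero U z).1 hz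
  have : Epi S.g := by
    rw [NatTrans.epi_iff_epi_app]
    intro U
    rw [AddCommGrpCat.epi_iff_surjective]
    exact (ψ_surjective I U.unop).comp (toZ0_bijective I U).2
  exact ⟨IsColimit.coconePointUniqueUpToIso hS.gIsCokernel
    ((secI I).homologyIsCokernel (-1) 0 (by simp))⟩

theorem sheafify_iso [I.IsKInjective] :
    Nonempty ((presheafToSheaf J AddCommGrpCat.{u}).obj (P (DerivedCategory.Q.obj I)) ≅ I.homology 0) := by
  obtain ⟨e⟩ := presheaf_iso I
  let S := presheafToSheaf J AddCommGrpCat.{u}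
  let η : sheafToPresheaf J AddCommGrpCat.{u} ⋙ S ≅ 𝟭 _ := asIso (sheafificationAdjunction J AddCommGrpCat.{u}).counit
  let ec : (S.mapHomologicalComplex (ComplexShape.up ℤ)).obj (secI I) ≅ I :=
    HomologicalComplex.Hom.isoOfComponents (fun i => η.app (I.X i)) (fun i j _ => (η.hom.naturality (I.d i j)).symm)
  exact ⟨S.mapIso e ≪≫ (((secI I).sc 0).mapHomologyIso S).symm ≪≫
    (HomologicalComplex.homologyFunctor _ _ 0).mapIso ec⟩

theorem main (K : DerivedCategory (Sheaf J AddCommGrpCat.{u})) (q : ℤ) :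
    Nonempty ((presheafToSheaf J AddCommGrpCat.{u}).obj (CohCx.HDUPresheaf K q) ≅ CohCx.HD K q) := by
  obtain ⟨I, hI, ⟨e⟩⟩ := H5KApps.exists_kInj_iso H5KApps.enoughKInj_of_grothendieck
    ((shiftFunctor (DerivedCategory (Sheaf J AddCommGrpCat.{u})) q).obj K)
  obtain ⟨s⟩ := sheafify_iso I
  let H := DerivedCategory.homologyFunctor (Sheaf J AddCommGrpCat.{u})
  exact ⟨(presheafToSheaf J AddCommGrpCat.{u}).mapIso (Functor.isoWhiskerLeft _ (preadditiveYoneda.mapIso e.symm)) ≪≫ s ≪≫
    ((DerivedCategory.homologyFunctorFactors (Sheaf J AddCommGrpCat.{u}) 0).app I).symm ≪≫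
    (H 0).mapIso e ≪≫ ((H 0).shiftIso q 0 q (by simp)).app K⟩

end Groth.Agent.LHDUSheaf
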