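import Groth.Agent.Lib.LTopPushFF
import Groth.Prelude.Def_CohCx

/-! The sheaf of sections supported in a closed subset of an injective sheaf is injective. -/

universe u

open CategoryTheory Limits TopologicalSpace Opposite StalkSkyscraperPresheafAdjunctionAuxs

namespace Groth.Agent.LHZInj

theorem injective_HZ {X : TopCat.{u}} (U : Opens X) (I : CohTop.Ab X) [Injective I] :
    Injective (CohCx.HZ U I) := by
  classical
  let i := CohCx.inclCompl U
  let j := CohCx.incl U
  let adj : CohTop.pull i ⊣ CohTop.push i := TopCat.Sheaf.pullbackPushforwardAdjunction AddCommGrpCat.{u} i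
  let adjU : CohTop.pull j ⊣ CohTop.push j := TopCat.Sheaf.pullbackPushforwardAdjunction AddCommGrpCat.{u} j
  let K := CohCx.sectSupp U I
  let ι : K ⟶ I := kernel.ι _
  have hi : Topology.IsInducing i := ⟨rfl⟩
  have := Groth.Agent.LTopPushFF.push_full i hi
  have := Groth.Agent.LTopPushFF.push_faithful i hi
  have hj : Topology.IsOpenEmbedding j := U.isOpenEmbedding'
  -- sheaves supported off U
  have hvan : ∀ (G : CohTop.Ab (TopCat.of ((U : Set X)ᶜ : Set X))) (t : (CohTop.push i).obj G ⟶ I),
      t ≫ adjU.unit.app I = 0 := fun G t => by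
    have hz : IsZero ((CohTop.pull j).obj ((CohTop.push i).obj G)) := by
      refine IsZero.of_iso ?_ ((hj.sheafPullbackIso AddCommGrpCat.{u}).app _)
      have h0 : IsZero ((hj.sheafPullback AddCommGrpCat.{u}).obj ((CohTop.push i).obj G)).obj :=
        Functor.isZero _ fun W => (TopCat.Sheaf.isTerminalOfEqEmpty G (U := (Opens.map i).obj (hj.functor.obj W.unop))
          (Opens.ext (Set.eq_empty_iff_forall_notMem.2 fun z hz => z.2 (by
            obtain ⟨x, _, hx⟩ := hz
            change i z ∈ (U : Set X)
            exact hx ▸ x.2)))).isZero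
      rw [IsZero.iff_id_eq_zero]
      exact ObjectProperty.hom_ext _ (h0.eq_of_src _ _)
    exact (adjU.homEquiv _ _).symm.injective (hz.eq_of_src _ _)
  have hKU : ∀ (V : Opens X), V ≤ U → ∀ s : K.obj.obj (op V), s = 0 := fun V hV s => by
    have h : ι ≫ adjU.unit.app I = 0 := kernel.condition _
    have : (CohTop.pull j).IsLeftAdjoint := adjU.isLeftAdjoint
    have : (CohTop.pull j).PreservesZeroMorphisms := Functor.preservesZeroMorphisms_of_isLeftAdjoint _
    have hp : (CohTop.pull j).map ι = 0 := by
      have := congrArg (fun t => (CohTop.pull j).map t ≫ adjU.counit.app _) h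
      simp only [Functor.map_comp, Category.assoc] at this
      erw [adjU.left_triangle_components, Category.comp_id] at this
      exact this.trans (by rw [Functor.map_zero, zero_comp])
    have hn : (hj.sheafPullback AddCommGrpCat.{u}).map ι = 0 := by
      have := (hj.sheafPullbackIso AddCommGrpCat.{u}).hom.naturality ι
      erw [hp] at this
      exact (cancel_epi ((hj.sheafPullbackIso AddCommGrpCat.{u}).hom.app _)).1 (this.symm.trans (zero_comp.trans comp_zero.symm))
    obtain ⟨W, rfl⟩ : ∃ W : Opens (TopCat.of U), hj.functor.obj W = V := ⟨(Opens.map j).obj V, Opens.ext (by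
      ext x
      exact ⟨fun ⟨y, hy, e⟩ => e ▸ hy, fun hx => ⟨⟨x, hV hx⟩, hx, rfl⟩⟩)⟩
    have h1 : ι.hom.app (op (hj.functor.obj W)) = 0 := congrArg (fun t => t.hom.app (op W)) hn
    have : Mono (ι.hom.app (op (hj.functor.obj W))) := by
      have : Mono ((sheafToPresheaf _ _).map ι) := inferInstance
      exact (inferInstance : Mono (((sheafToPresheaf _ _).map ι).app _))
    exact (AddCommGrpCat.mono_iff_injective _).1 this (by rw [h1]; rfl)
  have hη : Mono (adj.unit.app K) := by
    have : Mono (adj.unit.app K).hom := by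
      have : ∀ V, Mono ((adj.unit.app K).hom.app V) := by
        rintro ⟨V⟩
        rw [AddCommGrpCat.mono_iff_injective, injective_iff_map_eq_zero]
        intro s hs
        refine TopCat.Presheaf.section_ext K V s 0 fun x hx => ?_
        rw [map_zero]
        by_cases hxU : x ∈ U
        · exact (TopCat.Presheaf.germ_res_apply (TopCat.Sheaf.presheaf K) (homOfLE (inf_le_left : V ⊓ U ≤ V)) x ⟨hx, hxU⟩ s).symm.trans
            ((congrArg ((TopCat.Sheaf.presheaf K).germ (V ⊓ U) x ⟨hx, hxU⟩) (hKU _ inf_le_right _)).trans (map_zero _))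
        · let z : TopCat.of ((U : Set X)ᶜ : Set X) := ⟨x, hxU⟩
          letI hd : ∀ W : Opens X, Decidable (i z ∈ W) := fun W => Classical.dec (z ∈ (Opens.map i).obj W)
          letI : ∀ W : Opens (TopCat.of ((U : Set X)ᶜ : Set X)), Decidable (z ∈ W) := fun W => Classical.dec _
          let t : K ⟶ (CohTop.push i).obj (skyscraperSheaf z ((TopCat.Sheaf.presheaf K).stalk (i z))) :=
            ⟨toSkyscraperPresheaf (i z) (𝟙 ((TopCat.Sheaf.presheaf K).stalk (i z)))⟩
          have ht : t = adj.unit.app K ≫ (CohTop.push i).map ((adj.homEquiv _ _).symm t) :=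
            ((adj.homEquiv_apply _ _ _).symm.trans ((adj.homEquiv _ _).apply_symm_apply t)).symm
          have h2 : t.hom.app (op V) s = 0 := by
            rw [ht]
            exact (congrArg (((CohTop.push i).map ((adj.homEquiv _ _).symm t)).hom.app (op V)) hs).trans (map_zero _)
          have h3 := ConcreteCategory.congr_hom
            (germ_fromStalk (i z) (toSkyscraperPresheaf (i z) (𝟙 ((TopCat.Sheaf.presheaf K).stalk (i z)))) V hx) s
          rw [fromStalk_to_skyscraper, Category.comp_id] at h3
          refine h3.trans ?_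
          erw [ConcreteCategory.comp_apply, h2, map_zero]
      exact NatTrans.mono_of_mono_app _
    exact (sheafToPresheaf _ _).mono_of_mono_map this
  obtain ⟨φ₀, hφ₀⟩ := @Injective.factors _ _ I _ K _ ι (adj.unit.app K) hη
  let φ : (CohTop.push i).obj ((CohTop.pull i).obj K) ⟶ K := kernel.lift _ φ₀ (hvan _ φ₀)
  have hφ : adj.unit.app K ≫ φ = 𝟙 K := by
    rw [← cancel_mono ι, Category.assoc]
    exact ((congrArg (fun t => adj.unit.app K ≫ t) (kernel.lift_ι _ φ₀ _)).trans hφ₀).trans (Category.id_comp ι).symm
  have hφ' : φ ≫ adj.unit.app K = 𝟙 _ := by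
    obtain ⟨t, ht⟩ := (CohTop.push i).map_surjective (φ ≫ adj.unit.app K)
    have h1 : adj.homEquiv _ _ t = adj.homEquiv _ _ (𝟙 _) := by
      rw [adj.homEquiv_apply, adj.homEquiv_apply, ht, ← Category.assoc, hφ, CategoryTheory.Functor.map_id,
        Category.id_comp]
      exact (Category.comp_id _).symm
    rw [← ht, (adj.homEquiv _ _).injective h1, CategoryTheory.Functor.map_id]
  refine ⟨fun {G G'} g a _ => ?_⟩
  have : (CohTop.push i).IsRightAdjoint := adj.isRightAdjoint
  have : Mono ((CohTop.push i).map a) := (CohTop.push i).map_mono a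
  obtain ⟨h, hh⟩ := Injective.factors (((CohTop.push i).map g) ≫ φ ≫ ι) ((CohTop.push i).map a)
  obtain ⟨g', hg'⟩ := (CohTop.push i).map_surjective (kernel.lift _ h (hvan _ h) ≫ adj.unit.app K)
  refine ⟨g', (CohTop.push i).map_injective ?_⟩
  have h4 : (CohTop.push i).map a ≫ kernel.lift _ h (hvan _ h) = (CohTop.push i).map g ≫ φ := by
    rw [← cancel_mono ι, Category.assoc, Category.assoc]
    exact (congrArg (fun t => (CohTop.push i).map a ≫ t) (kernel.lift_ι _ h _)).trans hh
  rw [Functor.map_comp, hg', reassoc_of% h4, hφ']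
  exact Category.comp_id _

end Groth.Agent.LHZInj
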