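import Groth.Agent.Lib.LDerPrecomp
import Groth.Agent.Lib.LHDURestr
import Groth.Prelude.Def_CohCx

universe u

open CategoryTheory Limits TopologicalSpace Opposite

namespace Groth.Agent.LRpushOn

variable {X : TopCat.{u}}

/-- restriction is pullback -/
noncomputable def restrIsoPull (U : Opens X) : CohTop.restrFunctor U ≅ CohTop.pull (CohCx.incl U) :=
  (Iso.refl _ : CohTop.restrFunctor U ≅ (U.isOpenEmbedding'.sheafPullback AddCommGrpCat.{u})) ≪≫
    (U.isOpenEmbedding'.sheafPullbackIso AddCommGrpCat.{u}).symm

lemma injective_restr (U : Opens X) (I : CohTop.Ab X) [Injective I] : Injective (CohTop.restr I U) := by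
  let R := CohTop.restrFunctor U
  let E := (U.sheafEquivOver (A := AddCommGrpCat.{u}))
  let F := (Over.forget U).sheafPushforwardContinuous AddCommGrpCat.{u} ((Opens.grothendieckTopology X).over U) (Opens.grothendieckTopology X)
  haveI := LOverExtZero.lan_preservesFiniteLimits U
  let adj := Functor.sheafPullbackConstruction.sheafAdjunctionContinuous (Over.forget U) AddCommGrpCat.{u} ((Opens.grothendieckTopology X).over U) (Opens.grothendieckTopology X)
  haveI : PreservesFiniteLimits (Functor.sheafPullbackConstruction.sheafPullback (Over.forget U) AddCommGrpCat.{u} ((Opens.grothendieckTopology X).over U) (Opens.grothendieckTopology X)) := by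
    haveI : PreservesFiniteLimits ((Over.forget U).op.lan ⋙ presheafToSheaf (Opens.grothendieckTopology X) AddCommGrpCat.{u}) :=
      comp_preservesFiniteLimits _ _
    apply comp_preservesFiniteLimits
  haveI : Injective (F.obj I) := Injective.injective_of_adjoint adj I
  exact Injective.injective_of_adjoint E.symm.toAdjunction (F.obj I)

theorem main (U : Opens X) (q : ℕ) :
    Nonempty (CohCx.RpushOn (𝟙 X) U q ≅ CohTop.restrFunctor U ⋙ CohTop.Rpush (CohCx.incl U) q) := by
  have h1 : ∀ {Z : TopCat.{u}} (f : Z ⟶ X), PreservesFiniteLimits (CohTop.pull f) ∧ PreservesFiniteColimits (CohTop.pull f) ∧ (CohTop.push f).Additive :=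
    fun f => ⟨inferInstance, inferInstance, inferInstance⟩
  obtain ⟨_, _, _⟩ := h1 (CohCx.incl U)
  haveI : PreservesFiniteLimits (CohTop.restrFunctor U) := preservesFiniteLimits_of_natIso (restrIsoPull U).symm
  haveI : PreservesFiniteColimits (CohTop.restrFunctor U) := preservesFiniteColimits_of_natIso (restrIsoPull U).symm
  exact LDerPrecomp.nonempty_precomp (CohTop.restrFunctor U) (fun I _ => injective_restr U I) (CohTop.push (CohCx.incl U)) q

end Groth.Agent.LRpushOn
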