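import Groth.Agent.Lib.LDerConn
import Groth.Agent.Lib.LFlasqueHZ
import Groth.Agent.Lib.LRpushOn

/-! Local cohomology sheaves versus higher direct images from the open complement. -/

universe u

open CategoryTheory Limits TopologicalSpace Opposite

namespace Groth.Agent.LHZshConn

variable {X : TopCat.{u}} (U : Opens X)

lemma unit_app_surjective (I : CohTop.Ab X) (hI : TopCat.Sheaf.IsFlasque I) (V : Opens X) :
    Function.Surjective (((LTopDetect.adj (CohCx.incl U)).unit.app I).hom.app (op V)) := by
  let j := CohCx.incl U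
  let G := (CohTop.pull j).obj I
  have hj : Topology.IsOpenEmbedding j := U.isOpenEmbedding'
  let W := V ⊓ U
  have : IsIso (((CohTop.push j).obj G).obj.map (homOfLE (inf_le_left : W ≤ V)).op) := by
    have he : (Opens.map j).obj V = (Opens.map j).obj W := Opens.ext (by
      ext x
      exact ⟨fun hx => ⟨hx, x.2⟩, fun hx => hx.1⟩)
    change IsIso (G.obj.map _)
    exact ⟨G.obj.map (homOfLE he.le).op, by rw [← Functor.map_comp]; exact G.obj.map_id _,
      by rw [← Functor.map_comp]; exact G.obj.map_id _⟩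
  have hW : Function.Bijective (((LTopDetect.adj j).unit.app I).hom.app (op W)) := by
    have h1 : IsIso ((CohTop.pull j).map ((LTopDetect.adj j).unit.app I)) := by
      have : (CohTop.push j).Full := LTopPushFF.push_full j hj.isInducing
      have : (CohTop.push j).Faithful := LTopPushFF.push_faithful j hj.isInducing
      have : IsIso (LTopDetect.adj j).counit := inferInstance
      have : IsIso ((CohTop.pull j).map ((LTopDetect.adj j).unit.app I) ≫ (LTopDetect.adj j).counit.app _) := by
        rw [(LTopDetect.adj j).left_triangle_components I]; exact IsIso.id _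
      exact IsIso.of_isIso_comp_right _ ((LTopDetect.adj j).counit.app _)
    have h2 : IsIso ((hj.sheafPullback AddCommGrpCat.{u}).map ((LTopDetect.adj j).unit.app I)) :=
      (NatIso.isIso_map_iff (hj.sheafPullbackIso AddCommGrpCat.{u}) _).1 h1
    obtain ⟨W', hW'⟩ : ∃ W' : Opens (TopCat.of U), hj.functor.obj W' = W := ⟨(Opens.map j).obj W, Opens.ext (by
      ext x
      exact ⟨fun ⟨y, hy, e⟩ => e ▸ hy, fun hx => ⟨⟨x, hx.2⟩, hx, rfl⟩⟩)⟩
    rw [← hW']
    have h3 := @Functor.map_isIso _ _ _ _ _ _ (sheafToPresheaf _ _) _ h2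
    have h4 := @Functor.map_isIso _ _ _ _ _ _ ((evaluation _ _).obj (op W')) _ h3
    have : IsIso (((LTopDetect.adj j).unit.app I).hom.app (op (hj.functor.obj W'))) := h4
    exact ConcreteCategory.bijective_of_isIso (((LTopDetect.adj j).unit.app I).hom.app (op (hj.functor.obj W')))
  intro t
  obtain ⟨s₀, hs₀⟩ := hW.2 (((CohTop.push j).obj G).obj.map (homOfLE (inf_le_left : W ≤ V)).op t)
  obtain ⟨s, hs⟩ := LFlasqueHZ.surj_res I hI (inf_le_left : W ≤ V) s₀
  refine ⟨s, (AddCommGrpCat.mono_iff_injective (((CohTop.push j).obj G).obj.map (homOfLE (inf_le_left : W ≤ V)).op)).1 inferInstance ?_⟩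
  exact ((NatTrans.naturality_apply ((LTopDetect.adj j).unit.app I).hom (homOfLE (inf_le_left : W ≤ V)).op s).symm.trans
    ((congrArg (((LTopDetect.adj j).unit.app I).hom.app _) hs).trans hs₀))

theorem main :
    Nonempty (LocCohZ.HZsh U 1 ≅
      cokernel (TopCat.Sheaf.pullbackPushforwardAdjunction AddCommGrpCat.{u} (CohCx.incl U)).unit) ∧
      ∀ i : ℕ, 1 ≤ i →
        Nonempty (LocCohZ.HZsh U (i + 1) ≅ CohTop.pull (CohCx.incl U) ⋙ CohTop.Rpush (CohCx.incl U) i) := by
  let j := CohCx.incl U
  have hgen : ∀ {Z : TopCat.{u}} (f : Z ⟶ X), PreservesFiniteLimits (CohTop.pull f) ∧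
      PreservesFiniteColimits (CohTop.pull f) ∧ (CohTop.push f).Additive ∧ (CohTop.pull f).Additive :=
    fun f => ⟨inferInstance, inferInstance, inferInstance, inferInstance⟩
  obtain ⟨_, _, _, _⟩ := hgen j
  have : (CohTop.push j).IsRightAdjoint := (LTopDetect.adj j).isRightAdjoint
  have : PreservesFiniteLimits (CohTop.pull j ⋙ CohTop.push j) := comp_preservesFiniteLimits _ _
  let α : LocCohZ.sectSuppF U ⟶ 𝟭 (CohTop.Ab X) :=
    { app := fun F => kernel.ι _
      naturality := fun F G φ => kernel.lift_ι _ _ _ }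
  let β : 𝟭 (CohTop.Ab X) ⟶ CohTop.pull j ⋙ CohTop.push j := (LTopDetect.adj j).unit
  have w : α ≫ β = 0 := NatTrans.ext (funext fun F => kernel.condition _)
  have h : ∀ I : CohTop.Ab X, Injective I → (ShortComplex.mk (α.app I) (β.app I) (by
      rw [← NatTrans.comp_app, w]; rfl)).ShortExact := fun I hI => by
    have : Mono (α.app I) := (inferInstance : Mono (kernel.ι _))
    have : Epi (β.app I) := by
      have : ∀ V, Epi ((β.app I).hom.app V) := fun V => (AddCommGrpCat.epi_iff_surjective _).2
        (unit_app_surjective U I (H5TopCoh.flasque_injective I) V.unop)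
      have : Epi (β.app I).hom := NatTrans.epi_of_epi_app _
      exact (sheafToPresheaf _ _).epi_of_epi_map this
    exact ShortComplex.ShortExact.mk' (ShortComplex.exact_of_f_is_kernel _ (kernelIsKernel (β.app I))) ‹_› ‹_›
  refine ⟨LDerConn.one_iso α β w h, fun i hi => ?_⟩
  obtain ⟨n, rfl⟩ : ∃ n, i = n + 1 := ⟨i - 1, by omega⟩
  obtain ⟨e⟩ := LDerConn.succ_iso α β w h n
  have hinj : ∀ F : CohTop.Ab X, Injective F → Injective ((CohTop.pull j).obj F) := fun F hF => by
    have := LRpushOn.injective_restr U F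
    exact Injective.of_iso ((LRpushOn.restrIsoPull U).app F) this
  obtain ⟨e'⟩ := LDerPrecomp.nonempty_precomp (CohTop.pull j) hinj (CohTop.push j) (n + 1)
  exact ⟨e.symm ≪≫ e'⟩

end Groth.Agent.LHZshConn
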