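import Groth.Agent.Lib.LRpushQCoh
import Groth.Agent.Lib.LDerConn
import Groth.Agent.Lib.LDerPrecomp
import Groth.Agent.Lib.LExtZero
import Groth.Agent.Lib.LQcqs
import Groth.Agent.Lib.LQAff
import Groth.Prelude.Def_LocCohZ
import Groth.Prelude.Def_CxOX

/-! Local cohomology sheaves of modules: left exactness of `Γ_Z`, exact sequence on injectives, quasi-coherence. -/

set_option autoImplicit false
universe u
open CategoryTheory Category Limits AlgebraicGeometry Opposite TopologicalSpace

namespace Groth.Agent.LHZshMQCoh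
open Groth.Agent

variable {U Y : Scheme.{u}} (j : U ⟶ Y) [IsOpenImmersion j]

/-- `j_* j^*` -/
noncomputable abbrev T : Y.Modules ⥤ Y.Modules := Scheme.Modules.restrictFunctor j ⋙ Scheme.Modules.pushforward j

/-- unit -/
noncomputable abbrev β : 𝟭 Y.Modules ⟶ T j := (Scheme.Modules.restrictAdjunction j).unit

lemma comp_eq_zero : CxOX.gammaZι j ≫ β j = 0 := NatTrans.ext (funext fun _ => kernel.condition _)

instance mono_ι (F : Y.Modules) : Mono ((CxOX.gammaZι j).app F) := inferInstanceAs (Mono (kernel.ι _))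

instance preservesFiniteLimits_T : PreservesFiniteLimits (T j) := by
  have : (Scheme.Modules.pushforward j).IsRightAdjoint := (Scheme.Modules.restrictAdjunction j).isRightAdjoint
  have : PreservesFiniteLimits (Scheme.Modules.restrictFunctor j) := inferInstance
  exact comp_preservesFiniteLimits _ _

instance preservesFiniteLimits_gammaZ : PreservesFiniteLimits (DCoh.gammaZ j) := by
  refine ((Functor.preservesFiniteLimits_tfae (DCoh.gammaZ j)).out 0 3).1 fun S hS => ?_
  have := hS.mono_f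
  let ι := CxOX.gammaZι j
  have hm : Mono ((DCoh.gammaZ j).map S.f) := by
    have h : (DCoh.gammaZ j).map S.f ≫ ι.app S.X₂ = ι.app S.X₁ ≫ S.f := ι.naturality S.f
    have : Mono ((DCoh.gammaZ j).map S.f ≫ ι.app S.X₂) := by rw [h]; infer_instance
    exact mono_of_mono _ (ι.app S.X₂)
  refine ⟨ShortComplex.exact_of_f_is_kernel _ (@KernelFork.IsLimit.ofι' _ _ _ _ _ _ _ ((DCoh.gammaZ j).map S.f)
    (S.map (DCoh.gammaZ j)).zero (fun {W} x hx => ?_) hm), hm⟩
  have h1 : (x ≫ ι.app S.X₂) ≫ S.g = 0 := by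
    have h : (DCoh.gammaZ j).map S.g ≫ ι.app S.X₃ = ι.app S.X₂ ≫ S.g := ι.naturality S.g
    rw [assoc, ← h, ← assoc]
    erw [hx, zero_comp]
  let y := hS.fIsKernel.lift (KernelFork.ofι _ h1)
  have hy : y ≫ S.f = x ≫ ι.app S.X₂ := hS.fIsKernel.fac (KernelFork.ofι _ h1) WalkingParallelPair.zero
  have hy0 : y ≫ (β j).app S.X₁ = 0 := by
    have : Mono ((T j).map S.f) := (T j).map_mono S.f
    rw [← cancel_mono ((T j).map S.f), zero_comp, assoc, ← (β j).naturality]
    simp only [Functor.id_map]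
    rw [reassoc_of% hy]
    erw [kernel.condition, comp_zero]
  refine ⟨kernel.lift _ y hy0, ?_⟩
  rw [← cancel_mono (ι.app S.X₂), assoc]
  have h : (DCoh.gammaZ j).map S.f ≫ ι.app S.X₂ = ι.app S.X₁ ≫ S.f := ι.naturality S.f
  erw [h, ← assoc, kernel.lift_ι]
  exact hy

lemma epi_unit (I : Y.Modules) [Injective I] : Epi ((β j).app I) := by
  have : ∀ V, Epi (((Scheme.Modules.toPresheaf Y).map ((β j).app I)).app V) := fun V =>
    (AddCommGrpCat.epi_iff_surjective _).2 (show Function.Surjective (((β j).app I).app V.unop) by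
      rw [Scheme.Modules.restrictAdjunction_unit_app_app]
      intro s
      obtain ⟨t, ht⟩ := LExtZero.res_surjective_of_injective I (j ''ᵁ (j ⁻¹ᵁ V.unop)) s
      refine ⟨LQcoh.res I (le_top : V.unop ≤ ⊤) t, ?_⟩
      exact (LQcoh.res_res I (le_top : V.unop ≤ ⊤) (j.image_preimage_le V.unop) t).trans ht)
  have : Epi ((Scheme.Modules.toPresheaf Y).map ((β j).app I)) := NatTrans.epi_of_epi_app _
  exact (Scheme.Modules.toPresheaf Y).epi_of_epi_map this

lemma shortExact_inj (I : Y.Modules) (hI : Injective I) :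
    (ShortComplex.mk ((CxOX.gammaZι j).app I) ((β j).app I) (by
      rw [← NatTrans.comp_app, comp_eq_zero]; rfl)).ShortExact :=
  ShortComplex.ShortExact.mk' (ShortComplex.exact_of_f_is_kernel _ (kernelIsKernel ((β j).app I))) (mono_ι j I) (epi_unit j I)

variable [HasInjectiveResolutions Y.Modules] [QuasiCompact j]

theorem main (M : Y.Modules) (hM : Coh.IsQCoh M) (q : ℕ) : Coh.IsQCoh ((LocCohZ.HZshM j q).obj M) := by
  haveI : M.IsQuasicoherent := hM
  haveI hr : ((Scheme.Modules.restrictFunctor j).obj M).IsQuasicoherent := inferInstance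
  haveI : ((T j).obj M).IsQuasicoherent := LQcoh.isQuasicoherent_push j _
  haveI : ((𝟭 Y.Modules).obj M).IsQuasicoherent := hM
  match q with
  | 0 =>
    have hk : Coh.IsQCoh ((DCoh.gammaZ j).obj M) := LQcoh.isQuasicoherent_kernel _
    exact H7AffineD.qcoh_of_iso ((Functor.rightDerivedZeroIsoSelf (DCoh.gammaZ j)).app M).symm hk
  | 1 =>
    obtain ⟨e⟩ := LDerConn.one_iso (CxOX.gammaZι j) (β j) (comp_eq_zero j) (shortExact_inj j)
    have hk : Coh.IsQCoh (cokernel ((β j).app M)) := LQcoh.isQuasicoherent_cokernel _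
    exact H7AffineD.qcoh_of_iso (e.app M ≪≫ PreservesCokernel.iso ((evaluation _ _).obj M) (β j)).symm hk
  | n + 2 =>
    obtain ⟨e⟩ := LDerConn.succ_iso (CxOX.gammaZι j) (β j) (comp_eq_zero j) (shortExact_inj j) n
    obtain ⟨e'⟩ := LDerPrecomp.nonempty_precomp (Scheme.Modules.restrictFunctor j)
      (fun I hI => @LExtZero.injective_restrict _ _ j _ I hI) (Scheme.Modules.pushforward j) (n + 1)
    exact H7AffineD.qcoh_of_iso ((e.symm ≪≫ e').app M).symm
      (LRpushQCoh.isQCoh_rightDerived_push j _ hr (n + 1))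

end Groth.Agent.LHZshMQCoh
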