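import Mathlib

set_option autoImplicit false
universe u v
namespace LHarb

variable {P : Type u} {ι : Type v} [Fintype ι] {inc : P → ι → Prop} {h : ℕ}

theorem multiple_finite (hfin : ∀ i j : ι, i ≠ j → {p : P | inc p i ∧ inc p j}.Finite) :
    {p : P | 2 ≤ Nat.card {j : ι // inc p j}}.Finite := by
  classical
  refine ((Set.finite_univ (α := ι × ι)).biUnion (t := fun x => if hx : x.1 ≠ x.2 then {p : P | inc p x.1 ∧ inc p x.2} else ∅)
    (fun x _ => ?_)).subset ?_
  · by_cases hx : x.1 ≠ x.2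
    · rw [dif_pos hx]; exact hfin _ _ hx
    · rw [dif_neg hx]; exact Set.finite_empty
  · intro p hp
    rw [Set.mem_setOf_eq, Nat.card_eq_fintype_card] at hp
    obtain ⟨⟨a, ha⟩, ⟨b, hb⟩, hab⟩ := Fintype.one_lt_card_iff.1 hp
    have hne : a ≠ b := fun e => hab (Subtype.ext e)
    exact Set.mem_biUnion (x := (a, b)) (Set.mem_univ _) (by rw [dif_pos hne]; exact ⟨ha, hb⟩)

theorem two_le_of_two {p : P} {i j : ι} (hij : i ≠ j) (hi : inc p i) (hj : inc p j) :
    2 ≤ Nat.card {j : ι // inc p j} := by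
  classical
  rw [Nat.card_eq_fintype_card]
  exact Fintype.one_lt_card_iff.2 ⟨⟨i, hi⟩, ⟨j, hj⟩, fun e => hij (congrArg Subtype.val e)⟩

theorem pair_card [DecidableRel inc] (hfin : ∀ i j : ι, i ≠ j → {p : P | inc p i ∧ inc p j}.Finite)
    (hcount : ∀ i j : ι, i ≠ j → {p : P | inc p i ∧ inc p j}.ncard = h) {i j : ι} (hij : i ≠ j) :
    ((multiple_finite hfin).toFinset.filter fun p => inc p i ∧ inc p j).card = h := by
  classical
  rw [← hcount i j hij, ← Set.ncard_coe_finset]
  congr 1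
  ext p
  simp only [Finset.coe_filter, Set.Finite.mem_toFinset]
  exact ⟨fun h => h.2, fun h => ⟨two_le_of_two hij h.1 h.2, h⟩⟩

theorem card_multiple (hfin : ∀ i j : ι, i ≠ j → {p : P | inc p i ∧ inc p j}.Finite) :
    Nat.card {p : P // 2 ≤ Nat.card {j : ι // inc p j}} = (multiple_finite hfin).toFinset.card := by
  rw [← Set.ncard_eq_toFinset_card _ (multiple_finite hfin)]; rfl

end LHarb
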