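import Mathlib

/-! A limit of K-injective complexes along termwise split epimorphisms is K-injective. -/

set_option autoImplicit false
universe v u
open CategoryTheory Limits Opposite CochainComplex.HomComplex

namespace Groth.Agent.LKInjLimit

variable {A : Type u} [Category.{v} A] [Abelian A]

lemma step {K L L' : CochainComplex A ℤ} [L.IsKInjective] [L'.IsKInjective] (hK : K.Acyclic) (P : L' ⟶ L)
    (hP : ∀ m, IsSplitEpi (P.f m)) (f : K ⟶ L') (g : K ⟶ L) (hfg : f ≫ P = g) (h : Cochain K L (-1))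
    (hh : δ (-1) 0 h = Cochain.ofHom g) :
    ∃ h' : Cochain K L' (-1), δ (-1) 0 h' = Cochain.ofHom f ∧
      h'.comp (Cochain.ofHom P) (add_zero (-1)) = h := by
  obtain ⟨ho⟩ := CochainComplex.IsKInjective.nonempty_homotopy_zero f hK
  obtain ⟨k, hk⟩ := Cochain.equivHomotopy _ _ ho
  rw [Cochain.ofHom_zero, add_zero] at hk
  let z : Cocycle K L (-1) := Cocycle.mk (k.comp (Cochain.ofHom P) (add_zero (-1)) - h) 0 (by norm_num) (by
    rw [δ_sub, δ_comp_ofHom, ← hk, hh, ← Cochain.ofHom_comp, hfg, sub_self])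
  obtain ⟨α, hα⟩ := CochainComplex.IsKInjective.eq_δ_of_cocycle z hK (-2) (by norm_num)
  let s : Cochain L L' 0 := Cochain.ofHoms fun p => (hP p).exists_splitEpi.some.section_
  have hs : s.comp (Cochain.ofHom P) (add_zero 0) = Cochain.ofHom (𝟙 L) := by
    ext p
    simp [s]
  let α' : Cochain K L' (-2) := α.comp s (add_zero (-2))
  have hα' : α'.comp (Cochain.ofHom P) (add_zero (-2)) = α := by
    rw [Cochain.comp_assoc_of_third_is_zero_cochain, hs, Cochain.comp_id]
  refine ⟨k - δ (-2) (-1) α', ?_, ?_⟩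
  · rw [δ_sub, δ_δ, sub_zero, hk]
  · rw [Cochain.sub_comp, ← δ_comp_ofHom, hα', hα]
    show _ - (k.comp (Cochain.ofHom P) (add_zero (-1)) - h) = h
    rw [sub_sub_cancel]

theorem main [HasLimitsOfShape ℕᵒᵖ A]
    (I : ℕᵒᵖ ⥤ CochainComplex A ℤ) (h1 : ∀ n : ℕ, (I.obj (op n)).IsKInjective)
    (h2 : ∀ (n : ℕ) (m : ℤ), IsSplitEpi ((I.map (homOfLE (Nat.le_succ n)).op).f m)) :
    (limit I).IsKInjective := by
  refine ⟨fun {K} φ hK => ?_⟩
  let f : ∀ n : ℕ, K ⟶ I.obj (op n) := fun n => φ ≫ limit.π I (op n)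
  have hf : ∀ n, f (n + 1) ≫ I.map (homOfLE n.le_succ).op = f n := fun n => by
    simp only [f, Category.assoc, limit.w]
  have h0 : ∃ h : Cochain K (I.obj (op 0)) (-1), δ (-1) 0 h = Cochain.ofHom (f 0) := by
    obtain ⟨ho⟩ := (h1 0).nonempty_homotopy_zero (f 0) hK
    obtain ⟨k, hk⟩ := Cochain.equivHomotopy _ _ ho
    rw [Cochain.ofHom_zero, add_zero] at hk
    exact ⟨k, hk.symm⟩
  have hstep : ∀ (n : ℕ) (h : Cochain K (I.obj (op n)) (-1)), δ (-1) 0 h = Cochain.ofHom (f n) →
      ∃ h' : Cochain K (I.obj (op (n + 1))) (-1), δ (-1) 0 h' = Cochain.ofHom (f (n + 1)) ∧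
        h'.comp (Cochain.ofHom (I.map (homOfLE n.le_succ).op)) (add_zero (-1)) = h := fun n h hh => by
    haveI := h1 n; haveI := h1 (n + 1)
    exact step hK _ (h2 n) _ _ (hf n) h hh
  let seq : ∀ n : ℕ, {h : Cochain K (I.obj (op n)) (-1) // δ (-1) 0 h = Cochain.ofHom (f n)} := fun n =>
    Nat.rec ⟨h0.choose, h0.choose_spec⟩
      (fun n h => ⟨(hstep n h.1 h.2).choose, (hstep n h.1 h.2).choose_spec.1⟩) n
  have hseq : ∀ {a b : ℕ} (hab : a ≤ b) (p q : ℤ) (hpq : p + (-1) = q),
      (seq b).1.v p q hpq ≫ (I.map (homOfLE hab).op).f q = (seq a).1.v p q hpq := by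
    intro a b hab
    induction hab with
    | refl =>
      intro p q hpq
      rw [show (homOfLE (le_refl a)).op = 𝟙 (op a) from rfl, I.map_id, HomologicalComplex.id_f, Category.comp_id]
    | @step m hle ih =>
      intro p q hpq
      have := Cochain.congr_v (hstep m (seq m).1 (seq m).2).choose_spec.2 p q hpq
      rw [Cochain.comp_zero_cochain_v, Cochain.ofHom_v] at this
      rw [show (homOfLE (Nat.le_trans hle m.le_succ)).op = (homOfLE m.le_succ).op ≫ (homOfLE hle).op from rfl,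
        I.map_comp, HomologicalComplex.comp_f, ← Category.assoc, this, ih p q hpq]
  let hlim : ∀ q : ℤ, IsLimit ((HomologicalComplex.eval A (ComplexShape.up ℤ) q).mapCone (limit.cone I)) :=
    fun q => isLimitOfPreserves _ (limit.isLimit I)
  let H : Cochain K (limit I) (-1) := Cochain.mk fun p q hpq => (hlim q).lift
    { pt := K.X p
      π :=
        { app := fun n => (seq n.unop).1.v p q hpq
          naturality := fun n m g => by
            show 𝟙 _ ≫ _ = (seq n.unop).1.v p q hpq ≫ (I.map g).f q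
            rw [Category.id_comp, ← hseq (leOfHom g.unop) p q hpq]
            rfl } }
  have hH : ∀ n : ℕ, H.comp (Cochain.ofHom (limit.π I (op n))) (add_zero (-1)) = (seq n).1 := fun n => by
    ext p q hpq
    rw [Cochain.comp_zero_cochain_v, Cochain.ofHom_v]
    exact (hlim q).fac _ (op n)
  have hδ : δ (-1) 0 H = Cochain.ofHom φ := by
    ext p
    refine (hlim p).hom_ext fun n => ?_
    have := Cochain.congr_v (δ_comp_ofHom H (limit.π I n) 0) p p (add_zero p)
    rw [show n = op n.unop from rfl, hH, (seq n.unop).2, Cochain.comp_zero_cochain_v, Cochain.ofHom_v,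
      Cochain.ofHom_v] at this
    rw [Cochain.ofHom_v]
    exact this.symm.trans (HomologicalComplex.comp_f _ _ _)
  exact ⟨(Cochain.equivHomotopy φ 0).symm ⟨H, by rw [Cochain.ofHom_zero, add_zero, hδ]⟩⟩

end Groth.Agent.LKInjLimit
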