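import Mathlib

set_option autoImplicit false
universe u
open TensorProduct

namespace Groth.Agent.LMatrixAut

variable {R : Type u} [CommRing R] {n : ℕ}

local notation "Mat" => Matrix (Fin n) (Fin n) R

noncomputable def act (N : Type u) [AddCommGroup N] [Module R N] :
    Matrix (Fin n) (Fin n) R →ₐ[R] Module.End R (Fin n → N) :=
  AlgHom.ofLinearMap
    { toFun := fun A => LinearMap.pi fun i => ∑ j, A i j • LinearMap.proj j
      map_add' := fun A B => by ext v i; simp [add_smul, Finset.sum_add_distrib]
      map_smul' := fun r A => by ext v i; simp [Finset.smul_sum, mul_smul] }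
    (by ext v i; simp [Matrix.one_apply, ite_smul])
    (fun A B => by
      ext v i
      simp [Matrix.mul_apply, Finset.sum_smul, Finset.smul_sum, mul_smul]
      rw [Finset.sum_comm])

theorem act_apply (N : Type u) [AddCommGroup N] [Module R N] (A : Matrix (Fin n) (Fin n) R) (v : Fin n → N) (i : Fin n) :
    act N A v i = ∑ j, A i j • v j := by
  simp [act]

theorem single_act (N : Type u) [AddCommGroup N] [Module R N] (a b : Fin n) (r : R) (v : Fin n → N) :
    act N (Matrix.single a b r) v = Pi.single a (r • v b) := by
  ext i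
  rw [act_apply]
  rcases eq_or_ne i a with rfl | h
  · simp [Matrix.single_apply, ite_smul]
  · simp [Matrix.single_apply, Pi.single_eq_of_ne h, h.symm]

theorem act_bijective (hn : 0 < n) (N : Type u) [AddCommGroup N] [Module R N] [Module.Invertible R N] :
    Function.Bijective (act (R := R) (n := n) N) := by
  have hb : Function.Bijective (Module.toModuleEnd R (S := R) N) := Module.Invertible.toModuleEnd_bijective R N
  constructor
  · rw [injective_iff_map_eq_zero]
    intro A hA
    ext i j
    refine FaithfulSMul.eq_of_smul_eq_smul (α := N) fun x => ?_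
    have := congrFun (LinearMap.congr_fun hA (Pi.single j x)) i
    rw [act_apply, Finset.sum_eq_single j (fun b _ hb => by simp [Pi.single_eq_of_ne hb]) (by simp)] at this
    simpa using this
  · intro F
    choose a ha using fun i j => hb.2 ((LinearMap.proj i) ∘ₗ F ∘ₗ LinearMap.single R (fun _ : Fin n => N) j)
    refine ⟨Matrix.of a, ?_⟩
    refine LinearMap.pi_ext fun j x => funext fun i => ?_
    rw [act_apply, Finset.sum_eq_single j (fun b _ hb => by simp [Pi.single_eq_of_ne hb]) (by simp)]
    have := LinearMap.congr_fun (ha i j) x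
    simpa using this

theorem free_of_inner (hn : 0 < n) (h : ∀ φ : Mat ≃ₐ[R] Mat, ∃ P : GL (Fin n) R, ∀ A : Mat, φ A = P.1 * A * (P⁻¹).1)
    (N : Type u) [AddCommGroup N] [Module R N] [Module.Invertible R N]
    (ψ : (Fin n → N) ≃ₗ[R] (Fin n → R)) : Module.Free R N := by
  let e : Mat ≃ₐ[R] Mat := ((AlgEquiv.ofBijective (act N) (act_bijective hn N)).trans
    (ψ.conjAlgEquiv R)).trans (Matrix.toLinAlgEquiv' (R := R) (n := Fin n)).symm
  obtain ⟨P, hP⟩ := h e
  let p : (Fin n → R) ≃ₗ[R] (Fin n → R) := Matrix.toLin'OfInv (M := (P⁻¹).1) (M' := P.1)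
    (by simp) (by simp)
  let T : (Fin n → R) ≃ₗ[R] (Fin n → N) := p.trans ψ.symm
  have key : ∀ (A : Mat) (w : Fin n → R), act N A (T w) = T (A.mulVec w) := by
    intro A w
    have h1 : ψ (act N A (ψ.symm (P.1.mulVec w))) = (P.1 * A * (P⁻¹).1).mulVec (P.1.mulVec w) := by
      rw [← hP A]
      simp [e, ← Matrix.toLinAlgEquiv'_apply]
    have h2 : (P.1 * A * (P⁻¹).1).mulVec (P.1.mulVec w) = P.1.mulVec (A.mulVec w) := by
      simp [Matrix.mulVec_mulVec, mul_assoc]
    have hp : ∀ v, p v = P.1.mulVec v := fun v => Matrix.toLin'_apply _ _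
    simp only [T, LinearEquiv.trans_apply, hp, ← h2, ← h1, LinearEquiv.symm_apply_apply]
  let z : Fin n := ⟨0, hn⟩
  let f : R →ₗ[R] N := (LinearMap.proj z) ∘ₗ T.toLinearMap ∘ₗ LinearMap.single R (fun _ : Fin n => R) z
  have hf : Function.Bijective f := by
    constructor
    · rw [injective_iff_map_eq_zero]
      intro r hr
      have h3 := key (Matrix.single z z 1) (Pi.single z r)
      rw [single_act] at h3
      have h4 : (Matrix.single z z (1 : R)).mulVec (Pi.single z r) = Pi.single z r := by
        rw [Matrix.single_mulVec, Pi.single_eq_same, one_mul]; rfl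
      have hr' : T (Pi.single z r) z = 0 := by simpa [f] using hr
      rw [h4, one_smul, hr', Pi.single_zero] at h3
      have : Pi.single z r = (0 : Fin n → R) := T.map_eq_zero_iff.mp h3.symm
      simpa using congrFun this z
    · intro x
      obtain ⟨w, hw⟩ := T.surjective (Pi.single z x)
      have h3 := key (Matrix.single z z 1) w
      rw [hw, single_act, Pi.single_eq_same, one_smul, ← hw] at h3
      have h4 := T.injective h3
      refine ⟨w z, ?_⟩
      have h5 : (Matrix.single z z (1 : R)).mulVec w = Pi.single z (w z) := by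
        rw [Matrix.single_mulVec, one_mul]; rfl
      show T (Pi.single z (w z)) z = x
      rw [← h5, ← h4, hw, Pi.single_eq_same]
  exact Module.Free.of_equiv (LinearEquiv.ofBijective f hf)

theorem inner_of_free (hn : 0 < n)
    (h : ∀ (N : Type u) [AddCommGroup N] [Module R N] [Module.Invertible R N],
        Nonempty ((Fin n → N) ≃ₗ[R] (Fin n → R)) → Module.Free R N)
    (φ : Mat ≃ₐ[R] Mat) : ∃ P : GL (Fin n) R, ∀ A : Mat, φ A = P.1 * A * (P⁻¹).1 := by
  nontriviality R
  let z : Fin n := ⟨0, hn⟩
  let Φ : Mat ≃ₐ[R] Module.End R (Fin n → R) := φ.trans Matrix.toLinAlgEquiv'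
  let E : Fin n → Fin n → Module.End R (Fin n → R) := fun i j => Φ (Matrix.single i j 1)
  have hE1 : ∀ i j l, E i j * E j l = E i l := fun i j l => by simp [E, ← map_mul]
  have hE1' : ∀ i j l x, E i j (E j l x) = E i l x := fun i j l x => by
    rw [← hE1 i j l]; rfl
  have hE0 : ∀ i j k l x, j ≠ k → E i j (E k l x) = 0 := fun i j k l x hjk => by
    have : E i j * E k l = 0 := by simp [E, ← map_mul, Matrix.single_mul_single_of_ne _ _ _ _ hjk]
    exact LinearMap.congr_fun this x
  have hsum : ∀ x, ∑ i, E i i x = x := fun x => by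
    have : ∑ i, E i i = 1 := by
      simp only [E, ← map_sum]
      rw [show (∑ i : Fin n, Matrix.single i i (1 : R)) = 1 from Matrix.sum_single_one, map_one]
    simpa using LinearMap.congr_fun this x
  let N : Submodule R (Fin n → R) := LinearMap.range (E z z)
  have hN : ∀ (i : Fin n) (v : Fin n → R), E z i v ∈ N := fun i v => ⟨E z i v, hE1' ..⟩
  have hfix : ∀ x : N, E z z x = x := by
    rintro ⟨x, y, rfl⟩; exact hE1' ..
  let ψ : (Fin n → N) ≃ₗ[R] (Fin n → R) :=
    LinearEquiv.ofLinear (∑ i, E i z ∘ₗ N.subtype ∘ₗ LinearMap.proj i)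
      (LinearMap.pi fun i => (E z i).codRestrict N (hN i))
      (LinearMap.ext fun v => by simp [LinearMap.sum_apply, hE1', hsum])
      (LinearMap.ext fun w => funext fun i => Subtype.ext (by
        simp [LinearMap.sum_apply, map_sum]
        rw [Finset.sum_eq_single i (fun b _ hb => hE0 _ _ _ _ _ (Ne.symm hb)) (by simp), hE1', hfix]))
  let π : (Fin n → R) →ₗ[R] N := (E z z).codRestrict N (hN z)
  have hπ : π ∘ₗ N.subtype = LinearMap.id := LinearMap.ext fun x => Subtype.ext (hfix x)
  have : Module.Projective R N := Module.Projective.of_split _ _ hπ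
  have : Module.Finite R N := Module.Finite.range _
  let s : R →ₗ[R] Module.End R N := Algebra.linearMap R _
  have hs : Function.Bijective s := by
    constructor
    · rw [injective_iff_map_eq_zero]
      intro r hr
      have : r • Pi.single z (1 : R) = (0 : Fin n → R) := by
        rw [← ψ.apply_symm_apply (Pi.single z 1), ← map_smul]
        convert map_zero ψ
        funext i
        exact LinearMap.congr_fun hr _
      simpa using congrFun this z
    · intro g
      let G : Module.End R (Fin n → R) := N.subtype ∘ₗ g ∘ₗ π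
      let H : Module.End R (Fin n → R) := ∑ i, E i z * G * E z i
      have hc : ∀ a b, Commute (E a b) H := by
        intro a b
        have h1 : E a b * H = E a z * G * E z b := by
          rw [Finset.mul_sum, Finset.sum_eq_single b]
          · rw [← mul_assoc, ← mul_assoc, hE1]
          · intro i _ hi
            refine LinearMap.ext fun x => ?_
            simp [hE0 _ _ _ _ _ (Ne.symm hi)]
          · simp
        have h2 : H * E a b = E a z * G * E z b := by
          rw [Finset.sum_mul, Finset.sum_eq_single a]
          · rw [mul_assoc, hE1]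
          · intro i _ hi
            refine LinearMap.ext fun x => ?_
            simp [hE0 _ _ _ _ _ hi]
          · simp
        exact h1.trans h2.symm
      obtain ⟨r, hr⟩ := Matrix.mem_range_scalar_of_commute_single (M := Φ.symm H) fun a b _ => by
        have := (hc a b).map Φ.symm
        simpa [E] using this
      refine ⟨r, LinearMap.ext fun x => Subtype.ext ?_⟩
      have hH : H = r • 1 := by
        rw [← Φ.apply_symm_apply H, ← hr]
        simp [Matrix.scalar_apply, ← Matrix.smul_one_eq_diagonal]
      have hx : H x = g x := by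
        rw [← hfix x]
        simp only [H, LinearMap.sum_apply, Module.End.mul_apply]
        rw [Finset.sum_eq_single z (fun b _ hb => by simp [hE0 _ _ _ _ _ hb]) (by simp)]
        simp only [hfix, G, LinearMap.comp_apply, Submodule.subtype_apply]
        rw [show π x = x from Subtype.ext (hfix x)]
      rw [← hx, hH]
      simp [s]
  have : Module.Invertible R N :=
    Module.Invertible.right ((dualTensorHomEquiv R N N).trans (LinearEquiv.ofBijective s hs).symm)
  obtain ⟨u⟩ := Module.Invertible.free_iff_linearEquiv.mp (h N ⟨ψ⟩)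
  let T : (Fin n → R) ≃ₗ[R] (Fin n → R) := (LinearEquiv.piCongrRight fun _ => u.symm).trans ψ
  refine ⟨⟨LinearMap.toMatrix' T.toLinearMap, LinearMap.toMatrix' T.symm.toLinearMap,
    by simp [← LinearMap.toMatrix'_comp], by simp [← LinearMap.toMatrix'_comp]⟩, fun A => ?_⟩
  apply Matrix.toLinAlgEquiv'.injective
  show Φ A = _
  have key : ∀ (A : Mat) (w : Fin n → R), Φ A (T w) = T (A.mulVec w) := by
    intro A
    induction A using Matrix.induction_on' with
    | h_zero => simp
    | h_add p q hp hq => intro w; simp [Matrix.add_mulVec, hp w, hq w]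
    | h_std_basis a b c =>
      intro w
      have hT : ∀ v, T v = ∑ i, E i z ((u.symm (v i) : N) : Fin n → R) := fun v => by
        simp [T, ψ, LinearMap.sum_apply]
      rw [hT, hT, map_sum]
      have hc : Φ (Matrix.single a b c) = c • E a b := by
        simp [E, ← map_smul, Matrix.smul_single]
      rw [hc]
      simp only [LinearMap.smul_apply]
      rw [Finset.sum_eq_single b (fun i _ hi => by rw [hE0 _ _ _ _ _ (Ne.symm hi), smul_zero]) (by simp),
        Finset.sum_eq_single a (fun i _ hi => by simp [Matrix.single_mulVec, Function.update_of_ne hi]) (by simp),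
        hE1']
      simp [Matrix.single_mulVec, ← map_smul, ← Submodule.coe_smul, mul_comm]
  refine LinearMap.ext fun v => ?_
  obtain ⟨w, rfl⟩ := T.surjective v
  rw [key]
  simp [← Matrix.mulVec_mulVec, Matrix.toLinAlgEquiv'_apply, LinearMap.toMatrix'_mulVec]

end Groth.Agent.LMatrixAut
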