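import Mathlib

/-! An isomorphism of endomorphism algebras comes from an invertible twist. -/

set_option autoImplicit false
universe u
open scoped TensorProduct

namespace Groth.Agent.LMorita

variable {A : Type u} [CommRing A]
variable {F G : Type u} [AddCommGroup F] [Module A F] [AddCommGroup G] [Module A G]

/-- maps intertwining `φ`. -/
def Hom (φ : Module.End A F ≃ₐ[A] Module.End A G) : Submodule A (F →ₗ[A] G) where
  carrier := {l | ∀ h y, φ h (l y) = l (h y)}
  add_mem' := fun {l m} hl hm h y => by simp [hl h y, hm h y]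
  zero_mem' := fun h y => by simp
  smul_mem' := fun c l hl h y => by simp [hl h y]

theorem exists_dualBasis (A F : Type u) [CommRing A] [AddCommGroup F] [Module A F] [Module.Finite A F] [Module.Projective A F] :
    ∃ (n : ℕ) (y : Fin n → F) (g : Fin n → Module.Dual A F), ∀ x, ∑ k, g k x • y k = x := by
  obtain ⟨n, p, s, -, -, hps⟩ := Module.Finite.exists_comp_eq_id_of_projective A F
  refine ⟨n, fun k => p (Pi.single k 1), fun k => LinearMap.proj k ∘ₗ s, fun x => ?_⟩
  conv_rhs => rw [← LinearMap.congr_fun hps x |>.trans (LinearMap.id_apply x)]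
  simp only [LinearMap.comp_apply, LinearMap.proj_apply, ← map_smul, ← map_sum]
  congr 1
  ext i
  simp [Pi.single_apply]

theorem exists_trace_one (A F : Type u) [CommRing A] [AddCommGroup F] [Module A F] [Module.Finite A F] [Module.Projective A F]
    [Module.FaithfullyFlat A F] :
    ∃ (n : ℕ) (x : Fin n → F) (f : Fin n → Module.Dual A F), ∑ i, f i (x i) = 1 := by
  obtain ⟨n, y, g, h⟩ := exists_dualBasis A F
  let I : Ideal A := ⨆ k, LinearMap.range (g k)
  have hI : I = ⊤ := by
    by_contra hI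
    obtain ⟨m, hm, hIm⟩ := Ideal.exists_le_maximal I hI
    refine Module.FaithfullyFlat.submodule_ne_top (R := A) (M := F) hm (Submodule.eq_top_iff'.mpr fun x => ?_)
    rw [← h x]
    exact sum_mem fun k _ => Submodule.smul_mem_smul (hIm (le_iSup (fun k => LinearMap.range (g k)) k ⟨x, rfl⟩)) trivial
  have h1 : (1 : A) ∈ I := hI ▸ trivial
  obtain ⟨c, hc⟩ := (Submodule.mem_iSup_iff_exists_finsupp (fun k => LinearMap.range (g k)) 1).mp h1
  choose x hx using fun k => hc.1 k
  refine ⟨n, x, g, ?_⟩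
  simp only [hx]
  rw [← hc.2, Finsupp.sum_fintype _ _ (fun _ => rfl)]

variable (φ : Module.End A F ≃ₐ[A] Module.End A G)

theorem twist [Module.Finite A F] [Module.Projective A F] [Module.FaithfullyFlat A F] [Module.Finite A G] [Module.Projective A G]
    [Module.FaithfullyFlat A G] :
    Module.Invertible A (Hom φ) ∧ ∃ ξ : F ⊗[A] Hom φ ≃ₗ[A] G, ∀ f : Module.End A F, φ f = ξ.conj (TensorProduct.map f LinearMap.id) := by
  classical
  obtain ⟨n, y, g, hy⟩ := exists_dualBasis A F
  obtain ⟨r, w, g', hw⟩ := exists_dualBasis A G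
  obtain ⟨p, x, fx, htr⟩ := exists_trace_one A F
  obtain ⟨p', x', fx', htr'⟩ := exists_trace_one A G
  let θ : Module.Dual A F → F → Module.End A F := fun f v => f.smulRight v
  let θ' : Module.Dual A G → G → Module.End A G := fun f v => f.smulRight v
  -- lifts
  let lift : Module.Dual A F → G →ₗ[A] Hom φ := fun f =>
    { toFun := fun v => ⟨(LinearMap.applyₗ v) ∘ₗ φ.toLinearMap ∘ₗ (LinearMap.smulRightₗ f), fun h z => by
        show φ h (φ (f.smulRight z) v) = φ (f.smulRight (h z)) v
        rw [← Module.End.mul_apply, ← map_mul]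
        congr 2
        ext t; simp⟩
      map_add' := fun v v' => Subtype.ext (LinearMap.ext fun z => by simp)
      map_smul' := fun c v => Subtype.ext (LinearMap.ext fun z => by simp) }
  let lift' : Module.Dual A G → F →ₗ[A] Hom φ.symm := fun f =>
    { toFun := fun v => ⟨(LinearMap.applyₗ v) ∘ₗ φ.symm.toLinearMap ∘ₗ (LinearMap.smulRightₗ f), fun h z => by
        show φ.symm h (φ.symm (f.smulRight z) v) = φ.symm (f.smulRight (h z)) v
        rw [← Module.End.mul_apply, ← map_mul]
        congr 2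
        ext t; simp⟩
      map_add' := fun v v' => Subtype.ext (LinearMap.ext fun z => by simp)
      map_smul' := fun c v => Subtype.ext (LinearMap.ext fun z => by simp) }
  let fwd : F ⊗[A] Hom φ →ₗ[A] G := TensorProduct.lift ((Hom φ).subtype.flip)
  let bwd : G →ₗ[A] F ⊗[A] Hom φ := ∑ k, (TensorProduct.mk A F (Hom φ) (y k)) ∘ₗ lift (g k)
  have hsum : ∑ k, θ (g k) (y k) = 1 := LinearMap.ext fun z => by simpa [θ] using hy z
  have hfb : fwd ∘ₗ bwd = LinearMap.id := LinearMap.ext fun v => by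
    simp only [fwd, bwd, LinearMap.comp_apply, LinearMap.sum_apply, map_sum, TensorProduct.mk_apply, TensorProduct.lift.tmul]
    show ∑ k, φ (θ (g k) (y k)) v = v
    rw [← LinearMap.sum_apply, ← map_sum, hsum, map_one, Module.End.one_apply]
  have hbf : bwd ∘ₗ fwd = LinearMap.id := TensorProduct.ext' fun z l => by
    simp only [fwd, bwd, LinearMap.comp_apply, LinearMap.sum_apply, TensorProduct.mk_apply, TensorProduct.lift.tmul, LinearMap.id_apply]
    have : ∀ k, lift (g k) ((Hom φ).subtype.flip z l) = g k z • l := fun k => Subtype.ext (LinearMap.ext fun t => by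
      show φ (θ (g k) t) (l.1 z) = g k z • l.1 t
      rw [l.2]; simp [θ])
    simp only [this, ← TensorProduct.smul_tmul]
    rw [← TensorProduct.sum_tmul, hy]
  let ξ : F ⊗[A] Hom φ ≃ₗ[A] G := LinearEquiv.ofLinear fwd bwd hfb hbf
  refine ⟨?_, ξ, fun f => LinearMap.ext fun v => ?_⟩
  swap
  · obtain ⟨t, rfl⟩ := ξ.surjective v
    rw [LinearEquiv.conj_apply_apply, LinearEquiv.symm_apply_apply]
    induction t using TensorProduct.induction_on with
    | zero => simp
    | add a b ha hb => simp [ha, hb]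
    | tmul z l => exact l.2 f z
  -- scalars
  let c : Module.End A F →ₗ[A] A := ∑ i, (fx i) ∘ₗ LinearMap.applyₗ (x i)
  let c' : Module.End A G →ₗ[A] A := ∑ i, (fx' i) ∘ₗ LinearMap.applyₗ (x' i)
  have hc : ∀ h : Module.End A F, (∀ (k : Module.End A F) (v : F), k (h v) = h (k v)) → ∀ v, h v = c h • v := fun h hh v => by
    have e : ∀ i, fx i (h (x i)) • v = fx i (x i) • h v := fun i => by simpa [θ] using hh (θ (fx i) v) (x i)
    calc h v = (∑ i, fx i (x i)) • h v := by rw [htr, one_smul]
      _ = c h • v := by simp [c, Finset.sum_smul, ← e]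
  have hc' : ∀ h : Module.End A G, (∀ (k : Module.End A G) (v : G), k (h v) = h (k v)) → ∀ v, h v = c' h • v := fun h hh v => by
    have e : ∀ i, fx' i (h (x' i)) • v = fx' i (x' i) • h v := fun i => by simpa [θ'] using hh (θ' (fx' i) v) (x' i)
    calc h v = (∑ i, fx' i (x' i)) • h v := by rw [htr', one_smul]
      _ = c' h • v := by simp [c', Finset.sum_smul, ← e]
  have hql : ∀ (q : Hom φ.symm) (l : Hom φ) (v : F), q.1 (l.1 v) = c (q.1 ∘ₗ l.1) • v := fun q l v =>
    hc (q.1 ∘ₗ l.1) (fun k z => by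
      have h1 := q.2 (φ k) (l.1 z)
      rw [AlgEquiv.symm_apply_apply, l.2] at h1
      exact h1) v
  have hlq : ∀ (l : Hom φ) (q : Hom φ.symm) (v : G), l.1 (q.1 v) = c' (l.1 ∘ₗ q.1) • v := fun l q v =>
    hc' (l.1 ∘ₗ q.1) (fun k z => by
      have h1 := l.2 (φ.symm k) (q.1 z)
      rw [AlgEquiv.apply_symm_apply, q.2] at h1
      exact h1) v
  let μ : Hom φ.symm ⊗[A] Hom φ →ₗ[A] A :=
    TensorProduct.lift (((LinearMap.llcomp A F G F).compl₁₂ (Hom φ.symm).subtype (Hom φ).subtype).compr₂ c)
  have hμ : ∀ q l, μ (q ⊗ₜ l) = c (q.1 ∘ₗ l.1) := fun q l => rfl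
  have hone : ∃ t, μ t = 1 := by
    refine ⟨∑ i, ∑ k, ∑ m, fx i (y m) • (lift' (g' k) (x i) ⊗ₜ lift (g m) (w k)), ?_⟩
    have hid : ∀ v : F, ∑ k, ∑ m, c ((lift' (g' k) v).1 ∘ₗ (lift (g m) (w k)).1) • y m = v := by
      intro v
      have h1 : ∑ k, θ' (g' k) (w k) = 1 := LinearMap.ext fun z => by simpa [θ'] using hw z
      have h2 : ∀ k, ∑ m, (lift (g m) (w k)).1 (y m) = w k := fun k => by
        show ∑ m, φ (θ (g m) (y m)) (w k) = w k
        rw [← LinearMap.sum_apply, ← map_sum, hsum, map_one, Module.End.one_apply]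
      calc _ = ∑ k, (lift' (g' k) v).1 (∑ m, (lift (g m) (w k)).1 (y m)) := by simp [← hql]
        _ = ∑ k, φ.symm (θ' (g' k) (w k)) v := Finset.sum_congr rfl fun k _ => by rw [h2]; rfl
        _ = v := by rw [← LinearMap.sum_apply, ← map_sum, h1, map_one, Module.End.one_apply]
    simp only [map_sum, map_smul, hμ]
    rw [← htr]
    refine Finset.sum_congr rfl fun i _ => ?_
    conv_rhs => rw [← hid (x i)]
    simp [mul_comm]
  obtain ⟨t₀, ht₀⟩ := hone
  have hswap : ∀ (q q' : Hom φ.symm) (l l' : Hom φ), c (q'.1 ∘ₗ l'.1) • (q ⊗ₜ[A] l) = c (q.1 ∘ₗ l.1) • (q' ⊗ₜ[A] l') := by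
    intro q q' l l'
    have e1 : c (q'.1 ∘ₗ l'.1) • l = c' (l.1 ∘ₗ q'.1) • l' := Subtype.ext (LinearMap.ext fun v => by
      show c (q'.1 ∘ₗ l'.1) • l.1 v = c' (l.1 ∘ₗ q'.1) • l'.1 v
      rw [← map_smul, ← hql, hlq])
    have e2 : c' (l.1 ∘ₗ q'.1) • q = c (q.1 ∘ₗ l.1) • q' := Subtype.ext (LinearMap.ext fun v => by
      show c' (l.1 ∘ₗ q'.1) • q.1 v = c (q.1 ∘ₗ l.1) • q'.1 v
      rw [← map_smul, ← hlq, hql])
    rw [← TensorProduct.tmul_smul, e1, TensorProduct.tmul_smul, TensorProduct.smul_tmul', e2, ← TensorProduct.smul_tmul']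
  have key : ∀ s t, μ t • s = μ s • t := by
    intro s t
    induction t using TensorProduct.induction_on with
    | zero => simp
    | add a b ha hb => rw [map_add, add_smul, smul_add, ha, hb]
    | tmul q' l' =>
      induction s using TensorProduct.induction_on with
      | zero => simp
      | add a b ha hb => rw [map_add, smul_add, add_smul, ha, hb]
      | tmul q l => exact hswap q q' l l'
  exact Module.Invertible.right (LinearEquiv.ofBijective μ ⟨fun s s' hs => by
      have h1 := key s t₀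
      have h2 := key s' t₀
      rw [ht₀, one_smul] at h1 h2
      rw [h1, h2, hs], fun a => ⟨a • t₀, by rw [map_smul, ht₀, smul_eq_mul, mul_one]⟩⟩)

end Groth.Agent.LMorita
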