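import Mathlib

/-! the filtration `S_{≥ n}` and its graded ring `S♮` -/

set_option autoImplicit false
universe u
open DirectSum

namespace Groth.Agent.LNatural

variable {R A B : Type u} [CommRing R] [CommRing A] [Algebra R A] (𝒜 : ℕ → Submodule R A) [GradedAlgebra 𝒜]
  [CommRing B] [Algebra R B]

noncomputable def I (n : ℕ) : Submodule R A := ⨆ (m : ℕ) (_ : n ≤ m), 𝒜 m

theorem le_I {n m : ℕ} (h : n ≤ m) : 𝒜 m ≤ I 𝒜 n := fun _ hx =>
  Submodule.mem_iSup_of_mem m (Submodule.mem_iSup_of_mem h hx)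

theorem I_mul (a b : ℕ) : I 𝒜 a * I 𝒜 b ≤ I 𝒜 (a + b) := by
  simp only [I, Submodule.iSup_mul, Submodule.mul_iSup]
  refine iSup₂_le fun i hi => iSup₂_le fun j hj => ?_
  exact (Submodule.mul_le.2 fun x hx y hy => SetLike.mul_mem_graded hx hy).trans (le_I 𝒜 (by omega))

theorem decompose_eq_zero_of_mem_I {n : ℕ} {x : A} (hx : x ∈ I 𝒜 n) {i : ℕ} (hi : i < n) :
    (decompose 𝒜 x i : A) = 0 := by
  induction hx using Submodule.iSup_induction' with
  | mem m x hx =>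
    by_cases hm : n ≤ m
    · rw [iSup_pos hm] at hx
      exact decompose_of_mem_ne 𝒜 hx (by omega)
    · rw [iSup_neg hm] at hx
      simp [(Submodule.mem_bot R).1 hx]
  | zero => simp
  | add x y _ _ hx hy => rw [decompose_add, DirectSum.add_apply, Submodule.coe_add, hx, hy, add_zero]

/-- the lowest component of a product -/
theorem decompose_mul_mem {a b : ℕ} {x y : A} (hx : x ∈ I 𝒜 a) (hy : y ∈ I 𝒜 b) :
    (decompose 𝒜 (x * y) (a + b) : A) = (decompose 𝒜 x a : A) * decompose 𝒜 y b := by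
  classical
  rw [decompose_mul, DirectSum.coe_mul_apply_eq_dfinsuppSum, DFinsupp.sum]
  rw [Finset.sum_eq_single a]
  · rw [DFinsupp.sum, Finset.sum_eq_single b]
    · simp
    · intro j _ hj
      rw [if_neg]
      omega
    · intro h
      rw [DFinsupp.notMem_support_iff.1 h]
      simp
  · intro i _ hi
    rw [DFinsupp.sum]
    refine Finset.sum_eq_zero fun j _ => ?_
    split_ifs with hij
    · rcases lt_or_gt_of_ne hi with h | h
      · rw [decompose_eq_zero_of_mem_I 𝒜 hx h, zero_mul]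
      · rw [decompose_eq_zero_of_mem_I 𝒜 hy (show j < b by omega), mul_zero]
    · rfl
  · intro h
    rw [DFinsupp.notMem_support_iff.1 h]
    simp [DFinsupp.sum]

variable {ℬ : ℕ → Submodule R B} (φ : B →ₐ[R] Polynomial A) (hφ : Function.Injective φ)
  (hdeg : ∀ n : ℕ, Submodule.map φ.toLinearMap (ℬ n) =
    Submodule.map ((Polynomial.monomial n : A →ₗ[A] Polynomial A).restrictScalars R) (I 𝒜 n))

noncomputable def mono (n : ℕ) : A →ₗ[R] Polynomial A := (Polynomial.monomial n : A →ₗ[A] Polynomial A).restrictScalars R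

theorem mono_injective (n : ℕ) : Function.Injective (mono (R := R) (A := A) n) := fun _ _ h =>
  Polynomial.monomial_injective n h

theorem map_mono_mul (m n : ℕ) (P Q : Submodule R A) :
    Submodule.map (mono m) P * Submodule.map (mono n) Q = Submodule.map (mono (R := R) (m + n)) (P * Q) := by
  refine le_antisymm (Submodule.mul_le.2 ?_) ?_
  · rintro _ ⟨x, hx, rfl⟩ _ ⟨y, hy, rfl⟩
    exact ⟨x * y, Submodule.mul_mem_mul hx hy, (Polynomial.monomial_mul_monomial m n x y).symm⟩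
  · rw [Submodule.map_le_iff_le_comap, Submodule.mul_le]
    intro x hx y hy
    show mono (R := R) (m + n) (x * y) ∈ Submodule.map (mono (R := R) (A := A) m) P * Submodule.map (mono (R := R) (A := A) n) Q
    rw [show mono (R := R) (m + n) (x * y) = mono (R := R) m x * mono (R := R) n y from (Polynomial.monomial_mul_monomial m n x y).symm]
    exact Submodule.mul_mem_mul ⟨x, hx, rfl⟩ ⟨y, hy, rfl⟩

include hφ hdeg in
theorem eq_mul_iff (m n : ℕ) : ℬ (m + n) = ℬ m * ℬ n ↔ I 𝒜 (m + n) = I 𝒜 m * I 𝒜 n := by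
  rw [← (Submodule.map_injective_of_injective (f := φ.toLinearMap) hφ).eq_iff, hdeg, Submodule.map_mul, hdeg, hdeg]
  show Submodule.map (mono (R := R) (m + n)) _ = Submodule.map (mono m) _ * Submodule.map (mono n) _ ↔ _
  rw [map_mono_mul, (Submodule.map_injective_of_injective (mono_injective (m + n))).eq_iff]

include hφ hdeg in
theorem eq_pow_iff (n : ℕ) : ℬ (n + 1) = ℬ 1 ^ (n + 1) ↔ I 𝒜 (n + 1) = I 𝒜 1 ^ (n + 1) := by
  have key : ∀ k, Submodule.map φ.toLinearMap (ℬ 1 ^ (k + 1)) = Submodule.map (mono (R := R) (k + 1)) (I 𝒜 1 ^ (k + 1)) := by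
    intro k
    induction k with
    | zero => rw [zero_add, pow_one, pow_one, hdeg]; rfl
    | succ k ih =>
      rw [pow_succ, Submodule.map_mul, ih, hdeg]
      show _ * Submodule.map (mono 1) _ = _
      rw [map_mono_mul, ← pow_succ]
  rw [← (Submodule.map_injective_of_injective (f := φ.toLinearMap) hφ).eq_iff, hdeg, key]
  exact (Submodule.map_injective_of_injective (mono_injective (n + 1))).eq_iff

end Groth.Agent.LNatural

namespace Groth.Agent.LNatural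

variable {R A : Type u} [CommRing R] [CommRing A] [Algebra R A] (𝒜 : ℕ → Submodule R A) [GradedAlgebra 𝒜]

theorem mul_le_grade (a b : ℕ) : 𝒜 a * 𝒜 b ≤ 𝒜 (a + b) :=
  Submodule.mul_le.2 fun _ hx _ hy => SetLike.mul_mem_graded hx hy

theorem pow_le_grade : ∀ k : ℕ, 1 ≤ k → 𝒜 1 ^ k ≤ 𝒜 k := by
  refine Nat.le_induction ?_ fun k hk ih => ?_
  · rw [pow_one]
  · rw [pow_succ]; exact (mul_le_mul' ih le_rfl).trans (mul_le_grade 𝒜 k 1)

theorem I_pow_le : ∀ k : ℕ, 1 ≤ k → I 𝒜 1 ^ k ≤ I 𝒜 k := by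
  refine Nat.le_induction ?_ fun k hk ih => ?_
  · rw [pow_one]
  · rw [pow_succ]; exact (mul_le_mul' ih le_rfl).trans (I_mul 𝒜 k 1)

theorem mul_rec {a b : ℕ} {P Q : Submodule R A} (hP : P ≤ I 𝒜 a) (hQ : Q ≤ I 𝒜 b) (T U : Submodule R A)
    (hT : ∀ x ∈ P, (decompose 𝒜 x a : A) ∈ T) (hU : ∀ x ∈ Q, (decompose 𝒜 x b : A) ∈ U) :
    ∀ x ∈ P * Q, (decompose 𝒜 x (a + b) : A) ∈ T * U := by
  intro x hx
  induction hx using Submodule.mul_induction_on' with
  | mem_mul_mem p hp q hq =>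
    rw [decompose_mul_mem 𝒜 (hP hp) (hQ hq)]
    exact Submodule.mul_mem_mul (hT p hp) (hU q hq)
  | add p _ q _ h1 h2 =>
    rw [decompose_add, DirectSum.add_apply, Submodule.coe_add]
    exact add_mem h1 h2

theorem mul_iff (n₀ : ℕ) : (∀ n : ℕ, n₀ ≤ n → I 𝒜 (n + 1) = I 𝒜 1 * I 𝒜 n) ↔
    (∀ n : ℕ, n₀ ≤ n → 𝒜 (n + 1) = 𝒜 1 * 𝒜 n) := by
  refine ⟨fun h n hn => le_antisymm (fun x hx => ?_) ?_, fun h n hn => le_antisymm ?_ ?_⟩
  · have h1 := mul_rec 𝒜 le_rfl le_rfl (𝒜 1) (𝒜 n) (fun x _ => SetLike.coe_mem _) (fun x _ => SetLike.coe_mem _) x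
      (h n hn ▸ le_I 𝒜 le_rfl hx)
    rwa [add_comm 1 n, decompose_of_mem_same 𝒜 hx] at h1
  · rw [add_comm n 1]; exact mul_le_grade 𝒜 1 n
  · refine iSup₂_le fun m hm => ?_
    obtain ⟨k, rfl⟩ : ∃ k, m = k + 1 := ⟨m - 1, by omega⟩
    rw [h k (by omega)]
    exact mul_le_mul' (le_I 𝒜 le_rfl) (le_I 𝒜 (by omega))
  · exact (I_mul 𝒜 1 n).trans (by rw [add_comm 1 n])

theorem pow_iff (n₀ : ℕ) (hn₀ : 1 ≤ n₀) : (∀ n : ℕ, n₀ ≤ n → I 𝒜 n = I 𝒜 1 ^ n) ↔
    (∀ n : ℕ, n₀ ≤ n → 𝒜 n = 𝒜 1 ^ n) := by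
  have key : ∀ k : ℕ, 1 ≤ k → ∀ x ∈ I 𝒜 1 ^ k, (decompose 𝒜 x k : A) ∈ 𝒜 1 ^ k := by
    refine Nat.le_induction ?_ fun k hk ih => ?_
    · intro x _; rw [pow_one]; exact SetLike.coe_mem _
    · intro x hx
      rw [pow_succ] at hx ⊢
      exact mul_rec 𝒜 (I_pow_le 𝒜 k hk) le_rfl _ _ ih (fun x _ => SetLike.coe_mem _) x hx
  refine ⟨fun h n hn => le_antisymm (fun x hx => ?_) (pow_le_grade 𝒜 n (hn₀.trans hn)), fun h n hn => le_antisymm ?_ (I_pow_le 𝒜 n (hn₀.trans hn))⟩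
  · have h1 := key n (hn₀.trans hn) x (h n hn ▸ le_I 𝒜 le_rfl hx)
    rwa [decompose_of_mem_same 𝒜 hx] at h1
  · refine iSup₂_le fun m hm => ?_
    obtain ⟨j, rfl⟩ : ∃ j, n = j + 1 := ⟨n - 1, by omega⟩
    obtain ⟨d, rfl⟩ : ∃ d, m = j + (d + 1) := ⟨m - j - 1, by omega⟩
    rw [h (j + (d + 1)) (by omega), pow_add, pow_succ (I 𝒜 1)]
    exact mul_le_mul' (pow_le_pow_left' (le_I 𝒜 le_rfl) j) ((pow_le_grade 𝒜 (d + 1) (by omega)).trans (le_I 𝒜 (by omega)))

end Groth.Agent.LNatural
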