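import Mathlib

set_option autoImplicit false
universe u
open CategoryTheory ProfiniteGrp ProfiniteCompletion

namespace Groth.Agent.LProfComp

variable {G H : GrpCat.{u}}

theorem map_eta (f : G ⟶ H) (a : G) :
    (profiniteCompletion.map f).hom (etaFn G a) = etaFn H (f a) := by
  have := ConcreteCategory.congr_hom (lift_eta (f ≫ eta H)) a
  exact this

/-- component of the completed map -/
theorem map_apply (f : G ⟶ H) (x : completion G) (K : FiniteIndexNormalSubgroup H) :
    ((profiniteCompletion.map f).hom x).1 K =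
      (QuotientGroup.map (K.comap f.hom).toSubgroup K.toSubgroup f.hom fun _ h => h) (x.1 (K.comap f.hom)) := by
  let q := QuotientGroup.map (K.comap f.hom).toSubgroup K.toSubgroup f.hom fun _ h => h
  have h1 : Continuous fun x : completion G => ((profiniteCompletion.map f).hom x).1 K :=
    ((continuous_apply K).comp continuous_subtype_val).comp (profiniteCompletion.map f).hom.continuous_toFun
  haveI : DiscreteTopology ((ProfiniteCompletion.diagram G).obj (K.comap f.hom)).toProfinite.toTop := ⟨rfl⟩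
  let q' : ((ProfiniteCompletion.diagram G).obj (K.comap f.hom)).toProfinite.toTop →
      ((ProfiniteCompletion.diagram H).obj K).toProfinite.toTop := q
  have h2 : Continuous fun x : completion G => q' (x.1 (K.comap f.hom)) :=
    (continuous_of_discreteTopology (f := q')).comp ((continuous_apply _).comp continuous_subtype_val)
  have h4 : ∀ a, ((profiniteCompletion.map f).hom (etaFn G a)).1 K = q' ((etaFn G a).1 (K.comap f.hom)) := by
    intro a
    rw [map_eta]
    rfl
  exact congrFun ((denseRange G).equalizer h1 h2 (funext h4)) x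

theorem mem_closure (S : Set G) (x : completion G)
    (h : ∀ m : FiniteIndexNormalSubgroup G, ∃ a ∈ S, x.1 m = QuotientGroup.mk a) :
    x ∈ closure (etaFn G '' S) := by
  rw [mem_closure_iff]
  rintro U ⟨s, hsO, hsv⟩ hxU
  subst hsv
  change x.1 ∈ s at hxU
  rcases (isOpen_pi_iff.mp hsO) _ hxU with ⟨J, fJ, hJ1, hJ2⟩
  let M : Subgroup G := iInf fun (j : J) => j.val
  have hM : M.Normal := Subgroup.normal_iInf_normal fun j => inferInstance
  have hMFinite : M.FiniteIndex := by
    apply Subgroup.finiteIndex_iInf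
    infer_instance
  let m : FiniteIndexNormalSubgroup G := { toSubgroup := M }
  obtain ⟨a, haS, ha⟩ := h m
  refine ⟨etaFn G a, ?_, a, haS, rfl⟩
  show (etaFn G a).1 ∈ s
  apply hJ2
  intro b b_in_J
  let g : m ⟶ b := (iInf_le (fun (j : J) => (j.val.toSubgroup)) ⟨b, b_in_J⟩).hom
  have h4 := x.2 g
  rw [← (etaFn G a).property g]
  dsimp [etaFn] at ⊢ ha
  rw [← ha]
  exact Set.mem_of_eq_of_mem h4 (hJ1 b b_in_J).right

theorem isClosed_range (f : G ⟶ H) : IsClosed (Set.range (profiniteCompletion.map f).hom) :=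
  (isCompact_range (profiniteCompletion.map f).hom.continuous_toFun).isClosed

theorem surjective_map (f : G ⟶ H) (hf : Function.Surjective f) :
    Function.Surjective (profiniteCompletion.map f).hom := by
  intro y
  have hsub : Set.range (etaFn H) ⊆ Set.range (profiniteCompletion.map f).hom := by
    rintro _ ⟨b, rfl⟩
    obtain ⟨a, rfl⟩ := hf b
    exact ⟨etaFn G a, map_eta f a⟩
  exact (isClosed_range f).closure_subset_iff.2 hsub (denseRange H y)

theorem ker_eq_range (A : Type u) [CommGroup A] (A' : Subgroup A) :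
    (profiniteCompletion.map (GrpCat.ofHom (QuotientGroup.mk' A'))).hom.toMonoidHom.ker =
      (profiniteCompletion.map (GrpCat.ofHom A'.subtype)).hom.toMonoidHom.range := by
  ext x
  constructor
  · intro hx
    have hx' : (profiniteCompletion.map (GrpCat.ofHom (QuotientGroup.mk' A'))).hom x = 1 := hx
    have hcl : x ∈ closure (etaFn (GrpCat.of A) '' (A' : Set A)) := by
      refine mem_closure _ _ fun m => ?_
      obtain ⟨a, ha⟩ := QuotientGroup.mk_surjective (x.1 m)
      haveI : (m.toSubgroup.map (QuotientGroup.mk' A')).FiniteIndex :=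
        ⟨fun h0 => m.toSubgroup.index_ne_zero_of_finite (by
          have := Subgroup.index_map_dvd m.toSubgroup (QuotientGroup.mk'_surjective A')
          rw [h0] at this
          exact Nat.eq_zero_of_zero_dvd this)⟩
      let K : FiniteIndexNormalSubgroup (GrpCat.of (A ⧸ A')) :=
        { toSubgroup := m.toSubgroup.map (QuotientGroup.mk' A') }
      have h1 := map_apply (GrpCat.ofHom (QuotientGroup.mk' A')) x K
      rw [hx'] at h1
      have hle : m ≤ K.comap (QuotientGroup.mk' A') := fun z hz => ⟨z, hz, rfl⟩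
      have h2 := x.2 hle.hom
      erw [← h2, ← ha] at h1
      change (1 : (A ⧸ A') ⧸ K.toSubgroup) = QuotientGroup.mk (QuotientGroup.mk' A' a) at h1
      have h3 : QuotientGroup.mk' A' a ∈ K.toSubgroup := (QuotientGroup.eq_one_iff _).1 h1.symm
      obtain ⟨z, hz, hza⟩ := h3
      refine ⟨a * z⁻¹, ?_, ?_⟩
      · have := QuotientGroup.eq.1 (hza : (z : A ⧸ A') = a)
        rw [SetLike.mem_coe, mul_comm]
        exact this
      · refine ha.symm.trans (QuotientGroup.eq.2 ?_)
        simpa using m.toSubgroup.inv_mem hz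
    have hsub : etaFn (GrpCat.of A) '' (A' : Set A) ⊆
        Set.range (profiniteCompletion.map (GrpCat.ofHom A'.subtype)).hom := by
      rintro _ ⟨a, ha, rfl⟩
      exact ⟨etaFn (GrpCat.of A') ⟨a, ha⟩, map_eta (GrpCat.ofHom A'.subtype) ⟨a, ha⟩⟩
    exact (isClosed_range _).closure_subset_iff.2 hsub hcl
  · rintro ⟨z, rfl⟩
    change (profiniteCompletion.map (GrpCat.ofHom (QuotientGroup.mk' A'))).hom
      ((profiniteCompletion.map (GrpCat.ofHom A'.subtype)).hom z) = 1
    apply Subtype.ext
    funext K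
    rw [map_apply, map_apply]
    obtain ⟨a, ha⟩ := QuotientGroup.mk_surjective
      (z.1 ((K.comap (QuotientGroup.mk' A')).comap A'.subtype))
    change QuotientGroup.map _ _ _ _ (QuotientGroup.map _ _ _ _ _) = _
    erw [← ha]
    change (QuotientGroup.mk (QuotientGroup.mk' A' (a : A)) : (A ⧸ A') ⧸ K.toSubgroup) = 1
    rw [show QuotientGroup.mk' A' (a : A) = 1 from (QuotientGroup.eq_one_iff _).2 a.2]
    rfl

theorem injective_map (A : Type u) [CommGroup A] (A' : Subgroup A)
    (htors : ∃ N : ℕ, 0 < N ∧ ∀ x : A ⧸ A', IsOfFinOrder x → x ^ N = 1) :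
    Function.Injective (profiniteCompletion.map (GrpCat.ofHom A'.subtype)).hom := by
  classical
  obtain ⟨N, hN, htors⟩ := htors
  refine (injective_iff_map_eq_one (profiniteCompletion.map (GrpCat.ofHom A'.subtype)).hom.toMonoidHom).2
    fun x hx => ?_
  have hx' : (profiniteCompletion.map (GrpCat.ofHom A'.subtype)).hom x = 1 := hx
  apply Subtype.ext
  funext K
  let K₀ : Subgroup A' := K.toSubgroup
  let n := K₀.index * N
  have hn : 0 < n := Nat.mul_pos (Nat.pos_of_ne_zero K₀.index_ne_zero_of_finite) hN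
  let M : Subgroup A := K₀.map A'.subtype ⊔ (powMonoidHom n : A →* A).range
  have hsep : ∀ a : A', (a : A) ∈ M → a ∈ K₀ := by
    intro a ha
    obtain ⟨_, ⟨k, hk, rfl⟩, _, ⟨y, rfl⟩, hky⟩ := Subgroup.mem_sup.1 ha
    have hky' : (k : A) * y ^ n = a := hky
    have hq : ((y : A ⧸ A')) ^ n = 1 := by
      rw [← QuotientGroup.mk_pow, QuotientGroup.eq_one_iff]
      have : y ^ n = (k : A)⁻¹ * a := by rw [← hky', inv_mul_cancel_left]
      rw [this]
      exact A'.mul_mem (A'.inv_mem k.2) a.2
    have hyN : y ^ N ∈ A' := by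
      rw [← QuotientGroup.eq_one_iff, QuotientGroup.mk_pow]
      exact htors _ (isOfFinOrder_iff_pow_eq_one.2 ⟨n, hn, hq⟩)
    have h1 : (⟨y ^ N, hyN⟩ : A') ^ K₀.index ∈ K₀ := Subgroup.pow_index_mem K₀ _
    have h2 : a = k * (⟨y ^ N, hyN⟩ : A') ^ K₀.index := by
      apply Subtype.ext
      simp only [Subgroup.coe_mul, SubmonoidClass.coe_pow, ← pow_mul]
      rw [← hky', mul_comm N]
    rw [h2]
    exact K₀.mul_mem hk h1
  have hchar : ∀ q : A' ⧸ K₀, ∃ L : FiniteIndexNormalSubgroup A, M ≤ L.toSubgroup ∧ (q ≠ 1 → (q.out : A) ∉ L.toSubgroup) := by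
    intro q
    by_cases hq : q = 1
    · exact ⟨{ toSubgroup := ⊤ }, le_top, fun h => absurd hq h⟩
    have hne : Additive.ofMul ((q.out : A) : A ⧸ M) ≠ 0 := by
      intro h0
      have h1 : ((q.out : A) : A ⧸ M) = 1 := h0
      rw [QuotientGroup.eq_one_iff] at h1
      exact hq (by rw [← QuotientGroup.out_eq' q, QuotientGroup.eq_one_iff]; exact hsep _ h1)
    obtain ⟨χ, hχ⟩ := CharacterModule.exists_character_apply_ne_zero_of_ne_zero hne
    let φ : Additive (A ⧸ M) →+ AddCircle (1 : ℚ) := χ
    let ψ : A →* Multiplicative (AddCircle (1 : ℚ)) :=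
      (AddMonoidHom.toMultiplicativeRight φ).comp (QuotientGroup.mk' M)
    have hfin : Finite ψ.range := by
      haveI : Fact ((0 : ℚ) < 1) := ⟨one_pos⟩
      have : {u : AddCircle (1 : ℚ) | n • u = 0}.Finite := AddCircle.finite_torsion (1 : ℚ) hn
      have hf : ((Multiplicative.ofAdd) '' {u : AddCircle (1 : ℚ) | n • u = 0}).Finite := this.image _
      refine (hf.subset ?_).to_subtype
      rintro _ ⟨a, rfl⟩
      refine ⟨φ (Additive.ofMul (a : A ⧸ M)), ?_, rfl⟩
      change n • φ _ = 0
      rw [← map_nsmul, ← ofMul_pow, ← QuotientGroup.mk_pow,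
        (QuotientGroup.eq_one_iff _).2 (Subgroup.mem_sup_right (MonoidHom.mem_range.2 ⟨a, rfl⟩) : a ^ n ∈ M)]
      exact map_zero φ
    haveI : ψ.ker.FiniteIndex := by
      rw [Subgroup.finiteIndex_iff, Subgroup.index_ker]
      exact Nat.card_pos.ne'
    refine ⟨{ toSubgroup := ψ.ker }, fun z hz => ?_, fun _ h => hχ (congrArg Multiplicative.toAdd (h : ψ _ = 1))⟩
    change φ (Additive.ofMul (z : A ⧸ M)) = 0
    rw [(QuotientGroup.eq_one_iff _).2 hz]
    exact map_zero φ
  choose L hLM hL using hchar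
  let L₀ : Subgroup A := ⨅ q, (L q).toSubgroup
  have : Finite (A' ⧸ K₀) := Subgroup.finite_quotient_of_finiteIndex
  have : L₀.FiniteIndex := Subgroup.finiteIndex_iInf fun q => inferInstance
  let L' : FiniteIndexNormalSubgroup (GrpCat.of A) := { toSubgroup := L₀ }
  have hle : L'.comap A'.subtype ≤ K := by
    intro a ha
    have ha' : (a : A) ∈ L₀ := ha
    by_contra hK
    have hq : (a : A' ⧸ K₀) ≠ 1 := fun h => hK ((QuotientGroup.eq_one_iff _).1 h)
    apply hL (a : A' ⧸ K₀) hq
    obtain ⟨k, hk⟩ := QuotientGroup.mk_out_eq_mul K₀ a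
    rw [hk, Subgroup.coe_mul]
    exact Subgroup.mul_mem _ (Subgroup.mem_iInf.1 ha' _)
      (hLM _ (Subgroup.mem_sup_left ⟨(k : A'), k.2, rfl⟩))
  have h1 := map_apply (GrpCat.ofHom A'.subtype) x L'
  rw [hx'] at h1
  obtain ⟨b, hb⟩ := QuotientGroup.mk_surjective (x.1 (L'.comap A'.subtype))
  erw [← hb] at h1
  change (1 : A ⧸ L₀) = QuotientGroup.mk (b : A) at h1
  have h2 : b ∈ (L'.comap A'.subtype).toSubgroup := ((QuotientGroup.eq_one_iff (b : A)).1 h1.symm : (b : A) ∈ L₀)
  have h3 := x.2 hle.hom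
  erw [← h3, ← hb]
  exact (QuotientGroup.eq_one_iff b).2 (hle h2)

end Groth.Agent.LProfComp
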