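import Groth.Agent.Lib.LProjTop
import Mathlib

/-! chartwise criteria for `Proj.map` -/

set_option autoImplicit false
universe u
open CategoryTheory AlgebraicGeometry DirectSum

namespace Groth.Agent.LProjMap

variable {R A : Type u} [CommRing R] [CommRing A] [Algebra R A] {𝒜 : ℕ → Submodule R A} [GradedAlgebra 𝒜]
  {B : Type u} [CommRing B] [Algebra R B] {ℬ : ℕ → Submodule R B} [GradedAlgebra ℬ]
  (φ : 𝒜 →+*ᵍ ℬ) (hφ : HomogeneousIdeal.irrelevant ℬ ≤ (HomogeneousIdeal.irrelevant 𝒜).map φ)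

variable (𝒜) in
theorem chart_cover : (⨆ s : Σ i : PNat, 𝒜 i, Proj.basicOpen 𝒜 (s.2 : A)) = ⊤ :=
  Proj.iSup_basicOpen_eq_top 𝒜 (fun s : Σ i : PNat, 𝒜 i => (s.2 : A)) (by
    classical
    intro z hz
    rw [← DirectSum.sum_support_decompose 𝒜 z]
    refine Ideal.sum_mem _ fun c _ => ?_
    rcases c.eq_zero_or_pos with rfl | hc
    · rw [show (DirectSum.decompose 𝒜 z 0 : A) = 0 from (HomogeneousIdeal.mem_irrelevant_iff 𝒜 z).1 hz]
      exact zero_mem _
    · exact Ideal.subset_span ⟨⟨⟨c, hc⟩, _⟩, rfl⟩)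

theorem restrict_bijective_appTop {d : ℕ} (hd : 0 < d) {s : A} (hs : s ∈ 𝒜 d) :
    (Function.Surjective (HomogeneousLocalization.Away.map φ s) →
      Function.Surjective (Proj.map φ hφ ∣_ Proj.basicOpen 𝒜 s).appTop.hom) ∧
    (Function.Bijective (HomogeneousLocalization.Away.map φ s) →
      Function.Bijective (Proj.map φ hφ ∣_ Proj.basicOpen 𝒜 s).appTop.hom) := by
  have hA : Function.Bijective (Proj.awayToSection 𝒜 s).hom := by
    rw [← Proj.basicOpenIsoAway_hom 𝒜 s hs hd]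
    exact (ConcreteCategory.isIso_iff_bijective _).1 inferInstance
  have hB : Function.Bijective (Proj.awayToSection ℬ (φ s)).hom := by
    rw [← Proj.basicOpenIsoAway_hom ℬ (φ s) (φ.2 hs) hd]
    exact (ConcreteCategory.isIso_iff_bijective _).1 inferInstance
  have h2 := congrArg CommRingCat.Hom.hom (Proj.awayToSection_comp_appLE φ hφ hs)
  have hcomp : ((Proj.map φ hφ).appLE (Proj.basicOpen 𝒜 s) (Proj.basicOpen ℬ (φ s)) le_rfl).hom ∘ (Proj.awayToSection 𝒜 s).hom =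
      (Proj.awayToSection ℬ (φ s)).hom ∘ HomogeneousLocalization.Away.map φ s := by
    rw [← RingHom.coe_comp, ← RingHom.coe_comp]
    erw [← CommRingCat.hom_comp, h2, CommRingCat.hom_comp]
    rfl
  have key : ∃ (e : (Proj.map φ hφ ⁻¹ᵁ Proj.basicOpen 𝒜 s).ι ''ᵁ ((Proj.map φ hφ ∣_ Proj.basicOpen 𝒜 s) ⁻¹ᵁ ⊤) =
      Proj.map φ hφ ⁻¹ᵁ ((Proj.basicOpen 𝒜 s).ι ''ᵁ ⊤)),
      (Proj.map φ hφ ∣_ Proj.basicOpen 𝒜 s).appTop.hom.toFun =
        ((Proj ℬ).presheaf.map (eqToHom e).op).hom ∘ ((Proj.map φ hφ).app ((Proj.basicOpen 𝒜 s).ι ''ᵁ ⊤)).hom := by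
    refine ⟨by rw [image_morphismRestrict_preimage], ?_⟩
    rw [Scheme.Hom.appTop, morphismRestrict_app]
    rfl
  obtain ⟨e, he⟩ := key
  have hres : Function.Bijective ((Proj ℬ).presheaf.map (eqToHom e).op).hom :=
    (ConcreteCategory.isIso_iff_bijective _).1 ((Proj ℬ).presheaf.mapIso (eqToIso e).op).isIso_hom
  constructor
  · intro h
    have h0 : Function.Surjective ((Proj.map φ hφ).app ((Proj.basicOpen 𝒜 s).ι ''ᵁ ⊤)).hom := by
      rw [(Proj.basicOpen 𝒜 s).ι_image_top, Scheme.Hom.app_eq_appLE]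
      refine Function.Surjective.of_comp (g := (Proj.awayToSection 𝒜 s).hom) ?_
      exact hcomp ▸ hB.2.comp h
    show Function.Surjective (Proj.map φ hφ ∣_ Proj.basicOpen 𝒜 s).appTop.hom.toFun
    rw [he]
    exact hres.2.comp h0
  · intro h
    have h0 : Function.Bijective ((Proj.map φ hφ).app ((Proj.basicOpen 𝒜 s).ι ''ᵁ ⊤)).hom := by
      rw [(Proj.basicOpen 𝒜 s).ι_image_top, Scheme.Hom.app_eq_appLE]
      exact (Function.Bijective.of_comp_iff _ hA).1 (hcomp ▸ hB.comp h)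
    show Function.Bijective (Proj.map φ hφ ∣_ Proj.basicOpen 𝒜 s).appTop.hom.toFun
    rw [he]
    exact hres.comp h0

theorem isClosedImmersion (h : ∀ (d : ℕ) (s : A), 0 < d → s ∈ 𝒜 d →
    Function.Surjective (HomogeneousLocalization.Away.map φ s)) : IsClosedImmersion (Proj.map φ hφ) := by
  refine IsZariskiLocalAtTarget.of_iSup_eq_top (P := @IsClosedImmersion) _ (chart_cover 𝒜) fun s => ?_
  haveI : IsAffine (Proj.basicOpen 𝒜 (s.2 : A) : Scheme.{u}) := Proj.isAffineOpen_basicOpen 𝒜 _ s.2.2 s.1.2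
  haveI : IsAffine (Proj.map φ hφ ⁻¹ᵁ Proj.basicOpen 𝒜 (s.2 : A) : Scheme.{u}) :=
    Proj.isAffineOpen_basicOpen ℬ _ (φ.2 s.2.2) s.1.2
  exact IsClosedImmersion.of_surjective_of_isAffine _
    ((restrict_bijective_appTop φ hφ s.1.2 s.2.2).1 (h _ _ s.1.2 s.2.2))

theorem isIso (h : ∀ (d : ℕ) (s : A), 0 < d → s ∈ 𝒜 d →
    Function.Bijective (HomogeneousLocalization.Away.map φ s)) : IsIso (Proj.map φ hφ) := by
  refine IsZariskiLocalAtTarget.of_iSup_eq_top (P := MorphismProperty.isomorphisms Scheme) _ (chart_cover 𝒜) fun s => ?_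
  haveI : IsAffine (Proj.basicOpen 𝒜 (s.2 : A) : Scheme.{u}) := Proj.isAffineOpen_basicOpen 𝒜 _ s.2.2 s.1.2
  haveI : IsAffine (Proj.map φ hφ ⁻¹ᵁ Proj.basicOpen 𝒜 (s.2 : A) : Scheme.{u}) :=
    Proj.isAffineOpen_basicOpen ℬ _ (φ.2 s.2.2) s.1.2
  haveI : IsIso (Proj.map φ hφ ∣_ Proj.basicOpen 𝒜 (s.2 : A)).appTop :=
    (ConcreteCategory.isIso_iff_bijective _).2 ((restrict_bijective_appTop φ hφ s.1.2 s.2.2).2 (h _ _ s.1.2 s.2.2))
  exact (HasAffineProperty.iff_of_isAffine (P := MorphismProperty.isomorphisms Scheme)).2 ⟨‹_›, ‹_›⟩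

theorem away_map_surjective (hsurj : Function.Surjective φ) {d : ℕ} {s : A} (hs : s ∈ 𝒜 d) :
    Function.Surjective (HomogeneousLocalization.Away.map φ s) := by
  intro x
  obtain ⟨n, b, hb, rfl⟩ := HomogeneousLocalization.Away.mk_surjective ℬ (φ.2 hs) x
  obtain ⟨a, rfl⟩ := hsurj b
  refine ⟨HomogeneousLocalization.Away.mk 𝒜 hs n (decompose 𝒜 a (n • d) : A) (Subtype.mem _), ?_⟩
  rw [HomogeneousLocalization.Away.map_mk]
  apply HomogeneousLocalization.val_injective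
  rw [HomogeneousLocalization.Away.val_mk, HomogeneousLocalization.Away.val_mk]
  congr 1
  rw [GradedRingHom.map_directSumDecompose, DirectSum.decompose_of_mem_same ℬ hb]

theorem away_map_bijective (hbij : ∀ n : ℕ, 0 < n → Set.BijOn φ (𝒜 n) (ℬ n)) {d : ℕ} (hd : 0 < d) {s : A}
    (hs : s ∈ 𝒜 d) : Function.Bijective (HomogeneousLocalization.Away.map φ s) := by
  constructor
  · refine (injective_iff_map_eq_zero _).2 fun x hx => ?_
    obtain ⟨n, a, ha, rfl⟩ := HomogeneousLocalization.Away.mk_surjective 𝒜 hs x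
    rw [HomogeneousLocalization.Away.map_mk] at hx
    have hx' := congrArg HomogeneousLocalization.val hx
    rw [HomogeneousLocalization.Away.val_mk, HomogeneousLocalization.val_zero, Localization.mk_eq_mk',
      IsLocalization.mk'_eq_zero_iff] at hx'
    obtain ⟨⟨_, k, rfl⟩, hk⟩ := hx'
    apply HomogeneousLocalization.val_injective
    rw [HomogeneousLocalization.Away.val_mk, HomogeneousLocalization.val_zero, Localization.mk_eq_mk',
      IsLocalization.mk'_eq_zero_iff]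
    refine ⟨⟨_, k + 1, rfl⟩, ?_⟩
    have hm : s ^ (k + 1) * a ∈ 𝒜 ((k + 1) • d + n • d) := SetLike.mul_mem_graded (SetLike.pow_mem_graded _ hs) ha
    refine (hbij _ (Nat.add_pos_left (by rw [smul_eq_mul]; exact Nat.mul_pos k.succ_pos hd) _)).injOn hm
      (zero_mem _) ?_
    have hk' : φ s ^ k * φ a = 0 := hk
    rw [map_mul, map_pow, map_zero, pow_succ, mul_right_comm, hk', zero_mul]
  · intro x
    obtain ⟨n, b, hb, rfl⟩ := HomogeneousLocalization.Away.mk_surjective ℬ (φ.2 hs) x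
    have hb' : φ s * b ∈ ℬ ((n + 1) • d) := by
      have := SetLike.mul_mem_graded (φ.2 hs) hb
      rwa [add_comm n 1, add_smul, one_smul]
    obtain ⟨a, ha, he⟩ := (hbij _ (by rw [smul_eq_mul]; exact Nat.mul_pos n.succ_pos hd)).surjOn hb'
    refine ⟨HomogeneousLocalization.Away.mk 𝒜 hs (n + 1) a ha, ?_⟩
    rw [HomogeneousLocalization.Away.map_mk]
    apply HomogeneousLocalization.val_injective
    rw [HomogeneousLocalization.Away.val_mk, HomogeneousLocalization.Away.val_mk, Localization.mk_eq_mk_iff,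
      Localization.r_iff_exists]
    refine ⟨1, ?_⟩
    simp only [OneMemClass.coe_one, one_mul]
    show φ s ^ n * φ a = φ s ^ (n + 1) * b
    rw [he]
    ring

end Groth.Agent.LProjMap
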