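import Groth.Agent.Lib.LQVanish
import Groth.Prelude.Def_CohB1
import Mathlib.AlgebraicGeometry.ProjectiveSpectrum.Proper

set_option autoImplicit false
universe u

open CategoryTheory Limits TopologicalSpace Opposite AlgebraicGeometry

namespace Groth.Agent.LProjSpace

variable (n : ℕ) (R : Type u) [CommRing R]

/-- the standard opens -/
noncomputable def D (i : Fin (n + 1)) : (CohB1.ProjSpace n R).Opens :=
  Proj.basicOpen (CohB1.polyGrading n R) (MvPolynomial.X i)

lemma isAffineOpen_D (i : Fin (n + 1)) : IsAffineOpen (D n R i) :=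
  Proj.isAffineOpen_basicOpen _ _ (MvPolynomial.isHomogeneous_X R i) Nat.one_pos

lemma iSup_D : ⨆ i, D n R i = ⊤ := by
  refine Proj.iSup_basicOpen_eq_top' _ _ (fun i => ⟨1, MvPolynomial.isHomogeneous_X R i⟩) ?_
  refine top_le_iff.1 fun p _ => ?_
  induction p using MvPolynomial.induction_on with
  | C a =>
    exact Subalgebra.algebraMap_mem _
      (⟨MvPolynomial.C a, MvPolynomial.isHomogeneous_C _ a⟩ : CohB1.polyGrading n R 0)
  | add p q hp hq => exact add_mem (hp trivial) (hq trivial)
  | mul_X p i hp => exact mul_mem (hp trivial) (Algebra.subset_adjoin ⟨i, rfl⟩)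

instance : (CohB1.ProjSpace n R).IsSeparated :=
  inferInstanceAs (Proj (CohB1.polyGrading n R)).IsSeparated

lemma inf_affine (V W : (CohB1.ProjSpace n R).Opens) (hV : IsAffineOpen V) (hW : IsAffineOpen W) :
    IsAffineOpen (V ⊓ W) :=
  hV.inf hW

end Groth.Agent.LProjSpace
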