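import Groth.Agent.Lib.LGrGen
import Mathlib

/-! emptiness / covering criteria on Proj -/

set_option autoImplicit false
universe u
open DirectSum AlgebraicGeometry

namespace Groth.Agent.LProjTop

variable {R A : Type u} [CommRing R] [CommRing A] [Algebra R A] (𝒜 : ℕ → Submodule R A) [GradedAlgebra 𝒜]

theorem exists_point {s : Set A} (hs : ∀ a ∈ s, SetLike.IsHomogeneousElem 𝒜 a)
    (h : ¬ (HomogeneousIdeal.irrelevant 𝒜).toIdeal ≤ (Ideal.span s).radical) :
    ∃ x : ProjectiveSpectrum 𝒜, s ⊆ x.asHomogeneousIdeal := by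
  classical
  obtain ⟨f, hf, hfs⟩ := Set.not_subset.1 h
  obtain ⟨P, ⟨hPs, hP⟩, hfP⟩ : ∃ P, (Ideal.span s ≤ P ∧ P.IsPrime) ∧ f ∉ P := by
    by_contra hc
    push_neg at hc
    refine hfs ?_
    rw [SetLike.mem_coe, Ideal.radical_eq_sInf, Submodule.mem_sInf]
    exact fun P hP => hc P hP
  refine ⟨⟨P.homogeneousCore 𝒜, hP.homogeneousCore, fun hle => hfP ?_⟩,
    fun a ha => Ideal.mem_homogeneousCore_of_homogeneous_of_mem (hs a ha) (hPs (Ideal.subset_span ha))⟩
  exact Ideal.toIdeal_homogeneousCore_le 𝒜 P (hle hf)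

theorem zeroLocus_eq_empty_iff {s : Set A} (hs : ∀ a ∈ s, SetLike.IsHomogeneousElem 𝒜 a) :
    ProjectiveSpectrum.zeroLocus 𝒜 s = ∅ ↔
      (HomogeneousIdeal.irrelevant 𝒜).toIdeal ≤ (Ideal.span s).radical := by
  constructor
  · intro h
    by_contra hn
    obtain ⟨x, hx⟩ := exists_point 𝒜 hs hn
    have : x ∈ ProjectiveSpectrum.zeroLocus 𝒜 s := hx
    rw [h] at this
    exact this
  · intro h
    refine Set.eq_empty_of_forall_notMem fun x hx => x.not_irrelevant_le ?_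
    intro a ha
    exact (Ideal.IsPrime.radical_le_iff x.isPrime).2 (Ideal.span_le.2 hx) (h ha)

theorem isEmpty_iff : IsEmpty (Proj 𝒜) ↔ ∀ f ∈ (HomogeneousIdeal.irrelevant 𝒜).toIdeal, IsNilpotent f := by
  have h := zeroLocus_eq_empty_iff 𝒜 (s := (∅ : Set A)) (fun a ha => ha.elim)
  rw [ProjectiveSpectrum.zeroLocus_empty, Ideal.span_empty] at h
  refine Iff.trans ?_ (h.trans ⟨fun h f hf => (h hf : f ∈ (⊥ : Ideal A).radical), fun h f hf => h f hf⟩)
  exact (Set.univ_eq_empty_iff (α := ProjectiveSpectrum 𝒜)).symm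

theorem cover_iff {ι : Type u} (f : ι → A) (hf : ∀ i, ∃ d : ℕ, 0 < d ∧ f i ∈ 𝒜 d) :
    (⨆ i, Proj.basicOpen 𝒜 (f i)) = ⊤ ↔
      (HomogeneousIdeal.irrelevant 𝒜).toIdeal ≤ (Ideal.span (Set.range f)).radical := by
  rw [← zeroLocus_eq_empty_iff 𝒜 (by
    rintro _ ⟨i, rfl⟩
    obtain ⟨d, -, hd⟩ := hf i
    exact ⟨d, hd⟩)]
  constructor
  · intro h
    refine Set.eq_empty_of_forall_notMem fun x hx => ?_
    obtain ⟨i, hi⟩ := TopologicalSpace.Opens.mem_iSup.1 (h.ge (Set.mem_univ x : x ∈ (⊤ : (Proj 𝒜).Opens)))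
    exact hi (hx ⟨i, rfl⟩)
  · intro h
    refine top_le_iff.1 fun x _ => TopologicalSpace.Opens.mem_iSup.2 ?_
    by_contra hc
    push_neg at hc
    have : x ∈ ProjectiveSpectrum.zeroLocus 𝒜 (Set.range f) := by
      rintro _ ⟨i, rfl⟩
      exact not_not.1 (hc i)
    rw [h] at this
    exact this

theorem exists_mem_pow [Algebra.FiniteType (𝒜 0) A] :
    ∀ n : ℕ, ∃ m₀ : ℕ, ∀ m : ℕ, m₀ ≤ m → (𝒜 m : Set A) ⊆ ((HomogeneousIdeal.irrelevant 𝒜).toIdeal ^ n : Ideal A) := by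
  classical
  obtain ⟨s, hs, e⟩ := LGrGen.exists_homogeneous 𝒜 (LGrGen.fg_of_finiteType 𝒜)
  choose d hd hed using fun x : (s : Set A) => hs x.1 x.2
  let D := Finset.univ.sup d
  intro n
  induction n with
  | zero => exact ⟨0, fun m _ a _ => by simp⟩
  | succ n ih =>
    obtain ⟨m₀, hm₀⟩ := ih
    refine ⟨m₀ + D + 1, fun m hm a ha => ?_⟩
    obtain ⟨l, hl⟩ := (Finsupp.mem_span_iff_linearCombination A (s : Set A) a).1
      (e.le (HomogeneousIdeal.mem_irrelevant_of_mem _ (by omega) ha))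
    rw [SetLike.mem_coe, ← DirectSum.decompose_of_mem_same 𝒜 ha, ← hl, Finsupp.linearCombination_apply, Finsupp.sum,
      DirectSum.decompose_sum, DFinsupp.finsetSum_apply, AddSubmonoidClass.coe_finsetSum]
    refine sum_mem fun x _ => ?_
    rw [smul_eq_mul, DirectSum.coe_decompose_mul_of_right_mem 𝒜 m (hed x)]
    have hxD : d x ≤ D := Finset.le_sup (Finset.mem_univ x)
    rw [if_pos (by omega), pow_succ]
    exact Ideal.mul_mem_mul (hm₀ _ (by omega) (Subtype.mem _))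
      (HomogeneousIdeal.mem_irrelevant_of_mem _ (hd x) (hed x))

theorem isEmpty_iff_eventually_zero (hfg : (HomogeneousIdeal.irrelevant 𝒜).toIdeal.FG) :
    IsEmpty (Proj 𝒜) ↔ ∃ n : ℕ, ∀ k : ℕ, n ≤ k → 𝒜 k = ⊥ := by
  classical
  rw [isEmpty_iff]
  constructor
  · intro h
    haveI := LGrGen.finiteType_of_fg 𝒜 hfg
    obtain ⟨N, hN⟩ := Ideal.exists_pow_le_of_le_radical_of_fg (I := (HomogeneousIdeal.irrelevant 𝒜).toIdeal)
      (J := ⊥) (fun f hf => h f hf) hfg
    obtain ⟨m₀, hm₀⟩ := exists_mem_pow 𝒜 N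
    refine ⟨m₀, fun k hk => (Submodule.eq_bot_iff _).2 fun a ha => ?_⟩
    have := hN (hm₀ k hk ha)
    exact this
  · rintro ⟨n, hn⟩ f hf
    have hf0 : GradedRing.proj 𝒜 0 f = 0 := (HomogeneousIdeal.mem_irrelevant_iff 𝒜 f).1 hf
    rw [← DirectSum.sum_support_decompose 𝒜 f]
    refine isNilpotent_sum fun i _ => ?_
    rcases i.eq_zero_or_pos with rfl | hi
    · rw [show (DirectSum.decompose 𝒜 f 0 : A) = 0 from hf0]
      exact IsNilpotent.zero
    · refine ⟨n + 1, ?_⟩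
      have h1 : ((DirectSum.decompose 𝒜 f i : A)) ^ (n + 1) ∈ 𝒜 ((n + 1) • i) :=
        SetLike.pow_mem_graded _ (Subtype.mem _)
      rw [hn _ (by rw [smul_eq_mul]; nlinarith)] at h1
      exact (Submodule.mem_bot R).1 h1

theorem isReduced (hred : ∀ f ∈ (HomogeneousIdeal.irrelevant 𝒜).toIdeal, IsNilpotent f → f = 0) :
    AlgebraicGeometry.IsReduced (Proj 𝒜) := by
  rw [IsReduced.iff_of_openCover _ (Proj.affineOpenCover 𝒜).openCover]
  rintro ⟨d, f⟩
  show AlgebraicGeometry.IsReduced (Spec (CommRingCat.of (HomogeneousLocalization.Away 𝒜 (f : A))))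
  haveI : _root_.IsReduced (HomogeneousLocalization.Away 𝒜 (f : A)) := ⟨fun x ⟨k, hk⟩ => by
    obtain ⟨n, a, ha, rfl⟩ := HomogeneousLocalization.Away.mk_surjective 𝒜 f.2 x
    apply HomogeneousLocalization.val_injective
    have hk' := congrArg HomogeneousLocalization.val hk
    rw [HomogeneousLocalization.val_pow, HomogeneousLocalization.Away.val_mk, HomogeneousLocalization.val_zero,
      Localization.mk_pow, Localization.mk_eq_mk', IsLocalization.mk'_eq_zero_iff] at hk'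
    obtain ⟨⟨_, j, rfl⟩, hj⟩ := hk'
    have hfa : (f : A) * a = 0 := by
      refine hred _ (Ideal.mul_mem_right _ _ (HomogeneousIdeal.mem_irrelevant_of_mem _ d.2 f.2)) ⟨j + k, ?_⟩
      calc ((f : A) * a) ^ (j + k) = ((f : A) ^ j * a ^ k) * ((f : A) ^ k * a ^ j) := by ring
        _ = 0 := by rw [hj, zero_mul]
    rw [HomogeneousLocalization.Away.val_mk, HomogeneousLocalization.val_zero, Localization.mk_eq_mk',
      IsLocalization.mk'_eq_zero_iff]
    exact ⟨⟨f, 1, pow_one _⟩, hfa⟩⟩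
  infer_instance

end Groth.Agent.LProjTop
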