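import Groth.Agent.Lib.PseudoCoherentRing
import Mathlib

/-! Bounded above finite free representatives with prescribed bound. -/

universe u v w

open CategoryTheory Limits Pretriangulated HomologicalComplex Groth.Agent
open scoped ZeroObject

attribute [local instance] HasDerivedCategory.standard

namespace Groth.Agent.PseudoCoherentRing

theorem rep_bound {A : Type u} [CommRing A] (K₀ : DRing.Cx A) (hK : ∀ m, DRing.IsPseudoCoherent A m (DRing.toD K₀)) {N : ℤ} (hN : Vanish N (DRing.toD K₀)) :
    ∃ (E : DRing.Cx A), DRing.VanishesAbove E N ∧ DRing.TermwiseFiniteFree E ∧ Nonempty (DRing.toD E ≅ DRing.toD K₀) := by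
  choose next ι hι hiso using fun n M => exists_model_succ (N := N) hK n M
  let M : ∀ n, Model K₀ N n := fun n => Nat.rec (nonempty_model_zero hN).some next n
  let F : ℕ ⥤ DRing.Cx A := Functor.ofSequence (X := fun n => (M n).E) (fun n => ι n (M n))
  have hmap : ∀ n k (h : n ≤ k), F.map (homOfLE h) ≫ (M k).f = (M n).f ∧
      ∀ i, N - n ≤ i → IsIso ((F.map (homOfLE h)).f i) := by
    intro n k h
    induction k, h using Nat.le_induction with
    | base =>
      rw [show homOfLE (le_refl n) = 𝟙 n from rfl, F.map_id]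
      exact ⟨Category.id_comp _, fun i _ => inferInstanceAs (IsIso (𝟙 ((M n).E.X i)))⟩
    | succ k hk ih =>
      have hs : F.map (homOfLE (hk.trans k.le_succ)) = F.map (homOfLE hk) ≫ ι k (M k) := by
        rw [← homOfLE_comp hk k.le_succ, F.map_comp]
        congr 1
        exact Functor.ofSequence_map_homOfLE_succ _ k
      refine ⟨?_, fun i hi => ?_⟩
      · rw [hs]
        exact (Category.assoc (F.map (homOfLE hk)) (ι k (M k)) _).trans
          ((congrArg (F.map (homOfLE hk) ≫ ·) (hι k (M k))).trans ih.1)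
      · rw [hs]
        exact @IsIso.comp_isIso _ _ _ _ _ _ _ (ih.2 i hi) (hiso k (M k) i (by omega))
  let c : Cocone F := ⟨K₀, ⟨fun n => (M n).f, fun n k h => by
    rw [← homOfLE_leOfHom h]
    exact (hmap n k (leOfHom h)).1.trans (Category.comp_id _).symm⟩⟩
  have hι' : ∀ n i, N - (n : ℕ) ≤ i → IsIso ((colimit.ι F n).f i) := fun n i hi => by
    have h : (F ⋙ HomologicalComplex.eval (ModuleCat.{u} A) (ComplexShape.up ℤ) i).IsEventuallyConstantFrom n :=
      fun k h => by
        rw [← homOfLE_leOfHom h]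
        exact (hmap n k (leOfHom h)).2 i hi
    exact h.isIso_ι_of_isColimit (isColimitOfPreserves (HomologicalComplex.eval _ _ i) (colimit.isColimit F))
  let n₀ : ℤ → ℕ := fun i => (N - i).toNat
  have : QuasiIso (colimit.desc F c) := ⟨fun k => by
    let n := n₀ (k - 2)
    rw [quasiIsoAt_iff_isIso_homologyMap]
    have h0 : IsIso ((DerivedCategory.homologyFunctor (ModuleCat.{u} A) k).map (DerivedCategory.Q.map (M n).f)) :=
      ((mI_iff_ex _ (N - n)).2 (M n).ex).1 k (by simp only [n, n₀]; omega)
    have h1 : IsIso (homologyMap (M n).f k) :=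
      (NatIso.isIso_map_iff (DerivedCategory.homologyFunctorFactors (ModuleCat.{u} A) k) _).1 h0
    have h2 : IsIso (homologyMap (colimit.ι F n) k) := by
      rw [← quasiIsoAt_iff_isIso_homologyMap, quasiIsoAt_iff' _ (k - 1) k (k + 1) (by simp) (by simp)]
      let φ := (shortComplexFunctor' (ModuleCat.{u} A) (ComplexShape.up ℤ) (k - 1) k (k + 1)).map (colimit.ι F n)
      have : IsIso φ.τ₁ := hι' n (k - 1) (by simp only [n, n₀]; omega)
      have : IsIso φ.τ₂ := hι' n k (by simp only [n, n₀]; omega)
      have : IsIso φ.τ₃ := hι' n (k + 1) (by simp only [n, n₀]; omega)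
      exact ShortComplex.quasiIso_of_epi_of_isIso_of_mono φ
    have h3 : homologyMap (colimit.ι F n) k ≫ homologyMap (colimit.desc F c) k = homologyMap (M n).f k :=
      (homologyMap_comp _ _ k).symm.trans (congrArg (homologyMap · k) (colimit.ι_desc c n))
    exact @IsIso.of_isIso_fac_left _ _ _ _ _ _ _ _ h2 h1 h3⟩
  refine ⟨colimit F, fun i hi => ?_, fun i => ?_, ⟨asIso (DerivedCategory.Q.map (colimit.desc F c))⟩⟩
  · have := hι' 0 i (by omega)
    exact ((M 0).van i (Or.inr hi)).of_iso (asIso ((colimit.ι F 0).f i)).symm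
  · have := hι' (n₀ i) i (by simp only [n₀]; omega)
    let e : (M (n₀ i)).E.X i ≃ₗ[A] (colimit F).X i := (asIso ((colimit.ι F (n₀ i)).f i)).toLinearEquiv
    have := ((M (n₀ i)).ff i).1; have := ((M (n₀ i)).ff i).2
    exact ⟨Module.Finite.equiv e, Module.Free.of_equiv e⟩

end Groth.Agent.PseudoCoherentRing
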