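import Groth.Agent.Lib.LCartan

set_option autoImplicit false
universe u

open CategoryTheory Limits TopologicalSpace Opposite AlgebraicGeometry

namespace Groth.Agent.LQcoh

open Groth.Agent.LCech (rs rs_rs inter le_inter_iff inter_le Shf CovSys Acyclic)

variable {X : Scheme.{u}}

/-- restriction of sections of a module -/
noncomputable abbrev res (M : X.Modules) {V W : X.Opens} (h : W ≤ V) (s : Γ(M, V)) : Γ(M, W) :=
  M.presheaf.map (homOfLE h).op s

/-- restriction of functions -/
noncomputable abbrev resO {V W : X.Opens} (h : W ≤ V) (s : Γ(X, V)) : Γ(X, W) :=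
  X.presheaf.map (homOfLE h).op s

lemma res_smul (M : X.Modules) {V W : X.Opens} (h : W ≤ V) (r : Γ(X, V)) (s : Γ(M, V)) :
    res M h (r • s) = resO h r • res M h s :=
  M.val.map_smul (homOfLE h).op r s

lemma res_res (M : X.Modules) {V W Z : X.Opens} (h : W ≤ V) (h' : Z ≤ W) (s : Γ(M, V)) :
    res M h' (res M h s) = res M (h'.trans h) s :=
  rs_rs M.presheaf h h' s

lemma resO_resO {V W Z : X.Opens} (h : W ≤ V) (h' : Z ≤ W) (s : Γ(X, V)) :
    resO h' (resO h s) = resO (h'.trans h) s := by
  simp only [resO, ← ConcreteCategory.comp_apply, ← X.presheaf.map_comp, ← op_comp, homOfLE_comp]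

lemma resO_self {V : X.Opens} (h : V ≤ V) (s : Γ(X, V)) : resO h s = s := by
  simp [resO]

lemma basicOpen_le_open {V : X.Opens} (g : Γ(X, V)) : X.basicOpen g ≤ V := X.basicOpen_le g

lemma image_le {A : X.Opens} (hA : IsAffineOpen A) (U : (Spec Γ(X, A)).Opens) :
    hA.fromSpec ''ᵁ U ≤ A :=
  (Scheme.Hom.image_mono _ le_top).trans (hA.fromSpec.image_top_eq_opensRange.trans hA.opensRange_fromSpec).le

lemma appIso_fromSpec {A : X.Opens} (hA : IsAffineOpen A) (U : (Spec Γ(X, A)).Opens)
    (r : Γ(X, A)) :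
    (hA.fromSpec.appIso U).inv ((Spec Γ(X, A)).presheaf.map U.leTop.op
        ((Scheme.ΓSpecIso Γ(X, A)).inv r)) = resO (image_le hA U) r := by
  suffices h : (Scheme.ΓSpecIso Γ(X, A)).inv ≫ (Spec Γ(X, A)).presheaf.map U.leTop.op ≫
      (hA.fromSpec.appIso U).inv = X.presheaf.map (homOfLE (image_le hA U)).op from
    congrArg (fun φ => φ r) h
  rw [← Category.assoc, Iso.comp_inv_eq, Scheme.Hom.appIso_hom', Scheme.Hom.map_appLE,
    Scheme.Hom.appLE, hA.fromSpec_app_self, Category.assoc, ← Functor.map_comp]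
  rfl

lemma smul_restrict {A : X.Opens} (hA : IsAffineOpen A) (M : X.Modules)
    (U : (Spec Γ(X, A)).Opens) (r : Γ(X, A)) (s : Γ(M.restrict hA.fromSpec, U)) :
    (show Γ(M, hA.fromSpec ''ᵁ U) from r • s) =
      resO (image_le hA U) r • (show Γ(M, hA.fromSpec ''ᵁ U) from s) := by
  rw [← appIso_fromSpec hA U r]
  rfl

/-- Sections of a quasi-coherent module: localisation on affine opens. -/
theorem exists_pow_of_affine {A : X.Opens} (hA : IsAffineOpen A) (M : X.Modules)
    [M.IsQuasicoherent] (g : Γ(X, A)) :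
    (∀ c : Γ(M, X.basicOpen g), ∃ (N : ℕ) (y : Γ(M, A)),
      res M (basicOpen_le_open g) y = resO (basicOpen_le_open g) (g ^ N) • c) ∧
    (∀ y : Γ(M, A), res M (basicOpen_le_open g) y = 0 → ∃ N : ℕ, g ^ N • y = 0) := by
  have hloc := (isIso_fromTildeΓ_iff_isLocalizing (M.restrict hA.fromSpec)).1 inferInstance g
  have hD : hA.fromSpec ''ᵁ PrimeSpectrum.basicOpen g = X.basicOpen g :=
    hA.fromSpec_image_basicOpen g
  have hT : hA.fromSpec ''ᵁ ⊤ = A := hA.fromSpec.image_top_eq_opensRange.trans hA.opensRange_fromSpec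
  constructor
  · intro c
    obtain ⟨⟨y₀, ⟨_, N, rfl⟩⟩, hy⟩ := hloc.surj
      (show Γ(M.restrict hA.fromSpec, PrimeSpectrum.basicOpen g) from res M hD.le c)
    refine ⟨N, res M hT.ge y₀, ?_⟩
    have hy' : resO (image_le hA (PrimeSpectrum.basicOpen g)) (g ^ N) • res M hD.le c =
        res M (Scheme.Hom.image_mono _ le_top) y₀ :=
      (smul_restrict hA M (PrimeSpectrum.basicOpen g) (g ^ N) (res M hD.le c)).symm.trans hy
    have := congrArg (res M hD.ge) hy'
    erw [res_smul, res_res, res_res, resO_resO] at this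
    refine (res_res M _ _ y₀).trans (this.symm.trans ?_)
    congr 1
    exact Groth.Agent.LCech.rs_self M.presheaf le_rfl c
  · intro y hy
    obtain ⟨⟨_, N, rfl⟩, hN⟩ := hloc.exists_of_eq
      (x₁ := (show Γ(M.restrict hA.fromSpec, ⊤) from res M hT.le y)) (x₂ := 0) (by
        rw [map_zero]
        change res M (Scheme.Hom.image_mono _ le_top) (res M hT.le y) = 0
        rw [res_res, ← res_res M (basicOpen_le_open g) hD.le y, hy]
        exact map_zero _)
    refine ⟨N, ?_⟩
    have hN' : resO (image_le hA ⊤) (g ^ N) • res M hT.le y = (0 : Γ(M, hA.fromSpec ''ᵁ ⊤)) :=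
      (smul_restrict hA M ⊤ (g ^ N) (res M hT.le y)).symm.trans (hN.trans (smul_zero _))
    have := congrArg (res M hT.ge) hN'
    erw [res_smul, res_res, resO_resO, resO_self] at this
    refine Eq.trans ?_ (this.trans (map_zero _))
    congr 1
    exact (Groth.Agent.LCech.rs_self M.presheaf le_rfl y).symm

lemma isAffineOpen_inter {V : X.Opens} (hV : IsAffineOpen V) {ι : Type u} (f : ι → Γ(X, V)) :
    ∀ {n : ℕ} (x : Fin (n + 1) → ι), IsAffineOpen (inter (fun i => X.basicOpen (f i)) x) := by
  intro n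
  induction n with
  | zero =>
    intro x
    have : inter (fun i => X.basicOpen (f i)) x = X.basicOpen (f (x 0)) :=
      le_antisymm (inter_le _ x 0) ((le_inter_iff _ x _).2 fun j => by rw [Fin.fin_one_eq_zero j])
    rw [this]
    exact hV.basicOpen _
  | succ n ih =>
    intro x
    have h := ih (x ∘ Fin.succ)
    have hle : inter (fun i => X.basicOpen (f i)) (x ∘ Fin.succ) ≤ V :=
      (inter_le _ _ 0).trans (X.basicOpen_le _)
    have : inter (fun i => X.basicOpen (f i)) x =
        X.basicOpen (X.presheaf.map (homOfLE hle).op (f (x 0))) := by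
      rw [Scheme.basicOpen_res]
      refine le_antisymm (le_inf ((le_inter_iff _ _ _).2 fun j => inter_le _ x j.succ)
        (inter_le _ x 0)) ((le_inter_iff _ _ _).2 (Fin.cases inf_le_right fun j => ?_))
      exact inf_le_left.trans (inter_le _ (x ∘ Fin.succ) j)
    rw [this]
    exact h.basicOpen _

/-- affine opens, covered by standard coverings -/
noncomputable def affineSys (X : Scheme.{u}) : CovSys X.toTopCat where
  B := {V | IsAffineOpen (X := X) V}
  Cov V {ι} W := Finite ι ∧ ∃ (_ : IsAffineOpen (X := X) V) (f : ι → Γ(X, V)),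
    Ideal.span (Set.range f) = ⊤ ∧ W = fun i => X.basicOpen (f i)
  iSup_eq := by
    rintro V ι _ ⟨-, hV, f, hf, rfl⟩
    exact (iSup_range' (fun g : Γ(X, V) => X.basicOpen g) f).symm.trans
      ((hV.iSup_basicOpen_eq_self_iff (s := Set.range f)).2 hf)
  inter_mem := by
    rintro V ι _ ⟨-, hV, f, hf, rfl⟩ n x
    exact isAffineOpen_inter hV f x
  refine' := by
    intro V hV κ U hU
    let s : Set Γ(X, V) := {g | ∃ k, X.basicOpen g ≤ U k}
    have hs : Ideal.span s = ⊤ := by
      rw [← IsAffineOpen.self_le_iSup_basicOpen_iff hV]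
      intro x hx
      obtain ⟨k, hk⟩ := Opens.mem_iSup.1 (hU hx)
      obtain ⟨g, hg, hxg⟩ := IsAffineOpen.exists_basicOpen_le hV (V := U k) ⟨x, hk⟩ hx
      exact Opens.mem_iSup.2 ⟨⟨g, k, hg⟩, hxg⟩
    obtain ⟨t, hts, ht⟩ := Submodule.mem_span_finite_of_mem_span ((Ideal.eq_top_iff_one _).1 hs)
    refine ⟨t, fun g => X.basicOpen g.1, ⟨inferInstance, hV, fun g => g.1, ?_, rfl⟩,
      fun g => hts g.2⟩
    rw [Ideal.eq_top_iff_one]
    simpa using ht

/-- Quasi-coherent modules are Cech acyclic for standard coverings of affine opens. -/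
theorem good_qcoh (M : X.Modules) [M.IsQuasicoherent] : (affineSys X).Good M.presheaf := by
  rintro V hV ι _ ⟨hfin, -, f, hf, rfl⟩
  let U : ι → Opens X.toTopCat := fun i => X.basicOpen (f i)
  have key : ∀ (W : X.Opens) (hW : W ≤ V) (r : Γ(X, V)) (s : Γ(M, W)),
      (Module.toAddMonoidEnd Γ(X, W) Γ(M, W)).comp (X.presheaf.map (homOfLE hW).op).hom r s =
        resO hW r • s := fun _ _ _ _ => rfl
  refine Groth.Agent.LCech.acyclic_of_localization U M.presheaf f hf V (fun i => X.basicOpen_le _)
    (fun W hW => (Module.toAddMonoidEnd Γ(X, W) Γ(M, W)).comp (X.presheaf.map (homOfLE hW).op).hom)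
    ?_ ?_ ?_
  · intro r A B hA hB h s
    rw [key, key, ← resO_resO hA h r]
    exact res_smul M h _ s
  · intro m x i c
    have hA : IsAffineOpen (X := X) (inter U x) := isAffineOpen_inter hV f x
    have hle : inter U x ≤ V := (inter_le U x 0).trans (X.basicOpen_le _)
    have he : X.basicOpen (resO hle (f i)) = inter U x ⊓ U i := X.basicOpen_res _ _
    obtain ⟨N, y, hy⟩ := (exists_pow_of_affine hA M (resO hle (f i))).1 (res M he.le c)
    refine ⟨N, y, ?_⟩
    rw [key]
    have := congrArg (res M he.ge) hy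
    rw [res_res, res_smul, res_res, resO_resO] at this
    refine this.trans ?_
    rw [show resO hle (f i) ^ N = resO hle (f i ^ N) from (map_pow _ _ _).symm, resO_resO]
    congr 1
    exact Groth.Agent.LCech.rs_self M.presheaf le_rfl c
  · intro m x i y hy
    have hA : IsAffineOpen (X := X) (inter U x) := isAffineOpen_inter hV f x
    have hle : inter U x ≤ V := (inter_le U x 0).trans (X.basicOpen_le _)
    have he : X.basicOpen (resO hle (f i)) = inter U x ⊓ U i := X.basicOpen_res _ _
    obtain ⟨N, hN⟩ := (exists_pow_of_affine hA M (resO hle (f i))).2 y (by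
      rw [← res_res M (W := inter U x ⊓ U i) inf_le_left he.le]
      exact (congrArg (res M he.le) hy).trans (map_zero _))
    refine ⟨N, ?_⟩
    rw [key]
    refine Eq.trans ?_ hN
    rw [show resO hle (f i) ^ N = resO hle (f i ^ N) from (map_pow _ _ _).symm]

/-- Sections over affine opens are exact on quasi-coherent kernels. -/
theorem surjective_app (M : X.Modules) [M.IsQuasicoherent] (T : ShortComplex (Shf X.toTopCat))
    (hT : T.ShortExact) (e : T.X₁.obj = M.presheaf) {V : X.Opens} (hV : IsAffineOpen V) :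
    Function.Surjective (T.g.hom.app (op V)) :=
  Groth.Agent.LCech.surjective_of_good (affineSys X) T hT (by rw [e]; exact good_qcoh M) hV

end Groth.Agent.LQcoh
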