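import Groth.Agent.Lib.LDerived
import Groth.Agent.Lib.LQcoh

set_option autoImplicit false
universe u

open CategoryTheory Limits TopologicalSpace Opposite TopCat

namespace Groth.Agent.LCech

variable {X Y : TopCat.{u}}

lemma epi_push_of_basis (f : X ⟶ Y) (T : ShortComplex (Shf X)) (hT : T.ShortExact)
    (S : CovSys X) (hF : S.Good T.X₁.obj)
    (B : Set (Opens Y)) (hB : Opens.IsBasis B) (hBS : ∀ V ∈ B, (Opens.map f).obj V ∈ S.B) :
    Epi ((pushS f).map T.g) :=
  (push_shortExact f T hT B hB fun V hV => surjective_of_good S T hT hF (hBS V hV)).epi_g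

theorem isZero_rightDerived_push [HasInjectiveResolutions (Shf X)] (f : X ⟶ Y) (S : CovSys X)
    (B : Set (Opens Y)) (hB : Opens.IsBasis B) (hBS : ∀ V ∈ B, (Opens.map f).obj V ∈ S.B) :
    ∀ (n : ℕ) (F : Shf X), S.Good F.obj → IsZero (((pushS f).rightDerived (n + 1)).obj F) := by
  intro n
  induction n with
  | zero =>
    intro F hF
    exact isZero_rightDerived_one (injSeq_shortExact F) (pushS f)
      (epi_push_of_basis f _ (injSeq_shortExact F) S hF B hB hBS)
  | succ n ih =>
    intro F hF
    exact isZero_rightDerived_succ_succ (injSeq_shortExact F) (pushS f) n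
      (ih _ (good_injSeq S F hF))

end Groth.Agent.LCech

namespace Groth.Agent.LQcoh

open AlgebraicGeometry

/-- higher direct images vanish along affine morphisms -/
theorem isZero_rightDerived_affineHom {X S : Scheme.{u}} (f : X ⟶ S) [IsAffineHom f]
    [HasInjectiveResolutions (LCech.Shf X.toTopCat)]
    (M : X.Modules) [M.IsQuasicoherent] (F : LCech.Shf X.toTopCat) (e : F.obj = M.presheaf) (n : ℕ) :
    IsZero (((LCech.pushS (X := X.toTopCat) (Y := S.toTopCat) f.base).rightDerived (n + 1)).obj F) :=
  LCech.isZero_rightDerived_push _ (affineSys X) {V | IsAffineOpen (X := S) V} S.isBasis_affineOpens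
    (fun _ hV => IsAffineOpen.preimage hV f) n F (by rw [e]; exact good_qcoh M)

end Groth.Agent.LQcoh
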