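import Groth.Prelude.Def_Mor2
import Groth.Prelude.Def_MoreMor
import Groth.Agent.S1398
import Groth.Agent.Lib.H2QuasiAffine

/-! quasi-affine = quasi-compact + ind-quasi-affine -/

set_option autoImplicit false
universe u
open CategoryTheory Limits AlgebraicGeometry TopologicalSpace

namespace Groth.Agent.LQA

variable {X Y : Scheme.{u}} (f : X ⟶ Y)

theorem ind_of (h : Mor2.IsQuasiAffine f) : MoreMor.IsIndQuasiAffineHom f :=
  (Groth.Agent.S1398.result f).2 h

theorem of_ind [QuasiCompact f] (h : MoreMor.IsIndQuasiAffineHom f) : Mor2.IsQuasiAffine f := by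
  refine ⟨inferInstance, fun V hV => ?_⟩
  haveI : CompactSpace (f ⁻¹ᵁ V : Scheme.{u}) :=
    isCompact_iff_compactSpace.1 (f.isCompact_preimage hV.isCompact)
  haveI := h V hV ⊤ isCompact_univ
  exact Scheme.IsQuasiAffine.of_isImmersion (f ⁻¹ᵁ V : Scheme.{u}).topIso.inv

theorem of_embedding [QuasiCompact f] (hf : Topology.IsEmbedding f.base) : Mor2.IsQuasiAffine f := by
  refine ⟨inferInstance, fun V hV => ?_⟩
  haveI : IsAffine (V : Scheme.{u}) := hV
  haveI : CompactSpace (f ⁻¹ᵁ V : Scheme.{u}) :=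
    isCompact_iff_compactSpace.1 (f.isCompact_preimage hV.isCompact)
  refine Scheme.IsQuasiAffine.of_forall_exists_mem_basicOpen _ fun x => ?_
  let U : Scheme.{u} := (f ⁻¹ᵁ V : Scheme.{u})
  let g : U ⟶ (V : Scheme.{u}) := f ∣_ V
  obtain ⟨_, ⟨A, hA, rfl⟩, hxA, -⟩ := U.isBasis_affineOpens.exists_subset_of_mem_open (Set.mem_univ x) isOpen_univ
  have hg : Topology.IsEmbedding g.base := by
    have h1 : Topology.IsEmbedding (fun y : U => V.ι (g y)) := by
      have : (fun y : U => V.ι (g y)) = fun y : U => f ((f ⁻¹ᵁ V).ι y) := funext fun y => by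
        rw [← Scheme.Hom.comp_apply, morphismRestrict_ι, Scheme.Hom.comp_apply]
      rw [this]
      exact hf.comp (f ⁻¹ᵁ V).ι.isEmbedding
    exact Topology.IsEmbedding.of_comp g.continuous V.ι.continuous h1
  obtain ⟨O, hO, hOA⟩ := hg.isInducing.isOpen_iff.1 A.2
  have hxO : g x ∈ O := by
    have : x ∈ g.base ⁻¹' O := hOA.symm ▸ hxA
    exact this
  obtain ⟨_, ⟨_, ⟨r, rfl⟩, rfl⟩, hxr, hrO⟩ := (isBasis_basicOpen (V : Scheme.{u})).exists_subset_of_mem_open hxO hO
  refine ⟨g.appTop r, ?_, (Scheme.preimage_basicOpen_top g r).le hxr⟩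
  have hle : U.basicOpen (g.appTop r) ≤ A := fun y hy => by
    have : y ∈ g.base ⁻¹' O := hrO ((Scheme.preimage_basicOpen_top g r).ge hy)
    rwa [hOA] at this
  have := IsAffineOpen.basicOpen (X := U) hA (U.presheaf.map (homOfLE (le_top (a := A))).op (g.appTop r))
  rwa [Scheme.basicOpen_res, inf_eq_right.2 hle] at this

end Groth.Agent.LQA
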