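import Mathlib
import Groth.Agent.Lib.H5RPlus

/-! An exact left adjoint induces a left adjoint on `D⁺`. -/

set_option autoImplicit false
universe w₁ w₂ v₁ v₂ u₁ u₂
open CategoryTheory Category Limits

namespace Groth.Agent.LRPlusAdj

section K
variable {A : Type u₁} [Category.{v₁} A] [Preadditive A]
  {B : Type u₂} [Category.{v₂} B] [Preadditive B] {L : A ⥤ B} {R : B ⥤ A} (adj : L ⊣ R) [L.Additive] [R.Additive]

/-- the adjunction on `K⁺` -/
noncomputable def adjK : L.mapHomotopyCategoryPlus ⊣ R.mapHomotopyCategoryPlus :=
  Adjunction.mkOfUnitCounit
    { unit :=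
        { app := fun X => ObjectProperty.homMk ((NatTrans.mapHomotopyCategory adj.unit (.up ℤ)).app X.obj)
          naturality := fun X Y f => by
            apply ObjectProperty.hom_ext
            obtain ⟨⟨K⟩, hX⟩ := X
            obtain ⟨⟨K'⟩, hY⟩ := Y
            obtain ⟨g, hg⟩ := (HomotopyCategory.quotient A _).map_surjective f.hom
            change f.hom ≫ _ = _ ≫ (R.mapHomotopyCategory _).map ((L.mapHomotopyCategory _).map f.hom)
            rw [← hg]
            change (HomotopyCategory.quotient A _).map g ≫
                (HomotopyCategory.quotient A _).map ((NatTrans.mapHomologicalComplex adj.unit _).app K') =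
              (HomotopyCategory.quotient A _).map ((NatTrans.mapHomologicalComplex adj.unit _).app K) ≫
                (HomotopyCategory.quotient A _).map ((R.mapHomologicalComplex _).map ((L.mapHomologicalComplex _).map g))
            rw [← Functor.map_comp, ← Functor.map_comp]
            congr 1
            ext i
            exact adj.unit.naturality (g.f i) }
      counit :=
        { app := fun X => ObjectProperty.homMk ((NatTrans.mapHomotopyCategory adj.counit (.up ℤ)).app X.obj)
          naturality := fun X Y f => by
            apply ObjectProperty.hom_ext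
            obtain ⟨⟨K⟩, hX⟩ := X
            obtain ⟨⟨K'⟩, hY⟩ := Y
            obtain ⟨g, hg⟩ := (HomotopyCategory.quotient B _).map_surjective f.hom
            change (L.mapHomotopyCategory _).map ((R.mapHomotopyCategory _).map f.hom) ≫ _ = _ ≫ f.hom
            rw [← hg]
            change (HomotopyCategory.quotient B _).map ((L.mapHomologicalComplex _).map ((R.mapHomologicalComplex _).map g)) ≫
                (HomotopyCategory.quotient B _).map ((NatTrans.mapHomologicalComplex adj.counit _).app K') =
              (HomotopyCategory.quotient B _).map ((NatTrans.mapHomologicalComplex adj.counit _).app K) ≫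
                (HomotopyCategory.quotient B _).map g
            rw [← Functor.map_comp, ← Functor.map_comp]
            congr 1
            ext i
            exact adj.counit.naturality (g.f i) }
      left_triangle := by
        apply NatTrans.ext; funext X
        apply ObjectProperty.hom_ext
        obtain ⟨⟨K⟩, hX⟩ := X
        simp only [NatTrans.comp_app, Functor.whiskerRight_app, Functor.whiskerLeft_app, Functor.associator_hom_app,
          Category.id_comp, NatTrans.id_app]
        change (HomotopyCategory.quotient B _).map ((L.mapHomologicalComplex _).map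
            ((NatTrans.mapHomologicalComplex adj.unit _).app K)) ≫
          (HomotopyCategory.quotient B _).map ((NatTrans.mapHomologicalComplex adj.counit _).app
            ((L.mapHomologicalComplex _).obj K)) = (HomotopyCategory.quotient B _).map (𝟙 ((L.mapHomologicalComplex _).obj K))
        rw [← Functor.map_comp]
        congr 1
        ext i
        exact adj.left_triangle_components (K.X i)
      right_triangle := by
        apply NatTrans.ext; funext X
        apply ObjectProperty.hom_ext
        obtain ⟨⟨K⟩, hX⟩ := X
        simp only [NatTrans.comp_app, Functor.whiskerRight_app, Functor.whiskerLeft_app, Functor.associator_inv_app,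
          Category.id_comp, NatTrans.id_app]
        change (HomotopyCategory.quotient A _).map ((NatTrans.mapHomologicalComplex adj.unit _).app
            ((R.mapHomologicalComplex _).obj K)) ≫
          (HomotopyCategory.quotient A _).map ((R.mapHomologicalComplex _).map
            ((NatTrans.mapHomologicalComplex adj.counit _).app K)) = (HomotopyCategory.quotient A _).map (𝟙 ((R.mapHomologicalComplex _).obj K))
        rw [← Functor.map_comp]
        congr 1
        ext i
        exact adj.right_triangle_components (K.X i) }

end K

variable {A : Type u₁} [Category.{v₁} A] [Abelian A] [HasDerivedCategory.{w₁} A] [EnoughInjectives A]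
  {B : Type u₂} [Category.{v₂} B] [Abelian B] [HasDerivedCategory.{w₂} B] [EnoughInjectives B]
  {L : A ⥤ B} {R : B ⥤ A} [L.Additive] [R.Additive] [PreservesFiniteLimits L] [PreservesFiniteColimits L]

lemma inverts : (HomotopyCategory.Plus.quasiIso A).IsInvertedBy
    (L.mapHomotopyCategoryPlus ⋙ DerivedCategory.Plus.Qh) := fun X Y f hf => by
  refine Localization.inverts DerivedCategory.Plus.Qh (HomotopyCategory.Plus.quasiIso B) _ ?_
  obtain ⟨g, hg⟩ := (HomotopyCategory.quotient A _).map_surjective f.hom
  change HomotopyCategory.quasiIso A _ f.hom at hf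
  rw [← hg] at hf
  haveI : QuasiIso g := (HomologicalComplex.mem_quasiIso_iff _).1 ((HomotopyCategory.quotient_map_mem_quasiIso_iff g).1 hf)
  change HomotopyCategory.quasiIso B _ ((L.mapHomotopyCategory _).map f.hom)
  rw [← hg]
  exact (HomotopyCategory.quotient_map_mem_quasiIso_iff _).2
    (by rw [HomologicalComplex.mem_quasiIso_iff]; exact inferInstanceAs (QuasiIso ((L.mapHomologicalComplex _).map g)))

theorem nonempty_adj (adj : L ⊣ R) : Nonempty (L.rightDerivedFunctorPlus ⊣ R.rightDerivedFunctorPlus) := by
  let WA := HomotopyCategory.Plus.quasiIso A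
  let WB := HomotopyCategory.Plus.quasiIso B
  haveI : IsIso L.rightDerivedFunctorPlusUnit :=
    Functor.isIso_of_isRightDerivedFunctor_of_inverts (W := WA) L.rightDerivedFunctorPlus L.rightDerivedFunctorPlusUnit inverts
  let G' := L.rightDerivedFunctorPlus
  let F' := R.rightDerivedFunctorPlus
  let e := (asIso L.rightDerivedFunctorPlusUnit).symm
  haveI : G'.IsLeftDerivedFunctor e.hom WA := Functor.isLeftDerivedFunctor_of_inverts WA G' e
  haveI : (G' ⋙ F').IsLeftDerivedFunctor ((Functor.associator _ _ _).inv ≫ Functor.whiskerRight e.hom F') WA :=
    Functor.isLeftDerivedFunctor_of_inverts WA (G' ⋙ F') ((Functor.associator _ _ _).symm ≪≫ Functor.isoWhiskerRight e F')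
  let β := Functor.whiskerRight R.rightDerivedFunctorPlusUnit G' ≫ (Functor.associator _ _ _).hom
  let F₀ := (R.mapHomotopyCategoryPlus ⋙ DerivedCategory.Plus.Qh) ⋙ G'
  let RF₀ := F₀.totalRightDerived DerivedCategory.Plus.Qh WB
  let α₀ := F₀.totalRightDerivedUnit DerivedCategory.Plus.Qh WB
  haveI : (F' ⋙ G').IsRightDerivedFunctor β WB := by
    rw [Functor.isRightDerivedFunctor_iff_isIso_rightDerivedDesc RF₀ α₀ WB]
    let γ := RF₀.rightDerivedDesc α₀ WB _ β
    haveI : ∀ Y, IsIso (γ.app Y) := by
      intro Y
      let J := (InjectiveObject.ι B).mapHomotopyCategoryPlus ⋙ DerivedCategory.Plus.Qh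
      rw [← NatTrans.isIso_app_iff_of_iso γ (J.objObjPreimageIso Y)]
      let X := (InjectiveObject.ι B).mapHomotopyCategoryPlus.obj (J.objPreimage Y)
      have hf := Functor.rightDerived_fac_app RF₀ α₀ WB _ β X
      haveI : IsIso (α₀.app X) := inferInstance
      haveI : IsIso (R.rightDerivedFunctorPlusUnit.app X) := inferInstance
      haveI : IsIso (β.app X) := by
        simp only [β, NatTrans.comp_app, Functor.whiskerRight_app]
        infer_instance
      exact IsIso.of_isIso_fac_left hf
    exact NatIso.isIso_of_isIso_app γ
  exact ⟨(adjK adj).derived WA WB e.hom R.rightDerivedFunctorPlusUnit⟩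

end Groth.Agent.LRPlusAdj
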