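import Mathlib
import Groth.Agent.Lib.H5RPlus

/-! Composition of right derived functors on `D⁺`. -/

set_option autoImplicit false
universe w₁ w₂ w₃ v₁ v₂ v₃ u₁ u₂ u₃
open CategoryTheory Category Limits

namespace Groth.Agent.LRPlusComp

variable {A : Type u₁} [Category.{v₁} A] [Abelian A] [HasDerivedCategory.{w₁} A] [EnoughInjectives A]
  {B : Type u₂} [Category.{v₂} B] [Abelian B] [HasDerivedCategory.{w₂} B] [EnoughInjectives B]
  {C : Type u₃} [Category.{v₃} C] [Abelian C] [HasDerivedCategory.{w₃} C]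

theorem nonempty_comp (F : A ⥤ B) [F.Additive] (G : B ⥤ C) [G.Additive] (H : A ⥤ C) [H.Additive]
    (e : F ⋙ G ≅ H) (hF : ∀ I : A, Injective I → Injective (F.obj I)) :
    Nonempty (F.rightDerivedFunctorPlus ⋙ G.rightDerivedFunctorPlus ≅ H.rightDerivedFunctorPlus) := by
  let J := (InjectiveObject.ι A).mapHomotopyCategoryPlus
  let eF : J ⋙ DerivedCategory.Plus.Qh ⋙ F.rightDerivedFunctorPlus ≅
      J ⋙ F.mapHomotopyCategoryPlus ⋙ DerivedCategory.Plus.Qh :=
    (NatIso.ofComponents (fun X => asIso (F.rightDerivedFunctorPlusUnit.app (J.obj X)))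
      (fun g => F.rightDerivedFunctorPlusUnit.naturality (J.map g))).symm
  let eH : J ⋙ H.mapHomotopyCategoryPlus ⋙ DerivedCategory.Plus.Qh ≅
      J ⋙ DerivedCategory.Plus.Qh ⋙ H.rightDerivedFunctorPlus :=
    NatIso.ofComponents (fun X => asIso (H.rightDerivedFunctorPlusUnit.app (J.obj X)))
      (fun g => H.rightDerivedFunctorPlusUnit.naturality (J.map g))
  haveI : ∀ (X : HomotopyCategory.Plus (InjectiveObject A)),
      IsIso (G.rightDerivedFunctorPlusUnit.app (F.mapHomotopyCategoryPlus.obj (J.obj X))) := fun X => by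
    haveI : ∀ n : ℤ, Injective ((F.mapHomotopyCategoryPlus.obj (J.obj X)).obj.as.X n) := fun n =>
      hF _ (X.obj.as.X n).property
    infer_instance
  let eG : J ⋙ F.mapHomotopyCategoryPlus ⋙ DerivedCategory.Plus.Qh ⋙ G.rightDerivedFunctorPlus ≅
      J ⋙ F.mapHomotopyCategoryPlus ⋙ G.mapHomotopyCategoryPlus ⋙ DerivedCategory.Plus.Qh :=
    (NatIso.ofComponents (fun X => asIso (G.rightDerivedFunctorPlusUnit.app (F.mapHomotopyCategoryPlus.obj (J.obj X))))
      (fun g => G.rightDerivedFunctorPlusUnit.naturality (F.mapHomotopyCategoryPlus.map (J.map g)))).symm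
  let E := H5RPlus.eqv A
  let c : E.functor ⋙ F.rightDerivedFunctorPlus ⋙ G.rightDerivedFunctorPlus ≅
      E.functor ⋙ H.rightDerivedFunctorPlus :=
    Functor.isoWhiskerRight eF G.rightDerivedFunctorPlus ≪≫ eG ≪≫
      Functor.isoWhiskerLeft J (Functor.isoWhiskerRight (Functor.mapHomotopyCategoryPlusCompIso e)
        DerivedCategory.Plus.Qh) ≪≫ eH
  exact ⟨(Functor.leftUnitor _).symm ≪≫ Functor.isoWhiskerRight E.counitIso.symm _ ≪≫ Functor.associator _ _ _ ≪≫
    Functor.isoWhiskerLeft E.inverse c ≪≫ (Functor.associator _ _ _).symm ≪≫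
    Functor.isoWhiskerRight E.counitIso _ ≪≫ Functor.leftUnitor _⟩

end Groth.Agent.LRPlusComp
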