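import Groth.Prelude.Def_RelSpec
import Groth.Agent.Lib.LQAff
import Groth.Prelude.Def_Coh

set_option autoImplicit false
universe u

open CategoryTheory Limits AlgebraicGeometry TopologicalSpace Opposite

namespace Groth.Agent.LRelSpec

variable {S : Scheme.{u}}

lemma isIso_gammaAff (A : RelSpec.QCAlg S) (U : S.Opens) (hU : IsAffineOpen U) :
    IsIso (A.gammaAff U hU) := by
  have hr : A.π ⁻¹ᵁ U = (A.ι U hU).opensRange := A.π_preimage U hU
  have h2 : IsIso ((A.ι U hU).appLE (A.π ⁻¹ᵁ U) ⊤ (A.top_le_preimage U hU)) := by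
    rw [Scheme.Hom.appLE]
    haveI : IsIso ((A.ι U hU).app (A.π ⁻¹ᵁ U)) := (A.ι U hU).isIso_app _ hr.le
    haveI : IsIso (homOfLE (A.top_le_preimage U hU)) :=
      ⟨homOfLE le_top, Subsingleton.elim _ _, Subsingleton.elim _ _⟩
    infer_instance
  exact IsIso.comp_isIso' h2 inferInstance

theorem isIso_gammaMap (A : RelSpec.QCAlg S) : IsIso A.gammaMap := by
  let P : TopCat.Sheaf CommRingCat.{u} S.carrier :=
    ⟨A.π.base _* A.spec.presheaf, TopCat.Sheaf.pushforward_sheaf_of_sheaf _ A.spec.sheaf.property⟩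
  let α : P ⟶ (⟨A.presheaf, A.isSheaf⟩ : TopCat.Sheaf CommRingCat.{u} S.carrier) := ⟨A.gammaMap⟩
  have h : IsIso α := by
    refine Functor.IsCoverDense.iso_of_restrict_iso (G := Scheme.AffineZariskiSite.toOpensFunctor S) α ?_
    change IsIso ((Scheme.AffineZariskiSite.toOpensFunctor S).op.whiskerLeft A.gammaMap)
    rw [A.gammaMap_restrict, NatTrans.isIso_iff_isIso_app]
    exact fun U => isIso_gammaAff A U.unop.1 U.unop.2
  have := congrArg InducedCategory.Hom.hom (h.out.choose_spec.1)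
  have h2 := congrArg InducedCategory.Hom.hom (h.out.choose_spec.2)
  exact ⟨⟨h.out.choose.hom, this, h2⟩⟩

theorem isQC_of_isQCoh (B : Sheaf (Opens.grothendieckTopology S) CommRingCat.{u}) (φ : S.sheaf ⟶ B)
    (hB : Coh.IsQCoh ((SheafOfModules.restrictScalars
      ((sheafCompose (Opens.grothendieckTopology S) (forget₂ CommRingCat.{u} RingCat.{u})).map φ)).obj
      (SheafOfModules.unit ((sheafCompose (Opens.grothendieckTopology S) (forget₂ CommRingCat.{u} RingCat.{u})).obj B)))) :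
    RelSpec.IsQC B.obj φ.hom := by
  intro U hU r
  let M : S.Modules := (SheafOfModules.restrictScalars
      ((sheafCompose (Opens.grothendieckTopology S) (forget₂ CommRingCat.{u} RingCat.{u})).map φ)).obj
      (SheafOfModules.unit ((sheafCompose (Opens.grothendieckTopology S) (forget₂ CommRingCat.{u} RingCat.{u})).obj B))
  haveI : M.IsQuasicoherent := hB
  obtain ⟨hs, hk⟩ := LQcoh.exists_pow_of_affine hU M r
  let i := (homOfLE (S.basicOpen_le r)).op
  letI := (B.obj.map i).hom.toAlgebra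
  let b : B.obj.obj (op U) := φ.hom.app (op U) r
  have hnat : ∀ a : Γ(S, U), φ.hom.app (op (S.basicOpen r)) (S.presheaf.map i a) =
      B.obj.map i (φ.hom.app (op U) a) := fun a => NatTrans.naturality_apply φ.hom i a
  have hu : IsUnit (B.obj.map i b) := by
    have : IsUnit (φ.hom.app (op (S.basicOpen r)) (S.presheaf.map i r)) :=
      (LQcoh.isUnit_resO U r).map _
    rwa [hnat] at this
  refine (isLocalization_iff (Submonoid.powers b) _).2 ⟨?_, ?_, ?_⟩
  · rintro ⟨_, N, rfl⟩
    exact (map_pow (B.obj.map i).hom b N).symm ▸ hu.pow N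
  · intro z
    obtain ⟨N, y, hy⟩ := hs z
    refine ⟨⟨y, ⟨b ^ N, N, rfl⟩⟩, ?_⟩
    change z * B.obj.map i (b ^ N) = B.obj.map i y
    refine Eq.trans ?_ hy.symm
    change z * B.obj.map i (b ^ N) = φ.hom.app (op (S.basicOpen r)) (S.presheaf.map i (r ^ N)) * z
    rw [hnat, show φ.hom.app (op U) (r ^ N) = b ^ N from map_pow (φ.hom.app (op U)).hom r N, mul_comm]
  · intro x y hxy
    obtain ⟨N, hN⟩ := hk (x - y : B.obj.obj (op U)) (by
      change B.obj.map i (x - y) = 0
      rw [map_sub, sub_eq_zero]; exact hxy)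
    refine ⟨⟨b ^ N, N, rfl⟩, sub_eq_zero.1 ?_⟩
    have h0 : φ.hom.app (op U) (r ^ N) * (x - y) = 0 := hN
    rw [show φ.hom.app (op U) (r ^ N) = b ^ N from map_pow (φ.hom.app (op U)).hom r N] at h0
    change b ^ N * x - b ^ N * y = 0
    rw [← mul_sub]
    exact h0

theorem exists_isAffineHom_of_algebra (B : Sheaf (Opens.grothendieckTopology S) CommRingCat.{u}) (φ : S.sheaf ⟶ B)
    (hB : RelSpec.IsQC B.obj φ.hom) :
    ∃ (X : Scheme.{u}) (f : X ⟶ S) (_ : IsAffineHom f)
      (e : B ≅ (TopCat.Sheaf.pushforward CommRingCat.{u} f.base).obj X.sheaf),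
      (φ ≫ e.hom).hom = f.c := by
  let A : RelSpec.QCAlg S := ⟨B.obj, B.property, φ.hom, hB⟩
  haveI := isIso_gammaMap A
  let e' : B.obj ≅ A.π.base _* A.spec.presheaf := (asIso A.gammaMap).symm
  let e : B ≅ (TopCat.Sheaf.pushforward CommRingCat.{u} A.π.base).obj A.spec.sheaf :=
    (fullyFaithfulSheafToPresheaf _ _).preimageIso e'
  refine ⟨A.spec, A.π, inferInstance, e, ?_⟩
  change A.str ≫ inv A.gammaMap = A.π.c
  rw [IsIso.comp_inv_eq, A.π_c_gammaMap]

end Groth.Agent.LRelSpec
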