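import Groth.Agent.Lib.H5RAcy
import Groth.Agent.Lib.H5TopCoh
import Groth.Agent.Lib.LExtZero
import Groth.Agent.Lib.LQAff
import Groth.Prelude.Def_Coh

/-! Higher direct images of modules and of the underlying abelian sheaves agree. -/

set_option autoImplicit false
universe u
open CategoryTheory Category Limits AlgebraicGeometry Opposite TopologicalSpace

namespace Groth.Agent.LRpushAbComp
open Groth.Agent

attribute [local instance] HasDerivedCategory.standard

variable {X Y : Scheme.{u}} (f : X ⟶ Y) [HasInjectiveResolutions X.Modules] (M : X.Modules)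

/-- forget -/
noncomputable abbrev T (X : Scheme.{u}) : X.Modules ⥤ LCech.Shf X.toTopCat :=
  LQcoh.toShf X

set_option maxHeartbeats 1000000 in
theorem main (n : ℕ) : Nonempty (Coh.toAb ((Coh.Rpush f n).obj M) ≅ (Coh.RpushAb f n).obj (Coh.toAb M)) := by
  haveI : (Coh.pushAb f).IsRightAdjoint :=
    (TopCat.Sheaf.pullbackPushforwardAdjunction AddCommGrpCat.{u} f.base).isRightAdjoint
  haveI : PreservesFiniteLimits (Coh.pushAb f) := inferInstance
  let P := injectiveResolution M
  let K := ((T X).mapHomologicalComplex (ComplexShape.up ℤ)).obj P.cochainComplex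
  haveI : CochainComplex.IsStrictlyGE K 0 := by
    rw [CochainComplex.isStrictlyGE_iff]
    intro i hi
    exact (T X).map_isZero (P.cochainComplex.isZero_of_isStrictlyGE 0 i hi)
  have hacy : ∀ i, H5RAcy.Acy (Coh.pushAb f) (K.X i) := fun i q hq => by
    obtain ⟨m, rfl⟩ : ∃ m, q = m + 1 := ⟨q - 1, by omega⟩
    haveI : Injective (P.cochainComplex.X i) := inferInstance
    refine H5TopCoh.isZero_Rpush_flasque f.base (K.X i) ?_ m
    constructor
    intro U V h
    refine (AddCommGrpCat.epi_iff_surjective _).2 fun s => ?_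
    obtain ⟨t, ht⟩ := LExtZero.res_surjective_of_injective (P.cochainComplex.X i) V.unop s
    exact ⟨LQcoh.res _ (le_top : U.unop ≤ ⊤) t,
      (LQcoh.res_res (P.cochainComplex.X i) (le_top : U.unop ≤ ⊤) h.unop.le t).trans ht⟩
  obtain ⟨e⟩ := H5RAcy.nonempty_shiftQPIso_of_acy (Coh.pushAb f) K 0 hacy n
  haveI hq : QuasiIso (((T X).mapHomologicalComplex (ComplexShape.up ℤ)).map P.ι') := inferInstance
  let e₀ : (H5RAcy.sgl _).obj (Coh.toAb M) ≅ H5RPlus.QP K 0 :=
    DerivedCategory.Plus.ι.preimageIso ((DerivedCategory.singleFunctorIsoCompQ _ 0).app _ ≪≫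
      DerivedCategory.Q.mapIso ((HomologicalComplex.singleMapHomologicalComplex (T X) (ComplexShape.up ℤ) 0).app M).symm ≪≫
      @asIso _ _ _ _ (DerivedCategory.Q.map (((T X).mapHomologicalComplex (ComplexShape.up ℤ)).map P.ι'))
        ((DerivedCategory.isIso_Q_map_iff_quasiIso _ _).2 hq))
  let e₁ : (Coh.RpushAb f n).obj (Coh.toAb M) ≅ (((T X) ⋙ Coh.pushAb f).rightDerived n).obj M :=
    (H5RAcy.shiftSglIso (Coh.pushAb f) (Coh.toAb M) n).symm ≪≫ (((H5RPlus.R0 (Coh.pushAb f)).shift (n : ℤ)).mapIso e₀) ≪≫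
      e ≪≫ H5RAcy.homologyResolutionIso ((T X) ⋙ Coh.pushAb f) P n
  let e₂ : Coh.toAb ((Coh.Rpush f n).obj M) ≅ (((Scheme.Modules.pushforward f) ⋙ T Y).rightDerived n).obj M :=
    (T Y).mapIso (P.isoRightDerivedObj (Scheme.Modules.pushforward f) n) ≪≫
      (((((Scheme.Modules.pushforward f).mapHomologicalComplex _).obj P.cocomplex).sc n).mapHomologyIso (T Y)).symm ≪≫
      (P.isoRightDerivedObj ((Scheme.Modules.pushforward f) ⋙ T Y) n).symm
  exact ⟨e₂ ≪≫ e₁.symm⟩

end Groth.Agent.LRpushAbComp
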