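import Groth.Agent.Lib.LHDUSheaf
import Groth.Agent.Lib.H5PlusLES
import Groth.Prelude.Def_CohTop

/-! Cohomology sheaves of the derived direct image as sheafified hypercohomology presheaves. -/

universe u

namespace Groth.Agent.LRpushHDU
open CategoryTheory Limits Opposite TopologicalSpace
open Groth.Agent

theorem main {X Y : TopCat.{u}} (f : X ⟶ Y)
    [HasDerivedCategory.{u} (CohTop.Ab X)] [HasDerivedCategory.{u} (CohTop.Ab Y)]
    (K : CochainComplex.Plus (CohTop.Ab X)) (p : ℤ) :
    Nonempty ((DerivedCategory.Plus.homologyFunctor (CohTop.Ab Y) p).obj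
        ((CohTop.push f).rightDerivedFunctorPlus.obj
          (DerivedCategory.Plus.Qh.obj ((HomotopyCategory.Plus.quotient (CohTop.Ab X)).obj K))) ≅
      (presheafToSheaf (Opens.grothendieckTopology Y) AddCommGrpCat.{u}).obj
        ((Opens.map f).op ⋙ CohCx.HDUPresheaf (DerivedCategory.Q.obj K.obj) p)) := by
  obtain ⟨J, i, hJ, hi⟩ := H5PlusLES.exists_inj_res K
  let q := HomotopyCategory.Plus.quotient (CohTop.Ab X)
  have : IsIso (DerivedCategory.Plus.Qh.map (q.map i)) :=
    Localization.inverts DerivedCategory.Plus.Qh (HomotopyCategory.Plus.quasiIso (CohTop.Ab X)) _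
      ((HomotopyCategory.quotient_map_mem_quasiIso_iff _).2 hi)
  obtain ⟨n, hn⟩ := J.property
  have : J.obj.IsStrictlyGE n := hn
  have : ∀ m, Injective (J.obj.X m) := hJ
  have : CochainComplex.IsKInjective J.obj := CochainComplex.isKInjective_of_injective J.obj n
  have : ∀ m, Injective ((q.obj J).obj.as.X m) := hJ
  have hu : IsIso ((CohTop.push f).rightDerivedFunctorPlusUnit.app (q.obj J)) := inferInstance
  have hqi : QuasiIso i.hom := hi
  have : IsIso (DerivedCategory.Q.map i.hom) := (DerivedCategory.isIso_Q_map_iff_quasiIso _ i.hom).2 hqi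
  let J' : CochainComplex (CohTop.Ab X) ℤ := J.obj⟦p⟧
  have : J'.IsKInjective := inferInstance
  let P := ((CohTop.push f).mapHomologicalComplex (ComplexShape.up ℤ)).obj J.obj
  -- the left side is `H^p` of the pushed complex
  let l : (DerivedCategory.Plus.homologyFunctor (CohTop.Ab Y) p).obj
      ((CohTop.push f).rightDerivedFunctorPlus.obj (DerivedCategory.Plus.Qh.obj (q.obj K))) ≅ P.homology p :=
    (DerivedCategory.Plus.homologyFunctor (CohTop.Ab Y) p).mapIso
      ((CohTop.push f).rightDerivedFunctorPlus.mapIso (asIso (DerivedCategory.Plus.Qh.map (q.map i))) ≪≫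
        (@asIso _ _ _ _ _ hu).symm) ≪≫
    (DerivedCategory.homologyFunctor (CohTop.Ab Y) p).mapIso ((DerivedCategory.quotientCompQhIso (CohTop.Ab Y)).app P) ≪≫
    (DerivedCategory.homologyFunctorFactors (CohTop.Ab Y) p).app P
  -- the right side
  obtain ⟨e⟩ := LHDUSheaf.presheaf_iso J'
  let W := (Functor.whiskeringLeft _ _ AddCommGrpCat.{u}).obj (Opens.map f).op
  let S := presheafToSheaf (Opens.grothendieckTopology Y) AddCommGrpCat.{u}
  let P' := ((CohTop.push f).mapHomologicalComplex (ComplexShape.up ℤ)).obj J'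
  let η : sheafToPresheaf (Opens.grothendieckTopology Y) AddCommGrpCat.{u} ⋙ S ≅ 𝟭 _ :=
    asIso (sheafificationAdjunction (Opens.grothendieckTopology Y) AddCommGrpCat.{u}).counit
  let ec : ((W ⋙ S).mapHomologicalComplex (ComplexShape.up ℤ)).obj (LHDUSheaf.secI J') ≅ P' :=
    HomologicalComplex.Hom.isoOfComponents (fun m => η.app (P'.X m)) (fun a b _ => (η.hom.naturality (P'.d a b)).symm)
  let eX : (shiftFunctor (DerivedCategory (CohTop.Ab X)) p).obj (DerivedCategory.Q.obj K.obj) ≅
      DerivedCategory.Q.obj J' :=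
    (shiftFunctor _ p).mapIso (asIso (DerivedCategory.Q.map i.hom)) ≪≫
      ((DerivedCategory.Q.commShiftIso p).app J.obj).symm
  let r : S.obj ((Opens.map f).op ⋙ CohCx.HDUPresheaf (DerivedCategory.Q.obj K.obj) p) ≅ P.homology p :=
    (W ⋙ S).mapIso (Functor.isoWhiskerLeft _ (preadditiveYoneda.mapIso eX) ≪≫ e) ≪≫
    (((LHDUSheaf.secI J').sc 0).mapHomologyIso (W ⋙ S)).symm ≪≫
    (HomologicalComplex.homologyFunctor _ _ 0).mapIso
      (ec ≪≫ (((CohTop.push f).mapHomologicalComplex (ComplexShape.up ℤ)).commShiftIso p).app J.obj) ≪≫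
    ((HomologicalComplex.homologyFunctor (CohTop.Ab Y) (ComplexShape.up ℤ) 0).shiftIso p 0 p (by simp)).app P
  exact ⟨l ≪≫ r.symm⟩

end Groth.Agent.LRpushHDU
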