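import Groth.Agent.Lib.H7RpushQCoh
import Groth.Agent.Lib.H7RpushCalc

/-! Higher direct images (degreewise derived functors) of quasi-coherent modules are quasi-coherent. -/

set_option autoImplicit false
universe u
open CategoryTheory Category Limits AlgebraicGeometry Opposite Pretriangulated

namespace Groth.Agent.LRpushQCoh
open Groth.Agent

attribute [local instance] HasDerivedCategory.standard

section extend

universe v v' u'

variable {A : Type u} [Category.{v} A] [Abelian A] {B : Type u'} [Category.{v'} B] [Abelian B]
  (F : A ⥤ B) [F.Additive] (K : CochainComplex A ℕ)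

lemma isZero_negSucc (L : CochainComplex A ℕ) (k : ℕ) : IsZero ((L.extend ComplexShape.embeddingUpNat).X (Int.negSucc k)) :=
  L.isZero_extend_X _ _ fun i h => by simp [ComplexShape.embeddingUpNat] at h

/-- components -/
noncomputable def comps : ∀ n : ℤ, F.obj ((K.extend ComplexShape.embeddingUpNat).X n) ≅
    (((F.mapHomologicalComplex (ComplexShape.up ℕ)).obj K).extend ComplexShape.embeddingUpNat).X n
  | Int.ofNat k => F.mapIso (K.extendXIso ComplexShape.embeddingUpNat (i := k) rfl) ≪≫
      (HomologicalComplex.extendXIso ((F.mapHomologicalComplex (ComplexShape.up ℕ)).obj K) ComplexShape.embeddingUpNat (i := k) rfl).symm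
  | Int.negSucc k => (F.map_isZero (isZero_negSucc K k)).iso (isZero_negSucc ((F.mapHomologicalComplex _).obj K) k)

/-- extension by zero commutes with additive functors -/
noncomputable def mapExtendIso :
    (F.mapHomologicalComplex (ComplexShape.up ℤ)).obj (K.extend ComplexShape.embeddingUpNat) ≅
      ((F.mapHomologicalComplex (ComplexShape.up ℕ)).obj K).extend ComplexShape.embeddingUpNat :=
  HomologicalComplex.Hom.isoOfComponents (comps F K) (by
    intro i j hij
    obtain rfl : i + 1 = j := hij
    cases i with
    | negSucc k => exact (F.map_isZero (isZero_negSucc K k)).eq_of_src _ _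
    | ofNat k =>
      have h1 : (Int.ofNat k) + 1 = Int.ofNat (k + 1) := rfl
      rw [h1]
      simp only [comps, Functor.mapHomologicalComplex_obj_d, Iso.trans_hom, Functor.mapIso_hom, Iso.symm_hom]
      erw [HomologicalComplex.extend_d_eq ((F.mapHomologicalComplex (ComplexShape.up ℕ)).obj K) ComplexShape.embeddingUpNat
        (i := k) (j := k + 1) rfl rfl, HomologicalComplex.extend_d_eq K ComplexShape.embeddingUpNat (i := k) (j := k + 1) rfl rfl]
      erw [Category.assoc, F.map_comp, F.map_comp]
      erw [Iso.inv_hom_id_assoc]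
      refine Eq.symm ?_
      refine (Category.assoc _ _ _).trans (congrArg (_ ≫ ·) ((Category.assoc _ _ _).trans (congrArg (_ ≫ ·) ?_)))
      exact ((Category.assoc _ _ _).symm.trans (congrArg (· ≫ _) ((F.map_comp _ _).symm.trans ((congrArg F.map (Iso.inv_hom_id _)).trans (F.map_id _))))).trans (Category.id_comp _))

end extend

variable {X S : Scheme.{u}} [HasInjectiveResolutions X.Modules]

theorem isQCoh_rightDerived_push (f : X ⟶ S) [QuasiCompact f] [QuasiSeparated f] (M : X.Modules)
    (hM : Coh.IsQCoh M) (q : ℕ) : Coh.IsQCoh (((Scheme.Modules.pushforward f).rightDerived q).obj M) := by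
  haveI := H7MV.hasRpush f
  let R := injectiveResolution M
  have hK : DCoh.IsQCohD (DerivedCategory.Q.obj R.cochainComplex) := by
    have hi : IsIso (DerivedCategory.Q.map R.ι') := (DerivedCategory.isIso_Q_map_iff_quasiIso _ _).2 inferInstance
    refine H7RpushQCoh.isQCohD_of_iso (asIso (DerivedCategory.Q.map R.ι')) (H7TensorQCD.isQCohD_Q _ fun n => ?_)
    by_cases h : n = 0
    · subst h
      exact H7AffineD.qcoh_of_iso (HomologicalComplex.singleObjXSelf (ComplexShape.up ℤ) 0 M).symm hM
    · exact H7AffineD.qcoh_of_isZero (HomologicalComplex.isZero_single_obj_X (ComplexShape.up ℤ) 0 M n h) hM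
  have h := (H7RpushQCoh.isQCohD_rpush f _ hK) (q : ℤ)
  refine H7AffineD.qcoh_of_iso ?_ h
  exact (DerivedCategory.homologyFunctor _ _).mapIso (H7RpushCalc.rpushIso f R.cochainComplex inferInstance) ≪≫
    (DerivedCategory.homologyFunctorFactors _ _).app _ ≪≫
    (HomologicalComplex.homologyFunctor _ _ _).mapIso (mapExtendIso (Scheme.Modules.pushforward f) R.cocomplex) ≪≫
    HomologicalComplex.extendHomologyIso _ ComplexShape.embeddingUpNat (j := q) rfl ≪≫
    (R.isoRightDerivedObj (Scheme.Modules.pushforward f) q).symm

end Groth.Agent.LRpushQCoh
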