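import Mathlib

set_option autoImplicit false

universe u

open Set Topology TopologicalSpace

namespace Groth.Agent.LTopFin

variable {X : Type u} [TopologicalSpace X]

theorem connectedComponent_isOpen [NoetherianSpace X] (x : X) : IsOpen (connectedComponent x) := by
  have e : (connectedComponent x)ᶜ = ⋃ Z ∈ {Z ∈ irreducibleComponents X | Disjoint Z (connectedComponent x)}, Z := by
    ext y
    simp only [mem_compl_iff, mem_iUnion, mem_ofPred_eq, exists_prop]
    constructor
    · intro hy
      refine ⟨irreducibleComponent y, ⟨irreducibleComponent_mem_irreducibleComponents y, ?_⟩, mem_irreducibleComponent⟩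
      rw [Set.disjoint_left]
      intro z hz hz'
      apply hy
      rw [connectedComponent_eq hz']
      exact (isIrreducible_irreducibleComponent).isConnected.isPreconnected.subset_connectedComponent hz mem_irreducibleComponent
    · rintro ⟨Z, ⟨-, hd⟩, hy⟩ hc
      exact hd.le_bot ⟨hy, hc⟩
  rw [← isClosed_compl_iff, e]
  exact (NoetherianSpace.finite_irreducibleComponents.subset fun Z h => h.1).isClosed_biUnion
    fun Z h => isClosed_of_mem_irreducibleComponents Z h.1

theorem exists_open_noetherian (hX : ∀ x : X, ∃ U ∈ nhds x, NoetherianSpace U) (x : X) :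
    ∃ U : Set X, IsOpen U ∧ x ∈ U ∧ NoetherianSpace U := by
  obtain ⟨U, hU, hN⟩ := hX x
  exact ⟨interior U, isOpen_interior, mem_interior_iff_mem_nhds.2 hU, NoetherianSpace.of_subset interior_subset⟩

theorem locallyConnected (hX : ∀ x : X, ∃ U ∈ nhds x, NoetherianSpace U) : LocallyConnectedSpace X := by
  rw [locallyConnectedSpace_iff_connectedComponentIn_open]
  intro F hF x _
  rw [isOpen_iff_forall_mem_open]
  intro y hy
  obtain ⟨U, hU, hyU, hN⟩ := exists_open_noetherian hX y
  have hyF : y ∈ F := connectedComponentIn_subset _ _ hy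
  haveI : NoetherianSpace ↥(F ∩ U) := NoetherianSpace.of_subset inter_subset_right
  let y' : ↥(F ∩ U) := ⟨y, hyF, hyU⟩
  refine ⟨Subtype.val '' connectedComponent y', ?_, (hF.inter hU).isOpenMap_subtype_val _ (connectedComponent_isOpen y'), y', mem_connectedComponent, rfl⟩
  rw [connectedComponentIn_eq hy]
  refine IsPreconnected.subset_connectedComponentIn (isPreconnected_connectedComponent.image _ continuous_subtype_val.continuousOn) ⟨y', mem_connectedComponent, rfl⟩ ?_
  rintro _ ⟨z, -, rfl⟩
  exact z.2.1

/-- Only finitely many irreducible components pass near a point of a locally Noetherian space. -/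
theorem locallyFinite_components (hX : ∀ x : X, ∃ U ∈ nhds x, NoetherianSpace U) :
    LocallyFinite (fun Z : irreducibleComponents X => (Z : Set X)) := by
  intro x
  obtain ⟨U, hU, hxU, hN⟩ := exists_open_noetherian hX x
  refine ⟨U, hU.mem_nhds hxU, ?_⟩
  refine Set.Finite.of_finite_image ((NoetherianSpace.finite_irreducibleComponents (α := U)).image (fun W => closure (Subtype.val '' W)) |>.subset ?_) Subtype.val_injective.injOn
  rintro _ ⟨Z, ⟨z, hz, hzU⟩, rfl⟩
  have hirr : IsIrreducible (Subtype.val ⁻¹' (Z : Set X) : Set U) := by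
    refine ⟨⟨⟨z, hzU⟩, hz⟩, ?_⟩
    exact Z.2.1.2.preimage (hU.isOpenEmbedding_subtypeVal)
  obtain ⟨W, hW, hsub⟩ := exists_mem_irreducibleComponents_subset_of_isIrreducible _ hirr
  refine ⟨W, hW, ?_⟩
  have h1 : IsIrreducible (closure (Subtype.val '' W)) := (hW.1.image _ continuous_subtype_val.continuousOn).closure
  have h2 : (Z : Set X) ⊆ closure (Subtype.val '' W) :=
    (subset_closure_inter_of_isPreirreducible_of_isOpen Z.2.1.2 hU ⟨z, hz, hzU⟩).trans
      (closure_mono fun a ha => ⟨⟨a, ha.2⟩, hsub ha.1, rfl⟩)
  exact le_antisymm (Z.2.2 h1 h2) h2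

theorem isClosed_union_components (hX : ∀ x : X, ∃ U ∈ nhds x, NoetherianSpace U) (s : Set (irreducibleComponents X)) :
    IsClosed (⋃ Z ∈ s, (Z : Set X)) := by
  rw [biUnion_eq_iUnion]
  exact ((locallyFinite_components hX).comp_injective Subtype.val_injective).isClosed_iUnion
    fun Z => isClosed_of_mem_irreducibleComponents _ Z.1.2

/-- The complement of the other components is an open subset of a component. -/
theorem exists_open_subset_component (hX : ∀ x : X, ∃ U ∈ nhds x, NoetherianSpace U) (Z : irreducibleComponents X) :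
    ∃ W : Set X, IsOpen W ∧ W ⊆ Z ∧ ∀ x ∈ (Z : Set X), (∀ Z' : irreducibleComponents X, x ∈ (Z' : Set X) → Z' = Z) → x ∈ W := by
  refine ⟨(⋃ Z' ∈ {Z' | Z' ≠ Z}, (Z' : Set X))ᶜ, (isClosed_union_components hX _).isOpen_compl, ?_, ?_⟩
  · intro x hx
    by_contra h
    refine hx (mem_biUnion (x := ⟨irreducibleComponent x, irreducibleComponent_mem_irreducibleComponents x⟩) ?_ mem_irreducibleComponent)
    intro e
    exact h (e ▸ mem_irreducibleComponent)
  · intro x _ huniq hmem
    obtain ⟨Z', hne, hx'⟩ := mem_iUnion₂.1 hmem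
    exact hne (huniq Z' hx')

theorem isOpen_component_of_disjoint (hX : ∀ x : X, ∃ U ∈ nhds x, NoetherianSpace U)
    (hd : (irreducibleComponents X).PairwiseDisjoint id) (Z : Set X) (hZ : Z ∈ irreducibleComponents X) : IsOpen Z := by
  obtain ⟨W, hW, hsub, hmem⟩ := exists_open_subset_component hX ⟨Z, hZ⟩
  have : W = Z := le_antisymm hsub fun x hx => hmem x hx fun Z' hx' => by
    by_contra hne
    exact (hd Z'.2 hZ (fun e => hne (Subtype.ext e))).le_bot ⟨hx', hx⟩
  exact this ▸ hW

theorem component_eq_of_isOpen {Z : Set X} (hZ : Z ∈ irreducibleComponents X) (ho : IsOpen Z) {x : X} (hx : x ∈ Z) :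
    Z = connectedComponent x :=
  le_antisymm (hZ.1.isConnected.isPreconnected.subset_connectedComponent hx)
    (IsClopen.connectedComponent_subset ⟨isClosed_of_mem_irreducibleComponents Z hZ, ho⟩ hx)

theorem tfae_components (hX : ∀ x : X, ∃ U ∈ nhds x, NoetherianSpace U) :
    List.TFAE [∀ Z ∈ irreducibleComponents X, IsOpen Z,
      irreducibleComponents X = Set.range (connectedComponent : X → Set X),
      ∀ x : X, IsIrreducible (connectedComponent x),
      (irreducibleComponents X).PairwiseDisjoint id] := by
  tfae_have 4 → 1 := isOpen_component_of_disjoint hX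
  tfae_have 1 → 3 := fun h x => by
    have := component_eq_of_isOpen (irreducibleComponent_mem_irreducibleComponents x) (h _ (irreducibleComponent_mem_irreducibleComponents x)) mem_irreducibleComponent
    rw [← this]; exact isIrreducible_irreducibleComponent
  tfae_have 3 → 2 := fun h => by
    ext Z
    constructor
    · intro hZ
      obtain ⟨x, hx⟩ := hZ.1.1
      have h1 := hZ.1.isConnected.isPreconnected.subset_connectedComponent hx
      exact ⟨x, le_antisymm (hZ.2 (h x) h1) h1⟩
    · rintro ⟨x, rfl⟩
      exact ⟨h x, fun W hW hle => hW.isConnected.isPreconnected.subset_connectedComponent (hle mem_connectedComponent)⟩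
  tfae_have 2 → 4 := fun h => by
    rintro Z hZ Z' hZ' hne
    rw [h] at hZ hZ'
    obtain ⟨x, rfl⟩ := hZ
    obtain ⟨y, rfl⟩ := hZ'
    exact connectedComponent_disjoint hne
  tfae_finish

theorem irreducibleSpace_of_disjoint [ConnectedSpace X] (hX : ∀ x : X, ∃ U ∈ nhds x, NoetherianSpace U)
    (hd : (irreducibleComponents X).PairwiseDisjoint id) : IrreducibleSpace X := by
  obtain ⟨x⟩ := ConnectedSpace.toNonempty (α := X)
  have h : (irreducibleComponents X).PairwiseDisjoint id ↔ ∀ x : X, IsIrreducible (connectedComponent x) := (tfae_components hX).out 3 2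
  have h3 := h.1 hd x
  rw [PreconnectedSpace.connectedComponent_eq_univ] at h3
  exact irreducibleSpace_def X |>.2 h3

theorem isCompact_of_subset_compact (hX : ∀ x : X, ∃ U ∈ nhds x, NoetherianSpace U) {K A : Set X}
    (hK : IsCompact K) (hA : A ⊆ K) : IsCompact A := by
  choose U hU hxU hN using exists_open_noetherian hX
  obtain ⟨t, ht⟩ := hK.elim_finite_subcover U hU fun x _ => mem_iUnion.2 ⟨x, hxU x⟩
  haveI : NoetherianSpace ↥(⋃ i : t, U i) := by
    haveI : ∀ i : t, NoetherianSpace (U i) := fun i => hN i
    exact NoetherianSpace.iUnion _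
  have hsub : A ⊆ ⋃ i : t, U i := by
    intro a ha
    obtain ⟨i, hi, hai⟩ := mem_iUnion₂.1 (ht (hA ha))
    exact mem_iUnion.2 ⟨⟨i, hi⟩, hai⟩
  have := (NoetherianSpace.isCompact (Subtype.val ⁻¹' A : Set ↥(⋃ i : t, U i))).image continuous_subtype_val
  rwa [Subtype.image_preimage_coe, inter_eq_right.2 hsub] at this

theorem discrete_finite_of_t1 [NoetherianSpace X] [T1Space X] [QuasiSober X] : Finite X ∧ DiscreteTopology X := by
  have h : ∀ x : X, {x} ∈ irreducibleComponents X := fun x => by
    refine ⟨isIrreducible_singleton, fun W hW hle => ?_⟩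
    obtain ⟨g, hg⟩ := QuasiSober.sober hW.closure isClosed_closure
    intro w hw
    have hgs : closure ({g} : Set X) = {g} := isClosed_singleton.closure_eq
    have hg' : {g} = closure W := hgs.symm.trans hg
    have h1 : w = g := by simpa [← hg'] using subset_closure hw
    have h2 : x = g := by simpa [← hg'] using subset_closure (hle (mem_singleton x))
    simp [h1, h2]
  have hfin : Finite X := by
    haveI := (NoetherianSpace.finite_irreducibleComponents (α := X)).to_subtype
    exact Finite.of_injective (fun x => (⟨{x}, h x⟩ : irreducibleComponents X))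
      fun a b e => singleton_injective (congrArg Subtype.val e)
  exact ⟨hfin, inferInstance⟩

end Groth.Agent.LTopFin
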