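import Mathlib
import Groth.Agent.Lib.LTopFin

set_option autoImplicit false

universe u

open CategoryTheory Limits AlgebraicGeometry Set Topology

namespace Groth.Agent.LSchFin

theorem locallyNoetherianSpace (X : Scheme.{u}) [IsLocallyNoetherian X] (x : X) :
    ∃ U ∈ nhds x, TopologicalSpace.NoetherianSpace U := by
  obtain ⟨U, hU, hx, -⟩ := exists_isAffineOpen_mem_and_subset (TopologicalSpace.Opens.mem_top x)
  haveI : IsNoetherianRing Γ(X, U) := IsLocallyNoetherian.component_noetherian ⟨U, hU⟩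
  exact ⟨U, U.2.mem_nhds hx, noetherianSpace_of_isAffineOpen U hU⟩

theorem quasiCompact_of_comp {X Y Z : Scheme.{u}} (f : X ⟶ Y) (g : Y ⟶ Z) [QuasiCompact (f ≫ g)]
    (hX : ∀ x : X, ∃ U ∈ nhds x, TopologicalSpace.NoetherianSpace U) : QuasiCompact f := by
  constructor
  intro V _ hVc
  obtain ⟨K, hK, hKs⟩ : ∃ K : Z.Opens, IsCompact (K : Set Z) ∧ g '' V ⊆ K := by
    have h : ∀ z : Z, ∃ W : Z.Opens, IsAffineOpen W ∧ z ∈ W := fun z => by
      obtain ⟨W, hW, hz, -⟩ := exists_isAffineOpen_mem_and_subset (TopologicalSpace.Opens.mem_top z)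
      exact ⟨W, hW, hz⟩
    choose W hW hzW using h
    obtain ⟨t, ht⟩ := (hVc.image g.continuous).elim_finite_subcover (fun z => (W z : Set Z)) (fun z => (W z).2) fun z _ => mem_iUnion.2 ⟨z, hzW z⟩
    refine ⟨⨆ i ∈ t, W i, ?_, ?_⟩
    · simp only [TopologicalSpace.Opens.coe_iSup]
      exact t.finite_toSet.isCompact_biUnion fun i _ => (hW i).isCompact
    · simpa using ht
  refine LTopFin.isCompact_of_subset_compact hX ((f ≫ g).isCompact_preimage hK) ?_
  intro x hx
  exact hKs ⟨f x, hx, rfl⟩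

theorem quasiCompact_of_isImmersion {X Y : Scheme.{u}} (f : X ⟶ Y) [IsImmersion f]
    (hY : ∀ y : Y, ∃ U ∈ nhds y, TopologicalSpace.NoetherianSpace U) : QuasiCompact f := by
  constructor
  intro V _ hVc
  rw [f.isEmbedding.isCompact_iff]
  exact LTopFin.isCompact_of_subset_compact hY hVc (Set.image_preimage_subset _ _)

variable {X : Scheme.{u}}

theorem exists_unique_component_of_nilradical_prime (x : X) (hx : (nilradical (X.presheaf.stalk x)).IsPrime)
    {Z Z' : Set X} (hZ : Z ∈ irreducibleComponents X) (hZ' : Z' ∈ irreducibleComponents X) (hxZ : x ∈ Z) (hxZ' : x ∈ Z') :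
    Z = Z' := by
  let P : PrimeSpectrum (X.presheaf.stalk x) := ⟨_, hx⟩
  let η : X := X.fromSpecStalk x P
  have key : ∀ Z ∈ irreducibleComponents (X : Type u), x ∈ Z → closure {η} = Z := by
    intro Z hZ hxZ
    obtain ⟨ξ, hξ⟩ := QuasiSober.sober hZ.1 (isClosed_of_mem_irreducibleComponents Z hZ)
    have hs : ξ ⤳ x := specializes_iff_mem_closure.2 (hξ.def ▸ hxZ)
    obtain ⟨q, hq⟩ : ∃ q : PrimeSpectrum (X.presheaf.stalk x), X.fromSpecStalk x q = ξ := by
      change ξ ∈ Set.range (X.fromSpecStalk x); rw [Scheme.range_fromSpecStalk]; exact hs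
    have h1 : P ⤳ q := (PrimeSpectrum.le_iff_specializes _ _).1 (show P ≤ q from nilradical_le_prime q.asIdeal)
    have h2 : η ⤳ ξ := hq ▸ h1.map (X.fromSpecStalk x).continuous
    have h3 : Z ⊆ closure {η} := hξ.def ▸ (specializes_iff_closure_subset.1 h2)
    exact le_antisymm (hZ.2 isIrreducible_singleton.closure h3) h3
  exact (key Z hZ hxZ).symm.trans (key Z' hZ' hxZ')

theorem nilradical_prime_of_unique (x : X)
    (h : ∀ Z ∈ irreducibleComponents (X : Type u), ∀ Z' ∈ irreducibleComponents (X : Type u), x ∈ Z → x ∈ Z' → Z = Z') :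
    (nilradical (X.presheaf.stalk x)).IsPrime := by
  obtain ⟨η, hη⟩ := QuasiSober.sober (isIrreducible_irreducibleComponent (x := x)) isClosed_irreducibleComponent
  have hs : η ⤳ x := specializes_iff_mem_closure.2 (hη.def ▸ mem_irreducibleComponent)
  obtain ⟨P, hP⟩ : ∃ P : PrimeSpectrum (X.presheaf.stalk x), X.fromSpecStalk x P = η := by
    change η ∈ Set.range (X.fromSpecStalk x); rw [Scheme.range_fromSpecStalk]; exact hs
  have hle : ∀ q : PrimeSpectrum (X.presheaf.stalk x), P ≤ q := fun q => by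
    rw [PrimeSpectrum.le_iff_specializes]
    apply (X.fromSpecStalk x).isEmbedding.isInducing.specializes_iff.1
    change X.fromSpecStalk x P ⤳ X.fromSpecStalk x q
    rw [hP]
    let ξ := X.fromSpecStalk x q
    have hξ : ξ ⤳ x := by
      have : ξ ∈ Set.range (X.fromSpecStalk x) := ⟨q, rfl⟩
      rwa [Scheme.range_fromSpecStalk] at this
    have hm : x ∈ irreducibleComponent ξ := hξ.mem_closed isClosed_irreducibleComponent mem_irreducibleComponent
    rw [specializes_iff_mem_closure, hη.def, h _ (irreducibleComponent_mem_irreducibleComponents x) _ (irreducibleComponent_mem_irreducibleComponents ξ) mem_irreducibleComponent hm]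
    exact mem_irreducibleComponent
  have : nilradical (X.presheaf.stalk x) = P.asIdeal := by
    apply le_antisymm (nilradical_le_prime P.asIdeal)
    intro a ha
    rw [mem_nilradical, nilpotent_iff_mem_prime]
    exact fun J hJ => hle ⟨J, hJ⟩ ha
  rw [this]; exact P.isPrime

theorem exists_irreducible_nhd [IsLocallyNoetherian X] (x : X) (hx : (nilradical (X.presheaf.stalk x)).IsPrime) :
    ∃ U : X.Opens, x ∈ U ∧ IsIrreducible (U : Set X) := by
  obtain ⟨W, hW, hsub, hmem⟩ := LTopFin.exists_open_subset_component (locallyNoetherianSpace X)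
    ⟨irreducibleComponent x, irreducibleComponent_mem_irreducibleComponents x⟩
  have hxW : x ∈ W := hmem x mem_irreducibleComponent fun Z' hZ' =>
    Subtype.ext (exists_unique_component_of_nilradical_prime x hx Z'.2 (irreducibleComponent_mem_irreducibleComponents x) hZ' mem_irreducibleComponent)
  refine ⟨⟨W, hW⟩, hxW, ⟨x, hxW⟩, ?_⟩
  exact (isIrreducible_irreducibleComponent (x := x)).isPreirreducible.open_subset hW hsub

theorem exists_reduced_nhd [IsLocallyNoetherian X] (x : X) [IsReduced (X.presheaf.stalk x)] :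
    ∃ U : X.Opens, x ∈ U ∧ IsReduced (U : Scheme.{u}) := by
  obtain ⟨V, hV, hxV, -⟩ := exists_isAffineOpen_mem_and_subset (TopologicalSpace.Opens.mem_top x)
  haveI : IsNoetherianRing Γ(X, V) := IsLocallyNoetherian.component_noetherian ⟨V, hV⟩
  let p := hV.primeIdealOf ⟨x, hxV⟩
  letI : Algebra Γ(X, V) (X.presheaf.stalk x) := TopCat.Presheaf.algebra_section_stalk X.presheaf ⟨x, hxV⟩
  haveI : IsLocalization.AtPrime (X.presheaf.stalk x) p.asIdeal := hV.isLocalization_stalk ⟨x, hxV⟩
  obtain ⟨t, ht⟩ := (IsNoetherian.noetherian (nilradical Γ(X, V)) : (nilradical Γ(X, V)).FG)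
  have hs : ∀ a ∈ t, ∃ s : p.asIdeal.primeCompl, (s : Γ(X, V)) * a = 0 := fun a ha => by
    have hn : a ∈ nilradical Γ(X, V) := ht ▸ Ideal.subset_span ha
    have h0 : algebraMap Γ(X, V) (X.presheaf.stalk x) a = 0 := ((mem_nilradical.1 hn).map _).eq_zero
    exact (IsLocalization.map_eq_zero_iff p.asIdeal.primeCompl _ a).1 h0
  choose s hs using hs
  classical
  let S : Γ(X, V) := ∏ a ∈ t.attach, (s a.1 a.2 : Γ(X, V))
  have hS : S ∉ p.asIdeal := by
    show S ∈ p.asIdeal.primeCompl
    exact prod_mem fun a _ => (s a.1 a.2).2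
  have hkill : ∀ n ∈ nilradical Γ(X, V), S * n = 0 := fun n hn => by
    rw [← ht] at hn
    refine Submodule.span_induction (p := fun n _ => S * n = 0) ?_ (by simp) (fun a b _ _ ha hb => by rw [mul_add, ha, hb, add_zero]) (fun r a _ ha => by rw [smul_eq_mul, mul_left_comm, ha, mul_zero]) hn
    intro a ha
    obtain ⟨c, hc⟩ : (s a ha : Γ(X, V)) ∣ S := Finset.dvd_prod_of_mem (fun a : t => (s a.1 a.2 : Γ(X, V))) (Finset.mem_attach _ ⟨a, ha⟩)
    rw [hc, mul_right_comm, hs a ha, zero_mul]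
  haveI : IsLocalization.Away S Γ(X, X.basicOpen S) := hV.isLocalization_basicOpen S
  haveI : IsReduced Γ(X, X.basicOpen S) := ⟨fun z ⟨n, hn⟩ => by
    obtain ⟨⟨a, m⟩, hm⟩ := IsLocalization.surj (Submonoid.powers S) z
    have h1 : algebraMap Γ(X, V) Γ(X, X.basicOpen S) (a ^ n) = 0 := by
      rw [map_pow, ← hm, mul_pow, hn, zero_mul]
    obtain ⟨c, hc⟩ := (IsLocalization.map_eq_zero_iff (Submonoid.powers S) _ _).1 h1
    have h2 : ((c : Γ(X, V)) * a) ∈ nilradical Γ(X, V) := by
      refine mem_nilradical.2 ⟨n + 1, ?_⟩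
      rw [mul_pow, pow_succ (c : Γ(X, V)) n, pow_succ a n, show (c : Γ(X, V)) ^ n * c * (a ^ n * a) = (c : Γ(X, V)) ^ n * a * (c * a ^ n) by ring, hc, mul_zero]
    have h3 := hkill _ h2
    have h4 : algebraMap Γ(X, V) Γ(X, X.basicOpen S) a = 0 :=
      (IsLocalization.map_eq_zero_iff (Submonoid.powers S) _ _).2 ⟨⟨S, Submonoid.mem_powers S⟩ * c, by rw [Submonoid.coe_mul, mul_assoc]; exact h3⟩
    rw [← hm] at h4
    exact (IsLocalization.map_units _ m).mul_left_eq_zero.1 h4⟩
  refine ⟨X.basicOpen S, ?_, ?_⟩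
  · rw [Scheme.mem_basicOpen _ _ _ hxV]
    exact (IsLocalization.AtPrime.isUnit_to_map_iff (X.presheaf.stalk x) p.asIdeal S).2 hS
  · haveI : IsAffine (X.basicOpen S).toScheme := (hV.basicOpen S)
    haveI : IsReduced Γ((X.basicOpen S).toScheme, ⊤) :=
      isReduced_of_injective _ ((X.basicOpen S).topIso.commRingCatIsoToRingEquiv.injective)
    exact isReduced_of_isAffine_isReduced _

end Groth.Agent.LSchFin
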