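import Mathlib
import Groth.Prelude.Def_W4c6gradedringsgwSect
import Groth.Agent.Lib.FunFldD

/-! The section ring of a point -/

set_option autoImplicit false
universe u

namespace Groth.Agent.LSectRing

section
open Groth.Agent.FF FunFld Polynomial W4c6gradedringsgw
variable {k : Type u} [Field k] [IsAlgClosed k] {K : Type u} [Field K] [Algebra k K]
  (hK : FunFld.IsFunctionField k K) (P : FunFld.Place k K)

/-- `L(nP)` -/
noncomputable abbrev LP (n : ℤ) : Submodule k K := FunFld.L (Finsupp.single P n)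

theorem smul_single_one (n : ℤ) : n • (Finsupp.single P 1 : FunFld.Divisor k K) = Finsupp.single P n := by
  simp

theorem mem_poleOrders_iff (n : ℕ) :
    n ∈ poleOrders P ↔ FunFld.ell (Finsupp.single P (n : ℤ)) = FunFld.ell (Finsupp.single P ((n : ℤ) - 1)) + 1 := by
  show _ = _ ↔ _
  rw [smul_single_one, smul_single_one]

theorem LP_mono {a b : ℤ} (h : a ≤ b) : LP P a ≤ LP P b := L_mono (Finsupp.single_le_single.2 h)

theorem mul_mem_LP {a b : ℤ} {x y : K} (hx : x ∈ LP P a) (hy : y ∈ LP P b) : x * y ∈ LP P (a + b) := by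
  have := mul_mem_L hx hy
  rwa [← Finsupp.single_add] at this

include hK in
theorem LP_eq_of_not_mem {n : ℕ} (h : n ∉ poleOrders P) : LP P ((n : ℤ) - 1) = LP P (n : ℤ) := by
  rw [mem_poleOrders_iff] at h
  have h1 := ell_le_pred_add_one hK (Finsupp.single P (n : ℤ)) P
  rw [← Finsupp.single_sub] at h1
  haveI := finiteDimensional_L hK (Finsupp.single P (n : ℤ))
  have hle := LP_mono P (show (n : ℤ) - 1 ≤ n by omega)
  refine Submodule.eq_of_le_of_finrank_le hle ?_
  show FunFld.ell _ ≤ FunFld.ell _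
  omega

include hK in
theorem exists_top {n : ℕ} (h : n ∈ poleOrders P) : ∃ f ∈ LP P (n : ℤ), f ≠ 0 ∧ P.ord f = -(n : ℤ) := by
  rw [mem_poleOrders_iff] at h
  refine exists_ord_of_not_gap hK fun he => ?_
  rw [FunFld.ell, he] at h
  exact (Nat.succ_ne_self _ h.symm)

include hK in
theorem top_not_mem {n : ℕ} {f : K} (hf0 : f ≠ 0) (hf : P.ord f = -(n : ℤ)) : f ∉ LP P ((n : ℤ) - 1) := by
  intro h
  have h1 := h P
  rw [Finsupp.single_eq_same, val_le_exp_iff (hx := hf0), hf] at h1
  omega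

include hK in
theorem exists_sub {n : ℕ} {f : K} (hfm : f ∈ LP P (n : ℤ)) (hf0 : f ≠ 0) (hf : P.ord f = -(n : ℤ))
    {a : K} (ha : a ∈ LP P (n : ℤ)) : ∃ c : k, a - c • f ∈ LP P ((n : ℤ) - 1) := by
  classical
  have hv : P.1 f = WithZero.exp (n : ℤ) := by rw [val_eq_exp (hx := hf0), hf, neg_neg]
  have h1 : P.1 (a / f) ≤ 1 := by
    rw [map_div₀, hv]
    refine div_le_one_of_le₀ ?_ zero_le'
    simpa using ha P
  obtain ⟨c, hc⟩ := exists_const hK h1
  refine ⟨c, fun Q => ?_⟩
  have hmem : a - c • f ∈ LP P (n : ℤ) := sub_mem ha (Submodule.smul_mem _ c hfm)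
  rcases eq_or_ne Q P with rfl | hQ
  · rw [Finsupp.single_eq_same, le_exp_pred_iff, show a - c • f = (a / f - algebraMap k K c) * f by
      rw [sub_mul, div_mul_cancel₀ _ hf0, Algebra.smul_def], map_mul, hv]
    calc Q.1 (a / f - algebraMap k K c) * WithZero.exp (n : ℤ) < 1 * WithZero.exp (n : ℤ) :=
          mul_lt_mul_of_pos_right hc WithZero.exp_pos
      _ = _ := one_mul _
  · have := hmem Q
    rwa [Finsupp.single_eq_of_ne hQ] at this ⊢

include hK in
theorem mem_poleOrders_two_genus (hg : 1 ≤ FunFld.genus k K) {n : ℕ} (hn : 2 * FunFld.genus k K ≤ n) : n ∈ poleOrders P := by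
  rw [mem_poleOrders_iff]
  have h1 := ell_le_pred_add_one hK (Finsupp.single P (n : ℤ)) P
  have h2 := ell_sub_single_lt hK hg (D := Finsupp.single P (n : ℤ)) (Or.inl (by rw [deg_single' hK]; omega)) P
  rw [← Finsupp.single_sub] at h1 h2
  omega

include hK in
theorem mem_poleOrders_of_top {n : ℕ} {f : K} (hf : f ∈ LP P (n : ℤ)) (hn : f ∉ LP P ((n : ℤ) - 1)) : n ∈ poleOrders P := by
  by_contra h
  exact hn ((LP_eq_of_not_mem hK P h).symm ▸ hf)

include hK in
theorem add_mem_poleOrders {a b : ℕ} (ha : a ∈ poleOrders P) (hb : b ∈ poleOrders P) : a + b ∈ poleOrders P := by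
  obtain ⟨f, hf, hf0, hfo⟩ := exists_top hK P ha
  obtain ⟨g, hg, hg0, hgo⟩ := exists_top hK P hb
  refine mem_poleOrders_of_top hK P (f := f * g) (by push_cast; exact mul_mem_LP P hf hg)
    (top_not_mem hK P (mul_ne_zero hf0 hg0) ?_)
  rw [ord_mul (hx := hf0) (hy := hg0), hfo, hgo]
  push_cast; ring

include hK in
theorem zero_mem_poleOrders : 0 ∈ poleOrders P := by
  rw [mem_poleOrders_iff, Nat.cast_zero, Finsupp.single_zero, ell_zero hK, ell_eq_zero_of_deg_neg hK]
  rw [deg_single' hK]; norm_num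

include hK in
/-- the leading coefficient at `P` -/
theorem exists_lead : ∃ lam : ℕ → K → k, ∀ (n : ℕ) (x : K), x ∈ LP P (n : ℤ) →
    (lam n x = 0 ↔ x ∈ LP P ((n : ℤ) - 1)) ∧
    (∀ y ∈ LP P (n : ℤ), lam n (x + y) = lam n x + lam n y) ∧
    (∀ (m : ℕ), ∀ y ∈ LP P (m : ℤ), lam (n + m) (x * y) = lam n x * lam m y) ∧
    ∀ c : k, lam 0 (algebraMap k K c) = c := by
  classical
  obtain ⟨u, hu⟩ := exists_unif (P := P)
  have hu' : ∀ n : ℕ, P.1 (u ^ n) = WithZero.exp (-(n : ℤ)) := fun n => by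
    rw [map_pow, hu, ← WithZero.exp_nsmul]; simp
  let lam : ℕ → K → k := fun n x => if h : P.1 (x * u ^ n) ≤ 1 then (exists_const hK h).choose else 0
  have hle : ∀ (n : ℕ) (x : K), x ∈ LP P (n : ℤ) → P.1 (x * u ^ n) ≤ 1 := fun n x hx => by
    rw [map_mul, hu']
    calc P.1 x * WithZero.exp (-(n : ℤ)) ≤ WithZero.exp (n : ℤ) * WithZero.exp (-(n : ℤ)) :=
          mul_le_mul' (by simpa using hx P) le_rfl
      _ = 1 := by rw [← WithZero.exp_add, add_neg_cancel, WithZero.exp_zero]
  have hspec : ∀ (n : ℕ) (x : K), x ∈ LP P (n : ℤ) → P.1 (x * u ^ n - algebraMap k K (lam n x)) < 1 := fun n x hx => by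
    simp only [lam, dif_pos (hle n x hx)]
    exact (exists_const hK (hle n x hx)).choose_spec
  have huniq : ∀ (n : ℕ) (x : K), x ∈ LP P (n : ℤ) → ∀ c : k, P.1 (x * u ^ n - algebraMap k K c) < 1 → lam n x = c := by
    intro n x hx c hc
    by_contra hne
    have h1 : P.1 (algebraMap k K (lam n x - c)) < 1 := by
      rw [map_sub, show algebraMap k K (lam n x) - algebraMap k K c =
        (x * u ^ n - algebraMap k K c) - (x * u ^ n - algebraMap k K (lam n x)) by ring]
      exact (P.1.map_sub _ _).trans_lt (max_lt hc (hspec n x hx))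
    rw [val_const (hc := sub_ne_zero.2 hne)] at h1
    exact lt_irrefl _ h1
  refine ⟨lam, fun n x hx => ⟨?_, fun y hy => ?_, fun m y hy => ?_, fun c => ?_⟩⟩
  · constructor
    · intro h Q
      have h1 := hspec n x hx
      rw [h, map_zero, sub_zero, map_mul, hu', WithZero.exp_neg, ← div_eq_mul_inv, div_lt_one₀ WithZero.exp_pos] at h1
      rcases eq_or_ne Q P with rfl | hQ
      · rwa [Finsupp.single_eq_same, le_exp_pred_iff]
      · have := hx Q
        rwa [Finsupp.single_eq_of_ne hQ] at this ⊢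
    · intro h
      refine huniq n x hx 0 ?_
      have h1 := h P
      rw [Finsupp.single_eq_same, le_exp_pred_iff] at h1
      rw [map_zero, sub_zero, map_mul, hu', WithZero.exp_neg, ← div_eq_mul_inv, div_lt_one₀ WithZero.exp_pos]
      exact h1
  · refine huniq n _ (add_mem hx hy) _ ?_
    rw [map_add, show (x + y) * u ^ n - (algebraMap k K (lam n x) + algebraMap k K (lam n y)) =
      (x * u ^ n - algebraMap k K (lam n x)) + (y * u ^ n - algebraMap k K (lam n y)) by ring]
    exact (P.1.map_add _ _).trans_lt (max_lt (hspec n x hx) (hspec n y hy))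
  · refine huniq _ _ (by push_cast; exact mul_mem_LP P hx hy) _ ?_
    rw [map_mul, show x * y * u ^ (n + m) - algebraMap k K (lam n x) * algebraMap k K (lam m y) =
      (x * u ^ n - algebraMap k K (lam n x)) * (y * u ^ m) + algebraMap k K (lam n x) * (y * u ^ m - algebraMap k K (lam m y)) by ring]
    refine (P.1.map_add _ _).trans_lt (max_lt ?_ ?_)
    · rw [map_mul]
      exact (mul_le_mul' le_rfl (hle m y hy)).trans_lt (by rw [mul_one]; exact hspec n x hx)
    · rw [map_mul]
      exact (mul_le_mul' (P.2.1 _) le_rfl).trans_lt (by rw [one_mul]; exact hspec m y hy)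
  · refine huniq 0 _ ?_ c ?_
    · rw [LP, Nat.cast_zero, Finsupp.single_zero]; exact algebraMap_mem_L_zero c
    · simp

end

end Groth.Agent.LSectRing
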