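import Groth.Agent.Lib.LTopDetect
import Groth.Prelude.Def_LocCohZ

universe u

open CategoryTheory Limits TopologicalSpace Opposite

namespace Groth.Agent.LSectSuppAdj

variable {X : TopCat.{u}} (U : Opens X)

theorem main :
    Nonempty (CohTop.push (CohCx.inclCompl U) ⊣ LocCohZ.sectSuppF U ⋙ CohTop.pull (CohCx.inclCompl U)) := by
  let i := CohCx.inclCompl U
  have := LTopDetect.full_incl U
  have := LTopDetect.faithful_incl U
  let ff := Functor.FullyFaithful.ofFullyFaithful (CohTop.push i)
  let S := LocCohZ.sectSuppF U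
  let η : ∀ F : CohTop.Ab X, S.obj F ≅ (CohTop.push i).obj ((S ⋙ CohTop.pull i).obj F) :=
    fun F => @asIso _ _ _ _ ((LTopDetect.adj i).unit.app (CohCx.sectSupp U F)) (LTopDetect.isIso_unit_sectSupp U F)
  have ηnat : ∀ {F F' : CohTop.Ab X} (φ : F ⟶ F'), S.map φ ≫ (η F').hom = (η F).hom ≫ (CohTop.push i).map ((S ⋙ CohTop.pull i).map φ) :=
    fun φ => (LTopDetect.adj i).unit.naturality (S.map φ)
  let ι : ∀ F : CohTop.Ab X, S.obj F ⟶ F := fun F => kernel.ι _
  have ιmono : ∀ F, Mono (ι F) := fun F => (inferInstance : Mono (kernel.ι _))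
  let L : ∀ {G} {F : CohTop.Ab X}, ((CohTop.push i).obj G ⟶ F) → ((CohTop.push i).obj G ⟶ S.obj F) :=
    fun {G} {F} t => kernel.lift _ t (LTopDetect.push_comp_unit U G t)
  have hL : ∀ {G} {F : CohTop.Ab X} (t : (CohTop.push i).obj G ⟶ F), L t ≫ ι F = t := fun t => kernel.lift_ι _ _ _
  have hS : ∀ {F F' : CohTop.Ab X} (φ : F ⟶ F'), S.map φ ≫ ι F' = ι F ≫ φ := fun φ => kernel.lift_ι _ _ _
  refine ⟨Adjunction.mkOfHomEquiv
    { homEquiv := fun G F =>
        { toFun := fun t => ff.preimage (L t ≫ (η F).hom)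
          invFun := fun g => (CohTop.push i).map g ≫ (η F).inv ≫ ι F
          left_inv := fun t => by
            simp only [ff.map_preimage, Category.assoc, Iso.hom_inv_id_assoc, hL]
          right_inv := fun g => by
            apply ff.map_injective
            simp only [ff.map_preimage]
            have h : L ((CohTop.push i).map g ≫ (η F).inv ≫ ι F) = (CohTop.push i).map g ≫ (η F).inv :=
              (@cancel_mono _ _ _ _ _ (ι F) (ιmono F) _ _).1 (by rw [hL, Category.assoc])
            rw [h, Category.assoc, Iso.inv_hom_id, Category.comp_id] }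
      homEquiv_naturality_left_symm := fun {G' G F} f g => by
        change (CohTop.push i).map (f ≫ g) ≫ (η F).inv ≫ ι F =
          (CohTop.push i).map f ≫ (CohTop.push i).map g ≫ (η F).inv ≫ ι F
        rw [Functor.map_comp, Category.assoc]
      homEquiv_naturality_right := fun {G F F'} t φ => by
        apply ff.map_injective
        change (CohTop.push i).map (ff.preimage (L (t ≫ φ) ≫ (η F').hom)) =
          (CohTop.push i).map (ff.preimage (L t ≫ (η F).hom) ≫ (S ⋙ CohTop.pull i).map φ)
        rw [Functor.map_comp, ff.map_preimage, ff.map_preimage, Category.assoc, ← ηnat, ← Category.assoc]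
        congr 1
        exact (@cancel_mono _ _ _ _ _ (ι F') (ιmono F') _ _).1 (by rw [hL, Category.assoc, hS, ← Category.assoc, hL]) }⟩

end Groth.Agent.LSectSuppAdj
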