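import Groth.Agent.Lib.LQAff
import Groth.Agent.Lib.LQcqs
import Groth.Agent.Lib.LClSub
import Groth.Prelude.Def_Coh
import Groth.Agent.Lib.LSerre
import Mathlib.AlgebraicGeometry.Morphisms.Affine

set_option autoImplicit false
universe u

open CategoryTheory Limits TopologicalSpace Opposite AlgebraicGeometry Abelian

namespace Groth.Agent.LSerre



open Groth.Agent.LQcoh
open Groth.Agent.LClSub (red range_red)

variable {X Y : Scheme.{u}}


lemma exists_fn_of_quotients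
    (h : ∀ (n : ℕ) (N : X.Modules) (φ : Fr X n ⟶ N), Epi φ → N.IsQuasicoherent →
      Function.Surjective (φ.app ⊤))
    (x : X) (hx : IsClosed ({x} : Set X)) :
    ∃ f : Γ(X, ⊤), x ∈ X.basicOpen f ∧ IsAffineOpen (X.basicOpen f) := by
  obtain ⟨U, hU, hxU, -⟩ := X.isBasis_affineOpens.exists_subset_of_mem_open (Set.mem_univ x) isOpen_univ
  obtain ⟨U, hUaff, rfl⟩ := hU
  have hc : IsClosed ((U : Set X)ᶜ ∪ {x}) := U.2.isClosed_compl.union hx
  let ι := (red hc).subschemeι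
  let φ : Coh.structureModule X ⟶ (Scheme.Modules.pushforward ι).obj (Coh.structureModule (red hc).subscheme) :=
    ClSub.unitToPush ι
  haveI hepi : Epi φ := by
    refine epi_of_locally_surjective _ fun V s p hp => ?_
    obtain ⟨W, hW, hpW, hWV⟩ := X.isBasis_affineOpens.exists_subset_of_mem_open hp V.2
    obtain ⟨W, hWaff, rfl⟩ := hW
    obtain ⟨t, ht⟩ := (red hc).subschemeι_app_surjective ⟨W, hWaff⟩
      (res ((Scheme.Modules.pushforward ι).obj (Coh.structureModule (red hc).subscheme))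
        (fun q hq => hWV hq : W ≤ V) s)
    exact ⟨W, fun q hq => hWV hq, hpW, t, ht⟩
  haveI : ((Scheme.Modules.pushforward ι).obj (Coh.structureModule (red hc).subscheme)).IsQuasicoherent :=
    isQuasicoherent_push ι _
  haveI : IsSplitEpi (Pi.π (fun _ : Fin 1 => Coh.structureModule X) 0) :=
    ⟨⟨⟨inc X 0, by rw [inc_π, if_pos rfl]⟩⟩⟩
  have hsurj1 := h 1 _ (Pi.π (fun _ : Fin 1 => Coh.structureModule X) 0 ≫ φ) (epi_comp _ _)
    (inferInstanceAs ((Scheme.Modules.pushforward ι).obj _).IsQuasicoherent)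
  have hsurj : Function.Surjective (φ.app ⊤) := fun z => (hsurj1 z).elim fun w hw => ⟨_, hw⟩
  let Z := (red hc).subscheme
  let A : Z.Opens := ι ⁻¹ᵁ U
  let B : Z.Opens := ι ⁻¹ᵁ ⟨({x} : Set X)ᶜ, hx.isOpen_compl⟩
  have hr : Set.range ι = (U : Set X)ᶜ ∪ {x} := range_red hc
  have hAB : A ⊓ B ≤ ⊥ := fun z hz => by
    rcases hr.le ⟨z, rfl⟩ with h' | h'
    · exact h' hz.1
    · exact hz.2 h'
  have hcov : (⊤ : Z.Opens) ≤ ⨆ b : ULift.{u} Bool, bif b.down then A else B := fun z _ => by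
    by_cases h' : ι z = x
    · exact Opens.mem_iSup.2 ⟨⟨true⟩, show ι z ∈ U by rw [h']; exact hxU⟩
    · exact Opens.mem_iSup.2 ⟨⟨false⟩, h'⟩
  let O : ULift.{u} Bool → Z.Opens := fun b => bif b.down then A else B
  let sf : ∀ b, Γ(Z, O b) := fun b => match b with
    | ⟨true⟩ => (1 : Γ(Z, A))
    | ⟨false⟩ => (0 : Γ(Z, B))
  have hsub : ∀ (W : Z.Opens), W ≤ ⊥ → ∀ a c : Γ(Z, W), a = c := fun W hW a c =>
    TopCat.Sheaf.eq_of_locally_eq' Z.sheaf (fun i : PEmpty.{u + 1} => i.elim) W (fun i => i.elim)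
      (hW.trans bot_le) a c fun i => i.elim
  obtain ⟨e, he, -⟩ := TopCat.Sheaf.existsUnique_gluing' Z.sheaf O ⊤
    (fun b => homOfLE le_top) hcov sf (by
      rintro ⟨_ | _⟩ ⟨_ | _⟩
      · rfl
      · exact hsub _ (inf_comm _ _ |>.le.trans hAB) _ _
      · exact hsub _ hAB _ _
      · rfl)
  obtain ⟨f, hf⟩ := hsurj e
  have hpre : ι ⁻¹ᵁ X.basicOpen (show Γ(X, ⊤) from f) = Z.basicOpen e := by
    rw [Scheme.preimage_basicOpen]
    exact congrArg Z.basicOpen hf
  have hA1 : A ≤ Z.basicOpen e := by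
    have h1 := Scheme.basicOpen_res Z e (homOfLE (le_top (a := A))).op
    rw [show Z.presheaf.map (homOfLE (le_top (a := A))).op e = (1 : Γ(Z, A)) from he ⟨true⟩,
      Scheme.basicOpen_of_isUnit _ isUnit_one] at h1
    exact h1.le.trans inf_le_right
  have hB0 : B ⊓ Z.basicOpen e ≤ ⊥ := by
    rw [← Scheme.basicOpen_res Z e (homOfLE (le_top (a := B))).op,
      show Z.presheaf.map (homOfLE (le_top (a := B))).op e = (0 : Γ(Z, B)) from he ⟨false⟩,
      Scheme.basicOpen_zero]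
  obtain ⟨z, hz⟩ := hr.ge (Or.inr rfl : x ∈ _)
  have hxf : x ∈ X.basicOpen (show Γ(X, ⊤) from f) := by
    have : z ∈ A := show ι z ∈ U by rw [hz]; exact hxU
    have h2 := hA1 this
    rw [← hpre] at h2
    exact hz ▸ h2
  have hle : X.basicOpen (show Γ(X, ⊤) from f) ≤ U := fun p hp => by
    by_contra hpU
    obtain ⟨w, rfl⟩ := hr.ge (Or.inl hpU : p ∈ _)
    exact hB0 (x := w) ⟨fun hw : ι w = x => hpU (show ι w ∈ U by rw [hw]; exact hxU), hpre.le hp⟩
  refine ⟨f, hxf, ?_⟩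
  have := hUaff.basicOpen (resO (le_top (a := U)) (show Γ(X, ⊤) from f))
  rwa [resO, Scheme.basicOpen_res, inf_eq_right.2 hle] at this

/-- Serre's criterion, sections form -/
theorem isAffine_of_quotients [CompactSpace X]
    (h : ∀ (n : ℕ) (N : X.Modules) (φ : Fr X n ⟶ N), Epi φ → N.IsQuasicoherent →
      Function.Surjective (φ.app ⊤)) : IsAffine X := by
  let G : Set Γ(X, ⊤) := {f | IsAffineOpen (X.basicOpen f)}
  have hcov : ⋃ f : G, (X.basicOpen f.1 : Set X) = Set.univ := by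
    by_contra hne
    obtain ⟨x, hx, hxc⟩ := (isOpen_iUnion fun f : G => (X.basicOpen f.1).2).isClosed_compl.exists_closed_singleton
      (Set.nonempty_compl.2 hne)
    obtain ⟨f, hxf, hf⟩ := exists_fn_of_quotients h x hxc
    exact hx (Set.mem_iUnion.2 ⟨⟨f, hf⟩, hxf⟩)
  obtain ⟨t, ht⟩ := isCompact_univ.elim_finite_subcover (fun f : G => (X.basicOpen f.1 : Set X))
    (fun f => (X.basicOpen f.1).2) hcov.ge
  let f : Fin t.card → Γ(X, ⊤) := fun i => (t.equivFin.symm i).1.1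
  have hf : ⨆ i, X.basicOpen (f i) = ⊤ := by
    refine top_le_iff.1 fun x _ => ?_
    obtain ⟨a, ha, hxa⟩ := Set.mem_iUnion₂.1 (ht (Set.mem_univ x))
    refine Opens.mem_iSup.2 ⟨t.equivFin ⟨a, ha⟩, ?_⟩
    simp only [f, Equiv.symm_apply_apply]
    exact hxa
  refine isAffine_of_isAffineOpen_basicOpen (Set.range f) ?_ ?_
  · haveI := epi_comb f hf
    obtain ⟨z, hz⟩ := h _ _ (comb f) inferInstance
      (inferInstanceAs (Coh.structureModule X).IsQuasicoherent) (1 : Γ(X, ⊤))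
    rw [Ideal.eq_top_iff_one]
    have := comb_mem_span f z
    rwa [show (comb f).app ⊤ z = (1 : Γ(X, ⊤)) from hz] at this
  · rintro _ ⟨i, rfl⟩
    exact (t.equivFin.symm i).1.2


end Groth.Agent.LSerre
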