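import Groth.Agent.Lib.LCartan

set_option autoImplicit false
universe u

open CategoryTheory Limits TopologicalSpace Opposite TopCat CategoryTheory.Abelian

namespace Groth.Agent.LCech

variable {X : TopCat.{u}}

lemma H_map_zero [HasExt.{u} (Shf X)] {F G : Shf X} (n : ℕ) (x : Sheaf.H F n) :
    Sheaf.H.map (0 : F ⟶ G) n x = 0 := by
  rw [Sheaf.H.map_apply, Ext.mk₀_zero, Ext.comp_zero]

section General

variable {C : Type (u + 1)} [Category.{u} C] [Abelian C] [HasExt.{u} C] {Z : C}
  {T : ShortComplex C} (hT : T.ShortExact)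

/-- connecting map -/
noncomputable def delta (n : ℕ) : Ext Z T.X₃ n →+ Ext Z T.X₁ (n + 1) :=
  hT.extClass.postcomp _ rfl

lemma delta_surjective (n : ℕ) (h : Subsingleton (Ext Z T.X₂ (n + 1))) :
    Function.Surjective (delta (Z := Z) hT n) := by
  intro x
  obtain ⟨x₃, hx⟩ := Ext.covariant_sequence_exact₁ _ hT x (Subsingleton.elim _ _) (rfl : n + 1 = n + 1)
  exact ⟨x₃, hx⟩

lemma ker_delta (n : ℕ) :
    (delta (Z := Z) hT n).ker = ((Ext.mk₀ T.g).postcomp Z (add_zero n)).range := by
  ext x
  constructor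
  · intro hx
    obtain ⟨x₂, h₂⟩ := Ext.covariant_sequence_exact₃ _ hT x (rfl : n + 1 = n + 1) hx
    exact ⟨x₂, h₂⟩
  · rintro ⟨y, rfl⟩
    change (y.comp (Ext.mk₀ T.g) (add_zero n)).comp hT.extClass rfl = 0
    rw [Ext.comp_assoc_of_second_deg_zero, hT.comp_extClass, Ext.comp_zero]

/-- Ext into the kernel as a cokernel, when the middle term is acyclic -/
noncomputable def extShift (n : ℕ) (h : Subsingleton (Ext Z T.X₂ (n + 1))) :
    Ext Z T.X₃ n ⧸ ((Ext.mk₀ T.g).postcomp Z (add_zero n)).range ≃+ Ext Z T.X₁ (n + 1) :=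
  (QuotientAddGroup.quotientAddEquivOfEq (ker_delta hT n).symm).trans
    (QuotientAddGroup.quotientKerEquivOfSurjective _ (delta_surjective hT n h))

/-- In positive degrees the shift is an isomorphism. -/
noncomputable def extShiftSucc (n : ℕ) (h₀ : Subsingleton (Ext Z T.X₂ (n + 1)))
    (h : Subsingleton (Ext Z T.X₂ (n + 2))) : Ext Z T.X₃ (n + 1) ≃+ Ext Z T.X₁ (n + 2) :=
  AddEquiv.ofBijective (delta hT (n + 1)) ⟨by
    rw [← AddMonoidHom.ker_eq_bot_iff, ker_delta, eq_bot_iff]
    rintro _ ⟨y, rfl⟩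
    rw [Subsingleton.elim y 0, map_zero]
    exact AddSubgroup.zero_mem _, delta_surjective hT (n + 1) h⟩

end General

/-- cohomology of the kernel as a cokernel, when the middle term is acyclic -/
noncomputable abbrev shiftEquiv [HasExt.{u} (Shf X)] {T : ShortComplex (Shf X)} (hT : T.ShortExact)
    (n : ℕ) (h : Subsingleton (Sheaf.H T.X₂ (n + 1))) :
    Sheaf.H T.X₃ n ⧸ (Sheaf.H.map T.g n).range ≃+ Sheaf.H T.X₁ (n + 1) :=
  extShift hT n h

/-- In positive degrees the shift is an isomorphism. -/
noncomputable abbrev shiftEquivSucc [HasExt.{u} (Shf X)] {T : ShortComplex (Shf X)} (hT : T.ShortExact)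
    (n : ℕ) (h₀ : Subsingleton (Sheaf.H T.X₂ (n + 1))) (h : Subsingleton (Sheaf.H T.X₂ (n + 2))) :
    Sheaf.H T.X₃ (n + 1) ≃+ Sheaf.H T.X₁ (n + 2) :=
  extShiftSucc hT n h₀ h

/-- An isomorphism of maps gives an isomorphism of cokernels. -/
noncomputable def cokerEquiv {A B A' B' : Type*} [AddCommGroup A] [AddCommGroup B] [AddCommGroup A']
    [AddCommGroup B'] (g : A →+ B) (g' : A' →+ B') (a : A ≃+ A') (b : B ≃+ B')
    (h : ∀ x, b (g x) = g' (a x)) : B ⧸ g.range ≃+ B' ⧸ g'.range :=
  QuotientAddGroup.congr _ _ b (by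
    ext y
    constructor
    · rintro ⟨_, ⟨x, rfl⟩, rfl⟩
      exact ⟨a x, (h x).symm⟩
    · rintro ⟨x', rfl⟩
      exact ⟨g (a.symm x'), ⟨a.symm x', rfl⟩, by
        change b _ = _
        rw [h, AddEquiv.apply_symm_apply]⟩)

/-- every covering of every open -/
noncomputable def allSys (X : TopCat.{u}) : CovSys X where
  B := Set.univ
  Cov V {ι} W := iSup W = V
  iSup_eq h := h
  inter_mem _ _ _ := trivial
  refine' V _ κ U hU :=
    ⟨κ, fun k => V ⊓ U k, le_antisymm (iSup_le fun k => inf_le_left)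
      (by rw [← inf_iSup_eq]; exact le_inf le_rfl hU), fun k => ⟨k, inf_le_right⟩⟩

variable {Y : TopCat.{u}}

/-- direct image of abelian sheaves -/
noncomputable abbrev pushS (f : X ⟶ Y) : Shf X ⥤ Shf Y :=
  TopCat.Sheaf.pushforward AddCommGrpCat.{u} f

instance pushS_rightAdjoint (f : X ⟶ Y) : (pushS f).IsRightAdjoint :=
  inferInstanceAs (TopCat.Sheaf.pushforward AddCommGrpCat.{u} f).IsRightAdjoint

instance pushS_additive (f : X ⟶ Y) : (pushS f).Additive where

lemma push_shortExact (f : X ⟶ Y) (T : ShortComplex (Shf X)) (hT : T.ShortExact) (B : Set (Opens Y))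
    (hB : Opens.IsBasis B)
    (hs : ∀ V ∈ B, Function.Surjective (T.g.hom.app (op ((Opens.map f).obj V)))) :
    (T.map (pushS f)).ShortExact := by
  haveI := hT.mono_f
  have h1 := hT.exact.fIsKernel
  let φ := pushS f
  haveI : Epi (φ.map T.g) := by
    refine (TopCat.Sheaf.isLocallySurjective_iff_epi (X := Y) (φ.map T.g)).mp ?_
    rw [TopCat.Presheaf.isLocallySurjective_iff]
    intro U t x hx
    obtain ⟨V, hVB, hxV, hVU⟩ := Opens.isBasis_iff_nbhd.1 hB hx
    obtain ⟨s, hs'⟩ := hs V hVB
      ((φ.obj T.X₃).obj.map (homOfLE hVU).op t)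
    exact ⟨V, hVU, ⟨s, hs'⟩, hxV⟩
  haveI : Mono (φ.map T.f) := inferInstance
  have : (T.map φ).Exact :=
    ShortComplex.exact_of_f_is_kernel _ ((KernelFork.isLimitMapConeEquiv _ φ) (isLimitOfPreserves φ h1))
  exact { exact := this, mono_f := by assumption, epi_g := by assumption }

theorem acyclic_push_injective [HasExt.{u} (Shf Y)] (f : X ⟶ Y) (I : Shf X) [Injective I] (n : ℕ) :
    Subsingleton (Sheaf.H ((pushS f).obj I) (n + 1)) :=
  subsingleton_H_succ (allSys Y) trivial n _ fun _ _ _ W _ => acyclic_injective_push f I W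

/-- global sections are preserved by direct image -/
noncomputable def pushZero [HasExt.{u} (Shf X)] [HasExt.{u} (Shf Y)] (f : X ⟶ Y) (F : Shf X) :
    Sheaf.H F 0 ≃+ Sheaf.H ((pushS f).obj F) 0 :=
  (Sheaf.H.equiv₀ F Limits.isTerminalTop).trans
    (Sheaf.H.equiv₀ ((pushS f).obj F) Limits.isTerminalTop).symm

lemma pushZero_natural [HasExt.{u} (Shf X)] [HasExt.{u} (Shf Y)] (f : X ⟶ Y) {F G : Shf X}
    (g : F ⟶ G) (x : Sheaf.H F 0) :
    pushZero f G (Sheaf.H.map g 0 x) = Sheaf.H.map ((pushS f).map g) 0 (pushZero f F x) := by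
  change (Sheaf.H.equiv₀ ((pushS f).obj G) Limits.isTerminalTop).symm
      (Sheaf.H.equiv₀ G Limits.isTerminalTop (Sheaf.H.map g 0 x)) =
    Sheaf.H.map ((pushS f).map g) 0 ((Sheaf.H.equiv₀ ((pushS f).obj F) Limits.isTerminalTop).symm
      (Sheaf.H.equiv₀ F Limits.isTerminalTop x))
  refine Eq.trans ?_ (Sheaf.H.equiv₀_symm_naturality Limits.isTerminalTop ((pushS f).map g) _).symm
  exact congrArg _ (Sheaf.H.equiv₀_naturality Limits.isTerminalTop g x).symm

/-- Cohomology is unchanged by direct image, when sections are exact on a basis. -/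
theorem H_push_equiv [HasExt.{u} (Shf X)] [HasExt.{u} (Shf Y)] (f : X ⟶ Y) (S : CovSys X)
    (B : Set (Opens Y)) (hB : Opens.IsBasis B) (hBS : ∀ V ∈ B, (Opens.map f).obj V ∈ S.B) :
    ∀ (n : ℕ) (F : Shf X), S.Good F.obj →
      Nonempty (Sheaf.H F n ≃+ Sheaf.H ((pushS f).obj F) n) := by
  have hses : ∀ (F : Shf X), S.Good F.obj → ((injSeq F).map (pushS f)).ShortExact := fun F hF =>
    push_shortExact f _ (injSeq_shortExact F) B hB fun V hV =>
      surjective_of_good S _ (injSeq_shortExact F) hF (hBS V hV)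
  have h2 : ∀ (F : Shf X) m, Subsingleton (Sheaf.H (injSeq F).X₂ (m + 1)) :=
    fun _ _ => inferInstance
  have h3 : ∀ (F : Shf X) m,
      Subsingleton (Sheaf.H ((injSeq F).map (pushS f)).X₂ (m + 1)) :=
    fun F m => acyclic_push_injective f (Injective.under F) m
  intro n
  induction n with
  | zero => exact fun F _ => ⟨pushZero f F⟩
  | succ n ih =>
    intro F hF
    rcases n with - | n
    · exact ⟨(shiftEquiv (injSeq_shortExact F) 0 (h2 F 0)).symm.trans
        ((cokerEquiv _ _ (pushZero f (injSeq F).X₂) (pushZero f (injSeq F).X₃)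
            (pushZero_natural f (injSeq F).g)).trans
          (shiftEquiv (hses F hF) 0 (h3 F 0)))⟩
    · obtain ⟨e⟩ := ih _ (good_injSeq S F hF)
      exact ⟨(shiftEquivSucc (injSeq_shortExact F) n (h2 F _) (h2 F _)).symm.trans
        (e.trans (shiftEquivSucc (hses F hF) n (h3 F _) (h3 F _)))⟩

section Cech

variable {ι : Type u} (U : ι → Opens X)

lemma aug_comp_d (F : TopCat.Presheaf AddCommGrpCat.{u} X) (s : F.obj (op ⊤)) :
    (cplx U F).d 0 1 (mk U F fun x => rs F le_top s) = 0 := by
  refine coord_ext U F fun x => ?_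
  rw [coord_d, map_zero, Fin.sum_univ_two]
  simp only [coord_mk, rs_rs]
  simp

/-- the augmentation of the Cech complex -/
noncomputable def aug (F : TopCat.Presheaf AddCommGrpCat.{u} X) :
    F.obj (op ⊤) ⟶ (cplx U F).X 0 :=
  AddCommGrpCat.ofHom
    { toFun := fun s => mk U F fun x => rs F le_top s
      map_zero' := coord_ext U F fun x => by
        refine (coord_mk U F _ x).trans ?_
        exact (map_zero _).trans (map_zero (coord U F x)).symm
      map_add' := fun a b => coord_ext U F fun x => by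
        refine ((coord_mk U F _ x).trans (map_add _ a b)).trans ?_
        refine Eq.trans ?_ (map_add (coord U F x) _ _).symm
        exact congrArg₂ (· + ·) (coord_mk U F (fun x => rs F le_top a) x).symm
          (coord_mk U F (fun x => rs F le_top b) x).symm }

noncomputable def toH0 (F : TopCat.Presheaf AddCommGrpCat.{u} X) :
    F.obj (op ⊤) ⟶ (cplx U F).homology 0 :=
  (cplx U F).liftCycles (aug U F) 1 (by simp) (by ext s; exact aug_comp_d U F s) ≫
    (cplx U F).homologyπ 0

lemma toH0_naturality {F G : TopCat.Presheaf AddCommGrpCat.{u} X} (g : F ⟶ G) :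
    toH0 U F ≫ HomologicalComplex.homologyMap
        ((cechComplexFunctor (A := AddCommGrpCat.{u}) U).map g) 0 = g.app (op ⊤) ≫ toH0 U G := by
  rw [toH0, Category.assoc, HomologicalComplex.homologyπ_naturality,
    HomologicalComplex.liftCycles_comp_cyclesMap_assoc, toH0, ← Category.assoc (g.app _),
    HomologicalComplex.comp_liftCycles]
  congr 1
  rw [← cancel_mono (HomologicalComplex.iCycles _ _), HomologicalComplex.liftCycles_i,
    HomologicalComplex.liftCycles_i]
  ext s
  refine coord_ext U G fun x => ?_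
  refine (coord_map U g _ x).trans ?_
  change g.app _ (coord U F x (mk U F _)) = coord U G x (mk U G _)
  rw [coord_mk, coord_mk]
  exact NatTrans.naturality_apply g _ s

lemma isIso_toH0 (F : Shf X) (hU : iSup U = ⊤) : IsIso (toH0 U F.obj) := by
  have : IsIso ((cplx U F.obj).homologyπ 0) := by
    exact HomologicalComplex.isIso_homologyπ _ 0 0 (by simp) (by simp)
  suffices IsIso ((cplx U F.obj).liftCycles (aug U F.obj) 1 (by simp)
      (by ext s; exact aug_comp_d U F.obj s)) by
    unfold toH0; infer_instance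
  rw [ConcreteCategory.isIso_iff_bijective]
  constructor
  · intro s t h
    have := congrArg ((cplx U F.obj).iCycles 0) h
    rw [← ConcreteCategory.comp_apply, ← ConcreteCategory.comp_apply,
      HomologicalComplex.liftCycles_i] at this
    refine TopCat.Sheaf.eq_of_locally_eq' F U ⊤ (fun i => homOfLE le_top) hU.ge s t fun i => ?_
    have h2 := congrArg (fun z => rs F.obj ((le_inter_iff U (fun _ : Fin 1 => i) _).2 fun _ => le_rfl)
      (coord U F.obj (fun _ => i) z)) this
    change rs F.obj _ (coord U F.obj _ (mk U _ _)) = rs F.obj _ (coord U F.obj _ (mk U _ _)) at h2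
    rw [coord_mk, coord_mk, rs_rs, rs_rs] at h2
    exact h2
  · intro z
    have hz : (cplx U F.obj).d 0 1 ((cplx U F.obj).iCycles 0 z) = 0 := by
      rw [← ConcreteCategory.comp_apply, HomologicalComplex.iCycles_d]
      rfl
    let c := (cplx U F.obj).iCycles 0 z
    have hcomp : TopCat.Presheaf.IsCompatible F.obj U fun i =>
        rs F.obj ((le_inter_iff U (fun _ : Fin 1 => i) _).2 fun _ => le_rfl)
          (coord U F.obj (fun _ => i) c) := by
      intro i j
      have hle : U i ⊓ U j ≤ inter U ![i, j] :=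
        (le_inter_iff U _ _).2 (by simp [Fin.forall_fin_two])
      have h := congrArg (fun z => rs F.obj hle (coord U _ ![i, j] z)) hz
      simp only [coord_d] at h
      have e0 : (![i, j] ∘ (0 : Fin 2).succAbove) = fun _ => j := by ext k; fin_cases k; rfl
      have e1 : (![i, j] ∘ (1 : Fin 2).succAbove) = fun _ => i := by ext k; fin_cases k; rfl
      simp only [rs, map_sum, map_zsmul, map_zero] at h
      rw [Fin.sum_univ_two] at h
      norm_num at h
      rw [← sub_eq_add_neg, sub_eq_zero] at h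
      have key : ∀ (y y' : Fin 1 → ι) (_ : y = y') {Z : Opens X} (hy : Z ≤ inter U y)
          (hy' : Z ≤ inter U y'),
          rs F.obj hy (coord U _ y c) = rs F.obj hy' (coord U _ y' c) := by
        rintro y _ rfl _ _ _; rfl
      change rs F.obj inf_le_left _ = rs F.obj inf_le_right _
      simp only [rs_rs]
      refine Eq.trans (key _ _ e1.symm _ (hle.trans (inter_succAbove U _ 1))) ?_
      refine Eq.trans ?_ (key _ _ e0 (hle.trans (inter_succAbove U _ 0)) _)
      exact (rs_rs F.obj _ hle _).symm.trans (h.symm.trans (rs_rs F.obj _ hle _))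
    obtain ⟨s, hs, -⟩ := TopCat.Sheaf.existsUnique_gluing' F U ⊤ (fun i => homOfLE le_top) hU.ge _
      hcomp
    refine ⟨s, (AddCommGrpCat.mono_iff_injective ((cplx U F.obj).iCycles 0)).1 inferInstance ?_⟩
    rw [← ConcreteCategory.comp_apply, HomologicalComplex.liftCycles_i]
    refine coord_ext U _ fun x => ?_
    change coord U F.obj x (mk U _ _) = coord U F.obj x c
    rw [coord_mk]
    have hx : x = fun _ => x 0 := funext fun k => by rw [Fin.fin_one_eq_zero k]
    revert hx
    generalize x 0 = i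
    rintro rfl
    have := congrArg (rs F.obj (inter_le U (fun _ : Fin 1 => i) 0)) (hs i)
    refine Eq.trans ?_ (this.trans ((rs_rs F.obj _ _ _).trans (rs_self _ _ _)))
    exact (rs_rs F.obj _ _ s).symm

/-- Cech cohomology computes cohomology, for coverings with good intersections. -/
theorem cech_equiv [HasExt.{u} (Shf X)] (hU : iSup U = ⊤) (S : CovSys X)
    (hUS : ∀ (n : ℕ) (x : Fin (n + 1) → ι), inter U x ∈ S.B) :
    ∀ (n : ℕ) (F : Shf X), S.Good F.obj →
      Nonempty ((cplx U F.obj).homology n ≃+ Sheaf.H F n) := by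
  let e₀ : ∀ F : Shf X, Sheaf.H F 0 ≃+ (cplx U F.obj).homology 0 := fun F =>
    haveI := isIso_toH0 U F hU
    (Sheaf.H.equiv₀ F Limits.isTerminalTop).trans (asIso (toH0 U F.obj)).addCommGroupIsoToAddEquiv
  intro n
  induction n with
  | zero => exact fun F _ => ⟨(e₀ F).symm⟩
  | succ n ih =>
    intro F hF
    have hC := cplx_shortExact U _ (injSeq_shortExact F) fun m x =>
      surjective_of_good S _ (injSeq_shortExact F) hF (hUS m x)
    have h2 : ∀ m, Subsingleton (Sheaf.H (injSeq F).X₂ (m + 1)) := fun m => inferInstance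
    have hI : ∀ m, IsZero ((cplx U (injSeq F).X₂.obj).homology (m + 1)) := fun m =>
      (HomologicalComplex.exactAt_iff_isZero_homology _ _).1 (acyclic_injective _ U m)
    let d : (cplx U (injSeq F).X₃.obj).homology n →+ (cplx U F.obj).homology (n + 1) :=
      (hC.δ n (n + 1) (by simp)).hom
    have hsurj : Function.Surjective d := by
      refine (AddCommGrpCat.epi_iff_surjective (hC.δ n (n + 1) (by simp))).1 ?_
      exact (hC.homology_exact₁ n (n + 1) (by simp)).epi_f ((hI n).eq_of_tgt _ _)
    have hker : d.ker = (HomologicalComplex.homologyMap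
        ((cechComplexFunctor (A := AddCommGrpCat.{u}) U).map (injSeq F).g.hom) n).hom.range :=
      (ShortComplex.ab_exact_iff_range_eq_ker.1
        (hC.homology_exact₃ n (n + 1) (by simp))).symm
    rcases n with - | n
    · 
      refine ⟨((QuotientAddGroup.quotientAddEquivOfEq hker.symm).trans
        (QuotientAddGroup.quotientKerEquivOfSurjective d hsurj)).symm.trans
        ((cokerEquiv _ _ (e₀ _) (e₀ _) fun x => ?_).symm.trans
          (shiftEquiv (injSeq_shortExact F) 0 (h2 0)))⟩
      simp only [e₀, AddEquiv.trans_apply]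
      rw [← Sheaf.H.equiv₀_naturality]
      exact (congrArg (fun φ => φ (Sheaf.H.equiv₀ (injSeq F).X₂ Limits.isTerminalTop x))
        (toH0_naturality U (injSeq F).g.hom)).symm
    · obtain ⟨e⟩ := ih _ (good_injSeq S F hF)
      refine ⟨(AddEquiv.ofBijective d ⟨?_, hsurj⟩).symm.trans
        (e.trans (shiftEquivSucc (injSeq_shortExact F) n (h2 _) (h2 _)))⟩
      rw [← AddMonoidHom.ker_eq_bot_iff, hker, eq_bot_iff]
      rintro _ ⟨y, rfl⟩
      have : Subsingleton ((cplx U (injSeq F).X₂.obj).homology (n + 1)) :=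
        AddCommGrpCat.subsingleton_of_isZero (hI n)
      erw [Subsingleton.elim y 0, map_zero]
      exact AddSubgroup.zero_mem _

end Cech

end Groth.Agent.LCech
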