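import Mathlib
import Groth.Agent.Lib.LMatrixAut

/-! Skolem-Noether for Azumaya algebras over local rings. -/

set_option autoImplicit false
universe u v
open TensorProduct MulOpposite

namespace Groth.Agent.LSkolemLocal

theorem inner_end {R : Type u} [CommRing R] [IsLocalRing R] {M : Type v} [AddCommGroup M] [Module R M]
    {n : ℕ} (hn : 0 < n) (b : Module.Basis (Fin n) R M) (φ : Module.End R M ≃ₐ[R] Module.End R M) :
    ∃ ξ : M ≃ₗ[R] M, ∀ f : Module.End R M, φ f = ξ.toLinearMap ∘ₗ f ∘ₗ ξ.symm.toLinearMap := by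
  let e := LinearMap.toMatrixAlgEquiv b
  obtain ⟨P, hP⟩ := LMatrixAut.inner_of_free hn (fun N _ _ _ _ => Module.free_of_flat_of_isLocalRing) ((e.symm.trans φ).trans e)
  let ξ : M ≃ₗ[R] M := LinearEquiv.ofLinear (e.symm P.1) (e.symm (P⁻¹).1)
    (by show (e.symm P.1 * e.symm (P⁻¹).1 : Module.End R M) = 1; rw [← map_mul, Units.mul_inv, map_one])
    (by show (e.symm (P⁻¹).1 * e.symm P.1 : Module.End R M) = 1; rw [← map_mul, Units.inv_mul, map_one])
  refine ⟨ξ, fun f => ?_⟩
  show φ f = e.symm P.1 * (f * e.symm (P⁻¹).1)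
  apply e.injective
  have := hP (e f)
  simp only [AlgEquiv.trans_apply, AlgEquiv.symm_apply_apply] at this
  rw [this, map_mul, map_mul, AlgEquiv.apply_symm_apply, AlgEquiv.apply_symm_apply, mul_assoc]

theorem main (R : Type u) [CommRing R] [IsLocalRing R] (A : Type v) [Ring A] [Algebra R A] [IsAzumaya R A] (u : A ≃ₐ[R] A) :
    (∃ a : Aˣ, ∀ x : A, u x = (a : A) * x * (a⁻¹ : Aˣ)) ∧ (∀ a a' : Aˣ, (∀ x : A, u x = (a : A) * x * (a⁻¹ : Aˣ)) →
      (∀ x : A, u x = (a' : A) * x * (a'⁻¹ : Aˣ)) → ∃ c : Rˣ, (a' : A) = algebraMap R A (c : R) * (a : A)) := by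
  haveI : Module.Free R A := Module.free_of_flat_of_isLocalRing
  haveI : Nontrivial A := (FaithfulSMul.algebraMap_injective R A).nontrivial
  let b0 := Module.Free.chooseBasis R A
  let n := Fintype.card (Module.Free.ChooseBasisIndex R A)
  let b := b0.reindex (Fintype.equivFin _)
  have hn : 0 < n := Fintype.card_pos_iff.mpr b0.index_nonempty
  let μ : A ⊗[R] Aᵐᵒᵖ ≃ₐ[R] Module.End R A := AlgEquiv.ofBijective (AlgHom.mulLeftRight R A) IsAzumaya.bij
  obtain ⟨ξ, hξ⟩ := inner_end hn b ((μ.symm.trans (Algebra.TensorProduct.congr u AlgEquiv.refl)).trans μ)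
  have key : ∀ (x y z : A), ξ (x * z * y) = u x * ξ z * y := by
    intro x y z
    have h := LinearMap.congr_fun (hξ (μ (x ⊗ₜ op y))) (ξ z)
    simp only [AlgEquiv.trans_apply, AlgEquiv.symm_apply_apply, LinearMap.comp_apply, LinearEquiv.coe_coe] at h
    simp [μ, AlgHom.mulLeftRight_apply] at h
    exact h.symm
  refine ⟨?_, ?_⟩
  · have hl : ∀ x, ξ x = ξ 1 * x := fun x => by simpa using key 1 x 1
    have hr : ∀ x, ξ x = u x * ξ 1 := fun x => by simpa using key x 1 1
    obtain ⟨x, hx⟩ := ξ.surjective 1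
    obtain ⟨a, ha⟩ : IsUnit (ξ 1) := isUnit_iff_exists_and_exists.mpr
      ⟨⟨x, by rw [← hl, hx]⟩, ⟨u x, by rw [← hr, hx]⟩⟩
    refine ⟨a, fun y => ?_⟩
    rw [ha, ← hl, hr, mul_assoc, ← ha, Units.mul_inv, mul_one]
  · intro a a' h h'
    let c : A := (a⁻¹ : Aˣ) * (a' : A)
    have hc : ∀ x, c * x = x * c := fun x => by
      have e := (h x).symm.trans (h' x)
      have := congrArg (fun t => (↑a⁻¹ : A) * t * (a' : A)) e
      simpa [c, mul_assoc] using this.symm
    have h1 : (c ⊗ₜ[R] op (1 : A)) = (1 : A) ⊗ₜ[R] op c := by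
      refine μ.injective (LinearMap.ext fun x => ?_)
      simp [μ, AlgHom.mulLeftRight_apply, hc]
    obtain ⟨i, hi⟩ : ∃ i, IsUnit (b.repr (1 : A) i) := by
      by_contra! hh
      have hm : (1 : A) ∈ IsLocalRing.maximalIdeal R • (⊤ : Submodule R A) := by
        rw [← b.sum_repr 1]
        exact sum_mem fun i _ => Submodule.smul_mem_smul (hh i) trivial
      have htop : (⊤ : Submodule R A) ≤ IsLocalRing.maximalIdeal R • (⊤ : Submodule R A) := fun x _ => by
        have := Submodule.mem_map_of_mem (f := LinearMap.mulRight R x) hm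
        rw [Submodule.map_smul''] at this
        simp only [LinearMap.mulRight_apply, one_mul] at this
        exact Submodule.smul_mono le_rfl le_top this
      exact (top_ne_bot : (⊤ : Submodule R A) ≠ ⊥) (Submodule.eq_bot_of_le_smul_of_le_jacobson_bot _ _ Module.Finite.fg_top htop
        (IsLocalRing.maximalIdeal_le_jacobson _))
    obtain ⟨t, ht⟩ := hi.exists_left_inv
    let f : Aᵐᵒᵖ →ₗ[R] R := t • ((b.coord i) ∘ₗ (MulOpposite.opLinearEquiv R).symm.toLinearMap)
    have h2 := congrArg (TensorProduct.rid R A ∘ LinearMap.lTensor A f) h1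
    simp [f] at h2
    rw [← mul_smul, ht, one_smul, ← mul_smul] at h2
    have hu : IsUnit c := ((a⁻¹).isUnit).mul a'.isUnit
    have hr : IsUnit (t * b.repr c i) := by
      by_contra hn'
      have := hu
      rw [h2] at this
      obtain ⟨v, hv⟩ := this.exists_left_inv
      have hone : (1 : A) ∈ IsLocalRing.maximalIdeal R • (⊤ : Submodule R A) := by
        rw [← hv, mul_smul_comm]
        exact Submodule.smul_mem_smul hn' trivial
      have : b.repr (1 : A) i ∈ IsLocalRing.maximalIdeal R := by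
        refine Submodule.smul_induction_on hone (fun r hr x _ => ?_) fun x y hx hy => by rw [map_add]; exact add_mem hx hy
        rw [map_smul]; exact Ideal.mul_mem_right _ _ hr
      exact this (IsUnit.of_mul_eq_one (a := b.repr (1 : A) i) (b := t) (by rw [mul_comm]; exact ht))
    refine ⟨hr.unit, ?_⟩
    rw [IsUnit.unit_spec, ← Algebra.smul_def]
    calc (a' : A) = a * c := by simp [c]
      _ = (t * b.repr c i) • (a : A) := by conv_lhs => rw [h2, mul_smul_comm, mul_one]

end Groth.Agent.LSkolemLocal
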