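import Mathlib
import Groth.Agent.Lib.H2PerfectSmooth

/-! Finitely generated formally smooth field extensions have smooth models. -/

set_option autoImplicit false
universe u

namespace Groth.Agent.LSmoothModel

theorem exists_model {R : Type*} {K : Type u} [CommRing R] [IsNoetherianRing R] [Field K] [Algebra R K]
    [Algebra.FormallySmooth R K] (s : Finset K)
    (hs : ∀ x : K, ∃ a ∈ Algebra.adjoin R (s : Set K), ∃ b ∈ Algebra.adjoin R (s : Set K), a / b = x) :
    ∃ A : Subalgebra R K, Algebra.FiniteType R A ∧ Algebra.Smooth R A ∧ IsFractionRing A K := by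
  let A0 : Subalgebra R K := Algebra.adjoin R (s : Set K)
  have hF : ∀ A : Subalgebra R K, A0 ≤ A → IsFractionRing A K := fun A hA => by
    haveI : FaithfulSMul A K := (faithfulSMul_iff_algebraMap_injective _ _).mpr Subtype.val_injective
    refine IsFractionRing.of_field _ _ fun z => ?_
    obtain ⟨a, ha, b, hb, hab⟩ := hs z
    exact ⟨⟨a, hA ha⟩, ⟨b, hA hb⟩, hab.symm⟩
  haveI : Algebra.FiniteType R A0 := (Subalgebra.fg_iff_finiteType _).mp ⟨s, rfl⟩
  haveI : Algebra.FinitePresentation R A0 := Algebra.FinitePresentation.of_finiteType.mp inferInstance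
  haveI := hF A0 le_rfl
  let S : Submonoid A0 := (⊥ : Ideal A0).primeCompl
  have hS : S = nonZeroDivisors A0 := by
    ext x; simp [S, Ideal.primeCompl]
  haveI : IsLocalization.AtPrime K (⊥ : Ideal A0) := by
    show IsLocalization S K
    rw [hS]; infer_instance
  let e : Localization.AtPrime (⊥ : Ideal A0) ≃ₐ[A0] K :=
    IsLocalization.algEquiv S _ _
  haveI : Algebra.IsSmoothAt R (⊥ : Ideal A0) := Algebra.FormallySmooth.of_equiv (e.restrictScalars R).symm
  obtain ⟨g, hg, hsm⟩ := Algebra.IsSmoothAt.exists_notMem_smooth (R := R) (⊥ : Ideal A0)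
  have hgu : IsUnit (algebraMap A0 K g) := isUnit_iff_ne_zero.mpr fun h => hg (by
    simpa using Subtype.ext h)
  let φ : Localization.Away g →ₐ[R] K :=
    { __ := IsLocalization.Away.lift g hgu
      commutes' := fun r => by
        show IsLocalization.Away.lift g hgu (algebraMap R (Localization.Away g) r) = _
        rw [IsScalarTower.algebraMap_apply R A0 (Localization.Away g), IsLocalization.Away.lift_eq,
          ← IsScalarTower.algebraMap_apply] }
  have hφ : Function.Injective φ := by
    show Function.Injective (IsLocalization.lift _)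
    rw [IsLocalization.lift_injective_iff]
    intro x y
    exact ⟨fun h => congrArg _ ((IsLocalization.injective (Localization.Away g) (M := Submonoid.powers g)
      (powers_le_nonZeroDivisors_of_noZeroDivisors (by simpa using hg))) h), fun h => congrArg _ (IsFractionRing.injective A0 K h)⟩
  have hle : A0 ≤ φ.range := fun a ha => ⟨algebraMap A0 _ ⟨a, ha⟩, IsLocalization.Away.lift_eq g hgu _⟩
  let eφ := AlgEquiv.ofInjective φ hφ
  exact ⟨φ.range, Algebra.FiniteType.equiv (inferInstance : Algebra.FiniteType R (Localization.Away g)) eφ,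
    Algebra.Smooth.of_equiv eφ, hF _ hle⟩

theorem char_zero {K : Type u} [Field K] [CharZero K] (s : Finset K) (hs : Subfield.closure (↑s : Set K) = ⊤) :
    ∃ A : Subring K, Algebra.FiniteType ℤ A ∧ Algebra.Smooth ℤ A ∧ IsFractionRing A K := by
  haveI : Algebra.FormallySmooth ℤ ℚ := Algebra.FormallySmooth.of_isLocalization (nonZeroDivisors ℤ)
  haveI := H2PerfectSmooth.formallySmooth ℚ K
  haveI : Algebra.FormallySmooth ℤ K := Algebra.FormallySmooth.comp ℤ ℚ K
  obtain ⟨A, hft, hsm, hfr⟩ := exists_model (R := ℤ) s fun x => by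
    obtain ⟨a, ha, b, hb, h⟩ := Subfield.mem_closure_iff.mp (hs ▸ Subfield.mem_top x : x ∈ Subfield.closure (s : Set K))
    have hle : Subring.closure (s : Set K) ≤ (Algebra.adjoin ℤ (s : Set K)).toSubring :=
      Subring.closure_le.mpr Algebra.subset_adjoin
    exact ⟨a, hle ha, b, hle hb, h⟩
  let e : A ≃+* A.toSubring := RingEquiv.refl A
  refine ⟨A.toSubring, Algebra.FiniteType.equiv hft e.toIntAlgEquiv, Algebra.Smooth.of_equiv e.toIntAlgEquiv, hfr⟩

theorem char_p {K : Type u} [Field K] (p : ℕ) [Fact p.Prime] [CharP K p] (s : Finset K)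
    (hs : Subfield.closure (↑s : Set K) = ⊤) :
    ∃ A : Subalgebra (⊥ : Subfield K) K, Algebra.FiniteType (⊥ : Subfield K) A ∧
      Algebra.Smooth (⊥ : Subfield K) A ∧ IsFractionRing A K := by
  haveI := Subfield.fintypeBot K p
  haveI := H2PerfectSmooth.formallySmooth (⊥ : Subfield K) K
  refine exists_model s fun x => ?_
  obtain ⟨a, ha, b, hb, h⟩ := Subfield.mem_closure_iff.mp (hs ▸ Subfield.mem_top x : x ∈ Subfield.closure (s : Set K))
  have hle : Subring.closure (s : Set K) ≤ (Algebra.adjoin (⊥ : Subfield K) (s : Set K)).toSubring :=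
    Subring.closure_le.mpr Algebra.subset_adjoin
  exact ⟨a, hle ha, b, hle hb, h⟩

end Groth.Agent.LSmoothModel
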