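import Groth.Agent.Lib.LAmpleRel
import Groth.Agent.Lib.LSerre
import Mathlib

/-! Sums of sections with affine loci; finite sets of points inside affine loci. -/

set_option autoImplicit false
universe u
open CategoryTheory Limits AlgebraicGeometry Opposite TopologicalSpace

namespace Groth.Agent.LSumSec

open Groth.Agent.LQcoh Groth.Agent.LInv

variable {X : Scheme.{u}}

theorem exists_sum {L : X.Modules} (hL : PicF.IsInvertible L) {ι : Type*} [Fintype ι]
    (s : ι → (Coh.structureModule X ⟶ L)) (ha : ∀ i, IsAffineOpen (CohB1.genLocus L (s i)))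
    (z : ι → X) (hz : ∀ i, z i ∈ CohB1.genLocus L (s i))
    (hne : ∀ i j, i ≠ j → z j ∉ CohB1.genLocus L (s i)) :
    ∃ t : Coh.structureModule X ⟶ L, IsAffineOpen (CohB1.genLocus L t) ∧
      (∀ i, z i ∈ CohB1.genLocus L t) ∧ CohB1.genLocus L t ≤ ⨆ i, CohB1.genLocus L (s i) := by
  classical
  let t := ∑ i, s i
  have hval : ∀ U : X.Opens, (SecTwist.val t U : Γ(L, U)) = ∑ i, (SecTwist.val (s i) U : Γ(L, U)) :=
    fun U => LSerre.app_sum Finset.univ s U (1 : Γ(X, U))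
  have key : ∀ {U : X.Opens} {σ : Γ(L, U)} (hσ : GenOn L U σ),
      coeff hσ (SecTwist.val t U : Γ(L, U)) = ∑ i, coeff hσ (SecTwist.val (s i) U : Γ(L, U)) := fun {U σ} hσ => by
    refine coeff_eq hσ ?_
    rw [Finset.sum_smul, hval]
    exact Finset.sum_congr rfl fun i _ => coeff_spec hσ _
  have hloc : ∀ (x : X), ∃ (U : X.Opens) (hxU : x ∈ U) (c : ι → Γ(X, U)),
      (x ∈ CohB1.genLocus L t ↔ IsUnit (X.presheaf.germ U x hxU (∑ i, c i))) ∧
      ∀ i, x ∈ CohB1.genLocus L (s i) ↔ IsUnit (X.presheaf.germ U x hxU (c i)) := fun x => by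
    obtain ⟨U, σ, hxU, hσ⟩ := (isInvertible_iff L).1 hL x
    refine ⟨U, hxU, fun i => coeff hσ (SecTwist.val (s i) U : Γ(L, U)), ?_, fun i => ?_⟩
    · rw [← key hσ]
      exact Iff.trans ⟨fun h => (genLocus_inf' hσ t).le ⟨h, hxU⟩, fun h => ((genLocus_inf' hσ t).ge h).1⟩
        (Scheme.mem_basicOpen X _ x hxU)
    · exact Iff.trans ⟨fun h => (genLocus_inf' hσ (s i)).le ⟨h, hxU⟩, fun h => ((genLocus_inf' hσ (s i)).ge h).1⟩
        (Scheme.mem_basicOpen X _ x hxU)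
  have hle : CohB1.genLocus L t ≤ ⨆ i, CohB1.genLocus L (s i) := fun x hx => by
    by_contra hne'
    obtain ⟨U, hxU, c, ht, hs⟩ := hloc x
    have h := ht.1 hx
    rw [map_sum] at h
    have : ∑ i, X.presheaf.germ U x hxU (c i) ∈ IsLocalRing.maximalIdeal (X.presheaf.stalk x) :=
      sum_mem fun i _ => (IsLocalRing.mem_maximalIdeal _).2 fun hu =>
        hne' (Opens.mem_iSup.2 ⟨i, (hs i).2 hu⟩)
    exact (IsLocalRing.mem_maximalIdeal _).1 this h
  refine ⟨t, ?_, fun j => ?_, hle⟩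
  · let V := CohB1.genLocus L t
    have hσ : GenOn L V (SecTwist.val t V : Γ(L, V)) := LAmple.genOn_val t le_rfl
    let g : ι → Γ(X, V) := fun i => coeff hσ (SecTwist.val (s i) V : Γ(L, V))
    refine isAffineOpen_of_isAffineOpen_basicOpen V (Set.range g) ((Ideal.eq_top_iff_one _).2 ?_) ?_
    · have h1 : ∑ i, g i = 1 := (key hσ).symm.trans (coeff_eq hσ (one_smul _ _))
      exact h1 ▸ sum_mem fun i _ => Ideal.subset_span ⟨i, rfl⟩
    · rintro _ ⟨i, rfl⟩
      rw [← genLocus_inf' hσ (s i), inf_comm]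
      exact LAmple.isAffineOpen_genLocus_inf hL t (ha i)
  · obtain ⟨U, hxU, c, ht, hs⟩ := hloc (z j)
    refine ht.2 ?_
    rw [map_sum, ← Finset.add_sum_erase _ _ (Finset.mem_univ j)]
    by_contra hnu
    have hrest : ∑ i ∈ Finset.univ.erase j, X.presheaf.germ U (z j) hxU (c i) ∈
        IsLocalRing.maximalIdeal (X.presheaf.stalk (z j)) :=
      sum_mem fun i hi => (IsLocalRing.mem_maximalIdeal _).2 fun hu =>
        hne i j (Finset.ne_of_mem_erase hi) ((hs i).2 hu)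
    have := sub_mem ((IsLocalRing.mem_maximalIdeal _).2 hnu) hrest
    rw [add_sub_cancel_right] at this
    exact (IsLocalRing.mem_maximalIdeal _).1 this ((hs j).1 (hz j))

/-- a finite set has finitely many points, pairwise non-comparable, such that any open containing them
contains the set -/
theorem exists_minimal (Z : Set X) (hZ : Z.Finite) :
    ∃ Z₀ : Finset X, ↑Z₀ ⊆ Z ∧ (∀ U : X.Opens, (↑Z₀ : Set X) ⊆ U → Z ⊆ U) ∧
      ∀ a ∈ Z₀, ∀ b ∈ Z₀, a ≠ b → ¬ a ⤳ b := by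
  classical
  let Z₀ := hZ.toFinset.filter (fun a => ∀ b ∈ Z, a ⤳ b → b = a)
  refine ⟨Z₀, fun a ha => hZ.mem_toFinset.1 (Finset.mem_filter.1 ha).1, fun U hU a ha => ?_,
    fun a ha b hb hne h => hne ((Finset.mem_filter.1 ha).2 b (hZ.mem_toFinset.1 (Finset.mem_filter.1 hb).1) h).symm⟩
  suffices ∀ n, ∀ a ∈ Z, (hZ.toFinset.filter fun b => a ⤳ b).card ≤ n → a ∈ U from this _ a ha le_rfl
  intro n
  induction n with
  | zero =>
    intro a ha h
    exact absurd (Finset.card_eq_zero.1 (Nat.le_zero.1 h))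
      (Finset.nonempty_iff_ne_empty.1 ⟨a, Finset.mem_filter.2 ⟨hZ.mem_toFinset.2 ha, specializes_rfl⟩⟩)
  | succ n ih =>
    intro a ha h
    by_cases hb : ∀ b ∈ Z, a ⤳ b → b = a
    · exact hU (Finset.mem_coe.2 (Finset.mem_filter.2 ⟨hZ.mem_toFinset.2 ha, hb⟩))
    · push Not at hb
      obtain ⟨b, hbZ, hab, hne⟩ := hb
      refine hab.mem_open U.2 (ih b hbZ (Nat.le_of_lt_succ (lt_of_lt_of_le (Finset.card_lt_card ?_) h)))
      refine Finset.ssubset_iff_subset_ne.2 ⟨fun c hc => Finset.mem_filter.2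
        ⟨(Finset.mem_filter.1 hc).1, hab.trans (Finset.mem_filter.1 hc).2⟩, fun e => hne ?_⟩
      have := e.ge (Finset.mem_filter.2 ⟨hZ.mem_toFinset.2 ha, specializes_rfl⟩)
      exact ((hab.antisymm (Finset.mem_filter.1 this).2).symm).eq

/-- separating neighbourhoods for the maximal points of a finite set -/
theorem exists_opens (Z : Set X) (hZ : Z.Finite) (W : X.Opens) (hZW : Z ⊆ W) :
    ∃ (Z₀ : Finset X) (V : Z₀ → X.Opens), (∀ a : Z₀, a.1 ∈ V a) ∧ (∀ a, V a ≤ W) ∧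
      (∀ a b : Z₀, b ≠ a → b.1 ∉ V a) ∧ ∀ U : X.Opens, (↑Z₀ : Set X) ⊆ U → Z ⊆ U := by
  classical
  obtain ⟨Z₀, hsub, hcov, hinc⟩ := exists_minimal Z hZ
  have hsec : ∀ a : Z₀, ∃ V : X.Opens, a.1 ∈ V ∧ V ≤ W ∧ ∀ b : Z₀, b ≠ a → b.1 ∉ V := fun a => by
    let C : Set X := ⋃ b ∈ Z₀.erase a.1, closure {b}
    have hC : IsClosed C := (Finset.finite_toSet _).isClosed_biUnion fun _ _ => isClosed_closure
    refine ⟨W ⊓ ⟨Cᶜ, hC.isOpen_compl⟩, ⟨hZW (hsub a.2), fun hC' => ?_⟩, inf_le_left, fun b hb hbs => hbs.2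
      (Set.mem_iUnion₂.2 ⟨b.1, Finset.mem_erase.2 ⟨fun e => hb (Subtype.ext e), b.2⟩, subset_closure rfl⟩)⟩
    obtain ⟨b, hb, hba⟩ := Set.mem_iUnion₂.1 hC'
    exact hinc b (Finset.mem_of_mem_erase hb) a.1 a.2 (Finset.ne_of_mem_erase hb)
      (specializes_iff_mem_closure.2 hba)
  choose V hV hVW hne using hsec
  exact ⟨Z₀, V, hV, hVW, hne, hcov⟩

/-- with enough small affine loci, a finite set lies in one of them -/
theorem exists_finite_subset {L : X.Modules} (hL : PicF.IsInvertible L) (Z : Set X) (hZ : Z.Finite)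
    (W : X.Opens) (hZW : Z ⊆ W)
    (h : ∀ (x : X) (V : X.Opens), x ∈ V → ∃ s : Coh.structureModule X ⟶ L,
      IsAffineOpen (CohB1.genLocus L s) ∧ x ∈ CohB1.genLocus L s ∧ CohB1.genLocus L s ≤ V) :
    ∃ s : Coh.structureModule X ⟶ L, IsAffineOpen (CohB1.genLocus L s) ∧ Z ⊆ CohB1.genLocus L s ∧
      CohB1.genLocus L s ≤ W := by
  classical
  obtain ⟨Z₀, V, hV, hVW, hne, hcov⟩ := exists_opens Z hZ W hZW
  choose s hs has hle using fun a : Z₀ => h a.1 (V a) (hV a)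
  obtain ⟨t, ht, hta, htle⟩ := exists_sum hL s hs (fun a => a.1) has
    (fun i j hij hj => hne i j (Ne.symm hij) (hle i hj))
  exact ⟨t, ht, hcov _ fun a ha => hta ⟨a, ha⟩, htle.trans (iSup_le fun a => (hle a).trans (hVW a))⟩

end Groth.Agent.LSumSec
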