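import Groth.Agent.Lib.LPseudoRep
import Groth.Agent.Lib.H7TensorQCD
import Groth.Agent.Lib.H7PseudoNoeth
import Groth.Agent.Lib.H7KFlatBounded
import Groth.Agent.Lib.H7TensorQC
import Groth.Agent.Lib.LCoh
import Groth.Agent.Lib.LQFin
import Mathlib

/-! Bounded above coherent objects are stable under derived tensor products. -/

universe u w
open CategoryTheory Limits AlgebraicGeometry

namespace Groth.Agent.LTensorCohD
open Groth.Agent H7KFlatSheaf H7KFlatResFun H7HasLpull H7LpullCalc H7LTensorCx H7PerfTri H7LocLift H7TensorQCD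

attribute [local instance] HasDerivedCategory.standard

variable {X : Scheme.{u}}

lemma coh_of_iso {M N : X.Modules} (e : M ≅ N) (h : Coh.IsCoh M) : Coh.IsCoh N := by
  obtain ⟨hq, hf⟩ := (LQcoh.isCoh_iff_finite M).1 h
  have hN : Coh.IsQCoh N := H7AffineD.qcoh_of_iso e hq
  exact (LQcoh.isCoh_iff_finite N).2 ⟨hN, fun V hV => by
    haveI := hf V hV
    refine Module.Finite.of_surjective (LQcoh.appLin e.hom V) fun x => ⟨e.inv.app V x, ?_⟩
    have h := congrArg (fun φ : N ⟶ N => φ.app V x) e.inv_hom_id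
    exact h⟩

lemma coh_of_finite_cofan {T : Type} {M : T → X.Modules} (c : Cofan M) (hc : IsColimit c) (s : Finset T)
    (hs : ∀ t, t ∉ s → IsZero (M t)) (hM : ∀ t, Coh.IsCoh (M t)) : Coh.IsCoh c.pt := by
  classical
  refine (LQcoh.isCoh_iff_finite _).2 ⟨qcoh_of_cofan c hc fun t => (hM t).1, fun V hV => ?_⟩
  let π : ∀ t, c.pt ⟶ M t := fun t => Cofan.IsColimit.desc hc fun u =>
    if h : u = t then eqToHom (h ▸ rfl) else 0
  have hid : 𝟙 c.pt = ∑ t ∈ s, π t ≫ c.inj t := by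
    refine Cofan.IsColimit.hom_ext hc _ _ fun u => ?_
    rw [Category.comp_id, Preadditive.comp_sum]
    by_cases hu : u ∈ s
    · rw [Finset.sum_eq_single u]
      · rw [← Category.assoc, Cofan.IsColimit.fac, dif_pos rfl, eqToHom_refl, Category.id_comp]
      · intro t _ htu
        rw [← Category.assoc, Cofan.IsColimit.fac, dif_neg (fun h => htu h.symm), zero_comp]
      · exact fun h => absurd hu h
    · exact (hs u hu).eq_of_src _ _
  haveI : ∀ t : s, Module.Finite Γ(X, V) Γ(M t.1, V) := fun t => ((LQcoh.isCoh_iff_finite _).1 (hM t.1)).2 V hV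
  let L : (∀ t : s, Γ(M t.1, V)) →ₗ[Γ(X, V)] Γ(c.pt, V) :=
    ∑ t : s, (LQcoh.appLin (c.inj t.1) V).comp (LinearMap.proj t)
  refine Module.Finite.of_surjective L fun x => ⟨fun t => (π t.1).app V x, ?_⟩
  let ev : (c.pt ⟶ c.pt) →+ Γ(c.pt, V) :=
    AddMonoidHom.mk' (fun φ => φ.app V x) fun φ ψ => rfl
  have h : x = ev (∑ t ∈ s, π t ≫ c.inj t) := congrArg (fun φ => ev φ) hid
  rw [map_sum, ← Finset.sum_coe_sort] at h
  refine Eq.trans ?_ h.symm
  simp only [L, LinearMap.sum_apply]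
  rfl

lemma coh_tensorCx_X (K L : CochainComplex X.Modules ℤ) (hK : ∀ n, Coh.IsCoh (K.X n))
    (hL : ∀ n, Coh.IsCoh (L.X n)) (a b : ℤ) (ha : ∀ i, a < i → IsZero (K.X i)) (hb : ∀ i, b < i → IsZero (L.X i))
    (n : ℤ) : Coh.IsCoh (((DCoh.tensorCx.obj K).obj L).X n) ∧ (a + b < n → IsZero (((DCoh.tensorCx.obj K).obj L).X n)) := by
  classical
  let hc := GradedObject.isColimitCofanMapObj (((GradedObject.mapBifunctor (DCoh.tensorBi (X := X)) ℤ ℤ).obj K.X).obj L.X)
    (fun p : ℤ × ℤ => p.1 + p.2) n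
  have hz : ∀ p : (fun p : ℤ × ℤ => p.1 + p.2) ⁻¹' {n}, (a < p.1.1 ∨ b < p.1.2) →
      IsZero (CohB1.tensorMod (K.X p.1.1) (L.X p.1.2)) := fun p hp => by
    rcases hp with h | h
    · exact ((DCoh.tensorRightMod (L.X p.1.2)).map_isZero (ha _ h))
    · exact ((DCoh.tensorRightMod (K.X p.1.1)).map_isZero (hb _ h)).of_iso (LTensor.comm _ _)
  refine ⟨?_, fun hn => ?_⟩
  · refine coh_of_finite_cofan _ hc
      (((Finset.Icc (n - b) a).image fun p => (p, n - p)).subtype (fun p : ℤ × ℤ => p.1 + p.2 = n))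
      (fun p hp => ?_) fun p => ?_
    · refine hz p ?_
      by_contra h
      push Not at h
      refine hp (Finset.mem_subtype.2 (Finset.mem_image.2 ⟨p.1.1, ?_, ?_⟩))
      · have hp2 : p.1.1 + p.1.2 = n := p.2
        exact Finset.mem_Icc.2 ⟨by omega, h.1⟩
      · have hp2 : p.1.1 + p.1.2 = n := p.2
        exact Prod.ext rfl (by omega)
    · exact ⟨H7TensorQC.isQCoh_tensor (hK _).1 (hL _).1,
        H7TensorQC.isFT_tensor (hK _).1 (hL _).1 (hK _).2 (hL _).2⟩
  · refine IsZero.iff_id_eq_zero _ |>.2 (Cofan.IsColimit.hom_ext hc _ _ fun p => (hz p ?_).eq_of_src _ _)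
    have hp2 : p.1.1 + p.1.2 = n := p.2
    omega

lemma coh_homology [IsLocallyNoetherian X] (K : CochainComplex X.Modules ℤ) (hK : ∀ n, Coh.IsCoh (K.X n)) (i : ℤ) :
    Coh.IsCoh (K.homology i) := by
  have hc : Coh.IsCoh (K.cycles i) :=
    coh_of_iso ((limit.isLimit (parallelPair (K.d i (i + 1)) 0)).conePointUniqueUpToIso
      (K.cyclesIsKernel i (i + 1) (by simp))) (LQcoh.isCoh_kernel _ (hK i) (hK (i + 1)).1)
  exact coh_of_iso ((colimit.isColimit (parallelPair (K.toCycles (i - 1) i) 0)).coconePointUniqueUpToIso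
      (K.homologyIsCokernel (i - 1) i (by simp))) (LQcoh.isCoh_cokernel _ (hK (i - 1)).1 hc)

variable {R : CommRingCat.{u}} [IsNoetherianRing R]

lemma coh_tilde (N : ModuleCat.{u} R) [Module.Finite R N] : Coh.IsCoh ((tilde.functor R).obj N) := by
  haveI : PreservesFiniteLimits (tilde.functor R) := LQcoh.preservesFiniteLimits_tilde R
  haveI hq : ((tilde.functor R).obj N).IsQuasicoherent := H7TildeEquiv.qcoh_tilde N
  refine ⟨hq, LQcoh.isFiniteType_of_finite _ (fun _ : PUnit.{u + 1} => (⊤ : (Spec R).Opens)) (fun _ => isAffineOpen_top _)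
    (by rw [iSup_const]) fun _ => ?_⟩
  haveI : Module.Finite R Γ((tilde.functor R).obj N, ⊤) := LQcoh.module_finite_of_hasFinGen _ (LQcoh.hasFinGen_tilde N)
  exact Module.Finite.of_restrictScalars_finite R _ _

/-- a finite free model -/
lemma exists_model (E : DCoh.D (Spec R)) (hE : DCoh.IsCohD E) (a : ℤ) (ha : ∀ i, a < i → IsZero (DCoh.HD E i)) :
    ∃ (P : DRing.Cx R), (∀ i, a + 1 < i → IsZero (P.X i)) ∧ DRing.TermwiseFiniteFree P ∧
      Nonempty (DerivedCategory.Q.obj (((tilde.functor R).mapHomologicalComplex (ComplexShape.up ℤ)).obj P) ≅ E) := by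
  haveI : PreservesFiniteLimits (tilde.functor R) := LQcoh.preservesFiniteLimits_tilde R
  have hq : DCoh.IsQCohD E := fun i => (hE i).1
  obtain ⟨M, ⟨e⟩⟩ := H7TildeEquiv.mem_essImage E hq
  have hP : ∀ m, DRing.IsPseudoCoherent R m M := fun m => (H7TildePerf.isPseudo_iff_tildeD (A := R) M m).1
    (H7PseudoTri.isPseudo_of_iso e.symm ((H7PseudoNoeth.pseudo_spec_iff E hq m).2 ⟨⟨a, ha⟩, fun i _ => by
      haveI : (DCoh.HD E i).IsQuasicoherent := hq i
      haveI := (hE i).2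
      haveI := LQcoh.finite_sections (DCoh.HD E i) (isAffineOpen_top (Spec R))
      haveI : Module.Finite R Γ(Spec R, ⊤) := Module.Finite.of_surjective (Algebra.linearMap R Γ(Spec R, ⊤))
        (ConcreteCategory.bijective_of_isIso (Scheme.ΓSpecIso R).inv).2
      exact Module.Finite.trans Γ(Spec R, ⊤) _⟩))
  let K₀ := DerivedCategory.Q.objPreimage M
  let eM : DerivedCategory.Q.obj K₀ ≅ M := DerivedCategory.Q.objObjPreimageIso M
  obtain ⟨P, hP1, hP2, ⟨eP⟩⟩ := PseudoCoherentRing.rep_bound K₀ (N := a + 1)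
    (fun m => PseudoCoherentRing.isPseudo_of_iso eM.symm (hP m)) fun i hi => by
      refine IsZero.of_iso ?_ ((DerivedCategory.homologyFunctor _ i).mapIso eM)
      exact (H7TildePerf.isZero_HD_iff (R := R) M i).1
        ((ha i (by omega)).of_iso ((DerivedCategory.homologyFunctor _ i).mapIso e))
  exact ⟨P, hP1, hP2, ⟨(H7TildeEquiv.fac P).symm ≪≫ (DCoh.tildeD R).mapIso (eP ≪≫ eM) ≪≫ e⟩⟩

set_option maxHeartbeats 1000000 in
theorem spec (F : CochainComplex (Spec R).Modules ℤ) [DCoh.HasLTensorCx F] (hF : DCoh.IsCohD (DerivedCategory.Q.obj F))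
    (b : ℤ) (hb : ∀ i, b < i → IsZero (DCoh.HD (DerivedCategory.Q.obj F) i))
    (E : DCoh.D (Spec R)) (hE : DCoh.IsCohD E) (a : ℤ) (ha : ∀ i, a < i → IsZero (DCoh.HD E i)) :
    DCoh.IsCohD ((DCoh.LTensorCx F).obj E) ∧
      ∀ i, a + b + 2 < i → IsZero (DCoh.HD ((DCoh.LTensorCx F).obj E) i) := by
  haveI : IsNoetherianRing (CommRingCat.of R) := ‹IsNoetherianRing R›
  obtain ⟨P, hP, hPf, ⟨eP⟩⟩ := exists_model E hE a ha
  obtain ⟨N, hN, hNf, ⟨eN⟩⟩ := exists_model _ hF b hb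
  let T := (tilde.functor R).mapHomologicalComplex (ComplexShape.up ℤ)
  have hT : SKF (T.obj P) := H7TildeKFlat.skf_tilde P (H7KFlatBounded.kflat_of_boundedAbove _ (a + 1) hP fun n =>
    have := (hPf n).2
    inferInstance)
  obtain ⟨eT⟩ := tensorQIso_right hT eN.symm
  let C := (DCoh.tensorCx.obj (T.obj P)).obj (T.obj N)
  have hC := fun n => coh_tensorCx_X (T.obj P) (T.obj N)
    (fun n => have := (hPf n).1; coh_tilde (P.X n)) (fun n => have := (hNf n).1; coh_tilde (N.X n)) (a + 1) (b + 1)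
    (fun i hi => (tilde.functor R).map_isZero (hP i hi)) (fun i hi => (tilde.functor R).map_isZero (hN i hi)) n
  let eh : ∀ i, C.homology i ≅ DCoh.HD ((DCoh.LTensorCx F).obj E) i := fun i =>
    ((DerivedCategory.homologyFunctorFactors _ i).app C).symm ≪≫
      (DerivedCategory.homologyFunctor _ i).mapIso (eT.symm ≪≫ (ltenCxIso F hT).symm ≪≫ (DCoh.LTensorCx F).mapIso eP)
  exact ⟨fun i => coh_of_iso (eh i) (coh_homology C (fun n => (hC n).1) i), fun i hi =>
    ((HomologicalComplex.exactAt_iff_isZero_homology _ _).1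
      (HomologicalComplex.ExactAt.of_isZero ((hC i).2 (by omega)))).of_iso (eh i).symm⟩

end Groth.Agent.LTensorCohD
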