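import Groth.Agent.Lib.LTensorCohD
import Mathlib

/-! Globalisation: `D^-_Coh` is stable under derived tensor products. -/

universe u w
open CategoryTheory Limits AlgebraicGeometry

namespace Groth.Agent.LTensorCohD
open Groth.Agent H7KFlatSheaf H7KFlatResFun H7HasLpull H7LpullCalc H7LTensorCx H7PerfTri H7LocLift H7TensorQCD

attribute [local instance] HasDerivedCategory.standard

variable {X : Scheme.{u}} [IsLocallyNoetherian X]

omit [IsLocallyNoetherian X] in
lemma coh_restrict (U : X.affineOpens) [IsOpenImmersion U.2.fromSpec] {M : X.Modules} (h : Coh.IsCoh M) :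
    Coh.IsCoh ((Scheme.Modules.restrictFunctor U.2.fromSpec).obj M) := by
  obtain ⟨hq, hf⟩ := (LQcoh.isCoh_iff_finite M).1 h
  haveI hr : ((Scheme.Modules.restrictFunctor U.2.fromSpec).obj M).IsQuasicoherent := H7QCoh.isQCoh_restrict _ hq
  haveI : Module.Finite Γ(X, U) Γ((Scheme.Modules.restrictFunctor U.2.fromSpec).obj M, ⊤) :=
    (LQcoh.finite_restrict_iff M U.2).2 (hf U.1 U.2)
  exact ⟨hr, LQcoh.isFiniteType_of_finite _ (fun _ : PUnit.{u + 1} => (⊤ : (Spec Γ(X, U)).Opens))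
    (fun _ => isAffineOpen_top _) (by rw [iSup_const]) fun _ => Module.Finite.of_restrictScalars_finite Γ(X, U) _ _⟩

set_option maxHeartbeats 1000000 in
theorem main (F : CochainComplex X.Modules ℤ) [DCoh.HasLTensorCx F] (hF : DCoh.IsCohD (DerivedCategory.Q.obj F))
    (b : ℤ) (hb : ∀ i, b < i → IsZero (DCoh.HD (DerivedCategory.Q.obj F) i))
    (E : DCoh.D X) (hE : DCoh.IsCohD E) (a : ℤ) (ha : ∀ i, a < i → IsZero (DCoh.HD E i)) :
    DCoh.IsCohD ((DCoh.LTensorCx F).obj E) ∧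
      ∀ i, a + b + 2 < i → IsZero (DCoh.HD ((DCoh.LTensorCx F).obj E) i) := by
  obtain ⟨K, hK, -, ⟨eK⟩⟩ := exists_skf E
  let G := (DCoh.LTensorCx F).obj E
  have hq : DCoh.IsQCohD G := isQCohD_ltensor F (fun i => (hF i).1) E (fun i => (hE i).1)
  have key : ∀ U : X.affineOpens, DCoh.IsCohD ((rD U.2.fromSpec).obj G) ∧
      ∀ i, a + b + 2 < i → IsZero (DCoh.HD ((rD U.2.fromSpec).obj G) i) := by
    intro U
    haveI : IsNoetherianRing Γ(X, U) := IsLocallyNoetherian.component_noetherian U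
    haveI : IsOpenImmersion U.2.fromSpec := IsAffineOpen.isOpenImmersion_fromSpec U.2
    set j := U.2.fromSpec
    let c : ∀ L : CochainComplex X.Modules ℤ, (rst j).obj L ≅ (pullCx j).obj L := fun L =>
      H7PerfPull.cxIso (Scheme.Modules.restrictFunctorIsoPullback j) L
    have hK' : SKF ((rst j).obj K) := skf_of_iso (c K).symm (H7StalkPull.skf_pullback j hK)
    haveI := hasLTensorCx ((rst j).obj F)
    let et : (rst j).obj ((DCoh.tensorCx.obj K).obj F) ≅
        (DCoh.tensorCx.obj ((rst j).obj K)).obj ((rst j).obj F) :=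
      c _ ≪≫ pullTensorIso j K F ≪≫ (DCoh.tensorCx.mapIso (c K).symm).app _ ≪≫
        (DCoh.tensorCx.obj ((rst j).obj K)).mapIso (c F).symm
    let eF : ∀ i, DCoh.HD ((rD j).obj (DerivedCategory.Q.obj F)) i ≅ DCoh.HD (DerivedCategory.Q.obj ((rst j).obj F)) i :=
      fun i => (DerivedCategory.homologyFunctor _ i).mapIso (rQ j F)
    let eE : ∀ i, DCoh.HD ((rD j).obj E) i ≅ DCoh.HD (DerivedCategory.Q.obj ((rst j).obj K)) i :=
      fun i => (DerivedCategory.homologyFunctor _ i).mapIso ((rD j).mapIso eK.symm ≪≫ rQ j K)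
    obtain ⟨h1, h2⟩ := spec _
      (fun i => coh_of_iso ((H7QCoh.hdRestrict j (DerivedCategory.Q.obj F) i).symm ≪≫ eF i) (coh_restrict U (hF i)))
      b (fun i hi => ((Scheme.Modules.restrictFunctor j).map_isZero (hb i hi)).of_iso
        ((eF i).symm ≪≫ H7QCoh.hdRestrict j _ i))
      (DerivedCategory.Q.obj ((rst j).obj K))
      (fun i => coh_of_iso ((H7QCoh.hdRestrict j E i).symm ≪≫ eE i) (coh_restrict U (hE i)))
      a (fun i hi => ((Scheme.Modules.restrictFunctor j).map_isZero (ha i hi)).of_iso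
        ((eE i).symm ≪≫ H7QCoh.hdRestrict j _ i))
    let e : ∀ i, DCoh.HD ((DCoh.LTensorCx ((rst j).obj F)).obj (DerivedCategory.Q.obj ((rst j).obj K))) i ≅
        DCoh.HD ((rD j).obj G) i := fun i => (DerivedCategory.homologyFunctor _ i).mapIso
      (ltenCxIso _ hK' ≪≫ DerivedCategory.Q.mapIso et.symm ≪≫ (rQ j _).symm ≪≫
        (rD j).mapIso ((ltenCxIso F hK).symm ≪≫ (DCoh.LTensorCx F).mapIso eK))
    exact ⟨fun i => coh_of_iso (e i) (h1 i), fun i hi => (h2 i hi).of_iso (e i).symm⟩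
  refine ⟨fun i => ⟨hq i, ?_⟩, fun i hi => ?_⟩
  · haveI : (DCoh.HD G i).IsQuasicoherent := hq i
    refine LQcoh.isFiniteType_of_finite _ (fun U : X.affineOpens => (U : X.Opens)) (fun U => U.2)
      (iSup_affineOpens_eq_top X) fun U => (LQcoh.finite_restrict_iff (DCoh.HD G i) U.2).1 ?_
    haveI : IsOpenImmersion U.2.fromSpec := IsAffineOpen.isOpenImmersion_fromSpec U.2
    obtain ⟨h, h'⟩ := coh_of_iso (H7QCoh.hdRestrict U.2.fromSpec G i) ((key U).1 i)
    haveI := h
    haveI := LQcoh.finite_sections ((Scheme.Modules.restrictFunctor U.2.fromSpec).obj (DCoh.HD G i))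
      (isAffineOpen_top _)
    haveI : Module.Finite Γ(X, U) Γ(Spec Γ(X, U), ⊤) := Module.Finite.of_surjective
      (Algebra.linearMap Γ(X, U) Γ(Spec Γ(X, U), ⊤))
      (ConcreteCategory.bijective_of_isIso (Scheme.ΓSpecIso Γ(X, U)).inv).2
    exact Module.Finite.trans Γ(Spec Γ(X, U), ⊤) _
  · refine H7PseudoNoeth.isZero_of_cover fun x => ?_
    obtain ⟨U, hU⟩ := TopologicalSpace.Opens.mem_iSup.1 (show x ∈ ⨆ U : X.affineOpens, (U : X.Opens) by rw [iSup_affineOpens_eq_top X]; trivial)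
    haveI : IsOpenImmersion U.2.fromSpec := IsAffineOpen.isOpenImmersion_fromSpec U.2
    exact ⟨_, U.2.fromSpec, inferInstance, by rw [U.2.range_fromSpec]; exact hU,
      ((key U).2 i hi).of_iso (H7QCoh.hdRestrict U.2.fromSpec G i).symm⟩

end Groth.Agent.LTensorCohD
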