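import Groth.Agent.Lib.LTopPushFF
import Groth.Prelude.Def_CohCx

/-! Germs via the unit of pullback-pushforward; sheaves supported on a closed subset. -/

universe u

open CategoryTheory Limits TopologicalSpace Opposite StalkSkyscraperPresheafAdjunctionAuxs

namespace Groth.Agent.LTopDetect

variable {X Z : TopCat.{u}} (i : Z ⟶ X)

/-- the adjunction at the level of `CohTop` -/
noncomputable abbrev adj : CohTop.pull i ⊣ CohTop.push i :=
  TopCat.Sheaf.pullbackPushforwardAdjunction AddCommGrpCat.{u} i

/-- maps `T → i_* L` factor through the unit -/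
lemma eq_unit_comp {T : CohTop.Ab X} {L : CohTop.Ab Z} (t : T ⟶ (CohTop.push i).obj L) :
    t = (adj i).unit.app T ≫ (CohTop.push i).map (((adj i).homEquiv _ _).symm t) :=
  (((adj i).homEquiv_apply _ _ _).symm.trans (((adj i).homEquiv _ _).apply_symm_apply t)).symm

/-- a section killed by a test map to a skyscraper has zero germ -/
lemma germ_eq_zero_of_test (z : Z) (T : CohTop.Ab X) (V : Opens X) (hz : i z ∈ V) (s : T.obj.obj (op V))
    (h : ∀ (L : CohTop.Ab Z) (t : T ⟶ (CohTop.push i).obj L), t.hom.app (op V) s = 0) :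
    (TopCat.Sheaf.presheaf T).germ V (i z) hz s = 0 := by
  let hd : ∀ W : Opens X, Decidable (i z ∈ W) := fun W => Classical.dec (z ∈ (Opens.map i).obj W)
  letI := hd
  letI : ∀ W : Opens Z, Decidable (z ∈ W) := fun W => Classical.dec _
  let t : T ⟶ (CohTop.push i).obj (skyscraperSheaf z ((TopCat.Sheaf.presheaf T).stalk (i z))) :=
    ⟨toSkyscraperPresheaf (i z) (𝟙 ((TopCat.Sheaf.presheaf T).stalk (i z)))⟩
  have h2 : t.hom.app (op V) s = 0 := h _ t
  have h3 := ConcreteCategory.congr_hom
    (germ_fromStalk (i z) (toSkyscraperPresheaf (i z) (𝟙 ((TopCat.Sheaf.presheaf T).stalk (i z)))) V hz) s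
  rw [fromStalk_to_skyscraper, Category.comp_id] at h3
  refine h3.trans ?_
  erw [ConcreteCategory.comp_apply, h2, map_zero]

/-- sections killed by the unit have zero germs at the image -/
lemma germ_eq_zero (z : Z) (T : CohTop.Ab X) (V : Opens X) (hz : i z ∈ V) (s : T.obj.obj (op V))
    (h : ((adj i).unit.app T).hom.app (op V) s = 0) :
    (TopCat.Sheaf.presheaf T).germ V (i z) hz s = 0 :=
  germ_eq_zero_of_test i z T V hz s fun L t => by
    rw [eq_unit_comp i t]
    exact (congrArg (((CohTop.push i).map (((adj i).homEquiv _ _).symm t)).hom.app (op V)) h).trans (map_zero _)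

lemma mono_of_injective {T S : CohTop.Ab X} (f : T ⟶ S) (h : ∀ (V : Opens X) (s : T.obj.obj (op V)),
    f.hom.app (op V) s = 0 → s = 0) : Mono f := by
  have : Mono f.hom := by
    have : ∀ V, Mono (f.hom.app V) := by
      rintro ⟨V⟩
      rw [AddCommGrpCat.mono_iff_injective, injective_iff_map_eq_zero]
      exact h V
    exact NatTrans.mono_of_mono_app _
  exact (sheafToPresheaf _ _).mono_of_mono_map this

/-- for a surjective map the unit is mono -/
lemma mono_unit_of_surjective (hi : Function.Surjective i) (T : CohTop.Ab X) : Mono ((adj i).unit.app T) := by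
  refine mono_of_injective _ fun V s hs => TopCat.Presheaf.section_ext T V s 0 fun x hx => ?_
  obtain ⟨z, rfl⟩ := hi x
  rw [map_zero]
  exact germ_eq_zero i z T V hx s hs

section supp

variable (U : Opens X)

/-- sheaves pushed from the complement vanish against the unit of `U` -/
lemma push_comp_unit (G : CohTop.Ab (TopCat.of ((U : Set X)ᶜ : Set X))) {F : CohTop.Ab X}
    (t : (CohTop.push (CohCx.inclCompl U)).obj G ⟶ F) : t ≫ (adj (CohCx.incl U)).unit.app F = 0 := by
  have hj : Topology.IsOpenEmbedding (CohCx.incl U) := U.isOpenEmbedding'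
  have hz : IsZero ((CohTop.pull (CohCx.incl U)).obj ((CohTop.push (CohCx.inclCompl U)).obj G)) := by
    refine IsZero.of_iso ?_ ((hj.sheafPullbackIso AddCommGrpCat.{u}).app _)
    have h0 : IsZero ((hj.sheafPullback AddCommGrpCat.{u}).obj ((CohTop.push (CohCx.inclCompl U)).obj G)).obj :=
      Functor.isZero _ fun W => (TopCat.Sheaf.isTerminalOfEqEmpty G
        (U := (Opens.map (CohCx.inclCompl U)).obj (hj.functor.obj W.unop))
        (Opens.ext (Set.eq_empty_iff_forall_notMem.2 fun z hz => z.2 (by
          obtain ⟨x, _, hx⟩ := hz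
          change CohCx.inclCompl U z ∈ (U : Set X)
          exact hx ▸ x.2)))).isZero
    rw [IsZero.iff_id_eq_zero]
    exact ObjectProperty.hom_ext _ (h0.eq_of_src _ _)
  exact ((adj (CohCx.incl U)).homEquiv _ _).symm.injective (hz.eq_of_src _ _)

lemma sectSupp_eq_zero (F : CohTop.Ab X) (V : Opens X) (hV : V ≤ U) (s : (CohCx.sectSupp U F).obj.obj (op V)) :
    s = 0 := by
  let j := CohCx.incl U
  have hj : Topology.IsOpenEmbedding j := U.isOpenEmbedding'
  let ι : CohCx.sectSupp U F ⟶ F := kernel.ι _
  have h : ι ≫ (adj j).unit.app F = 0 := kernel.condition _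
  have : (CohTop.pull j).IsLeftAdjoint := (adj j).isLeftAdjoint
  have : (CohTop.pull j).PreservesZeroMorphisms := Functor.preservesZeroMorphisms_of_isLeftAdjoint _
  have hp : (CohTop.pull j).map ι = 0 := by
    have := congrArg (fun t => (CohTop.pull j).map t ≫ (adj j).counit.app _) h
    simp only [Functor.map_comp, Category.assoc] at this
    erw [(adj j).left_triangle_components, Category.comp_id] at this
    exact this.trans (by rw [Functor.map_zero, zero_comp])
  have hn : (hj.sheafPullback AddCommGrpCat.{u}).map ι = 0 := by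
    have := (hj.sheafPullbackIso AddCommGrpCat.{u}).hom.naturality ι
    erw [hp] at this
    exact (cancel_epi ((hj.sheafPullbackIso AddCommGrpCat.{u}).hom.app _)).1 (this.symm.trans (zero_comp.trans comp_zero.symm))
  obtain ⟨W, rfl⟩ : ∃ W : Opens (TopCat.of U), hj.functor.obj W = V := ⟨(Opens.map j).obj V, Opens.ext (by
    ext x
    exact ⟨fun ⟨y, hy, e⟩ => e ▸ hy, fun hx => ⟨⟨x, hV hx⟩, hx, rfl⟩⟩)⟩
  have h1 : ι.hom.app (op (hj.functor.obj W)) = 0 := congrArg (fun t => t.hom.app (op W)) hn
  have : Mono (ι.hom.app (op (hj.functor.obj W))) := by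
    have : Mono ((sheafToPresheaf _ _).map ι) := inferInstance
    exact (inferInstance : Mono (((sheafToPresheaf _ _).map ι).app _))
  exact (AddCommGrpCat.mono_iff_injective _).1 this (by rw [h1]; rfl)

lemma full_incl : (CohTop.push (CohCx.inclCompl U)).Full := LTopPushFF.push_full _ ⟨rfl⟩

lemma faithful_incl : (CohTop.push (CohCx.inclCompl U)).Faithful := LTopPushFF.push_faithful _ ⟨rfl⟩

lemma isIso_unit_sectSupp (F : CohTop.Ab X) :
    IsIso ((adj (CohCx.inclCompl U)).unit.app (CohCx.sectSupp U F)) := by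
  let i := CohCx.inclCompl U
  let K := CohCx.sectSupp U F
  have := full_incl U
  have : Mono ((adj i).unit.app K) := by
    refine mono_of_injective _ fun V s hs => TopCat.Presheaf.section_ext K V s 0 fun x hx => ?_
    rw [map_zero]
    by_cases hxU : x ∈ U
    · exact (TopCat.Presheaf.germ_res_apply (TopCat.Sheaf.presheaf K) (homOfLE (inf_le_left : V ⊓ U ≤ V)) x ⟨hx, hxU⟩ s).symm.trans
        ((congrArg ((TopCat.Sheaf.presheaf K).germ (V ⊓ U) x ⟨hx, hxU⟩) (sectSupp_eq_zero U F _ inf_le_right _)).trans (map_zero _))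
    · exact germ_eq_zero i ⟨x, hxU⟩ K V hx s hs
  have : Epi ((adj i).unit.app K) := by
    rw [Preadditive.epi_iff_cancel_zero]
    intro T a ha
    refine ObjectProperty.hom_ext _ (NatTrans.ext (funext fun V => ?_))
    obtain ⟨V⟩ := V
    ext s
    change a.hom.app (op V) s = 0
    refine TopCat.Presheaf.section_ext T V _ 0 fun x hx => ?_
    rw [map_zero]
    by_cases hxU : x ∈ U
    · have hs0 : ((CohTop.push i).obj ((CohTop.pull i).obj K)).obj.map (homOfLE (inf_le_left : V ⊓ U ≤ V)).op s = 0 := by
        have hsub : Subsingleton (((CohTop.push i).obj ((CohTop.pull i).obj K)).obj.obj (op (V ⊓ U))) :=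
          AddCommGrpCat.subsingleton_of_isZero (TopCat.Sheaf.isTerminalOfEqEmpty ((CohTop.pull i).obj K)
            (U := (Opens.map i).obj (V ⊓ U)) (Opens.ext (Set.eq_empty_iff_forall_notMem.2 fun z hz => z.2 hz.2))).isZero
        exact Subsingleton.elim _ _
      refine (TopCat.Presheaf.germ_res_apply (TopCat.Sheaf.presheaf T) (homOfLE (inf_le_left : V ⊓ U ≤ V)) x ⟨hx, hxU⟩ _).symm.trans ?_
      refine (congrArg ((TopCat.Sheaf.presheaf T).germ (V ⊓ U) x ⟨hx, hxU⟩) ?_).trans (map_zero _)
      exact (NatTrans.naturality_apply a.hom _ s).symm.trans ((congrArg (a.hom.app _) hs0).trans (map_zero _))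
    · refine germ_eq_zero_of_test i ⟨x, hxU⟩ T V hx _ fun L t => ?_
      obtain ⟨b, hb⟩ := (CohTop.push i).map_surjective (a ≫ t)
      have h0 : (adj i).homEquiv _ _ b = (adj i).homEquiv _ _ 0 := by
        rw [Adjunction.homEquiv_apply, Adjunction.homEquiv_apply, hb, ← Category.assoc, ha, zero_comp,
          Functor.map_zero, comp_zero]
      have hat : a ≫ t = 0 := by rw [← hb, ((adj i).homEquiv _ _).injective h0, Functor.map_zero]
      exact congrArg (fun f => f.hom.app (op V) s) hat
  exact isIso_of_mono_of_epi _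

end supp

end Groth.Agent.LTopDetect
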