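import Groth.Prelude.Def_CohTop
import Mathlib

/-! Pushforward along an inducing map of spaces is fully faithful on abelian sheaves. -/

universe u

open CategoryTheory Limits TopologicalSpace Opposite

namespace Groth.Agent.LTopPushFF

variable {Z X : TopCat.{u}} (i : Z ⟶ X) (hi : Topology.IsInducing i)

include hi

lemma exists_open (W : Opens Z) : ∃ V : Opens X, (Opens.map i).obj V = W := by
  obtain ⟨V, hV, e⟩ := hi.isOpen_iff.1 W.isOpen
  exact ⟨⟨V, hV⟩, Opens.ext e⟩

lemma push_faithful : (CohTop.push i).Faithful where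
  map_injective {G G'} φ φ' h := by
    refine ObjectProperty.hom_ext _ (NatTrans.ext (funext fun W => ?_))
    obtain ⟨W⟩ := W
    obtain ⟨V, rfl⟩ := exists_open i hi W
    exact congrArg (fun t => t.hom.app (op V)) h

omit hi in
/-- components -/
noncomputable abbrev comp' {G G' : CohTop.Ab Z} (ψ : (CohTop.push i).obj G ⟶ (CohTop.push i).obj G') (V : Opens X) :
    G.obj.obj (op ((Opens.map i).obj V)) ⟶ G'.obj.obj (op ((Opens.map i).obj V)) :=
  ψ.hom.app (op V)

omit hi in
lemma key {G G' : CohTop.Ab Z} (ψ : (CohTop.push i).obj G ⟶ (CohTop.push i).obj G') (V V' : Opens X)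
    (h : (Opens.map i).obj V' ≤ (Opens.map i).obj V) :
    G.obj.map (homOfLE h).op ≫ comp' i ψ V' = comp' i ψ V ≫ G'.obj.map (homOfLE h).op := by
  let V₀ := V' ⊓ V
  have ha : (Opens.map i).obj V₀ ≤ (Opens.map i).obj V := fun z hz => hz.2
  have hb : (Opens.map i).obj V₀ ≤ (Opens.map i).obj V' := fun z hz => hz.1
  have h₀ : (Opens.map i).obj V' ≤ (Opens.map i).obj V₀ := fun z hz => ⟨hz, h hz⟩
  have n₁ : G.obj.map (homOfLE ha).op ≫ comp' i ψ V₀ = comp' i ψ V ≫ G'.obj.map (homOfLE ha).op :=
    ψ.hom.naturality (homOfLE (inf_le_right : V' ⊓ V ≤ V)).op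
  have n₂ : G.obj.map (homOfLE hb).op ≫ comp' i ψ V₀ = comp' i ψ V' ≫ G'.obj.map (homOfLE hb).op :=
    ψ.hom.naturality (homOfLE (inf_le_left : V' ⊓ V ≤ V')).op
  have : IsIso (G'.obj.map (homOfLE hb).op) :=
    ⟨G'.obj.map (homOfLE h₀).op, by rw [← Functor.map_comp]; exact G'.obj.map_id _,
      by rw [← Functor.map_comp]; exact G'.obj.map_id _⟩
  rw [← cancel_mono (G'.obj.map (homOfLE hb).op), Category.assoc, Category.assoc, ← n₂,
    ← Functor.map_comp, ← Functor.map_comp_assoc]
  exact n₁

/-- chosen extension of an open -/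
noncomputable abbrev ext' (W : Opens Z) : Opens X := (exists_open i hi W).choose

lemma ext'_eq (W : Opens Z) : (Opens.map i).obj (ext' i hi W) = W := (exists_open i hi W).choose_spec

/-- components of the preimage -/
noncomputable abbrev preApp {G G' : CohTop.Ab Z} (ψ : (CohTop.push i).obj G ⟶ (CohTop.push i).obj G') (W : Opens Z) :
    G.obj.obj (op W) ⟶ G'.obj.obj (op W) :=
  G.obj.map (homOfLE (ext'_eq i hi W).le).op ≫ comp' i ψ (ext' i hi W) ≫ G'.obj.map (homOfLE (ext'_eq i hi W).ge).op

lemma push_full : (CohTop.push i).Full where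
  map_surjective {G G'} ψ := by
    refine ⟨⟨{ app := fun W => preApp i hi ψ W.unop, naturality := ?_ }⟩, ObjectProperty.hom_ext _ (NatTrans.ext (funext fun V => ?_))⟩
    · rintro ⟨W⟩ ⟨W'⟩ f
      have h : (Opens.map i).obj (ext' i hi W') ≤ (Opens.map i).obj (ext' i hi W) :=
        (ext'_eq i hi W').le.trans (f.unop.le.trans (ext'_eq i hi W).ge)
      have a₁ : f ≫ (homOfLE (ext'_eq i hi W').le).op = (homOfLE (ext'_eq i hi W).le).op ≫ (homOfLE h).op :=
        Subsingleton.elim _ _
      have a₂ : (homOfLE (ext'_eq i hi W).ge).op ≫ f = (homOfLE h).op ≫ (homOfLE (ext'_eq i hi W').ge).op :=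
        Subsingleton.elim _ _
      change G.obj.map f ≫ preApp i hi ψ W' = preApp i hi ψ W ≫ G'.obj.map f
      simp only [preApp, Category.assoc]
      rw [← Functor.map_comp_assoc, a₁, ← Functor.map_comp G'.obj, a₂, Functor.map_comp, Functor.map_comp,
        Category.assoc, reassoc_of% (key i ψ _ _ h)]
    · obtain ⟨V⟩ := V
      have hW := ext'_eq i hi ((Opens.map i).obj V)
      change preApp i hi ψ ((Opens.map i).obj V) = comp' i ψ V
      have e := key i ψ (ext' i hi ((Opens.map i).obj V)) V hW.ge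
      have hiso : IsIso (G.obj.map (homOfLE hW.ge).op) :=
        ⟨G.obj.map (homOfLE hW.le).op, by rw [← Functor.map_comp]; exact G.obj.map_id _,
          by rw [← Functor.map_comp]; exact G.obj.map_id _⟩
      rw [preApp, ← cancel_epi (G.obj.map (homOfLE hW.ge).op), ← Functor.map_comp_assoc, e]
      conv_rhs => rw [← Category.id_comp (comp' i ψ (ext' i hi ((Opens.map i).obj V))), ← G.obj.map_id, Category.assoc]
      rfl

end Groth.Agent.LTopPushFF
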