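import Groth.Prelude.Def_ToposFin2
import Mathlib

set_option autoImplicit false
set_option linter.style.haveILetI false
set_option backward.isDefEq.respectTransparency false
set_option backward.isDefEq.respectTransparency.types false

universe u

open CategoryTheory CategoryTheory.Limits Opposite ToposFin

noncomputable section

namespace Groth.Agent.LTopos

variable {C : Type u} [SmallCategory C] {J : GrothendieckTopology C}

/-- The image presheaf of a family of morphisms of sheaves. -/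
def famImage {X : Sh J} {ι : Type u} {F : ι → Sh J} (π : ∀ i, F i ⟶ X) : Subfunctor X.obj where
  obj U := {x | ∃ (i : ι) (a : (F i).obj.obj U), (π i).hom.app U a = x}
  map := by
    rintro U V g x ⟨i, a, rfl⟩
    exact ⟨i, (F i).obj.map g a, (π i).hom.naturality_apply g a⟩

/-- A family is covering if every section is locally in the image of one member. -/
def Cov {X : Sh J} {ι : Type u} {F : ι → Sh J} (π : ∀ i, F i ⟶ X) : Prop :=
  ∀ (U : Cᵒᵖ) (x : X.obj.obj U), x ∈ ((famImage π).sheafify J).obj U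

theorem cancel_of_cov {X Z : Sh J} {ι : Type u} {F : ι → Sh J} {π : ∀ i, F i ⟶ X} (h : Cov π)
    (a b : X ⟶ Z) (hab : ∀ i, π i ≫ a = π i ≫ b) : a = b := by
  apply ObjectProperty.hom_ext
  ext U x
  apply (((isSheaf_iff_isSheaf_of_type J Z.obj).1 Z.property) _ (h U x)).isSeparatedFor.ext
  rintro V g ⟨i, c, hc⟩
  have e := congrArg (fun t : F i ⟶ Z => t.hom.app (op V) c) (hab i)
  have h1 : a.hom.app (op V) ((π i).hom.app (op V) c) = b.hom.app (op V) ((π i).hom.app (op V) c) := e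
  rw [hc] at h1
  exact ((a.hom.naturality_apply g.op x).symm.trans h1).trans (b.hom.naturality_apply g.op x)

theorem cov_of_cancel {X : Sh J} {ι : Type u} {F : ι → Sh J} {π : ∀ i, F i ⟶ X}
    (h : ∀ (Z : Sh J) (a b : X ⟶ Z), (∀ i, π i ≫ a = π i ≫ b) → a = b) : Cov π := by
  have hX := (isSheaf_iff_isSheaf_of_type J X.obj).1 X.property
  let T : Sh J := ⟨((famImage π).sheafify J).toFunctor,
    (isSheaf_iff_isSheaf_of_type J _).2 ((famImage π).sheafify_isSheaf hX)⟩
  let ι' : T ⟶ X := ⟨((famImage π).sheafify J).ι⟩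
  haveI : Mono ι' := ⟨fun {W} a b hab => by
    apply ObjectProperty.hom_ext
    ext U x
    exact Subtype.ext (congrArg (fun t : W ⟶ X => t.hom.app U x) hab)⟩
  haveI : Epi ι' := ⟨fun {Z} a b hab => h Z a b fun i => by
    apply ObjectProperty.hom_ext
    ext U c
    exact congrArg (fun t : T ⟶ Z => t.hom.app U ⟨(π i).hom.app U c, Subfunctor.le_sheafify J _ U ⟨i, c, rfl⟩⟩) hab⟩
  haveI : IsIso ι' := isIso_of_mono_of_epi ι'
  intro U x
  have hx : ι'.hom.app U ((inv ι').hom.app U x) = x :=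
    congrArg (fun t : X ⟶ X => t.hom.app U x) (IsIso.inv_hom_id ι')
  rw [← hx]
  exact ((inv ι').hom.app U x).2

theorem cov_iff {X : Sh J} {ι : Type u} {F : ι → Sh J} (π : ∀ i, F i ⟶ X) : Cov π ↔ Epi (Sigma.desc π) := by
  constructor
  · intro h
    exact ⟨fun a b hab => cancel_of_cov h a b fun i => by
      simpa using congrArg (fun t => Sigma.ι F i ≫ t) hab⟩
  · intro h
    exact cov_of_cancel fun Z a b hab => (cancel_epi (Sigma.desc π)).1 (Sigma.hom_ext _ _ fun i => by simpa using hab i)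

theorem cov_iff_cancel {X : Sh J} {ι : Type u} {F : ι → Sh J} (π : ∀ i, F i ⟶ X) :
    Cov π ↔ ∀ (Z : Sh J) (a b : X ⟶ Z), (∀ i, π i ≫ a = π i ≫ b) → a = b :=
  ⟨fun h _ => cancel_of_cov h, cov_of_cancel⟩

theorem cov_of_factors {X : Sh J} {ι κ : Type u} {F : ι → Sh J} {G : κ → Sh J} {π : ∀ i, F i ⟶ X} {σ : ∀ k, G k ⟶ X}
    (h : Cov π) (H : ∀ i, ∃ (k : κ) (u : F i ⟶ G k), u ≫ σ k = π i) : Cov σ :=
  cov_of_cancel fun Z a b hab => cancel_of_cov h a b fun i => by
    obtain ⟨k, u, e⟩ := H i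
    rw [← e, Category.assoc, Category.assoc, hab k]

theorem cov_comp {X : Sh J} {ι : Type u} {F : ι → Sh J} {π : ∀ i, F i ⟶ X} (h : Cov π) {κ : ι → Type u}
    {G : ∀ i, κ i → Sh J} {ρ : ∀ i k, G i k ⟶ F i} (hρ : ∀ i, Cov (ρ i)) :
    Cov (fun p : Σ i, κ i => ρ p.1 p.2 ≫ π p.1) :=
  cov_of_cancel fun Z a b hab => cancel_of_cov h a b fun i => cancel_of_cov (hρ i) _ _ fun k => by
    simpa using hab ⟨i, k⟩

theorem cov_of_epi {X Y : Sh J} (f : X ⟶ Y) [Epi f] : Cov (fun _ : PUnit.{u + 1} => f) :=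
  cov_of_cancel fun _ _ _ hab => (cancel_epi f).1 (hab PUnit.unit)

theorem cov_pullback {X Y : Sh J} {ι : Type u} {F : ι → Sh J} {π : ∀ i, F i ⟶ X} (h : Cov π) (g : Y ⟶ X) :
    Cov (fun i => pullback.snd (π i) g) := by
  intro U y
  refine J.superset_covering ?_ (h U (g.hom.app U y))
  rintro V k ⟨i, a, ha⟩
  have hp := (IsPullback.of_hasPullback (π i) g).map (sheafToPresheaf J (Type u) ⋙ (evaluation _ _).obj (op V))
  obtain ⟨p, -, hp2⟩ := Types.exists_of_isPullback hp a (Y.obj.map k.op y)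
    (ha.trans (g.hom.naturality_apply k.op y).symm)
  exact ⟨i, p, hp2⟩

theorem cov_pullback' {X Y : Sh J} {ι : Type u} {F : ι → Sh J} {π : ∀ i, F i ⟶ X} (h : Cov π) (g : Y ⟶ X) :
    Cov (fun i => pullback.fst g (π i)) :=
  cov_of_factors (cov_pullback h g) fun i => ⟨i, (pullbackSymmetry (π i) g).hom, pullbackSymmetry_hom_comp_fst _ _⟩

theorem qc_iff (X : Sh J) : IsQC X ↔ ∀ (ι : Type u) (F : ι → Sh J) (π : ∀ i, F i ⟶ X), Cov π →
    ∃ s : Finset ι, Cov (fun i : s => π i) := by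
  simp only [IsQC, cov_iff]

theorem qc_of_cover {X : Sh J} {κ : Type u} [Finite κ] {G : κ → Sh J} {σ : ∀ k, G k ⟶ X} (h : Cov σ)
    (hG : ∀ k, IsQC (G k)) : IsQC X := by
  classical
  rw [qc_iff]
  intro ι F π hπ
  choose s hs using fun k => (qc_iff _).1 (hG k) ι _ _ (cov_pullback hπ (σ k))
  letI := Fintype.ofFinite κ
  refine ⟨Finset.univ.biUnion s, cov_of_factors (cov_comp h hs) ?_⟩
  rintro ⟨k, i, hi⟩
  exact ⟨⟨i, Finset.mem_biUnion.2 ⟨k, Finset.mem_univ _, hi⟩⟩, pullback.fst (π i) (σ k), pullback.condition⟩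

theorem qc_of_epi {X Y : Sh J} (f : X ⟶ Y) [Epi f] (hX : IsQC X) : IsQC Y :=
  qc_of_cover (cov_of_epi f) fun _ => hX

theorem qc_of_iso {X Y : Sh J} (e : X ≅ Y) (hX : IsQC X) : IsQC Y := qc_of_epi e.hom hX

theorem qc_of_fin {X : Sh J} {n : ℕ} (F : Fin n → Sh J) (π : ∀ k, F k ⟶ X)
    (hπ : Epi (Sigma.desc π)) (hF : ∀ k, IsQC (F k)) : IsQC X := by
  refine qc_of_cover (κ := ULift.{u} (Fin n)) (G := fun k => F k.down) (σ := fun k => π k.down) ?_ fun k => hF k.down
  exact cov_of_cancel fun Z a b hab => (cancel_epi (Sigma.desc π)).1 (Sigma.hom_ext _ _ fun i => by simpa using hab ⟨i⟩)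

theorem qchom_iff {P X Y Y' : Sh J} {f : X ⟶ Y} (hf : IsQCHom f) {g : Y' ⟶ Y} (hY' : IsQC Y') {p : P ⟶ X} {q : P ⟶ Y'}
    (h : IsPullback p q f g) : IsQC P :=
  qc_of_iso h.isoPullback.symm (hf Y' g hY')

theorem qchom_base {P X Y Y' : Sh J} {f : X ⟶ Y} (hf : IsQCHom f) {g : Y' ⟶ Y} {p : P ⟶ X} {q : P ⟶ Y'}
    (h : IsPullback p q f g) : IsQCHom q := fun T t hT =>
  qchom_iff hf hT ((IsPullback.of_hasPullback q t).paste_horiz h)

theorem qchom_comp {X Y Z : Sh J} {f : X ⟶ Y} {g : Y ⟶ Z} (hf : IsQCHom f) (hg : IsQCHom g) : IsQCHom (f ≫ g) :=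
  fun T t hT => qc_of_iso ((IsPullback.of_hasPullback f (pullback.fst g t)).paste_vert (IsPullback.of_hasPullback g t)).isoPullback
    (hf _ _ (hg T t hT))

theorem qchom_of_mono {X Y Z : Sh J} (a : X ⟶ Y) (m : Y ⟶ Z) [Mono m] (h : IsQCHom (a ≫ m)) : IsQCHom a :=
  fun T t hT => qchom_iff h hT (g := t ≫ m) (p := pullback.fst a t) (q := pullback.snd a t)
    ⟨⟨by rw [← Category.assoc, pullback.condition, Category.assoc]⟩, ⟨PullbackCone.IsLimit.mk _
      (fun s => pullback.lift s.fst s.snd ((cancel_mono m).1 (by simpa using s.condition)))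
      (fun s => pullback.lift_fst _ _ _) (fun s => pullback.lift_snd _ _ _)
      (fun s k h1 h2 => pullback.hom_ext (by simpa using h1) (by simpa using h2))⟩⟩

theorem qchom_of_isIso {X Y : Sh J} (f : X ⟶ Y) [IsIso f] : IsQCHom f := fun T t hT =>
  qc_of_iso (asIso (pullback.snd f t)).symm hT

theorem qshom_of_mono {X Y : Sh J} (f : X ⟶ Y) [Mono f] : IsQSHom f :=
  qchom_of_isIso _

theorem qshom_of_comp {X Y Z : Sh J} (f : X ⟶ Y) (g : Y ⟶ Z) (h : IsQSHom (f ≫ g)) : IsQSHom f := by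
  let m : pullback f f ⟶ pullback (f ≫ g) (f ≫ g) :=
    pullback.map f f (f ≫ g) (f ≫ g) (𝟙 _) (𝟙 _) g (by simp) (by simp)
  haveI : Mono m := ⟨fun a b hab => pullback.hom_ext
    (by simpa [m] using congrArg (fun t => t ≫ pullback.fst (f ≫ g) (f ≫ g)) hab)
    (by simpa [m] using congrArg (fun t => t ≫ pullback.snd (f ≫ g) (f ≫ g)) hab)⟩
  refine qchom_of_mono _ m ?_
  have e : pullback.diagonal f ≫ m = pullback.diagonal (f ≫ g) := by apply pullback.hom_ext <;> simp [m]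
  rw [e]; exact h

/-- The key step: fibre products over a quasi-separated morphism. -/
theorem qc_pullback_of_qshom {A B X Y : Sh J} (a : A ⟶ X) (b : B ⟶ X) (f : X ⟶ Y) (hf : IsQSHom f)
    (h : IsQC (pullback (a ≫ f) (b ≫ f))) : IsQC (pullback a b) :=
  qchom_iff hf h (pullback_map_diagonal_isPullback a b f)

theorem qs_of_qshom {X Y : Sh J} (f : X ⟶ Y) (hf : IsQSHom f) (hY : IsQS Y) : IsQS X :=
  fun _ _ a b hA hB => qc_pullback_of_qshom a b f hf (hY _ _ (a ≫ f) (b ≫ f) hA hB)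

theorem qchom_of_comp {X Y Z : Sh J} (f : X ⟶ Y) (g : Y ⟶ Z) (hg : IsQSHom g) (h : IsQCHom (f ≫ g)) : IsQCHom f :=
  fun T t hT => qc_pullback_of_qshom f t g hg (h T (t ≫ g) hT)

/-- Quasi-compactness of a morphism can be tested on quasi-compact generators. -/
theorem qchom_of_gen {α : Type u} (G : α → Sh J) (hG : ∀ a, IsQC (G a))
    (hgen : ∀ X : Sh J, ∃ (ι : Type u) (a : ι → α) (π : ∀ i, G (a i) ⟶ X), Epi (Sigma.desc π))
    {X Y : Sh J} (f : X ⟶ Y) (h : ∀ (a : α) (s : G a ⟶ Y), IsQC (pullback f s)) : IsQCHom f := by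
  intro T t hT
  obtain ⟨ι, a, π, hπ⟩ := hgen T
  obtain ⟨s, hs⟩ := (qc_iff T).1 hT ι _ π ((cov_iff π).2 hπ)
  refine qc_of_cover (cov_pullback' hs (pullback.snd f t)) fun i => ?_
  exact qc_of_iso ((IsPullback.of_hasPullback (pullback.snd f t) (π i)).flip.flip.paste_horiz (IsPullback.of_hasPullback f t)).isoPullback.symm (h _ (π i ≫ t))

theorem qs_of_gen {α : Type u} (G : α → Sh J) (hG : ∀ a, IsQC (G a))
    (hgen : ∀ X : Sh J, ∃ (ι : Type u) (a : ι → α) (π : ∀ i, G (a i) ⟶ X), Epi (Sigma.desc π))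
    {Y : Sh J} (h : ∀ (a : α) (s : G a ⟶ Y), IsQCHom s) : IsQS Y := by
  intro A B a b hA hB
  obtain ⟨ι, c, π, hπ⟩ := hgen A
  obtain ⟨s, hs⟩ := (qc_iff A).1 hA ι _ π ((cov_iff π).2 hπ)
  refine qc_of_cover (cov_pullback' hs (pullback.fst a b)) fun i => ?_
  refine qchom_iff (h _ (π i ≫ a)) hB (g := b) (p := pullback.snd (pullback.fst a b) (π i)) (q := pullback.fst (pullback.fst a b) (π i) ≫ pullback.snd a b) ?_
  exact (IsPullback.of_hasPullback (pullback.fst a b) (π i)).flip.paste_vert (IsPullback.of_hasPullback a b)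

theorem qchom_of_fin {Y Z : Sh J} (g : Y ⟶ Z) {n : ℕ} (X : Fin n → Sh J) (f : ∀ k, X k ⟶ Y) (hf : Epi (Sigma.desc f))
    (h : ∀ k, IsQCHom (f k ≫ g)) : IsQCHom g := by
  intro T t hT
  have hc : Cov (fun k : ULift.{u} (Fin n) => f k.down) :=
    cov_of_cancel fun W a b hab => (cancel_epi (Sigma.desc f)).1 (Sigma.hom_ext _ _ fun i => by simpa using hab ⟨i⟩)
  refine qc_of_cover (cov_pullback hc (pullback.fst g t)) fun k => ?_
  exact qchom_iff (h k.down) hT ((IsPullback.of_hasPullback (f k.down) (pullback.fst g t)).paste_vert (IsPullback.of_hasPullback g t))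

theorem qc_image {D : Type u} [SmallCategory D] {K : GrothendieckTopology D}
    (F : Sh K ⥤ Sh J) (R : Sh J ⥤ Sh K) (adj : F ⊣ R) (S : Set (Sh K)) (hgen : ToposFin.IsGenerating S)
    (h : ∀ X ∈ S, IsQC (F.obj X)) (X : Sh K) (hX : IsQC X) : IsQC (F.obj X) := by
  obtain ⟨ι, G, π, hG, hπ⟩ := hgen X
  obtain ⟨s, hs⟩ := (qc_iff X).1 hX ι G π (cov_of_cancel hπ)
  refine qc_of_cover (κ := s) (G := fun i => F.obj (G i)) (σ := fun i => F.map (π i)) ?_ fun i => h _ (hG i)
  exact cov_of_cancel fun Z a b hab => (adj.homEquiv _ _).injective (cancel_of_cov hs _ _ fun i => by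
    rw [← Adjunction.homEquiv_naturality_left, ← Adjunction.homEquiv_naturality_left, hab i])

theorem cov_eps {X : C} (S : Sieve X) {ι : Type u} {F : ι → Sh J} (π : ∀ i, F i ⟶ eps J X) (hS : S ∈ J X)
    (h : ∀ ⦃V : C⦄ (g : V ⟶ X), S g → ∃ (i : ι) (a : (F i).obj.obj (op V)),
      (π i).hom.app (op V) a = (toSheafify J (yoneda.obj X)).app (op V) g) : Cov π := by
  refine cov_of_cancel fun Z a b hab => ?_
  apply ((sheafificationAdjunction J (Type u)).homEquiv _ _).injective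
  apply yonedaEquiv.injective
  apply (((isSheaf_iff_isSheaf_of_type J Z.obj).1 Z.property) S hS).isSeparatedFor.ext
  intro V g hg
  obtain ⟨i, c, hc⟩ := h g hg
  have key : ∀ a : eps J X ⟶ Z, Z.obj.map g.op (a.hom.app (op X) ((toSheafify J (yoneda.obj X)).app (op X) (𝟙 X))) =
      a.hom.app (op V) ((toSheafify J (yoneda.obj X)).app (op V) g) := fun a => by
    rw [← a.hom.naturality_apply, ← (toSheafify J (yoneda.obj X)).naturality_apply]
    simp
  show Z.obj.map g.op (a.hom.app (op X) _) = Z.obj.map g.op (b.hom.app (op X) _)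
  refine (key a).trans (Eq.trans ?_ (key b).symm)
  rw [← hc]
  exact congrArg (fun t : F i ⟶ Z => t.hom.app (op V) c) (hab i)

theorem qcsite_iff (X : C) : IsQCSite J X ↔ IsQC (eps J X) := by
  constructor
  · intro h
    rw [qc_iff]
    intro ι F π hπ
    let η : (eps J X).obj.obj (op X) := (toSheafify J (yoneda.obj X)).app (op X) (𝟙 X)
    obtain ⟨n, V, g, hg, hJ⟩ := h _ (hπ (op X) η)
    choose i a hia using hg
    classical
    refine ⟨Finset.univ.image i, cov_eps _ _ hJ ?_⟩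
    rintro W k ⟨Z, r, _, ⟨m⟩, rfl⟩
    refine ⟨⟨i m, Finset.mem_image_of_mem _ (Finset.mem_univ m)⟩, (F (i m)).obj.map r.op (a m), ?_⟩
    rw [(π (i m)).hom.naturality_apply r.op (a m), hia m, ← (toSheafify J (yoneda.obj X)).naturality_apply, ← (toSheafify J (yoneda.obj X)).naturality_apply]
    simp
  · intro h S hS
    let ι := Σ V : C, {g : V ⟶ X // S g}
    have hc : Cov (fun p : ι => (presheafToSheaf J (Type u)).map (yoneda.map p.2.1)) :=
      cov_eps S _ hS fun V g hg => ⟨⟨V, g, hg⟩, (toSheafify J (yoneda.obj V)).app (op V) (𝟙 V), by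
        have := congrArg (fun t : yoneda.obj V ⟶ sheafify J (yoneda.obj X) => t.app (op V) (𝟙 V)) (toSheafify_naturality J (yoneda.map g))
        exact this.symm.trans (congrArg _ (Category.id_comp g))⟩
    obtain ⟨s, hs⟩ := (qc_iff _).1 h ι _ _ hc
    let e := s.equivFin.symm
    refine ⟨s.card, fun k => (e k).1.1, fun k => (e k).1.2.1, fun k => (e k).1.2.2, ?_⟩
    apply J.transitive (hs (op X) ((toSheafify J (yoneda.obj X)).app (op X) (𝟙 X)))
    rintro V k ⟨p, a, ha⟩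
    apply J.transitive (Presheaf.imageSieve_mem J (toSheafify J (yoneda.obj p.1.1)) a)
    rintro W r ⟨c, hc⟩
    have e1 : (toSheafify J (yoneda.obj X)).app (op W) (c ≫ p.1.2.1) = (toSheafify J (yoneda.obj X)).app (op W) (r ≫ k) := by
      have hn := congrArg (fun t : yoneda.obj p.1.1 ⟶ sheafify J (yoneda.obj X) => t.app (op W) c) (toSheafify_naturality J (yoneda.map p.1.2.1))
      refine Eq.trans hn ?_
      show ((presheafToSheaf J (Type u)).map (yoneda.map p.1.2.1)).hom.app (op W) ((toSheafify J (yoneda.obj p.1.1)).app (op W) c) = _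
      rw [hc]
      refine (((presheafToSheaf J (Type u)).map (yoneda.map p.1.2.1)).hom.naturality_apply r.op a).trans ?_
      rw [ha, ← (toSheafify J (yoneda.obj X)).naturality_apply, ← (toSheafify J (yoneda.obj X)).naturality_apply]
      simp
    apply J.superset_covering ?_ (Presheaf.equalizerSieve_mem J (toSheafify J (yoneda.obj X)) _ _ e1)
    intro T q hq
    have hq' : q ≫ c ≫ p.1.2.1 = q ≫ r ≫ k := hq
    show (Sieve.ofArrows _ _) ((q ≫ r) ≫ k)
    rw [Category.assoc, ← hq', ← Category.assoc]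
    obtain ⟨j, hj⟩ := e.surjective p
    subst hj
    exact Sieve.downward_closed _ (Sieve.ofArrows_mk _ _ j) _

end Groth.Agent.LTopos

end
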