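import Groth.Agent.Lib.LTopos

set_option autoImplicit false
set_option linter.style.haveILetI false
set_option backward.isDefEq.respectTransparency false
set_option backward.isDefEq.respectTransparency.types false

universe u

open CategoryTheory CategoryTheory.Limits Opposite ToposFin

noncomputable section

namespace Groth.Agent.LTopos

variable {C : Type u} [SmallCategory C] {J : GrothendieckTopology C}

theorem qchom_of_qc_qs {X Y : Sh J} (f : X ⟶ Y) (hX : IsQC X) (hY : IsQS Y) : IsQCHom f :=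
  fun _ t hT => hY _ _ f t hX hT

theorem qc_of_qchom {X Y : Sh J} (f : X ⟶ Y) (hf : IsQCHom f) (hY : IsQC Y) : IsQC X :=
  qchom_iff hf hY (IsPullback.id_horiz f)

theorem qshom_comp {X Y Z : Sh J} {f : X ⟶ Y} {g : Y ⟶ Z} (hf : IsQSHom f) (hg : IsQSHom g) : IsQSHom (f ≫ g) := by
  let m := pullback.map f f (f ≫ g) (f ≫ g) (𝟙 _) (𝟙 _) g (Category.id_comp _).symm (Category.id_comp _).symm
  have e : pullback.diagonal f ≫ m = pullback.diagonal (f ≫ g) := by apply pullback.hom_ext <;> simp [m]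
  show IsQCHom (pullback.diagonal (f ≫ g))
  rw [← e]
  exact qchom_comp hf (qchom_base hg (pullback_map_diagonal_isPullback f f g))

/-- The diagonal of a base change is a base change of the diagonal. -/
theorem isPullback_diagonal {P X Y Y' : Sh J} {f : X ⟶ Y} {g : Y' ⟶ Y} {p : P ⟶ X} {q : P ⟶ Y'}
    (h : IsPullback p q f g) :
    IsPullback p (pullback.diagonal q) (pullback.diagonal f) (pullback.map q q f f p p g h.w.symm h.w.symm) := by
  refine ⟨⟨by apply pullback.hom_ext <;> simp⟩, ⟨PullbackCone.IsLimit.mk _ (fun s => s.snd ≫ pullback.fst q q) ?_ ?_ ?_⟩⟩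
  all_goals intro s
  all_goals have h1 : s.fst = s.snd ≫ pullback.fst q q ≫ p :=
    (Category.comp_id _).symm.trans (by simpa using congrArg (fun t => t ≫ pullback.fst f f) s.condition)
  all_goals have h2 : s.fst = s.snd ≫ pullback.snd q q ≫ p :=
    (Category.comp_id _).symm.trans (by simpa using congrArg (fun t => t ≫ pullback.snd f f) s.condition)
  · rw [Category.assoc, ← h1]
  · apply pullback.hom_ext
    · simp
    · simp only [Category.assoc, pullback.diagonal_snd, Category.comp_id]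
      apply h.hom_ext
      · rw [Category.assoc, Category.assoc, ← h1, ← h2]
      · simp [pullback.condition]
  · intro k _ hk
    rw [← hk]; simp

theorem qshom_base {P X Y Y' : Sh J} {f : X ⟶ Y} (hf : IsQSHom f) {g : Y' ⟶ Y} {p : P ⟶ X} {q : P ⟶ Y'}
    (h : IsPullback p q f g) : IsQSHom q :=
  qchom_base hf (isPullback_diagonal h)

/-- Quasi-compactness of a morphism tested on a covering of the target. -/
theorem qchom_local (hE : HasQCGenerators J) {X Y : Sh J} (f : X ⟶ Y) {ι : Type u} {Yi : ι → Sh J} {g : ∀ i, Yi i ⟶ Y}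
    (hg : Cov g) (h : ∀ (i : ι) (W : Sh J) (w : W ⟶ Yi i), IsQC W → IsQC (pullback f (w ≫ g i))) : IsQCHom f := by
  intro T t hT
  choose κ G ρ hG hρ using fun i => hE (pullback (g i) t)
  obtain ⟨s, hs⟩ := (qc_iff T).1 hT _ _ _ (cov_comp (cov_pullback hg t) fun i => (cov_iff _).2 (hρ i))
  refine qc_of_cover (cov_pullback' hs (pullback.snd f t)) fun j => ?_
  let σ := ρ j.1.1 j.1.2 ≫ pullback.snd (g j.1.1) t
  have e : σ ≫ t = (ρ j.1.1 j.1.2 ≫ pullback.fst (g j.1.1) t) ≫ g j.1.1 := by simp [σ, pullback.condition]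
  refine qc_of_iso ((IsPullback.of_hasPullback (pullback.snd f t) σ).paste_horiz (IsPullback.of_hasPullback f t)).isoPullback.symm ?_
  exact qc_of_iso (pullback.congrHom rfl e.symm) (h _ _ _ (hG _ _))

theorem qchom_local' (hE : HasQCGenerators J) {X Y : Sh J} (f : X ⟶ Y) {ι : Type u} {Yi : ι → Sh J} {g : ∀ i, Yi i ⟶ Y}
    (hg : Cov g) (h : ∀ i, IsQCHom (pullback.snd f (g i))) : IsQCHom f :=
  qchom_local hE f hg fun i W w hW => qc_of_iso
    ((IsPullback.of_hasPullback (pullback.snd f (g i)) w).paste_horiz (IsPullback.of_hasPullback f (g i))).isoPullback (h i W w hW)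

theorem qshom_local (hE : HasQCGenerators J) {X Y : Sh J} (f : X ⟶ Y) {ι : Type u} {Yi : ι → Sh J} {g : ∀ i, Yi i ⟶ Y}
    (hg : Cov g) (h : ∀ i, IsQSHom (pullback.snd f (g i))) : IsQSHom f := by
  let m := fun i => pullback.map (pullback.snd f (g i)) (pullback.snd f (g i)) f f (pullback.fst _ _) (pullback.fst _ _) (g i)
    pullback.condition.symm pullback.condition.symm
  have hm : Cov m := by
    refine cov_of_factors (cov_pullback' hg (pullback.fst f f ≫ f)) fun i => ?_
    let w := pullback.fst (pullback.fst f f ≫ f) (g i)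
    let y := pullback.snd (pullback.fst f f ≫ f) (g i)
    have c1 : (w ≫ pullback.fst f f) ≫ f = y ≫ g i := by simp [w, y, ← pullback.condition]
    have c2 : (w ≫ pullback.snd f f) ≫ f = y ≫ g i := by simp [w, y, ← pullback.condition]
    refine ⟨i, pullback.lift (pullback.lift (w ≫ pullback.fst f f) y c1) (pullback.lift (w ≫ pullback.snd f f) y c2) (by simp), ?_⟩
    apply pullback.hom_ext <;> simp [m, w]
  exact qchom_local hE _ hm fun i W w hW => qc_of_iso
    ((IsPullback.of_hasPullback _ w).paste_horiz (isPullback_diagonal (IsPullback.of_hasPullback f (g i)))).isoPullback (h i W w hW)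

theorem qs_of_cover {Y : Sh J} {ι : Type u} {Yi : ι → Sh J} {g : ∀ i, Yi i ⟶ Y} (hg : Cov g)
    (hqs : ∀ i, IsQS (Yi i)) (hqc : ∀ i, IsQCHom (g i)) : IsQS Y := by
  intro A B a b hA hB
  obtain ⟨s, hs⟩ := (qc_iff A).1 hA _ _ _ (cov_pullback hg a)
  refine qc_of_cover (cov_pullback' hs (pullback.fst a b)) fun i => ?_
  let u := pullback.fst (g i) a
  let v := pullback.fst (g i) b
  have h1 := hqs i _ _ u v (hqc i _ a hA) (hqc i _ b hB)
  have p1 : IsPullback (pullback.fst u v) (pullback.snd u v ≫ pullback.snd (g i) b) (u ≫ g i) b :=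
    (IsPullback.of_hasPullback u v).paste_vert (IsPullback.of_hasPullback (g i) b).flip.flip
  have p2 : IsPullback (pullback.snd (pullback.fst a b) (pullback.snd (g i) a)) (pullback.fst (pullback.fst a b) (pullback.snd (g i) a) ≫ pullback.snd a b) (pullback.snd (g i) a ≫ a) b :=
    (IsPullback.of_hasPullback (pullback.fst a b) (pullback.snd (g i) a)).flip.paste_vert (IsPullback.of_hasPullback a b)
  have e : u ≫ g i = pullback.snd (g i) a ≫ a := pullback.condition
  rw [e] at p1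
  exact qc_of_iso (p1.isoPullback ≪≫ p2.isoPullback.symm) h1

theorem qshom_of_qc_family (hE : HasQCGenerators J) {X Y : Sh J} (f : X ⟶ Y) {ι : Type u} {Xi : ι → Sh J}
    {g : ∀ i, Xi i ⟶ X} (hg : Cov g)
    (h : ∀ (i j : ι), IsQCHom (pullback.map (g i) (g j) (g i ≫ f) (g j ≫ f) (𝟙 _) (𝟙 _) f (Category.id_comp _).symm (Category.id_comp _).symm)) :
    IsQSHom f := by
  let m := fun p : ι × ι => pullback.map (g p.1 ≫ f) (g p.2 ≫ f) f f (g p.1) (g p.2) (𝟙 _) (Category.comp_id _) (Category.comp_id _)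
  have hm : Cov m := by
    let α := fun i => pullback.fst (pullback.fst f f) (g i)
    have h1 : Cov α := cov_pullback' hg (pullback.fst f f)
    have h2 : ∀ i, Cov (fun j => pullback.fst (α i ≫ pullback.snd f f) (g j)) := fun i => cov_pullback' hg _
    refine cov_of_factors (cov_comp h1 h2) ?_
    rintro ⟨i, j⟩
    let w := pullback.fst (α i ≫ pullback.snd f f) (g j)
    let xi := w ≫ pullback.snd (pullback.fst f f) (g i)
    let xj := pullback.snd (α i ≫ pullback.snd f f) (g j)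
    have e1 : xi ≫ g i = w ≫ α i ≫ pullback.fst f f := by simp [xi, α, pullback.condition]
    have e2 : xj ≫ g j = w ≫ α i ≫ pullback.snd f f := by simp [xj, w, ← pullback.condition]
    refine ⟨(i, j), pullback.lift xi xj (by rw [reassoc_of% e1, reassoc_of% e2]; simp [pullback.condition]), ?_⟩
    apply pullback.hom_ext
    · simpa [m] using e1
    · simpa [m] using e2
  refine qchom_local hE _ hm fun p W w hW => ?_
  have hp := pullback_map_diagonal_isPullback (g p.1) (g p.2) f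
  exact qc_of_iso ((IsPullback.of_hasPullback _ w).paste_horiz hp).isoPullback (h p.1 p.2 W w hW)

theorem qshom_of_qs_family (hE : HasQCGenerators J) {X Y : Sh J} (f : X ⟶ Y) {ι : Type u} {Xi : ι → Sh J}
    {g : ∀ i, Xi i ⟶ X} (hg : Cov g) (hqc : ∀ i, IsQC (Xi i)) (hqs : ∀ i j, IsQS (pullback (g i ≫ f) (g j ≫ f)))
    (hX : IsQS X) : IsQSHom f :=
  qshom_of_qc_family hE f hg fun i j => qchom_of_qc_qs _ (hX _ _ (g i) (g j) (hqc i) (hqc j)) (hqs i j)

theorem qshom_descend (hE : HasQCGenerators J) {Y Z : Sh J} (g : Y ⟶ Z) {ι : Type u} {X : ι → Sh J} {f : ∀ i, X i ⟶ Y}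
    (hf : Cov f) (hqc : ∀ i, IsQCHom (f i)) (hqs : ∀ i, IsQSHom (f i ≫ g)) : IsQSHom g :=
  qshom_of_qc_family hE g hf fun i j => by
    refine qchom_of_comp _ (pullback.fst (f i ≫ g) (f j ≫ g)) (qshom_base (hqs j) (IsPullback.of_hasPullback (f i ≫ g) (f j ≫ g)).flip) ?_
    have e : pullback.map (f i) (f j) (f i ≫ g) (f j ≫ g) (𝟙 _) (𝟙 _) g (Category.id_comp _).symm (Category.id_comp _).symm ≫
        pullback.fst (f i ≫ g) (f j ≫ g) = pullback.fst (f i) (f j) := by simp
    rw [e]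
    exact qchom_base (hqc j) (IsPullback.of_hasPullback (f i) (f j)).flip

theorem qs_iff_coherent_cover (hE : HasQCGenerators J) {Y : Sh J} {ι : Type u} {Yi : ι → Sh J} {g : ∀ i, Yi i ⟶ Y}
    (hg : Cov g) (hY : ∀ i, IsCoherent (Yi i)) :
    (IsQS Y ↔ ∀ i, IsQCHom (g i)) ∧ (IsQS Y ↔ ∀ i j, IsQC (pullback (g i) (g j))) := by
  have a : IsQS Y → ∀ i, IsQCHom (g i) := fun h i => qchom_of_qc_qs _ (hY i).1 h
  have b : (∀ i, IsQCHom (g i)) → IsQS Y := qs_of_cover hg fun i => (hY i).2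
  refine ⟨⟨a, b⟩, fun h i j => h _ _ _ _ (hY i).1 (hY j).1, fun h => b fun i => qchom_local' hE (g i) hg fun j => ?_⟩
  exact qchom_of_qc_qs _ (h i j) (hY j).2

section mapProd

variable {X Y X' Y' S : Sh J} (f : X ⟶ Y) (f' : X' ⟶ Y') (a : Y ⟶ S) (a' : Y' ⟶ S)

theorem map_fac : ∃ (Q : Sh J) (p : pullback (f ≫ a) (f' ≫ a') ⟶ Q) (q : Q ⟶ pullback a a'),
    p ≫ q = pullback.map (f ≫ a) (f' ≫ a') a a' f f' (𝟙 S) (Category.comp_id _) (Category.comp_id _) ∧
    (∃ (x : Q ⟶ X') (y : pullback (f ≫ a) (f' ≫ a') ⟶ X) (z : Q ⟶ Y) (w : pullback a a' ⟶ Y'),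
      IsPullback y p f z ∧ IsPullback x q f' w) := by
  let p : pullback (f ≫ a) (f' ≫ a') ⟶ pullback a (f' ≫ a') := pullback.map _ _ _ _ f (𝟙 _) (𝟙 S) (by simp) (by simp)
  let q : pullback a (f' ≫ a') ⟶ pullback a a' := pullback.map _ _ _ _ (𝟙 _) f' (𝟙 S) (by simp) (by simp)
  refine ⟨_, p, q, by apply pullback.hom_ext <;> simp [p, q], pullback.snd _ _, pullback.fst _ _, pullback.fst _ _, pullback.snd _ _, ?_, ?_⟩
  · have e : p ≫ pullback.snd a (f' ≫ a') = pullback.snd (f ≫ a) (f' ≫ a') := by simp [p]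
    refine IsPullback.of_bot ?_ (by simp [p]) (IsPullback.of_hasPullback a (f' ≫ a'))
    rw [e]; exact IsPullback.of_hasPullback _ _
  · refine (IsPullback.of_right ?_ (by simp [q]) (IsPullback.of_hasPullback a a')).flip
    have e : q ≫ pullback.fst a a' = pullback.fst a (f' ≫ a') := by simp [q]
    rw [e]; exact IsPullback.of_hasPullback _ _

theorem map_props :
    (IsQCHom f → IsQCHom f' →
      IsQCHom (pullback.map (f ≫ a) (f' ≫ a') a a' f f' (𝟙 S) (Category.comp_id _) (Category.comp_id _))) ∧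
    (IsQSHom f → IsQSHom f' →
      IsQSHom (pullback.map (f ≫ a) (f' ≫ a') a a' f f' (𝟙 S) (Category.comp_id _) (Category.comp_id _))) ∧
    (IsCohHom f → IsCohHom f' →
      IsCohHom (pullback.map (f ≫ a) (f' ≫ a') a a' f f' (𝟙 S) (Category.comp_id _) (Category.comp_id _))) := by
  obtain ⟨Q, p, q, e, x, y, z, w, h1, h2⟩ := map_fac f f' a a'
  rw [← e]
  exact ⟨fun hf hf' => qchom_comp (qchom_base hf h1) (qchom_base hf' h2),
    fun hf hf' => qshom_comp (qshom_base hf h1) (qshom_base hf' h2),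
    fun hf hf' => ⟨qchom_comp (qchom_base hf.1 h1) (qchom_base hf'.1 h2), qshom_comp (qshom_base hf.2 h1) (qshom_base hf'.2 h2)⟩⟩

end mapProd

section algebraic

variable {S : Set (Sh J)} (hqc : ∀ K ∈ S, IsQC K) (hgen : IsGenerating S)
include hqc hgen

theorem qcgen_of_set : HasQCGenerators J := fun X => by
  obtain ⟨ι, F, π, hF, hπ⟩ := hgen X
  exact ⟨ι, F, π, fun i => hqc _ (hF i), (cov_iff π).1 (cov_of_cancel hπ)⟩

theorem qs_of_set {Y : Sh J} (h : ∀ (K L : Sh J) (a : K ⟶ Y) (b : L ⟶ Y), K ∈ S → L ∈ S → IsQC (pullback a b)) : IsQS Y := by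
  intro A B a b hA hB
  obtain ⟨ι, F, π, hF, hπ⟩ := hgen A
  obtain ⟨s, hs⟩ := (qc_iff A).1 hA _ _ π (cov_of_cancel hπ)
  obtain ⟨κ, G, σ, hG, hσ⟩ := hgen B
  obtain ⟨t, ht⟩ := (qc_iff B).1 hB _ _ σ (cov_of_cancel hσ)
  let m := fun p : ↥s × ↥t => pullback.map (π p.1 ≫ a) (σ p.2 ≫ b) a b (π p.1) (σ p.2) (𝟙 _) (Category.comp_id _) (Category.comp_id _)
  have hm : Cov m := by
    let α := fun i : s => pullback.fst (pullback.fst a b) (π i)
    refine cov_of_factors (cov_comp (cov_pullback' hs (pullback.fst a b)) fun i => cov_pullback' ht (α i ≫ pullback.snd a b)) ?_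
    rintro ⟨i, j⟩
    let w := pullback.fst (α i ≫ pullback.snd a b) (σ j)
    let xi := w ≫ pullback.snd (pullback.fst a b) (π i)
    let xj := pullback.snd (α i ≫ pullback.snd a b) (σ j)
    have e1 : xi ≫ π i = w ≫ α i ≫ pullback.fst a b := by simp [xi, α, pullback.condition]
    have e2 : xj ≫ σ j = w ≫ α i ≫ pullback.snd a b := by simp [xj, w, ← pullback.condition]
    refine ⟨(i, j), pullback.lift xi xj (by rw [reassoc_of% e1, reassoc_of% e2]; simp [pullback.condition]), ?_⟩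
    apply pullback.hom_ext
    · simpa [m] using e1
    · simpa [m] using e2
  exact qc_of_cover hm fun p => h _ _ _ _ (hF _) (hG _)

variable (hpb : ClosedUnderPullbacks S)
include hpb

theorem coherent_of_mem {M : Sh J} (hM : M ∈ S) : IsCoherent M :=
  ⟨hqc M hM, qs_of_set hqc hgen fun K L a b hK hL => by
    obtain ⟨P, p, q, hP, h⟩ := hpb a b hK hL hM
    exact qc_of_iso h.isoPullback (hqc P hP)⟩

theorem qs_mem_iso {P Q : Sh J} (e : P ≅ Q) (hP : P ∈ S) : IsQS Q :=
  qs_of_qshom e.inv (qshom_of_mono _) (coherent_of_mem hqc hgen hpb hP).2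

theorem qshom_iff_qs {X Y : Sh J} (f : X ⟶ Y) :
    IsQSHom f ↔ ∀ (Y' : Sh J) (g : Y' ⟶ Y), IsQS Y' → IsQS (pullback f g) := by
  refine ⟨fun h Y' g hY' => qs_of_qshom _ (qshom_base h (IsPullback.of_hasPullback f g)) hY', fun h => ?_⟩
  obtain ⟨ι, F, π, hF, hπ⟩ := hgen Y
  have hE := qcgen_of_set hqc hgen
  refine qshom_local hE f (cov_of_cancel hπ) fun i => ?_
  obtain ⟨κ, G, σ, hG, hσ⟩ := hgen (pullback f (π i))
  refine qshom_of_qs_family hE _ (cov_of_cancel hσ) (fun k => hqc _ (hG k)) (fun k l => ?_) (h _ _ (coherent_of_mem hqc hgen hpb (hF i)).2)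
  obtain ⟨P, p, q, hP, hpq⟩ := hpb (σ k ≫ pullback.snd f (π i)) (σ l ≫ pullback.snd f (π i)) (hG k) (hG l) (hF i)
  exact qs_mem_iso hqc hgen hpb hpq.isoPullback hP

variable (heq : ClosedUnderEqualizers S)
include heq

theorem qshom_of_qs_qs {X Y : Sh J} (f : X ⟶ Y) (hX : IsQS X) : IsQSHom f := by
  have hE := qcgen_of_set hqc hgen
  obtain ⟨ι, F, π, hF, hπ⟩ := hgen X
  refine qshom_of_qs_family hE f (cov_of_cancel hπ) (fun k => hqc _ (hF k)) (fun i j => ?_) hX
  refine qs_of_set hqc hgen fun K L k l hK hL => ?_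
  obtain ⟨P, p, q, hP, hpq⟩ := hpb (k ≫ pullback.fst (π i ≫ f) (π j ≫ f)) (l ≫ pullback.fst (π i ≫ f) (π j ≫ f)) hK hL (hF i)
  obtain ⟨E, e, w, hEm, ⟨he⟩⟩ := heq (p ≫ k ≫ pullback.snd (π i ≫ f) (π j ≫ f)) (q ≫ l ≫ pullback.snd (π i ≫ f) (π j ≫ f)) hP (hF j)
  have hh : IsPullback (e ≫ p) (e ≫ q) k l := by
    refine ⟨⟨pullback.hom_ext (by simpa using congrArg (e ≫ ·) hpq.w) (by simpa using w)⟩,
      ⟨PullbackCone.IsLimit.mk _ (fun s => Fork.IsLimit.lift he (hpq.lift s.fst s.snd (by simpa using congrArg (fun t => t ≫ pullback.fst (π i ≫ f) (π j ≫ f)) s.condition)) ?_) ?_ ?_ ?_⟩⟩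
    · simpa using congrArg (fun t => t ≫ pullback.snd (π i ≫ f) (π j ≫ f)) s.condition
    · intro s
      rw [← Category.assoc]
      exact (congrArg (· ≫ p) (Fork.IsLimit.lift_ι' he _ _)).trans (hpq.lift_fst _ _ _)
    · intro s
      rw [← Category.assoc]
      exact (congrArg (· ≫ q) (Fork.IsLimit.lift_ι' he _ _)).trans (hpq.lift_snd _ _ _)
    · intro s m h1 h2
      refine Fork.IsLimit.hom_ext he (hpq.hom_ext ?_ ?_)
      · exact ((Category.assoc _ _ _).trans h1).trans ((congrArg (· ≫ p) (Fork.IsLimit.lift_ι' he _ _)).trans (hpq.lift_fst _ _ _)).symm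
      · exact ((Category.assoc _ _ _).trans h2).trans ((congrArg (· ≫ q) (Fork.IsLimit.lift_ι' he _ _)).trans (hpq.lift_snd _ _ _)).symm
  exact qc_of_iso hh.isoPullback (hqc _ hEm)

end algebraic

end Groth.Agent.LTopos

end
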