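import Groth.Agent.Lib.LTopos2

set_option autoImplicit false
set_option linter.style.haveILetI false
set_option backward.isDefEq.respectTransparency false
set_option backward.isDefEq.respectTransparency.types false

universe u

open CategoryTheory CategoryTheory.Limits Opposite ToposFin

noncomputable section

namespace Groth.Agent.LTopos

variable {C : Type u} [SmallCategory C] {J : GrothendieckTopology C}

theorem alg_qs_coh (hA : IsAlgebraic J) {X Y : Sh J} (f : X ⟶ Y) :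
    (IsQS Y → (IsQS X ↔ IsQSHom f)) ∧ (IsCoherent Y → (IsCoherent X ↔ IsCohHom f)) := by
  obtain ⟨S, hqc, hgen, hpb, heq⟩ := hA
  refine ⟨fun hY => ⟨qshom_of_qs_qs hqc hgen hpb heq f, fun hf => qs_of_qshom f hf hY⟩, fun hY => ⟨fun hX => ?_, fun hf => ?_⟩⟩
  · exact ⟨qchom_of_qc_qs f hX.1 hY.2, qshom_of_qs_qs hqc hgen hpb heq f hX.2⟩
  · exact ⟨qc_of_qchom f hf.1 hY.1, qs_of_qshom f hf.2 hY.2⟩

theorem alg_local (hA : IsAlgebraic J) {X Y : Sh J} (f : X ⟶ Y) {ι : Type u} (Yi : ι → Sh J) (g : ∀ i, Yi i ⟶ Y)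
    (hg : ∀ (Z : Sh J) (a b : Y ⟶ Z), (∀ i, g i ≫ a = g i ≫ b) → a = b) :
    ((∀ i, IsQS (Yi i)) → (IsQSHom f ↔ ∀ i, IsQS (pullback f (g i)))) ∧
    ((∀ i, IsCoherent (Yi i)) → (IsCohHom f ↔ ∀ i, IsCoherent (pullback f (g i)))) := by
  have hE : HasQCGenerators J := by
    obtain ⟨S, hqc, hgen, -, -⟩ := hA
    exact qcgen_of_set hqc hgen
  refine ⟨fun hY => ⟨fun hf i => qs_of_qshom _ (qshom_base hf (IsPullback.of_hasPullback f (g i))) (hY i),
    fun h => qshom_local hE f (cov_of_cancel hg) fun i => ((alg_qs_coh hA _).1 (hY i)).1 (h i)⟩, fun hY => ⟨fun hf i => ?_, fun h => ?_⟩⟩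
  · exact ((alg_qs_coh hA _).2 (hY i)).2
      ⟨qchom_base hf.1 (IsPullback.of_hasPullback f (g i)), qshom_base hf.2 (IsPullback.of_hasPullback f (g i))⟩
  · exact ⟨qchom_local' hE f (cov_of_cancel hg) fun i => (((alg_qs_coh hA _).2 (hY i)).1 (h i)).1,
      qshom_local hE f (cov_of_cancel hg) fun i => (((alg_qs_coh hA _).2 (hY i)).1 (h i)).2⟩

section morphism

variable {D : Type u} [SmallCategory D] {K : GrothendieckTopology D}
  (F : Sh K ⥤ Sh J) (R : Sh J ⥤ Sh K) (adj : F ⊣ R) [PreservesFiniteLimits F]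

theorem cov_map {X : Sh K} {ι : Type u} {G : ι → Sh K} {π : ∀ i, G i ⟶ X} (adj : F ⊣ R) (h : Cov π) : Cov (fun i => F.map (π i)) :=
  cov_of_cancel fun Z a b hab => (adj.homEquiv _ _).injective (cancel_of_cov h _ _ fun i => by
    rw [← Adjunction.homEquiv_naturality_left, ← Adjunction.homEquiv_naturality_left, hab i])

include adj in
theorem preserves_qc_qs (hE : HasQCGenerators J) (S : Set (Sh K)) (hS : ∀ X ∈ S, IsCoherent X) (hgen : IsGenerating S) :
    ((∀ X : Sh K, IsQC X → IsQC (F.obj X)) ∧ (∀ X : Sh K, IsQS X → IsQS (F.obj X))) ↔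
      ∀ X ∈ S, IsCoherent (F.obj X) := by
  refine ⟨fun h X hX => ⟨h.1 X (hS X hX).1, h.2 X (hS X hX).2⟩, fun h => ?_⟩
  have hqc : ∀ X : Sh K, IsQC X → IsQC (F.obj X) := qc_image F R adj S hgen fun X hX => (h X hX).1
  refine ⟨hqc, fun X hX => ?_⟩
  obtain ⟨ι, G, π, hG, hπ⟩ := hgen X
  refine (qs_iff_coherent_cover hE (cov_map F R adj (cov_of_cancel hπ)) fun i => h _ (hG i)).2.2 fun i j => ?_
  exact qc_of_iso ((IsPullback.of_hasPullback (π i) (π j)).map F).isoPullback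
    (hqc _ (hX _ _ _ _ (hS _ (hG i)).1 (hS _ (hG j)).1))

include adj in
theorem map_qchom (S : Set (Sh K)) (hqc : ∀ X ∈ S, IsQC X) (hgen : IsGenerating S) (hpb : ClosedUnderPullbacks S)
    (hE : HasQCGenerators J) (hFqc : ∀ X : Sh K, IsQC X → IsQC (F.obj X)) (hFqs : ∀ X : Sh K, IsQS X → IsQS (F.obj X))
    {X Y : Sh K} (v : X ⟶ Y) (hv : IsQCHom v) : IsQCHom (F.map v) := by
  obtain ⟨ι, G, π, hG, hπ⟩ := hgen Y
  refine qchom_local' hE _ (cov_map F R adj (cov_of_cancel hπ)) fun i => qchom_of_qc_qs _ ?_ (hFqs _ (coherent_of_mem hqc hgen hpb (hG i)).2)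
  exact qc_of_iso ((IsPullback.of_hasPullback v (π i)).map F).isoPullback (hFqc _ (hv _ _ (hqc _ (hG i))))

end morphism

end Groth.Agent.LTopos

end
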