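import Groth.Agent.Lib.LTopos3

set_option autoImplicit false
set_option linter.style.haveILetI false
set_option backward.isDefEq.respectTransparency false
set_option backward.isDefEq.respectTransparency.types false

universe u

open CategoryTheory CategoryTheory.Limits Opposite ToposFin

noncomputable section

namespace Groth.Agent.LTopos

variable {C : Type u} [SmallCategory C] {J : GrothendieckTopology C}

theorem qc_of_isInitial {X : Sh J} (h : IsInitial X) : IsQC X :=
  qc_of_cover (κ := PEmpty.{u + 1}) (G := fun k => k.elim) (σ := fun k => k.elim)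
    (cov_of_cancel fun _ _ _ _ => h.hom_ext _ _) fun k => k.elim

variable {ι : Type u} {X : ι → Sh J} {c : Cofan X} (hc : IsColimit c)
include hc

theorem cov_inj : Cov c.inj :=
  cov_of_cancel fun _ _ _ h => Cofan.IsColimit.hom_ext hc _ _ h

theorem mono_inj (i : ι) : Mono (c.inj i) := MonoCoprod.mono_inj _ c hc i

/-- Coproducts are disjoint. -/
theorem disjoint_inj {i j : ι} (hij : i ≠ j) {P : Sh J} {a : P ⟶ X i} {b : P ⟶ X j}
    (w : a ≫ c.inj i = b ≫ c.inj j) : Nonempty (IsInitial P) := by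
  classical
  let T := ⊤_ (Sh J)
  let c2 := BinaryCofan.mk (coprod.inl : T ⟶ T ⨿ T) coprod.inr
  have hp := FinitaryExtensive.isPullback_initial_to_binaryCofan (coprodIsCoprod T T)
  let q := Cofan.IsColimit.desc hc fun k => terminal.from (X k) ≫ if k = i then (coprod.inl : T ⟶ T ⨿ T) else coprod.inr
  have e : terminal.from P ≫ (coprod.inl : T ⟶ T ⨿ T) = terminal.from P ≫ coprod.inr := by
    have h1 := congrArg (· ≫ q) w
    simp only [Category.assoc, q, Cofan.IsColimit.fac, if_pos, if_neg (Ne.symm hij)] at h1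
    rw [← Category.assoc, ← Category.assoc, terminal.comp_from, terminal.comp_from] at h1
    exact h1
  let f : P ⟶ ⊥_ (Sh J) := hp.lift _ _ e
  haveI := initialIsInitial.isIso_to f
  exact ⟨initialIsInitial.ofIso (asIso f).symm⟩

theorem qchom_inj (i : ι) : IsQCHom (c.inj i) := by
  classical
  intro T t hT
  haveI := mono_inj hc i
  rw [qc_iff]
  intro κ G π hπ
  let Fm : κ ⊕ {j : ι // j ≠ i} → Sh J := fun m => Sum.elim G (fun j => pullback (c.inj j.1) t) m
  let fm : ∀ m, Fm m ⟶ T := fun m => match m with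
    | Sum.inl k => π k ≫ pullback.snd (c.inj i) t
    | Sum.inr j => pullback.snd (c.inj j.1) t
  have hcov : Cov fm := by
    refine cov_of_cancel fun Z a b hab => cancel_of_cov (cov_pullback (cov_inj hc) t) a b fun j => ?_
    by_cases hj : j = i
    · subst hj
      exact cancel_of_cov hπ _ _ fun k => by simpa [fm] using hab (Sum.inl k)
    · exact hab (Sum.inr ⟨j, hj⟩)
  obtain ⟨s, hs⟩ := (qc_iff T).1 hT _ _ fm hcov
  refine ⟨s.toLeft, cov_of_cancel fun Z a b hab => cancel_of_cov (cov_pullback hs (pullback.snd (c.inj i) t)) a b ?_⟩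
  rintro ⟨m, hm⟩
  rcases m with k | j
  · let p1 := pullback.fst (fm (Sum.inl k)) (pullback.snd (c.inj i) t)
    let p2 := pullback.snd (fm (Sum.inl k)) (pullback.snd (c.inj i) t)
    have e : p2 = p1 ≫ π k := by
      rw [← cancel_mono (pullback.snd (c.inj i) t), Category.assoc]
      exact pullback.condition.symm
    show p2 ≫ a = p2 ≫ b
    rw [e, Category.assoc, Category.assoc]
    exact congrArg (p1 ≫ ·) (hab ⟨k, Finset.mem_toLeft.2 hm⟩)
  · let p1 := pullback.fst (fm (Sum.inr j)) (pullback.snd (c.inj i) t)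
    let p2 := pullback.snd (fm (Sum.inr j)) (pullback.snd (c.inj i) t)
    have e : p1 ≫ pullback.snd (c.inj j.1) t = p2 ≫ pullback.snd (c.inj i) t := pullback.condition
    have w : (p1 ≫ pullback.fst (c.inj j.1) t) ≫ c.inj j.1 = (p2 ≫ pullback.fst (c.inj i) t) ≫ c.inj i := by
      rw [Category.assoc, Category.assoc, pullback.condition, pullback.condition, reassoc_of% e]
    obtain ⟨hI⟩ := disjoint_inj hc j.2 w
    exact hI.hom_ext _ _

omit hc

theorem qshom_of_qc_family' {Y Z : Sh J} (f : Y ⟶ Z) {κ : Type u} {G : κ → Sh J}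
    {g : ∀ i, G i ⟶ Y} (hg : Cov g) (hqc : ∀ i, IsQCHom (g i))
    (h : ∀ (i j : κ), IsQCHom (pullback.map (g i) (g j) (g i ≫ f) (g j ≫ f) (𝟙 _) (𝟙 _) f (Category.id_comp _).symm (Category.id_comp _).symm)) :
    IsQSHom f := by
  let m := fun p : κ × κ => pullback.map (g p.1 ≫ f) (g p.2 ≫ f) f f (g p.1) (g p.2) (𝟙 _) (Category.comp_id _) (Category.comp_id _)
  have hm : Cov m := by
    let α := fun i => pullback.fst (pullback.fst f f) (g i)
    refine cov_of_factors (cov_comp (cov_pullback' hg (pullback.fst f f)) fun i => cov_pullback' hg (α i ≫ pullback.snd f f)) ?_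
    rintro ⟨i, j⟩
    let w := pullback.fst (α i ≫ pullback.snd f f) (g j)
    let xi := w ≫ pullback.snd (pullback.fst f f) (g i)
    let xj := pullback.snd (α i ≫ pullback.snd f f) (g j)
    have e1 : xi ≫ g i = w ≫ α i ≫ pullback.fst f f := by simp [xi, α, pullback.condition]
    have e2 : xj ≫ g j = w ≫ α i ≫ pullback.snd f f := by simp [xj, w, ← pullback.condition]
    refine ⟨(i, j), pullback.lift xi xj (by rw [reassoc_of% e1, reassoc_of% e2]; simp [pullback.condition]), ?_⟩
    apply pullback.hom_ext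
    · simpa [m] using e1
    · simpa [m] using e2
  intro T t hT
  obtain ⟨s, hs⟩ := (qc_iff T).1 hT _ _ _ (cov_pullback hm t)
  refine qc_of_cover (cov_pullback' hs (pullback.snd (pullback.diagonal f) t)) fun p => ?_
  have hpqc : IsQC (pullback (m p.1) t) := (map_props (g p.1.1) (g p.1.2) f f).1 (hqc _) (hqc _) T t hT
  let σ := pullback.snd (m p.1) t
  have e : σ ≫ t = pullback.fst (m p.1) t ≫ m p.1 := pullback.condition.symm
  refine qc_of_iso ((IsPullback.of_hasPullback (pullback.snd (pullback.diagonal f) t) σ).paste_horiz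
    (IsPullback.of_hasPullback (pullback.diagonal f) t)).isoPullback.symm ?_
  refine qc_of_iso (pullback.congrHom rfl e.symm) (qc_of_iso ?_ (h p.1.1 p.1.2 _ (pullback.fst (m p.1) t) hpqc))
  exact ((IsPullback.of_hasPullback _ (pullback.fst (m p.1) t)).paste_horiz
    (pullback_map_diagonal_isPullback (g p.1.1) (g p.1.2) f)).isoPullback

include hc

theorem qshom_cofan_iff {Y : Sh J} (f : c.pt ⟶ Y) : IsQSHom f ↔ ∀ i, IsQSHom (c.inj i ≫ f) := by
  refine ⟨fun h i => by haveI := mono_inj hc i; exact qshom_comp (qshom_of_mono _) h, fun h => ?_⟩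
  refine qshom_of_qc_family' f (cov_inj hc) (qchom_inj hc) fun i j => ?_
  by_cases hij : i = j
  · subst hij
    haveI := mono_inj hc i
    have e : pullback.map (c.inj i) (c.inj i) (c.inj i ≫ f) (c.inj i ≫ f) (𝟙 _) (𝟙 _) f (Category.id_comp _).symm (Category.id_comp _).symm =
        pullback.fst (c.inj i) (c.inj i) ≫ pullback.diagonal (c.inj i ≫ f) := by
      apply pullback.hom_ext
      · simp
      · simpa using (cancel_mono (c.inj i)).1 pullback.condition.symm
    rw [e]
    exact qchom_comp (qchom_of_isIso (pullback.fst (c.inj i) (c.inj i))) (h i)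
  · intro T t _
    obtain ⟨hI⟩ := disjoint_inj hc hij (pullback.condition (f := c.inj i) (g := c.inj j))
    haveI := hI.isIso_to (pullback.fst (pullback.map (c.inj i) (c.inj j) (c.inj i ≫ f) (c.inj j ≫ f) (𝟙 _) (𝟙 _) f (Category.id_comp _).symm (Category.id_comp _).symm) t)
    exact qc_of_isInitial (hI.ofIso (asIso (pullback.fst (pullback.map (c.inj i) (c.inj j) (c.inj i ≫ f) (c.inj j ≫ f) (𝟙 _) (𝟙 _) f (Category.id_comp _).symm (Category.id_comp _).symm) t)).symm)

theorem qs_cofan_iff : IsQS c.pt ↔ ∀ i, IsQS (X i) :=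
  ⟨fun h i => by haveI := mono_inj hc i; exact qs_of_qshom _ (qshom_of_mono (c.inj i)) h,
    fun h => qs_of_cover (cov_inj hc) h (qchom_inj hc)⟩

theorem qc_cofan_iff : IsQC c.pt ↔ (∀ i, IsQC (X i)) ∧ {i | IsEmpty (X i ≅ ⊥_ (Sh J))}.Finite := by
  classical
  constructor
  · intro h
    refine ⟨fun i => qc_of_qchom _ (qchom_inj hc i) h, ?_⟩
    obtain ⟨s, hs⟩ := (qc_iff _).1 h _ _ _ (cov_inj hc)
    refine s.finite_toSet.subset fun i hi => ?_
    by_contra his
    have hI : ∀ j : s, Nonempty (IsInitial (pullback (c.inj j.1) (c.inj i))) := fun j =>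
      disjoint_inj hc (fun e : j.1 = i => his (e ▸ j.2)) pullback.condition
    haveI : Epi (initial.to (X i)) := ⟨fun {Z} a b _ => cancel_of_cov (cov_pullback hs (c.inj i)) a b fun j => by
      obtain ⟨hj⟩ := hI j
      exact hj.hom_ext _ _⟩
    haveI : IsIso (initial.to (X i)) := isIso_of_mono_of_epi _
    exact hi.elim' (asIso (initial.to (X i))).symm
  · rintro ⟨h, hf⟩
    haveI : Finite {i // IsEmpty (X i ≅ ⊥_ (Sh J))} := hf.to_subtype
    refine qc_of_cover (κ := {i // IsEmpty (X i ≅ ⊥_ (Sh J))}) (σ := fun i => c.inj i.1) ?_ fun i => h i.1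
    refine cov_of_cancel fun Z a b hab => Cofan.IsColimit.hom_ext hc _ _ fun i => ?_
    by_cases hi : IsEmpty (X i ≅ ⊥_ (Sh J))
    · exact hab ⟨i, hi⟩
    · obtain ⟨e⟩ := not_isEmpty_iff.1 hi
      exact (initialIsInitial.ofIso e.symm).hom_ext _ _

end Groth.Agent.LTopos

end
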