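import Groth.Agent.Lib.LTopos4

set_option autoImplicit false
set_option linter.style.haveILetI false
set_option backward.isDefEq.respectTransparency false
set_option backward.isDefEq.respectTransparency.types false

universe u

open CategoryTheory CategoryTheory.Limits Opposite ToposFin

noncomputable section

namespace Groth.Agent.LTopos

variable {C : Type u} [SmallCategory C] {J : GrothendieckTopology C}

theorem cov_pullback_map {A B X : Sh J} (a : A ⟶ X) (b : B ⟶ X) {ι κ : Type u} {F : ι → Sh J} {G : κ → Sh J}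
    {π : ∀ i, F i ⟶ A} {σ : ∀ k, G k ⟶ B} (hs : Cov π) (ht : Cov σ) :
    Cov (fun p : ι × κ => pullback.map (π p.1 ≫ a) (σ p.2 ≫ b) a b (π p.1) (σ p.2) (𝟙 _) (Category.comp_id _) (Category.comp_id _)) := by
  let α := fun i => pullback.fst (pullback.fst a b) (π i)
  refine cov_of_factors (cov_comp (cov_pullback' hs (pullback.fst a b)) fun i => cov_pullback' ht (α i ≫ pullback.snd a b)) ?_
  rintro ⟨i, j⟩
  let w := pullback.fst (α i ≫ pullback.snd a b) (σ j)
  let xi := w ≫ pullback.snd (pullback.fst a b) (π i)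
  let xj := pullback.snd (α i ≫ pullback.snd a b) (σ j)
  have e1 : xi ≫ π i = w ≫ α i ≫ pullback.fst a b := by simp [xi, α, pullback.condition]
  have e2 : xj ≫ σ j = w ≫ α i ≫ pullback.snd a b := by simp [xj, w, ← pullback.condition]
  refine ⟨(i, j), pullback.lift xi xj (by rw [reassoc_of% e1, reassoc_of% e2]; simp [pullback.condition]), ?_⟩
  apply pullback.hom_ext
  · simpa using e1
  · simpa using e2

variable (J) in
/-- The functor sending an object of the site to the associated sheaf of its representable presheaf. -/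
abbrev epsF : C ⥤ Sh J := yoneda ⋙ presheafToSheaf J (Type u)

theorem eps_ext {A : C} {Z : Sh J} {a b : eps J A ⟶ Z}
    (h : a.hom.app (op A) ((toSheafify J (yoneda.obj A)).app (op A) (𝟙 A)) =
      b.hom.app (op A) ((toSheafify J (yoneda.obj A)).app (op A) (𝟙 A))) : a = b := by
  apply ((sheafificationAdjunction J (Type u)).homEquiv _ _).injective
  apply yonedaEquiv.injective
  exact h

theorem eps_gen : IsGenerating (Set.range (eps J)) := by
  intro X
  refine ⟨Σ U : C, X.obj.obj (op U), fun p => eps J p.1,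
    fun p => ((sheafificationAdjunction J (Type u)).homEquiv _ _).symm (yonedaEquiv.symm p.2),
    fun p => ⟨p.1, rfl⟩, fun Z a b h => ?_⟩
  apply ObjectProperty.hom_ext
  ext U x
  have := congrArg (fun t => yonedaEquiv (((sheafificationAdjunction J (Type u)).homEquiv (yoneda.obj U.unop) Z) t)) (h ⟨U.unop, x⟩)
  simp only [Adjunction.homEquiv_naturality_right, Equiv.apply_symm_apply, yonedaEquiv_comp] at this
  exact this

theorem eps_pb [HasPullbacks C] {A B X : C} (f : A ⟶ X) (g : B ⟶ X) :
    IsPullback ((epsF J).map (pullback.fst f g)) ((epsF J).map (pullback.snd f g)) ((epsF J).map f) ((epsF J).map g) :=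
  (IsPullback.of_hasPullback f g).map (epsF J)

theorem eps_map_app {A B : C} (g : A ⟶ B) (V : C) (r : V ⟶ A) :
    ((epsF J).map g).hom.app (op V) ((toSheafify J (yoneda.obj A)).app (op V) r) =
      (toSheafify J (yoneda.obj B)).app (op V) (r ≫ g) :=
  (congrArg (fun t : yoneda.obj A ⟶ sheafify J (yoneda.obj B) => t.app (op V) r) (toSheafify_naturality J (yoneda.map g))).symm

theorem eps_map_app' {A B X : C} (g : A ⟶ B) (s : eps J B ⟶ eps J X) :
    ((epsF J).map g ≫ s).hom.app (op A) ((toSheafify J (yoneda.obj A)).app (op A) (𝟙 A)) =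
      (eps J X).obj.map g.op (s.hom.app (op B) ((toSheafify J (yoneda.obj B)).app (op B) (𝟙 B))) := by
  refine (congrArg (s.hom.app (op A)) (eps_map_app g A (𝟙 A))).trans ?_
  refine Eq.trans (congrArg (s.hom.app (op A)) ?_) (s.hom.naturality_apply g.op _)
  rw [← (toSheafify J (yoneda.obj B)).naturality_apply]
  simp

theorem cov_eps_arrows {A : C} {κ : Type u} {V : κ → C} {g : ∀ k, V k ⟶ A} (h : Sieve.ofArrows V g ∈ J A) :
    Cov (fun k => (epsF J).map (g k)) :=
  cov_eps _ _ h fun W k hk => by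
    obtain ⟨Z, r, _, ⟨m⟩, rfl⟩ := hk
    exact ⟨m, (toSheafify J (yoneda.obj (V m))).app (op W) r, eps_map_app (g m) W r⟩

/-- Morphisms between associated sheaves of representables come from the site on a finite covering. -/
theorem eps_local (hC : ∀ X : C, IsQCSite J X) {A X : C} (s : eps J A ⟶ eps J X) :
    ∃ (κ : Type u) (_ : Finite κ) (V : κ → C) (g : ∀ k, V k ⟶ A) (f : ∀ k, V k ⟶ X),
      Cov (fun k => (epsF J).map (g k)) ∧ ∀ k, (epsF J).map (g k) ≫ s = (epsF J).map (f k) := by
  let x := s.hom.app (op A) ((toSheafify J (yoneda.obj A)).app (op A) (𝟙 A))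
  obtain ⟨n, V, g, hg, hJ⟩ := hC A _ (Presheaf.imageSieve_mem J (toSheafify J (yoneda.obj X)) x)
  choose f hf using hg
  refine ⟨ULift.{u} (Fin n), inferInstance, fun k => V k.down, fun k => g k.down, fun k => f k.down, cov_eps_arrows ?_, fun k => eps_ext ?_⟩
  · refine J.superset_covering ?_ hJ
    rintro W r ⟨Z, a, b, ⟨m⟩, rfl⟩
    exact ⟨_, a, g m, Presieve.ofArrows.mk (Y := fun k : ULift.{u} (Fin n) => V k.down) (ULift.up m), rfl⟩
  · refine (eps_map_app' (g k.down) s).trans ((hf k.down).symm.trans ?_)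
    refine Eq.trans ?_ (eps_map_app (f k.down) (V k.down) (𝟙 _)).symm
    rw [Category.id_comp]

section qcsite

variable [HasPullbacks C] (hC : ∀ X : C, IsQCSite J X)
include hC

theorem eps_qc (X : C) : IsQC (eps J X) := (qcsite_iff X).1 (hC X)

theorem eps_hE : HasQCGenerators J :=
  qcgen_of_set (fun K hK => by obtain ⟨A, rfl⟩ := hK; exact eps_qc hC A) eps_gen

theorem eps_coherent (X : C) : IsCoherent (eps J X) := by
  refine ⟨eps_qc hC X, qs_of_set (S := Set.range (eps J)) (fun K hK => by obtain ⟨A, rfl⟩ := hK; exact eps_qc hC A) eps_gen ?_⟩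
  rintro K L a b ⟨A, rfl⟩ ⟨B, rfl⟩
  obtain ⟨κ, _, V, g, f, hg, hf⟩ := eps_local hC a
  obtain ⟨κ', _, V', g', f', hg', hf'⟩ := eps_local hC b
  refine qc_of_cover (cov_pullback_map a b hg hg') fun p => ?_
  exact qc_of_iso (pullback.congrHom (hf p.1).symm (hf' p.2).symm) (qc_of_iso (eps_pb (f p.1) (f' p.2)).isoPullback (eps_qc hC _))

theorem qshom_eps_map {A X : C} (f : A ⟶ X) : IsQSHom ((epsF J).map f) :=
  qchom_of_qc_qs _ (eps_qc hC A) (qs_of_qshom (eps_pb f f).isoPullback.inv (qshom_of_mono _) (eps_coherent hC _).2)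

theorem qshom_eps {A X : C} (s : eps J A ⟶ eps J X) : IsQSHom s := by
  obtain ⟨κ, _, V, g, f, hg, hf⟩ := eps_local hC s
  exact qshom_descend (eps_hE hC) s hg (fun k => qchom_of_qc_qs _ (eps_qc hC _) (eps_coherent hC A).2) fun k => by
    rw [hf k]; exact qshom_eps_map hC (f k)

theorem qshom_to_eps {X : C} {G : Sh J} (g : G ⟶ eps J X) (hG : IsQS G) : IsQSHom g := by
  obtain ⟨ι, F, π, hF, hπ⟩ := eps_gen (J := J) G
  refine qshom_of_qs_family (eps_hE hC) g (cov_of_cancel hπ) (fun i => ?_) (fun i j => ?_) hG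
  · obtain ⟨A, hA⟩ := hF i; rw [← hA]; exact eps_qc hC A
  · have key : ∀ (F' F'' : Sh J), F' ∈ Set.range (eps J) → F'' ∈ Set.range (eps J) → ∀ (a : F' ⟶ eps J X) (b : F'' ⟶ eps J X), IsQS (pullback a b) := by
      rintro _ _ ⟨A, rfl⟩ ⟨B, rfl⟩ a b
      exact qs_of_qshom _ (qshom_base (qshom_eps hC b) (IsPullback.of_hasPullback a b).flip) (eps_coherent hC A).2
    exact key _ _ (hF i) (hF j) _ _

theorem qs_pullback_eps {X : C} {G H : Sh J} (g : G ⟶ eps J X) (h : H ⟶ eps J X) (hG : IsQS G) (hH : IsQS H) :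
    IsQS (pullback g h) :=
  qs_of_qshom _ (qshom_base (qshom_to_eps hC g hG) (IsPullback.of_hasPullback g h)) hH

theorem coherent_pullback_eps {X : C} {G H F : Sh J} (a : G ⟶ F) (b : H ⟶ F) (hG : IsCoherent G) (hH : IsCoherent H)
    (hF : IsCoherent F) (w : F ⟶ eps J X) : IsCoherent (pullback a b) := by
  refine ⟨hF.2 _ _ a b hG.1 hH.1, ?_⟩
  let m := pullback.map a b (a ≫ w) (b ≫ w) (𝟙 _) (𝟙 _) w (Category.id_comp _).symm (Category.id_comp _).symm
  haveI : Mono m := ⟨fun {Z} u v h => pullback.hom_ext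
    (by simpa [m] using congrArg (fun t => t ≫ pullback.fst (a ≫ w) (b ≫ w)) h)
    (by simpa [m] using congrArg (fun t => t ≫ pullback.snd (a ≫ w) (b ≫ w)) h)⟩
  exact qs_of_qshom m (qshom_of_mono m) (qs_pullback_eps hC (a ≫ w) (b ≫ w) hG.2 hH.2)

end qcsite

theorem sheafPullback_eps_iso {D : Type u} [SmallCategory D] (K : GrothendieckTopology D)
    (G : C ⥤ D) [Functor.IsContinuous G J K] (X : C) :
    Nonempty ((G.sheafPullback (Type u) J K).obj (eps J X) ≅ eps K (G.obj X)) := by
  let e := fun Z : Sh K => ((G.sheafAdjunctionContinuous (Type u) J K).homEquiv (eps J X) Z).trans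
    (((sheafificationAdjunction J (Type u)).homEquiv (yoneda.obj X) _).trans (yonedaEquiv.trans
      ((yonedaEquiv (X := G.obj X) (F := Z.obj)).symm.trans ((sheafificationAdjunction K (Type u)).homEquiv (yoneda.obj (G.obj X)) Z).symm)))
  refine ⟨((Coyoneda.fullyFaithful.preimageIso (X := op ((G.sheafPullback (Type u) J K).obj (eps J X))) (Y := op (eps K (G.obj X)))
    (NatIso.ofComponents (fun Z => (e Z).toIso) ?_)).unop).symm⟩
  intro Z Z' f
  ext (a : (G.sheafPullback (Type u) J K).obj (eps J X) ⟶ Z)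
  show e Z' (a ≫ f) = e Z a ≫ f
  simp only [e, Equiv.trans_apply]
  apply ((sheafificationAdjunction K (Type u)).homEquiv (yoneda.obj (G.obj X)) Z').injective
  refine (Equiv.apply_symm_apply _ _).trans ?_
  refine Eq.trans ?_ (((sheafificationAdjunction K (Type u)).homEquiv_naturality_right _ f).trans
    (congrArg (· ≫ _) (Equiv.apply_symm_apply _ _))).symm
  apply yonedaEquiv.injective
  refine (Equiv.apply_symm_apply _ _).trans ?_
  refine Eq.trans ?_ ((yonedaEquiv_comp _ _).trans (congrArg _ (Equiv.apply_symm_apply _ _))).symm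
  rw [Adjunction.homEquiv_naturality_right, Adjunction.homEquiv_naturality_right, yonedaEquiv_comp]
  rfl

end Groth.Agent.LTopos

end
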