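import Groth.Agent.Lib.LTopos5

set_option autoImplicit false
set_option linter.style.haveILetI false
set_option backward.isDefEq.respectTransparency false
set_option backward.isDefEq.respectTransparency.types false

universe u

open CategoryTheory CategoryTheory.Limits Opposite ToposFin

noncomputable section

namespace Groth.Agent.LTopos

variable {C : Type u} [SmallCategory C] {J : GrothendieckTopology C}

variable {I : Type u} [SmallCategory I] [IsFiltered I] (D : I ⥤ Sh J)

theorem cov_colimit_ι : Cov (fun i => colimit.ι D i) :=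
  cov_of_cancel fun _ _ _ h => colimit.hom_ext h

theorem post_ι {X : Sh J} (i : I) (f : X ⟶ D.obj i) :
    colimit.post D (coyoneda.obj (op X)) (colimit.ι (D ⋙ coyoneda.obj (op X)) i f) = f ≫ colimit.ι D i :=
  CategoryTheory.ConcreteCategory.congr_hom (colimit.ι_post D (coyoneda.obj (op X)) i) f

/-- Two sections equal in a filtered colimit of sheaves are locally equal at some stage. -/
theorem cov_eq {W : Sh J} {i : I} (a b : W ⟶ D.obj i) (h : a ≫ colimit.ι D i = b ≫ colimit.ι D i) :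
    Cov (fun p : Σ j, i ⟶ j => equalizer.ι (a ≫ D.map p.2) (b ≫ D.map p.2)) := by
  let E := colimit.cocone (D ⋙ sheafToPresheaf J (Type u))
  let c := Sheaf.sheafifyCocone E
  have hc : IsColimit c := Sheaf.isColimitSheafifyCocone E (colimit.isColimit _)
  have h' : a ≫ c.ι.app i = b ≫ c.ι.app i := by
    rw [← (colimit.isColimit D).comp_coconePointUniqueUpToIso_hom hc i, ← Category.assoc, ← Category.assoc]
    exact congrArg (· ≫ _) h
  intro U x
  have e : (toSheafify J E.pt).app U ((E.ι.app i).app U (a.hom.app U x)) =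
      (toSheafify J E.pt).app U ((E.ι.app i).app U (b.hom.app U x)) := by
    have e0 := congrArg (fun t : W ⟶ c.pt => t.hom.app U x) h'
    have e1 := Sheaf.sheafifyCocone_ι_app_val E i
    exact ((congrArg (fun t => t.app U (a.hom.app U x)) e1).symm.trans e0).trans (congrArg (fun t => t.app U (b.hom.app U x)) e1)
  refine J.superset_covering ?_ (Presheaf.equalizerSieve_mem J (toSheafify J E.pt) _ _ e)
  intro V g hg
  have hg' : E.pt.map g.op ((E.ι.app i).app U (a.hom.app U x)) = E.pt.map g.op ((E.ι.app i).app U (b.hom.app U x)) := hg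
  replace hg' := (((E.ι.app i).naturality_apply g.op _).trans hg').trans ((E.ι.app i).naturality_apply g.op _).symm
  obtain ⟨j, k, hk⟩ := (Types.FilteredColimit.isColimit_eq_iff'
    (isColimitOfPreserves ((evaluation _ (Type u)).obj (op V)) (colimit.isColimit (D ⋙ sheafToPresheaf J (Type u))))
    _ _).1 hg'
  have ek : (a ≫ D.map k).hom.app (op V) (W.obj.map g.op x) = (b ≫ D.map k).hom.app (op V) (W.obj.map g.op x) := by
    have hk' : (D.map k).hom.app (op V) ((D.obj i).obj.map g.op (a.hom.app U x)) =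
      (D.map k).hom.app (op V) ((D.obj i).obj.map g.op (b.hom.app U x)) := hk
    rw [← a.hom.naturality_apply, ← b.hom.naturality_apply] at hk'
    exact hk'
  obtain ⟨z, hz⟩ := ((Types.type_equalizer_iff_unique _ (g := (a ≫ D.map k).hom.app (op V)) (h := (b ≫ D.map k).hom.app (op V)) _).1
    ⟨isLimitForkMapOfIsLimit (sheafToPresheaf J (Type u) ⋙ (evaluation _ _).obj (op V)) _
      (equalizerIsEqualizer (a ≫ D.map k) (b ≫ D.map k))⟩ (W.obj.map g.op x) ek).exists
  exact ⟨⟨j, k⟩, z, hz⟩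

theorem eq_at_stage {X : Sh J} (hX : IsQC X) {i : I} (a b : X ⟶ D.obj i) (h : a ≫ colimit.ι D i = b ≫ colimit.ι D i) :
    ∃ (j : I) (f : i ⟶ j), a ≫ D.map f = b ≫ D.map f := by
  classical
  obtain ⟨s, hs⟩ := (qc_iff X).1 hX _ _ _ (cov_eq D a b h)
  suffices H : ∀ t : Finset (Σ j, i ⟶ j), ∃ (j : I) (f : i ⟶ j), ∀ p ∈ t, ∃ u : p.1 ⟶ j, p.2 ≫ u = f by
    obtain ⟨j, f, hf⟩ := H s
    refine ⟨j, f, cancel_of_cov hs _ _ fun p => ?_⟩
    obtain ⟨u, hu⟩ := hf p.1 p.2
    rw [← hu, D.map_comp, ← Category.assoc a, ← Category.assoc b, ← Category.assoc, ← Category.assoc]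
    exact congrArg (· ≫ D.map u) (equalizer.condition _ _)
  intro t
  induction t using Finset.induction_on with
  | empty => exact ⟨i, 𝟙 i, by simp⟩
  | insert p t hp ih =>
    obtain ⟨j, f, hf⟩ := ih
    obtain ⟨k, u, v, huv⟩ := IsFiltered.span p.2 f
    refine ⟨k, p.2 ≫ u, fun q hq => ?_⟩
    rcases Finset.mem_insert.1 hq with rfl | hq
    · exact ⟨u, rfl⟩
    · obtain ⟨w, hw⟩ := hf q hq
      exact ⟨w ≫ v, by rw [← Category.assoc, hw, huv]⟩

theorem post_injective {X : Sh J} (hX : IsQC X) : Function.Injective (colimit.post D (coyoneda.obj (op X))) := by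
  intro x y h
  obtain ⟨i, a, rfl⟩ := Types.jointly_surjective' x
  obtain ⟨j, b, rfl⟩ := Types.jointly_surjective' y
  rw [post_ι, post_ι] at h
  let k := IsFiltered.max i j
  obtain ⟨l, f, hf⟩ := eq_at_stage D hX (a ≫ D.map (IsFiltered.leftToMax i j)) (b ≫ D.map (IsFiltered.rightToMax i j))
    (by simpa using h)
  refine (Types.FilteredColimit.colimit_eq_iff _).2 ⟨l, IsFiltered.leftToMax i j ≫ f, IsFiltered.rightToMax i j ≫ f, ?_⟩
  show a ≫ D.map _ = b ≫ D.map _
  simpa using hf

omit [IsFiltered I] in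
theorem glue {X Y : Sh J} {ι : Type u} {G : ι → Sh J} {π : ∀ k, G k ⟶ X} (hπ : Cov π) (g : ∀ k, G k ⟶ Y)
    (hg : ∀ k l, pullback.fst (π k) (π l) ≫ g k = pullback.snd (π k) (π l) ≫ g l) :
    ∃ f : X ⟶ Y, ∀ k, π k ≫ f = g k := by
  haveI := (cov_iff π).1 hπ
  let r := regularEpiOfEpi (Sigma.desc π)
  have key : r.left ≫ Sigma.desc g = r.right ≫ Sigma.desc g := by
    have hc : Cov (Sigma.ι G) := cov_of_cancel fun _ _ _ h => Sigma.hom_ext _ _ h
    refine cancel_of_cov (cov_pullback' hc r.left) _ _ fun k =>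
      cancel_of_cov (cov_pullback' hc (pullback.fst r.left (Sigma.ι G k) ≫ r.right)) _ _ fun l => ?_
    have w : (pullback.fst (pullback.fst r.left (Sigma.ι G k) ≫ r.right) (Sigma.ι G l) ≫ pullback.snd r.left (Sigma.ι G k)) ≫ π k =
        pullback.snd (pullback.fst r.left (Sigma.ι G k) ≫ r.right) (Sigma.ι G l) ≫ π l := by
      calc _ = pullback.fst _ (Sigma.ι G l) ≫ pullback.fst r.left (Sigma.ι G k) ≫ r.left ≫ Sigma.desc π := by
            simp [pullback.condition_assoc]
        _ = (pullback.fst _ (Sigma.ι G l) ≫ pullback.fst r.left (Sigma.ι G k) ≫ r.right) ≫ Sigma.desc π := by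
            rw [r.w]; simp only [Category.assoc]
        _ = (pullback.snd _ (Sigma.ι G l) ≫ Sigma.ι G l) ≫ Sigma.desc π := congrArg (· ≫ Sigma.desc π) pullback.condition
        _ = _ := by simp
    have := congrArg (pullback.lift _ _ w ≫ ·) (hg k l)
    simp only [pullback.lift_fst_assoc, pullback.lift_snd_assoc] at this
    calc pullback.fst _ (Sigma.ι G l) ≫ pullback.fst r.left (Sigma.ι G k) ≫ r.left ≫ Sigma.desc g
          = (pullback.fst _ (Sigma.ι G l) ≫ pullback.snd r.left (Sigma.ι G k)) ≫ g k := by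
            simp [pullback.condition_assoc]
      _ = pullback.snd _ (Sigma.ι G l) ≫ g l := by simpa using this
      _ = (pullback.snd _ (Sigma.ι G l) ≫ Sigma.ι G l) ≫ Sigma.desc g := by simp
      _ = (pullback.fst _ (Sigma.ι G l) ≫ pullback.fst r.left (Sigma.ι G k) ≫ r.right) ≫ Sigma.desc g :=
            congrArg (· ≫ Sigma.desc g) pullback.condition.symm
      _ = _ := by simp only [Category.assoc]
  refine ⟨Cofork.IsColimit.desc r.isColimit (Sigma.desc g) key, fun k => ?_⟩
  have e : Sigma.desc π ≫ Cofork.IsColimit.desc r.isColimit (Sigma.desc g) key = Sigma.desc g :=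
    Cofork.IsColimit.π_desc' r.isColimit _ key
  simpa using congrArg (Sigma.ι G k ≫ ·) e

theorem post_bijective (hE : HasQCGenerators J) {X : Sh J} (hX : IsCoherent X) :
    Function.Bijective (colimit.post D (coyoneda.obj (op X))) := by
  classical
  refine ⟨post_injective D hX.1, fun (f : X ⟶ colimit D) => ?_⟩
  choose κ G ρ hG hρ using fun i => hE (pullback (colimit.ι D i) f)
  obtain ⟨s, hs⟩ := (qc_iff X).1 hX.1 _ _ _ (cov_comp (cov_pullback (cov_colimit_ι D) f) fun i => (cov_iff _).2 (hρ i))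
  obtain ⟨m, hm⟩ := IsFiltered.sup_objs_exists (s.image Sigma.fst)
  have u : ∀ p : s, Nonempty (p.1.1 ⟶ m) := fun p => hm (Finset.mem_image_of_mem Sigma.fst p.2)
  let π := fun p : s => ρ p.1.1 p.1.2 ≫ pullback.snd (colimit.ι D p.1.1) f
  let g := fun p : s => ρ p.1.1 p.1.2 ≫ pullback.fst (colimit.ι D p.1.1) f ≫ D.map (u p).some
  have hg : ∀ p, g p ≫ colimit.ι D m = π p ≫ f := fun p => by simp [g, π, pullback.condition]
  choose n v hv using fun pq : s × s => eq_at_stage D (hX.2 _ _ (π pq.1) (π pq.2) (hG _ _) (hG _ _))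
    (pullback.fst (π pq.1) (π pq.2) ≫ g pq.1) (pullback.snd (π pq.1) (π pq.2) ≫ g pq.2)
    (by simp only [Category.assoc, hg]; rw [pullback.condition_assoc])
  obtain ⟨w, a, b, hab⟩ : ∃ (w : I) (a : m ⟶ w) (b : ∀ pq, n pq ⟶ w), ∀ pq, v pq ≫ b pq = a := by
    suffices H : ∀ t : Finset (s × s), ∃ (w : I) (a : m ⟶ w), ∀ pq ∈ t, ∃ b : n pq ⟶ w, v pq ≫ b = a by
      obtain ⟨w, a, h⟩ := H Finset.univ
      exact ⟨w, a, fun pq => (h pq (Finset.mem_univ _)).choose, fun pq => (h pq (Finset.mem_univ _)).choose_spec⟩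
    intro t
    induction t using Finset.induction_on with
    | empty => exact ⟨m, 𝟙 m, by simp⟩
    | insert p t hp ih =>
      obtain ⟨j, f, hf⟩ := ih
      obtain ⟨k, u, v', huv⟩ := IsFiltered.span (v p) f
      refine ⟨k, v p ≫ u, fun q hq => ?_⟩
      rcases Finset.mem_insert.1 hq with rfl | hq
      · exact ⟨u, rfl⟩
      · obtain ⟨w, hw⟩ := hf q hq
        exact ⟨w ≫ v', by rw [← Category.assoc, hw, huv]⟩
  obtain ⟨f', hf'⟩ := glue hs (fun p => g p ≫ D.map a) fun p q => by
    rw [← hab (p, q), D.map_comp]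
    simpa using congrArg (· ≫ D.map (b (p, q))) (hv (p, q))
  refine ⟨colimit.ι (D ⋙ coyoneda.obj (op X)) w f', ?_⟩
  rw [post_ι]
  exact cancel_of_cov hs _ _ fun p => (Category.assoc _ _ _).symm.trans ((congrArg (· ≫ colimit.ι D w) (hf' p)).trans ((Category.assoc _ _ _).trans ((congrArg (g p ≫ ·) (colimit.w D a)).trans (hg p))))

omit [IsFiltered I] in
theorem qc_of_post_injective {X : Sh J}
    (h : ∀ (I : Type u) [SmallCategory I] [IsFiltered I] (D : I ⥤ Sh J), Function.Injective (colimit.post D (coyoneda.obj (op X)))) :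
    IsQC X := by
  classical
  rw [qc_iff]
  intro ι F π hπ
  let σ := fun s : Finset ι => Sigma.desc (fun i : s => π i.1)
  let Dq : Finset ι ⥤ Sh J :=
    { obj := fun s => pushout (σ s) (σ s)
      map := fun {s t} k => pushout.desc (pushout.inl _ _) (pushout.inr _ _) (Sigma.hom_ext _ _ fun i => by
        have := congrArg (fun e => Sigma.ι (fun i : t => F i.1) ⟨i.1, k.le i.2⟩ ≫ e) (pushout.condition (f := σ t) (g := σ t))
        simpa [σ] using this)
      map_id := fun s => by apply pushout.hom_ext <;> simp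
      map_comp := fun f g => by apply pushout.hom_ext <;> simp }
  haveI : IsFiltered (Finset ι) := inferInstance
  have e : (pushout.inl (σ ∅) (σ ∅) : X ⟶ Dq.obj ∅) ≫ colimit.ι Dq ∅ = (pushout.inr (σ ∅) (σ ∅) : X ⟶ Dq.obj ∅) ≫ colimit.ι Dq ∅ := by
    refine cancel_of_cov hπ _ _ fun i => ?_
    rw [← colimit.w Dq (homOfLE (Finset.empty_subset {i}) : (∅ : Finset ι) ⟶ {i})]
    have := congrArg (fun e => Sigma.ι (fun j : ({i} : Finset ι) => F j.1) ⟨i, Finset.mem_singleton_self i⟩ ≫ e ≫ colimit.ι Dq {i})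
      (pushout.condition (f := σ {i}) (g := σ {i}))
    simpa [σ, Dq] using this
  rw [← post_ι Dq, ← post_ι Dq] at e
  obtain ⟨s, f, hf⟩ := (Types.FilteredColimit.isColimit_eq_iff' (colimit.isColimit (Dq ⋙ coyoneda.obj (op X))) _ _).1 (h _ Dq e)
  refine ⟨s, cov_of_cancel fun Z a b hab => ?_⟩
  have hf' : pushout.inl (σ s) (σ s) = pushout.inr (σ s) (σ s) := by
    have : pushout.inl (σ ∅) (σ ∅) ≫ Dq.map f = pushout.inr (σ ∅) (σ ∅) ≫ Dq.map f := hf
    simpa [Dq] using this
  have hab' : σ s ≫ a = σ s ≫ b := Sigma.hom_ext _ _ fun i => by simpa [σ] using hab i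
  simpa using congrArg (· ≫ pushout.desc a b hab') hf'

end Groth.Agent.LTopos

end
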