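import Groth.Agent.Lib.LTopos6

set_option autoImplicit false
set_option linter.style.haveILetI false
set_option backward.isDefEq.respectTransparency false
set_option backward.isDefEq.respectTransparency.types false

universe u

open CategoryTheory CategoryTheory.Limits Opposite ToposFin

noncomputable section

namespace Groth.Agent.LTopos

variable {C : Type u} [SmallCategory C] {J : GrothendieckTopology C}

theorem coherent_sigma {ι : Type u} [Finite ι] (F : ι → Sh J) (h : ∀ i, IsCoherent (F i)) : IsCoherent (∐ F) :=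
  ⟨(qc_cofan_iff (coproductIsCoproduct F)).2 ⟨fun i => (h i).1, Set.toFinite _⟩,
    (qs_cofan_iff (coproductIsCoproduct F)).2 fun i => (h i).2⟩

theorem coherent_retract {X Y : Sh J} (i : X ⟶ Y) (p : Y ⟶ X) (h : i ≫ p = 𝟙 X) (hY : IsCoherent Y) : IsCoherent X := by
  haveI : IsSplitMono i := ⟨⟨⟨p, h⟩⟩⟩
  haveI : IsSplitEpi p := ⟨⟨⟨i, h⟩⟩⟩
  exact ⟨qc_of_epi p hY.1, qs_of_qshom i (qshom_of_mono i) hY.2⟩

theorem qcgen_of_coherent (hE : HasCoherentGenerators J) : HasQCGenerators J := fun X => by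
  obtain ⟨ι, F, π, hF, hπ⟩ := hE X
  exact ⟨ι, F, π, fun i => (hF i).1, hπ⟩

theorem fp_lift {X : Sh J} (hX : IsFP X) {I : Type u} [SmallCategory I] [IsFiltered I] {D : I ⥤ Sh J}
    (f : X ⟶ colimit D) : ∃ (i : I) (g : X ⟶ D.obj i), g ≫ colimit.ι D i = f := by
  obtain ⟨x, hx⟩ := (hX I D).2 f
  obtain ⟨i, g, rfl⟩ := Types.jointly_surjective' x
  exact ⟨i, g, (post_ι D i g).symm.trans hx⟩

theorem fp_eq {X : Sh J} (hX : IsFP X) {I : Type u} [SmallCategory I] [IsFiltered I] {D : I ⥤ Sh J} {i : I}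
    (a b : X ⟶ D.obj i) (h : a ≫ colimit.ι D i = b ≫ colimit.ι D i) : ∃ (j : I) (f : i ⟶ j), a ≫ D.map f = b ≫ D.map f := by
  rw [← post_ι D, ← post_ι D] at h
  obtain ⟨j, f, hf⟩ := (Types.FilteredColimit.isColimit_eq_iff' (colimit.isColimit (D ⋙ coyoneda.obj (op X))) _ _).1 ((hX I D).1 h)
  exact ⟨j, f, hf⟩

theorem fp_of_lift {X : Sh J}
    (h1 : ∀ (I : Type u) [SmallCategory I] [IsFiltered I] (D : I ⥤ Sh J) (f : X ⟶ colimit D),
      ∃ (i : I) (g : X ⟶ D.obj i), g ≫ colimit.ι D i = f)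
    (h2 : ∀ (I : Type u) [SmallCategory I] [IsFiltered I] (D : I ⥤ Sh J) (i : I) (a b : X ⟶ D.obj i),
      a ≫ colimit.ι D i = b ≫ colimit.ι D i → ∃ (j : I) (f : i ⟶ j), a ≫ D.map f = b ≫ D.map f) : IsFP X := by
  intro I _ _ D
  refine ⟨fun x y h => ?_, fun f => ?_⟩
  · obtain ⟨i, a, rfl⟩ := Types.jointly_surjective' x
    obtain ⟨j, b, rfl⟩ := Types.jointly_surjective' y
    rw [post_ι, post_ι] at h
    obtain ⟨l, f, hf⟩ := h2 I D _ (a ≫ D.map (IsFiltered.leftToMax i j)) (b ≫ D.map (IsFiltered.rightToMax i j))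
      (by simpa using h)
    refine (Types.FilteredColimit.colimit_eq_iff _).2 ⟨l, IsFiltered.leftToMax i j ≫ f, IsFiltered.rightToMax i j ≫ f, ?_⟩
    show a ≫ D.map _ = b ≫ D.map _
    simpa using hf
  · obtain ⟨i, g, hg⟩ := h1 I D f
    exact ⟨colimit.ι (D ⋙ coyoneda.obj (op X)) i g, (post_ι D i g).trans hg⟩

theorem fp_of_coherent (hE : HasQCGenerators J) {X : Sh J} (hX : IsCoherent X) : IsFP X :=
  fun _ _ _ D => post_bijective D hE hX

theorem fp_coequalizer {X₀ X₁ : Sh J} (a b : X₁ ⟶ X₀) (h0 : IsFP X₀) (h1 : IsFP X₁) : IsFP (coequalizer a b) := by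
  refine fp_of_lift (fun I _ _ D f => ?_) fun I _ _ D i u v h => ?_
  · obtain ⟨i, g, hg⟩ := fp_lift h0 (coequalizer.π a b ≫ f)
    obtain ⟨j, k, hk⟩ := fp_eq h1 (a ≫ g) (b ≫ g) (by simp only [Category.assoc, hg]; rw [← Category.assoc, ← Category.assoc, coequalizer.condition])
    exact ⟨j, coequalizer.desc (g ≫ D.map k) (by simpa using hk), coequalizer.hom_ext (by simp [hg])⟩
  · obtain ⟨j, k, hk⟩ := fp_eq h0 (coequalizer.π a b ≫ u) (coequalizer.π a b ≫ v) (by simp [h])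
    exact ⟨j, k, coequalizer.hom_ext (by simpa using hk)⟩

theorem fp_retract {X Y : Sh J} (i : X ⟶ Y) (p : Y ⟶ X) (hip : i ≫ p = 𝟙 X) (hY : IsFP Y) : IsFP X := by
  refine fp_of_lift (fun I _ _ D f => ?_) fun I _ _ D n u v h => ?_
  · obtain ⟨n, g, hg⟩ := fp_lift hY (p ≫ f)
    exact ⟨n, i ≫ g, by rw [Category.assoc, hg, ← Category.assoc, hip, Category.id_comp]⟩
  · obtain ⟨j, k, hk⟩ := fp_eq hY (p ≫ u) (p ≫ v) (by simp [h])
    exact ⟨j, k, by simpa [reassoc_of% hip] using congrArg (i ≫ ·) hk⟩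

/-- Every sheaf is a filtered colimit of coequalizers of pairs between coherent objects. -/
theorem exists_presentation (hE : HasCoherentGenerators J) (X : Sh J) :
    ∃ (I : Type u) (_ : SmallCategory I) (_ : IsFiltered I) (D : I ⥤ Sh J),
      (∀ n, ∃ (X₀ X₁ : Sh J) (a b : X₁ ⟶ X₀), IsCoherent X₀ ∧ IsCoherent X₁ ∧ D.obj n = coequalizer a b) ∧
      Nonempty (X ≅ colimit D) := by
  classical
  obtain ⟨ι, G, π, hG, hπ⟩ := hE X
  have hc : Cov π := (cov_iff π).2 hπ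
  choose κ H ρ hH hρ using fun p : ι × ι => hE (pullback (π p.1) (π p.2))
  let R := Σ p : ι × ι, κ p
  let P := {p : Finset ι × Finset R // ∀ r ∈ p.2, r.1.1 ∈ p.1 ∧ r.1.2 ∈ p.1}
  haveI : IsDirected P (· ≤ ·) := ⟨fun p q => ⟨⟨(p.1.1 ∪ q.1.1, p.1.2 ∪ q.1.2), fun r hr => by
    rcases Finset.mem_union.1 hr with h | h
    · exact ⟨Finset.mem_union_left _ (p.2 r h).1, Finset.mem_union_left _ (p.2 r h).2⟩
    · exact ⟨Finset.mem_union_right _ (q.2 r h).1, Finset.mem_union_right _ (q.2 r h).2⟩⟩,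
    ⟨Finset.subset_union_left, Finset.subset_union_left⟩, ⟨Finset.subset_union_right, Finset.subset_union_right⟩⟩⟩
  haveI : Nonempty P := ⟨⟨(∅, ∅), by simp⟩⟩
  let G0 := fun p : P => ∐ fun i : p.1.1 => G i.1
  let G1 := fun p : P => ∐ fun r : p.1.2 => H r.1.1 r.1.2
  let fa : ∀ p : P, G1 p ⟶ G0 p := fun p => Sigma.desc fun r =>
    (ρ r.1.1 r.1.2 ≫ pullback.fst _ _) ≫ Sigma.ι (fun i : p.1.1 => G i.1) ⟨r.1.1.1, (p.2 _ r.2).1⟩
  let fb : ∀ p : P, G1 p ⟶ G0 p := fun p => Sigma.desc fun r =>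
    (ρ r.1.1 r.1.2 ≫ pullback.snd _ _) ≫ Sigma.ι (fun i : p.1.1 => G i.1) ⟨r.1.1.2, (p.2 _ r.2).2⟩
  let e0 : ∀ (p : P) (i : ι) (hi : i ∈ p.1.1), G i ⟶ coequalizer (fa p) (fb p) := fun p i hi =>
    Sigma.ι (fun i : p.1.1 => G i.1) ⟨i, hi⟩ ≫ coequalizer.π (fa p) (fb p)
  have rel : ∀ (p : P) (r : R) (hr : r ∈ p.1.2), (ρ r.1 r.2 ≫ pullback.fst _ _) ≫ e0 p r.1.1 (p.2 r hr).1 =
      (ρ r.1 r.2 ≫ pullback.snd _ _) ≫ e0 p r.1.2 (p.2 r hr).2 := fun p r hr => by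
    have := congrArg (Sigma.ι (fun r : p.1.2 => H r.1.1 r.1.2) ⟨r, hr⟩ ≫ ·) (coequalizer.condition (fa p) (fb p))
    simpa [fa, fb, e0] using this
  let D : P ⥤ Sh J :=
    { obj := fun p => coequalizer (fa p) (fb p)
      map := fun {p q} k => coequalizer.desc (Sigma.desc fun i => e0 q i.1 (k.le.1 i.2)) (Sigma.hom_ext _ _ fun r => by
        simpa [fa, fb] using rel q r.1 (k.le.2 r.2))
      map_id := fun p => coequalizer.hom_ext (Sigma.hom_ext _ _ fun i => by simp [e0])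
      map_comp := fun f g => coequalizer.hom_ext (Sigma.hom_ext _ _ fun i => by simp [e0]) }
  refine ⟨P, inferInstance, inferInstance, D, fun p => ⟨G0 p, G1 p, fa p, fb p, coherent_sigma _ fun i => hG _,
    coherent_sigma _ fun r => hH _ _, rfl⟩, ?_⟩
  have e0map : ∀ {p q : P} (k : p ⟶ q) (i : ι) (hi : i ∈ p.1.1), e0 p i hi ≫ D.map k = e0 q i (k.le.1 hi) := fun k i hi => by
    simp [e0, D]
  let toX : Cocone D :=
    { pt := X
      ι := { app := fun p => coequalizer.desc (Sigma.desc fun i => π i.1) (Sigma.hom_ext _ _ fun r => by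
              simp [fa, fb, pullback.condition])
             naturality := fun p q k => coequalizer.hom_ext (Sigma.hom_ext _ _ fun i => by simp [D, e0]) } }
  let s : ι → P := fun i => ⟨({i}, ∅), by simp⟩
  let g : ∀ i, G i ⟶ colimit D := fun i => e0 (s i) i (Finset.mem_singleton_self i) ≫ colimit.ι D (s i)
  have hg : ∀ (p : P) (i : ι) (hi : i ∈ p.1.1), e0 p i hi ≫ colimit.ι D p = g i := fun p i hi => by
    have k : s i ≤ p := ⟨Finset.singleton_subset_iff.2 hi, Finset.empty_subset _⟩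
    rw [← e0map (homOfLE k) i (Finset.mem_singleton_self i), Category.assoc, colimit.w]
  obtain ⟨f, hf⟩ := glue hc g fun i j => by
    refine cancel_of_cov ((cov_iff _).2 (hρ (i, j))) _ _ fun k => ?_
    let q : P := ⟨({i, j}, {⟨(i, j), k⟩}), by simp⟩
    rw [← hg q i (by simp [q]), ← hg q j (by simp [q])]
    simpa using congrArg (· ≫ colimit.ι D q) (rel q ⟨(i, j), k⟩ (by simp [q]))
  refine ⟨⟨f, colimit.desc D toX, cancel_of_cov hc _ _ fun i => ?_, colimit.hom_ext fun p => coequalizer.hom_ext (Sigma.hom_ext _ _ fun i => ?_)⟩⟩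
  · rw [reassoc_of% (hf i)]; simp [g, e0, toX]
  · simp [toX, hf, ← hg p i.1 i.2, e0]

theorem fp_iff (hE : HasCoherentGenerators J) (X : Sh J) :
    IsFP X ↔ ∃ (X₀ X₁ : Sh J) (a b : X₁ ⟶ X₀) (i : X ⟶ coequalizer a b) (p : coequalizer a b ⟶ X),
      IsCoherent X₀ ∧ IsCoherent X₁ ∧ i ≫ p = 𝟙 X := by
  constructor
  · intro h
    obtain ⟨I, _, _, D, hD, ⟨e⟩⟩ := exists_presentation hE X
    obtain ⟨n, g, hg⟩ := fp_lift h e.hom
    obtain ⟨X₀, X₁, a, b, h0, h1, hn⟩ := hD n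
    exact ⟨X₀, X₁, a, b, g ≫ eqToHom hn, eqToHom hn.symm ≫ colimit.ι D n ≫ e.inv, h0, h1, by simp [reassoc_of% hg]⟩
  · rintro ⟨X₀, X₁, a, b, i, p, h0, h1, hip⟩
    exact fp_retract i p hip (fp_coequalizer a b (fp_of_coherent (qcgen_of_coherent hE) h0) (fp_of_coherent (qcgen_of_coherent hE) h1))

theorem coherent_coeq_iff (hE : HasCoherentGenerators J) :
    ((∀ (X₀ X₁ : Sh J) (a b : X₁ ⟶ X₀), IsCoherent X₀ → IsCoherent X₁ → IsCoherent (coequalizer a b)) ↔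
      (∀ X : Sh J, IsFP X → IsCoherent X)) ∧
    ((∀ X : Sh J, ∃ (I : Type u) (_ : SmallCategory I) (_ : IsFiltered I) (D : I ⥤ Sh J),
        (∀ i, IsCoherent (D.obj i)) ∧ Nonempty (X ≅ colimit D)) ↔ (∀ X : Sh J, IsFP X → IsCoherent X)) := by
  have hq := qcgen_of_coherent hE
  refine ⟨⟨fun h X hX => ?_, fun h X₀ X₁ a b h0 h1 => h _ (fp_coequalizer a b (fp_of_coherent hq h0) (fp_of_coherent hq h1))⟩,
    ⟨fun h X hX => ?_, fun h X => ?_⟩⟩
  · obtain ⟨X₀, X₁, a, b, i, p, h0, h1, hip⟩ := (fp_iff hE X).1 hX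
    exact coherent_retract i p hip (h _ _ a b h0 h1)
  · obtain ⟨I, _, _, D, hD, ⟨e⟩⟩ := h X
    obtain ⟨n, g, hg⟩ := fp_lift hX e.hom
    exact coherent_retract g (colimit.ι D n ≫ e.inv) (by rw [← Category.assoc, hg, e.hom_inv_id]) (hD n)
  · obtain ⟨I, _, _, D, hD, he⟩ := exists_presentation hE X
    refine ⟨I, inferInstance, inferInstance, D, fun n => ?_, he⟩
    obtain ⟨X₀, X₁, a, b, h0, h1, hn⟩ := hD n
    exact hn ▸ h _ (fp_coequalizer a b (fp_of_coherent hq h0) (fp_of_coherent hq h1))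

theorem eq_coherent_of_closed (S : Set (Sh J)) (hqc : ∀ K ∈ S, IsQC K)
    (hiso : ∀ ⦃K L : Sh J⦄, K ∈ S → Nonempty (K ≅ L) → L ∈ S) (hgen : IsGenerating S) (hpb : ClosedUnderPullbacks S)
    (hcolim : ∀ (K : Type) [SmallCategory K] [FinCategory K] (D : K ⥤ Sh J), (∀ k, D.obj k ∈ S) → colimit D ∈ S) :
    (∀ X : Sh J, X ∈ S ↔ IsCoherent X) ∧ (∀ X : Sh J, IsFP X → IsCoherent X) := by
  classical
  have hfin : ∀ {ι : Type u} [Finite ι] (F : ι → Sh J), (∀ i, F i ∈ S) → ∐ F ∈ S := fun {ι} _ F hF => by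
    letI := Fintype.ofFinite ι
    let e := (Fintype.equivFin ι).symm
    refine hiso (hcolim (Discrete (Fin (Fintype.card ι))) (Discrete.functor fun k => F (e k)) fun k => hF _) ⟨?_⟩
    exact Sigma.reindex e F
  have hcoeq : ∀ {K L : Sh J} (a b : K ⟶ L), K ∈ S → L ∈ S → coequalizer a b ∈ S := fun a b hK hL =>
    hcolim WalkingParallelPair (parallelPair a b) fun k => by cases k <;> assumption
  have fwd : ∀ X, X ∈ S → IsCoherent X := fun X hX => coherent_of_mem hqc hgen hpb hX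
  have bwd : ∀ X, IsCoherent X → X ∈ S := fun X hX => by
    obtain ⟨ι, G, π, hG, hπ⟩ := hgen X
    obtain ⟨s, hs⟩ := (qc_iff X).1 hX.1 _ _ _ (cov_of_cancel hπ)
    let p : (∐ fun i : s => G i.1) ⟶ X := Sigma.desc fun i => π i.1
    haveI : Epi p := (cov_iff _).1 hs
    have hK0 : (∐ fun i : s => G i.1) ∈ S := hfin _ fun i => hG _
    obtain ⟨κ, H, ρ, hH, hρ⟩ := hgen (pullback p p)
    obtain ⟨t, ht⟩ := (qc_iff _).1 (hX.2 _ _ p p (hqc _ hK0) (hqc _ hK0)) _ _ _ (cov_of_cancel hρ)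
    let q : (∐ fun k : t => H k.1) ⟶ pullback p p := Sigma.desc fun k => ρ k.1
    haveI : Epi q := (cov_iff _).1 ht
    have hK1 : (∐ fun k : t => H k.1) ∈ S := hfin _ fun k => hH _
    refine hiso (hcoeq (q ≫ pullback.fst p p) (q ≫ pullback.snd p p) hK1 hK0) ⟨?_⟩
    have w : (q ≫ pullback.fst p p) ≫ p = (q ≫ pullback.snd p p) ≫ p := by simp [pullback.condition]
    have hf := glue (cov_of_epi p) (fun _ => coequalizer.π (q ≫ pullback.fst p p) (q ≫ pullback.snd p p)) fun _ _ =>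
      (cancel_epi q).1 (by simpa using coequalizer.condition (q ≫ pullback.fst p p) (q ≫ pullback.snd p p))
    exact ⟨coequalizer.desc p w, hf.choose, coequalizer.hom_ext (by simpa using hf.choose_spec PUnit.unit),
      (cancel_epi p).1 (by rw [← Category.assoc]; exact (congrArg (· ≫ coequalizer.desc p w) (hf.choose_spec PUnit.unit)).trans ((coequalizer.π_desc _ _).trans (Category.comp_id p).symm))⟩
  have hcoh : HasCoherentGenerators J := fun X => by
    obtain ⟨ι, G, π, hG, hπ⟩ := hgen X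
    exact ⟨ι, G, π, fun i => fwd _ (hG i), (cov_iff π).1 (cov_of_cancel hπ)⟩
  exact ⟨fun X => ⟨fwd X, bwd X⟩, (coherent_coeq_iff hcoh).1.1 fun X₀ X₁ a b h0 h1 =>
    fwd _ (hcoeq a b (bwd _ h1) (bwd _ h0))⟩

end Groth.Agent.LTopos

end
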