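import Groth.Agent.Lib.LDerived

/-! Higher derived functors of `lim` on towers of abelian groups vanish from degree two. -/

set_option autoImplicit false
universe u
open CategoryTheory Limits Opposite

namespace Groth.Agent.LTowerLim

abbrev Tw := ℕᵒᵖ ⥤ AddCommGrpCat.{u}

/-- restriction along `n ≤ m` -/
noncomputable def res (A : Tw.{u}) {n m : ℕ} (h : n ≤ m) : A.obj (op m) →+ A.obj (op n) :=
  (A.map (homOfLE h).op).hom

def Surj (A : Tw.{u}) : Prop := ∀ (n m : ℕ) (h : n ≤ m), Function.Surjective (res A h)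

lemma res_res (A : Tw.{u}) {a b c : ℕ} (h : a ≤ b) (h' : b ≤ c) (x : A.obj (op c)) :
    res A h (res A h' x) = res A (h.trans h') x := by
  simp only [res]
  rw [← AddCommGrpCat.comp_apply, ← A.map_comp]
  rfl

lemma res_nat {A B : Tw.{u}} (f : A ⟶ B) {a b : ℕ} (h : a ≤ b) (x : A.obj (op b)) :
    (f.app (op a)).hom (res A h x) = res B h ((f.app (op b)).hom x) :=
  ConcreteCategory.congr_hom (f.naturality (homOfLE h).op) x

/-- product of the earlier stages -/
noncomputable def hull (A : Tw.{u}) : Tw.{u} where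
  obj n := AddCommGrpCat.of ((m : {m : ℕ // m ≤ n.unop}) → A.obj (op m.1))
  map {n n'} g := AddCommGrpCat.ofHom
    { toFun := fun x m => x ⟨m.1, m.2.trans (leOfHom g.unop)⟩
      map_zero' := rfl
      map_add' := fun _ _ => rfl }
  map_id _ := rfl
  map_comp _ _ := rfl

lemma surj_hull (A : Tw.{u}) : Surj (hull A) := fun n m h x => by
  classical
  exact ⟨fun k => if hk : k.1 ≤ n then x ⟨k.1, hk⟩ else 0, funext fun k => dif_pos k.2⟩

noncomputable def toHull (A : Tw.{u}) : A ⟶ hull A where
  app n := AddCommGrpCat.ofHom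
    { toFun := fun a m => res A m.2 a
      map_zero' := funext fun m => map_zero (res A m.2)
      map_add' := fun _ _ => funext fun m => map_add (res A m.2) _ _ }
  naturality {n n'} g := by
    ext a
    funext m
    change res A m.2 ((A.map g).hom a) = res A (m.2.trans (leOfHom g.unop)) a
    rw [← res_res A m.2 (leOfHom g.unop)]
    rfl

lemma toHull_inj (A : Tw.{u}) (n : ℕᵒᵖ) : Function.Injective ((toHull A).app n).hom := fun a b h => by
  have := congrFun h ⟨n.unop, le_rfl⟩
  change res A le_rfl a = res A le_rfl b at this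
  have e : ∀ x, res A (le_refl n.unop) x = x := fun x => by
    simp only [res]
    exact ConcreteCategory.congr_hom (A.map_id n) x
  rwa [e, e] at this

instance (A : Tw.{u}) : Mono (toHull A) := by
  haveI : ∀ n, Mono ((toHull A).app n) := fun n => (AddCommGrpCat.mono_iff_injective _).2 (toHull_inj A n)
  exact NatTrans.mono_of_mono_app _

lemma surj_injective (I : Tw.{u}) [Injective I] : Surj I := fun n m h x => by
  obtain ⟨r, hr⟩ := Injective.factors (𝟙 I) (toHull I)
  obtain ⟨y, hy⟩ := surj_hull I n m h (((toHull I).app (op n)).hom x)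
  refine ⟨(r.app (op m)).hom y, ?_⟩
  rw [← res_nat r h, hy]
  exact ConcreteCategory.congr_hom (congrArg (fun φ => NatTrans.app φ (op n)) hr) x

variable {T : ShortComplex Tw.{u}} (hT : T.ShortExact)

include hT in
lemma exists_lift (n : ℕ) (q : T.X₃.obj (op n)) : ∃ b, (T.g.app (op n)).hom b = q := by
  haveI := hT.epi_g
  exact (AddCommGrpCat.epi_iff_surjective (T.g.app (op n))).1 inferInstance q

include hT in
lemma exists_pre (n : ℕ) (b : T.X₂.obj (op n)) (hb : (T.g.app (op n)).hom b = 0) :
    ∃ a, (T.f.app (op n)).hom a = b :=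
  (ShortComplex.ab_exact_iff _).1 ((hT.map_of_exact ((evaluation _ _).obj (op n))).exact) b hb

include hT in
lemma surj_quot (h : Surj T.X₂) : Surj T.X₃ := fun n m hnm q => by
  obtain ⟨b, rfl⟩ := exists_lift hT n q
  obtain ⟨c, rfl⟩ := h n m hnm b
  exact ⟨(T.g.app (op m)).hom c, (res_nat T.g hnm c).symm⟩

include hT in
lemma epi_lim_map (h : Surj T.X₁) : Epi ((lim : Tw.{u} ⥤ AddCommGrpCat.{u}).map T.g) := by
  rw [AddCommGrpCat.epi_iff_surjective]
  intro q
  let qn : ∀ n : ℕ, T.X₃.obj (op n) := fun n => (limit.π T.X₃ (op n)).hom q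
  have hq : ∀ {a b : ℕ} (hab : a ≤ b), res T.X₃ hab (qn b) = qn a := fun hab =>
    ConcreteCategory.congr_hom (limit.w T.X₃ (homOfLE hab).op) q
  have step : ∀ (n : ℕ) (b : T.X₂.obj (op n)), (T.g.app (op n)).hom b = qn n →
      ∃ b' : T.X₂.obj (op (n + 1)), (T.g.app (op (n + 1))).hom b' = qn (n + 1) ∧
        res T.X₂ n.le_succ b' = b := fun n b hb => by
    obtain ⟨b₁, hb₁⟩ := exists_lift hT (n + 1) (qn (n + 1))
    obtain ⟨a, ha⟩ := exists_pre hT n (res T.X₂ n.le_succ b₁ - b) (by
      rw [map_sub, res_nat T.g, hb₁, hq n.le_succ, hb, sub_self])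
    obtain ⟨a', rfl⟩ := h n (n + 1) n.le_succ a
    refine ⟨b₁ - (T.f.app (op (n + 1))).hom a', ?_, ?_⟩
    · rw [map_sub, hb₁]
      have : (T.g.app (op (n + 1))).hom ((T.f.app (op (n + 1))).hom a') = 0 :=
        ConcreteCategory.congr_hom (congrArg (fun φ => NatTrans.app φ (op (n + 1))) T.zero) a'
      rw [this, sub_zero]
    · rw [map_sub, ← res_nat T.f, ha, sub_sub_cancel]
  let seq : ∀ n : ℕ, {b : T.X₂.obj (op n) // (T.g.app (op n)).hom b = qn n} := fun n => Nat.rec
    ⟨(exists_lift hT 0 (qn 0)).choose, (exists_lift hT 0 (qn 0)).choose_spec⟩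
    (fun n b => ⟨(step n b.1 b.2).choose, (step n b.1 b.2).choose_spec.1⟩) n
  have hseq : ∀ {a b : ℕ} (hab : a ≤ b), res T.X₂ hab (seq b).1 = (seq a).1 := by
    intro a b hab
    induction hab with
    | refl =>
      simp only [res]
      exact ConcreteCategory.congr_hom (T.X₂.map_id (op a)) _
    | @step m hle ih =>
      rw [← res_res T.X₂ hle m.le_succ]
      rw [show res T.X₂ m.le_succ (seq (m + 1)).1 = (seq m).1 from (step m (seq m).1 (seq m).2).choose_spec.2]
      exact ih
  let c : Cone T.X₂ :=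
    { pt := AddCommGrpCat.of (ULift.{u} ℤ)
      π :=
        { app := fun n => AddCommGrpCat.ofHom ((zmultiplesHom _ (seq n.unop).1).comp
            (AddEquiv.ulift : ULift.{u} ℤ ≃+ ℤ).toAddMonoidHom)
          naturality := fun n n' g => by
            ext k
            change k.down • (seq n'.unop).1 = (T.X₂.map g).hom (k.down • (seq n.unop).1)
            rw [map_zsmul, ← hseq (leOfHom g.unop)]
            rfl } }
  refine ⟨(limit.lift T.X₂ c).hom ⟨1⟩, Concrete.limit_ext _ _ _ fun n => ?_⟩
  refine (ConcreteCategory.congr_hom (limMap_π T.g n) _).trans ?_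
  change (T.g.app n).hom ((limit.lift T.X₂ c ≫ limit.π T.X₂ n).hom ⟨1⟩) = _
  rw [limit.lift_π]
  change (T.g.app n).hom ((1 : ℤ) • (seq n.unop).1) = qn n.unop
  rw [one_zsmul]
  exact (seq n.unop).2

variable [EnoughInjectives Tw.{u}] [(lim : Tw.{u} ⥤ AddCommGrpCat.{u}).Additive]

theorem surj_vanish : ∀ (n : ℕ) (A : Tw.{u}), Surj A →
    IsZero (((lim : Tw.{u} ⥤ AddCommGrpCat.{u}).rightDerived (n + 1)).obj A) := by
  intro n
  induction n with
  | zero =>
    intro A hA
    let T : ShortComplex Tw.{u} := ShortComplex.mk (Injective.ι A) (cokernel.π _) (cokernel.condition _)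
    have hT : T.ShortExact := { exact := ShortComplex.exact_of_g_is_cokernel _ (cokernelIsCokernel _) }
    haveI : Injective T.X₂ := inferInstanceAs (Injective (Injective.under A))
    exact Groth.Agent.LCech.isZero_rightDerived_one hT _ (epi_lim_map hT hA)
  | succ n ih =>
    intro A hA
    let T : ShortComplex Tw.{u} := ShortComplex.mk (Injective.ι A) (cokernel.π _) (cokernel.condition _)
    have hT : T.ShortExact := { exact := ShortComplex.exact_of_g_is_cokernel _ (cokernelIsCokernel _) }
    haveI : Injective T.X₂ := inferInstanceAs (Injective (Injective.under A))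
    exact Groth.Agent.LCech.isZero_rightDerived_succ_succ hT _ n (ih _ (surj_quot hT (surj_injective _)))

theorem vanish (A : Tw.{u}) (n : ℕ) :
    IsZero (((lim : Tw.{u} ⥤ AddCommGrpCat.{u}).rightDerived (n + 2)).obj A) := by
  let T : ShortComplex Tw.{u} := ShortComplex.mk (Injective.ι A) (cokernel.π _) (cokernel.condition _)
  have hT : T.ShortExact := { exact := ShortComplex.exact_of_g_is_cokernel _ (cokernelIsCokernel _) }
  haveI : Injective T.X₂ := inferInstanceAs (Injective (Injective.under A))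
  exact Groth.Agent.LCech.isZero_rightDerived_succ_succ hT _ n (surj_vanish n _ (surj_quot hT (surj_injective _)))

end Groth.Agent.LTowerLim
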