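import Groth.Agent.Lib.LAmple
import Mathlib

/-! Twisting quasi-coherent modules by powers of invertible modules. -/

set_option autoImplicit false
universe u
open CategoryTheory Limits AlgebraicGeometry Opposite TopologicalSpace

namespace Groth.Agent.LTwist

open Groth.Agent.LQcoh Groth.Agent.LInv

variable {X : Scheme.{u}} {L : X.Modules}

theorem tmul_bijective (F : X.Modules) {M : X.Modules} {U : X.Opens} {τ : Γ(M, U)} (hτ : GenOn M U τ)
    {W : X.Opens} (hW : W ≤ U) :
    Function.Bijective (fun t : Γ(F, W) =>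
      (SecTwist.tmul F M W t (res M hW τ) : Γ(CohB1.tensorMod F M, W))) := by
  let Ψ : (CohB1.tensorMod F M).restrict U.ι ≅ F.restrict U.ι :=
    (LTensor.restrictIso U.ι F M).symm ≪≫ LTensor.mapIso (Iso.refl _) (iso hτ) ≪≫ SecTwist.unitorR _
  obtain ⟨W, rfl⟩ : ∃ W' : U.toScheme.Opens, U.ι ''ᵁ W' = W := ⟨_, image_ι_preimage hW⟩
  have key : (fun t : Γ(F, U.ι ''ᵁ W) =>
      (SecTwist.tmul F M (U.ι ''ᵁ W) t (res M hW τ) : Γ(CohB1.tensorMod F M, U.ι ''ᵁ W))) =
      fun t => (Ψ.inv.app W t : Γ(CohB1.tensorMod F M, U.ι ''ᵁ W)) := by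
    funext t
    have h0 : (SecTwist.unitorR (F.restrict U.ι)).inv.app W t =
        SecTwist.tmul (F.restrict U.ι) (Coh.structureModule ↑U) W t (1 : Γ(↑U, W)) := by
      apply ((ConcreteCategory.isIso_iff_bijective _).1
        (inferInstance : IsIso ((SecTwist.unitorR (F.restrict U.ι)).hom.app W))).1
      refine Eq.trans ?_ (SecTwist.unitorR_tmul (F.restrict U.ι) W t (1 : Γ(↑U, W))).symm
      refine (congrArg (fun (φ : F.restrict U.ι ⟶ F.restrict U.ι) => φ.app W t)
        (SecTwist.unitorR (F.restrict U.ι)).inv_hom_id).trans ?_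
      exact (one_smul Γ(↑U, W) (show Γ(F.restrict U.ι, W) from t)).symm
    show _ = (LTensor.restrictHom U.ι F M).app W
      ((LTensor.tmap (𝟙 (F.restrict U.ι)) (iso hτ).inv).app W ((SecTwist.unitorR (F.restrict U.ι)).inv.app W t))
    rw [h0]
    refine Eq.symm ((congrArg _ (LTensor.tmap_tmul (𝟙 (F.restrict U.ι)) (iso hτ).inv W _ _)).trans ?_)
    refine (LTensor.restrictHom_tmul U.ι F M W _ _).trans ?_
    exact congrArg (SecTwist.tmul F M (U.ι ''ᵁ W) t) (homOfSec_one M τ W)
  rw [key]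
  exact (ConcreteCategory.isIso_iff_bijective _).1 (inferInstance : IsIso (Ψ.inv.app W))

/-- tensoring a quasi-coherent module with an invertible one -/
theorem isQuasicoherent_tensor (F : X.Modules) [F.IsQuasicoherent] {M : X.Modules}
    (hM : PicF.IsInvertible M) : (CohB1.tensorMod F M).IsQuasicoherent := by
  choose U τ hx _ hU hτ using fun x : X => exists_affine_gen hM (V := ⊤) (x := x) trivial
  refine isQuasicoherent_of_locAt _ U hU (eq_top_iff.2 fun x _ => Opens.mem_iSup.2 ⟨x, hx x⟩) fun x g => ?_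
  have hres : ∀ {W W' : X.Opens} (hW : W ≤ U x) (h : W' ≤ W) (t : Γ(F, W)),
      res (CohB1.tensorMod F M) h (SecTwist.tmul F M W t (res M hW (τ x))) =
        SecTwist.tmul F M W' (res F h t) (res M (h.trans hW) (τ x)) := fun hW h t =>
    (SecTwist.map_tmul F M (homOfLE h) t _).trans (congrArg (SecTwist.tmul F M _ _) (res_res M hW h (τ x)))
  have hg := basicOpen_le_open g
  constructor
  · intro c
    obtain ⟨t, ht⟩ := (tmul_bijective F (hτ x) hg).2 c
    obtain ⟨N, y, hy⟩ := (exists_pow_of_affine (hU x) F g).1 t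
    refine ⟨N, SecTwist.tmul F M (U x) y (res M le_rfl (τ x)), ?_⟩
    rw [hres le_rfl hg, hy, ← ht]
    exact LTensor.tmul_smul_left F M _ (resO hg (g ^ N)) t _
  · intro y hy
    obtain ⟨t, ht⟩ := (tmul_bijective F (hτ x) le_rfl).2 y
    dsimp only at ht
    rw [← ht, hres le_rfl hg] at hy
    have ht0 : res F hg t = 0 := (tmul_bijective F (hτ x) hg).1
      (hy.trans (LAmple.tmul_zero_left F M _ _).symm)
    obtain ⟨N, hN⟩ := (exists_pow_of_affine (hU x) F g).2 t ht0
    refine ⟨N, ?_⟩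
    rw [← ht]
    refine (LTensor.tmul_smul_left F M _ (g ^ N) t _).symm.trans ?_
    exact (congrArg (fun a => SecTwist.tmul F M (U x) a (res M le_rfl (τ x))) hN).trans
      (LAmple.tmul_zero_left F M _ _)

/-- powers of a local section -/
noncomputable def secPow {U : X.Opens} (σ : Γ(L, U)) : (n : ℕ) → Γ(CohB1.tensorPow L n, U)
  | 0 => (1 : Γ(X, U))
  | n + 1 => SecTwist.tmul (CohB1.tensorPow L n) L U (secPow σ n) σ

lemma genOn_secPow {U : X.Opens} {σ : Γ(L, U)} (hσ : GenOn L U σ) :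
    ∀ n : ℕ, GenOn (CohB1.tensorPow L n) U (secPow σ n)
  | 0 => fun W h => by
      have : res (Coh.structureModule X) h (1 : Γ(X, U)) = (1 : Γ(X, W)) :=
        map_one (X.presheaf.map (homOfLE h).op).hom
      exact this ▸ bij_smul_one
  | n + 1 => genOn_tensor (genOn_secPow hσ n) hσ

lemma res_secPow {U W : X.Opens} (h : W ≤ U) (σ : Γ(L, U)) :
    ∀ n : ℕ, res (CohB1.tensorPow L n) h (secPow σ n) = secPow (res L h σ) n
  | 0 => map_one (X.presheaf.map (homOfLE h).op).hom
  | n + 1 => (SecTwist.map_tmul _ L (homOfLE h) _ _).trans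
      (congrArg (fun a => SecTwist.tmul (CohB1.tensorPow L n) L W a (res L h σ)) (res_secPow h σ n))

lemma secPow_smul {U : X.Opens} (r : Γ(X, U)) (σ : Γ(L, U)) :
    ∀ n : ℕ, secPow (r • σ) n = r ^ n • secPow σ n
  | 0 => ((congrArg (fun a : Γ(X, U) => a * 1) (pow_zero r)).trans (mul_one 1)).symm
  | n + 1 => by
      show SecTwist.tmul _ L U (secPow (r • σ) n) (r • σ) = _
      rw [secPow_smul r σ n, pow_succ, mul_smul]
      exact (LTensor.tmul_smul_left _ L U (r ^ n) _ _).trans
        (congrArg (r ^ n • ·) (LTensor.tmul_smul_right _ L U r _ σ))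

lemma secPow_val (s : Coh.structureModule X ⟶ L) (U : X.Opens) :
    ∀ n : ℕ, secPow (SecTwist.val s U : Γ(L, U)) n = SecTwist.pow s n U
  | 0 => rfl
  | n + 1 => congrArg (fun a => SecTwist.tmul (CohB1.tensorPow L n) L U a (SecTwist.val s U)) (secPow_val s U n)

lemma twist_gen (s : Coh.structureModule X ⟶ L) (F : X.Modules) {U : X.Opens} {σ : Γ(L, U)} {f : Γ(X, U)}
    (hf : f • σ = (SecTwist.val s U : Γ(L, U))) (n : ℕ) {W : X.Opens} (hW : W ≤ U) (t : Γ(F, W)) :
    (SecTwist.twist s n F W t : Γ(CohB1.tensorMod F (CohB1.tensorPow L n), W)) =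
      SecTwist.tmul F (CohB1.tensorPow L n) W (resO hW f ^ n • t) (secPow (res L hW σ) n) := by
  have : (SecTwist.pow s n W : Γ(CohB1.tensorPow L n, W)) = resO hW f ^ n • secPow (res L hW σ) n := by
    rw [← secPow_smul, ← res_smul, hf, ← secPow_val]
    exact congrArg (fun a => secPow a n) (SecTwist.map_val s (homOfLE hW)).symm
  refine (congrArg (SecTwist.tmul F (CohB1.tensorPow L n) W t) this).trans ?_
  exact (LTensor.tmul_smul_right _ _ W _ t _).trans (LTensor.tmul_smul_left _ _ W _ t _).symm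

lemma tmul_secPow_bijective (F : X.Modules) {U : X.Opens} {σ : Γ(L, U)} (hσ : GenOn L U σ) (n : ℕ)
    {W : X.Opens} (hW : W ≤ U) :
    Function.Bijective (fun t : Γ(F, W) =>
      (SecTwist.tmul F (CohB1.tensorPow L n) W t (secPow (res L hW σ) n) :
        Γ(CohB1.tensorMod F (CohB1.tensorPow L n), W))) := by
  rw [← res_secPow hW σ n]
  exact tmul_bijective F (genOn_secPow hσ n) hW

theorem twist_eq_zero_iff (s : Coh.structureModule X ⟶ L) (F : X.Modules) {U : X.Opens} {σ : Γ(L, U)}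
    (hσ : GenOn L U σ) {f : Γ(X, U)} (hf : f • σ = (SecTwist.val s U : Γ(L, U))) (n : ℕ) {W : X.Opens}
    (hW : W ≤ U) (t : Γ(F, W)) :
    (SecTwist.twist s n F W t : Γ(CohB1.tensorMod F (CohB1.tensorPow L n), W)) = 0 ↔ resO hW f ^ n • t = 0 := by
  rw [twist_gen s F hf n hW t]
  exact ⟨fun h => (tmul_secPow_bijective F hσ n hW).1 (h.trans (LAmple.tmul_zero_left _ _ _ _).symm),
    fun h => (congrArg (fun a => SecTwist.tmul F (CohB1.tensorPow L n) W a (secPow (res L hW σ) n)) h).trans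
      (LAmple.tmul_zero_left _ _ _ _)⟩

/-- finitely many affine opens with generators covering a quasi-compact open -/
theorem exists_gen_cover (hL : PicF.IsInvertible L) {W : X.Opens} (hW : IsCompact (W : Set X)) :
    ∃ (ι : Type u) (_ : Finite ι) (U : ι → X.Opens) (σ : ∀ i, Γ(L, U i)),
      (∀ i, IsAffineOpen (U i)) ∧ (∀ i, GenOn L (U i) (σ i)) ∧ iSup U = W := by
  choose U σ hx hUW hU hσ using fun x : W => exists_affine_gen hL (V := W) x.2
  obtain ⟨t, ht⟩ := hW.elim_finite_subcover (fun x : W => (U x : Set X)) (fun x => (U x).2)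
    (fun x hx' => Set.mem_iUnion.2 ⟨⟨x, hx'⟩, hx ⟨x, hx'⟩⟩)
  exact ⟨t, inferInstance, fun x => U x.1, fun x => σ x.1, fun x => hU x.1, fun x => hσ x.1,
    le_antisymm (iSup_le fun x => hUW _) fun x hx' =>
      let ⟨i, hi, hxi⟩ := Set.mem_iUnion₂.1 (ht hx')
      Opens.mem_iSup.2 ⟨⟨i, hi⟩, hxi⟩⟩

/-- sections vanishing on `X_s` are killed by a power of `s` -/
theorem exists_twist_eq_zero (hL : PicF.IsInvertible L) (s : Coh.structureModule X ⟶ L) (F : X.Modules)
    [F.IsQuasicoherent] {W : X.Opens} (hW : IsCompact (W : Set X)) (t : Γ(F, W))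
    (ht : res F (inf_le_right : CohB1.genLocus L s ⊓ W ≤ W) t = 0) :
    ∃ N : ℕ, ∀ n, N ≤ n → (SecTwist.twist s n F W t : Γ(CohB1.tensorMod F (CohB1.tensorPow L n), W)) = 0 := by
  obtain ⟨ι, hι, U, σ, hU, hσ, hcov⟩ := exists_gen_cover hL hW
  have hle : ∀ i, U i ≤ W := fun i => (le_iSup U i).trans hcov.le
  have hf := fun i => coeff_spec (hσ i) (SecTwist.val s (U i) : Γ(L, U i))
  choose N hN using fun i => (exists_pow_of_affine (hU i) F (coeff (hσ i) (SecTwist.val s (U i) : Γ(L, U i)))).2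
    (res F (hle i) t) (by
      have h := (genLocus_inf (hσ i) s (hf i)).ge.trans (inf_le_inf_left _ (hle i))
      exact (res_res F (hle i) (basicOpen_le_open _) t).trans ((res_res F inf_le_right h t).symm.trans
        ((congrArg _ ht).trans (map_zero _))))
  obtain ⟨K, hK⟩ := Finite.exists_le N
  refine ⟨K, fun n hn => eq_of_cover _ U hcov fun i => ?_⟩
  refine (SecTwist.map_twist s n F (homOfLE (hle i)) t).trans (Eq.trans ?_ (map_zero _).symm)
  refine (twist_eq_zero_iff s F (hσ i) (hf i) n le_rfl (res F (hle i) t)).2 ?_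
  rw [resO_self, ← Nat.sub_add_cancel ((hK i).trans hn), pow_add, mul_smul, hN i, smul_zero]

/-- sections over `X_s` times a high power of `s` extend -/
theorem exists_twist_extend [CompactSpace X] [QuasiSeparatedSpace X] (hL : PicF.IsInvertible L)
    (s : Coh.structureModule X ⟶ L) (F : X.Modules) [F.IsQuasicoherent]
    (t : Γ(F, CohB1.genLocus L s)) :
    ∃ N : ℕ, ∀ n, N ≤ n → ∃ t' : Γ(CohB1.tensorMod F (CohB1.tensorPow L n), ⊤),
      res _ le_top t' = (SecTwist.twist s n F (CohB1.genLocus L s) t :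
        Γ(CohB1.tensorMod F (CohB1.tensorPow L n), CohB1.genLocus L s)) := by
  generalize hV : CohB1.genLocus L s = V at t
  obtain ⟨ι, hι, U, σ, hU, hσ, hcov⟩ := exists_gen_cover hL (W := (⊤ : X.Opens)) isCompact_univ
  let f := fun i => coeff (hσ i) (SecTwist.val s (U i) : Γ(L, U i))
  have hf : ∀ i, f i • σ i = (SecTwist.val s (U i) : Γ(L, U i)) := fun i => coeff_spec _ _
  have hD : ∀ i, X.basicOpen (f i) = V ⊓ U i := fun i => (genLocus_inf (hσ i) s (hf i)).symm.trans (hV ▸ rfl)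
  choose N a ha using fun i => (exists_pow_of_affine (hU i) F (f i)).1 (res F ((hD i).le.trans inf_le_left) t)
  obtain ⟨K, hK⟩ := Finite.exists_le N
  let x : ℕ → ∀ i, Γ(F, U i) := fun M i => f i ^ M • f i ^ (K - N i) • a i
  have hx : ∀ M i, res F (inf_le_right : V ⊓ U i ≤ U i) (x M i) =
      resO (inf_le_right : V ⊓ U i ≤ U i) (f i) ^ (M + K) • res F (inf_le_left : V ⊓ U i ≤ V) t := by
    intro M i
    have := congrArg (res F (hD i).ge) (ha i)
    rw [res_smul, res_res, res_res, resO_resO] at this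
    simp only [x]
    rw [res_smul, res_smul, this, smul_smul, smul_smul]
    congr 1
    simp only [resO, map_pow]
    rw [← pow_add, ← pow_add, Nat.add_assoc, Nat.sub_add_cancel (hK i)]
  let z : ∀ (M : ℕ) i, Γ(CohB1.tensorMod F (CohB1.tensorPow L (M + K)), U i) := fun M i =>
    SecTwist.tmul F (CohB1.tensorPow L (M + K)) (U i) (x M i) (secPow (σ i) (M + K))
  have hz : ∀ M i, res _ (inf_le_right : V ⊓ U i ≤ U i) (z M i) =
      (SecTwist.twist s (M + K) F (V ⊓ U i) (res F inf_le_left t) : Γ(CohB1.tensorMod F (CohB1.tensorPow L (M + K)), V ⊓ U i)) := by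
    intro M i
    refine (SecTwist.map_tmul F _ (homOfLE inf_le_right) _ _).trans ?_
    rw [twist_gen s F (hf i) (M + K) inf_le_right (res F inf_le_left t)]
    exact congrArg₂ (SecTwist.tmul F (CohB1.tensorPow L (M + K)) (V ⊓ U i)) (hx M i) (res_secPow _ _ _)
  have : ∀ p : ι × ι, ∃ M₀ : ℕ, ∀ M, M₀ ≤ M →
      res _ (inf_le_left : U p.1 ⊓ U p.2 ≤ _) (z M p.1) = res _ (inf_le_right : U p.1 ⊓ U p.2 ≤ _) (z M p.2) := by
    rintro ⟨i, j⟩
    have hc := QuasiSeparatedSpace.inter_isCompact _ _ (U i).2 (hU i).isCompact (U j).2 (hU j).isCompact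
    obtain ⟨κ, hκ, A, τ, hA, hτ, hcov'⟩ := exists_gen_cover hL (W := U i ⊓ U j) hc
    have hAi : ∀ k, A k ≤ U i := fun k => ((le_iSup A k).trans hcov'.le).trans inf_le_left
    have hAj : ∀ k, A k ≤ U j := fun k => ((le_iSup A k).trans hcov'.le).trans inf_le_right
    have hg := fun k => coeff_spec (hτ k) (SecTwist.val s (A k) : Γ(L, A k))
    have key : ∀ (k : κ) (i' : ι) (h : A k ≤ U i'), ∃ y₀ : Γ(F, A k), ∀ M,
        res _ h (z M i') = SecTwist.tmul F (CohB1.tensorPow L (M + K)) (A k)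
          (coeff (hτ k) (SecTwist.val s (A k) : Γ(L, A k)) ^ M • y₀) (secPow (τ k) (M + K)) := by
      intro k i' h
      let c := coeff (hτ k) (res L h (σ i'))
      have hc : c • τ k = res L h (σ i') := coeff_spec _ _
      have hgf : coeff (hτ k) (SecTwist.val s (A k) : Γ(L, A k)) = resO h (f i') * c := coeff_eq (hτ k) (by
        rw [mul_smul, hc, ← res_smul, hf i']
        exact SecTwist.map_val s (homOfLE h))
      refine ⟨c ^ K • res F h (f i' ^ (K - N i') • a i'), fun M => ?_⟩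
      refine (SecTwist.map_tmul F _ (homOfLE h) _ _).trans ?_
      refine (congrArg₂ (SecTwist.tmul F (CohB1.tensorPow L (M + K)) (A k)) (res_smul F h (f i' ^ M) _)
        ((res_secPow h (σ i') (M + K)).trans ((congrArg (fun b => secPow b (M + K)) hc.symm).trans
          (secPow_smul c (τ k) (M + K))))).trans ?_
      refine (LTensor.tmul_smul_right _ _ (A k) _ _ _).trans ((LTensor.tmul_smul_left _ _ (A k) _ _ _).symm.trans ?_)
      refine congrArg (fun b => SecTwist.tmul F (CohB1.tensorPow L (M + K)) (A k) b (secPow (τ k) (M + K))) ?_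
      rw [hgf]
      change c ^ (M + K) • resO h (f i' ^ M) • res F h (f i' ^ (K - N i') • a i') =
        (resO h (f i') * c) ^ M • c ^ K • res F h (f i' ^ (K - N i') • a i')
      rw [smul_smul, smul_smul]
      congr 1
      simp only [resO, map_pow]
      ring
    choose yi hyi using fun k => key k i (hAi k)
    choose yj hyj using fun k => key k j (hAj k)
    have hd : ∀ k, ∃ M₀, coeff (hτ k) (SecTwist.val s (A k) : Γ(L, A k)) ^ M₀ • (yi k - yj k) = 0 := by
      intro k
      refine (exists_pow_of_affine (hA k) F _).2 _ ((map_sub (F.presheaf.map _).hom _ _).trans (sub_eq_zero.2 ?_))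
      have hB : X.basicOpen (coeff (hτ k) (SecTwist.val s (A k) : Γ(L, A k))) = V ⊓ A k :=
        (genLocus_inf (hτ k) s (hg k)).symm.trans (hV ▸ rfl)
      have hb := basicOpen_le_open (coeff (hτ k) (SecTwist.val s (A k) : Γ(L, A k)))
      refine (tmul_secPow_bijective F (hτ k) (0 + K) hb).1 ?_
      have e : ∀ (i' : ι) (h : A k ≤ U i') (y₀ : Γ(F, A k)),
          (res _ h (z 0 i') = SecTwist.tmul F (CohB1.tensorPow L (0 + K)) (A k)
            (coeff (hτ k) (SecTwist.val s (A k) : Γ(L, A k)) ^ 0 • y₀) (secPow (τ k) (0 + K))) →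
          SecTwist.tmul F (CohB1.tensorPow L (0 + K)) _ (res F hb y₀) (secPow (res L hb (τ k)) (0 + K)) =
            (SecTwist.twist s (0 + K) F _ (res F (hB.le.trans inf_le_left) t) :
              Γ(CohB1.tensorMod F (CohB1.tensorPow L (0 + K)), X.basicOpen (coeff (hτ k) (SecTwist.val s (A k) : Γ(L, A k))))) := by
        intro i' h y₀ hy
        rw [pow_zero, one_smul] at hy
        rw [← res_secPow]
        refine (SecTwist.map_tmul F _ (homOfLE hb) y₀ _).symm.trans ?_
        refine (congrArg (res _ hb) hy.symm).trans ((res_res _ h hb _).trans ?_)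
        refine (res_res _ inf_le_right (hB.le.trans (inf_le_inf_left _ h)) (z 0 i')).symm.trans ?_
        rw [hz 0 i']
        refine (SecTwist.map_twist s (0 + K) F (homOfLE (hB.le.trans (inf_le_inf_left _ h))) _).trans ?_
        exact congrArg (SecTwist.twist s (0 + K) F _) (res_res F inf_le_left _ t)
      exact (e i (hAi k) (yi k) (hyi k 0)).trans (e j (hAj k) (yj k) (hyj k 0)).symm
    choose M₀ hM₀ using hd
    obtain ⟨M₁, hM₁⟩ := Finite.exists_le M₀
    refine ⟨M₁, fun M hM => eq_of_cover _ A hcov' fun k => ?_⟩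
    rw [res_res, res_res, hyi k M, hyj k M]
    congr 1
    refine sub_eq_zero.1 ((smul_sub (coeff (hτ k) (SecTwist.val s (A k) : Γ(L, A k)) ^ M) (yi k) (yj k)).symm.trans ?_)
    rw [← Nat.sub_add_cancel ((hM₁ k).trans hM), pow_add, mul_smul, hM₀ k]
    exact smul_zero _
  choose M₀ hM₀ using this
  obtain ⟨M₁, hM₁⟩ := Finite.exists_le M₀
  refine ⟨M₁ + K, fun n hn => ?_⟩
  obtain ⟨M, rfl, hM⟩ : ∃ M, n = M + K ∧ M₁ ≤ M := ⟨n - K, by omega, by omega⟩
  obtain ⟨t', ht'⟩ := exists_glue _ U hcov (z M) (fun i j => hM₀ (i, j) M ((hM₁ (i, j)).trans hM))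
  refine ⟨t', eq_of_cover _ (fun i => V ⊓ U i) ?_ fun i => ?_⟩
  · rw [← inf_iSup_eq, hcov, inf_top_eq]
  · rw [res_res, ← res_res _ ((le_iSup U i).trans hcov.le) (inf_le_right : V ⊓ U i ≤ _) t', ht' i, hz]
    exact (SecTwist.map_twist s (M + K) F (homOfLE _) t).symm

end Groth.Agent.LTwist
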