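import Mathlib

/-!
Finite unramified morphisms with a one-point fibre with trivial residue extension.
-/

universe u

open TensorProduct

namespace Groth.Agent.LUnramPoint

theorem exists_smul_mem_range (R A : Type u) [CommRing R] [CommRing A] [Algebra R A]
    [Module.Finite R A] [Algebra.FormallyUnramified R A] (p : Ideal R) [p.IsPrime] (q : Ideal A)
    (huniq : ∀ Q : Ideal A, Q.IsPrime → Q.comap (algebraMap R A) = p → Q = q)
    (hgen : ∀ a : A, ∃ t r : R, t ∉ p ∧ t • a - algebraMap R A r ∈ q) :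
    ∃ g : R, g ∉ p ∧ ∀ a : A, ∃ r : R, g • a = algebraMap R A r := by
  let Q := A ⧸ LinearMap.range (Algebra.linearMap R A)
  let K := p.ResidueField
  let B := p.Fiber A
  have : IsReduced B := Algebra.FormallyUnramified.isReduced_of_field K B
  let i : A →ₐ[R] B := Algebra.TensorProduct.includeRight
  have hkill : ∀ z ∈ q, i z = 0 := by
    intro z hz
    refine IsNilpotent.eq_zero ?_
    rw [nilpotent_iff_mem_prime]
    intro P hP
    have h2 := (PrimeSpectrum.primesOverOrderIsoFiber R A p).symm ⟨P, hP⟩ |>.2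
    have h3 : (P.comap i).comap (algebraMap R A) = p := by
      exact h2.2.over.symm
    have := huniq (P.comap i) inferInstance h3
    rw [← this] at hz
    exact hz
  have hspan : ∀ a : A, ∃ c : K, i a = c ⊗ₜ[R] (1 : A) := by
    intro a
    obtain ⟨t, r, ht, hm⟩ := hgen a
    have h := hkill _ hm
    rw [map_sub, map_smul, sub_eq_zero, AlgHom.commutes] at h
    have htK : algebraMap R K t ≠ 0 := by simpa [K, Ideal.algebraMap_residueField_eq_zero] using ht
    refine ⟨algebraMap R K r / algebraMap R K t, ?_⟩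
    have h2 : algebraMap R K t • i a = (algebraMap R K r) ⊗ₜ[R] (1 : A) := by
      rw [algebraMap_smul, h, Algebra.TensorProduct.algebraMap_apply]
    calc i a = (algebraMap R K t)⁻¹ • (algebraMap R K t • i a) := (inv_smul_smul₀ htK _).symm
      _ = _ := by rw [h2, smul_tmul', smul_eq_mul, div_eq_inv_mul]
  have hsub : Subsingleton (K ⊗[R] Q) := by
    refine subsingleton_of_forall_eq 0 fun w => ?_
    induction w using TensorProduct.induction_on with
    | zero => rfl
    | add x y hx hy => rw [hx, hy, add_zero]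
    | tmul c y =>
      obtain ⟨a, rfl⟩ := Submodule.Quotient.mk_surjective _ y
      obtain ⟨d, hd⟩ := hspan a
      have h1 : (1 : K) ⊗ₜ[R] Submodule.mkQ (LinearMap.range (Algebra.linearMap R A)) a = 0 := by
        have := congr((Submodule.mkQ (LinearMap.range (Algebra.linearMap R A))).lTensor K $hd)
        simp only [i, Algebra.TensorProduct.includeRight_apply] at this
        erw [LinearMap.lTensor_tmul, LinearMap.lTensor_tmul] at this
        rw [this, show Submodule.mkQ (LinearMap.range (Algebra.linearMap R A)) (1 : A) = 0 from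
          (Submodule.Quotient.mk_eq_zero _).2 ⟨1, by simp⟩, TensorProduct.tmul_zero]
      calc c ⊗ₜ[R] Submodule.Quotient.mk a = c • ((1 : K) ⊗ₜ[R] Submodule.mkQ _ a) := by
            simp [smul_tmul', K]
        _ = 0 := by rw [h1, smul_zero]
  have hnot : (⟨p, inferInstance⟩ : PrimeSpectrum R) ∉ Module.support R Q := by
    rw [Module.mem_support_iff_nontrivial_residueField_tensorProduct, not_nontrivial_iff_subsingleton]
    exact hsub
  rw [Module.support_eq_zeroLocus, PrimeSpectrum.mem_zeroLocus, Set.not_subset] at hnot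
  obtain ⟨g, hg, hgp⟩ := hnot
  refine ⟨g, hgp, fun a => ?_⟩
  have := Module.mem_annihilator.1 hg (Submodule.Quotient.mk a)
  rw [← Submodule.Quotient.mk_smul, Submodule.Quotient.mk_eq_zero] at this
  obtain ⟨r, hr⟩ := this
  exact ⟨r, hr.symm⟩

open AlgebraicGeometry CategoryTheory in
theorem exists_closedImmersion {X S : Scheme.{u}} (f : X ⟶ S) [IsFinite f] [FormallyUnramified f]
    (s : S) (x : X) (hx : f.base ⁻¹' {s} = {x}) (hκ : Function.Surjective (f.residueFieldMap x)) :
    ∃ U : S.Opens, s ∈ U ∧ ∀ U' : S.Opens, U' ≤ U → IsClosedImmersion (f ∣_ U') := by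
  obtain ⟨_, ⟨V, hV, rfl⟩, hsV, -⟩ :=
    S.isBasis_affineOpens.exists_subset_of_mem_open (Set.mem_univ s) isOpen_univ
  have hxs : f x = s := by
    have : x ∈ f.base ⁻¹' {s} := hx ▸ Set.mem_singleton x
    simpa using this
  subst hxs
  let W := f ⁻¹ᵁ V
  have hW : IsAffineOpen W := hV.preimage f
  algebraize [(f.app V).hom]
  have hfin : Module.Finite Γ(S, V) Γ(X, W) := by
    have := f.finite_app (U := V) hV
    exact RingHom.finite_algebraMap.mp this
  have hun : Algebra.FormallyUnramified Γ(S, V) Γ(X, W) := by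
    have := HasRingHomProperty.appLE (P := @FormallyUnramified) f ‹_› ⟨V, hV⟩ ⟨W, hW⟩ le_rfl
    rw [← Scheme.Hom.app_eq_appLE] at this
    exact this
  let p := (hV.primeIdealOf ⟨f x, hsV⟩).asIdeal
  let q := (hW.primeIdealOf ⟨x, hsV⟩).asIdeal
  have huniq : ∀ Q : Ideal Γ(X, W), Q.IsPrime → Q.comap (algebraMap Γ(S, V) Γ(X, W)) = p → Q = q := by
    intro Q hQ hQp
    let Qp : Spec Γ(X, W) := ⟨Q, hQ⟩
    have e1 : f (hW.fromSpec Qp) = f x := by
      have h1 := congr($(hV.SpecMap_appLE_fromSpec f hW le_rfl).base Qp)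
      simp only [Scheme.Hom.comp_base, TopCat.comp_app] at h1
      refine (h1.symm.trans ?_).trans (IsAffineOpen.fromSpec_primeIdealOf hV ⟨f x, hsV⟩)
      congr 1
      apply PrimeSpectrum.ext
      rw [← Scheme.Hom.app_eq_appLE]
      exact hQp
    have e2 : hW.fromSpec Qp = x := by
      have h : hW.fromSpec Qp ∈ f.base ⁻¹' {f x} := e1
      rw [hx] at h; exact h
    have e2 := e2.trans (hW.fromSpec_primeIdealOf ⟨x, hsV⟩).symm
    exact congr(PrimeSpectrum.asIdeal $(hW.fromSpec.isOpenEmbedding.injective e2))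
  have hgen : ∀ a : Γ(X, W), ∃ t r : Γ(S, V), t ∉ p ∧ t • a - algebraMap _ _ r ∈ q := by
    intro a
    obtain ⟨c, hc⟩ := hκ (X.evaluation W x hsV a)
    obtain ⟨c', hc'⟩ := S.residue_surjective (f x) c
    haveI := hV.isLocalization_stalk ⟨f x, hsV⟩
    let := TopCat.Presheaf.algebra_section_stalk S.presheaf ⟨f x, hsV⟩
    obtain ⟨⟨r, t⟩, hrt⟩ := IsLocalization.surj p.primeCompl c'
    refine ⟨t, r, t.2, ?_⟩
    have key : ∀ (z : Γ(X, W)), z ∈ q ↔ X.evaluation W x hsV z = 0 := by
      intro z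
      rw [Scheme.evaluation_eq_zero_iff_notMem_basicOpen]
      have h1 : (hW.primeIdealOf ⟨x, hsV⟩ ∈ hW.fromSpec ⁻¹ᵁ X.basicOpen z) ↔ z ∉ q := by
        rw [hW.fromSpec_preimage_basicOpen z]; exact PrimeSpectrum.mem_basicOpen _ _
      have h2 : (hW.primeIdealOf ⟨x, hsV⟩ ∈ hW.fromSpec ⁻¹ᵁ X.basicOpen z) ↔ x ∈ X.basicOpen z := by
        change hW.fromSpec _ ∈ X.basicOpen z ↔ _
        rw [hW.fromSpec_primeIdealOf]
      tauto
    rw [key, map_sub, sub_eq_zero, Algebra.smul_def, map_mul]
    have hnat : ∀ w, X.evaluation W x hsV (algebraMap Γ(S, V) Γ(X, W) w) =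
        f.residueFieldMap x (S.evaluation V (f x) hsV w) := fun w =>
      (Scheme.evaluation_naturality_apply f x hsV w).symm
    rw [hnat, hnat, ← hc, ← map_mul]
    congr 1
    rw [← hc']
    have := congr((S.residue (f x)).hom $hrt)
    rw [map_mul] at this
    rw [mul_comm]
    exact this
  obtain ⟨g, hgp, hg⟩ := exists_smul_mem_range Γ(S, V) Γ(X, W) p q huniq hgen
  refine ⟨S.basicOpen g, ?_, ?_⟩
  · by_contra hns
    have h1 : (IsAffineOpen.primeIdealOf hV ⟨f x, hsV⟩ ∈ (IsAffineOpen.fromSpec hV) ⁻¹ᵁ S.basicOpen g) := by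
      rw [IsAffineOpen.fromSpec_preimage_basicOpen hV g]; exact hgp
    change IsAffineOpen.fromSpec hV _ ∈ S.basicOpen g at h1
    rw [IsAffineOpen.fromSpec_primeIdealOf] at h1
    exact hns h1
  intro U' hU'
  suffices h : IsClosedImmersion (f ∣_ S.basicOpen g) by
    have sq : IsPullback (X.homOfLE (f.preimage_mono hU')) (f ∣_ U') (f ∣_ S.basicOpen g) (S.homOfLE hU') := by
      refine IsPullback.of_right ?_ (morphismRestrict_homOfLE f U' _ hU').symm
        (isPullback_morphismRestrict f (S.basicOpen g)).flip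
      simp only [Scheme.homOfLE_ι]
      exact (isPullback_morphismRestrict f U').flip
    exact MorphismProperty.of_isPullback (P := @IsClosedImmersion) sq h
  have hD : IsAffineOpen (S.basicOpen g) := hV.basicOpen g
  haveI : IsAffine (S.basicOpen g : Scheme.{u}) := hD
  rw [HasAffineProperty.iff_of_isAffine (P := @IsClosedImmersion)]
  refine ⟨(hD.preimage f), ?_⟩
  have key : Function.Surjective (f.app (S.basicOpen g)) := by
    intro y
    have heq : f ⁻¹ᵁ S.basicOpen g = X.basicOpen (f.app V g) := Scheme.preimage_basicOpen f g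
    have hloc := hW.isLocalization_basicOpen (f.app V g)
    let y' := X.presheaf.map (eqToHom heq.symm).op y
    obtain ⟨n, a, ha⟩ := IsLocalization.Away.surj (f.app V g) y'
    obtain ⟨r, hr⟩ := hg a
    have hu : IsUnit (S.presheaf.map (homOfLE (S.basicOpen_le g)).op g) :=
      RingedSpace.isUnit_res_basicOpen _ g
    obtain ⟨gu, hgu⟩ := hu
    refine ⟨((gu⁻¹) ^ (n + 1) : Units _) * S.presheaf.map (homOfLE (S.basicOpen_le g)).op r, ?_⟩
    apply (ConcreteCategory.bijective_of_isIso (X.presheaf.map (eqToHom heq.symm).op)).1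
    let ψ := (f.app (S.basicOpen g) ≫ X.presheaf.map (eqToHom heq.symm).op).hom
    have hψ : ∀ z : Γ(S, V), ψ (S.presheaf.map (homOfLE (S.basicOpen_le g)).op z) =
        algebraMap Γ(X, W) Γ(X, X.basicOpen (f.app V g)) (f.app V z) := by
      intro z
      change (S.presheaf.map _ ≫ f.app (S.basicOpen g) ≫ X.presheaf.map _) z = _
      rw [Scheme.Hom.naturality_assoc, ← Functor.map_comp]
      rfl
    change ψ _ = y'
    have hg' : ψ gu = algebraMap Γ(X, W) Γ(X, X.basicOpen (f.app V g)) (f.app V g) := by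
      rw [hgu, hψ]
    rw [map_mul, hψ, mul_comm]
    have hr' : f.app V g * a = f.app V r := hr
    rw [← hr', map_mul, ← ha]
    have hone : ψ ((gu⁻¹ ^ (n + 1) : Units _) : Γ(S, S.basicOpen g)) * ψ gu ^ (n + 1) = 1 := by
      rw [← map_pow, ← map_mul, ← Units.val_pow_eq_pow_val, ← Units.val_mul, inv_pow, inv_mul_cancel,
        Units.val_one, map_one]
    rw [← hg'] at *
    calc ψ gu * (y' * ψ gu ^ n) * ψ ((gu⁻¹ ^ (n + 1) : Units _) : Γ(S, S.basicOpen g))
        = y' * (ψ ((gu⁻¹ ^ (n + 1) : Units _) : Γ(S, S.basicOpen g)) * ψ gu ^ (n + 1)) := by ring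
      _ = y' := by rw [hone, mul_one]
  have hU : (S.basicOpen g).ι ''ᵁ ⊤ = S.basicOpen g := Scheme.Opens.ι_image_top _
  rw [morphismRestrict_appTop]
  intro z
  obtain ⟨w, hw⟩ := (ConcreteCategory.bijective_of_isIso
    (X.presheaf.map (eqToHom (image_morphismRestrict_preimage f (S.basicOpen g) ⊤)).op)).2 z
  have key' : Function.Surjective (f.app ((S.basicOpen g).ι ''ᵁ ⊤)) := by rw [hU]; exact key
  obtain ⟨v, hv⟩ := key' w
  exact ⟨v, by rw [← hw, ← hv]; rfl⟩

end Groth.Agent.LUnramPoint
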