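import Mathlib
import Groth.Prelude.Def_W4c1liftfrobW2

/-! flat liftings over `W₂(k)`, `k` perfect -/

set_option autoImplicit false
universe u v
open TensorProduct

namespace Groth.Agent.LW2

variable (p : ℕ) [Fact p.Prime] {k : Type u} [CommRing k] [CharP k p]

theorem res_p : FrobAlg.res p k (p : FrobAlg.W2 p k) = 0 := by
  rw [map_natCast, CharP.cast_eq_zero]

theorem p_sq : (p : FrobAlg.W2 p k) * (p : FrobAlg.W2 p k) = 0 := by
  have : (p : FrobAlg.W2 p k) * (p : FrobAlg.W2 p k) = WittVector.truncate 2 ((1 : WittVector p k) * (p : WittVector p k) ^ 2) := by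
    simp [sq]
  rw [this]
  refine TruncatedWittVector.ext fun i => ?_
  rw [WittVector.coeff_truncate, WittVector.mul_pow_charP_coeff_zero _ i.2, TruncatedWittVector.coeff_zero]

theorem res_eq_zero_iff [PerfectRing k p] {x : FrobAlg.W2 p k} :
    FrobAlg.res p k x = 0 ↔ ∃ z, x = (p : FrobAlg.W2 p k) * z := by
  constructor
  · intro h
    rw [FrobAlg.res_apply] at h
    obtain ⟨y, hy⟩ := (frobeniusEquiv k p).surjective (x.coeff 1)
    refine ⟨WittVector.truncate 2 (WittVector.teichmuller p y), ?_⟩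
    have e : (p : FrobAlg.W2 p k) * WittVector.truncate 2 (WittVector.teichmuller p y) =
        WittVector.truncate 2 (WittVector.teichmuller p y * (p : WittVector p k)) := by
      simp [mul_comm]
    rw [e]
    refine TruncatedWittVector.ext fun i => ?_
    rw [WittVector.coeff_truncate]
    fin_cases i
    · simp [WittVector.mul_charP_coeff_zero, h]
    · simpa [WittVector.mul_charP_coeff_succ, frobenius_def] using hy.symm
  · rintro ⟨z, rfl⟩
    rw [map_mul, res_p, zero_mul]

theorem res_eq_zero_of_p_mul [IsReduced k] {z : FrobAlg.W2 p k} (h : (p : FrobAlg.W2 p k) * z = 0) :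
    FrobAlg.res p k z = 0 := by
  obtain ⟨Z, rfl⟩ := WittVector.truncate_surjective p 2 k z
  have e : (p : FrobAlg.W2 p k) * WittVector.truncate 2 Z = WittVector.truncate 2 (Z * (p : WittVector p k)) := by
    simp [mul_comm]
  rw [e] at h
  have h1 := congrArg (TruncatedWittVector.coeff 1) h
  rw [WittVector.coeff_truncate, TruncatedWittVector.coeff_zero] at h1
  rw [FrobAlg.res_apply, WittVector.coeff_truncate]
  refine IsReduced.eq_zero _ ⟨p, ?_⟩
  simpa [WittVector.mul_charP_coeff_succ] using h1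

theorem ker_res [PerfectRing k p] : RingHom.ker (FrobAlg.res p k) = Ideal.span {(p : FrobAlg.W2 p k)} := by
  ext x
  rw [RingHom.mem_ker, res_eq_zero_iff, Ideal.mem_span_singleton']
  exact exists_congr fun z => by rw [mul_comm]; exact eq_comm

/-- if `ann p = pM` then `M` is flat over `W₂(k)` -/
theorem flat_of_ann (F : Type u) [Field F] [CharP F p] [PerfectRing F p] (M : Type v) [AddCommGroup M] [Module (FrobAlg.W2 p F) M]
    (hM : ∀ x : M, (p : FrobAlg.W2 p F) • x = 0 → ∃ y : M, x = (p : FrobAlg.W2 p F) • y) :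
    Module.Flat (FrobAlg.W2 p F) M := by
  rw [Module.Flat.iff_rTensor_injective']
  intro I
  by_cases h1 : ∃ x ∈ I, FrobAlg.res p F x ≠ 0
  · obtain ⟨x, hx, hx0⟩ := h1
    have hu : IsUnit x := by
      obtain ⟨y, hy⟩ : ∃ y : FrobAlg.W2 p F, FrobAlg.res p F y = (FrobAlg.res p F x)⁻¹ :=
        ⟨WittVector.truncate 2 (WittVector.teichmuller p _), by rw [FrobAlg.res_truncate, WittVector.teichmuller_coeff_zero]⟩
      have h2 : FrobAlg.res p F (x * y - 1) = 0 := by rw [map_sub, map_mul, hy, map_one, mul_inv_cancel₀ hx0, sub_self]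
      obtain ⟨z, hz⟩ := (res_eq_zero_iff p).1 h2
      have : IsUnit (x * y) := by
        rw [show x * y = 1 + (p : FrobAlg.W2 p F) * z by rw [← hz]; ring]
        exact IsNilpotent.isUnit_one_add ⟨2, by rw [sq, mul_mul_mul_comm, p_sq, zero_mul]⟩
      exact isUnit_of_mul_isUnit_left this
    have hI : I = ⊤ := Ideal.eq_top_of_isUnit_mem _ hx hu
    subst hI
    rw [show (⊤ : Ideal (FrobAlg.W2 p F)).subtype = (Submodule.topEquiv.toLinearMap) from rfl]
    exact (LinearEquiv.rTensor M Submodule.topEquiv).injective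
  push Not at h1
  by_cases h2 : ∀ x ∈ I, x = 0
  · have : Subsingleton I := ⟨fun a b => Subtype.ext (by rw [h2 _ a.2, h2 _ b.2])⟩
    exact Function.injective_of_subsingleton _
  push Not at h2
  obtain ⟨x, hx, hx0⟩ := h2
  obtain ⟨z, rfl⟩ := (res_eq_zero_iff p).1 (h1 x hx)
  have hp : (p : FrobAlg.W2 p F) ∈ I := by
    obtain ⟨y, hy⟩ : ∃ y : FrobAlg.W2 p F, FrobAlg.res p F y = (FrobAlg.res p F z)⁻¹ :=
      ⟨WittVector.truncate 2 (WittVector.teichmuller p _), by rw [FrobAlg.res_truncate, WittVector.teichmuller_coeff_zero]⟩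
    have hz0 : FrobAlg.res p F z ≠ 0 := by
      intro h
      obtain ⟨w, rfl⟩ := (res_eq_zero_iff p).1 h
      exact hx0 (by rw [← mul_assoc, p_sq, zero_mul])
    have h3 : FrobAlg.res p F (y * z - 1) = 0 := by rw [map_sub, map_mul, hy, map_one, inv_mul_cancel₀ hz0, sub_self]
    obtain ⟨w, hw⟩ := (res_eq_zero_iff p).1 h3
    have : (p : FrobAlg.W2 p F) = y * ((p : FrobAlg.W2 p F) * z) := by
      rw [sub_eq_iff_eq_add] at hw
      rw [show y * ((p : FrobAlg.W2 p F) * z) = (p : FrobAlg.W2 p F) * (y * z) by ring, hw, mul_add, ← mul_assoc, p_sq, zero_mul, zero_add, mul_one]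
    rw [this]
    exact I.mul_mem_left _ hx
  rw [injective_iff_map_eq_zero]
  intro t ht
  obtain ⟨m, rfl⟩ : ∃ m : M, t = (⟨_, hp⟩ : I) ⊗ₜ m := by
    clear ht
    induction t using TensorProduct.induction_on with
    | zero => exact ⟨0, by rw [tmul_zero]⟩
    | tmul a b =>
      obtain ⟨w, hw⟩ := (res_eq_zero_iff p).1 (h1 a a.2)
      refine ⟨w • b, ?_⟩
      rw [← smul_tmul]
      exact congrArg (· ⊗ₜ b) (Subtype.ext (hw.trans (mul_comm _ _)))
    | add a b ha hb =>
      obtain ⟨m, rfl⟩ : ∃ m : M, a = (⟨_, hp⟩ : I) ⊗ₜ m := ha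
      obtain ⟨m', rfl⟩ : ∃ m : M, b = (⟨_, hp⟩ : I) ⊗ₜ m := hb
      exact ⟨m + m', by rw [tmul_add]⟩
  have h4 : (p : FrobAlg.W2 p F) • m = 0 := by
    simpa using congrArg (TensorProduct.lid (FrobAlg.W2 p F) M) ht
  obtain ⟨y, rfl⟩ := hM m h4
  rw [← smul_tmul]
  have : (p : FrobAlg.W2 p F) • (⟨_, hp⟩ : I) = 0 := Subtype.ext (p_sq p)
  rw [this, zero_tmul]

end Groth.Agent.LW2

namespace Groth.Agent.LW2

variable (p : ℕ) [Fact p.Prime] {k : Type u} [Field k] [CharP k p] [PerfectRing k p]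
  {A : Type v} [CommRing A] [Algebra k A] {A' : Type v} [CommRing A'] {ι : FrobAlg.W2 p k →+* A'} {π : A' →+* A}
  (h : FrobAlg.IsLift p k A A' ι π)

include h

theorem pi_eq_zero_iff {x : A'} : π x = 0 ↔ ∃ y, x = (p : A') * y := by
  rw [← RingHom.mem_ker, h.ker_eq, ker_res, Ideal.map_span, Set.image_singleton, map_natCast,
    Ideal.mem_span_singleton']
  exact exists_congr fun z => by rw [mul_comm]; exact eq_comm

theorem pi_eq_zero_of_p_mul {x : A'} (hx : (p : A') * x = 0) : π x = 0 := by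
  letI := ι.toAlgebra
  haveI : Module.Flat (FrobAlg.W2 p k) A' := h.flat
  have h0 : ∑ _i : Unit, (p : FrobAlg.W2 p k) • x = 0 := by
    rw [Fintype.sum_unique, Algebra.smul_def, map_natCast, hx]
  obtain ⟨n, a, y, hxy, ha⟩ := Module.Flat.isTrivialRelation_of_sum_smul_eq_zero (R := FrobAlg.W2 p k) (M := A')
    (f := fun _ : Unit => (p : FrobAlg.W2 p k)) (x := fun _ => x) h0
  have hxy' : x = ∑ j, a () j • y j := hxy ()
  rw [hxy', map_sum]
  refine Finset.sum_eq_zero fun j _ => ?_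
  have h1 := ha j
  rw [Fintype.sum_unique] at h1
  rw [Algebra.smul_def, map_mul]
  have h2 : π (algebraMap (FrobAlg.W2 p k) A' (a () j)) = algebraMap k A (FrobAlg.res p k (a () j)) :=
    RingHom.congr_fun h.comm _
  rw [h2, res_eq_zero_of_p_mul p h1, map_zero, zero_mul]

theorem p_mul_eq {x y : A'} (hxy : π x = π y) : (p : A') * x = (p : A') * y := by
  obtain ⟨z, hz⟩ := (pi_eq_zero_iff p h).1 (show π (x - y) = 0 by rw [map_sub, hxy, sub_self])
  have : (p : A') * (p : A') = 0 := by rw [← map_natCast ι, ← map_mul, p_sq, map_zero]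
  rw [← sub_eq_zero, ← mul_sub, hz, ← mul_assoc, this, zero_mul]

end Groth.Agent.LW2
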