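import Mathlib
import Groth.Prelude.Def_W4c1liftfrobW2
import Groth.Agent.Lib.LW2

/-! `W₂(A)` for an algebra of characteristic `p` -/

set_option autoImplicit false
universe u v

namespace Groth.Agent.LW2

variable (p : ℕ) [Fact p.Prime] {A : Type v} [CommRing A]

theorem coeff_add_of_res {x y : FrobAlg.W2 p A} (hx : FrobAlg.res p A x = 0) (hy : FrobAlg.res p A y = 0) :
    (x + y).coeff 1 = x.coeff 1 + y.coeff 1 := by
  obtain ⟨X, rfl⟩ := WittVector.truncate_surjective p 2 A x
  obtain ⟨Y, rfl⟩ := WittVector.truncate_surjective p 2 A y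
  rw [FrobAlg.res_truncate] at hx hy
  rw [WittVector.eq_iterate_verschiebung (x := X) (n := 1) (fun i hi => by rwa [Nat.lt_one_iff.1 hi]),
    WittVector.eq_iterate_verschiebung (x := Y) (n := 1) (fun i hi => by rwa [Nat.lt_one_iff.1 hi])]
  simp only [Function.iterate_one, ← map_add, WittVector.coeff_truncate, Fin.val_one, WittVector.verschiebung_coeff_succ,
    WittVector.add_coeff_zero]

variable [CharP A p]

theorem coeff_mul_of_res (x : FrobAlg.W2 p A) {y : FrobAlg.W2 p A} (hy : FrobAlg.res p A y = 0) :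
    (x * y).coeff 1 = FrobAlg.res p A x ^ p * y.coeff 1 := by
  obtain ⟨X, rfl⟩ := WittVector.truncate_surjective p 2 A x
  obtain ⟨Y, rfl⟩ := WittVector.truncate_surjective p 2 A y
  rw [FrobAlg.res_truncate] at hy ⊢
  rw [WittVector.eq_iterate_verschiebung (x := Y) (n := 1) (fun i hi => by rwa [Nat.lt_one_iff.1 hi]),
    mul_comm (WittVector.truncate 2 X)]
  simp only [Function.iterate_one, ← map_mul, ← WittVector.verschiebung_mul_frobenius, WittVector.coeff_truncate,
    Fin.val_one, WittVector.verschiebung_coeff_succ, WittVector.mul_coeff_zero, WittVector.coeff_frobenius_charP]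
  ring

theorem res_p_mul (x : FrobAlg.W2 p A) : FrobAlg.res p A ((p : FrobAlg.W2 p A) * x) = 0 := by
  rw [map_mul, map_natCast, CharP.cast_eq_zero, zero_mul]

theorem coeff_p_mul (x : FrobAlg.W2 p A) : ((p : FrobAlg.W2 p A) * x).coeff 1 = FrobAlg.res p A x ^ p := by
  obtain ⟨X, rfl⟩ := WittVector.truncate_surjective p 2 A x
  have e : (p : FrobAlg.W2 p A) * WittVector.truncate 2 X = WittVector.truncate 2 (X * (p : WittVector p A)) := by
    simp [mul_comm]
  rw [e, WittVector.coeff_truncate, FrobAlg.res_truncate, Fin.val_one, WittVector.mul_charP_coeff_succ]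

theorem ext_of_res {x y : FrobAlg.W2 p A} (h0 : FrobAlg.res p A x = FrobAlg.res p A y) (h1 : x.coeff 1 = y.coeff 1) : x = y := by
  rw [FrobAlg.res_apply, FrobAlg.res_apply] at h0
  refine TruncatedWittVector.ext fun i => ?_
  fin_cases i
  exacts [h0, h1]

omit [CharP A p] in
theorem res_surjective : Function.Surjective (FrobAlg.res p A) := fun a =>
  ⟨WittVector.truncate 2 (WittVector.teichmuller p a), by rw [FrobAlg.res_truncate, WittVector.teichmuller_coeff_zero]⟩

end Groth.Agent.LW2

namespace Groth.Agent.LW2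

/-- `(a₀, a₁) ↦ ã₀^p + p ã₁` -/
theorem exists_ghost (p : ℕ) [Fact p.Prime] {k : Type u} [Field k] [CharP k p] [PerfectRing k p]
    {A : Type v} [CommRing A] [Algebra k A] {B : Type v} [CommRing B] {ι : FrobAlg.W2 p k →+* B} {π : B →+* A}
    (h : FrobAlg.IsLift p k A B ι π) :
    ∃ gh : FrobAlg.W2 p A →+* B, ∀ X : WittVector p B,
      gh (WittVector.truncate 2 (WittVector.map π X)) = X.coeff 0 ^ p + (p : B) * X.coeff 1 := by
  have hgc : ∀ X : WittVector p B, WittVector.ghostComponent 1 X = X.coeff 0 ^ p + (p : B) * X.coeff 1 := fun X => by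
    rw [WittVector.ghostComponent_apply, wittPolynomial_one]
    simp [add_comm]
  let t : WittVector p B →+* FrobAlg.W2 p A := (WittVector.truncate 2).comp (WittVector.map π)
  have ht : Function.Surjective t :=
    (WittVector.truncate_surjective p 2 A).comp (WittVector.map_surjective π h.surj)
  have hker : RingHom.ker t ≤ RingHom.ker (WittVector.ghostComponent (p := p) (R := B) 1) := by
    intro X hX
    have hc : ∀ i : Fin 2, π (X.coeff i) = 0 := fun i => by
      have := congrArg (TruncatedWittVector.coeff i) (RingHom.mem_ker.1 hX)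
      rwa [RingHom.comp_apply, WittVector.coeff_truncate, WittVector.map_coeff, TruncatedWittVector.coeff_zero] at this
    rw [RingHom.mem_ker, hgc]
    obtain ⟨y, hy⟩ := (pi_eq_zero_iff p h).1 (hc 0)
    have hpp : (p : B) * (p : B) = 0 := by rw [← map_natCast ι, ← map_mul, p_sq, map_zero]
    have h2 : (p : B) ^ p = 0 := pow_eq_zero_of_le (Fact.out : p.Prime).two_le (by rw [sq, hpp])
    have h3 : (p : B) * X.coeff 1 = 0 := by
      rw [p_mul_eq p h (show π (X.coeff 1) = π 0 by simpa using hc 1), mul_zero]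
    rw [show X.coeff 0 = (p : B) * y from hy, mul_pow, h2, h3, zero_mul, add_zero]
  refine ⟨RingHom.liftOfSurjective t ht ⟨_, hker⟩, fun X => ?_⟩
  exact (RingHom.liftOfRightInverse_comp_apply _ _ _ _ X).trans (hgc X)

end Groth.Agent.LW2
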