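/-
The Basic Inequality on weighted multigraphs.
-/
import Groth.Prelude.Def_W4c4cptpiccptjacBI
import Mathlib.Tactic.Linarith
import Mathlib.Algebra.Order.Ring.Abs
import Mathlib.Tactic.Ring
import Mathlib.Tactic.LinearCombination
import Mathlib.Order.Interval.Finset.Nat
import Mathlib.Data.Int.Interval
import Mathlib.Algebra.BigOperators.Ring.Finset
import Mathlib.Algebra.Order.BigOperators.Group.Finset
import Mathlib.Data.Fintype.Lattice
import Mathlib.Data.Int.LeastGreatest

set_option autoImplicit false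
set_option linter.unusedSectionVars false

universe u
open Finset

namespace LabGraphBI

variable {V E : Type u} [Fintype V] [Fintype E] [DecidableEq V] [DecidableEq E]

/-- Indicator function of a vertex set. -/
def ind (Y : Finset V) (v : V) : ℤ := if v ∈ Y then 1 else 0

/-- Difference along an edge. -/
def dl (ends : E → V × V) (φ : V → ℤ) (e : E) : ℤ := φ (ends e).1 - φ (ends e).2

variable {ends : E → V × V} {w : V → ℕ}

lemma sum_ind_mul (Y : Finset V) (a : V → ℤ) : ∑ v, ind Y v * a v = ∑ v ∈ Y, a v := by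
  simp [ind]

lemma sum_mul_twist (ψ φ : V → ℤ) :
    ∑ v, ψ v * LabGraph.twist ends φ v = -∑ e, dl ends ψ e * dl ends φ e := by
  unfold LabGraph.twist
  simp only [mul_sum]
  rw [sum_comm, ← sum_neg_distrib]
  refine sum_congr rfl fun e _ => ?_
  simp only [mul_add, sum_add_distrib, mul_ite, mul_zero, sum_ite_eq, mem_univ, if_true, dl]
  ring

lemma sum_twist (Y : Finset V) (φ : V → ℤ) :
    ∑ v ∈ Y, LabGraph.twist ends φ v = -∑ e, dl ends (ind Y) e * dl ends φ e := by
  rw [← sum_ind_mul, sum_mul_twist]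

lemma sum_twist_univ (φ : V → ℤ) : ∑ v, LabGraph.twist ends φ v = 0 := by
  rw [sum_twist]; simp [dl, ind]

lemma twist_eq (φ : V → ℤ) (v : V) :
    LabGraph.twist ends φ v = -∑ e, dl ends (ind {v}) e * dl ends φ e := by
  rw [← sum_twist, sum_singleton]

lemma cut_eq (Y : Finset V) : (LabGraph.cut ends Y : ℤ) = ∑ e, dl ends (ind Y) e * dl ends (ind Y) e := by
  rw [LabGraph.cut, card_filter]
  push_cast
  refine sum_congr rfl fun e _ => ?_
  by_cases h1 : (ends e).1 ∈ Y <;> by_cases h2 : (ends e).2 ∈ Y <;> simp [dl, ind, h1, h2]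

lemma cut_compl (Y : Finset V) : LabGraph.cut ends Yᶜ = LabGraph.cut ends Y := by
  unfold LabGraph.cut
  congr 1
  refine filter_congr fun e _ => ?_
  by_cases h1 : (ends e).1 ∈ Y <;> by_cases h2 : (ends e).2 ∈ Y <;> simp [h1, h2]

lemma canDeg_univ : LabGraph.canDeg ends w univ = 2 * LabGraph.genus ends w - 2 := by
  unfold LabGraph.canDeg LabGraph.genus LabGraph.endCount
  push_cast
  rw [sum_add_distrib, sum_sub_distrib, ← mul_sum, sum_comm]
  simp [sum_add_distrib]
  ring

/-- The doubled excess of a multidegree on a vertex set. -/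
def exc (ends : E → V × V) (w : V → ℕ) (d : V → ℤ) (Y : Finset V) : ℤ :=
  2 * (LabGraph.canDeg ends w univ * (∑ v ∈ Y, d v) - (∑ v, d v) * LabGraph.canDeg ends w Y)

lemma exc_compl (d : V → ℤ) (Y : Finset V) : exc ends w d Yᶜ = -exc ends w d Y := by
  have h1 := sum_compl_add_sum Y d
  have h2 : LabGraph.canDeg ends w Yᶜ + LabGraph.canDeg ends w Y = LabGraph.canDeg ends w univ :=
    sum_compl_add_sum Y _
  unfold exc
  linear_combination 2 * LabGraph.canDeg ends w univ * h1 - 2 * (∑ v, d v) * h2

lemma exc_inter_union (d : V → ℤ) (Y Z : Finset V) :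
    exc ends w d (Y ∩ Z) + exc ends w d (Y ∪ Z) = exc ends w d Y + exc ends w d Z := by
  have h1 := sum_union_inter (s₁ := Y) (s₂ := Z) (f := d)
  have h2 : LabGraph.canDeg ends w (Y ∪ Z) + LabGraph.canDeg ends w (Y ∩ Z) =
      LabGraph.canDeg ends w Y + LabGraph.canDeg ends w Z := sum_union_inter
  unfold exc
  linear_combination 2 * LabGraph.canDeg ends w univ * h1 - 2 * (∑ v, d v) * h2

lemma exc_twist (d : V → ℤ) (φ : V → ℤ) (Y : Finset V) :
    exc ends w (fun v => d v + LabGraph.twist ends φ v) Y =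
      exc ends w d Y - 2 * LabGraph.canDeg ends w univ * ∑ e, dl ends (ind Y) e * dl ends φ e := by
  unfold exc
  simp only [sum_add_distrib]
  rw [sum_twist_univ, sum_twist]
  ring

lemma satisfiesBI_iff (d : V → ℤ) :
    LabGraph.SatisfiesBI ends w d ↔
      ∀ Y, exc ends w d Y ≤ (LabGraph.cut ends Y : ℤ) * LabGraph.canDeg ends w univ := by
  refine ⟨fun h Y => le_trans ?_ (h Y), fun h Y => ?_⟩
  · unfold exc
    exact mul_le_mul_of_nonneg_left (le_abs_self _) (by norm_num)
  · have h1 := h Y
    have h2 := h Yᶜ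
    rw [exc_compl, cut_compl] at h2
    rw [show (2 : ℤ) * |LabGraph.canDeg ends w univ * (∑ v ∈ Y, d v) - (∑ v, d v) * LabGraph.canDeg ends w Y| =
        |exc ends w d Y| by unfold exc; rw [abs_mul]; norm_num]
    rw [abs_le]
    constructor <;> linarith

lemma dl_inter_union (Y Z : Finset V) (e : E) :
    dl ends (ind (Y ∩ Z)) e * dl ends (ind (Y ∩ Z)) e + dl ends (ind (Y ∪ Z)) e * dl ends (ind (Y ∪ Z)) e ≤
      dl ends (ind Y) e * dl ends (ind Y) e + dl ends (ind Z) e * dl ends (ind Z) e +
        2 * (dl ends (ind Y) e * dl ends (ind Z) e) := by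
  by_cases h1 : (ends e).1 ∈ Y <;> by_cases h2 : (ends e).2 ∈ Y <;> by_cases h3 : (ends e).1 ∈ Z <;>
    by_cases h4 : (ends e).2 ∈ Z <;> simp [dl, ind, h1, h2, h3, h4]

theorem satisfiesBI_add_twist_ind (hK : 0 ≤ LabGraph.canDeg ends w univ) (d : V → ℤ)
    (hBI : LabGraph.SatisfiesBI ends w d) (Z : Finset V)
    (hZ : exc ends w d Z = (LabGraph.cut ends Z : ℤ) * LabGraph.canDeg ends w univ) :
    LabGraph.SatisfiesBI ends w (fun v => d v + LabGraph.twist ends (ind Z) v) := by
  rw [satisfiesBI_iff] at hBI ⊢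
  intro Y
  rw [exc_twist]
  have h1 := hBI (Y ∩ Z)
  have h2 := hBI (Y ∪ Z)
  have h3 := exc_inter_union (ends := ends) (w := w) d Y Z
  have h4 := sum_le_sum (s := univ) fun e _ => dl_inter_union (ends := ends) Y Z e
  simp only [sum_add_distrib, ← mul_sum, ← cut_eq] at h4
  nlinarith [mul_le_mul_of_nonneg_left h4 hK]

/-- A connected graph: a linear form of total weight zero is bounded by the jumps. -/
lemma abs_sub_le (hconn : LabGraph.Connected ends) (φ : V → ℤ) (u v : V) :
    |φ u - φ v| ≤ ∑ e, |dl ends φ e| := by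
  classical
  by_contra hlt
  rw [not_le] at hlt
  -- thresholds: every level strictly between is crossed by an edge
  wlog huv : φ v ≤ φ u generalizing u v with H
  · exact H v u (by rwa [abs_sub_comm]) (le_of_not_ge huv)
  rw [abs_of_nonneg (sub_nonneg.2 huv)] at hlt
  have key : ∀ t ∈ Finset.Ico (φ v) (φ u), ∃ e, min (φ (ends e).1) (φ (ends e).2) ≤ t ∧
      t < max (φ (ends e).1) (φ (ends e).2) := by
    intro t ht
    rw [Finset.mem_Ico] at ht
    by_contra hne
    push Not at hne
    have hcl : ∀ x, Relation.ReflTransGen (LabGraph.Adj ends) v x → φ x ≤ t := by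
      intro x hx
      induction hx with
      | refl => exact ht.1
      | tail _ hbc ih =>
        obtain ⟨e, he | he⟩ := hbc <;> have h := hne e <;> rw [he] at h <;>
          · dsimp only at h
            have := h (le_trans (by first | exact min_le_left _ _ | exact min_le_right _ _) ih)
            exact le_trans (by first | exact le_max_right _ _ | exact le_max_left _ _) this
    have := hcl u (hconn.2 v u)
    omega
  have hsub : Finset.Ico (φ v) (φ u) ⊆ univ.biUnion (fun e => Finset.Ico (min (φ (ends e).1) (φ (ends e).2)) (max (φ (ends e).1) (φ (ends e).2))) := by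
    intro t ht
    obtain ⟨e, he1, he2⟩ := key t ht
    exact mem_biUnion.2 ⟨e, mem_univ _, Finset.mem_Ico.2 ⟨he1, he2⟩⟩
  have hc := le_trans (card_le_card hsub) card_biUnion_le
  rw [Int.card_Ico] at hc
  have h1 : ((φ u - φ v).toNat : ℤ) ≤ ∑ e, ((Finset.Ico (min (φ (ends e).1) (φ (ends e).2)) (max (φ (ends e).1) (φ (ends e).2))).card : ℤ) := by
    exact_mod_cast hc
  rw [Int.toNat_of_nonneg (sub_nonneg.2 huv)] at h1
  refine absurd (h1.trans (le_of_eq (sum_congr rfl fun e _ => ?_))) (not_le.2 hlt)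
  rw [Int.card_Ico, Int.toNat_of_nonneg (by have := min_le_max (a := φ (ends e).1) (b := φ (ends e).2); linarith), max_sub_min_eq_abs, dl,
    abs_sub_comm]

/-- Every class has a representative satisfying the Basic Inequality. -/
theorem exists_rep (hconn : LabGraph.Connected ends) (hK : 0 < LabGraph.canDeg ends w univ) (d : V → ℤ) :
    ∃ φ : V → ℤ, LabGraph.SatisfiesBI ends w (fun v => d v + LabGraph.twist ends φ v) := by
  classical
  set K := LabGraph.canDeg ends w univ with hKdef
  set a : V → ℤ := fun v => K * d v - (∑ v, d v) * (2 * (w v : ℤ) - 2 + (LabGraph.endCount ends univ v : ℤ)) with ha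
  have ha0 : ∑ v, a v = 0 := by
    rw [ha]
    simp only [sum_sub_distrib, ← mul_sum]
    rw [hKdef]
    unfold LabGraph.canDeg
    ring
  let F : (V → ℤ) → ℤ := fun φ => K * (∑ e, dl ends φ e * dl ends φ e) - 2 * ∑ v, φ v * a v
  obtain ⟨v0⟩ := hconn.1
  set A := ∑ v, |a v| with hA
  have hA0 : 0 ≤ A := sum_nonneg fun v _ => abs_nonneg _
  have hlow : ∀ φ, -(A * A * (Fintype.card E : ℤ)) ≤ F φ := by
    intro φ
    have h1 : ∑ v, φ v * a v = ∑ v, (φ v - φ v0) * a v := by
      simp only [sub_mul, sum_sub_distrib, ← mul_sum, ha0, mul_zero, sub_zero]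
    have h2 : ∑ v, φ v * a v ≤ A * ∑ e, |dl ends φ e| := by
      rw [h1, hA, sum_mul]
      refine sum_le_sum fun v _ => (le_abs_self _).trans ?_
      rw [abs_mul, mul_comm]
      exact mul_le_mul_of_nonneg_left (abs_sub_le hconn φ v v0) (abs_nonneg _)
    have h3 : ∀ e, 2 * (A * |dl ends φ e|) - A * A ≤ K * (dl ends φ e * dl ends φ e) := by
      intro e
      have hsq : |dl ends φ e| * |dl ends φ e| = dl ends φ e * dl ends φ e := abs_mul_abs_self _
      nlinarith [mul_self_nonneg (|dl ends φ e| - A), mul_self_nonneg (dl ends φ e)]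
    have h4 := sum_le_sum (s := univ) fun e _ => h3 e
    simp only [sum_sub_distrib, ← mul_sum, sum_const, card_univ, nsmul_eq_mul] at h4
    show _ ≤ K * _ - 2 * _
    nlinarith
  obtain ⟨m, ⟨φ, rfl⟩, hmin⟩ := Int.exists_least_of_bdd (P := fun z => ∃ φ, F φ = z)
    ⟨-(A * A * (Fintype.card E : ℤ)), fun z ⟨φ, hφ⟩ => hφ ▸ hlow φ⟩ ⟨F 0, 0, rfl⟩
  refine ⟨φ, (satisfiesBI_iff _).2 fun Y => ?_⟩
  rw [exc_twist]
  have h := hmin _ ⟨fun v => φ v + ind Y v, rfl⟩
  have e1 : ∀ e, dl ends (fun v => φ v + ind Y v) e = dl ends φ e + dl ends (ind Y) e := fun e => by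
    unfold dl; ring
  have hexc : exc ends w d Y = 2 * ∑ v, ind Y v * a v := by
    rw [sum_ind_mul, ha]
    simp only [sum_sub_distrib, ← mul_sum]
    rfl
  simp only [F, e1, add_mul, mul_add, sum_add_distrib] at h
  rw [cut_eq, hexc]
  have hc : ∑ e, dl ends φ e * dl ends (ind Y) e = ∑ e, dl ends (ind Y) e * dl ends φ e :=
    sum_congr rfl fun e _ => mul_comm _ _
  rw [hc] at h
  linarith

/-- Two representatives satisfying the Basic Inequality differ by jumps of size at most one. -/
theorem dl_le_one (hK : 0 < LabGraph.canDeg ends w univ) (d d' φ : V → ℤ)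
    (hBI : LabGraph.SatisfiesBI ends w d) (hBI' : LabGraph.SatisfiesBI ends w d')
    (hφ : ∀ v, d v - d' v = LabGraph.twist ends φ v) (e : E) :
    φ (ends e).1 - φ (ends e).2 ≤ 1 ∧ φ (ends e).2 - φ (ends e).1 ≤ 1 := by
  rw [satisfiesBI_iff] at hBI hBI'
  have key : ∀ t : ℤ, ∑ e, dl ends (ind (univ.filter fun v => t < φ v)) e * dl ends φ e ≤
      LabGraph.cut ends (univ.filter fun v => t < φ v) := by
    intro t
    set Y := univ.filter fun v => t < φ v
    have h1 := hBI Yᶜ
    have h2 := hBI' Y
    rw [exc_compl, cut_compl] at h1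
    have hd : d = fun v => d' v + LabGraph.twist ends φ v := funext fun v => by rw [← hφ]; ring
    rw [hd, exc_twist] at h1
    nlinarith
  have edge : ∀ t : ℤ, ∀ e, dl ends (ind (univ.filter fun v => t < φ v)) e * dl ends φ e -
      dl ends (ind (univ.filter fun v => t < φ v)) e * dl ends (ind (univ.filter fun v => t < φ v)) e ≤ 0 := by
    intro t
    have hnn : ∀ e ∈ (univ : Finset E), 0 ≤ dl ends (ind (univ.filter fun v => t < φ v)) e * dl ends φ e -
        dl ends (ind (univ.filter fun v => t < φ v)) e * dl ends (ind (univ.filter fun v => t < φ v)) e := by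
      intro e _
      simp only [dl, ind, mem_filter, mem_univ, true_and]
      split_ifs <;> omega
    intro e
    refine le_trans (single_le_sum hnn (mem_univ e)) ?_
    rw [sum_sub_distrib, ← cut_eq]
    linarith [key t]
  constructor
  · by_contra h
    have := edge (φ (ends e).2) e
    simp only [dl, ind, mem_filter, mem_univ, true_and, lt_irrefl, if_false, if_pos (show φ (ends e).2 < φ (ends e).1 by omega)] at this
    omega
  · by_contra h
    have := edge (φ (ends e).1) e
    simp only [dl, ind, mem_filter, mem_univ, true_and, lt_irrefl, if_false, if_pos (show φ (ends e).1 < φ (ends e).2 by omega)] at this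
    omega

end LabGraphBI
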