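/-
Forests, circuits and gradients on finite multigraphs.
-/
import Groth.Prelude.Def_W4c1nerontoraddGraph
import Mathlib.Algebra.BigOperators.Ring.Finset
import Mathlib.Algebra.Order.BigOperators.Group.Finset
import Mathlib.Algebra.Order.Ring.Abs
import Mathlib.Algebra.Ring.Parity
import Mathlib.Data.Fintype.BigOperators
import Mathlib.Data.Nat.Factorization.Induction
import Mathlib.RingTheory.Coprime.Basic
import Mathlib.RingTheory.Int.Basic
import Mathlib.Tactic.Linarith
import Mathlib.Tactic.LinearCombination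
import Mathlib.Tactic.Ring
import Mathlib.Tactic.Push

set_option autoImplicit false
set_option linter.unusedSectionVars false

universe u
open Finset

namespace LabGraphForest

variable {V E : Type u} [Fintype V] [Fintype E] [DecidableEq V] [DecidableEq E] {ends : E → V × V}

/-- Adjacency through the edges of `F`. -/
def AdjIn (ends : E → V × V) (F : Finset E) (a b : V) : Prop :=
  ∃ e ∈ F, ends e = (a, b) ∨ ends e = (b, a)

/-- Reachability through the edges of `F`. -/
def Reach (ends : E → V × V) (F : Finset E) : V → V → Prop :=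
  Relation.ReflTransGen (AdjIn ends F)

/-- No circuit inside `F`. -/
def NoCirc (ends : E → V × V) (F : Finset E) : Prop :=
  ∀ C, C ⊆ F → ¬ LabGraph.IsCircuit ends C

/-- Gradient of a vertex function. -/
def gr (ends : E → V × V) (φ : V → ℤ) (e : E) : ℤ := φ (ends e).2 - φ (ends e).1

lemma reach_symm {F : Finset E} {a b : V} (h : Reach ends F a b) : Reach ends F b a := by
  induction h with
  | refl => exact .refl
  | tail _ hbc ih =>
    obtain ⟨e, he, h⟩ := hbc
    exact Relation.ReflTransGen.head ⟨e, he, h.symm⟩ ih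

lemma reach_mono {F G : Finset E} (hFG : F ⊆ G) {a b : V} (h : Reach ends F a b) : Reach ends G a b :=
  Relation.ReflTransGen.mono (fun _ _ ⟨e, he, h⟩ => ⟨e, hFG he, h⟩) _ _ h

lemma reach_univ (hconn : LabGraph.Connected ends) (a b : V) : Reach ends univ a b :=
  Relation.ReflTransGen.mono (fun _ _ ⟨e, h⟩ => ⟨e, mem_univ e, h⟩) _ _ (hconn.2 a b)

lemma reach_edge {F : Finset E} {e : E} (he : e ∈ F) : Reach ends F (ends e).1 (ends e).2 :=
  .single ⟨e, he, Or.inl rfl⟩

/-- A circuit inside every nonempty even edge set. -/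
lemma exists_circuit : ∀ (C : Finset E), C.Nonempty → (∀ v, Even (LabGraph.endCount ends C v)) →
    ∃ C' ⊆ C, LabGraph.IsCircuit ends C' := by
  intro C
  induction C using Finset.strongInduction with
  | H C ih =>
    intro hne hev
    by_cases h : ∀ C' : Finset E, C' ⊂ C → C'.Nonempty → ∃ v, ¬ Even (LabGraph.endCount ends C' v)
    · exact ⟨C, subset_rfl, hne, hev, h⟩
    · push Not at h
      obtain ⟨C', h1, h2, h3⟩ := h
      obtain ⟨D, hD, hc⟩ := ih C' h1 h2 h3
      exact ⟨D, hD.trans h1.subset, hc⟩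

lemma even_endCount_symmDiff (C D : Finset E) (v : V) :
    Even (LabGraph.endCount ends (symmDiff C D) v) ↔
      Even (LabGraph.endCount ends C v + LabGraph.endCount ends D v) := by
  unfold LabGraph.endCount
  rw [symmDiff_def, Finset.sup_eq_union, sum_union disjoint_sdiff_sdiff,
    ← sum_inter_add_sum_sdiff C D fun e => (if (ends e).1 = v then 1 else 0) + (if (ends e).2 = v then 1 else 0),
    ← sum_inter_add_sum_sdiff D C fun e => (if (ends e).1 = v then 1 else 0) + (if (ends e).2 = v then 1 else 0),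
    inter_comm D C]
  simp only [Nat.even_iff]
  omega

/-- Parity chain along a path. -/
lemma exists_parity_chain {F : Finset E} {a b : V} (h : Reach ends F a b) :
    ∃ C ⊆ F, ∀ v, Even (LabGraph.endCount ends C v + ((if a = v then 1 else 0) + (if b = v then 1 else 0))) := by
  induction h with
  | refl => exact ⟨∅, empty_subset _, fun v => by simp [LabGraph.endCount]⟩
  | tail _ hbc ih =>
    obtain ⟨C, hC, hev⟩ := ih
    obtain ⟨e, he, h'⟩ := hbc
    refine ⟨symmDiff C {e}, fun x hx => ?_, fun v => ?_⟩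
    · rcases Finset.mem_symmDiff.1 hx with ⟨h, -⟩ | ⟨h, -⟩
      · exact hC h
      · exact (mem_singleton.1 h) ▸ he
    · have h1 := hev v
      have h2 := even_endCount_symmDiff (ends := ends) C {e} v
      have h3 : LabGraph.endCount ends {e} v = (if (ends e).1 = v then 1 else 0) + (if (ends e).2 = v then 1 else 0) := by
        simp [LabGraph.endCount]
      simp only [Nat.even_iff] at h1 h2 ⊢
      rcases h' with h' | h' <;> rw [h'] at h3 <;> dsimp only at h3 <;> omega

lemma even_endCount_insert {C : Finset E} {e : E} (he : e ∉ C) (v : V) :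
    LabGraph.endCount ends (insert e C) v =
      ((if (ends e).1 = v then 1 else 0) + (if (ends e).2 = v then 1 else 0)) + LabGraph.endCount ends C v := by
  rw [LabGraph.endCount, sum_insert he]; rfl

/-- An edge closing a path gives a circuit. -/
lemma exists_circuit_of_reach {F : Finset E} {e : E} (he : e ∉ F) (h : Reach ends F (ends e).1 (ends e).2) :
    ∃ C ⊆ insert e F, LabGraph.IsCircuit ends C := by
  obtain ⟨C, hC, hev⟩ := exists_parity_chain h
  obtain ⟨D, hD, hc⟩ := exists_circuit (ends := ends) (insert e C) (insert_nonempty _ _) fun v => by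
    rw [even_endCount_insert (fun h' => he (hC h')), add_comm]; exact hev v
  exact ⟨D, hD.trans (insert_subset_insert _ hC), hc⟩

lemma NoCirc.mono {F G : Finset E} (h : NoCirc ends G) (hFG : F ⊆ G) : NoCirc ends F :=
  fun C hC => h C (hC.trans hFG)

lemma NoCirc.not_reach {F : Finset E} {e : E} (h : NoCirc ends (insert e F)) (he : e ∉ F) :
    ¬ Reach ends F (ends e).1 (ends e).2 := fun hr => by
  obtain ⟨C, hC, hc⟩ := exists_circuit_of_reach he hr
  exact h C hC hc

/-- On a forest every edge function is a gradient. -/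
theorem exists_gr_eq : ∀ (F : Finset E), NoCirc ends F → ∀ x : E → ℤ, ∃ φ : V → ℤ, ∀ e ∈ F, gr ends φ e = x e := by
  classical
  intro F
  induction F using Finset.induction_on with
  | empty => exact fun _ x => ⟨0, by simp⟩
  | @insert e F he ih =>
    intro h x
    obtain ⟨φ, hφ⟩ := ih (h.mono (subset_insert _ _)) x
    have hnr := h.not_reach he
    refine ⟨fun v => φ v + if Reach ends F (ends e).1 v then gr ends φ e - x e else 0, fun e' he' => ?_⟩
    rcases mem_insert.1 he' with rfl | he''
    · have hr : Reach ends F (ends e').1 (ends e').1 := Relation.ReflTransGen.refl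
      simp only [gr, hr, hnr, if_false, if_true]
      ring
    · have hiff : Reach ends F (ends e).1 (ends e').1 ↔ Reach ends F (ends e).1 (ends e').2 :=
        ⟨fun h => h.trans (reach_edge he''), fun h => h.trans (reach_symm (reach_edge he''))⟩
      rw [← hφ e' he'']
      simp only [gr, hiff]
      split_ifs <;> ring

lemma sum_mul_gr (γ : E → ℤ) (φ : V → ℤ) :
    ∑ e, γ e * gr ends φ e = ∑ v, φ v * LabGraph.boundary ends γ v := by
  unfold LabGraph.boundary
  simp only [mul_sum]
  rw [sum_comm]
  refine sum_congr rfl fun e _ => ?_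
  simp only [mul_sub, sum_sub_distrib, mul_ite, mul_zero, sum_ite_eq, mem_univ, if_true, gr]
  ring

lemma sum_mul_gr_eq_zero {γ : E → ℤ} (hγ : ∀ v, LabGraph.boundary ends γ v = 0) (φ : V → ℤ) :
    ∑ e, γ e * gr ends φ e = 0 := by
  rw [sum_mul_gr]; simp [hγ]

/-- The support of a nonzero cycle contains a circuit. -/
theorem exists_circuit_support {γ : E → ℤ} (hγ : ∀ v, LabGraph.boundary ends γ v = 0) {e : E} (he : γ e ≠ 0) :
    ∃ C, LabGraph.IsCircuit ends C ∧ ∀ e' ∈ C, γ e' ≠ 0 := by
  classical
  by_contra! hne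
  obtain ⟨φ, hφ⟩ := exists_gr_eq (ends := ends) (univ.filter fun e' => γ e' ≠ 0)
    (fun C hC hc => by
      obtain ⟨e', he', h0⟩ := hne C hc
      exact (mem_filter.1 (hC he')).2 h0) (fun e' => if e' = e then 1 else 0)
  have h := sum_mul_gr_eq_zero hγ φ
  rw [sum_eq_single e] at h
  · rw [hφ e (mem_filter.2 ⟨mem_univ _, he⟩)] at h
    simp at h
    exact he h
  · intro e' _ hne'
    by_cases h0 : γ e' = 0
    · rw [h0, zero_mul]
    · rw [hφ e' (mem_filter.2 ⟨mem_univ _, h0⟩), if_neg hne', mul_zero]
  · exact fun h => absurd (mem_univ _) h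

lemma boundary_add (γ δ : E → ℤ) (v : V) :
    LabGraph.boundary ends (γ + δ) v = LabGraph.boundary ends γ v + LabGraph.boundary ends δ v := by
  unfold LabGraph.boundary
  rw [← sum_add_distrib]
  refine sum_congr rfl fun e _ => ?_
  simp only [Pi.add_apply]
  split_ifs <;> ring

lemma boundary_smul (c : ℤ) (γ : E → ℤ) (v : V) :
    LabGraph.boundary ends (c • γ) v = c * LabGraph.boundary ends γ v := by
  unfold LabGraph.boundary
  rw [mul_sum]
  refine sum_congr rfl fun e _ => ?_
  simp only [Pi.smul_apply, smul_eq_mul]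
  split_ifs <;> ring

lemma boundary_single (e : E) (c : ℤ) (v : V) :
    LabGraph.boundary ends (Pi.single e c) v =
      (if (ends e).2 = v then c else 0) - (if (ends e).1 = v then c else 0) := by
  unfold LabGraph.boundary
  rw [sum_eq_single e]
  · simp
  · intro e' _ hne; simp [hne]
  · exact fun h => absurd (mem_univ _) h

/-- Integer chain along a path. -/
lemma exists_chain {F : Finset E} {a b : V} (h : Reach ends F a b) :
    ∃ γ : E → ℤ, (∀ e ∉ F, γ e = 0) ∧
      ∀ v, LabGraph.boundary ends γ v = (if b = v then 1 else 0) - (if a = v then 1 else 0) := by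
  induction h with
  | refl => exact ⟨0, fun _ _ => rfl, fun v => by simp [LabGraph.boundary]⟩
  | tail _ hbc ih =>
    obtain ⟨γ, hγ, hb⟩ := ih
    obtain ⟨e, he, h'⟩ := hbc
    rcases h' with h' | h'
    · refine ⟨γ + Pi.single e 1, fun e' he' => ?_, fun v => ?_⟩
      · rw [Pi.add_apply, hγ e' he', Pi.single_eq_of_ne (fun hh : e' = e => he' (hh.symm ▸ he)), add_zero]
      · rw [boundary_add, hb, boundary_single, h']; ring
    · refine ⟨γ + Pi.single e (-1), fun e' he' => ?_, fun v => ?_⟩
      · rw [Pi.add_apply, hγ e' he', Pi.single_eq_of_ne (fun hh : e' = e => he' (hh.symm ▸ he)), add_zero]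
      · rw [boundary_add, hb, boundary_single, h']
        dsimp only
        split_ifs <;> ring

/-- An edge function orthogonal to all cycles of a connected graph is a gradient. -/
theorem exists_gr_of_orth (hconn : LabGraph.Connected ends) (x : E → ℤ)
    (hx : ∀ γ : E → ℤ, (∀ v, LabGraph.boundary ends γ v = 0) → ∑ e, γ e * x e = 0) (v₀ : V) :
    ∃ φ : V → ℤ, φ v₀ = 0 ∧ ∀ e, gr ends φ e = x e := by
  choose γ hγ1 hγ2 using fun v => exists_chain (reach_univ hconn v₀ v)
  refine ⟨fun v => ∑ e, γ v e * x e, hx _ fun v => by rw [hγ2]; ring, fun e => ?_⟩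
  have h := hx (γ (ends e).1 + Pi.single e 1 + (-1 : ℤ) • γ (ends e).2) fun v => by
    rw [boundary_add, boundary_add, boundary_smul, boundary_single, hγ2, hγ2]; ring
  simp only [Pi.add_apply, Pi.smul_apply, smul_eq_mul, add_mul, sum_add_distrib] at h
  rw [sum_eq_single (s := univ) (f := fun e' => (Pi.single e (1 : ℤ) : E → ℤ) e' * x e') e
    (fun e' _ hne => by rw [Pi.single_eq_of_ne hne, zero_mul]) (fun hh => absurd (mem_univ _) hh),
    Pi.single_eq_same, one_mul] at h
  simp only [neg_mul, one_mul, sum_neg_distrib] at h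
  show ∑ e', γ (ends e).2 e' * x e' - ∑ e', γ (ends e).1 e' * x e' = x e
  linarith

/-- Equal gradients and one equal value determine a function on a connected graph. -/
theorem eq_of_gr (hconn : LabGraph.Connected ends) {φ ψ : V → ℤ} (h : ∀ e, gr ends φ e = gr ends ψ e)
    {v₀ : V} (h0 : φ v₀ = ψ v₀) : φ = ψ := by
  funext v
  have hr := reach_univ hconn v₀ v
  induction hr with
  | refl => exact h0
  | tail _ hbc ih =>
    obtain ⟨e, -, h'⟩ := hbc
    have := h e
    unfold gr at this
    rcases h' with h' | h' <;> rw [h'] at this <;> dsimp only at this <;> linarith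

/-- In a circuit the ends of an edge are joined by the other edges. -/
theorem reach_erase_of_circuit {C : Finset E} (hC : LabGraph.IsCircuit ends C) {e : E} (he : e ∈ C) :
    Reach ends (C.erase e) (ends e).1 (ends e).2 := by
  classical
  by_contra hnr
  let S := univ.filter fun v => Reach ends (C.erase e) (ends e).1 v
  have h1 : Even (∑ v ∈ S, LabGraph.endCount ends C v) := Finset.even_sum _ fun v _ => hC.2.1 v
  have hswap : ∑ v ∈ S, LabGraph.endCount ends C v =
      ∑ e' ∈ C, ((if (ends e').1 ∈ S then 1 else 0) + (if (ends e').2 ∈ S then 1 else 0)) := by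
    unfold LabGraph.endCount
    rw [sum_comm]
    refine sum_congr rfl fun e' _ => ?_
    rw [sum_add_distrib, sum_ite_eq, sum_ite_eq]
  have ha : (ends e).1 ∈ S := mem_filter.2 ⟨mem_univ _, Relation.ReflTransGen.refl⟩
  have hb : (ends e).2 ∉ S := fun h => hnr (mem_filter.1 h).2
  rw [hswap, ← add_sum_erase _ _ he, if_pos ha, if_neg hb] at h1
  have h2 : Even (∑ e' ∈ C.erase e, ((if (ends e').1 ∈ S then 1 else 0) + (if (ends e').2 ∈ S then 1 else 0) : ℕ)) := by
    refine Finset.even_sum _ fun e' he' => ?_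
    have hiff : (ends e').1 ∈ S ↔ (ends e').2 ∈ S := by
      simp only [S, mem_filter, mem_univ, true_and]
      exact ⟨fun h => h.trans (reach_edge he'), fun h => h.trans (reach_symm (reach_edge he'))⟩
    by_cases h : (ends e').2 ∈ S <;> simp [hiff, h]
  rw [Nat.even_iff] at h1 h2
  omega

/-- The cycle of a circuit, normalised at one of its edges. -/
theorem exists_cycle_of_circuit {C : Finset E} (hC : LabGraph.IsCircuit ends C) {e : E} (he : e ∈ C) :
    ∃ γ : E → ℤ, (∀ e' ∉ C, γ e' = 0) ∧ γ e = 1 ∧ ∀ v, LabGraph.boundary ends γ v = 0 := by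
  obtain ⟨γ, hγ, hb⟩ := exists_chain (reach_symm (reach_erase_of_circuit hC he))
  refine ⟨γ + Pi.single e 1, fun e' he' => ?_, ?_, fun v => ?_⟩
  · rw [Pi.add_apply, hγ e' (fun h => he' (mem_of_mem_erase h)), Pi.single_eq_of_ne (fun hh : e' = e => he' (hh.symm ▸ he)),
      add_zero]
  · rw [Pi.add_apply, hγ e (notMem_erase e C), Pi.single_eq_same, zero_add]
  · rw [boundary_add, hb, boundary_single]; ring

/-- A circuit without one edge is a forest. -/
theorem noCirc_erase {C : Finset E} (hC : LabGraph.IsCircuit ends C) {e : E} (he : e ∈ C) :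
    NoCirc ends (C.erase e) := fun D hD hDc => by
  obtain ⟨v, hv⟩ := hC.2.2 D (lt_of_le_of_lt hD (erase_ssubset he)) hDc.1
  exact hv (hDc.2.1 v)

/-- Coprime circuits: every edge function is a gradient modulo the labels. -/
theorem exists_gr_mod_of_coprime {l : E → ℕ} (hl : ∀ e, 0 < l e) (h : LabGraph.IsCircuitCoprime ends l)
    (x : E → ℤ) : ∃ (y : E → ℤ) (φ : V → ℤ), ∀ e, x e - (l e : ℤ) * y e = gr ends φ e := by
  classical
  suffices H : ∀ n : ℕ, 0 < n → ∀ x : E → ℤ, ∃ (y : E → ℤ) (φ : V → ℤ) (z : E → ℤ),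
      ∀ e, x e = (l e : ℤ) * y e + gr ends φ e + (n : ℤ) * z e by
    obtain ⟨y, φ, z, hz⟩ := H (∏ e, l e) (Finset.prod_pos fun e _ => hl e) x
    have hd : ∀ e, (l e : ℤ) ∣ ((∏ e, l e : ℕ) : ℤ) := fun e =>
      Int.natCast_dvd_natCast.2 (Finset.dvd_prod_of_mem l (mem_univ e))
    choose q hq using hd
    exact ⟨fun e => y e + q e * z e, φ, fun e => by rw [hz e, hq e]; ring⟩
  intro n
  induction n using induction_on_primes with
  | zero => intro h; omega
  | one => exact fun _ x => ⟨0, 0, x, fun e => by simp [gr]⟩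
  | prime_mul p a hp ih =>
    intro hpa x
    have ha : 0 < a := Nat.pos_of_ne_zero fun h => by subst h; simp at hpa
    obtain ⟨φ, hφ⟩ := exists_gr_eq (ends := ends) (univ.filter fun e => p ∣ l e) (fun C hC hc => by
      have h1 : p ∣ C.gcd l := Finset.dvd_gcd fun e he => (mem_filter.1 (hC he)).2
      rw [h C hc] at h1
      exact hp.not_dvd_one h1) x
    have hb : ∀ e, ∃ y z : ℤ, x e - gr ends φ e = (l e : ℤ) * y + (p : ℤ) * z := by
      intro e
      by_cases hpl : p ∣ l e
      · exact ⟨0, 0, by rw [hφ e (mem_filter.2 ⟨mem_univ _, hpl⟩)]; ring⟩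
      · obtain ⟨u, v, huv⟩ := Int.isCoprime_iff_nat_coprime.2
          (show Nat.Coprime (Int.natAbs (l e : ℤ)) (Int.natAbs (p : ℤ)) by
            simpa using ((hp.coprime_iff_not_dvd).2 hpl).symm)
        exact ⟨(x e - gr ends φ e) * u, (x e - gr ends φ e) * v, by linear_combination (-(x e - gr ends φ e)) * huv⟩
    choose y z hyz using hb
    obtain ⟨y', φ', z', hz'⟩ := ih ha z
    refine ⟨fun e => y e + (p : ℤ) * y' e, fun v => φ v + (p : ℤ) * φ' v, z', fun e => ?_⟩
    have h1 := hyz e
    have h2 := hz' e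
    unfold gr at *
    push_cast
    linear_combination h1 + (p : ℤ) * h2

/-- The converse. -/
theorem coprime_of_exists_gr_mod {l : E → ℕ}
    (h : ∀ x : E → ℤ, ∃ (y : E → ℤ) (φ : V → ℤ), ∀ e, x e - (l e : ℤ) * y e = gr ends φ e) :
    LabGraph.IsCircuitCoprime ends l := by
  intro C hC
  obtain ⟨e, he⟩ := hC.1
  obtain ⟨γ, hγ, h1, hb⟩ := exists_cycle_of_circuit hC he
  obtain ⟨y, φ, hy⟩ := h (Pi.single e 1)
  have h0 := sum_mul_gr_eq_zero hb φ
  simp only [← hy, mul_sub, sum_sub_distrib] at h0
  rw [sum_eq_single e (fun e' _ hne => by rw [Pi.single_eq_of_ne hne, mul_zero]) (fun hh => absurd (mem_univ _) hh),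
    Pi.single_eq_same, mul_one, h1, sub_eq_zero] at h0
  have h2 : ((C.gcd l : ℕ) : ℤ) ∣ 1 := by
    rw [h0]
    refine Finset.dvd_sum fun e' _ => ?_
    by_cases he' : e' ∈ C
    · exact Dvd.dvd.mul_left (Dvd.dvd.mul_right (Int.natCast_dvd_natCast.2 (Finset.gcd_dvd he')) _) _
    · rw [hγ e' he', zero_mul]; exact dvd_zero _
  exact Nat.dvd_one.1 (by exact_mod_cast h2)

end LabGraphForest
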