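/-
The multidegree operator on the total blow-up of a labelled multigraph.
-/
import Groth.Prelude.Def_W4c1nerontoraddGraph
import Groth.Agent.Lib.LabGraphForest
import Mathlib.Algebra.BigOperators.Fin

set_option autoImplicit false
set_option linter.unusedSectionVars false

universe u
open Finset

namespace LabGraphBlowup

variable {V E : Type u} [Fintype V] [Fintype E] [DecidableEq V] [DecidableEq E] {ends : E → V × V} {l : E → ℕ}

/-- The increment along the `k`-th edge of a path. -/
def D (ends : E → V × V) (l : E → ℕ) (ψ : LabGraph.BlVert V E l → ℤ) (e : E) (k : ℕ) : ℤ :=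
  ψ (LabGraph.pathVert ends l e (k + 1)) - ψ (LabGraph.pathVert ends l e k)

lemma pathVert_zero (e : E) : LabGraph.pathVert ends l e 0 = Sum.inl (ends e).1 := by
  simp [LabGraph.pathVert]

lemma pathVert_top (hl : ∀ e, 0 < l e) (e : E) : LabGraph.pathVert ends l e (l e) = Sum.inl (ends e).2 := by
  simp [LabGraph.pathVert, (hl e).ne']

lemma pathVert_mid (e : E) (j : Fin (l e - 1)) :
    LabGraph.pathVert ends l e (j.val + 1) = Sum.inr ⟨e, j⟩ := by
  have := j.2
  simp only [LabGraph.pathVert, Nat.succ_ne_zero, dite_false, show j.val + 1 < l e by omega, dite_true]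
  rfl

lemma pathVert_cases (e : E) {k : ℕ} (h0 : 0 < k) (h : k < l e) :
    ∃ j : Fin (l e - 1), j.val + 1 = k ∧ LabGraph.pathVert ends l e k = Sum.inr ⟨e, j⟩ := by
  refine ⟨⟨k - 1, by omega⟩, by simp only; omega, ?_⟩
  conv_lhs => rw [show k = (⟨k - 1, by omega⟩ : Fin (l e - 1)).val + 1 by simp only; omega]
  exact pathVert_mid e _

lemma sum_D (hl : ∀ e, 0 < l e) (ψ : LabGraph.BlVert V E l → ℤ) (e : E) :
    ∑ k ∈ range (l e), D ends l ψ e k = ψ (Sum.inl (ends e).2) - ψ (Sum.inl (ends e).1) := by
  unfold D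
  rw [sum_range_sub fun k => ψ (LabGraph.pathVert ends l e k), pathVert_top hl, pathVert_zero]

lemma mdeg_eq (ψ : LabGraph.BlVert V E l → ℤ) (w : LabGraph.BlVert V E l) :
    LabGraph.mdeg (LabGraph.blEnds ends l) (fun _ => 1) ψ w =
      ∑ e, ∑ k ∈ range (l e), ((if LabGraph.pathVert ends l e k = w then D ends l ψ e k else 0) -
        (if LabGraph.pathVert ends l e (k + 1) = w then D ends l ψ e k else 0)) := by
  unfold LabGraph.mdeg
  rw [Fintype.sum_sigma]
  refine sum_congr rfl fun e _ => ?_
  rw [← Fin.sum_univ_eq_sum_range (fun k => ((if LabGraph.pathVert ends l e k = w then D ends l ψ e k else 0) -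
        (if LabGraph.pathVert ends l e (k + 1) = w then D ends l ψ e k else 0)))]
  refine sum_congr rfl fun k _ => ?_
  simp only [LabGraph.blEnds, D, Nat.cast_one, Int.ediv_one]
  split_ifs <;> ring

lemma mdeg_inl (hl : ∀ e, 0 < l e) (ψ : LabGraph.BlVert V E l → ℤ) (v : V) :
    LabGraph.mdeg (LabGraph.blEnds ends l) (fun _ => 1) ψ (Sum.inl v) =
      ∑ e, ((if (ends e).1 = v then D ends l ψ e 0 else 0) -
        (if (ends e).2 = v then D ends l ψ e (l e - 1) else 0)) := by
  rw [mdeg_eq]
  refine sum_congr rfl fun e _ => ?_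
  have := hl e
  rw [sum_sub_distrib]
  congr 1
  · rw [sum_eq_single 0]
    · simp [pathVert_zero]
    · intro k hk hk0
      obtain ⟨j, -, hj⟩ := pathVert_cases (ends := ends) e (Nat.pos_of_ne_zero hk0) (mem_range.1 hk)
      simp [hj]
    · exact fun h => absurd (mem_range.2 this) h
  · rw [sum_eq_single (l e - 1)]
    · rw [show l e - 1 + 1 = l e by omega, pathVert_top hl]
      simp
    · intro k hk hk0
      have hk1 : k + 1 < l e := by have := mem_range.1 hk; omega
      obtain ⟨j, -, hj⟩ := pathVert_cases (ends := ends) e (Nat.succ_pos k) hk1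
      simp [hj]
    · exact fun h => absurd (mem_range.2 (by omega)) h

lemma mdeg_inr (hl : ∀ e, 0 < l e) (ψ : LabGraph.BlVert V E l → ℤ) (e : E) (j : Fin (l e - 1)) :
    LabGraph.mdeg (LabGraph.blEnds ends l) (fun _ => 1) ψ (Sum.inr ⟨e, j⟩) =
      D ends l ψ e (j.val + 1) - D ends l ψ e j.val := by
  have hj := j.2
  have hne : ∀ e' k, k ≤ l e' → (LabGraph.pathVert ends l e' k = Sum.inr ⟨e, j⟩ → e' = e ∧ k = j.val + 1) := by
    intro e' k hk h
    rcases Nat.eq_zero_or_pos k with rfl | hk0
    · simp [pathVert_zero] at h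
    · rcases hk.eq_or_lt with rfl | hk'
      · simp [pathVert_top hl] at h
      · obtain ⟨i, hi, hp⟩ := pathVert_cases (ends := ends) e' hk0 hk'
        rw [hp] at h
        obtain ⟨rfl, h'⟩ := Sigma.mk.inj_iff.1 (Sum.inr.inj h)
        exact ⟨rfl, by rw [← hi, eq_of_heq h']⟩
  rw [mdeg_eq, sum_eq_single e]
  · rw [sum_sub_distrib, sum_eq_single (j.val + 1), sum_eq_single j.val]
    · simp [pathVert_mid]
    · intro k hk hk'
      rw [if_neg]
      intro h
      have := (hne e (k + 1) (by have := mem_range.1 hk; omega) h).2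
      omega
    · exact fun h => absurd (mem_range.2 (by omega)) h
    · intro k hk hk'
      rw [if_neg]
      exact fun h => hk' (hne e k (mem_range.1 hk).le h).2
    · exact fun h => absurd (mem_range.2 (by omega)) h
  · intro e' _ he'
    refine sum_eq_zero fun k hk => ?_
    rw [if_neg fun h => he' (hne e' k (mem_range.1 hk).le h).1,
      if_neg fun h => he' (hne e' (k + 1) (mem_range.1 hk) h).1, sub_zero]
  · exact fun h => absurd (mem_univ _) h

end LabGraphBlowup
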