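/-
Spanning trees of multigraphs.
-/
import Groth.Agent.Lib.LabGraphForest
import Groth.Prelude.Def_W4c2conddiscmodels

set_option autoImplicit false
set_option linter.unusedSectionVars false

universe u
open Finset

namespace LabGraphTree
open LabGraphForest

variable {V E : Type u} [Fintype V] [Fintype E] [DecidableEq V] [DecidableEq E] {ends : E → V × V}

lemma endCount_map (T : Finset E) (C : Finset T) (v : V) :
    LabGraph.endCount (fun e : T => ends e.1) C v =
      LabGraph.endCount ends (C.map (Function.Embedding.subtype _)) v := by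
  unfold LabGraph.endCount; rw [sum_map]; rfl

lemma adj_iff (T : Finset E) (a b : V) :
    LabGraph.Adj (fun e : T => ends e.1) a b ↔ AdjIn ends T a b :=
  ⟨fun ⟨e, h⟩ => ⟨e.1, e.2, h⟩, fun ⟨e, he, h⟩ => ⟨⟨e, he⟩, h⟩⟩

lemma reach_iff (T : Finset E) (a b : V) :
    Relation.ReflTransGen (LabGraph.Adj (fun e : T => ends e.1)) a b ↔ Reach ends T a b := by
  rw [show LabGraph.Adj (fun e : T => ends e.1) = AdjIn ends T from
    funext fun a => funext fun b => propext (adj_iff T a b)]
  rfl

lemma isForest_iff (T : Finset E) : DualGr.IsForest (fun e : T => ends e.1) ↔ NoCirc ends T := by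
  constructor
  · intro h C hC hc
    have hm : (C.subtype (· ∈ T)).map (Function.Embedding.subtype _) = C :=
      Finset.subtype_map_of_mem fun x hx => hC hx
    refine h (C.subtype (· ∈ T)) ⟨?_, fun v => ?_, fun C' hC' hne => ?_⟩
    · obtain ⟨e, he⟩ := hc.1
      exact ⟨⟨e, hC he⟩, Finset.mem_subtype.2 he⟩
    · rw [endCount_map, hm]; exact hc.2.1 v
    · obtain ⟨v, hv⟩ := hc.2.2 (C'.map (Function.Embedding.subtype _))
        (hm ▸ Finset.map_ssubset_map.2 hC') (hne.map)
      exact ⟨v, by rwa [endCount_map]⟩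
  · intro h C hc
    refine h (C.map (Function.Embedding.subtype _)) (fun x hx => ?_) ⟨hc.1.map, fun v => ?_, fun D hD hne => ?_⟩
    · obtain ⟨y, -, rfl⟩ := Finset.mem_map.1 hx; exact y.2
    · rw [← endCount_map]; exact hc.2.1 v
    · have hDT : ∀ x ∈ D, x ∈ T := fun x hx => by
        obtain ⟨y, -, rfl⟩ := Finset.mem_map.1 (hD.subset hx); exact y.2
      have hm : (D.subtype (· ∈ T)).map (Function.Embedding.subtype _) = D := Finset.subtype_map_of_mem hDT
      obtain ⟨v, hv⟩ := hc.2.2 (D.subtype (· ∈ T)) (Finset.map_ssubset_map.1 (hm.symm ▸ hD)) (by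
        obtain ⟨x, hx⟩ := hne; exact ⟨⟨x, hDT x hx⟩, Finset.mem_subtype.2 hx⟩)
      exact ⟨v, by rwa [endCount_map, hm] at hv⟩

lemma isSpanningTree_iff (T : Finset E) :
    LabGraph.IsSpanningTree ends T ↔ Nonempty V ∧ (∀ a b, Reach ends T a b) ∧ NoCirc ends T := by
  unfold LabGraph.IsSpanningTree DualGr.IsTree LabGraph.Connected
  simp only [reach_iff, isForest_iff, and_assoc]

/-- A forest inside a connected edge set extends to a spanning tree inside it. -/
theorem exists_spanningTree (hV : Nonempty V) {F G : Finset E} (hFG : F ⊆ G) (hF : NoCirc ends F)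
    (hG : ∀ a b, Reach ends G a b) : ∃ T, F ⊆ T ∧ T ⊆ G ∧ LabGraph.IsSpanningTree ends T := by
  classical
  obtain ⟨T, hT, hmax⟩ := Finset.exists_max_image (univ.filter fun T => F ⊆ T ∧ T ⊆ G ∧ NoCirc ends T)
    Finset.card ⟨F, by simp [hFG, hF]⟩
  simp only [mem_filter, mem_univ, true_and] at hT hmax
  obtain ⟨h1, h2, h3⟩ := hT
  refine ⟨T, h1, h2, (isSpanningTree_iff T).2 ⟨hV, fun a b => ?_, h3⟩⟩
  have key : ∀ e ∈ G, Reach ends T (ends e).1 (ends e).2 := by
    intro e he
    by_cases heT : e ∈ T
    · exact reach_edge heT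
    by_contra hnr
    have hnc : NoCirc ends (insert e T) := by
      intro C hC hc
      by_cases heC : e ∈ C
      · refine hnr (reach_mono (fun x hx => ?_) (reach_erase_of_circuit hc heC))
        exact (mem_insert.1 (hC (mem_of_mem_erase hx))).resolve_left (ne_of_mem_erase hx)
      · exact h3 C (fun x hx => (mem_insert.1 (hC hx)).resolve_left fun h => heC (h ▸ hx)) hc
    have := hmax (insert e T) ⟨h1.trans (subset_insert _ _), insert_subset he h2, hnc⟩
    rw [card_insert_of_notMem heT] at this
    omega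
  have hr := hG a b
  induction hr with
  | refl => exact Relation.ReflTransGen.refl
  | tail _ hbc ih =>
    obtain ⟨e, he, h | h⟩ := hbc <;> have := key e he <;> rw [h] at this
    · exact ih.trans this
    · exact ih.trans (reach_symm this)

end LabGraphTree
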