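/-
The weighted matrix-tree theorem for multigraphs with multiplicities.
-/
import Groth.Agent.Lib.LabGraphTree
import Groth.Agent.Lib.CauchyBinet
import Mathlib.LinearAlgebra.Matrix.NonsingularInverse
import Mathlib.LinearAlgebra.Matrix.ToLinearEquiv
import Mathlib.Data.Fintype.EquivFin

set_option autoImplicit false
set_option linter.unusedSectionVars false

universe u
open Finset

namespace LabGraphMatrixTree
open LabGraphForest

variable {V E : Type u} [Fintype V] [Fintype E] [DecidableEq V] [DecidableEq E] {ends : E → V × V}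

/-- Incidence coefficient. -/
def inc (ends : E → V × V) (e : E) (v : V) : ℤ :=
  (if (ends e).2 = v then 1 else 0) - (if (ends e).1 = v then 1 else 0)

lemma sum_inc_mul (e : E) (φ : V → ℤ) : ∑ v, inc ends e v * φ v = gr ends φ e := by
  simp [inc, gr, sub_mul]

lemma boundary_eq (γ : E → ℤ) (v : V) : LabGraph.boundary ends γ v = ∑ e, γ e * inc ends e v := by
  unfold LabGraph.boundary inc
  exact sum_congr rfl fun e _ => by split_ifs <;> ring

/-- The part of a vertex function away from the root. -/
noncomputable def ext0 (v₀ : V) {r : ℕ} (σ : Fin r ≃ {v : V // v ≠ v₀}) (c : Fin r → ℤ) (v : V) : ℤ :=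
  if h : v = v₀ then 0 else c (σ.symm ⟨v, h⟩)

lemma ext0_root (v₀ : V) {r : ℕ} (σ : Fin r ≃ {v : V // v ≠ v₀}) (c : Fin r → ℤ) : ext0 v₀ σ c v₀ = 0 := by
  simp [ext0]

lemma ext0_apply (v₀ : V) {r : ℕ} (σ : Fin r ≃ {v : V // v ≠ v₀}) (c : Fin r → ℤ) (j : Fin r) :
    ext0 v₀ σ c (σ j).1 = c j := by
  simp [ext0, (σ j).2]

lemma mulVec_inc (v₀ : V) {r : ℕ} (σ : Fin r ≃ {v : V // v ≠ v₀}) (f : Fin r → E) (c : Fin r → ℤ) (i : Fin r) :
    (Matrix.of fun i j => inc ends (f i) (σ j).1).mulVec c i = gr ends (ext0 v₀ σ c) (f i) := by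
  rw [← sum_inc_mul, Matrix.mulVec, dotProduct,
    ← Finset.sum_erase (a := v₀) univ (by rw [ext0_root, mul_zero]),
    ← sum_subtype (univ.erase v₀) (p := fun v => v ≠ v₀) (by simp) (fun v => inc ends (f i) v * ext0 v₀ σ c v) |>.symm]
  rw [← σ.sum_comp]
  refine sum_congr rfl fun j _ => ?_
  rw [ext0_apply]; rfl

open Classical in
/-- The squared minor is the indicator of spanning trees. -/
theorem det_sq (v₀ : V) {r : ℕ} (σ : Fin r ≃ {v : V // v ≠ v₀}) (f : Fin r → E) (hf : Function.Injective f) :
    (Matrix.of fun i j => inc ends (f i) (σ j).1).det * (Matrix.of fun i j => inc ends (f i) (σ j).1).det =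
      if (∀ a b, Reach ends (univ.image f) a b) ∧ NoCirc ends (univ.image f) then 1 else 0 := by
  classical
  set M : Matrix (Fin r) (Fin r) ℤ := Matrix.of fun i j => inc ends (f i) (σ j).1 with hM
  split_ifs with h
  · have hsurj : Function.Surjective M.mulVec := by
      intro x
      obtain ⟨φ, hφ⟩ := exists_gr_eq _ h.2 (fun e => if he : ∃ i, f i = e then x he.choose else 0)
      refine ⟨fun j => φ (σ j).1 - φ v₀, funext fun i => ?_⟩
      rw [hM, mulVec_inc]
      have h1 := hφ (f i) (mem_image_of_mem f (mem_univ i))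
      have hex : ∃ i', f i' = f i := ⟨i, rfl⟩
      simp only [dif_pos hex] at h1
      rw [show hex.choose = i from hf hex.choose_spec] at h1
      rw [← h1]
      have hext : ∀ v, ext0 v₀ σ (fun j => φ (σ j).1 - φ v₀) v = φ v - φ v₀ := by
        intro v
        by_cases hv : v = v₀
        · subst hv; simp [ext0_root]
        · simp [ext0, hv]
      unfold gr
      rw [hext, hext]
      ring
    have hu := (M.isUnit_iff_isUnit_det).1 (Matrix.mulVec_surjective_iff_isUnit.1 hsurj)
    exact (Int.isUnit_mul_self hu)
  · suffices M.det = 0 by rw [this, mul_zero]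
    rw [not_and_or] at h
    rcases h with h | h
    · push Not at h
      obtain ⟨a, b, hab⟩ := h
      obtain ⟨a, ha⟩ : ∃ a, ¬ Reach ends (univ.image f) v₀ a := by
        by_contra! h'
        exact hab ((reach_symm (h' a)).trans (h' b))
      refine Matrix.exists_mulVec_eq_zero_iff.1 ⟨fun j => if Reach ends (univ.image f) v₀ (σ j).1 then 0 else 1, ?_, funext fun i => ?_⟩
      · intro h0
        have hne : a ≠ v₀ := fun h => ha (h ▸ Relation.ReflTransGen.refl)
        have := congrFun h0 (σ.symm ⟨a, hne⟩)
        simp [ha] at this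
      · rw [hM, mulVec_inc]
        have hext : ∀ v, ext0 v₀ σ (fun j => if Reach ends (univ.image f) v₀ (σ j).1 then 0 else 1) v =
            if Reach ends (univ.image f) v₀ v then 0 else 1 := by
          intro v
          by_cases hv : v = v₀
          · subst hv; simp [ext0_root, Reach, Relation.ReflTransGen.refl]
          · simp [ext0, hv]
        have he := reach_edge (ends := ends) (mem_image_of_mem f (mem_univ i))
        have hiff : Reach ends (univ.image f) v₀ (ends (f i)).1 ↔ Reach ends (univ.image f) v₀ (ends (f i)).2 :=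
          ⟨fun h => h.trans he, fun h => h.trans (reach_symm he)⟩
        unfold gr
        rw [hext, hext]
        simp [hiff]
    · unfold NoCirc at h
      push Not at h
      obtain ⟨C, hC, hc⟩ := h
      obtain ⟨e, he⟩ := hc.1
      obtain ⟨γ, hγ, hγ1, hb⟩ := exists_cycle_of_circuit hc he
      obtain ⟨i₀, -, hi₀⟩ := mem_image.1 (hC he)
      refine Matrix.exists_vecMul_eq_zero_iff.1 ⟨fun i => γ (f i), ?_, funext fun j => ?_⟩
      · intro h0
        have := congrFun h0 i₀
        simp [hi₀, hγ1] at this
      · have hb' := hb (σ j).1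
        rw [boundary_eq, ← sum_subset (subset_univ (univ.image f)) (fun e _ he' => by
          rw [hγ e (fun h => he' (hC h)), zero_mul]), sum_image hf.injOn] at hb'
        exact hb'

lemma nbrCount_eq {T : Finset E} (hT : NoCirc ends T) (v : V) :
    LabGraph.nbrCount ends T v = LabGraph.endCount ends T v := by
  have hloop : ∀ e ∈ T, (ends e).1 ≠ (ends e).2 := by
    intro e he heq
    have h : Reach ends (∅ : Finset E) (ends e).1 (ends e).2 := heq ▸ Relation.ReflTransGen.refl
    obtain ⟨C, hC, hc⟩ := exists_circuit_of_reach (notMem_empty e) h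
    exact hT C (hC.trans (by simpa using he)) hc
  let oth : E → V := fun e => if (ends e).1 = v then (ends e).2 else (ends e).1
  have h1 : LabGraph.endCount ends T v = (T.filter fun e => (ends e).1 = v ∨ (ends e).2 = v).card := by
    rw [card_filter, LabGraph.endCount]
    refine sum_congr rfl fun e he => ?_
    have := hloop e he
    by_cases a : (ends e).1 = v <;> by_cases b : (ends e).2 = v <;> simp [a, b]
    exact this (a.trans b.symm)
  rw [h1, LabGraph.nbrCount]
  refine (Finset.card_bij (fun e _ => oth e) (fun e he => ?_) (fun e he e' he' h => ?_) fun w hw => ?_).symm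
  · obtain ⟨heT, hv⟩ := mem_filter.1 he
    have := hloop e heT
    refine mem_filter.2 ⟨mem_univ _, ?_⟩
    by_cases a : (ends e).1 = v
    · simp only [oth, if_pos a]
      exact ⟨fun hb => this (a.trans hb.symm), e, heT, Or.inl (Prod.ext a rfl)⟩
    · simp only [oth, if_neg a]
      exact ⟨a, e, heT, Or.inr (Prod.ext rfl (hv.resolve_left a))⟩
  · obtain ⟨heT, hv⟩ := mem_filter.1 he
    obtain ⟨heT', hv'⟩ := mem_filter.1 he'
    by_contra hne
    have hjoin : AdjIn ends {e'} v (oth e) := by
      rw [h]
      refine ⟨e', mem_singleton_self _, ?_⟩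
      by_cases a : (ends e').1 = v
      · simp only [oth, if_pos a]; exact Or.inl (Prod.ext a rfl)
      · simp only [oth, if_neg a]; exact Or.inr (Prod.ext rfl (hv'.resolve_left a))
    have hr : Reach ends {e'} (ends e).1 (ends e).2 := by
      by_cases a : (ends e).1 = v
      · rw [a]; simp only [oth, if_pos a] at hjoin; exact .single hjoin
      · rw [hv.resolve_left a]; simp only [oth, if_neg a] at hjoin; exact reach_symm (.single hjoin)
    obtain ⟨C, hC, hc⟩ := exists_circuit_of_reach (by simpa using hne) hr
    exact hT C (hC.trans (by intro x; simp only [mem_insert, mem_singleton]; rintro (rfl | rfl) <;> assumption)) hc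
  · obtain ⟨-, hne, e, he, h⟩ := mem_filter.1 hw
    rcases h with h | h
    · exact ⟨e, mem_filter.2 ⟨he, Or.inl (by rw [h])⟩, by simp [oth, h]⟩
    · exact ⟨e, mem_filter.2 ⟨he, Or.inr (by rw [h])⟩, by simp [oth, h, hne]⟩

/-- A spanning tree has one edge less than there are vertices. -/
theorem card_tree (v₀ : V) {T : Finset E} (hc : ∀ a b, Reach ends T a b) (hn : NoCirc ends T) :
    T.card + 1 = Fintype.card V := by
  classical
  let F : ({v : V // v ≠ v₀} → ℤ) →ₗ[ℤ] (T → ℤ) :=
    { toFun := fun c e => gr ends (fun v => if h : v = v₀ then 0 else c ⟨v, h⟩) e.1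
      map_add' := fun a b => by funext e; simp only [gr, Pi.add_apply]; split_ifs <;> ring
      map_smul' := fun k a => by funext e; simp only [gr, Pi.smul_apply, smul_eq_mul, RingHom.id_apply]; split_ifs <;> ring }
  have hinj : Function.Injective F := by
    rw [injective_iff_map_eq_zero]
    intro c hF
    funext w
    have : ∀ v, Reach ends T v₀ v → (if h : v = v₀ then 0 else c ⟨v, h⟩) = 0 := by
      intro v hv
      induction hv with
      | refl => simp
      | tail _ hbc ih =>
        obtain ⟨e, he, h⟩ := hbc
        have h1 := congrFun hF ⟨e, he⟩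
        change gr ends (fun v => if h : v = v₀ then 0 else c ⟨v, h⟩) e = 0 at h1
        unfold gr at h1
        rcases h with h | h <;> rw [h] at h1 <;> dsimp only at h1 <;> linarith
    simpa [w.2] using this w.1 (hc v₀ w.1)
  have hsurj : Function.Surjective F := by
    intro x
    obtain ⟨φ, hφ⟩ := exists_gr_eq T hn (fun e => if h : e ∈ T then x ⟨e, h⟩ else 0)
    refine ⟨fun w => φ w.1 - φ v₀, funext fun e => ?_⟩
    have h1 := hφ e.1 e.2
    rw [dif_pos e.2] at h1
    change gr ends (fun v => if h : v = v₀ then 0 else (φ v - φ v₀)) e.1 = x e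
    rw [← h1]
    unfold gr
    have hext : ∀ v, (if h : v = v₀ then 0 else (φ v - φ v₀)) = φ v - φ v₀ := fun v => by
      split_ifs with h
      · subst h; ring
      · rfl
    simp only [hext]; ring
  have := (LinearEquiv.ofBijective F ⟨hinj, hsurj⟩).finrank_eq
  rw [Module.finrank_fintype_fun_eq_card, Module.finrank_fintype_fun_eq_card, Fintype.card_coe,
    Fintype.card_subtype_compl, Fintype.card_subtype_eq] at this
  have := Fintype.card_pos_iff.2 ⟨v₀⟩
  omega

open Classical in
/-- The reduced matrix of a multiplicity function counts spanning trees. -/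
theorem det_reduced {β : V → ℤ} (hβ : LabGraph.IsMultFn ends β) (v₀ : V) :
    |((LabGraph.mfMatrix ends β).submatrix (fun v : {v : V // v ≠ v₀} => v.1) (fun v => v.1)).det| *
        ∏ v : {v : V // v ≠ v₀}, β v.1 ^ 2 =
      ∑ T ∈ univ.powerset.filter (fun T : Finset E => LabGraph.IsSpanningTree ends T),
        ∏ v : V, β v ^ LabGraph.nbrCount ends T v := by
  classical
  set r := Fintype.card {v : V // v ≠ v₀}
  let σ : Fin r ≃ {v : V // v ≠ v₀} := (Fintype.equivFin _).symm
  let lo : LinearOrder E := LinearOrder.lift' (Fintype.equivFin E) (Fintype.equivFin E).injective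
  set w : E → ℤ := fun e => β (ends e).1 * β (ends e).2
  have hcb := CauchyBinet.sum_det_mul_det (fun e (j : Fin r) => w e * inc ends e (σ j).1) (fun e j => inc ends e (σ j).1)
  have hprod : ∀ f : Fin r → E, (Matrix.of fun i j => w (f i) * inc ends (f i) (σ j).1).det =
      (∏ i, w (f i)) * (Matrix.of fun i j => inc ends (f i) (σ j).1).det := fun f => Matrix.det_mul_column _ _
  have hmat : (Matrix.of fun i j : Fin r => ∑ e, w e * inc ends e (σ i).1 * inc ends e (σ j).1) =
      -(Matrix.of fun i j : Fin r => β (σ i).1 * LabGraph.mfMatrix ends β (σ i).1 (σ j).1 * β (σ j).1) := by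
    ext i j
    simp only [Matrix.of_apply, Matrix.neg_apply]
    set u := (σ i).1 with hu
    set v := (σ j).1 with hv
    unfold LabGraph.mfMatrix
    by_cases huv : u = v
    · rw [if_pos huv, ← huv, Int.mul_ediv_cancel' (dvd_neg.2 (hβ u).2), neg_mul, neg_neg, sum_mul]
      unfold LabGraph.edgeMult
      simp only [card_filter, Nat.cast_sum, Nat.cast_ite, Nat.cast_one, Nat.cast_zero, mul_sum, sum_mul]
      rw [sum_comm (s := univ.erase u)]
      refine sum_congr rfl fun e _ => ?_
      by_cases a : (ends e).1 = u <;> by_cases b : (ends e).2 = u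
      · rw [sum_eq_zero fun x hx => by
          have := ne_of_mem_erase hx
          simp [Prod.ext_iff, a, b, this.symm]]
        simp [inc, a, b]
      · rw [sum_eq_single (ends e).2 (fun x hx hne => by simp [Prod.ext_iff, a, b, hne.symm])
          (fun h => absurd (mem_erase.2 ⟨b, mem_univ _⟩) h)]
        simp [inc, w, Prod.ext_iff, a, b]; ring
      · rw [sum_eq_single (ends e).1 (fun x hx hne => by simp [Prod.ext_iff, a, b, hne.symm])
          (fun h => absurd (mem_erase.2 ⟨a, mem_univ _⟩) h)]
        simp [inc, w, Prod.ext_iff, a, b]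
      · rw [sum_eq_zero fun x hx => by simp [Prod.ext_iff, a, b]]
        simp [inc, a, b]
    · rw [if_neg huv, LabGraph.edgeMult, card_filter]
      push_cast
      rw [mul_sum, sum_mul, ← sum_neg_distrib]
      refine sum_congr rfl fun e _ => ?_
      by_cases a : (ends e).1 = u <;> by_cases b : (ends e).2 = u <;>
        by_cases c : (ends e).1 = v <;> by_cases d : (ends e).2 = v <;>
        first
          | exact absurd (a.symm.trans c) huv
          | exact absurd (b.symm.trans d) huv
          | (simp [inc, w, Prod.ext_iff, a, b, c, d, huv, Ne.symm huv]; try ring)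
  have hdet : (Matrix.of fun i j : Fin r => β (σ i).1 * LabGraph.mfMatrix ends β (σ i).1 (σ j).1 * β (σ j).1).det =
      (∏ v : {v : V // v ≠ v₀}, β v.1 ^ 2) *
        ((LabGraph.mfMatrix ends β).submatrix (fun v : {v : V // v ≠ v₀} => v.1) (fun v => v.1)).det := by
    rw [← Matrix.det_submatrix_equiv_self σ ((LabGraph.mfMatrix ends β).submatrix _ _), ← σ.prod_comp]
    simp only [pow_two, prod_mul_distrib]
    have h1 := Matrix.det_mul_row (fun j => β (σ j).1)
      (Matrix.of fun i j : Fin r => β (σ i).1 * LabGraph.mfMatrix ends β (σ i).1 (σ j).1)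
    have h2 := Matrix.det_mul_column (fun i => β (σ i).1)
      (Matrix.of fun i j : Fin r => LabGraph.mfMatrix ends β (σ i).1 (σ j).1)
    simp only [Matrix.of_apply] at h1 h2
    rw [show (Matrix.of fun i j : Fin r => β (σ i).1 * LabGraph.mfMatrix ends β (σ i).1 (σ j).1 * β (σ j).1) =
      Matrix.of fun i j : Fin r => β (σ j).1 * (β (σ i).1 * LabGraph.mfMatrix ends β (σ i).1 (σ j).1) from
        Matrix.ext fun i j => by simp only [Matrix.of_apply]; ring, h1, h2, mul_assoc]
    rfl
  -- the combinatorial side
  have hsum : ∑ f ∈ univ.filter (fun f : Fin r → E => StrictAnti f),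
      (Matrix.of fun i j => w (f i) * inc ends (f i) (σ j).1).det * (Matrix.of fun i j => inc ends (f i) (σ j).1).det =
      ∑ T ∈ univ.powerset.filter (fun T : Finset E => LabGraph.IsSpanningTree ends T),
        ∏ v : V, β v ^ LabGraph.nbrCount ends T v := by
    have hterm : ∀ f ∈ univ.filter (fun f : Fin r → E => StrictAnti f),
        (Matrix.of fun i j => w (f i) * inc ends (f i) (σ j).1).det * (Matrix.of fun i j => inc ends (f i) (σ j).1).det =
        if LabGraph.IsSpanningTree ends (univ.image f) then ∏ i, w (f i) else 0 := by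
      intro f hf
      rw [hprod, mul_assoc, det_sq v₀ σ f (mem_filter.1 hf).2.injective, mul_ite, mul_one, mul_zero]
      simp only [LabGraphTree.isSpanningTree_iff, and_iff_right (⟨v₀⟩ : Nonempty V)]
    rw [sum_congr rfl hterm, ← sum_filter]
    refine sum_bij (fun f _ => univ.image f) (fun f hf => ?_) (fun f hf g hg h => ?_) (fun T hT => ?_) (fun f hf => ?_)
    · exact mem_filter.2 ⟨mem_powerset.2 (subset_univ _), (mem_filter.1 hf).2⟩
    · exact CauchyBinet.strictAnti_range_inj (mem_filter.1 (mem_filter.1 hf).1).2 (mem_filter.1 (mem_filter.1 hg).1).2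
        (by simpa [Set.ext_iff, Finset.ext_iff] using h)
    · obtain ⟨-, hT⟩ := mem_filter.1 hT
      obtain ⟨-, hcT, hnT⟩ := (LabGraphTree.isSpanningTree_iff T).1 hT
      have hcard : T.card = r := by
        have := card_tree v₀ hcT hnT
        simp only [r, Fintype.card_subtype_compl, Fintype.card_subtype_eq]
        omega
      refine ⟨fun i => T.orderEmbOfFin hcard i.rev, ?_, ?_⟩
      · have himg : univ.image (fun i : Fin r => T.orderEmbOfFin hcard i.rev) = T := by
          rw [← Finset.coe_inj, coe_image, coe_univ, Set.image_univ]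
          exact (Fin.rev_surjective.range_comp _).trans (range_orderEmbOfFin T hcard)
        refine mem_filter.2 ⟨mem_filter.2 ⟨mem_univ _, fun a b hab => ?_⟩, by rwa [himg]⟩
        exact (T.orderEmbOfFin hcard).strictMono (Fin.rev_lt_rev.2 hab)
      · rw [← Finset.coe_inj, coe_image, coe_univ, Set.image_univ]
        exact (Fin.rev_surjective.range_comp _).trans (range_orderEmbOfFin T hcard)
    · obtain ⟨hf1, hf2⟩ := mem_filter.1 hf
      obtain ⟨-, -, hnT⟩ := (LabGraphTree.isSpanningTree_iff _).1 hf2
      rw [← prod_image (f := w) (mem_filter.1 hf1).2.injective.injOn]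
      simp only [nbrCount_eq hnT, LabGraph.endCount, ← prod_pow_eq_pow_sum]
      rw [prod_comm]
      refine prod_congr rfl fun e _ => ?_
      simp only [pow_add, prod_mul_distrib, pow_ite, pow_one, pow_zero, prod_ite_eq, mem_univ, if_true, w]
  have hpos : 0 < ∑ T ∈ univ.powerset.filter (fun T : Finset E => LabGraph.IsSpanningTree ends T),
        ∏ v : V, β v ^ LabGraph.nbrCount ends T v ∨ (∑ T ∈ univ.powerset.filter (fun T : Finset E => LabGraph.IsSpanningTree ends T),
        ∏ v : V, β v ^ LabGraph.nbrCount ends T v) = 0 := by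
    rcases (univ.powerset.filter (fun T : Finset E => LabGraph.IsSpanningTree ends T)).eq_empty_or_nonempty with h | h
    · exact Or.inr (by rw [h, sum_empty])
    · exact Or.inl (sum_pos (fun T _ => prod_pos fun v _ => pow_pos (hβ v).1 _) h)
  have hnn : 0 ≤ ∑ T ∈ univ.powerset.filter (fun T : Finset E => LabGraph.IsSpanningTree ends T),
        ∏ v : V, β v ^ LabGraph.nbrCount ends T v := sum_nonneg fun T _ => prod_nonneg fun v _ => pow_nonneg (hβ v).1.le _
  have hP : 0 ≤ ∏ v : {v : V // v ≠ v₀}, β v.1 ^ 2 := prod_nonneg fun v _ => sq_nonneg _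
  rw [hsum, hmat, Matrix.det_neg, hdet] at hcb
  have h3 := congrArg abs hcb
  rw [abs_of_nonneg hnn, abs_mul, abs_mul, abs_pow, abs_neg, abs_one, one_pow, one_mul, abs_of_nonneg hP] at h3
  rw [h3, mul_comm]

end LabGraphMatrixTree
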