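import Groth.Agent.Lib.LambdaRat

/-!
The binomial λ-structure: Adams operations are the identity; binomial rings are special.
-/

namespace Groth.Agent.AdamsSp

open MvPolynomial Finset LambdaRing
open scoped TensorProduct

universe u

attribute [local instance] BinomialRing.toIsAddTorsionFree

variable {K : Type u} [CommRing K] [BinomialRing K]

lemma succ_mul_choose (x : K) (m : ℕ) :
    ((m : K) + 1) * Ring.choose x (m + 1) = (x - m) * Ring.choose x m := by
  rw [← nsmul_right_inj (Nat.factorial_ne_zero m)]
  have h1 := Ring.descPochhammer_eq_factorial_smul_choose x (m + 1)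
  rw [descPochhammer_succ_right, Polynomial.smeval_mul,
    Ring.descPochhammer_eq_factorial_smul_choose, Polynomial.smeval_sub, Polynomial.smeval_X,
    Polynomial.smeval_natCast, pow_zero, pow_one, Nat.factorial_succ] at h1
  simp only [nsmul_eq_mul, Nat.cast_mul, Nat.cast_add, Nat.cast_one] at h1 ⊢
  linear_combination -h1

variable [LambdaOps K]

lemma rel_binomial (hKb : IsBinomial K) (x : K) (m : ℕ) :
    Rel (fun n => LambdaOps.lam n x) (fun _ => x) m := by
  rw [Rel]
  simp only [hKb _ x]
  rw [succ_mul_choose, Fin.sum_univ_eq_sum_range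
    (fun i => (-1 : K) ^ i * x * Ring.choose x (m - i))]
  induction m with
  | zero => simp
  | succ m ih =>
    rw [Finset.sum_range_succ']
    have : ∀ i : ℕ, (-1 : K) ^ (i + 1) * x * Ring.choose x (m + 1 - (i + 1)) =
        -((-1 : K) ^ i * x * Ring.choose x (m - i)) := fun i => by
      rw [pow_succ, show m + 1 - (i + 1) = m - i by omega]
      ring
    simp only [this, Finset.sum_neg_distrib, ← ih, Nat.sub_zero, pow_zero, Nat.cast_add, Nat.cast_one]
    linear_combination -succ_mul_choose x m

lemma adamsOp_binomial (hKb : IsBinomial K) (k : ℕ) (hk : 1 ≤ k) (x : K) : adamsOp k x = x :=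
  adamsOp_eq_of_rel x (fun _ => x) (rel_binomial hKb x) k hk

theorem isSpecial_of_isBinomial (hKb : IsBinomial K) : IsSpecial K := by
  classical
  let L := ℚ ⊗[ℤ] K
  let : Module ℚ≥0 L := Module.compHom L (NNRat.coeHom : ℚ≥0 →+* ℚ)
  let : LambdaOps L := binomialLambdaOps L
  have hLb : IsBinomial L := fun n x => rfl
  have hL : IsSpecial L := by
    refine isSpecial (fun k hk => adamsOp_binomial hLb k hk 1)
      (fun k hk x y => ?_) (fun k k' hk hk' x => ?_)
    · rw [adamsOp_binomial hLb k hk, adamsOp_binomial hLb k hk, adamsOp_binomial hLb k hk]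
    · rw [adamsOp_binomial hLb k hk, adamsOp_binomial hLb k' hk',
        adamsOp_binomial hLb (k * k') (Nat.mul_pos hk hk')]
  let f : K →+* L := (Algebra.TensorProduct.includeRight : K →ₐ[ℤ] L).toRingHom
  have hf : Function.Injective f :=
    Algebra.TensorProduct.includeRight_injective (fun a b h => by simpa using h)
  have hlam : ∀ n x, f (LambdaOps.lam n x) = LambdaOps.lam n (f x) := fun n x => by
    rw [hKb n x, hLb n (f x), Ring.map_choose]
  refine ⟨fun n hn => ?_, fun n P hP x y => ?_, fun i j Q hQ x => ?_⟩
  · apply hf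
    rw [hlam, map_one, map_zero, hL.lam_one_eq_zero n hn]
  · apply hf
    rw [hlam, map_mul, hL.lam_mul n P hP, aeval_def, aeval_def, eval₂_comp_left f]
    congr 1
    · exact RingHom.ext_int _ _
    · funext i
      rcases i with i | i <;> simp [hlam]
  · apply hf
    rw [hlam, hlam, hL.lam_lam i j Q hQ, aeval_def, aeval_def, eval₂_comp_left f]
    congr 1
    · exact RingHom.ext_int _ _
    · funext t
      simp [hlam]

end Groth.Agent.AdamsSp
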