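import Groth.Agent.Lib.AdamsSpecial

/-!
Consequences of Newton's identities for λ-rings: Adams operations as `W`, λ-structures from Adams
operations, multiplicativity of Adams operations of special λ-rings, the binomial structure.
-/

namespace Groth.Agent.AdamsSp

open MvPolynomial Finset LambdaRing

universe u v

lemma adamsOp_eq_W {K : Type u} [CommRing K] [LambdaOps K] (x : K) (k : ℕ) (hk : 1 ≤ k) :
    adamsOp k x = W (fun n => LambdaOps.lam n x) k :=
  (W_eq_of_rel (a := fun n => LambdaOps.lam n x) (LambdaOps.lam_zero x) k hk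
    fun m _ => rel_adams x m).symm

lemma adamsOp_eq_of_rel {K : Type u} [CommRing K] [LambdaOps K] (x : K) (q : ℕ → K)
    (h : ∀ m, Rel (fun n => LambdaOps.lam n x) q m) (k : ℕ) (hk : 1 ≤ k) :
    adamsOp k x = q k := by
  rw [adamsOp_eq_W x k hk]
  exact W_eq_of_rel (a := fun n => LambdaOps.lam n x) (LambdaOps.lam_zero x) k hk fun m _ => h m

theorem map_adamsOp {K : Type u} {K' : Type v} [CommRing K] [CommRing K'] [LambdaOps K]
    [LambdaOps K'] (f : K →+* K') (hf : ∀ n x, f (LambdaOps.lam n x) = LambdaOps.lam n (f x))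
    (k : ℕ) (hk : 1 ≤ k) (x : K) : f (adamsOp k x) = adamsOp k (f x) := by
  rw [adamsOp_eq_W x k hk, adamsOp_eq_W (f x) k hk, map_W]
  exact W_congr _ _ k fun n _ => hf n x

variable {R : Type u} [CommRing R] [Algebra ℚ R]

lemma E_succ (q : ℕ → R) (m : ℕ) : Rel (E q) q m := by
  rw [Rel, E, ← mul_assoc]
  have : ((m : R) + 1) * algebraMap ℚ R (((m : ℚ) + 1)⁻¹) = 1 := by
    rw [show ((m : R) + 1) = algebraMap ℚ R ((m : ℚ) + 1) by simp, ← map_mul,
      mul_inv_cancel₀ (by positivity), map_one]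
  rw [this, one_mul]

lemma E_one (q : ℕ → R) : E q 1 = q 1 := by
  simp [E]

lemma W_E (q : ℕ → R) (k : ℕ) (hk : 1 ≤ k) : W (E q) k = q k :=
  W_eq_of_rel (by rw [E]) k hk fun m _ => E_succ q m

lemma derivative_mk_E (q : ℕ → R) :
    PowerSeries.derivative R (PowerSeries.mk (E q)) =
      PowerSeries.mk (fun i => (-1) ^ i * q (i + 1)) * PowerSeries.mk (E q) := by
  ext m
  rw [PowerSeries.coeff_derivative, PowerSeries.coeff_mul,
    Finset.Nat.sum_antidiagonal_eq_sum_range_succ_mk, PowerSeries.coeff_mk, mul_comm]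
  simp only [PowerSeries.coeff_mk]
  rw [E_succ q m, Fin.sum_univ_eq_sum_range (fun i => (-1 : R) ^ i * q (i + 1) * E q (m - i))]

lemma E_add (p q : ℕ → R) (n : ℕ) :
    E (fun k => p k + q k) n = ∑ i ∈ Finset.range (n + 1), E p i * E q (n - i) := by
  set S := PowerSeries.mk (E p) * PowerSeries.mk (E q) with hS
  have h : ∀ i, PowerSeries.coeff i S = ∑ l ∈ Finset.range (i + 1), E p l * E q (i - l) := fun i => by
    rw [hS, PowerSeries.coeff_mul, Finset.Nat.sum_antidiagonal_eq_sum_range_succ_mk]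
    simp only [PowerSeries.coeff_mk]
  rw [← h]
  refine E_eq_of_rel (a := fun i => PowerSeries.coeff i S) ?_ n fun m _ => ?_
  · change PowerSeries.coeff 0 S = 1
    rw [h]
    simp [E]
  · have hd : PowerSeries.derivative R S =
        PowerSeries.mk (fun i => (-1) ^ i * (p (i + 1) + q (i + 1))) * S := by
      rw [hS, Derivation.leibniz, smul_eq_mul, smul_eq_mul, derivative_mk_E, derivative_mk_E,
        show PowerSeries.mk (fun i => (-1 : R) ^ i * (p (i + 1) + q (i + 1))) =
          PowerSeries.mk (fun i => (-1 : R) ^ i * p (i + 1)) +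
            PowerSeries.mk (fun i => (-1 : R) ^ i * q (i + 1)) by ext i; simp [mul_add]]
      ring
    clear_value S
    clear hS
    have hm := congrArg (PowerSeries.coeff m) hd
    rw [PowerSeries.coeff_derivative, PowerSeries.coeff_mul,
      Finset.Nat.sum_antidiagonal_eq_sum_range_succ_mk, mul_comm] at hm
    simp only [PowerSeries.coeff_mk] at hm
    rw [Rel, hm, Fin.sum_univ_eq_sum_range
      (fun i => (-1 : R) ^ i * (p (i + 1) + q (i + 1)) * PowerSeries.coeff (m - i) S)]

/-- The λ-structure attached to a family of additive operations `ψ` with `ψ 1 = id`. -/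
@[reducible] noncomputable def opsOfAdams (ψ : ℕ → R →+ R) (hψ : ψ 1 = AddMonoidHom.id R) :
    LambdaOps R where
  lam n x := E (fun k => ψ k x) n
  lam_zero x := by rw [E]
  lam_one x := by rw [E_one, hψ, AddMonoidHom.id_apply]
  lam_add n x y := by rw [← E_add, E_congr _ _ n fun k _ _ => map_add (ψ k) x y]

theorem adamsOp_opsOfAdams (ψ : ℕ → R →+ R) (hψ : ψ 1 = AddMonoidHom.id R) (k : ℕ) (hk : 1 ≤ k)
    (x : R) : @adamsOp R _ (opsOfAdams ψ hψ) k x = ψ k x := by
  let := opsOfAdams ψ hψ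
  exact adamsOp_eq_of_rel x (fun k => ψ k x) (fun m => E_succ _ m) k hk

/-- The product polynomials give multiplicative Adams operations. -/
theorem adamsOp_mul {K : Type u} [CommRing K] [LambdaOps K]
    (hmulK : ∀ (n : ℕ) (P : MvPolynomial (Fin n ⊕ Fin n) ℤ), IsMulPoly n P → ∀ x y : K,
      LambdaOps.lam n (x * y) =
      aeval (Sum.elim (fun k : Fin n => LambdaOps.lam ((k : ℕ) + 1) x)
        (fun k : Fin n => LambdaOps.lam ((k : ℕ) + 1) y)) P)
    (hP : ∀ n : ℕ, ∃ P : MvPolynomial (Fin n ⊕ Fin n) ℤ, IsMulPoly n P)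
    (k : ℕ) (hk : 1 ≤ k) (x y : K) :
    adamsOp k (x * y) = adamsOp k x * adamsOp k y := by
  classical
  choose P hP using hP
  let eZ : (Fin k → Fin k ⊕ Fin k) → ℕ → MvPolynomial (Fin k ⊕ Fin k) ℤ := fun emb i =>
    if h : 1 ≤ i ∧ i ≤ k then X (emb ⟨i - 1, by omega⟩) else if i = 0 then 1 else 0
  let a : ℕ → MvPolynomial (Fin k ⊕ Fin k) ℤ := fun n =>
    if h : n ≤ k then (if n = 0 then 1 else rename (Sum.map (Fin.castLE h) (Fin.castLE h)) (P n)) else 0
  let q : ℕ → MvPolynomial (Fin k ⊕ Fin k) ℚ := fun l =>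
    W (eX k Sum.inl) l * W (eX k Sum.inr) l
  let ι : MvPolynomial (Fin k ⊕ Fin k) ℤ →+* MvPolynomial (Fin k ⊕ Fin k) ℚ :=
    map (Int.castRingHom ℚ)
  have hιe : ∀ emb i, ι (eZ emb i) = eX k emb i := by
    intro emb i
    simp only [eZ, eX]
    split_ifs <;> simp [ι]
  have hιW : ∀ emb l, ι (W (eZ emb) l) = W (eX k emb) l := fun emb l => by
    rw [map_W]
    exact W_congr _ _ l fun i _ => hιe emb i
  have hιa : ∀ n, n ≤ k → ι (a n) = E q n := by
    intro n hn
    rcases Nat.eq_zero_or_pos n with rfl | hn0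
    · simp [a, ι, E]
    · have hn1 : n ≠ 0 := by omega
      simp only [a, dif_pos hn, if_neg hn1]
      set f := Sum.map (Fin.castLE hn) (Fin.castLE hn)
      have e1 : ι (rename f (P n)) =
          (rename f).toRingHom (aeval X (P n) : MvPolynomial (Fin n ⊕ Fin n) ℚ) := by
        have hm : ∀ p : MvPolynomial (Fin n ⊕ Fin n) ℤ,
            map (Int.castRingHom ℚ) p = (aeval X p : MvPolynomial (Fin n ⊕ Fin n) ℚ) := fun p => by
          induction p using MvPolynomial.induction_on with
          | C r => simp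
          | add p q hp hq => simp [hp, hq]
          | mul_X p l hp => simp [hp]
        simp only [ι, map_rename, hm]
        rfl
      rw [e1, mulPoly_eq n (P n) (hP n).1, map_E]
      refine E_congr _ _ n fun l _ hl' => ?_
      simp only [q]
      rw [map_mul, map_W, map_W]
      congr 1
      · exact W_congr _ _ l fun i hi => map_eX n _ _ _ (by simp [eX]) (fun t => by
          simp [f, eX, Fin.castLE, show (t : ℕ) < k by omega]) i (hi.trans hl')
      · exact W_congr _ _ l fun i hi => map_eX n _ _ _ (by simp [eX]) (fun t => by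
          simp [f, eX, Fin.castLE, show (t : ℕ) < k by omega]) i (hi.trans hl')
  have hkey : W a k = W (eZ Sum.inl) k * W (eZ Sum.inr) k := by
    apply map_injective (Int.castRingHom ℚ) Int.cast_injective
    change ι _ = ι _
    rw [map_mul, hιW, hιW, map_W, W_congr _ (E q) k hιa, W_E q k hk]
  let Φ := aeval (R := ℤ) (Sum.elim (fun i : Fin k => LambdaOps.lam ((i : ℕ) + 1) x)
    (fun i : Fin k => LambdaOps.lam ((i : ℕ) + 1) y))
  have hΦe : ∀ (z : K) (emb : Fin k → Fin k ⊕ Fin k),
      (∀ i : Fin k, Φ (X (emb i)) = LambdaOps.lam ((i : ℕ) + 1) z) →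
      Φ (W (eZ emb) k) = adamsOp k z := by
    intro z emb hemb
    rw [adamsOp_eq_W z k hk, ← RingHom.coe_coe, map_W]
    refine W_congr _ _ k fun i hi => ?_
    rw [RingHom.coe_coe]
    simp only [eZ]
    rcases Nat.eq_zero_or_pos i with rfl | hi0
    · rw [dif_neg (by omega), if_pos rfl, map_one, LambdaOps.lam_zero]
    · rw [dif_pos ⟨hi0, hi⟩, hemb, show (i - 1) + 1 = i by omega]
  rw [← hΦe x Sum.inl (fun i => by simp [Φ]), ← hΦe y Sum.inr (fun i => by simp [Φ]),
    ← map_mul Φ, ← hkey, adamsOp_eq_W (x * y) k hk, ← RingHom.coe_coe Φ, map_W]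
  refine W_congr _ _ k fun n hn => ?_
  rw [RingHom.coe_coe]
  rcases Nat.eq_zero_or_pos n with rfl | hn0
  · simp [a, LambdaOps.lam_zero]
  · have hn1 : n ≠ 0 := by omega
    simp only [a, dif_pos hn, if_neg hn1, Φ, aeval_rename]
    rw [hmulK n (P n) (hP n) x y]
    congr 2
    funext i
    rcases i with i | i <;> simp [Fin.castLE]

end Groth.Agent.AdamsSp
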