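import Groth.Prelude.Def_LiftSq
import Groth.Prelude.Def_FibCat2

/-! Composition and base change of unique lifting in 2-categories of based categories. -/

set_option autoImplicit false
set_option backward.isDefEq.respectTransparency false
set_option backward.isDefEq.respectTransparency.types false

universe v₇ u₇ v₆ u₆ v₅ u₅ v₄ u₄ v₃ u₃ v₂ u₂ v u

open CategoryTheory CategoryTheory.Limits

namespace Groth.Agent.Lib.LiftSqCalc

variable {C : Type u} [Category.{v} C]
  {𝒜 : BasedCategory.{v₂, u₂} C} {ℬ : BasedCategory.{v₃, u₃} C}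
  {𝒳 : BasedCategory.{v₄, u₄} C} {𝒴 : BasedCategory.{v₅, u₅} C}
  {𝒵 : BasedCategory.{v₆, u₆} C}

theorem ext_app {F G : 𝒳 ⥤ᵇ 𝒴} {α β : F ⟶ G}
    (h : ∀ x, α.toNatTrans.app x = β.toNatTrans.app x) : α = β :=
  BasedNatTrans.homCategory.ext α β (NatTrans.ext (funext h))

theorem app_congr {F G : 𝒳 ⥤ᵇ 𝒴} {α β : F ⟶ G} (h : α = β) (x : 𝒳.obj) :
    α.toNatTrans.app x = β.toNatTrans.app x := by rw [h]

theorem comp_app {F G H : 𝒳 ⥤ᵇ 𝒴} (α : F ⟶ G) (β : G ⟶ H) (x : 𝒳.obj) :
    (α ≫ β).toNatTrans.app x = α.toNatTrans.app x ≫ β.toNatTrans.app x := rfl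

theorem id_app (F : 𝒳 ⥤ᵇ 𝒴) (x : 𝒳.obj) : (𝟙 F : F ⟶ F).toNatTrans.app x = 𝟙 (F.obj x) := rfl

theorem inv_hom_app {F G : 𝒳 ⥤ᵇ 𝒴} (e : F ≅ G) (x : 𝒳.obj) :
    e.inv.toNatTrans.app x ≫ e.hom.toNatTrans.app x = 𝟙 (G.obj x) := by
  rw [← comp_app, e.inv_hom_id]; rfl

theorem hom_inv_app {F G : 𝒳 ⥤ᵇ 𝒴} (e : F ≅ G) (x : 𝒳.obj) :
    e.hom.toNatTrans.app x ≫ e.inv.toNatTrans.app x = 𝟙 (F.obj x) := by
  rw [← comp_app, e.hom_inv_id]; rfl

/-- whiskering an isomorphism on the right -/
def wrIso {F G : 𝒳 ⥤ᵇ 𝒴} (e : F ≅ G) (H : 𝒴 ⥤ᵇ 𝒵) :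
    BasedFunctor.comp F H ≅ BasedFunctor.comp G H where
  hom := BasedCategory.whiskerRight e.hom H
  inv := BasedCategory.whiskerRight e.inv H
  hom_inv_id := by rw [← LiftSq.whiskerRight_comp', e.hom_inv_id, LiftSq.whiskerRight_id']
  inv_hom_id := by rw [← LiftSq.whiskerRight_comp', e.inv_hom_id, LiftSq.whiskerRight_id']

/-- whiskering an isomorphism on the left -/
def wlIso (H : 𝒳 ⥤ᵇ 𝒴) {F G : 𝒴 ⥤ᵇ 𝒵} (e : F ≅ G) :
    BasedFunctor.comp H F ≅ BasedFunctor.comp H G where
  hom := BasedCategory.whiskerLeft H e.hom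
  inv := BasedCategory.whiskerLeft H e.inv
  hom_inv_id := by rw [← LiftSq.whiskerLeft_comp', e.hom_inv_id, LiftSq.whiskerLeft_id']
  inv_hom_id := by rw [← LiftSq.whiskerLeft_comp', e.inv_hom_id, LiftSq.whiskerLeft_id']

/-- unique morphisms in a category with singleton hom sets are isomorphisms -/
noncomputable def isoOfUniq {j : 𝒜 ⥤ᵇ ℬ} {f : 𝒳 ⥤ᵇ 𝒴} {sq : LiftSq.Sq j f}
    (h : sq.UniqLift) (d d' : sq.Lift) : d ≅ d' :=
  letI i₁ : Unique (d ⟶ d') := (h d d').some
  letI i₂ : Unique (d' ⟶ d) := (h d' d).some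
  letI i₃ : Unique (d ⟶ d) := (h d d).some
  letI i₄ : Unique (d' ⟶ d') := (h d' d').some
  ⟨default, default, Subsingleton.elim _ _, Subsingleton.elim _ _⟩

theorem comp_liftsUniquely {j : 𝒜 ⥤ᵇ ℬ} {f : 𝒳 ⥤ᵇ 𝒴} {g : 𝒴 ⥤ᵇ 𝒵}
    (hf : LiftSq.LiftsUniquely j f) (hg : LiftSq.LiftsUniquely j g) :
    LiftSq.LiftsUniquely j (BasedFunctor.comp f g) := by
  intro sq
  let sg : LiftSq.Sq j g := ⟨BasedFunctor.comp sq.top f, sq.bot, sq.iso⟩
  refine ⟨?_, ?_⟩
  · obtain ⟨b⟩ := (hg sg).1
    let sf : LiftSq.Sq j f := ⟨sq.top, b.fn, b.isoTop⟩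
    obtain ⟨a⟩ := (hf sf).1
    refine ⟨⟨a.fn, a.isoTop, b.isoBot ≪≫ wrIso a.isoBot g, ?_⟩⟩
    apply ext_app; intro x
    have h1 := app_congr b.w x
    have h2 := app_congr a.w x
    change (b.isoBot.hom.toNatTrans.app (j.obj x) ≫ g.map (a.isoBot.hom.toNatTrans.app (j.obj x))) ≫
      g.map (f.map (a.isoTop.hom.toNatTrans.app x)) = sq.iso.hom.toNatTrans.app x
    rw [Category.assoc, ← Functor.map_comp]
    exact (congrArg (fun t => b.isoBot.hom.toNatTrans.app (j.obj x) ≫ g.map t) h2).trans h1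
  · intro d d'
    let mkg : sq.Lift → sg.Lift := fun e =>
      ⟨BasedFunctor.comp e.fn f, wrIso e.isoTop f, e.isoBot, by
        apply ext_app; intro x
        exact app_congr e.w x⟩
    let θ := isoOfUniq (hg sg).2 (mkg d) (mkg d')
    let θi : BasedFunctor.comp d.fn f ≅ BasedFunctor.comp d'.fn f :=
      ⟨θ.hom.hom, θ.inv.hom, congrArg LiftSq.Sq.Lift.Hom.hom θ.hom_inv_id,
        congrArg LiftSq.Sq.Lift.Hom.hom θ.inv_hom_id⟩
    let sf : LiftSq.Sq j f := ⟨sq.top, BasedFunctor.comp d.fn f, wrIso d.isoTop f⟩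
    let e₁ : sf.Lift := ⟨d.fn, d.isoTop, Iso.refl _, by
      apply ext_app; intro x
      exact Category.id_comp _⟩
    let e₂ : sf.Lift := ⟨d'.fn, d'.isoTop, θi, θ.hom.w_top⟩
    obtain ⟨u⟩ := (hf sf).2 e₁ e₂
    let h := u.default.hom
    have hb : BasedCategory.whiskerRight h f = θ.hom.hom := by
      have := u.default.w_bot
      apply ext_app; intro x
      have hx := app_congr this x
      exact (Category.id_comp _).symm.trans hx
    refine ⟨⟨⟨⟨h, u.default.w_top, ?_⟩⟩, ?_⟩⟩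
    · apply ext_app; intro x
      have hx := app_congr θ.hom.w_bot x
      have hb' := app_congr hb x
      refine Eq.trans ?_ hx
      exact congrArg (fun t => d.isoBot.hom.toNatTrans.app x ≫ g.map t) hb'
    · intro k
      apply LiftSq.Sq.Lift.hom_ext
      let kg : mkg d ⟶ mkg d' :=
        ⟨BasedCategory.whiskerRight k.hom f, by
          apply ext_app; intro x
          have hx := app_congr k.w_top x
          change f.map (k.hom.toNatTrans.app (j.obj x)) ≫ f.map (d'.isoTop.hom.toNatTrans.app x) =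
            f.map (d.isoTop.hom.toNatTrans.app x)
          rw [← Functor.map_comp]; exact congrArg (fun t => f.map t) hx, by
          apply ext_app; intro x
          exact app_congr k.w_bot x⟩
      have hk : kg = θ.hom := by
        haveI := ((hg sg).2 (mkg d) (mkg d')).some
        exact Subsingleton.elim _ _
      let kf : e₁ ⟶ e₂ := ⟨k.hom, k.w_top, by
        apply ext_app; intro x
        exact (Category.id_comp _).trans (app_congr (congrArg LiftSq.Sq.Lift.Hom.hom hk) x)⟩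
      have hu : kf = u.default := u.uniq kf
      exact (congrArg (fun m : e₁ ⟶ e₂ => m.hom) hu :)

section BaseChange

variable {𝒴' : BasedCategory.{v₇, u₇} C}

open FibCat

theorem fp_hom_ext {f : 𝒳 ⥤ᵇ 𝒴} {y : 𝒴' ⥤ᵇ 𝒴} {p q : (fp y f).obj} {a b : p ⟶ q}
    (h₁ : a.hom.fst = b.hom.fst) (h₂ : a.hom.snd = b.hom.snd) : a = b := by
  apply ObjectProperty.hom_ext; exact CategoricalPullback.hom_ext h₁ h₂

/-- build a 2-morphism into the fibre product from components -/
def homFp {f : 𝒳 ⥤ᵇ 𝒴} {y : 𝒴' ⥤ᵇ 𝒴} {F G : ℬ ⥤ᵇ fp y f}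
    (a : BasedFunctor.comp F (fpFst y f) ⟶ BasedFunctor.comp G (fpFst y f))
    (b : BasedFunctor.comp F (fpSnd y f) ⟶ BasedFunctor.comp G (fpSnd y f))
    (h : ∀ x, (F.obj x).obj.iso.hom ≫ f.map (b.toNatTrans.app x) =
      y.map (a.toNatTrans.app x) ≫ (G.obj x).obj.iso.hom) : F ⟶ G :=
  { toNatTrans :=
      { app := fun x => ObjectProperty.homMk
          { fst := a.toNatTrans.app x
            snd := b.toNatTrans.app x
            w := (h x).symm }
        naturality := fun x x' g => fp_hom_ext (a.toNatTrans.naturality g) (b.toNatTrans.naturality g) }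
    isHomLift' := fun x => by
      have ha := a.isHomLift' x
      exact IsHomLift.of_fac' (fp y f).p _ _ (IsHomLift.domain_eq 𝒴'.p (𝟙 (ℬ.p.obj x)) (a.toNatTrans.app x))
        (IsHomLift.codomain_eq 𝒴'.p (𝟙 (ℬ.p.obj x)) (a.toNatTrans.app x))
        (IsHomLift.fac' 𝒴'.p (𝟙 (ℬ.p.obj x)) (a.toNatTrans.app x)) }

theorem homFp_fst {f : 𝒳 ⥤ᵇ 𝒴} {y : 𝒴' ⥤ᵇ 𝒴} {F G : ℬ ⥤ᵇ fp y f}
    (a : BasedFunctor.comp F (fpFst y f) ⟶ BasedFunctor.comp G (fpFst y f))
    (b : BasedFunctor.comp F (fpSnd y f) ⟶ BasedFunctor.comp G (fpSnd y f)) (h) (x : ℬ.obj) :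
    ((homFp a b h).toNatTrans.app x).hom.fst = a.toNatTrans.app x := rfl

theorem fpFst_liftsUniquely {j : 𝒜 ⥤ᵇ ℬ} {f : 𝒳 ⥤ᵇ 𝒴} (y : 𝒴' ⥤ᵇ 𝒴)
    (hf : LiftSq.LiftsUniquely j f) : LiftSq.LiftsUniquely j (fpFst y f) := by
  intro sq
  let sf : LiftSq.Sq j f := ⟨BasedFunctor.comp sq.top (fpSnd y f), BasedFunctor.comp sq.bot y,
    wrIso sq.iso y ≪≫ wlIso sq.top (fpIso y f)⟩
  refine ⟨?_, ?_⟩
  · obtain ⟨a⟩ := (hf sf).1
    let L : ℬ ⥤ᵇ fp y f := fpLift sq.bot a.fn a.isoBot
    have hcomp : ∀ x, a.isoBot.hom.toNatTrans.app (j.obj x) ≫ f.map (a.isoTop.hom.toNatTrans.app x) =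
        y.map (sq.iso.hom.toNatTrans.app x) ≫ (sq.top.obj x).obj.iso.hom := fun x => app_congr a.w x
    let t : BasedFunctor.comp j L ≅ sq.top :=
      { hom := homFp (F := BasedFunctor.comp j L) (G := sq.top) sq.iso.hom a.isoTop.hom hcomp
        inv := homFp (F := sq.top) (G := BasedFunctor.comp j L) sq.iso.inv a.isoTop.inv (fun x => by
          have h := hcomp x
          change (sq.top.obj x).obj.iso.hom ≫ f.map (a.isoTop.inv.toNatTrans.app x) =
            y.map (sq.iso.inv.toNatTrans.app x) ≫ a.isoBot.hom.toNatTrans.app (j.obj x)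
          calc (sq.top.obj x).obj.iso.hom ≫ f.map (a.isoTop.inv.toNatTrans.app x)
              = (y.map (sq.iso.inv.toNatTrans.app x ≫ sq.iso.hom.toNatTrans.app x) ≫
                  (sq.top.obj x).obj.iso.hom) ≫ f.map (a.isoTop.inv.toNatTrans.app x) := by
                rw [inv_hom_app]
                erw [Functor.map_id, Category.id_comp]
            _ = y.map (sq.iso.inv.toNatTrans.app x) ≫ (y.map (sq.iso.hom.toNatTrans.app x) ≫
                  (sq.top.obj x).obj.iso.hom) ≫ f.map (a.isoTop.inv.toNatTrans.app x) := by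
                rw [Functor.map_comp, Category.assoc, Category.assoc, Category.assoc]
            _ = _ := by
                rw [← h, Category.assoc, ← Functor.map_comp, hom_inv_app]
                erw [Functor.map_id, Category.comp_id])
        hom_inv_id := ext_app fun x => fp_hom_ext (hom_inv_app sq.iso x) (hom_inv_app a.isoTop x)
        inv_hom_id := ext_app fun x => fp_hom_ext (inv_hom_app sq.iso x) (inv_hom_app a.isoTop x) }
    refine ⟨⟨L, t, Iso.refl sq.bot, ?_⟩⟩
    apply ext_app; intro x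
    exact Category.id_comp _
  · intro d d'
    let mk : sq.Lift → sf.Lift := fun e =>
      ⟨BasedFunctor.comp e.fn (fpSnd y f), wrIso e.isoTop (fpSnd y f),
        wrIso e.isoBot y ≪≫ wlIso e.fn (fpIso y f), by
        apply ext_app; intro x
        have hx := app_congr e.w x
        change (y.map (e.isoBot.hom.toNatTrans.app (j.obj x)) ≫ (e.fn.obj (j.obj x)).obj.iso.hom) ≫
            f.map (e.isoTop.hom.toNatTrans.app x).hom.snd =
          y.map (sq.iso.hom.toNatTrans.app x) ≫ (sq.top.obj x).obj.iso.hom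
        erw [Category.assoc, ← (e.isoTop.hom.toNatTrans.app x).hom.w, ← Category.assoc, ← Functor.map_comp]
        exact congrArg (fun t => y.map t ≫ (sq.top.obj x).obj.iso.hom) hx⟩
    obtain ⟨u⟩ := (hf sf).2 (mk d) (mk d')
    let hs := u.default.hom
    let hfst : BasedFunctor.comp d.fn (fpFst y f) ⟶ BasedFunctor.comp d'.fn (fpFst y f) :=
      d.isoBot.inv ≫ d'.isoBot.hom
    let h : d.fn ⟶ d'.fn := homFp hfst hs (fun x => by
      have hb := app_congr u.default.w_bot x
      change (d.fn.obj x).obj.iso.hom ≫ f.map (hs.toNatTrans.app x) =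
        y.map (d.isoBot.inv.toNatTrans.app x ≫ d'.isoBot.hom.toNatTrans.app x) ≫ (d'.fn.obj x).obj.iso.hom
      change (y.map (d.isoBot.hom.toNatTrans.app x) ≫ (d.fn.obj x).obj.iso.hom) ≫
          f.map (hs.toNatTrans.app x) =
        y.map (d'.isoBot.hom.toNatTrans.app x) ≫ (d'.fn.obj x).obj.iso.hom at hb
      rw [Functor.map_comp, Category.assoc, ← hb, Category.assoc, ← Category.assoc (f := y.map _),
        ← Functor.map_comp, inv_hom_app]
      erw [Functor.map_id, Category.id_comp])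
    refine ⟨⟨⟨⟨h, ?_, ?_⟩⟩, ?_⟩⟩
    · apply ext_app; intro x
      refine fp_hom_ext ?_ (app_congr u.default.w_top x)
      have h1 := app_congr d.w x
      have h2 := app_congr d'.w x
      change d.isoBot.hom.toNatTrans.app (j.obj x) ≫ (d.isoTop.hom.toNatTrans.app x).hom.fst =
        sq.iso.hom.toNatTrans.app x at h1
      change d'.isoBot.hom.toNatTrans.app (j.obj x) ≫ (d'.isoTop.hom.toNatTrans.app x).hom.fst =
        sq.iso.hom.toNatTrans.app x at h2
      change (d.isoBot.inv.toNatTrans.app (j.obj x) ≫ d'.isoBot.hom.toNatTrans.app (j.obj x)) ≫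
          (d'.isoTop.hom.toNatTrans.app x).hom.fst = (d.isoTop.hom.toNatTrans.app x).hom.fst
      rw [Category.assoc, h2, ← h1, ← Category.assoc, inv_hom_app]
      erw [Category.id_comp]
    · apply ext_app; intro x
      change d.isoBot.hom.toNatTrans.app x ≫ (d.isoBot.inv.toNatTrans.app x ≫
        d'.isoBot.hom.toNatTrans.app x) = d'.isoBot.hom.toNatTrans.app x
      rw [← Category.assoc, hom_inv_app]
      erw [Category.id_comp]
    · intro k
      apply LiftSq.Sq.Lift.hom_ext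
      apply ext_app; intro x
      refine fp_hom_ext ?_ ?_
      · have hx := app_congr k.w_bot x
        change d.isoBot.hom.toNatTrans.app x ≫ (k.hom.toNatTrans.app x).hom.fst =
          d'.isoBot.hom.toNatTrans.app x at hx
        change (k.hom.toNatTrans.app x).hom.fst =
          d.isoBot.inv.toNatTrans.app x ≫ d'.isoBot.hom.toNatTrans.app x
        rw [← hx, ← Category.assoc, inv_hom_app]
        erw [Category.id_comp]
      · let ks : mk d ⟶ mk d' :=
          ⟨BasedCategory.whiskerRight k.hom (fpSnd y f), by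
            apply ext_app; intro z
            exact congrArg (fun m => m.hom.snd) (app_congr k.w_top z), by
            apply ext_app; intro z
            have hx := app_congr k.w_bot z
            change d.isoBot.hom.toNatTrans.app z ≫ (k.hom.toNatTrans.app z).hom.fst =
              d'.isoBot.hom.toNatTrans.app z at hx
            change (y.map (d.isoBot.hom.toNatTrans.app z) ≫ (d.fn.obj z).obj.iso.hom) ≫
                f.map (k.hom.toNatTrans.app z).hom.snd =
              y.map (d'.isoBot.hom.toNatTrans.app z) ≫ (d'.fn.obj z).obj.iso.hom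
            erw [Category.assoc, ← (k.hom.toNatTrans.app z).hom.w, ← Category.assoc, ← Functor.map_comp]
            exact congrArg (fun t => y.map t ≫ (d'.fn.obj z).obj.iso.hom) hx⟩
        have hu : ks = u.default := u.uniq ks
        exact app_congr (congrArg (fun m : mk d ⟶ mk d' => m.hom) hu) x

end BaseChange

end Groth.Agent.Lib.LiftSqCalc
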