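/-
McCoy theorem
-/
import Mathlib
import Groth.Prelude.Def_CAlgX

open Matrix

universe u

namespace Groth.Agent.McCoy


theorem minor_eq_zero_of_gt {R : Type u} [CommRing R] {m n : ℕ} (M : Matrix (Fin n) (Fin m) R) {r : ℕ} (hr : m < r) :
    CAlgX.minorIdeal M r = ⊥ := by
  rw [CAlgX.minorIdeal, Ideal.span_eq_bot]
  rintro _ ⟨⟨f, g⟩, rfl⟩
  obtain ⟨i, j, hne, he⟩ := Fintype.exists_ne_map_eq_of_card_lt g (by simpa using hr)
  exact Matrix.det_zero_of_column_eq hne fun k => by simp [he]

theorem injective_of_ann {R : Type u} [CommRing R] {m n : ℕ} (M : Matrix (Fin n) (Fin m) R)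
    (h : (CAlgX.minorIdeal M m).annihilator = ⊥) : Function.Injective M.mulVecLin := by
  classical
  rw [← LinearMap.ker_eq_bot, LinearMap.ker_eq_bot']
  intro x hx
  funext l
  rw [Pi.zero_apply]
  have : x l ∈ (CAlgX.minorIdeal M m).annihilator := by
    rw [CAlgX.minorIdeal, Submodule.mem_annihilator_span]
    rintro ⟨_, ⟨f, g⟩, rfl⟩
    show x l * (M.submatrix f g).det = 0
    by_cases hg : Function.Injective g
    · let e : Fin m ≃ Fin m := Equiv.ofBijective g (Finite.injective_iff_bijective.mp hg)
      have h1 : (M.submatrix f g).mulVec (x ∘ g) = 0 := by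
        funext i
        have := congrFun hx (f i)
        simp only [Matrix.mulVecLin_apply, Matrix.mulVec, dotProduct, Pi.zero_apply] at this ⊢
        rw [← this]
        exact Fintype.sum_equiv e _ _ (fun _ => rfl)
      have h2 := congrArg (fun v => (M.submatrix f g).adjugate.mulVec v (e.symm l)) h1
      simp only [Matrix.mulVec_mulVec, Matrix.adjugate_mul, Matrix.smul_mulVec, Matrix.one_mulVec,
        Pi.smul_apply, Function.comp_apply, Matrix.mulVec_zero, Pi.zero_apply, smul_eq_mul] at h2
      rw [show g (e.symm l) = l from e.apply_symm_apply l] at h2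
      rwa [mul_comm]
    · obtain ⟨i, j, he, hne⟩ : ∃ i j, g i = g j ∧ i ≠ j := by simpa [Function.Injective] using hg
      rw [Matrix.det_zero_of_column_eq hne fun k => by simp [he], mul_zero]
  rw [h] at this
  exact this

theorem ann_of_injective {R : Type u} [CommRing R] {m n : ℕ} (M : Matrix (Fin n) (Fin m) R)
    (hM : Function.Injective M.mulVecLin) : (CAlgX.minorIdeal M m).annihilator = ⊥ := by
  classical
  rw [eq_bot_iff]
  intro a ha
  by_contra ha0
  let P : ℕ → Prop := fun r => ∀ (f : Fin r → Fin n) (g : Fin r → Fin m), a * (M.submatrix f g).det = 0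
  have hm : P m := fun f g => by
    have := (Submodule.mem_annihilator.mp ha) _ (Ideal.subset_span ⟨(f, g), rfl⟩)
    exact this
  have hex : ∃ r, P r := ⟨m, hm⟩
  have h0 : ¬ P 0 := fun h => ha0 (by simpa using h Fin.elim0 Fin.elim0)
  obtain ⟨r, hr⟩ : ∃ r, Nat.find hex = r + 1 :=
    Nat.exists_eq_succ_of_ne_zero fun h => h0 (h ▸ Nat.find_spec hex)
  have hP : P (r + 1) := hr ▸ Nat.find_spec hex
  have hnP : ¬ P r := Nat.find_min hex (by omega)
  have hrm : r < m := by have := Nat.find_le (h := hex) hm; omega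
  simp only [P, not_forall] at hnP
  obtain ⟨f, g, hfg⟩ := hnP
  obtain ⟨j, hj⟩ : ∃ j, j ∉ Set.range g := by
    by_contra! h
    have := Fintype.card_le_of_surjective g h
    simp at this
    omega
  let g' : Fin (r + 1) → Fin m := Fin.cons j g
  let c : Fin (r + 1) → R := fun k => a * ((-1) ^ (k : ℕ) * (M.submatrix f (g' ∘ k.succAbove)).det)
  let x : Fin m → R := ∑ k, Pi.single (g' k) (c k)
  have hx : M.mulVecLin x = 0 := by
    funext i
    have h1 := hP (Fin.cons i f) g'
    rw [Matrix.det_succ_row_zero, Finset.mul_sum] at h1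
    simp only [x, map_sum, Finset.sum_apply, Pi.zero_apply]
    rw [← h1]
    refine Finset.sum_congr rfl fun k _ => ?_
    have hsub : (M.submatrix (Fin.cons i f) g').submatrix Fin.succ k.succAbove = M.submatrix f (g' ∘ k.succAbove) := by
      ext p q; simp
    rw [hsub]
    simp [c, Matrix.mulVec_single, Fin.cons_zero]
    ring
  have hxj := congrFun (hM (hx.trans (map_zero _).symm)) j
  rw [Pi.zero_apply] at hxj
  simp only [x, Finset.sum_apply] at hxj
  rw [Fin.sum_univ_succ] at hxj
  have hrest : ∀ k : Fin r, (Pi.single (g' k.succ) (c k.succ) : Fin m → R) j = 0 := fun k =>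
    Pi.single_eq_of_ne (fun h => hj ⟨k, by simpa [g'] using h.symm⟩) _
  simp only [hrest, Finset.sum_const_zero, add_zero] at hxj
  apply hfg
  have hg'0 : g' ∘ (Fin.succAbove 0) = g := funext fun q => by simp [g', Fin.succAbove_zero]
  simpa [g', c, Fin.cons_zero, hg'0] using hxj

theorem rank_iff {R : Type u} [CommRing R] [Nontrivial R] {m n : ℕ} (M : Matrix (Fin n) (Fin m) R) :
    Function.Injective M.mulVecLin ↔ CAlgX.matrixRank M = m ∧ (CAlgX.detIdeal M).annihilator = ⊥ := by
  constructor
  · intro h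
    have hann := ann_of_injective M h
    have hne : CAlgX.minorIdeal M m ≠ ⊥ := fun h0 => by
      rw [h0, Submodule.annihilator_bot] at hann
      exact top_ne_bot hann
    have hrank : CAlgX.matrixRank M = m := by
      refine le_antisymm (csSup_le ⟨m, hne⟩ fun r hr => not_lt.mp fun hlt => hr (minor_eq_zero_of_gt M hlt)) ?_
      exact le_csSup ⟨m, fun r hr => not_lt.mp fun hlt => hr (minor_eq_zero_of_gt M hlt)⟩ hne
    exact ⟨hrank, by rw [CAlgX.detIdeal, hrank]; exact hann⟩
  · rintro ⟨h1, h2⟩
    rw [CAlgX.detIdeal, h1] at h2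
    exact injective_of_ann M h2

theorem ann_eq_bot_iff {R : Type u} [CommRing R] [IsNoetherianRing R] (I : Ideal R) :
    I.annihilator = ⊥ ↔ ∃ a ∈ I, IsRegular a := by
  constructor
  · intro h
    by_contra! hc
    have hsub : (I : Set R) ⊆ ⋃ p ∈ associatedPrimes R R, (p : Set R) := by
      rw [biUnion_associatedPrimes_eq_compl_nonZeroDivisors]
      exact fun x hx hnz => hc x hx (isRegular_iff_mem_nonZeroDivisors.mpr hnz)
    obtain ⟨p, hp, hle⟩ := (Ideal.subset_union_prime_finite (associatedPrimes.finite R R) ⊥ ⊥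
      (fun p hp _ _ => IsAssociatedPrime.isPrime hp)).mp hsub
    obtain ⟨hprime, x, hx⟩ := isAssociatedPrime_iff.mp hp
    have hxI : x ∈ I.annihilator := Submodule.mem_annihilator.mpr fun r hr => by
      have := hle hr
      rw [hx, Submodule.mem_colon_singleton, Submodule.mem_bot] at this
      simpa [mul_comm] using this
    rw [h, Submodule.mem_bot] at hxI
    apply hprime.ne_top
    rw [hx, hxI]
    ext r; simp [Submodule.mem_colon_singleton]
  · rintro ⟨a, ha, hreg⟩
    refine eq_bot_iff.mpr fun x hx => ?_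
    have := Submodule.mem_annihilator.mp hx a ha
    exact hreg.right (by simpa using this)

end Groth.Agent.McCoy
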