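/-
N-1 from local N-1
-/
import Mathlib
import Groth.Prelude.Def_Found
import Groth.Agent.Lib.JapaneseBasic
import Groth.Agent.S9391

open Groth.Agent.JapaneseBasic

universe u

namespace Groth.Agent.N1Local


theorem good_element {R : Type u} [CommRing R] [IsNoetherianRing R] {B : Type u} [AddCommGroup B] [Module R B]
    (f : R) (hreg : IsSMulRegular B f) (N : Submodule R B) (hN : N.FG) (htor : ∀ x : B, ∃ k : ℕ, f ^ k • x ∈ N)
    (m : Ideal R) [m.IsPrime] (hgood : ∀ x : B, ∃ s ∉ m, s • x ∈ N) :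
    ∃ t ∉ m, ∀ x : B, ∃ k : ℕ, t ^ k • x ∈ N := by
  classical
  haveI := Module.Finite.iff_fg.mpr hN
  let Q := associatedPrimes R (B ⧸ N)
  have hsub : Q ⊆ associatedPrimes R (N ⧸ LinearMap.range (LinearMap.lsmul R N f)) := by
    intro q hq
    obtain ⟨hqp, y, hy⟩ := isAssociatedPrime_iff.mp hq
    obtain ⟨x, rfl⟩ := Submodule.Quotient.mk_surjective _ y
    have hmem : ∀ r, r ∈ q ↔ r • x ∈ N := fun r => by
      rw [hy, Submodule.mem_colon_singleton, Submodule.mem_bot, ← Submodule.Quotient.mk_smul, Submodule.Quotient.mk_eq_zero]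
    obtain ⟨k, hk⟩ := htor x
    have hfq : f ∈ q := hqp.mem_of_pow_mem k ((hmem _).mpr hk)
    refine isAssociatedPrime_iff.mpr ⟨hqp, Submodule.Quotient.mk ⟨f • x, (hmem f).mp hfq⟩, ?_⟩
    ext r
    rw [Submodule.mem_colon_singleton, Submodule.mem_bot, ← Submodule.Quotient.mk_smul, Submodule.Quotient.mk_eq_zero,
      hmem r, LinearMap.mem_range]
    constructor
    · exact fun h => ⟨⟨r • x, h⟩, Subtype.ext (by simp [smul_comm f r x])⟩
    · rintro ⟨n, hn⟩
      have h1 : f • (n : B) = f • (r • x) := by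
        have := congrArg Subtype.val hn
        simp only [LinearMap.lsmul_apply, Submodule.coe_smul] at this
        rw [this, smul_comm]
      exact hreg h1 ▸ n.2
  have hfin : Q.Finite := (associatedPrimes.finite R _).subset hsub
  have hq : ∀ q ∈ Q, ∃ s ∈ q, s ∉ m := by
    intro q hq
    obtain ⟨hqp, y, hy⟩ := isAssociatedPrime_iff.mp hq
    obtain ⟨x, rfl⟩ := Submodule.Quotient.mk_surjective _ y
    obtain ⟨s, hs, hsx⟩ := hgood x
    refine ⟨s, ?_, hs⟩
    rw [hy, Submodule.mem_colon_singleton, Submodule.mem_bot, ← Submodule.Quotient.mk_smul, Submodule.Quotient.mk_eq_zero]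
    exact hsx
  choose! s hs hsm using hq
  refine ⟨∏ q ∈ hfin.toFinset, s q, ?_, fun x => ?_⟩
  · intro h
    obtain ⟨q, hq, hq'⟩ := (Ideal.IsPrime.prod_mem_iff).mp h
    exact hsm q (hfin.mem_toFinset.mp hq) hq'
  · let I : Ideal R := LinearMap.ker (LinearMap.toSpanSingleton R (B ⧸ N) (Submodule.Quotient.mk x))
    have hI : ∀ r, r ∈ I ↔ r • x ∈ N := fun r => by
      simp [I, LinearMap.mem_ker, ← Submodule.Quotient.mk_smul, Submodule.Quotient.mk_eq_zero]
    have : (∏ q ∈ hfin.toFinset, s q) ∈ I.radical := by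
      rw [← Ideal.sInf_minimalPrimes, Ideal.mem_sInf]
      intro q hq
      have h1 : q ∈ (Module.annihilator R (R ⧸ I)).minimalPrimes := by rwa [Ideal.annihilator_quotient]
      have h2 := Module.associatedPrimes.minimalPrimes_annihilator_subset_associatedPrimes R (R ⧸ I) h1
      let φ : (R ⧸ I) →ₗ[R] B ⧸ N := Submodule.liftQ I (LinearMap.toSpanSingleton R (B ⧸ N) (Submodule.Quotient.mk x)) le_rfl
      have hφ : Function.Injective φ := LinearMap.ker_eq_bot.mp (Submodule.ker_liftQ_eq_bot _ _ _ le_rfl)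
      have h3 : q ∈ Q := associatedPrimes.subset_of_injective hφ h2
      exact Ideal.mem_of_dvd _ (Finset.dvd_prod_of_mem s (hfin.mem_toFinset.mpr h3)) (hs q h3)
    obtain ⟨k, hk⟩ := this
    exact ⟨k, (hI _).mp hk⟩

theorem finite_of_local {R : Type u} [CommRing R] [IsNoetherianRing R] {B : Type u} [AddCommGroup B] [Module R B]
    (f : R) (hreg : IsSMulRegular B f) (N0 : Submodule R B) (hN0 : N0.FG) (htor : ∀ x : B, ∃ k : ℕ, f ^ k • x ∈ N0)
    (h : ∀ (m : Ideal R) [m.IsMaximal], ∃ N : Submodule R B, N.FG ∧ ∀ x : B, ∃ s ∉ m, s • x ∈ N) :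
    Module.Finite R B := by
  classical
  have key : ∀ m : MaximalSpectrum R, ∃ (N : Submodule R B) (t : R), N.FG ∧ t ∉ m.asIdeal ∧ ∀ x : B, ∃ k : ℕ, t ^ k • x ∈ N := by
    intro m
    haveI := m.isMaximal
    obtain ⟨N, hN, hg⟩ := h m.asIdeal
    obtain ⟨t, ht, ht'⟩ := good_element f hreg (N0 ⊔ N) (hN0.sup hN)
      (fun x => (htor x).imp fun k hk => Submodule.mem_sup_left hk) m.asIdeal
      (fun x => (hg x).imp fun s hs => ⟨hs.1, Submodule.mem_sup_right hs.2⟩)
    exact ⟨N0 ⊔ N, t, hN0.sup hN, ht, ht'⟩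
  choose N t hN ht hpow using key
  have htop : Ideal.span (Set.range t) = ⊤ := by
    by_contra hne
    obtain ⟨m, hm, hle⟩ := Ideal.exists_le_maximal _ hne
    exact ht ⟨m, hm⟩ (hle (Ideal.subset_span ⟨⟨m, hm⟩, rfl⟩))
  obtain ⟨T, hT, hT'⟩ : ∃ T : Finset (MaximalSpectrum R), Ideal.span (t '' (T : Set _)) = ⊤ ∧ True := by
    obtain ⟨c, hc⟩ := Finsupp.mem_span_range_iff_exists_finsupp.mp ((Ideal.eq_top_iff_one _).mp htop)
    refine ⟨c.support, (Ideal.eq_top_iff_one _).mpr ?_, trivial⟩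
    rw [← hc]
    exact Submodule.sum_mem _ fun i hi => Submodule.smul_mem _ _ (Submodule.subset_span ⟨i, hi, rfl⟩)
  refine ⟨?_⟩
  rw [show (⊤ : Submodule R B) = T.sup N from (eq_top_iff.mpr fun x _ => ?_).symm]
  · exact Submodule.fg_finset_sup T N fun i _ => hN i
  · refine Submodule.mem_of_span_eq_top_of_smul_pow_mem _ _ hT x ?_
    rintro ⟨_, i, hi, rfl⟩
    obtain ⟨k, hk⟩ := hpow i x
    exact ⟨k, Finset.le_sup (f := N) hi hk⟩

theorem local_generators {R : Type u} [CommRing R] [IsDomain R] (K : Type u) [Field K] [Algebra R K] [IsFractionRing R K]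
    (M : Submonoid R) (hM : M ≤ nonZeroDivisors R) (A : Type u) [CommRing A] [IsDomain A] [Algebra R A]
    [IsLocalization M A] (hA : CAlg.IsN1 A) :
    ∃ N : Submodule R (integralClosure R K), N.FG ∧ ∀ x : integralClosure R K, ∃ s ∈ M, s • x ∈ N := by
  let B := integralClosure R K
  letI : Algebra A K := (IsLocalization.lift (M := M) (S := A) (g := algebraMap R K)
    (fun y => IsLocalization.map_units K ⟨y.1, hM y.2⟩)).toAlgebra
  haveI : IsScalarTower R A K := IsScalarTower.of_algebraMap_eq' (IsLocalization.lift_comp _).symm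
  haveI : IsFractionRing A K := IsFractionRing.isFractionRing_of_isDomain_of_isLocalization M A K
  haveI hfin : Module.Finite A (integralClosure A K) :=
    intcl_finite_of_equiv (FractionRing.algEquiv A K) hA
  obtain ⟨G, hG⟩ := hfin.fg_top
  choose s hs using fun g : G => IsIntegral.exists_multiple_integral_of_isLocalization M (g.1 : K) g.1.2
  let G' : Set B := Set.range fun g : G => (⟨s g • (g.1 : K), hs g⟩ : B)
  refine ⟨Submodule.span R G', Submodule.fg_span (Set.finite_range _), fun x => ?_⟩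
  have hxA : (⟨(x : K), (show IsIntegral R (x : K) from x.2).tower_top⟩ : integralClosure A K) ∈ Submodule.span A (G : Set (integralClosure A K)) := hG ▸ Submodule.mem_top
  have key : ∀ y ∈ Submodule.span A (G : Set (integralClosure A K)), ∃ t ∈ M, ∃ b ∈ Submodule.span R G', (b : K) = t • (y : K) := by
    intro y hy
    induction hy using Submodule.span_induction with
    | mem g hg => exact ⟨s ⟨g, hg⟩, (s ⟨g, hg⟩).2, _, Submodule.subset_span ⟨⟨g, hg⟩, rfl⟩, rfl⟩
    | zero => exact ⟨1, M.one_mem, 0, zero_mem _, by simp⟩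
    | add y z _ _ hy hz =>
      obtain ⟨t, ht, b, hb, hb'⟩ := hy
      obtain ⟨t', ht', b', hbb, hbb'⟩ := hz
      refine ⟨t * t', M.mul_mem ht ht', t' • b + t • b', add_mem (Submodule.smul_mem _ _ hb) (Submodule.smul_mem _ _ hbb), ?_⟩
      simp only [AddMemClass.coe_add, SetLike.val_smul, hb', hbb', smul_add, smul_smul, mul_comm t' t]
    | smul c y _ hy =>
      obtain ⟨t, ht, b, hb, hb'⟩ := hy
      obtain ⟨⟨a, u⟩, hau⟩ := IsLocalization.surj M c
      refine ⟨u * t, M.mul_mem u.2 ht, a • b, Submodule.smul_mem _ _ hb, ?_⟩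
      simp only [SetLike.val_smul, hb', smul_smul]
      rw [← algebraMap_smul A (a * t), ← algebraMap_smul A ((u : R) * t), smul_smul, map_mul, map_mul, ← hau]
      congr 1; ring
  obtain ⟨t, ht, b, hb, hb'⟩ := key _ hxA
  exact ⟨t, ht, (show b = t • x from Subtype.ext hb') ▸ hb⟩



end Groth.Agent.N1Local
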