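/-
normal rings: localisations, polynomial rings, products
-/
import Mathlib
import Groth.Prelude.Def_EGA4b

open Polynomial

universe u

namespace Groth.Agent.NormalRings


theorem normal_of_localizations {A B : Type u} [CommRing A] [CommRing B] [Algebra A B] [IsDomain A] [IsIntegrallyClosed A]
    (M : Submonoid A) [IsLocalization M B] (h0 : (0 : A) ∉ M) : IsDomain B ∧ IsIntegrallyClosed B := by
  have hM : M ≤ nonZeroDivisors A := le_nonZeroDivisors_of_noZeroDivisors h0
  haveI : IsDomain B := IsLocalization.isDomain_of_le_nonZeroDivisors (M := M) B hM
  exact ⟨inferInstance, isIntegrallyClosed_of_isLocalization B M hM⟩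

end Groth.Agent.NormalRings
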