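/-
Numerical types: the quadratic form, forbidden configurations, edge multiplicities.
-/
import Groth.Prelude.Def_Models
import Mathlib.Tactic.LinearCombination
import Mathlib.Tactic.Positivity
import Mathlib.Tactic.Linarith
import Mathlib.Tactic.FinCases

set_option autoImplicit false
set_option linter.unusedSectionVars false

open Finset

namespace NumTypeLib

variable {n : ℕ} (T : Models.NumericalType n)

lemma a_symm (i j : Fin n) : T.a i j = T.a j i := (T.symm.apply i j).symm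

lemma row (i : Fin n) : ∑ j, T.a i j * T.m j = 0 := congrFun T.mulVec_m i

lemma row_erase (i : Fin n) : -(T.a i i * T.m i) = ∑ j ∈ univ.erase i, T.a i j * T.m j := by
  have h := row T i
  rw [← Finset.add_sum_erase _ _ (mem_univ i)] at h
  linarith

lemma offdiag_pos {i j : Fin n} (hne : i ≠ j) (h : T.a i j ≠ 0) : 0 < T.a i j :=
  lt_of_le_of_ne (T.offDiag_nonneg i j hne) (Ne.symm h)

lemma sum_le_row (i : Fin n) (s : Finset (Fin n)) (hs : i ∉ s) :
    ∑ j ∈ s, T.a i j * T.m j ≤ -(T.a i i * T.m i) := by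
  rw [row_erase]
  exact Finset.sum_le_sum_of_subset_of_nonneg (fun j hj => mem_erase.2 ⟨fun e => hs (e ▸ hj), mem_univ j⟩)
    fun j hj _ => mul_nonneg (T.offDiag_nonneg i j (mem_erase.1 hj).1.symm) (T.m_pos j).le

lemma exists_adj (hn : 1 < n) (i : Fin n) : ∃ j, j ≠ i ∧ 0 < T.a i j := by
  have hne : ({i} : Finset (Fin n)) ≠ univ := fun e => by
    have := congrArg Finset.card e
    simp at this
    omega
  obtain ⟨x, hx, j, hj, h⟩ := T.connected {i} (singleton_nonempty i) hne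
  rw [mem_singleton] at hx hj
  subst hx
  exact ⟨j, hj, offdiag_pos T (Ne.symm hj) h⟩

lemma diag_neg (hn : 1 < n) (i : Fin n) : T.a i i < 0 := by
  obtain ⟨j, hj, h⟩ := exists_adj T hn i
  have h1 := sum_le_row T i {j} (by simp [Ne.symm hj])
  rw [sum_singleton] at h1
  have h2 := T.m_pos i
  have h3 : 0 < T.a i j * T.m j := mul_pos h (T.m_pos j)
  nlinarith

/-- The quadratic form. -/
def qf (x : Fin n → ℚ) : ℚ := ∑ i, ∑ j, (T.a i j : ℚ) * x i * x j

lemma qf_eq (x : Fin n → ℚ) :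
    qf T x = -(1 / 2) * ∑ i, ∑ j, (T.a i j : ℚ) * T.m i * T.m j * (x i / T.m i - x j / T.m j) ^ 2 := by
  have hm : ∀ i, (T.m i : ℚ) ≠ 0 := fun i => by exact_mod_cast (T.m_pos i).ne'
  have hrow : ∀ i, ∑ j, (T.a i j : ℚ) * T.m j = 0 := fun i => by exact_mod_cast row T i
  have h1 : ∑ i, ∑ j, (T.a i j : ℚ) * T.m j * (x i ^ 2 / T.m i) = 0 := by
    simp only [← Finset.sum_mul, hrow, zero_mul, sum_const_zero]
  have h2 : ∑ i, ∑ j, (T.a i j : ℚ) * T.m i * (x j ^ 2 / T.m j) = 0 := by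
    rw [Finset.sum_comm]
    refine Eq.trans (sum_congr rfl fun i _ => sum_congr rfl fun j _ => ?_) h1
    rw [a_symm T j i]
  have h3 : ∑ i, ∑ j, (T.a i j : ℚ) * T.m i * T.m j * (x i / T.m i - x j / T.m j) ^ 2 =
      (∑ i, ∑ j, (T.a i j : ℚ) * T.m j * (x i ^ 2 / T.m i)) + (∑ i, ∑ j, (T.a i j : ℚ) * T.m i * (x j ^ 2 / T.m j))
        - 2 * qf T x := by
    simp only [qf, mul_sum, ← sum_add_distrib, ← sum_sub_distrib]
    refine sum_congr rfl fun i _ => sum_congr rfl fun j _ => ?_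
    have := hm i; have := hm j
    field_simp
    ring
  rw [h3, h1, h2]
  ring

lemma qf_term_nonneg (x : Fin n → ℚ) (i j : Fin n) :
    0 ≤ (T.a i j : ℚ) * T.m i * T.m j * (x i / T.m i - x j / T.m j) ^ 2 := by
  rcases eq_or_ne i j with rfl | hne
  · simp
  · have h1 : (0 : ℚ) ≤ (T.a i j : ℚ) := by exact_mod_cast T.offDiag_nonneg i j hne
    have h2 : (0 : ℚ) ≤ (T.m i : ℚ) := by exact_mod_cast (T.m_pos i).le
    have h3 : (0 : ℚ) ≤ (T.m j : ℚ) := by exact_mod_cast (T.m_pos j).le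
    positivity

lemma qf_nonpos (x : Fin n → ℚ) : qf T x ≤ 0 := by
  rw [qf_eq]
  have := Finset.sum_nonneg fun i (_ : i ∈ univ) => Finset.sum_nonneg fun j (_ : j ∈ univ) => qf_term_nonneg T x i j
  linarith

lemma prop_of_qf_nonneg (x : Fin n → ℚ) (h : 0 ≤ qf T x) : ∃ c : ℚ, ∀ i, x i = c * T.m i := by
  classical
  have hm : ∀ i, (T.m i : ℚ) ≠ 0 := fun i => by exact_mod_cast (T.m_pos i).ne'
  have h0 : qf T x = 0 := le_antisymm (qf_nonpos T x) h
  rw [qf_eq] at h0
  have hsum : ∑ i, ∑ j, (T.a i j : ℚ) * T.m i * T.m j * (x i / T.m i - x j / T.m j) ^ 2 = 0 := by linarith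
  rw [sum_eq_zero_iff_of_nonneg (fun i _ => Finset.sum_nonneg fun j _ => qf_term_nonneg T x i j)] at hsum
  have key : ∀ i j, T.a i j ≠ 0 → x i / T.m i = x j / T.m j := fun i j hij => by
    have h1 := (sum_eq_zero_iff_of_nonneg (fun j _ => qf_term_nonneg T x i j)).1 (hsum i (mem_univ i)) j (mem_univ j)
    have hq : (T.a i j : ℚ) ≠ 0 := by exact_mod_cast hij
    simp only [mul_eq_zero, hq, hm, false_or, pow_eq_zero_iff two_ne_zero, sub_eq_zero] at h1
    exact h1
  obtain ⟨i₀⟩ : Nonempty (Fin n) := ⟨⟨0, T.pos⟩⟩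
  refine ⟨x i₀ / T.m i₀, fun i => ?_⟩
  suffices hall : (univ.filter fun i => x i / T.m i = x i₀ / T.m i₀) = univ by
    have hi := mem_univ i
    rw [← hall, mem_filter] at hi
    rw [← hi.2, div_mul_cancel₀ _ (hm i)]
  by_contra hne
  obtain ⟨p, hp, q, hq, hpq⟩ := T.connected _ ⟨i₀, by simp⟩ hne
  rw [mem_filter] at hp hq
  exact hq ⟨mem_univ q, (key p q hpq).symm.trans hp.2⟩

lemma qf_nonneg_of_rows (x : Fin n → ℚ) (hx : ∀ i, 0 ≤ x i)
    (h : ∀ i, x i ≠ 0 → -(T.a i i : ℚ) * x i ≤ ∑ j ∈ univ.erase i, (T.a i j : ℚ) * x j) : 0 ≤ qf T x := by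
  refine Finset.sum_nonneg fun i _ => ?_
  rcases eq_or_ne (x i) 0 with h0 | h0
  · simp [h0]
  · have h1 := h i h0
    have h2 : ∑ j, (T.a i j : ℚ) * x i * x j = x i * ((T.a i i : ℚ) * x i + ∑ j ∈ univ.erase i, (T.a i j : ℚ) * x j) := by
      rw [add_sum_erase _ (fun j => (T.a i j : ℚ) * x j) (mem_univ i), mul_sum]
      exact sum_congr rfl fun j _ => by ring
    rw [h2]
    exact mul_nonneg (hx i) (by linarith)

lemma sub_null (x : Fin n → ℚ) (hx : ∀ i, 0 ≤ x i) (hx0 : x ≠ 0)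
    (h : ∀ i, x i ≠ 0 → -(T.a i i : ℚ) * x i ≤ ∑ j ∈ univ.erase i, (T.a i j : ℚ) * x j) :
    ∃ c : ℚ, 0 < c ∧ ∀ i, x i = c * T.m i := by
  obtain ⟨c, hc⟩ := prop_of_qf_nonneg T x (qf_nonneg_of_rows T x hx h)
  obtain ⟨i, hi⟩ := Function.ne_iff.1 hx0
  have hm : (0 : ℚ) < T.m i := by exact_mod_cast T.m_pos i
  refine ⟨c, ?_, hc⟩
  by_contra hle
  have h1 : x i ≤ 0 := by rw [hc]; exact mul_nonpos_of_nonpos_of_nonneg (not_lt.1 hle) hm.le
  exact hi (le_antisymm h1 (hx i))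

/-- The restriction of the data to an embedded set of indices is sub-null: the set is everything and the vector is
proportional to the multiplicities. -/
lemma config {k : ℕ} (v : Fin k ↪ Fin n) (c : Fin k → ℚ) (hc : ∀ p, 0 < c p) (hk : 0 < k)
    (h : ∀ p, -(T.a (v p) (v p) : ℚ) * c p ≤ ∑ q ∈ univ.erase p, (T.a (v p) (v q) : ℚ) * c q) :
    k = n ∧ ∃ r : ℚ, 0 < r ∧ (∀ p, c p = r * T.m (v p)) ∧
      ∀ p, -(T.a (v p) (v p) : ℚ) * c p = ∑ q ∈ univ.erase p, (T.a (v p) (v q) : ℚ) * c q := by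
  classical
  let x : Fin n → ℚ := fun i => if hi : ∃ p, v p = i then c hi.choose else 0
  have hxv : ∀ p, x (v p) = c p := fun p => by
    have hex : ∃ q, v q = v p := ⟨p, rfl⟩
    simp only [x, dif_pos hex]
    rw [v.injective hex.choose_spec]
  have hxo : ∀ i, (∀ p, v p ≠ i) → x i = 0 := fun i hi => dif_neg fun ⟨p, hp⟩ => hi p hp
  have hx : ∀ i, 0 ≤ x i := fun i => by
    by_cases hi : ∃ p, v p = i
    · obtain ⟨p, rfl⟩ := hi; rw [hxv]; exact (hc p).le
    · rw [hxo i (not_exists.1 hi)]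
  have hsum : ∀ p, ∑ j ∈ univ.erase (v p), (T.a (v p) j : ℚ) * x j = ∑ q ∈ univ.erase p, (T.a (v p) (v q) : ℚ) * c q := by
    intro p
    rw [← Finset.sum_subset (s₁ := (univ.erase p).map v) (fun i hi => by
        obtain ⟨q, hq, rfl⟩ := mem_map.1 hi
        exact mem_erase.2 ⟨fun e => (mem_erase.1 hq).1 (v.injective e), mem_univ _⟩)
      (fun j hj hj' => by
        rw [hxo j fun q hq => hj' (mem_map.2 ⟨q, mem_erase.2 ⟨fun e => (mem_erase.1 hj).1 (by rw [← hq, e]), mem_univ q⟩, hq⟩),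
          mul_zero]), sum_map]
    exact sum_congr rfl fun q _ => by rw [hxv]
  obtain ⟨r, hr, hrm⟩ := sub_null T x hx (fun e => by
      have h1 := congrFun e (v ⟨0, hk⟩)
      rw [hxv] at h1
      exact (hc _).ne' h1) (fun i hi => by
      by_cases hv : ∃ p, v p = i
      · obtain ⟨p, rfl⟩ := hv
        rw [hxv, hsum]
        exact h p
      · exact absurd (hxo i (not_exists.1 hv)) hi)
  have hsurj : Function.Surjective v := fun i => by
    by_contra hi
    have h1 := hrm i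
    rw [hxo i (not_exists.1 hi)] at h1
    have hm : (0 : ℚ) < T.m i := by exact_mod_cast T.m_pos i
    exact (mul_pos hr hm).ne h1
  refine ⟨by simpa using Fintype.card_congr (Equiv.ofBijective v ⟨v.injective, hsurj⟩), r, hr,
    fun p => (hxv p).symm.trans (hrm _), fun p => ?_⟩
  have hrow : ∑ j ∈ univ.erase (v p), (T.a (v p) j : ℚ) * T.m j = -((T.a (v p) (v p) : ℚ) * T.m (v p)) := by
    exact_mod_cast (row_erase T (v p)).symm
  rw [← hsum, ← hxv, hrm]
  simp only [hrm]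
  rw [← sum_congr rfl (fun j _ => show r * ((T.a (v p) j : ℚ) * T.m j) = (T.a (v p) j : ℚ) * (r * T.m j) by ring),
    ← mul_sum, hrow]
  ring

/-- No sub-null configuration on a proper subset. -/
lemma no_config {k : ℕ} (hk : k < n) (hk0 : 0 < k) (v : Fin k ↪ Fin n) (c : Fin k → ℚ) (hc : ∀ p, 0 < c p)
    (h : ∀ p, -(T.a (v p) (v p) : ℚ) * c p ≤ ∑ q ∈ univ.erase p, (T.a (v p) (v q) : ℚ) * c q) : False :=
  hk.ne (config T v c hc hk0 h).1

section weights

lemma w_le {i j : Fin n} (h : 0 < T.a i j) : T.w i ≤ T.a i j := Int.le_of_dvd h (T.w_dvd i j)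

lemma w_le' {i j : Fin n} (h : 0 < T.a i j) : T.w j ≤ T.a i j := by
  rw [a_symm T i j] at h ⊢
  exact w_le T h

lemma minusTwo_diag {i : Fin n} (h : T.IsMinusTwo i) : T.a i i = -2 * T.w i := h.2

lemma ne_of_pos {i j : Fin n} (hi : T.IsMinusTwo i) (h : 0 < T.a i j) : i ≠ j := by
  rintro rfl
  have := T.w_pos i
  rw [hi.2] at h
  omega

lemma row_two {i : Fin n} (hi : T.IsMinusTwo i) (s : Finset (Fin n)) (hs : i ∉ s) :
    ∑ j ∈ s, T.a i j * T.m j ≤ 2 * T.w i * T.m i := by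
  have := sum_le_row T i s hs
  rw [hi.2] at this
  linarith

/-- multiplicity of an edge -/
def mu (i j : Fin n) : ℤ := T.a i j / T.w i * (T.a i j / T.w j)

lemma mu_mul (i j : Fin n) : mu T i j * (T.w i * T.w j) = T.a i j * T.a i j := by
  have h1 := Int.ediv_mul_cancel (T.w_dvd i j)
  have h2 := Int.ediv_mul_cancel (show T.w j ∣ T.a i j by rw [a_symm]; exact T.w_dvd j i)
  calc mu T i j * (T.w i * T.w j) = (T.a i j / T.w i * T.w i) * (T.a i j / T.w j * T.w j) := by unfold mu; ring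
    _ = T.a i j * T.a i j := by rw [h1, h2]

lemma mu_symm (i j : Fin n) : mu T i j = mu T j i := by
  unfold mu
  rw [a_symm T i j, mul_comm]

lemma mu_pos {i j : Fin n} (h : 0 < T.a i j) : 0 < mu T i j := by
  have h1 := mu_mul T i j
  have h2 := T.w_pos i; have h3 := T.w_pos j
  by_contra hle
  nlinarith [mul_pos h h, mul_pos h2 h3]

lemma mu_nonneg {i j : Fin n} (h : i ≠ j) : 0 ≤ mu T i j := by
  rcases eq_or_lt_of_le (T.offDiag_nonneg i j h) with h0 | h0
  · simp [mu, ← h0]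
  · exact (mu_pos T h0).le

lemma mu_cases {i j : Fin n} (h : 0 < T.a i j) :
    (mu T i j = 1 → T.a i j = T.w i ∧ T.a i j = T.w j) ∧
    (mu T i j = 2 → (T.a i j = T.w j ∧ T.w j = 2 * T.w i) ∨ (T.a i j = T.w i ∧ T.w i = 2 * T.w j)) ∧
    (mu T i j = 3 → (T.a i j = T.w j ∧ T.w j = 3 * T.w i) ∨ (T.a i j = T.w i ∧ T.w i = 3 * T.w j)) := by
  obtain ⟨p, hp⟩ := T.w_dvd i j
  obtain ⟨q, hq⟩ := T.w_dvd j i
  rw [← a_symm T i j] at hq
  have hwi := T.w_pos i; have hwj := T.w_pos j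
  have hp0 : 0 < p := pos_of_mul_pos_right (hp ▸ h) hwi.le
  have hq0 : 0 < q := pos_of_mul_pos_right (hq ▸ h) hwj.le
  have hmu : mu T i j = p * q := by
    unfold mu
    nth_rewrite 1 [hp]
    nth_rewrite 1 [hq]
    rw [Int.mul_ediv_cancel_left _ hwi.ne', Int.mul_ediv_cancel_left _ hwj.ne']
  have hle : ∀ r : ℤ, p * q = r → p ≤ r ∧ q ≤ r := fun r hr =>
    ⟨hr ▸ le_mul_of_one_le_right hp0.le hq0, hr ▸ le_mul_of_one_le_left hq0.le hp0⟩
  refine ⟨fun h1 => ?_, fun h1 => ?_, fun h1 => ?_⟩ <;> rw [hmu] at h1 <;> obtain ⟨hp1, hq1⟩ := hle _ h1 <;>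
    interval_cases p <;> interval_cases q <;> simp_all <;> omega

end weights

/-- The sum of the multiplicities at a vertex of a proper configuration is below four. -/
lemma star {k : ℕ} (hk : k + 1 < n) (i : Fin n) (hi : T.IsMinusTwo i) (l : Fin k ↪ Fin n) (hl : ∀ p, l p ≠ i)
    (hlv : ∀ p, T.IsMinusTwo (l p)) (hpos : ∀ p, 0 < T.a i (l p)) : ∑ p, mu T i (l p) < 4 := by
  classical
  by_contra hge
  have hge' : (4 : ℚ) ≤ ∑ p, (mu T i (l p) : ℚ) := by exact_mod_cast not_lt.1 hge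
  let v : Fin (k + 1) ↪ Fin n := ⟨Fin.cons i l, Fin.cons_injective_iff.2 ⟨fun ⟨p, hp⟩ => hl p hp, l.injective⟩⟩
  let c : Fin (k + 1) → ℚ := Fin.cons 1 fun p => (T.a i (l p) : ℚ) / (2 * T.w (l p))
  have hw : ∀ p, (0 : ℚ) < T.w (l p) := fun p => by exact_mod_cast T.w_pos (l p)
  have hap : ∀ p, (0 : ℚ) < T.a i (l p) := fun p => by exact_mod_cast hpos p
  have hwi : (0 : ℚ) < T.w i := by exact_mod_cast T.w_pos i
  have hterm : ∀ p q, q ≠ p → 0 ≤ (T.a (v p) (v q) : ℚ) := fun p q hqp => by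
    exact_mod_cast T.offDiag_nonneg _ _ fun e => hqp (v.injective e).symm
  have hc : ∀ p, 0 < c p := by
    refine Fin.cases ?_ fun p => ?_
    · simp [c]
    · simp only [c, Fin.cons_succ]; have := hap p; have := hw p; positivity
  refine no_config T hk (by omega) v c hc ?_
  refine Fin.cases ?_ fun p => ?_
  · rw [show v 0 = i from rfl, hi.2]
    have h1 : ∑ q ∈ univ.erase (0 : Fin (k + 1)), (T.a i (v q) : ℚ) * c q = ∑ p, (T.w i : ℚ) / 2 * (mu T i (l p) : ℚ) := by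
      rw [← add_left_cancel_iff (a := (T.a i (v 0) : ℚ) * c 0),
        add_sum_erase _ (fun q => (T.a i (v q) : ℚ) * c q) (mem_univ 0), Fin.sum_univ_succ]
      congr 1
      refine sum_congr rfl fun p _ => ?_
      have h2 : (mu T i (l p) : ℚ) * (T.w i * T.w (l p)) = T.a i (l p) * T.a i (l p) := by exact_mod_cast mu_mul T i (l p)
      have := hw p
      simp only [c, v, Function.Embedding.coeFn_mk, Fin.cons_succ]
      field_simp
      linear_combination -h2
    rw [h1, ← mul_sum]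
    simp only [c, Fin.cons_zero]
    push_cast
    nlinarith
  · rw [show v p.succ = l p from rfl, (hlv p).2]
    refine le_trans (le_of_eq ?_) (Finset.single_le_sum (f := fun q => (T.a (l p) (v q) : ℚ) * c q)
      (fun q hq => mul_nonneg (hterm p.succ q (mem_erase.1 hq).1) (hc q).le)
      (mem_erase.2 ⟨(Fin.succ_ne_zero p).symm, mem_univ (0 : Fin (k + 1))⟩))
    have := hw p
    simp only [c, Fin.cons_succ, Fin.cons_zero, show v 0 = i from rfl, a_symm T (l p) i]
    push_cast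
    field_simp

lemma pair_lt (hn : 2 < n) {i j : Fin n} (hi : T.IsMinusTwo i) (hj : T.IsMinusTwo j) (h : 0 < T.a i j) :
    mu T i j < 4 := by
  have := star T (k := 1) hn i hi ⟨![j], fun a b _ => Subsingleton.elim a b⟩
    (fun p => by fin_cases p; exact (ne_of_pos T hi h).symm) (fun p => by fin_cases p; exact hj) (fun p => by fin_cases p; exact h)
  change ∑ p, mu T i (![j] p) < 4 at this
  simpa using this

lemma two_lt (hn : 3 < n) {i j l : Fin n} (hjl : j ≠ l) (hi : T.IsMinusTwo i) (hj : T.IsMinusTwo j)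
    (hl : T.IsMinusTwo l) (h1 : 0 < T.a i j) (h2 : 0 < T.a i l) : mu T i j + mu T i l < 4 := by
  have := star T (k := 2) hn i hi ⟨![j, l], fun a b h => by fin_cases a <;> fin_cases b <;> simp_all⟩
    (fun p => by fin_cases p; exacts [(ne_of_pos T hi h1).symm, (ne_of_pos T hi h2).symm])
    (fun p => by fin_cases p; exacts [hj, hl]) (fun p => by fin_cases p; exacts [h1, h2])
  change ∑ p, mu T i (![j, l] p) < 4 at this
  simpa [Fin.sum_univ_two] using this

lemma three_lt (hn : 4 < n) {i j l r : Fin n} (hjl : j ≠ l) (hjr : j ≠ r) (hlr : l ≠ r) (hi : T.IsMinusTwo i)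
    (hj : T.IsMinusTwo j) (hl : T.IsMinusTwo l) (hr : T.IsMinusTwo r)
    (h1 : 0 < T.a i j) (h2 : 0 < T.a i l) (h3 : 0 < T.a i r) : mu T i j + mu T i l + mu T i r < 4 := by
  have := star T (k := 3) hn i hi ⟨![j, l, r], fun a b h => by fin_cases a <;> fin_cases b <;> simp_all⟩
    (fun p => by fin_cases p; exacts [(ne_of_pos T hi h1).symm, (ne_of_pos T hi h2).symm, (ne_of_pos T hi h3).symm])
    (fun p => by fin_cases p; exacts [hj, hl, hr]) (fun p => by fin_cases p; exacts [h1, h2, h3])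
  change ∑ p, mu T i (![j, l, r] p) < 4 at this
  simpa [Fin.sum_univ_three] using this

/-- Configurations which are sub-null for every choice of weights. -/
lemma no_simple {k : ℕ} (hk : k < n) (hk0 : 0 < k) (v : Fin k ↪ Fin n) (c : Fin k → ℚ) (hc : ∀ p, 0 < c p)
    (hv : ∀ p, T.IsMinusTwo (v p))
    (h : ∀ p, ∃ s : Finset (Fin k), p ∉ s ∧ (∀ q ∈ s, T.a (v p) (v q) ≠ 0) ∧ 2 * c p ≤ ∑ q ∈ s, c q) : False := by
  refine no_config T hk hk0 v c hc fun p => ?_
  obtain ⟨s, hps, hne, hsum⟩ := h p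
  have hvne : ∀ q, q ≠ p → v p ≠ v q := fun q hq e => hq (v.injective e).symm
  have hw : (0 : ℚ) ≤ T.w (v p) := by exact_mod_cast (T.w_pos (v p)).le
  calc -(T.a (v p) (v p) : ℚ) * c p = (T.w (v p) : ℚ) * (2 * c p) := by rw [(hv p).2]; push_cast; ring
    _ ≤ (T.w (v p) : ℚ) * ∑ q ∈ s, c q := mul_le_mul_of_nonneg_left hsum hw
    _ = ∑ q ∈ s, (T.w (v p) : ℚ) * c q := mul_sum ..
    _ ≤ ∑ q ∈ s, (T.a (v p) (v q) : ℚ) * c q := by
        refine sum_le_sum fun q hq => mul_le_mul_of_nonneg_right ?_ (hc q).le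
        exact_mod_cast w_le T (offdiag_pos T (hvne q fun e => hps (e ▸ hq)) (hne q hq))
    _ ≤ _ := by
        refine sum_le_sum_of_subset_of_nonneg (fun q hq => mem_erase.2 ⟨fun e => hps (e ▸ hq), mem_univ q⟩)
          fun q hq _ => mul_nonneg ?_ (hc q).le
        exact_mod_cast T.offDiag_nonneg _ _ (hvne q (mem_erase.1 hq).1)

lemma no_triangle (hn : 3 < n) {i j l : Fin n} (hi : T.IsMinusTwo i) (hj : T.IsMinusTwo j) (hl : T.IsMinusTwo l)
    (h1 : 0 < T.a i j) (h2 : 0 < T.a j l) (h3 : 0 < T.a i l) : False := by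
  have e1 := ne_of_pos T hi h1; have e2 := ne_of_pos T hj h2; have e3 := ne_of_pos T hi h3
  refine no_simple T hn (by omega) ⟨![i, j, l], fun a b h => by fin_cases a <;> fin_cases b <;> simp_all⟩
    (fun _ => 1) (fun _ => one_pos) (fun p => by fin_cases p; exacts [hi, hj, hl]) fun p => ?_
  fin_cases p
  · exact ⟨{1, 2}, by decide, by simp [Matrix.cons_val_zero, Matrix.cons_val_one, DFunLike.coe, h1.ne', h3.ne'], by simp⟩
  · exact ⟨{0, 2}, by decide, by simp [Matrix.cons_val_zero, Matrix.cons_val_one, DFunLike.coe, h2.ne', show T.a j i ≠ 0 by rw [a_symm]; exact h1.ne'], by simp⟩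
  · exact ⟨{0, 1}, by decide, by simp [Matrix.cons_val_zero, Matrix.cons_val_one, DFunLike.coe, show T.a l i ≠ 0 by rw [a_symm]; exact h3.ne', show T.a l j ≠ 0 by rw [a_symm]; exact h2.ne'], by simp⟩

end NumTypeLib
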