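/-
Numerical types: chains of `(-2)`-indices and the forbidden configurations built on them.
-/
import Groth.Agent.Lib.NumTypeBasic

set_option autoImplicit false

open Finset

namespace NumTypeLib

variable {n : ℕ} {T : Models.NumericalType n}

/-- `v 0, …, v (k-1)` is a chain of distinct `(-2)`-indices. -/
structure Chain (T : Models.NumericalType n) (k : ℕ) (v : ℕ → Fin n) : Prop where
  inj : ∀ i j, i < k → j < k → v i = v j → i = j
  adj : ∀ i, i + 1 < k → 0 < T.a (v i) (v (i + 1))
  two : ∀ i, i < k → T.IsMinusTwo (v i)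

lemma Chain.adj' {k : ℕ} {v : ℕ → Fin n} (h : Chain T k v) {i j : ℕ} (hj : j < k) (hij : j = i + 1) :
    0 < T.a (v i) (v j) ∧ 0 < T.a (v j) (v i) := by
  subst hij
  exact ⟨h.adj i hj, by rw [a_symm]; exact h.adj i hj⟩

lemma Chain.ne {k : ℕ} {v : ℕ → Fin n} (h : Chain T k v) {i j : ℕ} (hi : i < k) (hj : j < k) (hij : i ≠ j) :
    v i ≠ v j := fun e => hij (h.inj i j hi hj e)

lemma Chain.sub {k : ℕ} {v : ℕ → Fin n} (h : Chain T k v) {e l : ℕ} (hl : e + l ≤ k) :
    Chain T l fun i => v (e + i) where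
  inj i j hi hj hij := by have := h.inj _ _ (by omega) (by omega) hij; omega
  adj i hi := h.adj (e + i) (by omega)
  two i hi := h.two _ (by omega)

lemma Chain.rev {k : ℕ} {v : ℕ → Fin n} (h : Chain T k v) : Chain T k fun i => v (k - 1 - i) where
  inj i j hi hj hij := by have := h.inj _ _ (by omega) (by omega) hij; omega
  adj i hi := (h.adj' (i := k - 1 - (i + 1)) (j := k - 1 - i) (by omega) (by omega)).2
  two i hi := h.two _ (by omega)

/-- The chain `v` followed by one or two further indices. -/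
def ext (k : ℕ) (v : ℕ → Fin n) (x y : Fin n) : ℕ → Fin n := fun i => if i < k then v i else if i = k then x else y

lemma ext_lt {k : ℕ} {v : ℕ → Fin n} {x y : Fin n} {i : ℕ} (h : i < k) : ext k v x y i = v i := if_pos h
lemma ext_k {k : ℕ} {v : ℕ → Fin n} {x y : Fin n} : ext k v x y k = x := by simp [ext]
lemma ext_k1 {k : ℕ} {v : ℕ → Fin n} {x y : Fin n} : ext k v x y (k + 1) = y := by simp [ext]

lemma ext_inj1 {k : ℕ} {v : ℕ → Fin n} (h : Chain T k v) {x : Fin n} (hx : ∀ i, i < k → x ≠ v i) (i j : ℕ)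
    (hi : i < k + 1) (hj : j < k + 1) (e : ext k v x x i = ext k v x x j) : i = j := by
  rcases lt_or_eq_of_le (Nat.le_of_lt_succ hi) with a | a <;> rcases lt_or_eq_of_le (Nat.le_of_lt_succ hj) with b | b
  · rw [ext_lt a, ext_lt b] at e; exact h.inj i j a b e
  · rw [ext_lt a, b, ext_k] at e; exact absurd e.symm (hx i a)
  · rw [a, ext_k, ext_lt b] at e; exact absurd e (hx j b)
  · omega

lemma ext_inj2 {k : ℕ} {v : ℕ → Fin n} (h : Chain T k v) {x y : Fin n} (hx : ∀ i, i < k → x ≠ v i)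
    (hy : ∀ i, i < k → y ≠ v i) (hxy : x ≠ y) (i j : ℕ)
    (hi : i < k + 2) (hj : j < k + 2) (e : ext k v x y i = ext k v x y j) : i = j := by
  rcases (show i < k ∨ i = k ∨ i = k + 1 by omega) with a | a | a <;>
    rcases (show j < k ∨ j = k ∨ j = k + 1 by omega) with b | b | b <;>
    subst_vars <;> simp only [ext_lt, ext_k, ext_k1, *] at e
  all_goals first
    | rfl
    | exact h.inj i j a b e
    | exact absurd e (hx _ b)
    | exact absurd e.symm (hx _ a)
    | exact absurd e (hy _ b)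
    | exact absurd e.symm (hy _ a)
    | exact absurd e hxy
    | exact absurd e.symm hxy

/-- A configuration on `k` indices given with lower bounds for the rows: it is everything. -/
lemma configN {k : ℕ} (hk0 : 0 < k) (v : ℕ → Fin n) (hinj : ∀ i j, i < k → j < k → v i = v j → i = j)
    (hv : ∀ i, i < k → T.IsMinusTwo (v i)) (c : ℕ → ℚ) (hc : ∀ p, p < k → 0 < c p)
    (h : ∀ p, p < k → ∃ s : Finset ℕ, (∀ q ∈ s, q < k ∧ q ≠ p) ∧
      2 * (T.w (v p) : ℚ) * c p ≤ ∑ q ∈ s, (T.a (v p) (v q) : ℚ) * c q) :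
    k = n ∧ ∃ r : ℚ, 0 < r ∧ ∀ p, p < k → c p = r * T.m (v p) := by
  let V : Fin k ↪ Fin n := ⟨fun p => v p, fun a b e => Fin.ext (hinj _ _ a.2 b.2 e)⟩
  obtain ⟨hk, r, hr, h1, -⟩ := config T V (fun p => c p) (fun p => hc p p.2) hk0 (fun p => by
    obtain ⟨s, hs, hle⟩ := h p p.2
    change -(T.a (v p) (v p) : ℚ) * c p ≤ ∑ q ∈ univ.erase p, (T.a (v p) (v q) : ℚ) * c q
    have e1 : -(T.a (v p) (v p) : ℚ) = 2 * T.w (v p) := by rw [(hv p p.2).2]; push_cast; ring
    rw [e1]
    refine hle.trans (le_trans (le_of_eq ?_) (sum_le_sum_of_subset_of_nonneg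
      (s := univ.filter fun q : Fin k => (q : ℕ) ∈ s) (fun q hq => mem_erase.2 ⟨fun e => ?_, mem_univ q⟩) fun q hq _ => ?_))
    · refine (sum_bij (fun q _ => (q : Fin k).val) (fun q hq => (mem_filter.1 hq).2) (fun a _ b _ e => Fin.ext e)
        (fun b hb => ⟨⟨b, (hs b hb).1⟩, by simp [hb], rfl⟩) fun q _ => rfl).symm
    · rw [e, mem_filter] at hq; exact (hs _ hq.2).2 rfl
    · refine mul_nonneg ?_ (hc q q.2).le
      exact_mod_cast T.offDiag_nonneg _ _ fun e => (mem_erase.1 hq).1 (Fin.ext (hinj _ _ p.2 q.2 e)).symm)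
  exact ⟨hk, r, hr, fun p hp => h1 ⟨p, hp⟩⟩

lemma w_le_q {i j : Fin n} (h : 0 < T.a i j) : (T.w i : ℚ) ≤ T.a i j := by exact_mod_cast w_le T h

lemma w_pos_q (i : Fin n) : (0 : ℚ) < T.w i := by exact_mod_cast T.w_pos i

/-- The value at the end of a multiple edge, seen from the other end. -/
lemma end_le {i j : Fin n} (h : 2 ≤ mu T i j) :
    (T.w j : ℚ) ≤ (T.a j i : ℚ) * ((T.a i j : ℚ) / (2 * T.w i)) := by
  have h1 : (mu T i j : ℚ) * (T.w i * T.w j) = T.a i j * T.a i j := by exact_mod_cast mu_mul T i j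
  have h2 : (2 : ℚ) ≤ mu T i j := by exact_mod_cast h
  have hi := w_pos_q (T := T) i
  have hj := w_pos_q (T := T) j
  rw [a_symm T j i, mul_div_assoc', le_div_iff₀ (by positivity), ← h1]
  nlinarith [mul_pos hi hj]

lemma end_eq (i j : Fin n) : 2 * (T.w i : ℚ) * ((T.a i j : ℚ) / (2 * T.w i)) = T.a i j := by
  have := w_pos_q (T := T) i
  field_simp

/-- A closed chain is everything, with constant multiplicities. -/
lemma cycle_config {k : ℕ} (hk : 3 ≤ k) {v : ℕ → Fin n} (h : Chain T k v) (hc : 0 < T.a (v 0) (v (k - 1))) :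
    k = n ∧ ∀ p, p < k → T.m (v p) = T.m (v 0) := by
  obtain ⟨e, r, hr, hr'⟩ := configN (by omega) v h.inj h.two (fun _ => 1) (fun _ _ => one_pos) fun p hp => by
    refine ⟨{(p + 1) % k, (p + k - 1) % k}, fun q hq => ?_, ?_⟩
    · simp only [mem_insert, mem_singleton] at hq
      rcases (show (p + 1 < k ∧ (p + 1) % k = p + 1) ∨ (p + 1 = k ∧ (p + 1) % k = 0) by
        rcases (show p + 1 < k ∨ p + 1 = k by omega) with a | a
        · exact Or.inl ⟨a, Nat.mod_eq_of_lt a⟩
        · exact Or.inr ⟨a, by rw [a, Nat.mod_self]⟩) with ⟨a, b⟩ | ⟨a, b⟩ <;>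
      rcases (show (1 ≤ p ∧ (p + k - 1) % k = p - 1) ∨ (p = 0 ∧ (p + k - 1) % k = k - 1) by
        rcases (show 1 ≤ p ∨ p = 0 by omega) with a | a
        · exact Or.inl ⟨a, by rw [show p + k - 1 = (p - 1) + k by omega, Nat.add_mod_right, Nat.mod_eq_of_lt (by omega)]⟩
        · exact Or.inr ⟨a, by rw [a, Nat.zero_add, Nat.mod_eq_of_lt (by omega)]⟩) with ⟨c, d⟩ | ⟨c, d⟩ <;>
      rw [b, d] at hq <;> omega
    · have h1 : 0 < T.a (v p) (v ((p + 1) % k)) := by
        rcases (show p + 1 < k ∨ p + 1 = k by omega) with a | a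
        · rw [Nat.mod_eq_of_lt a]; exact h.adj p a
        · rw [a, Nat.mod_self, show p = k - 1 by omega, a_symm]; exact hc
      have h2 : 0 < T.a (v p) (v ((p + k - 1) % k)) := by
        rcases (show 1 ≤ p ∨ p = 0 by omega) with a | a
        · rw [show p + k - 1 = (p - 1) + k by omega, Nat.add_mod_right, Nat.mod_eq_of_lt (by omega)]
          exact (h.adj' hp (show p = (p - 1) + 1 by omega)).2
        · subst a; rw [Nat.zero_add, Nat.mod_eq_of_lt (by omega)]; exact hc
      have hne : (p + 1) % k ≠ (p + k - 1) % k := fun e => by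
        have e1 : (p + 1) % k = (p + 1 + (k - 2)) % k := by rw [e]; congr 1; omega
        have e2 := Nat.sub_mod_eq_zero_of_mod_eq e1.symm
        rw [show p + 1 + (k - 2) - (p + 1) = k - 2 by omega, Nat.mod_eq_of_lt (by omega)] at e2
        omega
      rw [sum_pair hne]
      have := w_le_q h1
      have := w_le_q h2
      linarith
  refine ⟨e, fun p hp => ?_⟩
  have := (hr' p hp).symm.trans (hr' 0 (by omega))
  exact_mod_cast mul_left_cancel₀ hr.ne' this

/-- A chain with multiple edges at both ends is everything. -/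
lemma dd_config {k : ℕ} (hk : 3 ≤ k) {v : ℕ → Fin n} (h : Chain T k v) (h0 : 2 ≤ mu T (v 0) (v 1))
    (h1 : 2 ≤ mu T (v (k - 1)) (v (k - 2))) :
    k = n ∧ (∀ p, 1 ≤ p → p + 1 < k → T.m (v p) = T.m (v 1)) ∧
      2 * T.w (v 0) * T.m (v 0) = T.a (v 0) (v 1) * T.m (v 1) ∧
      2 * T.w (v (k - 1)) * T.m (v (k - 1)) = T.a (v (k - 1)) (v (k - 2)) * T.m (v 1) := by
  have hA := (h.adj' (i := 0) (j := 1) (by omega) rfl).1
  have hB := (h.adj' (i := k - 2) (j := k - 1) (by omega) (by omega)).2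
  let c : ℕ → ℚ := fun p => if p = 0 then (T.a (v 0) (v 1) : ℚ) / (2 * T.w (v 0)) else
    if p + 1 = k then (T.a (v (k - 1)) (v (k - 2)) : ℚ) / (2 * T.w (v (k - 1))) else 1
  have c0 : c 0 = (T.a (v 0) (v 1) : ℚ) / (2 * T.w (v 0)) := if_pos rfl
  have c1 : c (k - 1) = (T.a (v (k - 1)) (v (k - 2)) : ℚ) / (2 * T.w (v (k - 1))) := by
    simp only [c, if_neg (show k - 1 ≠ 0 by omega), if_pos (show k - 1 + 1 = k by omega)]
  have ci : ∀ p, 1 ≤ p → p + 1 < k → c p = 1 := fun p a b => by
    simp only [c, if_neg (show p ≠ 0 by omega), if_neg (show p + 1 ≠ k by omega)]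
  have hcpos : ∀ p, p < k → 0 < c p := fun p hp => by
    rcases (show p = 0 ∨ p = k - 1 ∨ (1 ≤ p ∧ p + 1 < k) by omega) with a | a | ⟨a, b⟩
    · subst a; rw [c0]; exact div_pos (by exact_mod_cast hA) (by have := w_pos_q (T := T) (v 0); linarith)
    · subst a; rw [c1]; exact div_pos (by exact_mod_cast hB) (by have := w_pos_q (T := T) (v (k - 1)); linarith)
    · rw [ci p a b]; exact one_pos
  obtain ⟨e, r, hr, hr'⟩ := configN (by omega) v h.inj h.two c hcpos fun p hp => by
    rcases (show p = 0 ∨ p = k - 1 ∨ (1 ≤ p ∧ p + 1 < k) by omega) with a | a | ⟨a, b⟩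
    · subst a
      refine ⟨{1}, fun q hq => by rw [mem_singleton] at hq; omega, ?_⟩
      rw [sum_singleton, c0, end_eq, ci 1 le_rfl (by omega), mul_one]
    · subst a
      refine ⟨{k - 2}, fun q hq => by rw [mem_singleton] at hq; omega, ?_⟩
      rw [sum_singleton, c1, end_eq, ci (k - 2) (by omega) (by omega), mul_one]
    · refine ⟨{p - 1, p + 1}, fun q hq => by simp only [mem_insert, mem_singleton] at hq; omega, ?_⟩
      rw [sum_pair (by omega), ci p a b, mul_one]
      have l : (T.w (v p) : ℚ) ≤ T.a (v p) (v (p - 1)) * c (p - 1) := by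
        rcases (show p = 1 ∨ 2 ≤ p by omega) with a' | a'
        · subst a'; rw [c0]; exact end_le h0
        · rw [ci _ (by omega) (by omega), mul_one]; exact w_le_q (h.adj' hp (by omega)).2
      have l' : (T.w (v p) : ℚ) ≤ T.a (v p) (v (p + 1)) * c (p + 1) := by
        rcases (show p + 2 = k ∨ p + 2 < k by omega) with a' | a'
        · rw [show p + 1 = k - 1 by omega, c1, show p = k - 2 by omega]; exact end_le h1
        · rw [ci _ (by omega) (by omega), mul_one]; exact w_le_q (h.adj p b)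
      linarith
  have e1 := hr' 1 (by omega)
  rw [ci 1 le_rfl (by omega)] at e1
  refine ⟨e, fun p a b => ?_, ?_, ?_⟩
  · have e2 := hr' p (by omega)
    rw [ci p a b, e1] at e2
    exact_mod_cast (mul_left_cancel₀ hr.ne' e2).symm
  · have e2 := hr' 0 (by omega)
    rw [c0] at e2
    have e3 := end_eq (T := T) (v 0) (v 1)
    rw [e2] at e3
    have : (2 : ℚ) * T.w (v 0) * T.m (v 0) = T.a (v 0) (v 1) * T.m (v 1) := by
      linear_combination (T.m (v 1) : ℚ) * e3 + 2 * (T.w (v 0) : ℚ) * T.m (v 0) * e1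
    exact_mod_cast this
  · have e2 := hr' (k - 1) (by omega)
    rw [c1] at e2
    have e3 := end_eq (T := T) (v (k - 1)) (v (k - 2))
    rw [e2] at e3
    have : (2 : ℚ) * T.w (v (k - 1)) * T.m (v (k - 1)) = T.a (v (k - 1)) (v (k - 2)) * T.m (v 1) := by
      linear_combination (T.m (v 1) : ℚ) * e3 + 2 * (T.w (v (k - 1)) : ℚ) * T.m (v (k - 1)) * e1
    exact_mod_cast this

/-- A chain with a multiple edge at one end and a fork at the other one is everything. -/
lemma df_config {k : ℕ} (hk : 3 ≤ k) {v : ℕ → Fin n} (h : Chain T k v) {x : Fin n} (hx2 : T.IsMinusTwo x)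
    (hx : ∀ i, i < k → x ≠ v i) (hxa : 0 < T.a x (v (k - 2))) (h0 : 2 ≤ mu T (v 0) (v 1)) :
    k + 1 = n ∧ (∀ p, 1 ≤ p → p + 1 < k → T.m (v p) = T.m (v 1)) ∧
      2 * T.m (v (k - 1)) = T.m (v 1) ∧ 2 * T.m x = T.m (v 1) ∧
      2 * T.w (v 0) * T.m (v 0) = T.a (v 0) (v 1) * T.m (v 1) := by
  have hA := (h.adj' (i := 0) (j := 1) (by omega) rfl).1
  let c : ℕ → ℚ := fun p => if p = 0 then (T.a (v 0) (v 1) : ℚ) / (2 * T.w (v 0)) else if p + 1 < k then 1 else 1 / 2
  have c0 : c 0 = (T.a (v 0) (v 1) : ℚ) / (2 * T.w (v 0)) := if_pos rfl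
  have ci : ∀ p, 1 ≤ p → p + 1 < k → c p = 1 := fun p a b => by
    simp only [c, if_neg (show p ≠ 0 by omega), if_pos b]
  have cl : ∀ p, k ≤ p + 1 → c p = 1 / 2 := fun p a => by
    simp only [c, if_neg (show p ≠ 0 by omega), if_neg (show ¬p + 1 < k by omega)]
  have hcpos : ∀ p, p < k + 1 → 0 < c p := fun p hp => by
    rcases (show p = 0 ∨ (1 ≤ p ∧ p + 1 < k) ∨ (k ≤ p + 1) by omega) with a | ⟨a, b⟩ | a
    · subst a; rw [c0]; exact div_pos (by exact_mod_cast hA) (by have := w_pos_q (T := T) (v 0); linarith)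
    · rw [ci p a b]; exact one_pos
    · rw [cl p a]; norm_num
  obtain ⟨e, r, hr, hr'⟩ := configN (by omega) (ext k v x x) (ext_inj1 h hx) (fun i hi => by
      rcases (show i < k ∨ i = k by omega) with a | a
      · rw [ext_lt a]; exact h.two i a
      · rw [a, ext_k]; exact hx2) c hcpos fun p hp => by
    rcases (show p = 0 ∨ (1 ≤ p ∧ p + 2 < k) ∨ p + 2 = k ∨ p + 1 = k ∨ p = k by omega) with a | ⟨a, b⟩ | a | a | a
    · subst a
      refine ⟨{1}, fun q hq => by rw [mem_singleton] at hq; omega, ?_⟩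
      rw [sum_singleton, c0, ext_lt (by omega), ext_lt (by omega), end_eq, ci 1 le_rfl (by omega), mul_one]
    · refine ⟨{p - 1, p + 1}, fun q hq => by simp only [mem_insert, mem_singleton] at hq; omega, ?_⟩
      rw [sum_pair (by omega), ci p a (by omega), mul_one, ext_lt (by omega), ext_lt (by omega), ext_lt (by omega)]
      have l : (T.w (v p) : ℚ) ≤ T.a (v p) (v (p - 1)) * c (p - 1) := by
        rcases (show p = 1 ∨ 2 ≤ p by omega) with a' | a'
        · subst a'; rw [c0]; exact end_le h0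
        · rw [ci _ (by omega) (by omega), mul_one]; exact w_le_q (h.adj' (show p < k by omega) (by omega)).2
      have l' : (T.w (v p) : ℚ) ≤ T.a (v p) (v (p + 1)) * c (p + 1) := by
        rw [ci _ (by omega) (by omega), mul_one]; exact w_le_q (h.adj p (by omega))
      linarith
    · refine ⟨{p - 1, p + 1, k}, fun q hq => by simp only [mem_insert, mem_singleton] at hq; omega, ?_⟩
      rw [sum_insert (by simp; omega), sum_pair (by omega), ci p (by omega) (by omega), mul_one, ext_lt (by omega),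
        ext_lt (by omega), ext_lt (by omega), ext_k, cl (p + 1) (by omega), cl k (by omega)]
      have l : (T.w (v p) : ℚ) ≤ T.a (v p) (v (p - 1)) * c (p - 1) := by
        rcases (show p = 1 ∨ 2 ≤ p by omega) with a' | a'
        · subst a'; rw [c0]; exact end_le h0
        · rw [ci _ (by omega) (by omega), mul_one]; exact w_le_q (h.adj' (show p < k by omega) (by omega)).2
      have l' := w_le_q (h.adj p (by omega))
      have l'' : (T.w (v p) : ℚ) ≤ T.a (v p) x := w_le_q (by rw [a_symm T, show p = k - 2 by omega]; exact hxa)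
      linarith
    · refine ⟨{p - 1}, fun q hq => by rw [mem_singleton] at hq; omega, ?_⟩
      rw [sum_singleton, cl p (by omega), ci (p - 1) (by omega) (by omega), ext_lt (by omega), ext_lt (by omega)]
      have := w_le_q (h.adj' (show p < k by omega) (show p = (p - 1) + 1 by omega)).2
      linarith
    · subst a
      refine ⟨{p - 2}, fun q hq => by rw [mem_singleton] at hq; omega, ?_⟩
      rw [sum_singleton, cl p (by omega), ci (p - 2) (by omega) (by omega), ext_k, ext_lt (by omega)]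
      have := w_le_q hxa
      linarith
  have e1 := hr' 1 (by omega)
  rw [ci 1 le_rfl (by omega), ext_lt (by omega)] at e1
  refine ⟨e, fun p a b => ?_, ?_, ?_, ?_⟩
  · have e2 := hr' p (by omega)
    rw [ci p a b, e1, ext_lt (by omega)] at e2
    exact_mod_cast (mul_left_cancel₀ hr.ne' e2).symm
  · have e2 := hr' (k - 1) (by omega)
    rw [cl _ (by omega), ext_lt (by omega)] at e2
    exact_mod_cast mul_left_cancel₀ hr.ne' (show r * (2 * (T.m (v (k - 1)) : ℚ)) = r * T.m (v 1) by linarith)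
  · have e2 := hr' k (by omega)
    rw [cl _ (by omega), ext_k] at e2
    exact_mod_cast mul_left_cancel₀ hr.ne' (show r * (2 * (T.m x : ℚ)) = r * T.m (v 1) by linarith)
  · have e2 := hr' 0 (by omega)
    rw [c0, ext_lt (by omega)] at e2
    have e3 := end_eq (T := T) (v 0) (v 1)
    rw [e2] at e3
    have : (2 : ℚ) * T.w (v 0) * T.m (v 0) = T.a (v 0) (v 1) * T.m (v 1) := by
      linear_combination (T.m (v 1) : ℚ) * e3 + 2 * (T.w (v 0) : ℚ) * T.m (v 0) * e1
    exact_mod_cast this

/-- A chain with forks at both ends is everything. -/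
lemma ff_config {k : ℕ} (hk : 3 ≤ k) {v : ℕ → Fin n} (h : Chain T k v) {x y : Fin n} (hx2 : T.IsMinusTwo x)
    (hy2 : T.IsMinusTwo y) (hx : ∀ i, i < k → x ≠ v i) (hy : ∀ i, i < k → y ≠ v i) (hxy : x ≠ y)
    (hxa : 0 < T.a x (v 1)) (hya : 0 < T.a y (v (k - 2))) :
    k + 2 = n ∧ (∀ p, 1 ≤ p → p + 1 < k → T.m (v p) = 2 * T.m x) ∧
      T.m (v 0) = T.m x ∧ T.m (v (k - 1)) = T.m x ∧ T.m y = T.m x := by
  let c : ℕ → ℚ := fun p => if 1 ≤ p ∧ p + 1 < k then 2 else 1
  have ci : ∀ p, 1 ≤ p → p + 1 < k → c p = 2 := fun p a b => if_pos ⟨a, b⟩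
  have cl : ∀ p, (p = 0 ∨ k ≤ p + 1) → c p = 1 := fun p a => if_neg (by omega)
  obtain ⟨e, r, hr, hr'⟩ := configN (by omega) (ext k v x y) (ext_inj2 h hx hy hxy) (fun i hi => by
      rcases (show i < k ∨ i = k ∨ i = k + 1 by omega) with a | a | a
      · rw [ext_lt a]; exact h.two i a
      · rw [a, ext_k]; exact hx2
      · rw [a, ext_k1]; exact hy2) c (fun p _ => by simp only [c]; split_ifs <;> norm_num) fun p hp => by
    rcases (show p = 0 ∨ p = k - 1 ∨ p = k ∨ p = k + 1 ∨ (1 ≤ p ∧ p + 1 < k) by omega) with a | a | a | a | ⟨a, b⟩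
    · subst a
      refine ⟨{1}, fun q hq => by rw [mem_singleton] at hq; omega, ?_⟩
      rw [sum_singleton, cl 0 (Or.inl rfl), ci 1 le_rfl (by omega), ext_lt (by omega), ext_lt (by omega)]
      have := w_le_q (h.adj 0 (by omega)); simp only [zero_add] at this; linarith
    · subst a
      refine ⟨{k - 2}, fun q hq => by rw [mem_singleton] at hq; omega, ?_⟩
      rw [sum_singleton, cl _ (by omega), ci (k - 2) (by omega) (by omega), ext_lt (by omega), ext_lt (by omega)]
      have := w_le_q (h.adj' (i := k - 2) (j := k - 1) (by omega) (by omega)).2; linarith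
    · subst a
      refine ⟨{1}, fun q hq => by rw [mem_singleton] at hq; omega, ?_⟩
      rw [sum_singleton, cl _ (by omega), ci 1 le_rfl (by omega), ext_k, ext_lt (by omega)]
      have := w_le_q hxa; linarith
    · subst a
      refine ⟨{k - 2}, fun q hq => by rw [mem_singleton] at hq; omega, ?_⟩
      rw [sum_singleton, cl _ (by omega), ci (k - 2) (by omega) (by omega), ext_k1, ext_lt (by omega)]
      have := w_le_q hya; linarith
    · have hl := w_le_q (h.adj' (show p < k by omega) (show p = (p - 1) + 1 by omega)).2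
      have hr0 := w_le_q (h.adj p b)
      rw [ci p a b, ext_lt (show p < k by omega)]
      rcases (show p = 1 ∨ 2 ≤ p by omega) with A | A <;> rcases (show p + 2 = k ∨ p + 2 < k by omega) with B | B
      · refine ⟨{0, p + 1, k, k + 1}, fun q hq => by simp only [mem_insert, mem_singleton] at hq; omega, ?_⟩
        rw [sum_insert (by simp; omega), sum_insert (by simp; omega), sum_pair (by omega), cl 0 (Or.inl rfl),
          cl (p + 1) (by omega), cl k (by omega), cl (k + 1) (by omega), ext_k, ext_k1, ext_lt (by omega), ext_lt (by omega)]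
        subst A
        have hxa' := w_le_q (show 0 < T.a (v 1) x by rw [a_symm]; exact hxa)
        have hya' := w_le_q (show 0 < T.a (v 1) y by rw [a_symm, show (1 : ℕ) = k - 2 by omega]; exact hya)
        simp only [Nat.sub_self] at hl
        linarith
      · refine ⟨{0, p + 1, k}, fun q hq => by simp only [mem_insert, mem_singleton] at hq; omega, ?_⟩
        rw [sum_insert (by simp; omega), sum_pair (by omega), cl 0 (Or.inl rfl),
          ci (p + 1) (by omega) (by omega), cl k (by omega), ext_k, ext_lt (by omega), ext_lt (by omega)]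
        subst A
        have hxa' := w_le_q (show 0 < T.a (v 1) x by rw [a_symm]; exact hxa)
        simp only [Nat.sub_self] at hl
        linarith
      · refine ⟨{p - 1, p + 1, k + 1}, fun q hq => by simp only [mem_insert, mem_singleton] at hq; omega, ?_⟩
        rw [sum_insert (by simp; omega), sum_pair (by omega), ci (p - 1) (by omega) (by omega),
          cl (p + 1) (by omega), cl (k + 1) (by omega), ext_k1, ext_lt (by omega), ext_lt (by omega)]
        have hya' := w_le_q (show 0 < T.a (v p) y by rw [a_symm, show p = k - 2 by omega]; exact hya)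
        linarith
      · refine ⟨{p - 1, p + 1}, fun q hq => by simp only [mem_insert, mem_singleton] at hq; omega, ?_⟩
        rw [sum_pair (by omega), ci (p - 1) (by omega) (by omega),
          ci (p + 1) (by omega) (by omega), ext_lt (by omega), ext_lt (by omega)]
        linarith
  have ex := hr' k (by omega)
  rw [cl k (by omega), ext_k] at ex
  refine ⟨e, fun p a b => ?_, ?_, ?_, ?_⟩
  · have e2 := hr' p (by omega)
    rw [ci p a b, ext_lt (by omega)] at e2
    exact_mod_cast mul_left_cancel₀ hr.ne' (show r * (T.m (v p) : ℚ) = r * (2 * T.m x) by linarith)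
  · have e2 := hr' 0 (by omega)
    rw [cl 0 (Or.inl rfl), ext_lt (by omega)] at e2
    exact_mod_cast mul_left_cancel₀ hr.ne' (show r * (T.m (v 0) : ℚ) = r * T.m x by linarith)
  · have e2 := hr' (k - 1) (by omega)
    rw [cl _ (by omega), ext_lt (by omega)] at e2
    exact_mod_cast mul_left_cancel₀ hr.ne' (show r * (T.m (v (k - 1)) : ℚ) = r * T.m x by linarith)
  · have e2 := hr' (k + 1) (by omega)
    rw [cl _ (by omega), ext_k1] at e2
    exact_mod_cast mul_left_cancel₀ hr.ne' (show r * (T.m y : ℚ) = r * T.m x by linarith)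

/-- The configuration with a double edge inside a chain of five. -/
lemma f4_config {v : ℕ → Fin n} (h : Chain T 5 v) (h2 : 2 ≤ mu T (v 2) (v 3)) : n = 5 := by
  set d : ℚ := 4 * (T.w (v 2) : ℚ) / T.a (v 2) (v 3) with hd
  have ha : (0 : ℚ) < T.a (v 2) (v 3) := by exact_mod_cast h.adj 2 (by omega)
  have hw := w_pos_q (T := T) (v 2)
  have hd0 : 0 < d := by positivity
  let c : ℕ → ℚ := fun p => if p = 0 then 1 else if p = 1 then 2 else if p = 2 then 3 else if p = 3 then d else d / 2
  have s10 := w_le_q (h.adj' (i := 0) (j := 1) (by omega) rfl).2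
  have s01 : (T.w (v 0) : ℚ) ≤ T.a (v 0) (v 1) := w_le_q (h.adj 0 (by omega))
  have s12 : (T.w (v 1) : ℚ) ≤ T.a (v 1) (v 2) := w_le_q (h.adj 1 (by omega))
  have s21 := w_le_q (h.adj' (i := 1) (j := 2) (by omega) rfl).2
  have s34 : (T.w (v 3) : ℚ) ≤ T.a (v 3) (v 4) := w_le_q (h.adj 3 (by omega))
  have s43 := w_le_q (h.adj' (i := 3) (j := 4) (by omega) rfl).2
  refine ((configN (by omega) v h.inj h.two c (fun p hp => by simp only [c]; split_ifs <;> positivity) fun p hp => ?_).1).symm
  interval_cases p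
  · refine ⟨{1}, by simp, ?_⟩
    simp only [sum_singleton, c]; norm_num; linarith
  · refine ⟨{0, 2}, by simp, ?_⟩
    simp [c]; linarith
  · refine ⟨{1, 3}, by simp, ?_⟩
    simp [c]
    have : (T.a (v 2) (v 3) : ℚ) * d = 4 * T.w (v 2) := by rw [hd]; field_simp
    linarith
  · refine ⟨{2, 4}, by simp, ?_⟩
    simp [c]
    have h1 := end_le (T := T) (i := v 2) (j := v 3) h2
    rw [mul_div_assoc', le_div_iff₀ (by positivity)] at h1
    have h3 : (T.w (v 3) : ℚ) * d ≤ 2 * T.a (v 3) (v 2) := by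
      rw [hd, mul_div_assoc', div_le_iff₀ ha]; nlinarith
    nlinarith [mul_le_mul_of_nonneg_right s34 hd0.le]
  · refine ⟨{3}, by simp, ?_⟩
    simp [c]
    nlinarith [mul_le_mul_of_nonneg_right s43 hd0.le]

/-- A vertex with three chains of length two is everything. -/
lemma e6_config {u : ℕ → Fin n} (hinj : ∀ i j, i < 7 → j < 7 → u i = u j → i = j) (hv : ∀ i, i < 7 → T.IsMinusTwo (u i))
    (h01 : 0 < T.a (u 0) (u 1)) (h12 : 0 < T.a (u 1) (u 2)) (h34 : 0 < T.a (u 3) (u 4)) (h24 : 0 < T.a (u 2) (u 4))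
    (h56 : 0 < T.a (u 5) (u 6)) (h26 : 0 < T.a (u 2) (u 6)) :
    n = 7 ∧ T.m (u 1) = 2 * T.m (u 0) ∧ T.m (u 2) = 3 * T.m (u 0) ∧ T.m (u 3) = T.m (u 0) ∧
      T.m (u 4) = 2 * T.m (u 0) ∧ T.m (u 5) = T.m (u 0) ∧ T.m (u 6) = 2 * T.m (u 0) := by
  let c : ℕ → ℚ := fun p => if p = 0 ∨ p = 3 ∨ p = 5 then 1 else if p = 2 then 3 else 2
  have sw : ∀ {i j : Fin n}, 0 < T.a i j → (T.w j : ℚ) ≤ T.a j i := fun {i j} h => w_le_q (by rw [a_symm]; exact h)
  obtain ⟨e, r, hr, hr'⟩ := configN (by omega) u hinj hv c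
      (fun p hp => by simp only [c]; split_ifs <;> norm_num) fun p hp => by
    interval_cases p
    · refine ⟨{1}, by simp, ?_⟩
      simp [c]; linarith [w_le_q h01]
    · refine ⟨{0, 2}, by simp, ?_⟩
      simp [c]; linarith [w_le_q h12, sw h01]
    · refine ⟨{1, 4, 6}, by simp, ?_⟩
      simp [c]; linarith [sw h12, w_le_q h24, w_le_q h26]
    · refine ⟨{4}, by simp, ?_⟩
      simp [c]; linarith [w_le_q h34]
    · refine ⟨{3, 2}, by simp, ?_⟩
      simp [c]; linarith [sw h34, sw h24]
    · refine ⟨{6}, by simp, ?_⟩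
      simp [c]; linarith [w_le_q h56]
    · refine ⟨{5, 2}, by simp, ?_⟩
      simp [c]; linarith [sw h56, sw h26]
  have e0 : r * (T.m (u 0) : ℚ) = 1 := by rw [← hr' 0 (by omega)]; rfl
  have key : ∀ p, p < 7 → ∀ z : ℤ, c p = (z : ℚ) → T.m (u p) = z * T.m (u 0) := fun p hp z hz => by
    have : r * (T.m (u p) : ℚ) = r * ((z : ℚ) * T.m (u 0)) := by rw [← hr' p hp, hz]; linear_combination (-(z : ℚ)) * e0
    exact_mod_cast mul_left_cancel₀ hr.ne' this
  exact ⟨e.symm, key 1 (by omega) 2 (by norm_num [c]), key 2 (by omega) 3 (by norm_num [c]),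
    by simpa using key 3 (by omega) 1 (by norm_num [c]), key 4 (by omega) 2 (by norm_num [c]),
    by simpa using key 5 (by omega) 1 (by norm_num [c]), key 6 (by omega) 2 (by norm_num [c])⟩

lemma simple_edge {i j : Fin n} (h : 0 < T.a i j) (h1 : mu T i j = 1) : T.a i j = T.w i ∧ T.w j = T.w i := by
  obtain ⟨a, b⟩ := (mu_cases T h).1 h1
  exact ⟨a, by linarith⟩

end NumTypeLib
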