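/-
Numerical types: proper chains and forks of `(-2)`-indices.
-/
import Groth.Agent.Lib.NumTypeChain

set_option autoImplicit false

open Finset

namespace NumTypeLib

variable {n : ℕ} {T : Models.NumericalType n}

lemma simple_w {i j : Fin n} (h : 0 < T.a i j) (h1 : mu T i j = 1) : T.a i j = T.w i ∧ T.a i j = T.w j :=
  (mu_cases T h).1 h1

/-- The weights are constant along simple edges. -/
lemma Chain.w_const {k : ℕ} {v : ℕ → Fin n} (h : Chain T k v) {e l : ℕ} (hl : l < k)
    (hs : ∀ i, e ≤ i → i < l → mu T (v i) (v (i + 1)) = 1) :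
    ∀ i, e ≤ i → i ≤ l → T.w (v i) = T.w (v e) := by
  intro i he hi
  induction i, he using Nat.le_induction with
  | base => rfl
  | succ i he ih =>
    rw [← ih (by omega)]
    exact (simple_edge (h.adj i (by omega)) (hs i he (by omega))).2

/-- An index outside a chain and attached to two of its indices closes a cycle which is everything. -/
lemma attach_twice {k : ℕ} {v : ℕ → Fin n} (h : Chain T k v) {x : Fin n} (hx2 : T.IsMinusTwo x)
    (hx : ∀ i, i < k → x ≠ v i) {i j : ℕ} (hij : i < j) (hj : j < k) (hi : 0 < T.a x (v i)) (hjx : 0 < T.a x (v j)) :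
    j - i + 2 = n := by
  refine (cycle_config (T := T) (v := fun t => if t = 0 then x else v (i + (t - 1))) (by omega) ⟨?_, ?_, ?_⟩ ?_).1
  · intro a b ha hb e
    try dsimp only at e
    split_ifs at e with a0 b0
    · omega
    · exact absurd e (hx _ (by omega))
    · exact absurd e.symm (hx _ (by omega))
    · have := h.inj _ _ (by omega) (by omega) e; omega
  · intro a ha
    rcases eq_or_ne a 0 with rfl | a0
    · simpa using hi
    · try dsimp only
      rw [if_neg a0, if_neg (Nat.succ_ne_zero a)]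
      exact (h.adj' (by omega) (show i + (a + 1 - 1) = i + (a - 1) + 1 by omega)).1
  · intro a ha
    try dsimp only
    split_ifs
    · exact hx2
    · exact h.two _ (by omega)
  · try dsimp only
    rw [if_pos rfl, if_neg (by omega), show i + (j - i + 2 - 1 - 1) = j by omega]
    exact hjx

/-- A chord of a chain closes a cycle which is everything. -/
lemma chord {k : ℕ} {v : ℕ → Fin n} (h : Chain T k v) {i j : ℕ} (hij : i + 1 < j) (hj : j < k)
    (ha : T.a (v i) (v j) ≠ 0) : j - i + 1 = n := by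
  refine (cycle_config (by omega) (h.sub (e := i) (l := j - i + 1) (by omega)) ?_).1
  try dsimp only
  rw [Nat.add_zero, show i + (j - i + 1 - 1) = j by omega]
  exact offdiag_pos T (h.ne (by omega) hj (by omega)) ha

lemma no_chord {k : ℕ} {v : ℕ → Fin n} (hn : k < n) (h : Chain T k v) {i j : ℕ} (hij : i + 1 < j) (hj : j < k) :
    T.a (v i) (v j) = 0 := by
  by_contra ha
  have := chord h hij hj ha
  omega

lemma chain_mu_pair {k : ℕ} {v : ℕ → Fin n} (hn : 3 < n) (h : Chain T k v) {i : ℕ} (hi : i + 2 < k) :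
    mu T (v i) (v (i + 1)) + mu T (v (i + 1)) (v (i + 2)) < 4 := by
  rw [mu_symm T (v i)]
  exact two_lt T hn (h.ne (by omega) hi (by omega)) (h.two _ (by omega)) (h.two _ (by omega)) (h.two _ hi)
    (h.adj' (by omega) rfl).2 (h.adj' hi rfl).1

lemma chain_mu {k : ℕ} {v : ℕ → Fin n} (hn : 3 < n) (hk : 3 ≤ k) (h : Chain T k v) {i : ℕ} (hi : i + 1 < k) :
    mu T (v i) (v (i + 1)) = 1 ∨ mu T (v i) (v (i + 1)) = 2 := by
  have h0 := mu_pos T (h.adj i hi)
  rcases (show i + 2 < k ∨ 1 ≤ i by omega) with a | a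
  · have := chain_mu_pair hn h a
    have := mu_pos T (h.adj' (i := i + 1) (j := i + 2) a rfl).1
    omega
  · have h1 := chain_mu_pair hn h (i := i - 1) (by omega)
    rw [show i - 1 + 1 = i by omega, show i - 1 + 2 = i + 1 by omega] at h1
    have := mu_pos T (h.adj' (i := i - 1) (j := i) (by omega) (by omega)).1
    omega

/-- Two multiple edges in a chain bound a chain which is everything. -/
lemma two_doubles {k : ℕ} {v : ℕ → Fin n} (h : Chain T k v) {p q : ℕ} (hpq : p < q) (hq : q + 1 < k)
    (h0 : 2 ≤ mu T (v p) (v (p + 1))) (h1 : 2 ≤ mu T (v q) (v (q + 1))) : q - p + 2 = n := by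
  refine (dd_config (by omega) (h.sub (e := p) (l := q - p + 2) (by omega)) (by simpa using h0) ?_).1
  try dsimp only
  rw [show p + (q - p + 2 - 1) = q + 1 by omega, show p + (q - p + 2 - 2) = q by omega, mu_symm]
  exact h1

/-- A multiple edge inside a chain of five is everything. -/
lemma inner_double {k : ℕ} {v : ℕ → Fin n} (h : Chain T k v) (hk : 5 ≤ k) {p : ℕ} (hp : 1 ≤ p) (hp2 : p + 2 < k)
    (h0 : 2 ≤ mu T (v p) (v (p + 1))) : n = 5 := by
  rcases (show 2 ≤ p ∨ p + 3 < k by omega) with a | a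
  · refine f4_config (h.sub (e := p - 2) (l := 5) (by omega)) ?_
    rw [show p - 2 + 2 = p by omega, show p - 2 + 3 = p + 1 by omega]
    exact h0
  · refine f4_config (h.sub (e := p - 1) (l := 5) (by omega)).rev ?_
    rw [show p - 1 + (5 - 1 - 2) = p + 1 by omega, show p - 1 + (5 - 1 - 3) = p by omega, mu_symm]
    exact h0

/-- The possible proper chains. -/
lemma chain_cases {k : ℕ} {v : ℕ → Fin n} (h : Chain T k v) (hk : 3 ≤ k) (hn : k < n) :
    ∃ u : ℕ → Fin n, ((∀ i, u i = v i) ∨ (∀ i, u i = v (k - 1 - i))) ∧ Chain T k u ∧ ∃ w : ℤ,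
      ((∀ i, i < k → T.w (u i) = w) ∧ (∀ i, i + 1 < k → T.a (u i) (u (i + 1)) = w)) ∨
      ((∀ i, i + 1 < k → T.w (u i) = w) ∧ T.w (u (k - 1)) = 2 * w ∧
        (∀ i, i + 2 < k → T.a (u i) (u (i + 1)) = w) ∧ T.a (u (k - 2)) (u (k - 1)) = 2 * w) ∨
      ((∀ i, i + 1 < k → T.w (u i) = 2 * w) ∧ T.w (u (k - 1)) = w ∧ (∀ i, i + 1 < k → T.a (u i) (u (i + 1)) = 2 * w)) ∨
      (k = 4 ∧ T.w (u 0) = w ∧ T.w (u 1) = w ∧ T.w (u 2) = 2 * w ∧ T.w (u 3) = 2 * w ∧
        T.a (u 0) (u 1) = w ∧ T.a (u 1) (u 2) = 2 * w ∧ T.a (u 2) (u 3) = 2 * w) := by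
  have hn3 : 3 < n := by omega
  by_cases hd : ∃ p, p + 1 < k ∧ mu T (v p) (v (p + 1)) = 2
  · obtain ⟨p, hpk, hp⟩ := hd
    have hs : ∀ i, i + 1 < k → i ≠ p → mu T (v i) (v (i + 1)) = 1 := fun i hi hip => by
      refine (chain_mu hn3 hk h hi).resolve_right fun h2 => ?_
      rcases lt_or_gt_of_ne hip with a | a
      · have := two_doubles h a hpk h2.ge hp.ge; omega
      · have := two_doubles h a hi hp.ge h2.ge; omega
    by_cases hend : p = 0 ∨ p + 2 = k
    · -- orient so that the double edge is the last one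
      obtain ⟨u, hu, hcu, hul, hus⟩ : ∃ u : ℕ → Fin n, ((∀ i, u i = v i) ∨ (∀ i, u i = v (k - 1 - i))) ∧ Chain T k u ∧
          mu T (u (k - 2)) (u (k - 1)) = 2 ∧ ∀ i, i + 2 < k → mu T (u i) (u (i + 1)) = 1 := by
        rcases hend with a | a
        · refine ⟨_, Or.inr fun i => rfl, h.rev, ?_, fun i hi => ?_⟩
          · try dsimp only
            rw [show k - 1 - (k - 2) = p + 1 by omega, show k - 1 - (k - 1) = p by omega, mu_symm]
            exact hp
          · try dsimp only
            rw [mu_symm, show k - 1 - i = (k - 1 - (i + 1)) + 1 by omega]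
            exact hs _ (by omega) (by omega)
        · refine ⟨v, Or.inl fun i => rfl, h, ?_, fun i hi => hs i (by omega) (by omega)⟩
          rw [show k - 2 = p by omega, show k - 1 = p + 1 by omega]
          exact hp
      have hwc := hcu.w_const (e := 0) (l := k - 2) (by omega) fun i _ hi => hus i (by omega)
      have hpos := (hcu.adj' (i := k - 2) (j := k - 1) (by omega) (by omega)).1
      rcases (mu_cases T hpos).2.1 hul with ⟨a, b⟩ | ⟨a, b⟩
      · refine ⟨u, hu, hcu, T.w (u 0), Or.inr (Or.inl ⟨fun i hi => hwc i (by omega) (by omega), ?_, fun i hi => ?_, ?_⟩)⟩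
        · rw [b, hwc (k - 2) (by omega) le_rfl]
        · rw [(simple_edge (hcu.adj i (by omega)) (hus i hi)).1, hwc i (by omega) (by omega)]
        · rw [a, b, hwc (k - 2) (by omega) le_rfl]
      · refine ⟨u, hu, hcu, T.w (u (k - 1)), Or.inr (Or.inr (Or.inl ⟨fun i hi => ?_, rfl, fun i hi => ?_⟩))⟩
        · rw [hwc i (by omega) (by omega), ← hwc (k - 2) (by omega) le_rfl, b]
        · rcases (show i + 2 < k ∨ i = k - 2 by omega) with c | c
          · rw [(simple_edge (hcu.adj i (by omega)) (hus i c)).1, hwc i (by omega) (by omega),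
              ← hwc (k - 2) (by omega) le_rfl, b]
          · rw [c, show k - 2 + 1 = k - 1 by omega, a, b]
    · push Not at hend
      have hk4 : k = 4 := by
        by_contra hk4
        have := inner_double h (by omega) (p := p) (by omega) (by omega) hp.ge
        omega
      subst hk4
      obtain rfl : p = 1 := by omega
      have e0 := simple_w (h.adj 0 (by omega)) (hs 0 (by omega) (by omega))
      have e2 := simple_w (h.adj 2 (by omega)) (hs 2 (by omega) (by omega))
      rcases (mu_cases T (h.adj 1 (by omega))).2.1 hp with ⟨a, b⟩ | ⟨a, b⟩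
      · norm_num at e0 e2 a b
        exact ⟨v, Or.inl fun i => rfl, h, T.w (v 1), Or.inr (Or.inr (Or.inr
          ⟨rfl, by linarith, rfl, b, by linarith, by linarith, by linarith, by linarith⟩))⟩
      · norm_num at e0 e2 a b
        refine ⟨_, Or.inr fun i => rfl, h.rev, T.w (v 2), Or.inr (Or.inr (Or.inr ⟨rfl, ?_⟩))⟩
        norm_num
        rw [a_symm T (v 3) (v 2), a_symm T (v 2) (v 1), a_symm T (v 1) (v 0)]
        exact ⟨by linarith, b, by linarith, by linarith, by linarith, by linarith⟩
  · push Not at hd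
    have hs : ∀ i, i + 1 < k → mu T (v i) (v (i + 1)) = 1 := fun i hi => (chain_mu hn3 hk h hi).resolve_right (hd i hi)
    have hwc := h.w_const (e := 0) (l := k - 1) (by omega) fun i _ hi => hs i (by omega)
    refine ⟨v, Or.inl fun i => rfl, h, T.w (v 0), Or.inl ⟨fun i hi => hwc i (by omega) (by omega), fun i hi => ?_⟩⟩
    rw [(simple_edge (h.adj i hi) (hs i hi)).1, hwc i (by omega) (by omega)]

/-- A proper fork has simple edges only. -/
lemma fork_proper {k : ℕ} {v : ℕ → Fin n} (h : Chain T k v) {x : Fin n} (hx2 : T.IsMinusTwo x)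
    (hx : ∀ i, i < k → x ≠ v i) {i : ℕ} (hi1 : 1 ≤ i) (hik : i + 1 < k) (hxi : 0 < T.a x (v i)) (hn : k + 1 < n) :
    ∃ w : ℤ, (∀ p, p < k → T.w (v p) = w) ∧ T.w x = w ∧ (∀ p, p + 1 < k → T.a (v p) (v (p + 1)) = w) ∧
      T.a (v i) x = w ∧ (∀ p q, p + 1 < q → q < k → T.a (v p) (v q) = 0) ∧ (∀ p, p < k → p ≠ i → T.a (v p) x = 0) := by
  have hn3 : 3 < n := by omega
  have hl := three_lt T (by omega) (i := v i) (j := v (i - 1)) (l := v (i + 1)) (r := x) (h.ne (by omega) hik (by omega))
    (hx _ (by omega)).symm (hx _ hik).symm (h.two _ (by omega)) (h.two _ (by omega)) (h.two _ hik) hx2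
    (h.adj' (by omega) (show i = (i - 1) + 1 by omega)).2 (h.adj i hik) (by rw [a_symm]; exact hxi)
  have p1 := mu_pos T (h.adj' (j := i) (by omega) (show i = (i - 1) + 1 by omega)).2
  have p2 := mu_pos T (h.adj i hik)
  have p3 : 0 < mu T (v i) x := mu_pos T (by rw [a_symm]; exact hxi)
  have hs : ∀ p, p + 1 < k → mu T (v p) (v (p + 1)) = 1 := fun p hp => by
    rcases (show p = i ∨ p + 1 = i ∨ p + 1 < i ∨ i < p by omega) with a | a | a | a
    · rw [a]; omega
    · rw [a, mu_symm, show p = i - 1 by omega]; omega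
    · refine (chain_mu hn3 (by omega) h hp).resolve_right fun h2 => ?_
      have e := (df_config (v := fun t => v (p + t)) (k := i - p + 2) (by omega) (h.sub (by omega)) hx2
        (fun t ht => hx _ (by omega)) (by rw [show p + (i - p + 2 - 2) = i by omega]; exact hxi)
        (by simpa using h2.ge)).1
      omega
    · refine (chain_mu hn3 (by omega) h hp).resolve_right fun h2 => ?_
      have e := (df_config (v := fun t => v (i - 1 + (p - i + 3 - 1 - t))) (k := p - i + 3) (by omega)
        (h.sub (e := i - 1) (l := p - i + 3) (by omega)).rev hx2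
        (fun t ht => hx _ (by omega))
        (by rw [show i - 1 + (p - i + 3 - 1 - (p - i + 3 - 2)) = i by omega]; exact hxi)
        (by
          try dsimp only
          rw [show i - 1 + (p - i + 3 - 1 - 0) = p + 1 by omega, show i - 1 + (p - i + 3 - 1 - 1) = p by omega, mu_symm]
          exact h2.ge)).1
      omega
  have hwc := h.w_const (e := 0) (l := k - 1) (by omega) fun p _ hp => hs p (by omega)
  obtain ⟨ea, eb⟩ := simple_edge (show 0 < T.a (v i) x by rw [a_symm]; exact hxi) (by omega)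
  refine ⟨T.w (v 0), fun p hp => hwc p (by omega) (by omega), ?_, fun p hp => ?_, ?_,
    fun p q hpq hq => no_chord (by omega) h hpq hq, fun p hp hpi => ?_⟩
  · rw [eb, hwc i (by omega) (by omega)]
  · rw [(simple_edge (h.adj p hp) (hs p hp)).1, hwc p (by omega) (by omega)]
  · rw [ea, hwc i (by omega) (by omega)]
  · by_contra hne
    have hpx : 0 < T.a x (v p) := by rw [a_symm]; exact offdiag_pos T (hx p hp).symm hne
    rcases lt_or_gt_of_ne hpi with a | a
    · have := attach_twice h hx2 hx a (by omega) hpx hxi; omega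
    · have := attach_twice h hx2 hx a hp hxi hpx; omega

lemma row_pair {i j l : Fin n} (hi : T.IsMinusTwo i) (hij : i ≠ j) (hil : i ≠ l) (hjl : j ≠ l) :
    T.a i j * T.m j + T.a i l * T.m l ≤ 2 * T.w i * T.m i := by
  have := row_two T hi {j, l} (by simp [hij, hil])
  rwa [sum_pair hjl] at this

lemma row_triple {i j l r : Fin n} (hi : T.IsMinusTwo i) (hij : i ≠ j) (hil : i ≠ l) (hir : i ≠ r) (hjl : j ≠ l)
    (hjr : j ≠ r) (hlr : l ≠ r) :
    T.a i j * T.m j + T.a i l * T.m l + T.a i r * T.m r ≤ 2 * T.w i * T.m i := by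
  have := row_two T hi {j, l, r} (by simp [hij, hil, hir])
  rw [sum_insert (by simp [hjl, hjr]), sum_pair hlr] at this
  linarith

lemma row_one {i j : Fin n} (hi : T.IsMinusTwo i) (hij : i ≠ j) : T.a i j * T.m j ≤ 2 * T.w i * T.m i := by
  have := row_two T hi {j} (by simp [hij])
  rwa [sum_singleton] at this

end NumTypeLib
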