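/-
Numerical types all of whose indices are `(-2)`-indices: the classification on at least four indices.
-/
import Groth.Agent.Lib.NumTypeProper

set_option autoImplicit false
set_option linter.unusedSectionVars false

open Finset

namespace NumTypeLib

variable {n : ℕ} {T : Models.NumericalType n}

/-- The data of `T` are, up to the order of the indices and two scalars, those given by the patterns. -/
def Fits (T : Models.NumericalType n) (mf wf : ℕ → ℤ) (ef : ℕ → ℕ → ℤ) : Prop :=
  ∃ (u : ℕ → Fin n) (m w : ℤ), (∀ i j, i < n → j < n → u i = u j → i = j) ∧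
    (∀ i, i < n → T.m (u i) = mf i * m ∧ T.w (u i) = wf i * w) ∧
    ∀ i j, i < j → j < n → T.a (u i) (u j) = ef i j * w

lemma Fits.perm {mf wf : ℕ → ℤ} {ef : ℕ → ℕ → ℤ} (h : Fits T mf wf ef) :
    ∃ (σ : Equiv.Perm (Fin n)) (m w : ℤ), (∀ i : Fin n, T.m (σ i) = mf i * m) ∧ (∀ i : Fin n, T.w (σ i) = wf i * w) ∧
      ∀ i j : Fin n, i.val < j.val → T.a (σ i) (σ j) = ef i j * w := by
  obtain ⟨u, m, w, hu, h1, h2⟩ := h
  have hinj : Function.Injective fun i : Fin n => u i := fun a b e => Fin.ext (hu _ _ a.2 b.2 e)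
  exact ⟨Equiv.ofBijective _ (Finite.injective_iff_bijective.1 hinj), m, w, fun i => (h1 i i.2).1,
    fun i => (h1 i i.2).2, fun i j hij => h2 i j hij j.2⟩

def mCycle : ℕ → ℤ := fun _ => 1
def eCycle (n : ℕ) : ℕ → ℕ → ℤ := fun i j => if j = i + 1 ∨ (i = 0 ∧ j + 1 = n) then 1 else 0
def mUU (n : ℕ) : ℕ → ℤ := fun i => if i + 1 < n then 2 else 1
def wUU (n : ℕ) : ℕ → ℤ := fun i => if i = 0 then 1 else if i + 1 < n then 2 else 4
def eUU (n : ℕ) : ℕ → ℕ → ℤ := fun i j => if j = i + 1 then (if j + 1 < n then 2 else 4) else 0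
def wUD (n : ℕ) : ℕ → ℤ := fun i => if i = 0 ∨ i + 1 = n then 1 else 2
def eUD : ℕ → ℕ → ℤ := fun i j => if j = i + 1 then 2 else 0
def mDU (n : ℕ) : ℕ → ℤ := fun i => if i = 0 ∨ i + 1 = n then 1 else 2
def wDU (n : ℕ) : ℕ → ℤ := fun i => if i = 0 ∨ i + 1 = n then 2 else 1
def eDU (n : ℕ) : ℕ → ℕ → ℤ := fun i j => if j = i + 1 then (if i = 0 ∨ j + 1 = n then 2 else 1) else 0
def mDext (n : ℕ) : ℕ → ℤ := fun i => if i = 0 ∨ n ≤ i + 2 then 1 else 2
def wDextUp : ℕ → ℤ := fun i => if i = 0 then 2 else 1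
def eDextUp (n : ℕ) : ℕ → ℕ → ℤ := fun i j =>
  if i = 0 ∧ j = 1 then 2 else if (j = i + 1 ∧ j + 2 ≤ n) ∨ (i + 3 = n ∧ j + 1 = n) then 1 else 0
def mDextDown (n : ℕ) : ℕ → ℤ := fun i => if n ≤ i + 2 then 1 else 2
def wDextDown : ℕ → ℤ := fun i => if i = 0 then 1 else 2
def eDextDown (n : ℕ) : ℕ → ℕ → ℤ := fun i j =>
  if (j = i + 1 ∧ j + 2 ≤ n) ∨ (i + 3 = n ∧ j + 1 = n) then 2 else 0
def mFork (n : ℕ) : ℕ → ℤ := fun i => if i ≤ 1 ∨ n ≤ i + 2 then 1 else 2
def eFork (n : ℕ) : ℕ → ℕ → ℤ := fun i j =>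
  if (i = 0 ∧ j = 2) ∨ (i = 1 ∧ j = 2) ∨ (j = i + 1 ∧ 2 ≤ i ∧ j + 2 ≤ n) ∨ (i + 3 = n ∧ j + 1 = n) then 1 else 0
def mF4a : ℕ → ℤ := fun i => if i = 0 then 1 else if i = 1 then 2 else if i = 2 then 3 else if i = 3 then 2 else 1
def wF4a : ℕ → ℤ := fun i => if i ≤ 2 then 1 else 2
def eF4a : ℕ → ℕ → ℤ := fun i j => if j = i + 1 then (if 2 ≤ i then 2 else 1) else 0
def mF4b : ℕ → ℤ := fun i => if i = 0 then 1 else if i = 1 then 2 else if i = 2 then 3 else if i = 3 then 4 else 2
def wF4b : ℕ → ℤ := fun i => if i ≤ 2 then 2 else 1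
def eF4b : ℕ → ℕ → ℤ := fun i j => if j = i + 1 then (if i ≤ 2 then 2 else 1) else 0
def mE6 : ℕ → ℤ := fun i => if i = 0 ∨ i = 3 ∨ i = 5 then 1 else if i = 2 then 3 else 2
def eE6 : ℕ → ℕ → ℤ := fun i j =>
  if (i = 0 ∧ j = 1) ∨ (i = 1 ∧ j = 2) ∨ (i = 2 ∧ j = 4) ∨ (i = 2 ∧ j = 6) ∨ (i = 3 ∧ j = 4) ∨ (i = 5 ∧ j = 6) then 1 else 0
def mE7 : ℕ → ℤ := fun i => if i = 7 then 2 else if i ≤ 3 then (i : ℤ) + 1 else 7 - i
def eE7 : ℕ → ℕ → ℤ := fun i j => if (j = i + 1 ∧ j ≤ 6) ∨ (i = 3 ∧ j = 7) then 1 else 0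
def mE8 : ℕ → ℤ := fun i => if i = 8 then 3 else if i ≤ 5 then (i : ℤ) + 1 else 2 * (8 - (i : ℤ))
def eE8 : ℕ → ℕ → ℤ := fun i j => if (j = i + 1 ∧ j ≤ 7) ∨ (i = 5 ∧ j = 8) then 1 else 0

/-- The possible types on at least four indices. -/
def Classified (T : Models.NumericalType n) : Prop :=
  Fits T mCycle mCycle (eCycle n) ∨ Fits T (mUU n) (wUU n) (eUU n) ∨ Fits T mCycle (wUD n) eUD ∨
    Fits T (mDU n) (wDU n) (eDU n) ∨ Fits T (mDext n) wDextUp (eDextUp n) ∨
    Fits T (mDextDown n) wDextDown (eDextDown n) ∨ (5 ≤ n ∧ Fits T (mFork n) mCycle (eFork n)) ∨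
    (n = 5 ∧ (Fits T mF4a wF4a eF4a ∨ Fits T mF4b wF4b eF4b)) ∨ (n = 7 ∧ Fits T mE6 mCycle eE6) ∨
    (n = 8 ∧ Fits T mE7 mCycle eE7) ∨ (n = 9 ∧ Fits T mE8 mCycle eE8)

variable (hall : ∀ i, T.IsMinusTwo i)

include hall

/-- A row whose listed neighbours already exhaust it. -/
lemma tight {i : Fin n} {s : Finset (Fin n)} (his : i ∉ s) (hs : ∀ j ∈ s, 0 < T.a i j)
    (hm : 2 * T.m i ≤ ∑ j ∈ s, T.m j) :
    (∀ j ∈ s, T.a i j = T.w i) ∧ ∀ j, j ≠ i → j ∉ s → T.a i j = 0 := by
  have h1 := row_erase T i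
  rw [(hall i).2] at h1
  have hsub : s ⊆ univ.erase i := fun j hj => mem_erase.2 ⟨fun e => his (e ▸ hj), mem_univ j⟩
  rw [← sum_sdiff hsub] at h1
  have hz : ∀ j ∈ univ.erase i \ s, 0 ≤ T.a i j * T.m j := fun j hj =>
    mul_nonneg (T.offDiag_nonneg i j (mem_erase.1 (mem_sdiff.1 hj).1).1.symm) (T.m_pos j).le
  have hz' := sum_nonneg hz
  have hw : ∀ j ∈ s, 0 ≤ (T.a i j - T.w i) * T.m j := fun j hj =>
    mul_nonneg (sub_nonneg.2 (w_le T (hs j hj))) (T.m_pos j).le
  have hw' := sum_nonneg hw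
  have e : ∑ j ∈ s, (T.a i j - T.w i) * T.m j = (∑ j ∈ s, T.a i j * T.m j) - T.w i * ∑ j ∈ s, T.m j := by
    rw [mul_sum, ← sum_sub_distrib]; exact sum_congr rfl fun j _ => by ring
  have hm' := mul_le_mul_of_nonneg_left hm (T.w_pos i).le
  refine ⟨fun j hj => ?_, fun j hji hjs => ?_⟩
  · have := (sum_eq_zero_iff_of_nonneg hw).1 (by linarith) j hj
    rcases mul_eq_zero.1 this with a | a
    · linarith
    · exact absurd a (T.m_pos j).ne'
  · have := (sum_eq_zero_iff_of_nonneg hz).1 (by linarith) j (mem_sdiff.2 ⟨mem_erase.2 ⟨hji, mem_univ j⟩, hjs⟩)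
    exact (mul_eq_zero.1 this).resolve_right (T.m_pos j).ne'

/-- A row with the only possible neighbours in a given set. -/
lemma row_exact {i : Fin n} {s : Finset (Fin n)} (his : i ∉ s) (hz : ∀ j, j ≠ i → j ∉ s → T.a i j = 0) :
    ∑ j ∈ s, T.a i j * T.m j = 2 * T.w i * T.m i := by
  have h1 := row_erase T i
  rw [(hall i).2] at h1
  rw [sum_subset (s₂ := univ.erase i) (fun j hj => mem_erase.2 ⟨fun e => his (e ▸ hj), mem_univ j⟩)
    fun j hj hjs => by rw [hz j (mem_erase.1 hj).1 hjs, zero_mul], ← h1]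
  ring

/-- Multiplicities grow linearly along a simple arm. -/
lemma Chain.linear {k : ℕ} {v : ℕ → Fin n} (h : Chain T k v) {i : ℕ} (hi : i < k)
    (hs : ∀ t, t < i → mu T (v t) (v (t + 1)) = 1)
    (hnb : ∀ t, t < i → ∀ j, j ≠ v t → T.a (v t) j ≠ 0 → j = v (t + 1) ∨ (1 ≤ t ∧ j = v (t - 1))) :
    ∀ t, t ≤ i → T.m (v t) = ((t : ℤ) + 1) * T.m (v 0) := by
  intro t
  induction t using Nat.strong_induction_on with
  | _ t ih =>
    intro hti
    rcases t with _ | t
    · push_cast; ring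
    have e1 := (simple_w (h.adj t (by omega)) (hs t (by omega))).1
    have hw := (T.w_pos (v t)).ne'
    rcases t with _ | t
    · have hr := row_exact hall (i := v 0) (s := {v 1}) (by simp [h.ne (by omega : 0 < k) (by omega : 1 < k) (by omega)])
        fun j hj hjs => by
          by_contra ha
          rcases hnb 0 (by omega) j hj ha with c | ⟨c, -⟩
          · exact hjs (by simp [c])
          · omega
      rw [sum_singleton] at hr
      norm_num at e1
      rw [e1] at hr
      have : T.w (v 0) * (T.m (v 1) - 2 * T.m (v 0)) = 0 := by linarith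
      have := (mul_eq_zero.1 this).resolve_left hw
      push_cast
      linarith
    · have hr := row_exact hall (i := v (t + 1)) (s := {v t, v (t + 2)})
        (by simp [h.ne (show t + 1 < k by omega) (show t < k by omega) (by omega),
          h.ne (show t + 1 < k by omega) (show t + 2 < k by omega) (by omega)])
        fun j hj hjs => by
          by_contra ha
          rcases hnb (t + 1) (by omega) j hj ha with c | ⟨-, c⟩
          · exact hjs (by simp [c])
          · exact hjs (by simp [c])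
      rw [sum_pair (h.ne (by omega) (by omega) (by omega))] at hr
      have e0 := (simple_w (h.adj t (by omega)) (hs t (by omega))).2
      rw [a_symm T (v (t + 1)) (v t), e0, e1, ih t (by omega) (by omega), ih (t + 1) (by omega) (by omega)] at hr
      have : T.w (v (t + 1)) * (T.m (v (t + 1 + 1)) - (((t + 1 + 1 : ℕ) : ℤ) + 1) * T.m (v 0)) = 0 := by
        push_cast
        push_cast at hr
        linear_combination hr
      have := (mul_eq_zero.1 this).resolve_left hw
      linarith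

/-- A closed chain is a cycle type. -/
lemma fits_cycle {k : ℕ} (hk : 3 ≤ k) {v : ℕ → Fin n} (h : Chain T k v) (hc : 0 < T.a (v 0) (v (k - 1))) :
    Fits T mCycle mCycle (eCycle n) := by
  obtain ⟨hkn, hm⟩ := cycle_config hk h hc
  subst hkn
  have hnext : ∀ p, p < k → 0 < T.a (v p) (v (if p + 1 = k then 0 else p + 1)) := fun p hp => by
    split_ifs with c
    · rw [show p = k - 1 by omega, a_symm]; exact hc
    · exact h.adj p (by omega)
  have hprev : ∀ p, p < k → 0 < T.a (v p) (v (if p = 0 then k - 1 else p - 1)) := fun p hp => by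
    split_ifs with c
    · rw [c]; exact hc
    · exact (h.adj' hp (by omega)).2
  have ht := fun p (hp : p < k) => tight hall (i := v p)
    (s := {v (if p + 1 = k then 0 else p + 1), v (if p = 0 then k - 1 else p - 1)})
    (by simp only [mem_insert, mem_singleton, not_or]
        constructor <;> refine h.ne hp ?_ ?_ <;> split_ifs <;> omega)
    (fun j hj => by
      simp only [mem_insert, mem_singleton] at hj
      rcases hj with rfl | rfl
      exacts [hnext p hp, hprev p hp])
    (by rw [sum_pair (h.ne (show (if p + 1 = k then 0 else p + 1) < k by split_ifs <;> omega)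
            (show (if p = 0 then k - 1 else p - 1) < k by split_ifs <;> omega) (by split_ifs <;> omega)), hm p hp,
          hm (if p + 1 = k then 0 else p + 1) (by split_ifs <;> omega), hm (if p = 0 then k - 1 else p - 1) (by split_ifs <;> omega)]
        linarith)
  have hw : ∀ p, p < k → T.w (v p) = T.w (v 0) := by
    intro p hp
    induction p with
    | zero => rfl
    | succ p ih =>
      rw [← ih (by omega)]
      have a1 := (ht p (by omega)).1 (v (p + 1)) (by rw [if_neg (show p + 1 ≠ k by omega)]; simp)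
      have a2 := (ht (p + 1) hp).1 (v p) (by rw [if_neg (Nat.succ_ne_zero p)]; simp)
      rw [a_symm] at a2
      linarith
  refine ⟨v, T.m (v 0), T.w (v 0), h.inj, fun p hp => ⟨by simp [mCycle, hm p hp], by simp [mCycle, hw p hp]⟩, fun p q hpq hq => ?_⟩
  unfold eCycle
  split_ifs with c
  · rw [one_mul, ← hw p (by omega)]
    rcases c with c | ⟨c, c'⟩
    · exact (ht p (by omega)).1 _ (by rw [if_neg (show p + 1 ≠ k by omega), c]; simp)
    · exact (ht p (by omega)).1 _ (by rw [if_pos c, show k - 1 = q by omega]; simp)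
  · rw [zero_mul]
    refine (ht p (by omega)).2 _ (h.ne hq (by omega) (by omega)) ?_
    simp only [mem_insert, mem_singleton, not_or]
    push Not at c
    constructor <;> refine h.ne hq ?_ ?_ <;> split_ifs <;> omega

/-- A path with multiple edges at both ends. -/
lemma fits_dd {v : ℕ → Fin n} (h : Chain T n v) (hn : 4 ≤ n)
    (hz : ∀ p q, p + 1 < q → q < n → T.a (v p) (v q) = 0)
    (h0 : mu T (v 0) (v 1) = 2) (h1 : mu T (v (n - 2)) (v (n - 1)) = 2)
    (hs : ∀ p, 1 ≤ p → p + 2 < n → mu T (v p) (v (p + 1)) = 1) :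
    Fits T (mUU n) (wUU n) (eUU n) ∨ Fits T mCycle (wUD n) eUD ∨ Fits T (mDU n) (wDU n) (eDU n) := by
  obtain ⟨-, hm, hm0, hm1⟩ := dd_config (by omega) h h0.ge (by rw [mu_symm]; exact h1.ge)
  have hwc := h.w_const (e := 1) (l := n - 2) (by omega) fun p hp hp' => hs p hp (by omega)
  have hae : ∀ p, 1 ≤ p → p + 2 < n → T.a (v p) (v (p + 1)) = T.w (v 1) := fun p hp hp' => by
    rw [(simple_edge (h.adj p (by omega)) (hs p hp hp')).1, hwc p hp (by omega)]
  have hp0 := h.adj 0 (by omega)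
  have hp1 := (h.adj' (i := n - 2) (j := n - 1) (by omega) (by omega)).1
  have hw2 : T.w (v (n - 2)) = T.w (v 1) := hwc _ (by omega) le_rfl
  rw [zero_add] at hp0
  rw [a_symm T (v (n - 1)) (v (n - 2))] at hm1
  have hwp := T.w_pos (v 1)
  have w0p := T.w_pos (v 0)
  have w1p := T.w_pos (v (n - 1))
  rcases (mu_cases T hp0).2.1 h0 with ⟨a0, b0⟩ | ⟨a0, b0⟩ <;>
    rcases (mu_cases T hp1).2.1 h1 with ⟨a1, b1⟩ | ⟨a1, b1⟩ <;> rw [hw2] at b1 <;>
    rw [a0] at hm0 <;> rw [a1] at hm1 <;> (try rw [hw2] at hm1) <;> (try rw [hw2] at a1)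
  · -- small first, big last
    have m0 : T.m (v 0) = T.m (v 1) := mul_left_cancel₀ (show 2 * T.w (v 0) ≠ 0 by omega) (by rw [hm0, b0])
    have m1 : T.m (v 1) = 2 * T.m (v (n - 1)) :=
      mul_left_cancel₀ w1p.ne' (by linarith)
    refine Or.inl ⟨v, T.m (v (n - 1)), T.w (v 0), h.inj, fun p hp => ?_, fun p q hpq hq => ?_⟩
    · rcases (show p = 0 ∨ p = n - 1 ∨ (1 ≤ p ∧ p + 1 < n) by omega) with c | c | ⟨c, d⟩
      · subst c; simp [mUU, wUU, show 1 < n by omega, m0, m1]
      · subst c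
        rw [mUU, wUU, if_neg (show ¬(n - 1 + 1 < n) by omega), if_neg (show n - 1 ≠ 0 by omega),
          if_neg (show ¬(n - 1 + 1 < n) by omega)]
        constructor <;> linarith
      · rw [mUU, wUU, if_pos d, if_neg (show p ≠ 0 by omega), if_pos d, hm p c d, hwc p c (by omega)]
        constructor <;> linarith
    · unfold eUU
      rcases (show q ≠ p + 1 ∨ (q = p + 1 ∧ p = 0) ∨ (q = p + 1 ∧ p = n - 2) ∨ (q = p + 1 ∧ 1 ≤ p ∧ p + 2 < n) by omega)
        with c | ⟨c, d⟩ | ⟨c, d⟩ | ⟨c, d, e⟩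
      · rw [if_neg c, zero_mul]; exact hz p q (by omega) hq
      · subst d; subst c; rw [if_pos rfl, if_pos (by omega)]; linarith
      · subst d; rw [if_pos c, if_neg (by omega), show q = n - 1 by omega]; linarith
      · subst c; rw [if_pos rfl, if_pos (by omega), hae p d e]; linarith
  · -- small at both ends
    have m0 : T.m (v 0) = T.m (v 1) := mul_left_cancel₀ (show 2 * T.w (v 0) ≠ 0 by omega) (by rw [hm0, b0])
    have m1 : T.m (v (n - 1)) = T.m (v 1) := mul_left_cancel₀ (show 2 * T.w (v (n - 1)) ≠ 0 by omega) (by linear_combination hm1 + (T.m (v 1)) * b1)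
    refine Or.inr (Or.inl ⟨v, T.m (v 1), T.w (v 0), h.inj, fun p hp => ?_, fun p q hpq hq => ?_⟩)
    · rcases (show p = 0 ∨ p = n - 1 ∨ (1 ≤ p ∧ p + 1 < n) by omega) with c | c | ⟨c, d⟩
      · subst c; simp [mCycle, wUD, m0]
      · subst c
        rw [mCycle, wUD, if_pos (Or.inr (show n - 1 + 1 = n by omega))]
        constructor <;> linarith
      · rw [mCycle, wUD, if_neg (show ¬(p = 0 ∨ p + 1 = n) by omega), hm p c d, hwc p c (by omega)]
        constructor <;> linarith
    · unfold eUD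
      rcases (show q ≠ p + 1 ∨ (q = p + 1 ∧ p = 0) ∨ (q = p + 1 ∧ p = n - 2) ∨ (q = p + 1 ∧ 1 ≤ p ∧ p + 2 < n) by omega)
        with c | ⟨c, d⟩ | ⟨c, d⟩ | ⟨c, d, e⟩
      · rw [if_neg c, zero_mul]; exact hz p q (by omega) hq
      · subst d; subst c; rw [if_pos rfl]; linarith
      · subst d; rw [if_pos c, show q = n - 1 by omega]; linarith
      · subst c; rw [if_pos rfl, hae p d e]; linarith
  · -- big at both ends
    have m0 : T.m (v 1) = 2 * T.m (v 0) := mul_left_cancel₀ w0p.ne' (by linarith)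
    have m1 : T.m (v 1) = 2 * T.m (v (n - 1)) := mul_left_cancel₀ w1p.ne' (by linarith)
    refine Or.inr (Or.inr ⟨v, T.m (v 0), T.w (v 1), h.inj, fun p hp => ?_, fun p q hpq hq => ?_⟩)
    · rcases (show p = 0 ∨ p = n - 1 ∨ (1 ≤ p ∧ p + 1 < n) by omega) with c | c | ⟨c, d⟩
      · subst c; simp [mDU, wDU, b0]
      · subst c
        rw [mDU, wDU, if_pos (Or.inr (show n - 1 + 1 = n by omega)), if_pos (Or.inr (show n - 1 + 1 = n by omega))]
        constructor <;> linarith
      · rw [mDU, wDU, if_neg (show ¬(p = 0 ∨ p + 1 = n) by omega), if_neg (show ¬(p = 0 ∨ p + 1 = n) by omega),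
          hm p c d, hwc p c (by omega)]
        constructor <;> linarith
    · unfold eDU
      rcases (show q ≠ p + 1 ∨ (q = p + 1 ∧ p = 0) ∨ (q = p + 1 ∧ p = n - 2) ∨ (q = p + 1 ∧ 1 ≤ p ∧ p + 2 < n) by omega)
        with c | ⟨c, d⟩ | ⟨c, d⟩ | ⟨c, d, e⟩
      · rw [if_neg c, zero_mul]; exact hz p q (by omega) hq
      · subst d; subst c; rw [if_pos rfl, if_pos (Or.inl rfl)]; linarith
      · subst d; rw [if_pos c, if_pos (by omega), show q = n - 1 by omega]; linarith
      · subst c; rw [if_pos rfl, if_neg (by omega), hae p d e]; linarith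
  · -- big first, small last: reversed
    have m0 : T.m (v 1) = 2 * T.m (v 0) := mul_left_cancel₀ w0p.ne' (by linarith)
    have m1 : T.m (v (n - 1)) = T.m (v 1) := mul_left_cancel₀ (show 2 * T.w (v (n - 1)) ≠ 0 by omega) (by linear_combination hm1 + (T.m (v 1)) * b1)
    refine Or.inl ⟨fun t => v (n - 1 - t), T.m (v 0), T.w (v (n - 1)), h.rev.inj, fun p hp => ?_, fun p q hpq hq => ?_⟩ <;>
      beta_reduce
    · rcases (show p = 0 ∨ p = n - 1 ∨ (1 ≤ p ∧ p + 1 < n) by omega) with c | c | ⟨c, d⟩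
      · subst c; simp [mUU, wUU, show 1 < n by omega, m0, m1]
      · subst c
        rw [mUU, wUU, if_neg (show ¬(n - 1 + 1 < n) by omega), if_neg (show n - 1 ≠ 0 by omega),
          if_neg (show ¬(n - 1 + 1 < n) by omega), show n - 1 - (n - 1) = 0 by omega]
        constructor <;> linarith
      · rw [mUU, wUU, if_pos d, if_neg (show p ≠ 0 by omega), if_pos d, hm _ (by omega) (by omega), hwc _ (by omega) (by omega)]
        constructor <;> linarith
    · unfold eUU
      rw [a_symm]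
      rcases (show q ≠ p + 1 ∨ (q = p + 1 ∧ p = 0) ∨ (q = p + 1 ∧ p = n - 2) ∨ (q = p + 1 ∧ 1 ≤ p ∧ p + 2 < n) by omega)
        with c | ⟨c, d⟩ | ⟨c, d⟩ | ⟨c, d, e⟩
      · rw [if_neg c, zero_mul]; exact hz _ _ (by omega) (by omega)
      · subst d; subst c; rw [if_pos rfl, if_pos (by omega), show n - 1 - (0 + 1) = n - 2 by omega, Nat.sub_zero]; linarith
      · subst d; rw [if_pos c, if_neg (by omega), show n - 1 - q = 0 by omega, show n - 1 - (n - 2) = 1 by omega]; linarith
      · subst c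
        rw [if_pos rfl, if_pos (by omega), show n - 1 - p = (n - 1 - (p + 1)) + 1 by omega, hae _ (by omega) (by omega)]
        linarith

omit hall in
lemma chain_le {k : ℕ} {v : ℕ → Fin n} (h : Chain T k v) : k ≤ n := by
  simpa using Fintype.card_le_of_injective (fun p : Fin k => v p) fun a b e => Fin.ext (h.inj _ _ a.2 b.2 e)

/-- In a chain which is everything, the neighbours are the chain neighbours. -/
lemma path_nb {v : ℕ → Fin n} (h : Chain T n v) (hz : ∀ p q, p + 1 < q → q < n → T.a (v p) (v q) = 0)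
    {t : ℕ} (ht : t < n) (j : Fin n) (hj : j ≠ v t) (ha : T.a (v t) j ≠ 0) :
    (t + 1 < n ∧ j = v (t + 1)) ∨ (1 ≤ t ∧ j = v (t - 1)) := by
  obtain ⟨⟨s, hs⟩, rfl⟩ := (Finite.injective_iff_surjective.1
    (fun a b e => Fin.ext (h.inj _ _ a.2 b.2 e) : Function.Injective fun p : Fin n => v p)) j
  have hst : s ≠ t := fun e => hj (by simp [e])
  rcases (show t + 1 < s ∨ s = t + 1 ∨ s + 1 = t ∨ s + 1 < t by omega) with c | c | c | c
  · exact absurd (hz t s c hs) ha
  · exact Or.inl ⟨by omega, by simp [c]⟩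
  · exact Or.inr ⟨by omega, by simp [show t - 1 = s by omega]⟩
  · exact absurd (by rw [a_symm]; exact hz s t c ht) ha

/-- A path with one multiple edge. -/
lemma fits_single {v : ℕ → Fin n} (h : Chain T n v) (hn : 4 ≤ n)
    (hz : ∀ p q, p + 1 < q → q < n → T.a (v p) (v q) = 0) {p : ℕ} (hp : p + 1 < n)
    (h2 : mu T (v p) (v (p + 1)) = 2) (hs : ∀ i, i + 1 < n → i ≠ p → mu T (v i) (v (i + 1)) = 1) :
    n = 5 ∧ (Fits T mF4a wF4a eF4a ∨ Fits T mF4b wF4b eF4b) := by
  have hz' : ∀ a b, a + 1 < b → b < n → T.a (v (n - 1 - a)) (v (n - 1 - b)) = 0 := fun a b hab hb => by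
    rw [a_symm]; exact hz _ _ (by omega) (by omega)
  have L := h.linear hall (i := p) (by omega) (fun t ht => hs t (by omega) (by omega)) fun t ht j hj ha => by
    rcases path_nb hall h hz (by omega) j hj ha with ⟨-, c⟩ | c
    exacts [Or.inl c, Or.inr c]
  have R := h.rev.linear hall (i := n - 2 - p) (by omega) (fun t ht => by
      rw [mu_symm, show n - 1 - t = n - 1 - (t + 1) + 1 by omega]
      exact hs _ (by omega) (by omega)) fun t ht j hj ha => by
    rcases path_nb hall h.rev hz' (by omega) j hj ha with ⟨-, c⟩ | c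
    exacts [Or.inl c, Or.inr c]
  set α := T.m (v 0)
  have hβ : T.m (v (n - 1 - 0)) = T.m (v (n - 1)) := rfl
  set β := T.m (v (n - 1))
  have mA := L p le_rfl
  have mB : T.m (v (p + 1)) = (((n - 2 - p : ℕ) : ℤ) + 1) * β := by
    have := R (n - 2 - p) le_rfl
    simp only [Nat.sub_zero] at this
    rwa [show n - 1 - (n - 2 - p) = p + 1 by omega] at this
  have hα := T.m_pos (v 0); have hβ := T.m_pos (v (n - 1))
  -- the row of the left end of the multiple edge
  have rA : T.w (v p) * (((p : ℤ) + 2) * α) = T.a (v p) (v (p + 1)) * T.m (v (p + 1)) := by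
    rcases (show p = 0 ∨ 1 ≤ p by omega) with c | c
    · subst c
      have hr := row_exact hall (i := v 0) (s := {v 1}) (by simp [h.ne (by omega : 0 < n) (by omega : 1 < n) (by omega)])
        fun j hj hjs => by
          by_contra ha
          rcases path_nb hall h hz (by omega) j hj ha with ⟨-, c⟩ | ⟨c, -⟩
          · exact hjs (by simp [c])
          · omega
      rw [sum_singleton] at hr
      push_cast; linarith
    · have hr := row_exact hall (i := v p) (s := {v (p - 1), v (p + 1)})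
        (by simp [h.ne (show p < n by omega) (show p - 1 < n by omega) (by omega),
          h.ne (show p < n by omega) (show p + 1 < n by omega) (by omega)])
        fun j hj hjs => by
          by_contra ha
          rcases path_nb hall h hz (by omega) j hj ha with ⟨-, c⟩ | ⟨-, c⟩
          · exact hjs (by simp [c])
          · exact hjs (by simp [c])
      rw [sum_pair (h.ne (by omega) (by omega) (by omega))] at hr
      have e0 := (simple_w (h.adj' (i := p - 1) (j := p) (by omega) (by omega)).1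
        (by have := hs (p - 1) (by omega) (by omega); rwa [show p - 1 + 1 = p by omega] at this)).2
      rw [a_symm T (v p) (v (p - 1)), e0, L (p - 1) (by omega), mA, Nat.cast_sub c] at hr
      push_cast at hr
      linear_combination -hr
  -- the row of the right end
  have rB : T.w (v (p + 1)) * ((((n - 2 - p : ℕ) : ℤ) + 2) * β) = T.a (v p) (v (p + 1)) * T.m (v p) := by
    rcases (show p + 2 = n ∨ p + 2 < n by omega) with c | c
    · have hr := row_exact hall (i := v (p + 1)) (s := {v p}) (by simp [h.ne (show p + 1 < n by omega) (show p < n by omega) (by omega)])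
        fun j hj hjs => by
          by_contra ha
          rcases path_nb hall h hz (by omega) j hj ha with ⟨c', -⟩ | ⟨-, c'⟩
          · omega
          · exact hjs (by simp [c'])
      rw [sum_singleton, a_symm T (v (p + 1)) (v p), mB] at hr
      rw [show n - 2 - p = 0 by omega] at hr ⊢
      push_cast at hr ⊢
      linarith
    · have hr := row_exact hall (i := v (p + 1)) (s := {v p, v (p + 2)})
        (by simp [h.ne (show p + 1 < n by omega) (show p < n by omega) (by omega),
          h.ne (show p + 1 < n by omega) (show p + 2 < n by omega) (by omega)])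
        fun j hj hjs => by
          by_contra ha
          rcases path_nb hall h hz (by omega) j hj ha with ⟨-, c'⟩ | ⟨-, c'⟩
          · exact hjs (by simp [c'])
          · exact hjs (by simp [c'])
      rw [sum_pair (h.ne (by omega) (by omega) (by omega))] at hr
      have e1 := (simple_w (h.adj (p + 1) (by omega)) (hs (p + 1) (by omega) (by omega))).1
      have m2 : T.m (v (p + 2)) = ((n - 2 - p : ℕ) : ℤ) * β := by
        have := R (n - 2 - p - 1) (by omega)
        simp only [Nat.sub_zero] at this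
        rw [show n - 1 - (n - 2 - p - 1) = p + 2 by omega, Nat.cast_sub (show 1 ≤ n - 2 - p by omega)] at this
        rw [this]; push_cast; ring
      rw [a_symm T (v (p + 1)) (v p), show p + 1 + 1 = p + 2 from rfl] at *
      rw [e1, m2, mB] at hr
      linear_combination -hr
  obtain ⟨q, hq⟩ : ∃ q, q = n - 2 - p := ⟨_, rfl⟩
  rw [← hq] at rB mB R
  have hmu : (T.a (v p) (v (p + 1))) * (T.a (v p) (v (p + 1))) = 2 * (T.w (v p) * T.w (v (p + 1))) := by
    rw [← mu_mul T, h2]
  have key : ((p : ℤ) + 2) * ((q : ℤ) + 2) = 2 * (((p : ℤ) + 1) * ((q : ℤ) + 1)) := by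
    have hw : T.w (v p) * T.w (v (p + 1)) * (α * β) ≠ 0 :=
      mul_ne_zero (mul_ne_zero (T.w_pos _).ne' (T.w_pos _).ne') (mul_ne_zero hα.ne' hβ.ne')
    refine mul_left_cancel₀ hw ?_
    calc T.w (v p) * T.w (v (p + 1)) * (α * β) * (((p : ℤ) + 2) * ((q : ℤ) + 2))
        = (T.w (v p) * (((p : ℤ) + 2) * α)) * (T.w (v (p + 1)) * (((q : ℤ) + 2) * β)) := by ring
      _ = T.a (v p) (v (p + 1)) * T.m (v (p + 1)) * (T.a (v p) (v (p + 1)) * T.m (v p)) := by rw [rA, rB]
      _ = T.a (v p) (v (p + 1)) * T.a (v p) (v (p + 1)) * (T.m (v p) * T.m (v (p + 1))) := by ring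
      _ = _ := by rw [hmu, mA, mB]; ring
  have hpq : p * q = 2 := by zify; linarith
  have hcases : (p = 1 ∧ q = 2) ∨ (p = 2 ∧ q = 1) := by
    have h1 : p ≤ 2 := Nat.le_of_dvd (by omega) ⟨q, hpq.symm⟩
    interval_cases p <;> omega
  have hn5 : n = 5 := by omega
  subst hn5
  refine ⟨rfl, ?_⟩
  -- orient so that the multiple edge is the third one
  obtain ⟨u, hu, hzu, hu2, hus⟩ : ∃ u : ℕ → Fin 5, Chain T 5 u ∧ (∀ a b, a + 1 < b → b < 5 → T.a (u a) (u b) = 0) ∧
      mu T (u 2) (u 3) = 2 ∧ ∀ i, i + 1 < 5 → i ≠ 2 → mu T (u i) (u (i + 1)) = 1 := by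
    rcases hcases with ⟨rfl, -⟩ | ⟨rfl, -⟩
    · refine ⟨_, h.rev, hz', ?_, fun i hi hi2 => ?_⟩
      · rw [mu_symm]; exact h2
      · rw [mu_symm, show 5 - 1 - i = 5 - 1 - (i + 1) + 1 by omega]
        exact hs _ (by omega) (by omega)
    · exact ⟨v, h, hz, h2, hs⟩
  have L := hu.linear hall (i := 2) (by omega) (fun t ht => hus t (by omega) (by omega)) fun t ht j hj ha => by
    rcases path_nb hall hu hzu (by omega) j hj ha with ⟨-, c⟩ | c
    exacts [Or.inl c, Or.inr c]
  have m1 : T.m (u 1) = 2 * T.m (u 0) := by simpa using L 1 (by omega)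
  have m2 : T.m (u 2) = 3 * T.m (u 0) := by simpa using L 2 le_rfl
  have e0 := simple_w (hu.adj 0 (by omega)) (hus 0 (by omega) (by omega))
  have e1 := simple_w (hu.adj 1 (by omega)) (hus 1 (by omega) (by omega))
  have e3 := simple_w (hu.adj 3 (by omega)) (hus 3 (by omega) (by omega))
  norm_num at e0 e1 e3
  have hr2 := row_exact hall (i := u 2) (s := {u 1, u 3})
    (by simp [hu.ne (show 2 < 5 by omega) (show 1 < 5 by omega) (by omega), hu.ne (show 2 < 5 by omega) (show 3 < 5 by omega) (by omega)])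
    fun j hj hjs => by
      by_contra ha
      rcases path_nb hall hu hzu (by omega) j hj ha with ⟨-, c⟩ | ⟨-, c⟩ <;> exact hjs (by simp [c])
  have hr4 := row_exact hall (i := u 4) (s := {u 3}) (by simp [hu.ne (show 4 < 5 by omega) (show 3 < 5 by omega) (by omega)])
    fun j hj hjs => by
      by_contra ha
      rcases path_nb hall hu hzu (by omega) j hj ha with ⟨c, -⟩ | ⟨-, c⟩
      · omega
      · exact hjs (by simp [c])
  rw [sum_pair (hu.ne (by omega) (by omega) (by omega)), a_symm T (u 2) (u 1), e1.2, m1, m2] at hr2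
  rw [sum_singleton, a_symm T (u 4) (u 3), e3.2] at hr4
  have m4 : T.m (u 3) = 2 * T.m (u 4) := mul_left_cancel₀ (T.w_pos (u 4)).ne' (by linarith)
  have hw2 := (T.w_pos (u 2)).ne'
  rcases (mu_cases T (hu.adj 2 (by omega))).2.1 hu2 with ⟨a, b⟩ | ⟨a, b⟩ <;> norm_num at a b <;> rw [a] at hr2
  · have m3 : T.m (u 3) = 2 * T.m (u 0) := mul_left_cancel₀ hw2 (by rw [b] at hr2; linarith)
    refine Or.inl ⟨u, T.m (u 0), T.w (u 0), hu.inj, fun i hi => ?_, fun i j hij hj => ?_⟩
    · interval_cases i <;> simp [mF4a, wF4a, m1, m2, m3] <;> omega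
    · interval_cases j <;> interval_cases i <;> simp [eF4a] <;> first | omega | exact hzu _ _ (by omega) (by omega)
  · have m3 : T.m (u 3) = 4 * T.m (u 0) := mul_left_cancel₀ hw2 (by linarith)
    refine Or.inr ⟨u, T.m (u 0), T.w (u 4), hu.inj, fun i hi => ?_, fun i j hij hj => ?_⟩
    · interval_cases i <;> simp [mF4b, wF4b, m1, m2, m3] <;> omega
    · interval_cases j <;> interval_cases i <;> simp [eF4b] <;> first | omega | exact hzu _ _ (by omega) (by omega)

end NumTypeLib
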