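/-
Numerical types all of whose indices are `(-2)`-indices: forks and the case analysis.
-/
import Groth.Agent.Lib.NumTypeClass

set_option autoImplicit false
set_option linter.unusedSectionVars false

open Finset

namespace NumTypeLib

variable {n : ℕ} {T : Models.NumericalType n} (hall : ∀ i, T.IsMinusTwo i)

include hall

/-- In a chain with one further index, which is everything. -/
lemma ext_surj {k : ℕ} {v : ℕ → Fin n} (h : Chain T k v) {x : Fin n} (hx : ∀ i, i < k → x ≠ v i) (hk : k + 1 = n)
    (j : Fin n) : (∃ s, s < k ∧ j = v s) ∨ j = x := by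
  obtain ⟨⟨s, hs⟩, e⟩ := (Finite.injective_iff_surjective.1
    (fun a b e => Fin.ext (ext_inj1 h hx _ _ (by omega) (by omega) e) : Function.Injective fun p : Fin n => ext k v x x p)) j
  rcases (show s < k ∨ s = k by omega) with a | a
  · exact Or.inl ⟨s, a, by rw [← e]; exact ext_lt a⟩
  · exact Or.inr (by subst a; rw [← e]; exact ext_k)

/-- The data of a tree made of a chain and one further index. -/
structure Tee (T : Models.NumericalType n) (k : ℕ) (v : ℕ → Fin n) (x : Fin n) (i : ℕ) : Prop where
  chain : Chain T k v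
  out : ∀ p, p < k → x ≠ v p
  len : k + 1 = n
  low : 1 ≤ i
  high : i + 1 < k
  adj : 0 < T.a x (v i)
  only : ∀ p, p < k → p ≠ i → T.a x (v p) = 0
  flat : ∀ p q, p + 1 < q → q < k → T.a (v p) (v q) = 0

omit hall in
lemma Tee.rev {k : ℕ} {v : ℕ → Fin n} {x : Fin n} {i : ℕ} (h : Tee T k v x i) :
    Tee T k (fun t => v (k - 1 - t)) x (k - 1 - i) where
  chain := h.chain.rev
  out p hp := h.out _ (by omega)
  len := h.len
  low := by have := h.high; omega
  high := by have := h.low; have := h.high; omega
  adj := by have := h.high; beta_reduce; rw [show k - 1 - (k - 1 - i) = i by omega]; exact h.adj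
  only p hp hpi := h.only _ (by omega) (by omega)
  flat p q hpq hq := by rw [a_symm]; exact h.flat _ _ (by omega) (by omega)

lemma Tee.nb {k : ℕ} {v : ℕ → Fin n} {x : Fin n} {i : ℕ} (h : Tee T k v x i) {t : ℕ} (ht : t < k) (j : Fin n)
    (hj : j ≠ v t) (ha : T.a (v t) j ≠ 0) :
    (t + 1 < k ∧ j = v (t + 1)) ∨ (1 ≤ t ∧ j = v (t - 1)) ∨ (t = i ∧ j = x) := by
  rcases ext_surj hall h.chain h.out h.len j with ⟨s, hs, rfl⟩ | rfl
  · have hst : s ≠ t := fun e => hj (by rw [e])
    rcases (show t + 1 < s ∨ s = t + 1 ∨ s + 1 = t ∨ s + 1 < t by omega) with c | c | c | c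
    · exact absurd (h.flat t s c hs) ha
    · exact Or.inl ⟨by omega, by rw [c]⟩
    · exact Or.inr (Or.inl ⟨by omega, by rw [show t - 1 = s by omega]⟩)
    · exact absurd (by rw [a_symm]; exact h.flat s t c ht) ha
  · by_cases hti : t = i
    · exact Or.inr (Or.inr ⟨hti, rfl⟩)
    · exact absurd (by rw [a_symm]; exact h.only t ht hti) ha

/-- A fork with a double edge at the far end. -/
lemma fits_dext {k : ℕ} {v : ℕ → Fin n} {x : Fin n} (h : Tee T k v x (k - 2))
    (h0 : mu T (v 0) (v 1) = 2) :
    Fits T (mDext n) wDextUp (eDextUp n) ∨ Fits T (mDextDown n) wDextDown (eDextDown n) := by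
  have hk : 3 ≤ k := by have := h.low; have := h.high; omega
  have hn : 3 < n := by have := h.len; omega
  have hlen := h.len
  obtain ⟨-, hm, hml, hmx, hm0⟩ := df_config hk h.chain (hall x) h.out h.adj h0.ge
  -- all other edges are simple
  have ea : ∀ p, 1 ≤ p → p + 1 < k → (∀ j, j ∈ ({v (p - 1), v (p + 1)} : Finset (Fin n)) → 0 < T.a (v p) j) := by
    intro p hp hp' j hj
    simp only [mem_insert, mem_singleton] at hj
    rcases hj with rfl | rfl
    · exact (h.chain.adj' (by omega) (show p = p - 1 + 1 by omega)).2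
    · exact h.chain.adj p hp'
  have hxc : 0 < T.a (v (k - 2)) x := by rw [a_symm]; exact h.adj
  have hxnb : ∀ j, j ≠ x → j ∉ ({v (k - 2)} : Finset (Fin n)) → T.a x j = 0 := fun j hj hjs => by
    rcases ext_surj hall h.chain h.out h.len j with ⟨s, hs, rfl⟩ | rfl
    · exact h.only s hs fun e => hjs (by simp [e])
    · exact absurd rfl hj
  have hrx := row_exact hall (i := x) (s := {v (k - 2)}) (by simp [h.out (k - 2) (by omega)]) hxnb
  rw [sum_singleton] at hrx
  have hrl := row_exact hall (i := v (k - 1)) (s := {v (k - 2)})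
    (by simp [h.chain.ne (show k - 1 < k by omega) (show k - 2 < k by omega) (by omega)]) fun j hj hjs => by
      by_contra ha
      rcases h.nb hall (by omega) j hj ha with ⟨c, -⟩ | ⟨-, c⟩ | ⟨c, -⟩
      · omega
      · exact hjs (by simp [c, show k - 1 - 1 = k - 2 by omega])
      · omega
  rw [sum_singleton] at hrl
  have hM : T.m (v (k - 2)) = T.m (v 1) := hm _ (by omega) (by omega)
  have hwp := T.w_pos (v 1)
  have ex : T.a x (v (k - 2)) = T.w x := by
    refine mul_right_cancel₀ (T.m_pos (v 1)).ne' ?_
    rw [hM] at hrx; rw [hrx, ← hmx]; ring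
  have el : T.a (v (k - 1)) (v (k - 2)) = T.w (v (k - 1)) := by
    refine mul_right_cancel₀ (T.m_pos (v 1)).ne' ?_
    rw [hM] at hrl; rw [hrl, ← hml]; ring
  have hs : ∀ p, 1 ≤ p → p + 1 < k → mu T (v p) (v (p + 1)) = 1 := fun p hp hp' => by
    refine (chain_mu hn hk h.chain hp').resolve_right fun c => ?_
    have := two_doubles h.chain (p := 0) (q := p) (by omega) hp' (by simpa using h0.ge) c.ge
    omega
  have hwc := h.chain.w_const (e := 1) (l := k - 1) (by omega) fun p hp hp' => hs p hp (by omega)
  have hae : ∀ p, 1 ≤ p → p + 1 < k → T.a (v p) (v (p + 1)) = T.w (v 1) := fun p hp hp' => by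
    rw [(simple_edge (h.chain.adj p hp') (hs p hp hp')).1, hwc p hp (by omega)]
  have hwx : T.w x = T.w (v 1) := by
    have hprev : T.a (v (k - 2)) (v (k - 3)) * T.m (v (k - 3)) = T.w (v 1) * T.m (v 1) := by
      rcases (show k = 3 ∨ 4 ≤ k by omega) with c | c
      · subst c
        have h4 := mu_mul T (v 0) (v 1)
        rw [h0] at h4
        refine mul_left_cancel₀ (show 2 * T.w (v 0) ≠ 0 from mul_ne_zero two_ne_zero (T.w_pos _).ne') ?_
        rw [show (3 : ℕ) - 2 = 1 from rfl, show (3 : ℕ) - 3 = 0 from rfl, a_symm T (v 1) (v 0)]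
        linear_combination (T.a (v 0) (v 1)) * hm0 - (T.m (v 1)) * h4
      · have e := hae (k - 3) (by omega) (by omega)
        rw [show k - 3 + 1 = k - 2 by omega] at e
        rw [a_symm, e, hm (k - 3) (by omega) (by omega)]
    have n1 := h.chain.ne (show k - 2 < k by omega) (show k - 3 < k by omega) (by omega)
    have n2 := h.chain.ne (show k - 2 < k by omega) (show k - 1 < k by omega) (by omega)
    have n3 := h.chain.ne (show k - 3 < k by omega) (show k - 1 < k by omega) (by omega)
    have r := row_exact hall (i := v (k - 2)) (s := {v (k - 3), v (k - 1), x})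
      (by simp [n1, n2, (h.out (k - 2) (by omega)).symm]) fun j hj hjs => by
        by_contra ha
        rcases h.nb hall (show k - 2 < k by omega) j hj ha with ⟨-, c⟩ | ⟨-, c⟩ | ⟨-, c⟩
        · exact hjs (by simp [c, show k - 2 + 1 = k - 1 by omega])
        · exact hjs (by simp [c, show k - 2 - 1 = k - 3 by omega])
        · exact hjs (by simp [c])
    have e := hae (k - 2) (by omega) (by omega)
    rw [show k - 2 + 1 = k - 1 by omega] at e
    rw [sum_insert (by simp [n3, (h.out (k - 3) (by omega)).symm]), sum_pair (h.out (k - 1) (by omega)).symm,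
      a_symm T (v (k - 2)) x, ex, e, hprev, hwc (k - 2) (by omega) (by omega), hM] at r
    refine mul_right_cancel₀ (T.m_pos (v 1)).ne' ?_
    linear_combination 2 * r - T.w x * hmx - T.w (v 1) * hml
  have hax : T.a (v (k - 2)) x = T.w (v 1) := by rw [a_symm, ex, hwx]
  rcases (mu_cases T (h.chain.adj 0 (by omega))).2.1 (by simpa using h0) with ⟨a0, b0⟩ | ⟨a0, b0⟩ <;>
    simp only [zero_add] at a0 b0 <;> rw [a0] at hm0
  · -- the end is lighter
    have m0 : T.m (v 0) = T.m (v 1) :=
      mul_left_cancel₀ (show 2 * T.w (v 0) ≠ 0 by have := T.w_pos (v 0); omega) (by rw [hm0, b0])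
    refine Or.inr ⟨ext k v x x, T.m x, T.w (v 0), fun a b ha hb => ext_inj1 h.chain h.out a b (by omega) (by omega),
      fun p hp => ?_, fun p q hpq hq => ?_⟩
    · unfold mDextDown wDextDown
      rcases (show p = 0 ∨ p = k ∨ p = k - 1 ∨ (1 ≤ p ∧ p + 1 < k) by omega) with c | c | c | ⟨c, d⟩
      · subst c; rw [ext_lt (by omega), if_neg (by omega), if_pos rfl]; constructor <;> linarith
      · subst c; rw [ext_k, if_pos (by omega), if_neg (by omega)]; constructor <;> linarith
      · subst c; rw [ext_lt (by omega), if_pos (by omega), if_neg (by omega), hwc _ (by omega) le_rfl]; constructor <;> linarith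
      · rw [ext_lt (by omega), if_neg (by omega), if_neg (by omega), hm p c d, hwc p c (by omega)]; constructor <;> linarith
    · unfold eDextDown
      rcases (show (q = k ∧ p = k - 2) ∨ (q = k ∧ p ≠ k - 2) ∨ (q < k ∧ p + 1 < q) ∨ (q < k ∧ q = p + 1 ∧ p = 0) ∨
        (q < k ∧ q = p + 1 ∧ 1 ≤ p) by omega) with ⟨c, d⟩ | ⟨c, d⟩ | ⟨c, d⟩ | ⟨c, d, e⟩ | ⟨c, d, e⟩
      · subst c; subst d; rw [ext_lt (by omega), ext_k, if_pos (by omega), hax, b0]
      · subst c; rw [ext_lt (by omega), ext_k, if_neg (by omega), zero_mul, a_symm]; exact h.only p (by omega) d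
      · rw [ext_lt (by omega), ext_lt c, if_neg (by omega), zero_mul]; exact h.flat p q d c
      · subst e; subst d; rw [ext_lt (by omega), ext_lt (by omega), if_pos (by omega), a0, b0]
      · subst d; rw [ext_lt (by omega), ext_lt c, if_pos (by omega), hae p e c, b0]
  · -- the end is heavier
    have m0 : T.m (v 1) = 2 * T.m (v 0) := mul_left_cancel₀ (T.w_pos (v 0)).ne' (by linarith)
    refine Or.inl ⟨ext k v x x, T.m x, T.w (v 1), fun a b ha hb => ext_inj1 h.chain h.out a b (by omega) (by omega),
      fun p hp => ?_, fun p q hpq hq => ?_⟩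
    · unfold mDext wDextUp
      rcases (show p = 0 ∨ p = k ∨ p = k - 1 ∨ (1 ≤ p ∧ p + 1 < k) by omega) with c | c | c | ⟨c, d⟩
      · subst c; rw [ext_lt (by omega), if_pos (Or.inl rfl), if_pos rfl]; constructor <;> linarith
      · subst c; rw [ext_k, if_pos (by omega), if_neg (by omega)]; constructor <;> linarith
      · subst c; rw [ext_lt (by omega), if_pos (by omega), if_neg (by omega), hwc _ (by omega) le_rfl]; constructor <;> linarith
      · rw [ext_lt (by omega), if_neg (by omega), if_neg (by omega), hm p c d, hwc p c (by omega)]; constructor <;> linarith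
    · unfold eDextUp
      rcases (show (q = k ∧ p = k - 2) ∨ (q = k ∧ p ≠ k - 2) ∨ (q < k ∧ p + 1 < q) ∨ (q < k ∧ q = p + 1 ∧ p = 0) ∨
        (q < k ∧ q = p + 1 ∧ 1 ≤ p) by omega) with ⟨c, d⟩ | ⟨c, d⟩ | ⟨c, d⟩ | ⟨c, d, e⟩ | ⟨c, d, e⟩
      · subst c; subst d; rw [ext_lt (by omega), ext_k, if_neg (by omega), if_pos (by omega), hax, one_mul]
      · subst c; rw [ext_lt (by omega), ext_k, if_neg (by omega), if_neg (by omega), zero_mul, a_symm]
        exact h.only p (by omega) d
      · rw [ext_lt (by omega), ext_lt c, if_neg (by omega), if_neg (by omega), zero_mul]; exact h.flat p q d c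
      · subst e; subst d; rw [ext_lt (by omega), ext_lt (by omega), if_pos ⟨rfl, rfl⟩, a0, b0]
      · subst d; rw [ext_lt (by omega), ext_lt c, if_neg (by omega), if_pos (by omega), hae p e c, one_mul]

/-- The weights along a fork with simple edges. -/
lemma fits_exceptional {k : ℕ} {v : ℕ → Fin n} {x : Fin n} {i : ℕ} (h : Tee T k v x i)
    (hs : ∀ p, p + 1 < k → mu T (v p) (v (p + 1)) = 1) (hx1 : mu T x (v i) = 1) :
    (n = 8 ∧ Fits T mE7 mCycle eE7) ∨ (n = 9 ∧ Fits T mE8 mCycle eE8) := by
  have hlow := h.low; have hhigh := h.high; have hlen := h.len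
  have L := h.chain.linear hall (i := i) (by omega) (fun t ht => hs t (by omega)) fun t ht j hj ha => by
    rcases h.nb hall (by omega) j hj ha with ⟨-, c⟩ | c | ⟨c, -⟩
    exacts [Or.inl c, Or.inr c, absurd c (by omega)]
  have R := h.chain.rev.linear hall (i := k - 1 - i) (by omega) (fun t ht => by
      rw [mu_symm, show k - 1 - t = k - 1 - (t + 1) + 1 by omega]
      exact hs _ (by omega)) fun t ht j hj ha => by
    rcases h.rev.nb hall (show t < k by omega) j hj ha with ⟨-, c⟩ | c | ⟨c, -⟩
    exacts [Or.inl c, Or.inr c, absurd c (by omega)]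
  have hwc := h.chain.w_const (e := 0) (l := k - 1) (by omega) fun p _ hp => hs p (by omega)
  have hwi : ∀ p, p < k → T.w (v p) = T.w (v 0) := fun p hp => hwc p (by omega) (by omega)
  have hae : ∀ p, p + 1 < k → T.a (v p) (v (p + 1)) = T.w (v 0) := fun p hp => by
    rw [(simple_edge (h.chain.adj p hp) (hs p hp)).1, hwi p (by omega)]
  obtain ⟨exa, exb⟩ := simple_w h.adj hx1
  rw [exa, hwi i (by omega)] at exb
  rw [exb] at exa
  have hwp := (T.w_pos (v 0)).ne'
  have hrx := row_exact hall (i := x) (s := {v i}) (by simp [h.out i (by omega)]) fun j hj hjs => by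
    rcases ext_surj hall h.chain h.out h.len j with ⟨s, hs, rfl⟩ | rfl
    · exact h.only s hs fun e => hjs (by simp [e])
    · exact absurd rfl hj
  rw [sum_singleton, exa, exb] at hrx
  have hγ : T.m (v i) = 2 * T.m x := mul_left_cancel₀ hwp (by linarith)
  have n1 := h.chain.ne (show i < k by omega) (show i - 1 < k by omega) (by omega)
  have n2 := h.chain.ne (show i < k by omega) (show i + 1 < k by omega) (by omega)
  have n3 := h.chain.ne (show i - 1 < k by omega) (show i + 1 < k by omega) (by omega)
  have hr := row_exact hall (i := v i) (s := {v (i - 1), v (i + 1), x})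
    (by simp [n1, n2, (h.out i (by omega)).symm]) fun j hj hjs => by
      by_contra ha
      rcases h.nb hall (show i < k by omega) j hj ha with ⟨-, c⟩ | ⟨-, c⟩ | ⟨-, c⟩ <;> exact hjs (by simp [c])
  rw [sum_insert (by simp [n3, (h.out (i - 1) (by omega)).symm]), sum_pair (h.out (i + 1) hhigh).symm,
    a_symm T (v i) (v (i - 1))] at hr
  have e0 := hae (i - 1) (by omega)
  rw [show i - 1 + 1 = i by omega] at e0
  rw [e0, hae i hhigh, a_symm T (v i) x, exa, hwi i (by omega)] at hr
  have hr' : T.m (v (i - 1)) + (T.m (v (i + 1)) + T.m x) = 2 * T.m (v i) := mul_left_cancel₀ hwp (by linarith)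
  obtain ⟨q, hq⟩ : ∃ q, q = k - 1 - i := ⟨_, rfl⟩
  rw [← hq] at R
  have mA := L i le_rfl
  have mB : T.m (v i) = ((q : ℤ) + 1) * T.m (v (k - 1)) := by
    have := R q le_rfl
    simp only [Nat.sub_zero] at this
    rwa [show k - 1 - q = i by omega] at this
  have mA' : T.m (v (i - 1)) = (i : ℤ) * T.m (v 0) := by
    rw [L (i - 1) (by omega), Nat.cast_sub hlow]; push_cast; ring
  have mB' : T.m (v (i + 1)) = (q : ℤ) * T.m (v (k - 1)) := by
    have := R (q - 1) (by omega)
    simp only [Nat.sub_zero] at this
    rw [show k - 1 - (q - 1) = i + 1 by omega, Nat.cast_sub (show 1 ≤ q by omega)] at this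
    rw [this]; push_cast; ring
  rw [mA', mB'] at hr'
  have key : T.m (v i) * (((i : ℤ) * q) - i - q - 3) = T.m (v i) * 0 := by
    linear_combination (2 * ((i : ℤ) + 1) * ((q : ℤ) + 1)) * hr' + (2 * ((q : ℤ) + 1) * (i : ℤ)) * mA +
      (2 * ((i : ℤ) + 1) * (q : ℤ)) * mB + (((i : ℤ) + 1) * ((q : ℤ) + 1)) * hγ
  have key' := mul_left_cancel₀ (T.m_pos (v i)).ne' key
  have hsol : (i = 2 ∧ q = 5) ∨ (i = 3 ∧ q = 3) ∨ (i = 5 ∧ q = 2) := by
    have h2 : 2 ≤ i := by
      by_contra hc
      have : i = 1 := by omega
      subst this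
      push_cast at key'
      linarith
    have h2q : 2 ≤ q := by
      by_contra hc
      have : q = 1 := by omega
      subst this
      push_cast at key'
      linarith
    have hz : (i : ℤ) * q = i + q + 3 := by linarith
    have hn : i * q = i + q + 3 := by exact_mod_cast hz
    have h5 : i ≤ 5 := by nlinarith
    interval_cases i <;> omega
  -- orient so that the short arm comes last
  clear key key' mA mB mA' mB' hr' hr e0 n1 n2 n3 hrx
  rcases hsol with ⟨rfl, rfl⟩ | ⟨rfl, rfl⟩ | ⟨rfl, rfl⟩
  · obtain rfl : k = 8 := by omega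
    refine Or.inr ⟨by omega, ext 8 (fun t => v (8 - 1 - t)) x x, T.m (v (8 - 1)), T.w (v 0),
      fun a b ha hb => ext_inj1 h.chain.rev h.rev.out a b (by omega) (by omega), fun p hp => ?_, fun p r hpr hr => ?_⟩
    · have L1 := L 1 (by omega); have L2 := L 2 (by omega)
      have R1 := R 1 (by omega); have R2 := R 2 (by omega); have R3 := R 3 (by omega)
      have R4 := R 4 (by omega); have R5 := R 5 (by omega)
      norm_num at L1 L2 R1 R2 R3 R4 R5
      have hp' : p < 9 := by omega
      interval_cases p <;> simp [mE8, mCycle, ext, hwi, exb] <;> omega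
    · rcases (show r = 8 ∨ r < 8 by omega) with c | c
      · subst c
        rw [ext_lt (by omega), ext_k, a_symm]
        unfold eE8
        by_cases hp : p = 5
        · subst hp; rw [if_pos (by omega), one_mul]; exact exa
        · rw [if_neg (by omega), zero_mul]; exact h.only _ (by omega) (by omega)
      · rw [ext_lt (by omega), ext_lt c]
        unfold eE8
        by_cases hp : r = p + 1
        · subst hp
          rw [if_pos (by omega), one_mul, a_symm, show 8 - 1 - p = 8 - 1 - (p + 1) + 1 by omega]
          exact hae _ (by omega)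
        · rw [if_neg (by omega), zero_mul, a_symm]; exact h.flat _ _ (by omega) (by omega)
  · obtain rfl : k = 7 := by omega
    refine Or.inl ⟨by omega, ext 7 v x x, T.m (v 0), T.w (v 0),
      fun a b ha hb => ext_inj1 h.chain h.out a b (by omega) (by omega), fun p hp => ?_, fun p r hpr hr => ?_⟩
    · have L1 := L 1 (by omega); have L2 := L 2 (by omega); have L3 := L 3 le_rfl
      have R1 := R 1 (by omega); have R2 := R 2 (by omega); have R3 := R 3 le_rfl
      norm_num at L1 L2 L3 R1 R2 R3
      have hp' : p < 8 := by omega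
      interval_cases p <;> simp [mE7, mCycle, ext, hwi, exb] <;> omega
    · rcases (show r = 7 ∨ r < 7 by omega) with c | c
      · subst c
        rw [ext_lt (by omega), ext_k, a_symm]
        unfold eE7
        by_cases hp : p = 3
        · subst hp; rw [if_pos (by omega), one_mul]; exact exa
        · rw [if_neg (by omega), zero_mul]; exact h.only _ (by omega) (by omega)
      · rw [ext_lt (by omega), ext_lt c]
        unfold eE7
        by_cases hp : r = p + 1
        · subst hp; rw [if_pos (by omega), one_mul]; exact hae _ (by omega)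
        · rw [if_neg (by omega), zero_mul]; exact h.flat _ _ (by omega) c
  · obtain rfl : k = 8 := by omega
    refine Or.inr ⟨by omega, ext 8 v x x, T.m (v 0), T.w (v 0),
      fun a b ha hb => ext_inj1 h.chain h.out a b (by omega) (by omega), fun p hp => ?_, fun p r hpr hr => ?_⟩
    · have L1 := L 1 (by omega); have L2 := L 2 (by omega); have L3 := L 3 (by omega)
      have L4 := L 4 (by omega); have L5 := L 5 le_rfl
      have R1 := R 1 (by omega); have R2 := R 2 le_rfl
      norm_num at L1 L2 L3 L4 L5 R1 R2
      have hp' : p < 9 := by omega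
      interval_cases p <;> simp [mE8, mCycle, ext, hwi, exb] <;> omega
    · rcases (show r = 8 ∨ r < 8 by omega) with c | c
      · subst c
        rw [ext_lt (by omega), ext_k, a_symm]
        unfold eE8
        by_cases hp : p = 5
        · subst hp; rw [if_pos (by omega), one_mul]; exact exa
        · rw [if_neg (by omega), zero_mul]; exact h.only _ (by omega) (by omega)
      · rw [ext_lt (by omega), ext_lt c]
        unfold eE8
        by_cases hp : r = p + 1
        · subst hp; rw [if_pos (by omega), one_mul]; exact hae _ (by omega)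
        · rw [if_neg (by omega), zero_mul]; exact h.flat _ _ (by omega) c

/-- A tree made of a chain and one further index. -/
lemma fits_tee {k : ℕ} {v : ℕ → Fin n} {x : Fin n} {i : ℕ} (h : Tee T k v x i) :
    Fits T (mDext n) wDextUp (eDextUp n) ∨ Fits T (mDextDown n) wDextDown (eDextDown n) ∨
      (n = 8 ∧ Fits T mE7 mCycle eE7) ∨ (n = 9 ∧ Fits T mE8 mCycle eE8) := by
  have hlow := h.low; have hhigh := h.high; have hlen := h.len
  have hxi : 0 < T.a (v i) x := by rw [a_symm]; exact h.adj
  by_cases hn4 : n = 4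
  · -- three leaves: one edge is double
    obtain rfl : k = 3 := by omega
    obtain rfl : i = 1 := by omega
    have n10 := h.chain.ne (show 1 < 3 by omega) (show 0 < 3 by omega) (by omega)
    have n12 := h.chain.ne (show 1 < 3 by omega) (show 2 < 3 by omega) (by omega)
    have n02 := h.chain.ne (show 0 < 3 by omega) (show 2 < 3 by omega) (by omega)
    have r1 := row_exact hall (i := v 1) (s := {v 0, v 2, x}) (by simp [n10, n12, (h.out 1 (by omega)).symm])
      fun j hj hjs => by
        by_contra ha
        rcases h.nb hall (show 1 < 3 by omega) j hj ha with ⟨-, c⟩ | ⟨-, c⟩ | ⟨-, c⟩ <;> exact hjs (by simp [c])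
    have rl : ∀ j, j ∈ ({v 0, v 2, x} : Finset (Fin n)) → 2 * (T.a (v 1) j * T.m j) = T.w (v 1) * T.m (v 1) * mu T (v 1) j := by
      intro j hj
      have hne : j ≠ v 1 := by
        simp only [mem_insert, mem_singleton] at hj
        rcases hj with rfl | rfl | rfl
        exacts [n10.symm, n12.symm, h.out 1 (by omega)]
      have r := row_exact hall (i := j) (s := {v 1}) (by simp [hne]) fun l hl hls => by
        simp only [mem_singleton] at hls
        simp only [mem_insert, mem_singleton] at hj
        rcases hj with rfl | rfl | rfl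
        · by_contra ha
          rcases h.nb hall (show 0 < 3 by omega) l hl ha with ⟨-, c⟩ | ⟨c, -⟩ | ⟨c, -⟩
          · exact hls c
          · omega
          · omega
        · by_contra ha
          rcases h.nb hall (show 2 < 3 by omega) l hl ha with ⟨c, -⟩ | ⟨-, c⟩ | ⟨c, -⟩
          · omega
          · exact hls c
          · omega
        · rcases ext_surj hall h.chain h.out h.len l with ⟨s, hs, rfl⟩ | rfl
          · exact h.only s hs fun e => hls (by rw [e])
          · exact absurd rfl hl
      rw [sum_singleton, a_symm T j (v 1)] at r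
      refine mul_left_cancel₀ (T.w_pos j).ne' ?_
      linear_combination (-T.a (v 1) j) * r - T.m (v 1) * mu_mul T (v 1) j
    rw [sum_insert (by simp [n02, (h.out 0 (by omega)).symm]), sum_pair (h.out 2 (by omega)).symm] at r1
    have hsum : mu T (v 1) (v 0) + mu T (v 1) (v 2) + mu T (v 1) x = 4 := by
      refine mul_left_cancel₀ (mul_pos (T.w_pos (v 1)) (T.m_pos (v 1))).ne' ?_
      linear_combination 2 * r1 - rl (v 0) (by simp) - rl (v 2) (by simp) - rl x (by simp)
    have a0 := (h.chain.adj' (i := 0) (j := 1) (by omega) rfl)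
    have a2 := (h.chain.adj' (i := 1) (j := 2) (by omega) rfl)
    have p0 := mu_pos T a0.2
    have p2 := mu_pos T a2.1
    have px := mu_pos T hxi
    rcases (show mu T (v 1) (v 0) = 2 ∨ mu T (v 1) (v 2) = 2 ∨ mu T (v 1) x = 2 by omega) with c | c | c
    · have := fits_dext hall (show Tee T 3 v x (3 - 2) from h) (by rw [mu_symm]; exact c)
      tauto
    · have := fits_dext hall (show Tee T 3 _ x (3 - 2) from h.rev) (by show mu T (v 2) (v 1) = 2; rw [mu_symm]; exact c)
      tauto
    · let u : ℕ → Fin n := fun t => if t = 0 then x else if t = 1 then v 1 else v 2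
      have ht : Tee T 3 u (v 0) (3 - 2) := by
        refine ⟨⟨fun a b ha hb e => ?_, fun a ha => ?_, fun a _ => hall _⟩, fun p hp => ?_, hlen, le_rfl, by omega, a0.1,
          fun p hp hpi => ?_, fun p q hpq hq => ?_⟩
        · interval_cases a <;> interval_cases b <;>
            simp [u, n12, n12.symm, h.out 1 (by omega), (h.out 1 (by omega)).symm, h.out 2 (by omega), (h.out 2 (by omega)).symm] at e ⊢
        · have : a < 2 := by omega
          interval_cases a
          · exact h.adj
          · exact a2.1
        · interval_cases p <;> simp [u, n10.symm, n02, (h.out 0 (by omega)).symm]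
        · interval_cases p
          · simp only [u, if_pos]; rw [a_symm]; exact h.only 0 (by omega) (by omega)
          · omega
          · exact h.flat 0 2 (by omega) (by omega)
        · obtain ⟨rfl, rfl⟩ : p = 0 ∧ q = 2 := by omega
          exact h.only 2 (by omega) (by omega)
      have := fits_dext hall ht (by show mu T x (v 1) = 2; rw [mu_symm]; exact c)
      tauto
  · have hn : 4 < n := by omega
    have hl := three_lt T hn (i := v i) (j := v (i - 1)) (l := v (i + 1)) (r := x)
      (h.chain.ne (by omega) hhigh (by omega)) (h.out _ (by omega)).symm (h.out _ hhigh).symm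
      (hall _) (hall _) (hall _) (hall _) (h.chain.adj' (by omega) (show i = (i - 1) + 1 by omega)).2 (h.chain.adj i hhigh) hxi
    have p1 := mu_pos T (h.chain.adj' (j := i) (by omega) (show i = (i - 1) + 1 by omega)).2
    have p2 := mu_pos T (h.chain.adj i hhigh)
    have p3 := mu_pos T hxi
    have hx1 : mu T x (v i) = 1 := by rw [mu_symm]; omega
    -- a double edge in an arm sits at its far end, with the other arms short
    have hd : ∀ {v : ℕ → Fin n} {i : ℕ}, Tee T k v x i → ∀ p, p + 1 < i → mu T (v p) (v (p + 1)) = 2 → p = 0 ∧ i = k - 2 := by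
      intro v i h p hp hm
      have := h.high
      have e := (df_config (v := fun t => v (p + t)) (k := i - p + 2) (by omega) (h.chain.sub (by omega)) (hall x)
        (fun t ht => h.out _ (by omega)) (by rw [show p + (i - p + 2 - 2) = i by omega]; exact h.adj)
        (by simpa using hm.ge)).1
      omega
    by_cases hex : ∃ p, p + 1 < k ∧ mu T (v p) (v (p + 1)) = 2
    · obtain ⟨p, hpk, hp⟩ := hex
      rcases (show p = i ∨ p + 1 = i ∨ p + 1 < i ∨ i < p by omega) with c | c | c | c
      · subst c; omega
      · subst c; rw [show p + 1 - 1 = p by omega, mu_symm, hp] at hl; omega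
      · obtain ⟨rfl, hi⟩ := hd h p c hp
        subst hi
        have := fits_dext hall h hp
        tauto
      · have hrp : mu T (v (k - 1 - (k - 2 - p))) (v (k - 1 - (k - 2 - p + 1))) = 2 := by
          rw [show k - 1 - (k - 2 - p) = p + 1 by omega, show k - 1 - (k - 2 - p + 1) = p by omega, mu_symm]
          exact hp
        obtain ⟨e, hi⟩ := hd h.rev (k - 2 - p) (by omega) hrp
        have ht := h.rev
        rw [hi] at ht
        rw [e] at hrp
        have := fits_dext hall ht hrp
        tauto
    · push Not at hex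
      have hk3 : 3 ≤ k := by omega
      have := fits_exceptional hall h (fun p hp => (chain_mu (by omega) hk3 h.chain hp).resolve_right (hex p hp)) hx1
      tauto

/-- The double fork. -/
lemma fits_fork {k : ℕ} (hk : 3 ≤ k) {v : ℕ → Fin n} (h : Chain T k v) {x y : Fin n}
    (hx : ∀ i, i < k → x ≠ v i) (hy : ∀ i, i < k → y ≠ v i) (hxy : x ≠ y)
    (hxa : 0 < T.a x (v 1)) (hya : 0 < T.a y (v (k - 2))) : 5 ≤ n ∧ Fits T (mFork n) mCycle (eFork n) := by
  obtain ⟨hlen, hm, hm0, hml, hmy⟩ := ff_config hk h (hall x) (hall y) hx hy hxy hxa hya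
  refine ⟨by omega, ?_⟩
  let u : ℕ → Fin n := fun t => if t = 0 then x else if t ≤ k then v (t - 1) else y
  have u0 : u 0 = x := rfl
  have uv : ∀ t, 1 ≤ t → t ≤ k → u t = v (t - 1) := fun t a b => by
    simp only [u, if_neg (show t ≠ 0 by omega), if_pos b]
  have uy : ∀ t, k < t → u t = y := fun t a => by
    simp only [u, if_neg (show t ≠ 0 by omega), if_neg (show ¬t ≤ k by omega)]
  have uinj : ∀ a b, a < n → b < n → u a = u b → a = b := fun a b ha hb e => by
    rcases (show a = 0 ∨ (1 ≤ a ∧ a ≤ k) ∨ k < a by omega) with c | ⟨c, c'⟩ | c <;>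
      rcases (show b = 0 ∨ (1 ≤ b ∧ b ≤ k) ∨ k < b by omega) with d | ⟨d, d'⟩ | d
    · omega
    · rw [c, u0, uv b d d'] at e; exact absurd e (hx _ (by omega))
    · rw [c, u0, uy b d] at e; exact absurd e hxy
    · rw [d, u0, uv a c c'] at e; exact absurd e.symm (hx _ (by omega))
    · rw [uv a c c', uv b d d'] at e; have := h.inj _ _ (by omega) (by omega) e; omega
    · rw [uv a c c', uy b d] at e; exact absurd e.symm (hy _ (by omega))
    · rw [d, u0, uy a c] at e; exact absurd e.symm hxy
    · rw [uv b d d', uy a c] at e; exact absurd e (hy _ (by omega))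
    · omega
  have mu' : ∀ t, t < n → T.m (u t) = mFork n t * T.m x := fun t ht => by
    unfold mFork
    rcases (show t = 0 ∨ (1 ≤ t ∧ t ≤ k) ∨ k < t by omega) with c | ⟨c, c'⟩ | c
    · rw [c, u0, if_pos (by omega), one_mul]
    · rw [uv t c c']
      rcases (show t = 1 ∨ t = k ∨ (2 ≤ t ∧ t < k) by omega) with d | d | ⟨d, d'⟩
      · rw [d, if_pos (by omega), one_mul]; exact hm0
      · rw [d, if_pos (by omega), one_mul]; exact hml
      · rw [if_neg (by omega)]; exact hm _ (by omega) (by omega)
    · rw [uy t c, if_pos (by omega), one_mul]; exact hmy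
  -- the neighbours of each index
  let nb : ℕ → Finset ℕ := fun t => (range n).filter fun s => eFork n t s = 1 ∨ eFork n s t = 1
  have adjU : ∀ a b, a < b → b < n → eFork n a b = 1 → 0 < T.a (u a) (u b) := fun a b hab hb e => by
    unfold eFork at e
    split_ifs at e with c
    · rcases c with ⟨c, d⟩ | ⟨c, d⟩ | ⟨c, d, d'⟩ | ⟨c, d⟩
      · rw [c, u0, d, uv 2 (by omega) (by omega)]; exact hxa
      · rw [c, d, uv 1 le_rfl (by omega), uv 2 (by omega) (by omega)]; exact (h.adj' (by omega) rfl).1
      · rw [uv a (by omega) (by omega), uv b (by omega) (by omega)]; exact (h.adj' (by omega) (by omega)).1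
      · rw [uv a (by omega) (by omega), uy b (by omega), show a - 1 = k - 2 by omega, a_symm]; exact hya
    · omega
  have adj' : ∀ a b, a < n → b ∈ nb a → 0 < T.a (u a) (u b) := fun a b ha hb => by
    simp only [nb, mem_filter, mem_range] at hb
    rcases lt_trichotomy a b with c | c | c
    · exact adjU a b c hb.1 (hb.2.resolve_right fun e => by unfold eFork at e; split_ifs at e <;> omega)
    · subst c; rcases hb.2 with e | e <;> (unfold eFork at e; split_ifs at e <;> omega)
    · rw [a_symm]; exact adjU b a c ha (hb.2.resolve_left fun e => by unfold eFork at e; split_ifs at e <;> omega)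
  have hnb : ∀ t, t < n → 2 * mFork n t ≤ ∑ s ∈ nb t, mFork n s := fun t ht => by
    have hnn : ∀ s, 0 ≤ mFork n s := fun s => by unfold mFork; split_ifs <;> norm_num
    have mem : ∀ s, s < n → (eFork n t s = 1 ∨ eFork n s t = 1) → s ∈ nb t := fun s hs e => by
      simp only [nb, mem_filter, mem_range]; exact ⟨hs, e⟩
    rcases (show t ≤ 1 ∨ n ≤ t + 2 ∨ (2 ≤ t ∧ t + 2 < n) by omega) with c | c | ⟨c, c'⟩
    · refine le_trans ?_ (single_le_sum (fun s _ => hnn s) (mem 2 (by omega) (Or.inl (by unfold eFork; rw [if_pos (by omega)]))))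
      unfold mFork; rw [if_pos (by omega)]; split_ifs <;> omega
    · refine le_trans ?_ (single_le_sum (fun s _ => hnn s) (mem (n - 3) (by omega) (Or.inr (by unfold eFork; rw [if_pos (by omega)]))))
      unfold mFork; rw [if_pos (by omega)]; split_ifs <;> omega
    · have hle : ∀ s : Finset ℕ, (∀ a ∈ s, a ∈ nb t) → (4 : ℤ) ≤ ∑ a ∈ s, mFork n a → 2 * mFork n t ≤ ∑ a ∈ nb t, mFork n a := by
        intro s hs h4
        refine le_trans ?_ (h4.trans (sum_le_sum_of_subset_of_nonneg hs fun a _ _ => hnn a))
        unfold mFork; split_ifs <;> omega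
      rcases (show t = 2 ∨ 3 ≤ t by omega) with d | d <;> rcases (show t + 3 = n ∨ t + 4 ≤ n by omega) with e | e
      · refine hle {0, 1, 3, 4} (fun a ha => mem a (by simp at ha; omega) ?_) ?_
        · simp at ha
          rcases ha with rfl | rfl | rfl | rfl <;> simp [eFork] <;> omega
        · simp [mFork]; split_ifs <;> omega
      · refine hle {0, 1, 3} (fun a ha => mem a (by simp at ha; omega) ?_) ?_
        · simp at ha
          rcases ha with rfl | rfl | rfl <;> simp [eFork] <;> omega
        · simp [mFork]; split_ifs <;> omega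
      · refine hle {t - 1, t + 1, t + 2} (fun a ha => mem a (by simp at ha; omega) ?_) ?_
        · simp at ha
          rcases ha with rfl | rfl | rfl <;> simp [eFork] <;> omega
        · rw [sum_insert (by simp; omega), sum_pair (by omega)]
          unfold mFork; split_ifs <;> omega
      · refine hle {t - 1, t + 1} (fun a ha => mem a (by simp at ha; omega) ?_) ?_
        · simp at ha
          rcases ha with rfl | rfl <;> simp [eFork] <;> omega
        · rw [sum_pair (by omega)]
          unfold mFork; split_ifs <;> omega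
  have ht := fun t (ht : t < n) => tight hall (i := u t) (s := (nb t).image u)
    (fun hm => by
      obtain ⟨s, hs, e⟩ := mem_image.1 hm
      have := uinj s t (mem_range.1 (mem_filter.1 hs).1) ht e
      subst this
      exact (adj' s s ht hs).ne' (by
        by_contra hne
        have := adj' s s ht hs
        rw [(hall (u s)).2] at this
        have := T.w_pos (u s)
        omega))
    (fun j hj => by obtain ⟨s, hs, rfl⟩ := mem_image.1 hj; exact adj' t s ht hs)
    (by
      rw [sum_image fun a ha b hb e => uinj a b (mem_range.1 (mem_filter.1 ha).1) (mem_range.1 (mem_filter.1 hb).1) e,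
        mu' t ht, sum_congr rfl fun s hs => mu' s (mem_range.1 (mem_filter.1 hs).1), ← sum_mul]
      nlinarith [hnb t ht, T.m_pos x])
  have hedge : ∀ a b, a < b → b < n → eFork n a b = 1 → T.a (u a) (u b) = T.w (u a) ∧ T.w (u b) = T.w (u a) := fun a b hab hb e => by
    have e1 := (ht a (by omega)).1 (u b) (mem_image.2 ⟨b, by simp [nb, hb, e], rfl⟩)
    have e2 := (ht b hb).1 (u a) (mem_image.2 ⟨a, by simp [nb, e]; omega, rfl⟩)
    rw [a_symm] at e2
    exact ⟨e1, by linarith⟩
  have hw2 : ∀ t, 2 ≤ t → t + 2 < n → T.w (u t) = T.w (u 2) := by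
    intro t h2 h3
    induction t, h2 using Nat.le_induction with
    | base => rfl
    | succ t h2 ih =>
      rw [(hedge t (t + 1) (by omega) (by omega) (by unfold eFork; rw [if_pos (by omega)])).2, ih (by omega)]
  have hw : ∀ t, t < n → T.w (u t) = T.w (u 2) := fun t htn => by
    rcases (show t ≤ 1 ∨ n ≤ t + 2 ∨ (2 ≤ t ∧ t + 2 < n) by omega) with c | c | ⟨c, c'⟩
    · exact (hedge t 2 (by omega) (by omega) (by unfold eFork; rw [if_pos (by omega)])).2.symm
    · rw [(hedge (n - 3) t (by omega) htn (by unfold eFork; rw [if_pos (by omega)])).2, hw2 _ (by omega) (by omega)]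
    · exact hw2 t c c'
  refine ⟨u, T.m x, T.w (u 2), uinj, fun t htn => ⟨mu' t htn, by simp [mCycle, hw t htn]⟩, fun a b hab hb => ?_⟩
  rcases (show eFork n a b = 1 ∨ eFork n a b = 0 by unfold eFork; split_ifs <;> simp) with e | e
  · rw [e, one_mul, (hedge a b hab hb e).1, hw a (by omega)]
  · rw [e, zero_mul]
    refine (ht a (by omega)).2 _ (fun eq => by have := uinj b a hb (by omega) eq; omega) fun hm => ?_
    obtain ⟨s, hs, eq⟩ := mem_image.1 hm
    simp only [nb, mem_filter, mem_range] at hs
    have := uinj s b hs.1 hb eq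
    subst this
    rcases hs.2 with c | c
    · omega
    · unfold eFork at c; split_ifs at c <;> omega

/-- The extended graph with three arms of length two. -/
lemma fits_e6 {u : ℕ → Fin n} (hinj : ∀ i j, i < 7 → j < 7 → u i = u j → i = j)
    (h01 : 0 < T.a (u 0) (u 1)) (h12 : 0 < T.a (u 1) (u 2)) (h34 : 0 < T.a (u 3) (u 4)) (h24 : 0 < T.a (u 2) (u 4))
    (h56 : 0 < T.a (u 5) (u 6)) (h26 : 0 < T.a (u 2) (u 6)) : n = 7 ∧ Fits T mE6 mCycle eE6 := by
  obtain ⟨e7, m1, m2, m3, m4, m5, m6⟩ := e6_config hinj (fun i _ => hall _) h01 h12 h34 h24 h56 h26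
  subst e7
  refine ⟨rfl, ?_⟩
  have mm : ∀ t, t < 7 → T.m (u t) = mE6 t * T.m (u 0) := fun t ht => by
    interval_cases t <;> simp [mE6] <;> assumption
  have adjU : ∀ a b, eE6 a b = 1 → 0 < T.a (u a) (u b) ∧ 0 < T.a (u b) (u a) := fun a b e => by
    unfold eE6 at e
    split_ifs at e with c
    · rcases c with ⟨rfl, rfl⟩ | ⟨rfl, rfl⟩ | ⟨rfl, rfl⟩ | ⟨rfl, rfl⟩ | ⟨rfl, rfl⟩ | ⟨rfl, rfl⟩ <;>
        exact ⟨by assumption, by rw [a_symm]; assumption⟩
    · omega
  let nb : ℕ → Finset ℕ := fun t => (range 7).filter fun s => eE6 t s = 1 ∨ eE6 s t = 1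
  have hnb : ∀ t, t < 7 → 2 * mE6 t ≤ ∑ s ∈ nb t, mE6 s := by
    intro t ht; interval_cases t <;> decide
  have ht := fun t (ht : t < 7) => tight hall (i := u t) (s := (nb t).image u)
    (fun hm => by
      obtain ⟨s, hs, e⟩ := mem_image.1 hm
      have := hinj s t (mem_range.1 (mem_filter.1 hs).1) ht e
      subst this
      simp only [nb, mem_filter, mem_range] at hs
      rcases hs.2 with e | e <;> (unfold eE6 at e; split_ifs at e <;> omega))
    (fun j hj => by
      obtain ⟨s, hs, rfl⟩ := mem_image.1 hj
      rcases (mem_filter.1 hs).2 with e | e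
      exacts [(adjU _ _ e).1, (adjU _ _ e).2])
    (by
      rw [sum_image fun a ha b hb e => hinj a b (mem_range.1 (mem_filter.1 ha).1) (mem_range.1 (mem_filter.1 hb).1) e,
        mm t ht, sum_congr rfl fun s hs => mm s (mem_range.1 (mem_filter.1 hs).1), ← sum_mul]
      nlinarith [hnb t ht, T.m_pos (u 0)])
  have hedge : ∀ a b, a < 7 → b < 7 → eE6 a b = 1 → T.a (u a) (u b) = T.w (u a) ∧ T.w (u b) = T.w (u a) := fun a b ha hb e => by
    have e1 := (ht a ha).1 (u b) (mem_image.2 ⟨b, by simp [nb, hb, e], rfl⟩)
    have e2 := (ht b hb).1 (u a) (mem_image.2 ⟨a, by simp [nb, ha, e], rfl⟩)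
    rw [a_symm] at e2
    exact ⟨e1, by linarith⟩
  have w01 := (hedge 0 1 (by omega) (by omega) rfl).2
  have w12 := (hedge 1 2 (by omega) (by omega) rfl).2
  have w24 := (hedge 2 4 (by omega) (by omega) rfl).2
  have w26 := (hedge 2 6 (by omega) (by omega) rfl).2
  have w34 := (hedge 3 4 (by omega) (by omega) rfl).2
  have w56 := (hedge 5 6 (by omega) (by omega) rfl).2
  have hw : ∀ t, t < 7 → T.w (u t) = T.w (u 0) := fun t htn => by interval_cases t <;> linarith
  refine ⟨u, T.m (u 0), T.w (u 0), hinj, fun t htn => ⟨mm t htn, by simp [mCycle, hw t htn]⟩, fun a b hab hb => ?_⟩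
  rcases (show eE6 a b = 1 ∨ eE6 a b = 0 by unfold eE6; split_ifs <;> simp) with e | e
  · rw [e, one_mul, (hedge a b (by omega) hb e).1, hw a (by omega)]
  · rw [e, zero_mul]
    refine (ht a (by omega)).2 _ (fun eq => by have := hinj b a hb (by omega) eq; omega) fun hm => ?_
    obtain ⟨s, hs, eq⟩ := mem_image.1 hm
    simp only [nb, mem_filter, mem_range] at hs
    have := hinj s b hs.1 hb eq
    subst this
    rcases hs.2 with c | c
    · omega
    · unfold eE6 at c; split_ifs at c <;> omega

omit hall in
/-- An index attached twice to a chain closes a cycle. -/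
lemma attach_chain {k : ℕ} {v : ℕ → Fin n} (h : Chain T k v) {x : Fin n} (hx2 : T.IsMinusTwo x)
    (hx : ∀ i, i < k → x ≠ v i) {i j : ℕ} (hij : i < j) (hj : j < k) (hi : 0 < T.a x (v i)) (hjx : 0 < T.a x (v j)) :
    ∃ (l : ℕ) (u : ℕ → Fin n), 3 ≤ l ∧ Chain T l u ∧ 0 < T.a (u 0) (u (l - 1)) := by
  refine ⟨j - i + 2, fun t => if t = 0 then x else v (i + (t - 1)), by omega, ⟨?_, ?_, ?_⟩, ?_⟩
  · intro a b ha hb e
    split_ifs at e with a0 b0
    · omega
    · exact absurd e (hx _ (by omega))
    · exact absurd e.symm (hx _ (by omega))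
    · have := h.inj _ _ (by omega) (by omega) e; omega
  · intro a ha
    rcases eq_or_ne a 0 with rfl | a0
    · simpa using hi
    · rw [if_neg a0, if_neg (Nat.succ_ne_zero a)]
      exact (h.adj' (by omega) (show i + (a + 1 - 1) = i + (a - 1) + 1 by omega)).1
  · intro a ha
    split_ifs
    · exact hx2
    · exact h.two _ (by omega)
  · beta_reduce
    rw [if_pos rfl, if_neg (by omega), show i + (j - i + 2 - 1 - 1) = j by omega]
    exact hjx

omit hall in
/-- Prolonging a chain at its first end. -/
lemma Chain.cons {k : ℕ} {v : ℕ → Fin n} (h : Chain T k v) {x : Fin n} (hx2 : T.IsMinusTwo x)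
    (hx : ∀ i, i < k → x ≠ v i) (ha : 0 < T.a x (v 0)) : Chain T (k + 1) fun t => if t = 0 then x else v (t - 1) where
  inj a b ha hb e := by
    split_ifs at e with a0 b0
    · omega
    · exact absurd e (hx _ (by omega))
    · exact absurd e.symm (hx _ (by omega))
    · have := h.inj _ _ (by omega) (by omega) e; omega
  adj a hak := by
    rcases eq_or_ne a 0 with rfl | a0
    · simpa using ha
    · rw [if_neg a0, if_neg (Nat.succ_ne_zero a)]
      exact (h.adj' (by omega) (show a + 1 - 1 = a - 1 + 1 by omega)).1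
  two a _ := by
    split_ifs
    · exact hx2
    · exact h.two _ (by omega)

set_option maxHeartbeats 1000000 in
/-- The classification on at least four indices. -/
theorem classify (hn : 4 ≤ n) : Classified T := by
  classical
  unfold Classified
  by_cases hcyc : ∃ (l : ℕ) (u : ℕ → Fin n), 3 ≤ l ∧ Chain T l u ∧ 0 < T.a (u 0) (u (l - 1))
  · obtain ⟨l, u, hl, hu, hc⟩ := hcyc
    exact Or.inl (fits_cycle hall hl hu hc)
  have hflat : ∀ {k : ℕ} {v : ℕ → Fin n}, Chain T k v → ∀ p q, p + 1 < q → q < k → T.a (v p) (v q) = 0 :=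
    fun {k v} h p q hpq hq => by
      by_contra ha
      refine hcyc ⟨q - p + 1, fun t => v (p + t), by omega, h.sub (by omega), ?_⟩
      beta_reduce
      rw [Nat.add_zero, show p + (q - p + 1 - 1) = q by omega]
      exact offdiag_pos T (h.ne (by omega) hq (by omega)) ha
  have honce : ∀ {k : ℕ} {v : ℕ → Fin n}, Chain T k v → ∀ x : Fin n, (∀ i, i < k → x ≠ v i) → ∀ i j, i < k → j < k →
      0 < T.a x (v i) → 0 < T.a x (v j) → i = j := fun {k v} h x hx i j hi hj hxi hxj => by
    rcases lt_trichotomy i j with c | c | c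
    · exact absurd (attach_chain h (hall x) hx c hj hxi hxj) hcyc
    · exact c
    · exact absurd (attach_chain h (hall x) hx c hi hxj hxi) hcyc
  have hout : ∀ {k : ℕ} {v : ℕ → Fin n}, Chain T k v → 0 < k → k < n → ∃ i x, i < k ∧ (∀ t, t < k → x ≠ v t) ∧ 0 < T.a x (v i) := by
    intro k v h hk0 hkn
    have hne : ((range k).image v) ≠ univ := fun e => by
      have := congrArg Finset.card e
      rw [card_univ, Fintype.card_fin] at this
      have := card_image_le (s := range k) (f := v)
      rw [card_range] at this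
      omega
    obtain ⟨p, hp, x, hx, ha⟩ := T.connected _ ⟨v 0, mem_image.2 ⟨0, by simpa using hk0, rfl⟩⟩ hne
    obtain ⟨i, hi, rfl⟩ := mem_image.1 hp
    refine ⟨i, x, mem_range.1 hi, fun t ht e => hx (mem_image.2 ⟨t, mem_range.2 ht, e.symm⟩), ?_⟩
    rw [a_symm]
    exact offdiag_pos T (fun e => hx (mem_image.2 ⟨i, hi, e⟩)) ha
  -- a chain of three indices exists
  have h3 : ∃ v, Chain T 3 v := by
    obtain ⟨j, hj, ha⟩ := exists_adj T (by omega) (⟨0, T.pos⟩ : Fin n)
    have h2 : Chain T 2 (fun t => if t = 0 then (⟨0, T.pos⟩ : Fin n) else j) := by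
      refine ⟨fun a b ha hb e => ?_, fun a ha' => ?_, fun a _ => hall _⟩
      · interval_cases a <;> interval_cases b <;> simp [hj, hj.symm] at e ⊢
      · obtain rfl : a = 0 := by omega
        simpa using ha
    obtain ⟨i, x, hi, hx, hxa⟩ := hout h2 (by omega) (by omega)
    interval_cases i
    · exact ⟨_, h2.cons (hall x) hx hxa⟩
    · exact ⟨_, h2.rev.cons (hall x) (fun t ht => hx _ (by omega)) hxa⟩
  -- a longest chain
  obtain ⟨k, ⟨hk3, v, hv⟩, hmax⟩ : ∃ k, (3 ≤ k ∧ ∃ v, Chain T k v) ∧ ∀ l v, Chain T l v → l ≤ k := by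
    let S := (range (n + 1)).filter fun l => 3 ≤ l ∧ ∃ v, Chain T l v
    obtain ⟨v, hv⟩ := h3
    have h3S : 3 ∈ S := mem_filter.2 ⟨mem_range.2 (by omega), le_rfl, v, hv⟩
    refine ⟨S.max' ⟨3, h3S⟩, (mem_filter.1 (S.max'_mem _)).2, fun l w hw => ?_⟩
    rcases le_or_gt 3 l with c | c
    · exact S.le_max' l (mem_filter.2 ⟨mem_range.2 (by have := chain_le hw; omega), c, w, hw⟩)
    · exact le_trans c.le (S.le_max' 3 h3S)
  have hkn := chain_le hv
  rcases eq_or_lt_of_le hkn with hkn | hkn
  · -- a path
    subst hkn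
    have hz := hflat hv
    have hmu := fun i (hi : i + 1 < k) => chain_mu (show 3 < k by omega) hk3 hv hi
    by_cases hd : ∃ p, p + 1 < k ∧ mu T (v p) (v (p + 1)) = 2
    · obtain ⟨p, hpk, hp⟩ := hd
      by_cases hd2 : ∃ q, q + 1 < k ∧ q ≠ p ∧ mu T (v q) (v (q + 1)) = 2
      · obtain ⟨q, hqk, hqp, hq⟩ := hd2
        have hkey : ∀ {a b : ℕ}, a < b → b + 1 < k → mu T (v a) (v (a + 1)) = 2 → mu T (v b) (v (b + 1)) = 2 →
            a = 0 ∧ b = k - 2 := fun {a b} hab hb ha hb2 => by
          have := two_doubles hv hab hb ha.ge hb2.ge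
          omega
        have h01 : mu T (v 0) (v 1) = 2 ∧ mu T (v (k - 2)) (v (k - 2 + 1)) = 2 := by
          rcases lt_or_gt_of_ne hqp with c | c
          · obtain ⟨rfl, rfl⟩ := hkey c hpk hq hp; exact ⟨hq, hp⟩
          · obtain ⟨rfl, rfl⟩ := hkey c hqk hp hq; exact ⟨hp, hq⟩
        have hs : ∀ i, 1 ≤ i → i + 2 < k → mu T (v i) (v (i + 1)) = 1 := fun i hi hi2 =>
          (hmu i (by omega)).resolve_right fun c => by
            have := (hkey (a := 0) (b := i) (by omega) (by omega) (by simpa using h01.1) c).2
            omega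
        have := fits_dd hall hv hn hz h01.1 (by rw [show k - 1 = k - 2 + 1 by omega]; exact h01.2) hs
        tauto
      · push Not at hd2
        have := fits_single hall hv hn hz hpk hp fun i hi hip => (hmu i hi).resolve_right (hd2 i hi hip)
        tauto
    · -- no multiple edge: the multiplicities would grow linearly
      push Not at hd
      exfalso
      have hs : ∀ i, i + 1 < k → mu T (v i) (v (i + 1)) = 1 := fun i hi => (hmu i hi).resolve_right (hd i hi)
      have L := hv.linear hall (i := k - 1) (by omega) (fun t ht => hs t (by omega)) fun t ht j hj ha => by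
        rcases path_nb hall hv hz (by omega) j hj ha with ⟨-, c⟩ | c
        exacts [Or.inl c, Or.inr c]
      have hr := row_exact hall (i := v (k - 1)) (s := {v (k - 2)})
        (by simp [hv.ne (show k - 1 < k by omega) (show k - 2 < k by omega) (by omega)]) fun j hj hjs => by
          by_contra ha
          rcases path_nb hall hv hz (by omega) j hj ha with ⟨c, -⟩ | ⟨-, c⟩
          · omega
          · exact hjs (by simp [c, show k - 1 - 1 = k - 2 by omega])
      have e := simple_w (hv.adj' (i := k - 2) (j := k - 1) (by omega) (by omega)).1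
        (by rw [show k - 1 = k - 2 + 1 by omega]; exact hs _ (by omega))
      rw [sum_singleton, a_symm T (v (k - 1)) (v (k - 2)), e.2, L (k - 1) le_rfl, L (k - 2) (by omega),
        Nat.cast_sub (show 1 ≤ k by omega), Nat.cast_sub (show 2 ≤ k by omega)] at hr
      push_cast at hr
      nlinarith [T.m_pos (v 0), T.w_pos (v (k - 1)), mul_pos (T.w_pos (v (k - 1))) (T.m_pos (v 0))]
  · obtain ⟨i, x, hik, hx, hxi⟩ := hout hv (by omega) hkn
    have hends : ∀ {j : ℕ} {y : Fin n}, j < k → (∀ t, t < k → y ≠ v t) → 0 < T.a y (v j) → 1 ≤ j ∧ j + 1 < k := by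
      intro j y hj hy hya
      refine ⟨?_, ?_⟩
      · by_contra hc
        obtain rfl : j = 0 := by omega
        have := hmax _ _ (hv.cons (hall y) hy hya)
        omega
      · by_contra hc
        have := hmax _ _ (hv.rev.cons (hall y) (fun t ht => hy _ (by omega))
          (by rw [Nat.sub_zero, show k - 1 = j by omega]; exact hya))
        omega
    obtain ⟨hi1, hi2⟩ := hends hik hx hxi
    by_cases hy : ∃ j y, j < k ∧ (∀ t, t < k → y ≠ v t) ∧ y ≠ x ∧ 0 < T.a y (v j)
    · -- two indices attached to the chain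
      obtain ⟨j, y, hjk, hy, hyx, hyj⟩ := hy
      obtain ⟨hj1, hj2⟩ := hends hjk hy hyj
      have hwlog : ∀ {i j : ℕ} {x y : Fin n}, i ≤ j → 1 ≤ i → j + 1 < k → (∀ t, t < k → x ≠ v t) → (∀ t, t < k → y ≠ v t) →
          x ≠ y → 0 < T.a x (v i) → 0 < T.a y (v j) → 5 ≤ n ∧ Fits T (mFork n) mCycle (eFork n) := by
        intro i j x y hij hi hj hx hy hxy hxi hyj
        refine fits_fork hall (k := j - i + 3) (by omega) (hv.sub (e := i - 1) (by omega))
          (fun t ht => hx _ (by omega)) (fun t ht => hy _ (by omega)) hxy ?_ ?_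
        · rw [show i - 1 + 1 = i by omega]; exact hxi
        · rw [show i - 1 + (j - i + 3 - 2) = j by omega]; exact hyj
      rcases le_total i j with c | c
      · have := hwlog c hi1 hj2 hx hy hyx.symm hxi hyj; tauto
      · have := hwlog c hj1 hi2 hy hx hyx hyj hxi; tauto
    · push Not at hy
      have honly : ∀ p, p < k → p ≠ i → T.a x (v p) = 0 := fun p hp hpi => by
        by_contra hne
        exact hpi (honce hv x hx p i hp hik (offdiag_pos T (hx p hp) hne) hxi)
      by_cases hlast : ∃ z, (∀ t, t < k → z ≠ v t) ∧ z ≠ x ∧ 0 < T.a z x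
      · -- the third arm has length two
        obtain ⟨z, hz, hzx, hza⟩ := hlast
        have hc2 : Chain T (k - i) fun t => v (i + t) := hv.sub (by omega)
        have h1 := hmax _ _ ((hc2.cons (hall x) (fun t ht => hx _ (by omega)) (by rw [Nat.add_zero]; exact hxi)).cons (hall z)
          (fun t ht => by
            split_ifs
            · exact hzx
            · exact hz _ (by omega)) (by simpa using hza))
        have hc3 : Chain T (i + 1) fun t => v (i + 1 - 1 - t) := by
          have := (hv.sub (e := 0) (l := i + 1) (by omega)).rev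
          simpa using this
        have h2 := hmax _ _ ((hc3.cons (hall x) (fun t ht => hx _ (by omega))
          (by rw [Nat.sub_zero, Nat.add_sub_cancel]; exact hxi)).cons (hall z)
          (fun t ht => by
            split_ifs
            · exact hzx
            · exact hz _ (by omega)) (by simpa using hza))
        let u : ℕ → Fin n := fun t => if t = 5 then z else if t = 6 then x else if t = 3 then v (i + 2) else
          if t = 4 then v (i + 1) else v (i - 2 + t)
        have ux : ∀ t, t = 6 → u t = x := fun t e => by simp [u, e]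
        have uz : ∀ t, t = 5 → u t = z := fun t e => by simp [u, e]
        have := fits_e6 hall (u := u) (fun a b ha hb e => by
            have key : ∀ t, t < 5 → ∃ s, s < k ∧ u t = v s ∧ (s + t = i + 5 ∧ 3 ≤ t ∨ s + 2 = i + t ∧ t ≤ 2) := by
              intro t ht
              rcases (show t = 3 ∨ t = 4 ∨ t ≤ 2 by omega) with c | c | c
              · exact ⟨i + 2, by omega, by simp [u, c], by omega⟩
              · exact ⟨i + 1, by omega, by simp [u, c], by omega⟩
              · exact ⟨i - 2 + t, by omega, by simp [u, show t ≠ 5 by omega, show t ≠ 6 by omega, show t ≠ 3 by omega,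
                  show t ≠ 4 by omega], by omega⟩
            rcases (show a < 5 ∨ a = 5 ∨ a = 6 by omega) with ca | ca | ca <;>
              rcases (show b < 5 ∨ b = 5 ∨ b = 6 by omega) with cb | cb | cb
            · obtain ⟨s, hs, es, fs⟩ := key a ca
              obtain ⟨r, hr, er, fr⟩ := key b cb
              rw [es, er] at e
              have := hv.inj _ _ hs hr e
              omega
            · obtain ⟨s, hs, es, -⟩ := key a ca
              rw [es, uz b cb] at e; exact absurd e.symm (hz s hs)
            · obtain ⟨s, hs, es, -⟩ := key a ca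
              rw [es, ux b cb] at e; exact absurd e.symm (hx s hs)
            · obtain ⟨s, hs, es, -⟩ := key b cb
              rw [es, uz a ca] at e; exact absurd e (hz s hs)
            · omega
            · rw [uz a ca, ux b cb] at e; exact absurd e hzx
            · obtain ⟨s, hs, es, -⟩ := key b cb
              rw [es, ux a ca] at e; exact absurd e (hx s hs)
            · rw [ux a ca, uz b cb] at e; exact absurd e.symm hzx
            · omega)
          (by show 0 < T.a (v (i - 2 + 0)) (v (i - 2 + 1)); exact hv.adj (i - 2) (by omega))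
          (by show 0 < T.a (v (i - 2 + 1)) (v (i - 2 + 2)); exact hv.adj (i - 2 + 1) (by omega))
          (by show 0 < T.a (v (i + 2)) (v (i + 1)); exact (hv.adj' (by omega) rfl).2)
          (by show 0 < T.a (v (i - 2 + 2)) (v (i + 1)); rw [show i - 2 + 2 = i by omega]; exact hv.adj i hi2)
          (by show 0 < T.a z x; exact hza)
          (by show 0 < T.a (v (i - 2 + 2)) x; rw [show i - 2 + 2 = i by omega, a_symm]; exact hxi)
        tauto
      · -- the third arm is a single index: nothing else is left
        push Not at hlast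
        have hlen : k + 1 = n := by
          by_contra hne
          have hU : insert x ((range k).image v) ≠ univ := fun e => by
            have := congrArg Finset.card e
            rw [card_univ, Fintype.card_fin] at this
            have := card_insert_le x ((range k).image v)
            have := card_image_le (s := range k) (f := v)
            rw [card_range] at this
            omega
          obtain ⟨p, hp, y, hy', ha⟩ := T.connected _ ⟨x, mem_insert_self _ _⟩ hU
          simp only [mem_insert, not_or] at hy'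
          obtain ⟨hyx, hyv⟩ := hy'
          have hyo : ∀ t, t < k → y ≠ v t := fun t ht e => hyv (mem_image.2 ⟨t, mem_range.2 ht, e.symm⟩)
          rcases mem_insert.1 hp with rfl | hp
          · exact absurd (offdiag_pos T hyx (by rwa [a_symm])) (not_lt.2 (hlast y hyo hyx))
          · obtain ⟨t, ht, rfl⟩ := mem_image.1 hp
            exact absurd (offdiag_pos T (hyo t (mem_range.1 ht)) (by rwa [a_symm]))
              (not_lt.2 (hy t y (mem_range.1 ht) hyo hyx))
        have := fits_tee hall (i := i) ⟨hv, hx, hlen, hi1, hi2, hxi, honly, hflat hv⟩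
        tauto

end NumTypeLib
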