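/-
Numerical types: genus bookkeeping.
-/
import Groth.Agent.Lib.NumTypeBasic

set_option autoImplicit false

open Finset

namespace NumTypeLib

variable {n : ℕ} (T : Models.NumericalType n)

lemma even_diag : (2 : ℤ) ∣ ∑ i, T.m i * T.a i i := by
  classical
  set f : Fin n → Fin n → ℤ := fun i j => T.a i j * T.m i * T.m j with hf
  have h0 : ∑ i, ∑ j, f i j = 0 := by
    refine sum_eq_zero fun i _ => ?_
    have : ∑ j, f i j = T.m i * ∑ j, T.a i j * T.m j := by
      rw [mul_sum]; exact sum_congr rfl fun j _ => by simp only [hf]; ring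
    rw [this, row, mul_zero]
  have hfs : ∀ i j, f i j = f j i := fun i j => by simp only [hf]; rw [a_symm T i j]; ring
  have hsplit : ∀ i j, f i j =
      (if i < j then f i j else 0) + (if j < i then f i j else 0) + (if j = i then f i j else 0) := by
    intro i j
    rcases lt_trichotomy i j with h | h | h
    · simp [h, h.ne', h.asymm]
    · simp [h]
    · simp [h, h.ne, h.asymm]
  have h1 : ∑ i, ∑ j, (if j < i then f i j else 0) = ∑ i, ∑ j, (if i < j then f i j else 0) := by
    rw [sum_comm]
    exact sum_congr rfl fun i _ => sum_congr rfl fun j _ => by rw [hfs]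
  have h2 : ∑ i, ∑ j, (if j = i then f i j else 0) = ∑ i, f i i := sum_congr rfl fun i _ => by simp
  have h3 : 2 * ∑ i, ∑ j, (if i < j then f i j else 0) + ∑ i, f i i = 0 := by
    rw [sum_congr rfl fun i _ => sum_congr rfl fun j _ => hsplit i j] at h0
    simp only [sum_add_distrib, h1, h2] at h0
    linarith
  have h4 : (2 : ℤ) ∣ ∑ i, f i i := ⟨-∑ i, ∑ j, (if i < j then f i j else 0), by linarith⟩
  have h5 : (2 : ℤ) ∣ ∑ i, (f i i - T.m i * T.a i i) := dvd_sum fun i _ => by
    have : f i i - T.m i * T.a i i = T.a i i * ((T.m i - 1) * ((T.m i - 1) + 1)) := by simp only [hf]; ring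
    rw [this]
    exact dvd_mul_of_dvd_right (Int.even_mul_succ_self _).two_dvd _
  rw [sum_sub_distrib] at h5
  simpa using dvd_sub h4 h5

/-- The contribution of an index to `2g - 2`. -/
def term (i : Fin n) : ℤ := T.m i * (2 * T.w i * (T.g i - 1) - T.a i i)

lemma two_genus : 2 * (T.genus - 1) = ∑ i, term T i := by
  have h1 : ∑ i, term T i = 2 * (∑ i, T.m i * T.w i * (T.g i - 1)) - ∑ i, T.m i * T.a i i := by
    rw [mul_sum, ← sum_sub_distrib]
    exact sum_congr rfl fun i _ => by simp only [term]; ring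
  obtain ⟨q, hq⟩ := even_diag T
  rw [h1, Models.NumericalType.genus, hq]
  omega

lemma diag_le (hn : 1 < n) (i : Fin n) : T.w i ≤ -T.a i i :=
  Int.le_of_dvd (by linarith [diag_neg T hn i]) ((T.w_dvd i i).neg_right)

lemma minusOne_of_neg (hn : 1 < n) (i : Fin n) (h : term T i < 0) : T.IsMinusOne i := by
  have hw := T.w_pos i
  have hd := diag_le T hn i
  have h' : 2 * T.w i * (T.g i - 1) - T.a i i < 0 := by
    by_contra hc
    exact absurd (mul_nonneg (T.m_pos i).le (not_lt.1 hc)) (not_le.2 h)
  have hg : T.g i = 0 := by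
    by_contra hg
    have := T.g_nonneg i
    have : 0 ≤ 2 * T.w i * (T.g i - 1) := mul_nonneg (by linarith) (by omega)
    linarith
  refine ⟨hg, ?_⟩
  rw [hg] at h'
  obtain ⟨q, hq⟩ := T.w_dvd i i
  have hq1 : q ≤ -1 := by by_contra hc; nlinarith [mul_nonneg hw.le (show (0 : ℤ) ≤ q by omega)]
  have hq2 : -1 ≤ q := by by_contra hc; nlinarith [mul_le_mul_of_nonneg_left (show q ≤ -2 by omega) hw.le]
  rw [hq, show q = -1 by omega, mul_neg_one]

lemma minusTwo_of_zero (hn : 1 < n) (i : Fin n) (h : term T i = 0) : T.IsMinusTwo i := by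
  have hw := T.w_pos i
  have hd := diag_le T hn i
  have h' : 2 * T.w i * (T.g i - 1) - T.a i i = 0 := (mul_eq_zero.1 h).resolve_left (T.m_pos i).ne'
  have hg : T.g i = 0 := by
    by_contra hg
    have := T.g_nonneg i
    have : 0 ≤ 2 * T.w i * (T.g i - 1) := mul_nonneg (by linarith) (by omega)
    linarith
  exact ⟨hg, by rw [hg] at h'; linarith⟩

lemma term_nonneg (hn : 1 < n) (hmin : T.IsMinimal) (i : Fin n) : 0 ≤ term T i :=
  not_lt.1 fun h => hmin i (minusOne_of_neg T hn i h)

lemma one_le_genus (hn : 1 < n) (hmin : T.IsMinimal) : 1 ≤ T.genus := by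
  have := two_genus T
  have := sum_nonneg fun i (_ : i ∈ univ) => term_nonneg T hn hmin i
  linarith

/-- On a minimal type of genus one with more than one index all indices are `(-2)`-indices. -/
lemma all_minusTwo (hn : 1 < n) (hmin : T.IsMinimal) (hg : T.genus = 1) (i : Fin n) : T.IsMinusTwo i := by
  refine minusTwo_of_zero T hn i ?_
  have h := two_genus T
  rw [hg] at h
  exact (sum_eq_zero_iff_of_nonneg fun j _ => term_nonneg T hn hmin j).1 (by linarith) i (mem_univ i)

lemma term_one_le (hn : 1 < n) (hmin : T.IsMinimal) (i : Fin n) (h : ¬T.IsMinusTwo i) : 1 ≤ term T i := by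
  rcases lt_or_eq_of_le (term_nonneg T hn hmin i) with h1 | h1
  · omega
  · exact absurd (minusTwo_of_zero T hn i h1.symm) h

lemma term_le (hn : 1 < n) (hmin : T.IsMinimal) (i : Fin n) : term T i ≤ 2 * T.genus - 2 := by
  have := two_genus T
  have := single_le_sum (fun j _ => term_nonneg T hn hmin j) (mem_univ i)
  linarith

end NumTypeLib
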