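/-
Jacobson's formula, the cocycle identity of Jacobson's sum, and p-maps prescribed on a basis.
-/
import Groth.Prelude.Def_PLie
import Mathlib.Algebra.Polynomial.Derivative
import Mathlib.Algebra.Polynomial.AlgebraMap
import Mathlib.Algebra.CharP.Lemmas
import Mathlib.Algebra.Field.ZMod
import Mathlib.Data.Nat.Choose.Dvd
import Mathlib.Algebra.Algebra.Bilinear
import Mathlib.Tactic.LinearCombination
import Mathlib.Tactic.Abel

set_option autoImplicit false
set_option linter.unusedSectionVars false

universe u v w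

open Finset Polynomial

namespace PLieJacobson

/-- The number of entries `false`. -/
def cf {n : ℕ} (t : Fin n → Bool) : ℕ := Fintype.card {i // t i = false}

lemma cf_le {n : ℕ} (t : Fin n → Bool) : cf t ≤ n :=
  (Fintype.card_subtype_le _).trans (le_of_eq (Fintype.card_fin n))

lemma cf_cons {n : ℕ} (b : Bool) (t : Fin n → Bool) :
    cf (Fin.cons b t) = (if b = false then 1 else 0) + cf t := by
  simp only [cf, Fintype.card_subtype, card_filter]
  rw [Fin.sum_univ_succ]
  simp

lemma sum_cons {M : Type*} [AddCommMonoid M] {n : ℕ} (f : (Fin (n + 1) → Bool) → M) :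
    ∑ t, f t = ∑ t : Fin n → Bool, f (Fin.cons false t) + ∑ t : Fin n → Bool, f (Fin.cons true t) := by
  rw [← (Fin.consEquiv fun _ : Fin (n + 1) => Bool).sum_comp f, Fintype.sum_prod_type, Fintype.sum_bool, add_comm]
  rfl

lemma choose_pred_mul {S : Type*} [Ring S] {p : ℕ} [hp : Fact p.Prime] [CharP S p] :
    ∀ i, i < p → ((Nat.choose (p - 1) i : S)) = (-1) ^ i
  | 0, _ => by simp
  | i + 1, hi => by
    have h := choose_pred_mul (S := S) i (by omega)
    have h2 : ((Nat.choose p (i + 1) : S)) = 0 :=
      (CharP.cast_eq_zero_iff S p _).2 (Nat.Prime.dvd_choose_self hp.out (by omega) hi)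
    have h3 : Nat.choose p (i + 1) = Nat.choose (p - 1) i + Nat.choose (p - 1) (i + 1) := by
      obtain ⟨m, rfl⟩ : ∃ m, p = m + 1 := ⟨p - 1, by omega⟩
      exact Nat.choose_succ_succ' m i
    rw [h3, Nat.cast_add, h, add_comm, add_eq_zero_iff_eq_neg] at h2
    rw [h2, pow_succ]
    simp

/-- `(L - R)^{p-1} = ∑ L^i R^{p-1-i}` in characteristic `p`. -/
lemma sub_pow_pred {S : Type*} [Ring S] {p : ℕ} [hp : Fact p.Prime] [CharP S p] {l r : S} (h : Commute l r) :
    (l - r) ^ (p - 1) = ∑ i ∈ range p, l ^ i * r ^ (p - 1 - i) := by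
  rw [sub_eq_add_neg, h.neg_right.add_pow, show p - 1 + 1 = p by have := hp.out.one_lt; omega]
  refine sum_congr rfl fun i hi => ?_
  rw [mem_range] at hi
  rw [neg_pow r, choose_pred_mul i hi, mul_assoc]
  have hsign : ((-1 : S)) ^ (p - 1) = 1 := by
    rcases hp.out.eq_two_or_odd with h2 | h2
    · subst h2
      have : ((2 : ℕ) : S) = 0 := CharP.cast_eq_zero S 2
      rw [pow_one, neg_eq_iff_add_eq_zero]
      simpa [one_add_one_eq_two] using this
    · exact (Nat.even_iff.2 (by omega)).neg_one_pow
  congr 1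
  rw [((Commute.neg_one_left r).pow_pow (p - 1 - i) (p - 1 - i)).eq, mul_assoc, ← pow_add,
    show p - 1 - i + i = p - 1 by omega, hsign, mul_one]

lemma derivative_pow' {A : Type*} [Ring A] (f : A[X]) : ∀ n : ℕ,
    derivative (f ^ n) = ∑ i ∈ range n, f ^ i * derivative f * f ^ (n - 1 - i)
  | 0 => by simp
  | n + 1 => by
    rw [pow_succ, derivative_mul, derivative_pow' f n, sum_range_succ, sum_mul, show n + 1 - 1 - n = 0 by omega,
      pow_zero, mul_one]
    congr 1
    refine sum_congr rfl fun i hi => ?_
    rw [mem_range] at hi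
    rw [show n + 1 - 1 - i = n - 1 - i + 1 by omega, pow_succ]
    simp only [mul_assoc]

section assoc

variable {A : Type*} [Ring A]

attribute [local instance] LieRing.ofAssociativeRing

lemma ad_pow_expand (a b : A) : ∀ n : ℕ,
    ((fun z : A[X] => (C a * X + C b) * z - z * (C a * X + C b))^[n]) (C b) =
      ∑ t : Fin n → Bool, C (PLie.bracketWord (PLie.pair a b) b (List.ofFn t)) * X ^ cf t
  | 0 => by simp [cf]
  | n + 1 => by
    rw [Function.iterate_succ_apply', ad_pow_expand a b n, sum_cons, mul_sum, sum_mul, ← sum_sub_distrib,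
      ← sum_add_distrib]
    exact sum_congr rfl fun t _ => step a b t
where
  step (a b : A) {n : ℕ} (t : Fin n → Bool) :
    (C a * X + C b) * (C (PLie.bracketWord (PLie.pair a b) b (List.ofFn t)) * X ^ cf t) -
        C (PLie.bracketWord (PLie.pair a b) b (List.ofFn t)) * X ^ cf t * (C a * X + C b) =
      C (PLie.bracketWord (PLie.pair a b) b (List.ofFn (Fin.cons false t : Fin (n + 1) → Bool))) *
          X ^ cf (Fin.cons false t : Fin (n + 1) → Bool) +
        C (PLie.bracketWord (PLie.pair a b) b (List.ofFn (Fin.cons true t : Fin (n + 1) → Bool))) *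
          X ^ cf (Fin.cons true t : Fin (n + 1) → Bool) := by
    simp only [List.ofFn_succ, Fin.cons_zero, Fin.cons_succ, PLie.bracketWord_cons, cf_cons, PLie.pair,
      Bool.false_eq_true, if_false, if_true, reduceCtorEq, zero_add, LieRing.of_associative_ring_bracket]
    simp only [C_mul_X_pow_eq_monomial, C_mul_X_eq_monomial]
    rw [← monomial_zero_left]
    simp only [add_mul, mul_add, monomial_mul_monomial, zero_add, add_zero, map_sub, add_comm 1 (cf t)]
    abel

/-- Jacobson's formula. -/
theorem jacobson_formula {R : Type*} [CommRing R] {p : ℕ} [hp : Fact p.Prime] [CharP R p] [Algebra R A] (a b : A) :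
    (a + b) ^ p = a ^ p + b ^ p - PLie.jacobson R p a b := by
  classical
  rcases subsingleton_or_nontrivial A with hA | hA
  · exact Subsingleton.elim _ _
  haveI : CharP A p := by
    refine (CharP.charP_iff_prime_eq_zero hp.out).2 ?_
    rw [← map_natCast (algebraMap R A), CharP.cast_eq_zero, map_zero]
  set f : A[X] := C a * X + C b with hf
  set P := f ^ p with hP
  set Q := ((fun z : A[X] => f * z - z * f)^[p - 1]) (C b) with hQ
  have hd : derivative f = C a := by simp [hf]
  haveI : CharP (Module.End ℤ A[X]) p := by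
    refine (CharP.charP_iff_prime_eq_zero hp.out).2 ?_
    ext z
    rw [Module.End.natCast_apply, LinearMap.zero_apply, nsmul_eq_mul, CharP.cast_eq_zero, zero_mul]
  have had : ∀ z : A[X], ((fun z : A[X] => f * z - z * f)^[p - 1]) z = ∑ i ∈ range p, f ^ i * z * f ^ (p - 1 - i) := by
    intro z
    have h1 := congrArg (fun e : Module.End ℤ A[X] => e z)
      (sub_pow_pred (S := Module.End ℤ A[X]) (p := p) (LinearMap.commute_mulLeft_right f f))
    simp only [LinearMap.coe_sum, Finset.sum_apply, Module.End.mul_apply, LinearMap.pow_mulLeft, LinearMap.pow_mulRight,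
      LinearMap.mulLeft_apply, LinearMap.mulRight_apply, ← mul_assoc] at h1
    rw [← h1, Module.End.pow_apply]
    rfl
  have hXQ : derivative P * X = -Q := by
    have h0 : ∑ i ∈ range p, f ^ i * f * f ^ (p - 1 - i) = 0 := by
      rw [sum_congr rfl fun i hi => show f ^ i * f * f ^ (p - 1 - i) = f ^ p by
          rw [← pow_succ, ← pow_add]; congr 1; have := mem_range.1 hi; omega,
        sum_const, card_range, nsmul_eq_mul, CharP.cast_eq_zero, zero_mul]
    rw [eq_neg_iff_add_eq_zero, ← h0, hP, derivative_pow', hd, hQ, had, sum_mul, ← sum_add_distrib]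
    refine sum_congr rfl fun i _ => ?_
    rw [show f ^ i * f * f ^ (p - 1 - i) = f ^ i * (C a * X + C b) * f ^ (p - 1 - i) from by rw [← hf], mul_add, add_mul]
    congr 1
    simp only [mul_assoc, X_mul (p := f ^ (p - 1 - i))]
  have hP0 : P.coeff 0 = b ^ p := by
    rw [coeff_zero_eq_eval_zero, hP]
    have : ∀ n, (f ^ n).coeff 0 = b ^ n := by
      intro n
      induction n with
      | zero => simp
      | succ n ih => rw [pow_succ, mul_coeff_zero, ih, pow_succ, hf]; simp
    rw [← coeff_zero_eq_eval_zero]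
    exact this p
  have hnd : f.natDegree ≤ 1 := by
    rw [hf]
    exact natDegree_linear_le
  have hdeg : ∀ n, (f ^ n).natDegree ≤ n := fun n => natDegree_pow_le.trans (by nlinarith)
  have hPp : P.coeff p = a ^ p := by
    have : ∀ n, (f ^ n).coeff n = a ^ n := by
      intro n
      induction n with
      | zero => simp
      | succ n ih =>
        rw [pow_succ, coeff_mul_add_eq_of_natDegree_le (hdeg n) hnd, ih, pow_succ, hf]
        simp
    exact this p
  have hq : ∀ r : ℕ, (r : A) * P.coeff r = -Q.coeff r := by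
    intro r
    rw [← coeff_neg, ← hXQ]
    cases r with
    | zero => simp
    | succ r =>
      rw [coeff_mul_X, coeff_derivative]
      push_cast
      exact ((Nat.cast_commute r _).add_left (Commute.one_left _)).eq
  let ι : ZMod p →+* A := (algebraMap R A).comp (ZMod.castHom (dvd_refl p) R)
  have hr : ∀ r : ℕ, 1 ≤ r → r < p → P.coeff r = -(ι ((r : ZMod p)⁻¹) * Q.coeff r) := by
    intro r h1 h2
    have hne : (r : ZMod p) ≠ 0 := fun h => by
      rw [ZMod.natCast_eq_zero_iff] at h
      exact absurd (Nat.le_of_dvd h1 h) (by omega)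
    rw [← mul_neg, ← hq, ← mul_assoc, ← map_natCast ι, ← map_mul, inv_mul_cancel₀ hne, map_one, one_mul]
  have hQs : PLie.jacobson R p a b = ∑ r ∈ range p, ι ((r : ZMod p)⁻¹) * Q.coeff r := by
    rw [hQ, hf, ad_pow_expand, PLie.jacobson]
    simp only [finsetSum_coeff, coeff_C_mul_X_pow, mul_sum, mul_ite, mul_zero]
    rw [sum_comm]
    refine sum_congr rfl fun t _ => ?_
    rw [sum_ite_eq' (range p) (cf t), if_pos (mem_range.2 (lt_of_le_of_lt (cf_le t) (by have := hp.out.one_lt; omega))),
      Algebra.smul_def]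
    rfl
  have hsum : (a + b) ^ p = ∑ r ∈ range (p + 1), P.coeff r := by
    let ev : A[X] →+* A := eval₂RingHom' (RingHom.id A) 1 (fun x => Commute.one_right x)
    have h1 : (a + b) ^ p = ev P := by
      rw [hP, map_pow, hf]
      simp [ev]
    rw [h1]
    show eval₂ (RingHom.id A) 1 P = _
    rw [eval₂_eq_sum_range' (RingHom.id A) (Nat.lt_succ_of_le (hdeg p)) (1 : A)]
    simp [P]
  rw [hsum, sum_range_succ, hPp, hQs]
  rw [show range p = insert 0 (Finset.Ico 1 p) by
    ext r; simp only [mem_range, mem_insert, mem_Ico]; have := hp.out.one_lt; omega]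
  rw [sum_insert (by simp), sum_insert (by simp), hP0, Nat.cast_zero, inv_zero, map_zero, zero_mul, zero_add,
    sum_congr rfl fun r hr' => hr r (mem_Ico.1 hr').1 (mem_Ico.1 hr').2, sum_neg_distrib]
  abel

end assoc

end PLieJacobson
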