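/-
The cocycle identity of Jacobson's sum and p-maps prescribed on a basis.
-/
import Groth.Agent.Lib.PLieJacobson
import Mathlib.Algebra.Lie.BaseChange
import Mathlib.RingTheory.PolynomialAlgebra
import Mathlib.LinearAlgebra.Basis.Basic
import Mathlib.LinearAlgebra.TensorProduct.Basic
import Mathlib.Algebra.Algebra.Bilinear
import Mathlib.Tactic.LinearCombination
import Mathlib.Tactic.Abel

set_option autoImplicit false
set_option linter.unusedSectionVars false

universe u v w

open Finset Polynomial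
open scoped TensorProduct

namespace PLieJacobson

section lie

variable {R : Type u} [CommRing R] {p : ℕ} [hp : Fact p.Prime] [CharP R p]
variable {L : Type v} [LieRing L] [LieAlgebra R L]

lemma map_bracketWord {L' : Type w} [LieRing L'] [LieAlgebra R L'] (f : L →ₗ⁅R⁆ L') (x y z : L) (l : List Bool) :
    f (PLie.bracketWord (PLie.pair x y) z l) = PLie.bracketWord (PLie.pair (f x) (f y)) (f z) l := by
  induction l with
  | nil => rfl
  | cons i l ih => cases i <;> simp [PLie.pair, ih]

lemma map_jacobson {L' : Type w} [LieRing L'] [LieAlgebra R L'] (f : L →ₗ⁅R⁆ L') (x y : L) :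
    f (PLie.jacobson R p x y) = PLie.jacobson R p (f x) (f y) := by
  simp [PLie.jacobson, map_bracketWord]

lemma bracketWord_smul (c : R) (x y : L) : ∀ l : List Bool,
    PLie.bracketWord (PLie.pair (c • x) (c • y)) (c • y) l = c ^ (l.length + 1) • PLie.bracketWord (PLie.pair x y) y l
  | [] => by simp
  | i :: l => by
    rw [PLie.bracketWord_cons, PLie.bracketWord_cons, bracketWord_smul c x y l, lie_smul]
    cases i <;> simp [PLie.pair, smul_smul, pow_succ]

lemma jacobson_smul (c : R) (x y : L) : PLie.jacobson R p (c • x) (c • y) = c ^ p • PLie.jacobson R p x y := by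
  simp only [PLie.jacobson, smul_sum]
  refine sum_congr rfl fun t _ => ?_
  rw [bracketWord_smul, List.length_ofFn, show p - 1 + 1 = p by have := hp.out.one_lt; omega, smul_comm]

lemma bracketWord_zero_right (x : Bool → L) : ∀ l : List Bool, PLie.bracketWord x (0 : L) l = 0
  | [] => rfl
  | i :: l => by rw [PLie.bracketWord_cons, bracketWord_zero_right x l, lie_zero]

lemma jacobson_zero_right (x : L) : PLie.jacobson R p x (0 : L) = 0 := by
  simp [PLie.jacobson, bracketWord_zero_right]

lemma jacobson_zero_left (y : L) : PLie.jacobson R p (0 : L) y = 0 := by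
  refine sum_eq_zero fun t _ => ?_
  by_cases h : ∃ i, t i = false
  · obtain ⟨i, hi⟩ := h
    have : ∀ l : List Bool, false ∈ l → PLie.bracketWord (PLie.pair (0 : L) y) y l = 0 := by
      intro l
      induction l with
      | nil => simp
      | cons j l ih =>
        intro hj
        cases j
        · simp [PLie.pair]
        · rw [PLie.bracketWord_cons, ih (by simpa using hj), lie_zero]
    rw [this _ (List.mem_ofFn.2 ⟨i, hi⟩), smul_zero]
  · have : IsEmpty {i // t i = false} := ⟨fun i => h ⟨i.1, i.2⟩⟩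
    simp

lemma jacobson_parallel (c d : R) (x : L) : PLie.jacobson R p (c • x) (d • x) = 0 := by
  refine sum_eq_zero fun t _ => ?_
  have h : ∀ l : List Bool, l ≠ [] → PLie.bracketWord (PLie.pair (c • x) (d • x)) (d • x) l = 0 := by
    intro l
    induction l with
    | nil => simp
    | cons j l ih =>
      intro _
      rcases l with _ | ⟨k, l⟩
      · cases j <;> simp [PLie.pair]
      · rw [PLie.bracketWord_cons, ih (by simp), lie_zero]
  rw [h _ (by have := hp.out.one_lt; simp; omega), smul_zero]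

/-- The two identities as one family. -/
noncomputable def Φ (R : Type u) [CommRing R] (p : ℕ) [CharP R p] {L : Type v} [LieRing L] [LieAlgebra R L]
    (s : Bool) (x y z : L) : L :=
  if s then PLie.jacobson R p x y + PLie.jacobson R p (x + y) z - PLie.jacobson R p y z - PLie.jacobson R p x (y + z)
  else PLie.jacobson R p x y - PLie.jacobson R p y x

lemma map_Φ {L' : Type w} [LieRing L'] [LieAlgebra R L'] (f : L →ₗ⁅R⁆ L') (s : Bool) (x y z : L) :
    f (Φ R p s x y z) = Φ R p s (f x) (f y) (f z) := by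
  cases s <;> simp [Φ, map_jacobson]

lemma Φ_smul (c : R) (s : Bool) (x y z : L) : Φ R p s (c • x) (c • y) (c • z) = c ^ p • Φ R p s x y z := by
  cases s <;> simp [Φ, ← smul_add, jacobson_smul, smul_sub]

lemma Φ_zero_left (s : Bool) (y z : L) : Φ R p s (0 : L) y z = 0 := by
  cases s <;> simp [Φ, jacobson_zero_left, jacobson_zero_right]

lemma Φ_zero_right (s : Bool) (x : L) : Φ R p s x (0 : L) 0 = 0 := by
  cases s <;> simp [Φ, jacobson_zero_left, jacobson_zero_right]

attribute [local instance] LieRing.ofAssociativeRing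

lemma Φ_rep {A : Type w} [Ring A] [Algebra R A] (ρ : L →ₗ⁅R⁆ A) (s : Bool) (x y z : L) : ρ (Φ R p s x y z) = 0 := by
  have J : ∀ a b : A, PLie.jacobson R p a b = a ^ p + b ^ p - (a + b) ^ p := fun a b => by
    rw [jacobson_formula (R := R) (p := p) a b]; abel
  rw [map_Φ]
  cases s
  · simp only [Φ, J, Bool.false_eq_true, if_false, add_comm (ρ y) (ρ x)]; abel
  · simp only [Φ, J, if_true, add_assoc]; abel

@[simp] lemma t_add_lie (a b c : R[X] ⊗[R] L) : ⁅a + b, c⁆ = ⁅a, c⁆ + ⁅b, c⁆ := add_lie a b c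
@[simp] lemma t_lie_add (a b c : R[X] ⊗[R] L) : ⁅a, b + c⁆ = ⁅a, b⁆ + ⁅a, c⁆ := lie_add a b c
@[simp] lemma t_zero_lie (a : R[X] ⊗[R] L) : ⁅(0 : R[X] ⊗[R] L), a⁆ = 0 := zero_lie a
@[simp] lemma t_lie_zero (a : R[X] ⊗[R] L) : ⁅a, (0 : R[X] ⊗[R] L)⁆ = 0 := lie_zero a
@[simp] lemma t_smul_lie (r : R) (a b : R[X] ⊗[R] L) : ⁅r • a, b⁆ = r • ⁅a, b⁆ := smul_lie r a b
@[simp] lemma t_lie_smul (r : R) (a b : R[X] ⊗[R] L) : ⁅a, r • b⁆ = r • ⁅a, b⁆ := lie_smul r a b

@[simp] lemma t_lie_sub (a b c : R[X] ⊗[R] L) : ⁅a, b - c⁆ = ⁅a, b⁆ - ⁅a, c⁆ := lie_sub a b c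
lemma t_lie_lie (a b c : R[X] ⊗[R] L) : ⁅⁅a, b⁆, c⁆ = ⁅a, ⁅b, c⁆⁆ - ⁅b, ⁅a, c⁆⁆ := lie_lie a b c
lemma t_skew (a b : R[X] ⊗[R] L) : ⁅a, b⁆ = -⁅b, a⁆ := (lie_skew a b).symm

/-- The Euler derivation of `R[X] ⊗ L`. -/
noncomputable def eu (R : Type u) [CommRing R] (L : Type v) [LieRing L] [LieAlgebra R L] :
    R[X] ⊗[R] L →ₗ[R] R[X] ⊗[R] L :=
  LinearMap.rTensor L ((LinearMap.mulLeft R (X : R[X])) ∘ₗ derivative)

lemma eu_tmul (a : R[X]) (x : L) : eu R L (a ⊗ₜ x) = (X * derivative a) ⊗ₜ x := by simp [eu]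

lemma eu_lie (u v : R[X] ⊗[R] L) : eu R L ⁅u, v⁆ = ⁅eu R L u, v⁆ + ⁅u, eu R L v⁆ := by
  induction u using TensorProduct.induction_on with
  | zero => simp
  | add a b ha hb => simp only [t_add_lie, map_add, ha, hb]; abel
  | tmul a x =>
    induction v using TensorProduct.induction_on with
    | zero => simp
    | add c d hc hd => simp only [t_lie_add, map_add, hc, hd]; abel
    | tmul b y =>
      simp only [eu_tmul, LieAlgebra.ExtendScalars.bracket_tmul]
      rw [← TensorProduct.add_tmul, derivative_mul]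
      congr 1
      ring

/-- Adjoint action on the extension by the Euler derivation. -/
noncomputable def rep (R : Type u) [CommRing R] (L : Type v) [LieRing L] [LieAlgebra R L] :
    R[X] ⊗[R] L →ₗ⁅R⁆ Module.End R ((R[X] ⊗[R] L) × R) where
  toFun u :=
    { toFun := fun w => (⁅u, w.1⁆ - w.2 • eu R L u, 0)
      map_add' := fun a b => Prod.ext (by simp [add_smul, sub_eq_add_neg]; abel) (by simp)
      map_smul' := fun c a => Prod.ext (by simp [smul_sub, mul_smul]) (by simp) }
  map_add' u v := LinearMap.ext fun w => Prod.ext (by simp [smul_add, sub_eq_add_neg]; abel) (by simp)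
  map_smul' c u := LinearMap.ext fun w => Prod.ext (by simp [smul_sub, smul_comm c]) (by simp)
  map_lie' := by
    intro u v
    refine LinearMap.ext fun w => Prod.ext ?_ ?_
    · simp only [LieRing.of_associative_ring_bracket, LinearMap.coe_mk, AddHom.coe_mk, LinearMap.sub_apply,
        Module.End.mul_apply, Prod.fst_sub, zero_smul, sub_zero, t_lie_sub, t_lie_smul]
      rw [t_lie_lie, eu_lie, smul_add, t_skew (eu R L u) v, smul_neg]
      abel
    · simp [LieRing.of_associative_ring_bracket]

/-- Coefficient of `X ^ n`. -/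
noncomputable def co (R : Type u) [CommRing R] (L : Type v) [LieRing L] [LieAlgebra R L] (n : ℕ) :
    R[X] ⊗[R] L →ₗ[R] L :=
  (TensorProduct.lid R L).toLinearMap ∘ₗ LinearMap.rTensor L (lcoeff R n)

lemma co_tmul (n : ℕ) (a : R[X]) (x : L) : co R L n (a ⊗ₜ x) = a.coeff n • x := by simp [co]

/-- Evaluation at a scalar. -/
noncomputable def ev (L : Type v) [LieRing L] [LieAlgebra R L] (c : R) : R[X] ⊗[R] L →ₗ⁅R⁆ L where
  __ := (TensorProduct.lid R L).toLinearMap ∘ₗ LinearMap.rTensor L (aeval c).toLinearMap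
  map_lie' := by
    intro u v
    simp only [LinearMap.toFun_eq_coe, AddHom.toFun_eq_coe, LinearMap.coe_toAddHom]
    induction u using TensorProduct.induction_on with
    | zero => simp
    | add a b ha hb => simp only [t_add_lie, map_add, ha, hb, add_lie]
    | tmul a x =>
      induction v using TensorProduct.induction_on with
      | zero => simp
      | add a b ha hb => simp only [t_lie_add, map_add, ha, hb, lie_add]
      | tmul b y => simp [smul_smul, mul_comm]

lemma ev_tmul (c : R) (a : R[X]) (x : L) : ev L c (a ⊗ₜ x) = aeval c a • x := by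
  show (TensorProduct.lid R L) ((LinearMap.rTensor L (aeval c).toLinearMap) (a ⊗ₜ x)) = _
  simp

/-- Elements of degree at most `n`. -/
noncomputable def F (R : Type u) [CommRing R] (L : Type v) [LieRing L] [LieAlgebra R L] (n : ℕ) :
    Submodule R (R[X] ⊗[R] L) :=
  Submodule.span R {w | ∃ i ≤ n, ∃ x : L, w = (X ^ i) ⊗ₜ x}

lemma F_lie {a b : ℕ} {u v : R[X] ⊗[R] L} (hu : u ∈ F R L a) (hv : v ∈ F R L b) : ⁅u, v⁆ ∈ F R L (a + b) := by
  induction hu using Submodule.span_induction with
  | zero => simp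
  | add x y _ _ hx hy => rw [t_add_lie]; exact add_mem hx hy
  | smul c x _ hx => rw [t_smul_lie]; exact Submodule.smul_mem _ _ hx
  | mem x hx =>
    obtain ⟨i, hi, x, rfl⟩ := hx
    induction hv using Submodule.span_induction with
    | zero => simp
    | add y z _ _ hy hz => rw [t_lie_add]; exact add_mem hy hz
    | smul c y _ hy => rw [t_lie_smul]; exact Submodule.smul_mem _ _ hy
    | mem y hy =>
      obtain ⟨j, hj, y, rfl⟩ := hy
      rw [LieAlgebra.ExtendScalars.bracket_tmul, ← pow_add]
      exact Submodule.subset_span ⟨i + j, by omega, _, rfl⟩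

lemma F_word {x y : R[X] ⊗[R] L} (hx : x ∈ F R L 1) (hy : y ∈ F R L 1) : ∀ l : List Bool,
    PLie.bracketWord (PLie.pair x y) y l ∈ F R L (l.length + 1)
  | [] => hy
  | i :: l => by
    rw [PLie.bracketWord_cons, List.length_cons, add_comm (l.length + 1) 1]
    refine F_lie ?_ (F_word hx hy l)
    cases i <;> simpa [PLie.pair]

lemma F_jacobson {x y : R[X] ⊗[R] L} (hx : x ∈ F R L 1) (hy : y ∈ F R L 1) :
    PLie.jacobson R p x y ∈ F R L p := by
  refine Submodule.sum_mem _ fun t _ => Submodule.smul_mem _ _ ?_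
  have := F_word hx hy (List.ofFn t)
  rwa [List.length_ofFn, show p - 1 + 1 = p by have := hp.out.one_lt; omega] at this

lemma F_Φ {x y z : R[X] ⊗[R] L} (hx : x ∈ F R L 1) (hy : y ∈ F R L 1) (hz : z ∈ F R L 1) (s : Bool) :
    Φ R p s x y z ∈ F R L p := by
  cases s
  · simp only [Φ, Bool.false_eq_true, if_false]
    exact sub_mem (F_jacobson hx hy) (F_jacobson hy hx)
  · simp only [Φ, if_true]
    exact sub_mem (sub_mem (add_mem (F_jacobson hx hy) (F_jacobson (add_mem hx hy) hz)) (F_jacobson hy hz))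
      (F_jacobson hx (add_mem hy hz))

lemma F_expand {n : ℕ} {u : R[X] ⊗[R] L} (hu : u ∈ F R L n) :
    u = ∑ i ∈ range (n + 1), (X ^ i : R[X]) ⊗ₜ co R L i u := by
  induction hu using Submodule.span_induction with
  | zero => simp
  | add x y _ _ hx hy => simp only [map_add, TensorProduct.tmul_add, sum_add_distrib, ← hx, ← hy]
  | smul c x _ hx => simp only [map_smul, TensorProduct.tmul_smul, ← smul_sum, ← hx]
  | mem x hx =>
    obtain ⟨i, hi, x, rfl⟩ := hx
    rw [sum_eq_single i]
    · simp [co_tmul]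
    · intro j _ hj; simp [co_tmul, coeff_X_pow, hj]
    · exact fun h => absurd (mem_range.2 (by omega)) h

lemma co_eu (n : ℕ) (u : R[X] ⊗[R] L) : co R L n (eu R L u) = (n : R) • co R L n u := by
  induction u using TensorProduct.induction_on with
  | zero => simp
  | add a b ha hb => simp only [map_add, smul_add, ha, hb]
  | tmul a x =>
    rw [eu_tmul, co_tmul, co_tmul, smul_smul]
    congr 1
    cases n with
    | zero => simp
    | succ n => rw [coeff_X_mul, coeff_derivative]; push_cast; ring

/-- Scaling some of the variables scales the identity by `c ^ p`. -/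
lemma Φ_scale (s : Bool) (c : R) (x y z : L) :
    Φ R p s (c • x) y z = c ^ p • Φ R p s x y z ∧ Φ R p s x (c • y) (c • z) = c ^ p • Φ R p s x y z := by
  have main : ∀ a b d : R[X] ⊗[R] L, a ∈ F R L 1 → b ∈ F R L 1 → d ∈ F R L 1 →
      Φ R p s (ev L (0 : R) a) (ev L (0 : R) b) (ev L (0 : R) d) = (0 : L) →
      Φ R p s (ev L c a) (ev L c b) (ev L c d) = c ^ p • Φ R p s (ev L (1 : R) a) (ev L (1 : R) b) (ev L (1 : R) d) := by
    intro a b d ha hb hd h0
    set P := Φ R p s a b d with hP
    have hPF : P ∈ F R L p := F_Φ ha hb hd s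
    have hD : eu R L P = 0 := by
      have h := Φ_rep (rep R L) s a b d
      have h2 := congrArg (fun e : Module.End R ((R[X] ⊗[R] L) × R) => (e (0, 1)).1) h
      simpa [rep, ← hP] using h2
    have hz : ∀ i, 1 ≤ i → i < p → co R L i P = 0 := by
      intro i h1 h2
      have hu : (ZMod.castHom (dvd_refl p) R) ((i : ZMod p)⁻¹) * (i : R) = 1 := by
        have hne : (i : ZMod p) ≠ 0 := fun h => by
          rw [ZMod.natCast_eq_zero_iff] at h
          exact absurd (Nat.le_of_dvd h1 h) (by omega)
        rw [← map_natCast (ZMod.castHom (dvd_refl p) R) i, ← map_mul, inv_mul_cancel₀ hne, map_one]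
      rw [← one_smul R (co R L i P), ← hu, mul_smul, ← co_eu, hD, map_zero, smul_zero]
    have hev : ∀ e : R, ev L e P = co R L 0 P + e ^ p • co R L p P := by
      intro e
      conv_lhs => rw [F_expand hPF]
      rw [map_sum, sum_range_succ, show range p = insert 0 (Finset.Ico 1 p) by
        ext r; simp only [mem_range, mem_insert, mem_Ico]; have := hp.out.one_lt; omega, sum_insert (by simp),
        sum_eq_zero (fun i hi => by rw [hz i (mem_Ico.1 hi).1 (mem_Ico.1 hi).2, TensorProduct.tmul_zero, map_zero])]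
      simp [ev_tmul]
    have hc0 : co R L 0 P = 0 := by
      have := hev 0
      rw [zero_pow hp.out.ne_zero, zero_smul, add_zero] at this
      rw [← this, hP, map_Φ, h0]
    rw [← map_Φ, ← map_Φ, ← hP, hev, hev, hc0, one_pow, one_smul, zero_add, zero_add]
  have hx1 : ∀ w : L, (X : R[X]) ⊗ₜ[R] w ∈ F R L 1 := fun w =>
    Submodule.subset_span ⟨1, le_rfl, w, by rw [pow_one]⟩
  have hx0 : ∀ w : L, (1 : R[X]) ⊗ₜ[R] w ∈ F R L 1 := fun w =>
    Submodule.subset_span ⟨0, Nat.zero_le 1, w, by rw [pow_zero]⟩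
  constructor
  · have := main (X ⊗ₜ x) (1 ⊗ₜ y) (1 ⊗ₜ z) (hx1 x) (hx0 y) (hx0 z) (by simp [ev_tmul, Φ_zero_left])
    simpa [ev_tmul] using this
  · have := main (1 ⊗ₜ x) (X ⊗ₜ y) (X ⊗ₜ z) (hx0 x) (hx1 y) (hx1 z) (by simp [ev_tmul, Φ_zero_right])
    simpa [ev_tmul] using this

lemma Φ_idem (s : Bool) (c : R) (x y z : L) : c ^ (2 * p) • Φ R p s x y z = c ^ p • Φ R p s x y z := by
  rw [← Φ_smul, (Φ_scale s c x (c • y) (c • z)).1, (Φ_scale s c x y z).2, smul_smul, two_mul, pow_add]

theorem Φ_eq_zero (s : Bool) (x y z : L) : Φ R p s x y z = 0 := by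
  have h := Φ_idem (R := R[X]) (p := p) (L := R[X] ⊗[R] L) s (X : R[X]) (1 ⊗ₜ x) (1 ⊗ₜ y) (1 ⊗ₜ z)
  have hJ : ∀ a b : L, PLie.jacobson R[X] p ((1 : R[X]) ⊗ₜ[R] a) ((1 : R[X]) ⊗ₜ[R] b) =
      (1 : R[X]) ⊗ₜ[R] PLie.jacobson R p a b := by
    intro a b
    simp only [PLie.jacobson, TensorProduct.tmul_sum]
    refine sum_congr rfl fun t _ => ?_
    rw [TensorProduct.tmul_smul]
    have hw : ∀ l : List Bool,
        PLie.bracketWord (PLie.pair ((1 : R[X]) ⊗ₜ[R] a) ((1 : R[X]) ⊗ₜ[R] b)) ((1 : R[X]) ⊗ₜ[R] b) l =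
          (1 : R[X]) ⊗ₜ[R] PLie.bracketWord (PLie.pair a b) b l := by
      intro l
      induction l with
      | nil => rfl
      | cons i l ih => cases i <;> simp [PLie.pair, ih]
    rw [hw, ← RingHom.congr_fun (Subsingleton.elim ((algebraMap R R[X]).comp (ZMod.castHom (dvd_refl p) R))
      (ZMod.castHom (dvd_refl p) R[X])), RingHom.comp_apply, algebraMap_smul]
  have hΦ : Φ R[X] p s ((1 : R[X]) ⊗ₜ[R] x) ((1 : R[X]) ⊗ₜ[R] y) ((1 : R[X]) ⊗ₜ[R] z) =
      (1 : R[X]) ⊗ₜ[R] Φ R p s x y z := by
    cases s <;> simp [Φ, hJ, ← TensorProduct.tmul_add, ← TensorProduct.tmul_sub]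
  rw [hΦ, TensorProduct.smul_tmul', TensorProduct.smul_tmul', smul_eq_mul, smul_eq_mul, mul_one, mul_one] at h
  have h2 := congrArg (co R L p) h
  have hp0 := hp.out.pos
  rw [co_tmul, co_tmul, coeff_X_pow, coeff_X_pow, if_neg (by omega), if_pos rfl, zero_smul, one_smul] at h2
  exact h2.symm

theorem jacobson_comm (x y : L) : PLie.jacobson R p x y = PLie.jacobson R p y x := by
  have := Φ_eq_zero (R := R) (p := p) false x y 0
  simpa [Φ, sub_eq_zero] using this

theorem jacobson_cocycle (x y z : L) :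
    PLie.jacobson R p x y + PLie.jacobson R p (x + y) z = PLie.jacobson R p y z + PLie.jacobson R p x (y + z) := by
  have := Φ_eq_zero (R := R) (p := p) true x y z
  simp only [Φ, if_true] at this
  rw [← sub_eq_zero, ← this]
  abel

end lie

section ext

attribute [local instance] LieRing.ofAssociativeRing

variable (R : Type u) [CommRing R] (p : ℕ) [hp : Fact p.Prime] [CharP R p]
variable (L : Type v) [LieRing L] [LieAlgebra R L]

/-- The abelian extension of `L` by `L` along Jacobson's sum. -/
@[ext] structure Ext (R : Type u) (p : ℕ) (L : Type v) where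
  fst : L
  snd : L

instance : Zero (Ext R p L) := ⟨⟨0, 0⟩⟩

noncomputable instance : Add (Ext R p L) :=
  ⟨fun a b => ⟨a.fst + b.fst, a.snd + b.snd - PLie.jacobson R p a.fst b.fst⟩⟩

noncomputable instance : AddCommMonoid (Ext R p L) where
  add_assoc a b c := Ext.ext (add_assoc _ _ _) (by
    show (a.snd + b.snd - PLie.jacobson R p a.fst b.fst) + c.snd - PLie.jacobson R p (a.fst + b.fst) c.fst =
      a.snd + (b.snd + c.snd - PLie.jacobson R p b.fst c.fst) - PLie.jacobson R p a.fst (b.fst + c.fst)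
    rw [← sub_eq_zero]
    have := jacobson_cocycle (R := R) (p := p) a.fst b.fst c.fst
    linear_combination (norm := abel) -this)
  zero_add a := Ext.ext (zero_add _) (by
    show (0 : L) + a.snd - PLie.jacobson R p (0 : L) a.fst = a.snd
    rw [jacobson_zero_left, zero_add, sub_zero])
  add_zero a := Ext.ext (add_zero _) (by
    show a.snd + (0 : L) - PLie.jacobson R p a.fst (0 : L) = a.snd
    rw [jacobson_zero_right, add_zero, sub_zero])
  add_comm a b := Ext.ext (add_comm _ _) (by
    show a.snd + b.snd - PLie.jacobson R p a.fst b.fst = b.snd + a.snd - PLie.jacobson R p b.fst a.fst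
    rw [jacobson_comm a.fst b.fst, add_comm a.snd])
  nsmul := nsmulRec

variable {R p L}

lemma add_fst (a b : Ext R p L) : (a + b).fst = a.fst + b.fst := rfl
lemma add_snd (a b : Ext R p L) : (a + b).snd = a.snd + b.snd - PLie.jacobson R p a.fst b.fst := rfl

lemma ad_jacobson (x₀ x₁ : L) :
    LieAlgebra.ad R L (PLie.jacobson R p x₀ x₁) =
      LieAlgebra.ad R L x₀ ^ p + LieAlgebra.ad R L x₁ ^ p - (LieAlgebra.ad R L x₀ + LieAlgebra.ad R L x₁) ^ p := by
  rw [map_jacobson, jacobson_formula (R := R) (p := p)]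
  abel

theorem existsUnique_pmap {ι : Type w} (b : Module.Basis ι R L) (y : ι → L)
    (hy : ∀ i, LieAlgebra.ad R L (b i) ^ p = LieAlgebra.ad R L (y i)) :
    ∃! φ : PLie.PMap R p L, ∀ i, φ (b i) = y i := by
  classical
  let s : ι → R →+ Ext R p L := fun i =>
    { toFun := fun c => ⟨c • b i, c ^ p • y i⟩
      map_zero' := Ext.ext (zero_smul R (b i)) (show (0 : R) ^ p • y i = 0 by rw [zero_pow hp.out.ne_zero, zero_smul])
      map_add' := fun c d => Ext.ext (add_smul _ _ _) (by
        show (c + d) ^ p • y i = c ^ p • y i + d ^ p • y i - PLie.jacobson R p (c • b i) (d • b i)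
        rw [jacobson_parallel, sub_zero, add_pow_char, add_smul]) }
  let S : (ι →₀ R) →+ Ext R p L := Finsupp.liftAddHom s
  have hS1 : ∀ c, (S c).fst = b.repr.symm c := by
    intro c
    induction c using Finsupp.induction_linear with
    | zero => rw [map_zero, map_zero]; rfl
    | add a d ha hd => rw [map_add, map_add, add_fst, ha, hd]
    | single i r => rw [Finsupp.liftAddHom_apply_single, Module.Basis.repr_symm_single]; rfl
  let φ : L → L := fun x => (S (b.repr x)).snd
  have hadd : ∀ u v, φ (u + v) = φ u + φ v - PLie.jacobson R p u v := by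
    intro u v
    simp only [φ, map_add, add_snd, hS1, LinearEquiv.symm_apply_apply]
  have hzero : φ 0 = 0 := by simp only [φ, map_zero]; rfl
  have hbasis : ∀ (i : ι) (c : R), φ (c • b i) = c ^ p • y i := by
    intro i c
    simp only [φ, map_smul, Module.Basis.repr_self, Finsupp.smul_single, smul_eq_mul, mul_one, S,
      Finsupp.liftAddHom_apply_single]
    rfl
  have hsmul : ∀ (c : R) (x : L), φ (c • x) = c ^ p • φ x := by
    intro c x
    rw [← b.repr.symm_apply_apply x]
    generalize b.repr x = d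
    induction d using Finsupp.induction_linear with
    | zero => simp [hzero]
    | add u v hu hv => rw [map_add, smul_add, hadd, hadd, hu, hv, jacobson_smul, smul_sub, smul_add]
    | single i r => rw [Module.Basis.repr_symm_single, smul_smul, hbasis, hbasis, mul_pow, smul_smul]
  have had : ∀ x : L, LieAlgebra.ad R L (φ x) = LieAlgebra.ad R L x ^ p := by
    intro x
    rw [← b.repr.symm_apply_apply x]
    generalize b.repr x = d
    induction d using Finsupp.induction_linear with
    | zero => simp [hzero, zero_pow hp.out.ne_zero]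
    | add u v hu hv =>
      rw [map_add, hadd, map_sub, map_add, hu, hv, ad_jacobson, map_add]
      abel
    | single i r => rw [Module.Basis.repr_symm_single, hbasis, map_smul, map_smul, smul_pow, hy]
  refine ⟨⟨φ, hsmul, had, hadd⟩, fun i => ?_, fun ψ hψ => ?_⟩
  · simpa using hbasis i 1
  · have hext : ∀ x, ψ.toFun x = φ x := by
      intro x
      rw [← b.repr.symm_apply_apply x]
      generalize b.repr x = d
      induction d using Finsupp.induction_linear with
      | zero =>
        have := ψ.map_smul 0 0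
        rw [zero_smul, zero_pow hp.out.ne_zero, zero_smul] at this
        rw [map_zero, this, hzero]
      | add u v hu hv => rw [map_add, ψ.map_add, hu, hv, hadd]
      | single i r => rw [Module.Basis.repr_symm_single, ψ.map_smul, hbasis]; exact congrArg _ (hψ i)
    cases ψ
    congr
    exact funext hext

/-- Well-definedness of the image of a p-map. -/
lemma map_congr {L' : Type w} [LieRing L'] [LieAlgebra R L'] (φ : PLie.PMap R p L) (f : L →ₗ⁅R⁆ L')
    (hker : ∀ x : L, f x = 0 → f (φ.toFun x) = 0) {x x' : L} (h : f x = f x') : f (φ.toFun x) = f (φ.toFun x') := by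
  have hk : f (x - x') = 0 := by rw [map_sub, h, sub_self]
  have h2 := φ.map_add x' (x - x')
  rw [add_sub_cancel] at h2
  rw [h2, map_sub, map_add, hker _ hk, add_zero, map_jacobson, hk, jacobson_zero_right, sub_zero]

end ext

end PLieJacobson
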