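/-
Coordinates for three dimensional p-Lie algebras.
-/
import Groth.Agent.Lib.PLieExt
import Mathlib.Algebra.DualNumber
import Mathlib.Tactic.FinCases
import Mathlib.LinearAlgebra.Basis.Basic
import Mathlib.Data.Fin.VecNotation

set_option autoImplicit false
set_option linter.unusedSectionVars false

universe u v

namespace PLieCoord

variable {R : Type u} [CommRing R]

/-- The bracket in coordinates, for structure constants `A = [x,y]`, `B = [x,z]`, `C = [y,z]`. -/
def brk (A B C u v : Fin 3 → R) (j : Fin 3) : R :=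
  (u 0 * v 1 - u 1 * v 0) * A j + (u 0 * v 2 - u 2 * v 0) * B j + (u 1 * v 2 - u 2 * v 1) * C j

variable {p : ℕ} [hp : Fact p.Prime] [CharP R p]
variable {L : Type v} [LieRing L] [LieAlgebra R L] (bs : Module.Basis (Fin 3) R L) {A B C : Fin 3 → R}

section
variable (hA : ∀ j, bs.repr ⁅bs 0, bs 1⁆ j = A j) (hB : ∀ j, bs.repr ⁅bs 0, bs 2⁆ j = B j)
  (hC : ∀ j, bs.repr ⁅bs 1, bs 2⁆ j = C j)
include hA hB hC

lemma coord (u v : L) : ⇑(bs.repr ⁅u, v⁆) = brk A B C (bs.repr u) (bs.repr v) := by
  funext j
  conv_lhs => rw [← bs.sum_repr u, ← bs.sum_repr v, Fin.sum_univ_three, Fin.sum_univ_three]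
  simp only [add_lie, lie_add, smul_lie, lie_smul, lie_self, smul_zero, ← lie_skew (bs 1) (bs 0),
    ← lie_skew (bs 2) (bs 0), ← lie_skew (bs 2) (bs 1), map_add, map_smul, map_neg, map_zero,
    Finsupp.add_apply, Finsupp.smul_apply, Finsupp.neg_apply, Finsupp.zero_apply, smul_eq_mul, hA, hB, hC, brk]
  ring

lemma coord_pow (u v : L) : ∀ n, ⇑(bs.repr ((LieAlgebra.ad R L u ^ n) v)) = (brk A B C (bs.repr u))^[n] (bs.repr v)
  | 0 => rfl
  | n + 1 => by
    rw [pow_succ', Module.End.mul_apply, LieAlgebra.ad_apply, coord bs hA hB hC, Function.iterate_succ_apply',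
      coord_pow u v n]

lemma coord_basis : ∀ j : Fin 3, ⇑(bs.repr (bs j)) = fun i => if i = j then 1 else 0 := fun j => by
  funext i; simp [Finsupp.single_apply, eq_comm]

/-- A p-map exists exactly when the powers of the basis adjoints are inner. -/
theorem nonempty_pmap_iff :
    Nonempty (PLie.PMap R p L) ↔
      ∀ i : Fin 3, ∃ w : Fin 3 → R, ∀ j : Fin 3,
        (brk A B C (fun l => if l = i then 1 else 0))^[p] (fun l => if l = j then 1 else 0) =
          brk A B C w (fun l => if l = j then 1 else 0) := by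
  constructor
  · rintro ⟨φ⟩ i
    refine ⟨bs.repr (φ.toFun (bs i)), fun j => ?_⟩
    rw [← coord_basis bs hA hB hC i, ← coord_basis bs hA hB hC j, ← coord_pow bs hA hB hC, ← coord bs hA hB hC, ← φ.ad_map]
    rfl
  · intro h
    choose w hw using h
    obtain ⟨φ, -⟩ := PLieJacobson.existsUnique_pmap (p := p) bs (fun i => bs.equivFun.symm (w i)) fun i => by
      refine bs.ext fun j => ?_
      apply bs.repr.injective
      refine DFunLike.coe_injective ?_
      rw [coord_pow bs hA hB hC, LieAlgebra.ad_apply, coord bs hA hB hC, coord_basis bs hA hB hC i, coord_basis bs hA hB hC j, hw]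
      congr 1
      funext l
      simp [Module.Basis.equivFun_symm_apply, Finsupp.single_apply]
    exact ⟨φ⟩

lemma jacobi : ∀ j : Fin 3,
    brk A B C (fun l => if l = 0 then 1 else 0) C j = brk A B C A (fun l => if l = 2 then 1 else 0) j +
      brk A B C (fun l => if l = 1 then 1 else 0) B j := by
  intro j
  have h := congrArg (fun v => bs.repr v j) (leibniz_lie (bs 0) (bs 1) (bs 2))
  simp only [map_add, Finsupp.add_apply] at h
  have eA : ⇑(bs.repr ⁅bs 0, bs 1⁆) = A := funext hA
  have eB : ⇑(bs.repr ⁅bs 0, bs 2⁆) = B := funext hB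
  have eC : ⇑(bs.repr ⁅bs 1, bs 2⁆) = C := funext hC
  simp only [coord bs hA hB hC] at h
  simp only [← coord bs hA hB hC, eA, eB, eC] at h
  simp only [coord_basis bs hA hB hC] at h
  convert h using 2 <;> simp [brk]

end

/-- A dual number from its two parts. -/
def dn {K : Type u} [CommRing K] (a b : K) : DualNumber K := TrivSqZeroExt.inl a + TrivSqZeroExt.inr b

@[simp] lemma fst_dn {K : Type u} [CommRing K] (a b : K) : TrivSqZeroExt.fst (dn a b) = a := by simp [dn]
@[simp] lemma snd_dn {K : Type u} [CommRing K] (a b : K) : TrivSqZeroExt.snd (dn a b) = b := by simp [dn]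

lemma dn_eps {K : Type u} [CommRing K] (a : K) : (a • DualNumber.eps : DualNumber K) = dn 0 a := by
  ext <;> simp

lemma dn_mul {K : Type u} [CommRing K] (a b c d : K) : dn a b * dn c d = dn (a * c) (a * d + b * c) := by
  ext <;> simp [mul_comm]

end PLieCoord
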