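/-
Nilpotent ideals and the p-map.
-/
import Groth.Agent.Lib.PLieExt
import Mathlib.Algebra.Lie.Nilpotent
import Mathlib.Algebra.Lie.IdealOperations
import Mathlib.Algebra.Lie.Engel
import Mathlib.Algebra.Lie.Abelian

set_option autoImplicit false
set_option linter.unusedSectionVars false

universe u v

namespace PLieNil

variable {k : Type u} [Field k] {p : ℕ} [hp : Fact p.Prime] [CharP k p]
variable {L : Type v} [LieRing L] [LieAlgebra k L]

/-- The chain `L ⊇ N ⊇ [N,N] ⊇ ⋯`. -/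
def T (N : LieIdeal k L) : ℕ → LieIdeal k L
  | 0 => ⊤
  | 1 => N
  | i + 2 => ⁅N, T N (i + 1)⁆

lemma lie_mem_T (N : LieIdeal k L) {a : L} (ha : a ∈ N) : ∀ i {z : L}, z ∈ T N i → ⁅a, z⁆ ∈ T N (i + 1)
  | 0, z, _ => lie_mem_left k L N a z ha
  | _ + 1, _, hz => LieSubmodule.lie_mem_lie ha hz

lemma T_anti (N : LieIdeal k L) : ∀ i, T N (i + 1) ≤ T N i
  | 0 => le_top
  | _ + 1 => LieSubmodule.lie_le_right _ _

lemma T_le (N : LieIdeal k L) {i j : ℕ} (h : i ≤ j) : T N j ≤ T N i := by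
  induction h with
  | refl => exact le_rfl
  | step _ ih => exact (T_anti N _).trans ih

lemma T_image (N : LieIdeal k L) : ∀ (i : ℕ) {z : L}, z ∈ T N (i + 1) →
    ∃ hz : z ∈ N, (⟨z, hz⟩ : N) ∈ LieModule.lowerCentralSeries k N N i
  | 0, z, hz => ⟨hz, by rw [LieModule.lowerCentralSeries_zero]; exact LieSubmodule.mem_top _⟩
  | i + 1, z, hz => by
    change z ∈ ⁅N, T N (i + 1)⁆ at hz
    rw [← LieSubmodule.mem_toSubmodule, LieSubmodule.lieIdeal_oper_eq_linear_span'] at hz
    induction hz using Submodule.span_induction with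
    | zero => exact ⟨zero_mem _, zero_mem _⟩
    | add a b _ _ ha hb =>
      obtain ⟨ha1, ha2⟩ := ha
      obtain ⟨hb1, hb2⟩ := hb
      exact ⟨add_mem ha1 hb1, add_mem ha2 hb2⟩
    | smul c a _ ha =>
      obtain ⟨ha1, ha2⟩ := ha
      exact ⟨Submodule.smul_mem _ c ha1, SMulMemClass.smul_mem (s := LieModule.lowerCentralSeries k N N (i + 1)) c ha2⟩
    | mem a ha =>
      obtain ⟨x, hx, y, hy, rfl⟩ := ha
      obtain ⟨hy1, hy2⟩ := T_image N i hy
      refine ⟨lie_mem_left k L N x y hx, ?_⟩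
      rw [LieModule.lowerCentralSeries_succ]
      exact LieSubmodule.lie_mem_lie (LieSubmodule.mem_top (⟨x, hx⟩ : N)) hy2

lemma exists_T_eq_bot (N : LieIdeal k L) (hN : LieRing.IsNilpotent N) : ∃ n, ∀ z ∈ T N n, z = 0 := by
  obtain ⟨n, hn⟩ := (LieModule.isNilpotent_iff k N N).1 hN
  refine ⟨n + 1, fun z hz => ?_⟩
  obtain ⟨h1, h2⟩ := T_image N n hz
  rw [hn, LieSubmodule.mem_bot] at h2
  exact congrArg Subtype.val h2

/-- Elements moving the chain down act nilpotently. -/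
lemma exists_pow_ad_eq_zero (N : LieIdeal k L) (hN : LieRing.IsNilpotent N) :
    ∃ n, ∀ w : L, (∀ i z, z ∈ T N i → ⁅w, z⁆ ∈ T N (i + 1)) → LieAlgebra.ad k L w ^ n = 0 := by
  obtain ⟨n, hn⟩ := exists_T_eq_bot N hN
  refine ⟨n, fun w hw => LinearMap.ext fun z => hn _ ?_⟩
  clear hn
  induction n with
  | zero => exact LieSubmodule.mem_top _
  | succ n ih => rw [pow_succ', Module.End.mul_apply]; exact hw n _ ih

lemma ad_p_mem (φ : PLie.PMap k p L) (N : LieIdeal k L) {x : L} (hx : x ∈ N) (i : ℕ) {z : L} (hz : z ∈ T N i) :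
    ⁅φ.toFun x, z⁆ ∈ T N (i + 1) := by
  rw [show ⁅φ.toFun x, z⁆ = (LieAlgebra.ad k L x ^ p) z by rw [← φ.ad_map]; rfl]
  have h : ∀ j, (LieAlgebra.ad k L x ^ j) z ∈ T N (i + j) := by
    intro j
    induction j with
    | zero => exact hz
    | succ j ih => rw [pow_succ', Module.End.mul_apply]; exact lie_mem_T N hx (i + j) ih
  exact T_le N (show i + 1 ≤ i + p by have := hp.out.one_lt; omega) (h p)

theorem pmap_mem (φ : PLie.PMap k p L) [Module.Finite k L] (N : LieIdeal k L) (hN : LieRing.IsNilpotent N)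
    (hmax : ∀ I : LieIdeal k L, LieRing.IsNilpotent I → I ≤ N) {x : L} (hx : x ∈ N) : φ.toFun x ∈ N := by
  let M : LieIdeal k L :=
    { (N.toSubmodule ⊔ Submodule.span k {φ.toFun x}) with
      lie_mem := fun {y m} hm => by
        obtain ⟨a, ha, b, hb, rfl⟩ := Submodule.mem_sup.1 hm
        obtain ⟨c, rfl⟩ := Submodule.mem_span_singleton.1 hb
        refine Submodule.mem_sup_left ?_
        show ⁅y, a + c • φ.toFun x⁆ ∈ N
        rw [lie_add, lie_smul, ← lie_skew y (φ.toFun x)]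
        exact add_mem (N.lie_mem ha) (Submodule.smul_mem _ c (neg_mem (ad_p_mem φ N hx 0 (LieSubmodule.mem_top y)))) }
  obtain ⟨n, hn⟩ := exists_pow_ad_eq_zero N hN
  have hM : LieRing.IsNilpotent M := by
    rw [LieAlgebra.isNilpotent_iff_forall (R := k)]
    intro w
    refine ⟨n, LinearMap.ext fun z => Subtype.ext ?_⟩
    have hval : ∀ m, (((LieAlgebra.ad k M w) ^ m) z : L) = (LieAlgebra.ad k L w.1 ^ m) z.1 := by
      intro m
      induction m with
      | zero => rfl
      | succ m ih =>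
        rw [pow_succ', pow_succ', Module.End.mul_apply, Module.End.mul_apply, ← ih]
        rfl
    rw [hval, hn w.1]
    · rfl
    · intro i z hz
      obtain ⟨a, ha, b, hb, hab⟩ := Submodule.mem_sup.1 w.2
      obtain ⟨c, rfl⟩ := Submodule.mem_span_singleton.1 hb
      rw [← hab, add_lie, smul_lie]
      exact add_mem (lie_mem_T N ha i hz) (Submodule.smul_mem _ c (ad_p_mem φ N hx i hz))
  exact hmax M hM (Submodule.mem_sup_right (Submodule.mem_span_singleton_self _))

lemma ad_iterate (φ : PLie.PMap k p L) (x : L) : ∀ m, LieAlgebra.ad k L (φ.toFun^[m] x) = LieAlgebra.ad k L x ^ (p ^ m)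
  | 0 => by simp
  | m + 1 => by rw [Function.iterate_succ_apply', φ.ad_map, ad_iterate φ x m, ← pow_mul, pow_succ]

end PLieNil
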