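/-
Forms through finite point sets in the projective plane.
-/
import Mathlib
import Groth.Agent.Lib.PointsIdeal

open MvPolynomial
open Groth.Agent.Points (lin lin_isHomogeneous eval_lin)
universe u

namespace Groth.Agent.PointsForms


variable {k : Type u} [Field k]

theorem exists_sep {W : Submodule k (Fin 3 → k)} {v : Fin 3 → k} (hv : v ∉ W) :
    ∃ ψ : Module.Dual k (Fin 3 → k), (∀ w ∈ W, ψ w = 0) ∧ ψ v ≠ 0 := by
  obtain ⟨ψ, hψ, hW⟩ := Submodule.exists_dual_map_eq_bot_of_notMem hv inferInstance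
  refine ⟨ψ, fun w hw => ?_, hψ⟩
  have : ψ w ∈ W.map ψ := Submodule.mem_map_of_mem hw
  rwa [hW, Submodule.mem_bot] at this

theorem notMem_span_single {v w : Fin 3 → k} (h : ∀ c : k, v ≠ c • w) :
    v ∉ Submodule.span k {w} := fun hm => by
  obtain ⟨c, hc⟩ := Submodule.mem_span_singleton.mp hm
  exact h c hc.symm

theorem exists_prod (s : Finset (Fin 3 → k)) (v : Fin 3 → k) (h : ∀ w ∈ s, ∀ c : k, v ≠ c • w) :
    ∃ g : MvPolynomial (Fin 3) k, g.IsHomogeneous s.card ∧ (∀ w ∈ s, eval w g = 0) ∧ eval v g ≠ 0 := by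
  classical
  choose ψ hψ hψv using fun w : s => exists_sep (notMem_span_single (h w.1 w.2))
  refine ⟨∏ w : s, lin (ψ w), ?_, ?_, ?_⟩
  · have := IsHomogeneous.prod (Finset.univ : Finset s) (fun w => lin (ψ w)) (fun _ => 1)
      fun w _ => lin_isHomogeneous (ψ w)
    simpa using this
  · intro w hw
    rw [map_prod]
    exact Finset.prod_eq_zero (Finset.mem_univ ⟨w, hw⟩)
      (by rw [eval_lin]; exact hψ ⟨w, hw⟩ w (Submodule.mem_span_singleton_self w))
  · rw [map_prod]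
    exact Finset.prod_ne_zero_iff.mpr fun w _ => by rw [eval_lin]; exact hψv w

theorem finrank_hom (N : ℕ) :
    Module.finrank k ↥(homogeneousSubmodule (Fin 3) k N) = (N + 2).choose 2 := by
  classical
  let e : ↥(homogeneousSubmodule (Fin 3) k N) ≃ₗ[k] ↥(restrictSupport k {d : Fin 3 →₀ ℕ | d.degree = N}) :=
    LinearEquiv.ofEq _ _ (homogeneousSubmodule_eq_finsupp_supported (Fin 3) k N)
  have hs : {d : Fin 3 →₀ ℕ | d.degree = N} = ↑((Finset.univ : Finset (Fin 3)).finsuppAntidiag N) := by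
    ext d
    simp [Finsupp.degree_eq_sum]
  rw [e.finrank_eq, Module.finrank_eq_nat_card_basis (basisRestrictSupport k _), hs,
    Nat.card_coe_set_eq, Set.ncard_coe_finset, Finset.card_finsuppAntidiag_nat_eq_choose,
    Finset.card_univ, Fintype.card_fin, show 3 + N - 1 = N + 2 by omega]
  exact (Nat.choose_symm (by omega : 2 ≤ N + 2)).trans rfl

theorem exists_form (Λ : Finset (Fin 3 → k)) (v : Fin 3 → k) (hv : v ≠ 0)
    (h : ∀ w ∈ Λ, ∀ c : k, v ≠ c • w)
    (hline : ¬ ∃ ℓ : (Fin 3 → k) →ₗ[k] k, ℓ ≠ 0 ∧ ∀ w ∈ Λ, ℓ w = 0) :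
    ∃ g : MvPolynomial (Fin 3) k, g.IsHomogeneous (Λ.card - 1) ∧ (∀ w ∈ Λ, eval w g = 0) ∧
      eval v g ≠ 0 := by
  classical
  obtain ⟨a, ha⟩ : Λ.Nonempty := by
    by_contra hne
    rw [Finset.not_nonempty_iff_eq_empty] at hne
    exact hline ⟨LinearMap.proj 0, fun h0 => by simpa using LinearMap.congr_fun h0 (Pi.single 0 1),
      by simp [hne]⟩
  obtain ⟨b, hb, hab, hvab⟩ : ∃ b ∈ Λ, a ≠ b ∧ v ∉ Submodule.span k {a, b} := by
    by_contra hc
    push Not at hc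
    refine hline ?_
    have hsub : ∀ b ∈ Λ, b ∈ Submodule.span k ({a, v} : Set (Fin 3 → k)) := by
      intro b hb
      rcases eq_or_ne a b with rfl | hab
      · exact Submodule.subset_span (Set.mem_insert _ _)
      · have h1 := hc b hb hab
        rw [Set.pair_comm] at h1
        have := mem_span_insert_exchange h1 (notMem_span_single (h a ha))
        rwa [Set.pair_comm] at this
    have hlt : Submodule.span k ({a, v} : Set (Fin 3 → k)) ≠ ⊤ := by
      intro htop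
      have := finrank_span_finset_le_card (R := k) ({a, v} : Finset (Fin 3 → k))
      rw [Set.finrank, Finset.coe_pair, htop, finrank_top, Module.finrank_fin_fun] at this
      have := this.trans Finset.card_le_two
      omega
    obtain ⟨x, -, hx⟩ := SetLike.exists_of_lt (lt_top_iff_ne_top.mpr hlt)
    obtain ⟨ψ, hψ, hψx⟩ := exists_sep hx
    exact ⟨ψ, fun h0 => hψx (by rw [h0]; rfl), fun b hb => hψ b (hsub b hb)⟩
  obtain ⟨ψ, hψ, hψv⟩ := exists_sep hvab
  obtain ⟨g, hg, hg0, hgv⟩ := exists_prod ((Λ.erase a).erase b) v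
    (fun w hw => h w (Finset.mem_of_mem_erase (Finset.mem_of_mem_erase hw)))
  refine ⟨lin ψ * g, ?_, ?_, ?_⟩
  · have h2 : 2 ≤ Λ.card := Finset.one_lt_card.mpr ⟨a, ha, b, hb, hab⟩
    have := (lin_isHomogeneous ψ).mul hg
    rwa [Finset.card_erase_of_mem (Finset.mem_erase.mpr ⟨hab.symm, hb⟩), Finset.card_erase_of_mem ha,
      show 1 + (Λ.card - 1 - 1) = Λ.card - 1 by omega] at this
  · intro w hw
    rw [map_mul, eval_lin]
    by_cases hwa : w = a
    · rw [hψ w (Submodule.subset_span (by simp [hwa])), zero_mul]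
    · by_cases hwb : w = b
      · rw [hψ w (Submodule.subset_span (by simp [hwb])), zero_mul]
      · rw [hg0 w (by simp [hwa, hwb, hw]), mul_zero]
  · rw [map_mul, eval_lin]
    exact mul_ne_zero hψv hgv

theorem mem_ker_iff {g : MvPolynomial (Fin 3) k} {Λ : Finset (Fin 3 → k)} :
    g ∈ (⨅ v ∈ Λ, LinearMap.ker (aeval v).toLinearMap : Submodule k (MvPolynomial (Fin 3) k)) ↔
      ∀ v ∈ Λ, eval v g = 0 := by
  simp only [Submodule.mem_iInf, LinearMap.mem_ker, AlgHom.toLinearMap_apply, aeval_eq_eval]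

theorem half (n : ℕ) (Λ Λ' : Finset (Fin 3 → k)) (hcard' : Λ'.card = n) (h0 : ∀ v ∈ Λ, v ≠ 0)
    (hline' : ¬ ∃ ℓ : (Fin 3 → k) →ₗ[k] k, ℓ ≠ 0 ∧ ∀ v ∈ Λ', ℓ v = 0)
    (heq : (MvPolynomial.homogeneousSubmodule (Fin 3) k (n - 1) ⊓ ⨅ v ∈ Λ, LinearMap.ker (MvPolynomial.aeval v).toLinearMap) = (MvPolynomial.homogeneousSubmodule (Fin 3) k (n - 1) ⊓ ⨅ v ∈ Λ', LinearMap.ker (MvPolynomial.aeval v).toLinearMap)) :
    ∀ v ∈ Λ, ∃ w ∈ Λ', ∃ c : k, v = c • w := by
  intro v hv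
  by_contra hc
  push Not at hc
  obtain ⟨g, hg, hg0, hgv⟩ := exists_form Λ' v (h0 v hv) hc hline'
  rw [hcard'] at hg
  have : g ∈ (MvPolynomial.homogeneousSubmodule (Fin 3) k (n - 1) ⊓ ⨅ v ∈ Λ', LinearMap.ker (MvPolynomial.aeval v).toLinearMap) :=
    ⟨hg, mem_ker_iff.mpr hg0⟩
  rw [← heq] at this
  exact hgv (mem_ker_iff.mp this.2 v hv)

end Groth.Agent.PointsForms
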