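/-
Resolutions of length one of ideals of finite point sets in the projective plane.
-/
import Mathlib
import Groth.Agent.Lib.PointsIdeal

open MvPolynomial
open Groth.Agent.Points (theta coeff_theta vanishes_iff Vanishes vanishes_component)
universe u

namespace Groth.Agent.PointsResolution


variable {k : Type u} [Field k]

local notation "R" => MvPolynomial (Fin 3) k

/-- A resolution of length one with free modules of ranks `t` and `t + 1`. -/
def Res (I : Ideal R) : Prop :=
  ∃ (t : ℕ) (ψ : (Fin t → R) →ₗ[R] (Fin (t + 1) → R)) (π : (Fin (t + 1) → R) →ₗ[R] R),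
    Function.Injective ψ ∧ Function.Exact ψ π ∧ LinearMap.range π = I

theorem res_inter (I P : Ideal R) (l₁ l₂ g : R) (hP : P = Ideal.span {l₁, l₂})
    (hreg : ∀ x y, x * l₁ + y * l₂ = 0 → ∃ z, x = z * l₂ ∧ y = -(z * l₁)) (hl : l₂ ≠ 0)
    (hg : g ∈ I) (hgP : ∀ h, h * g ∈ P → h ∈ P)
    (hdec : ∀ f ∈ I, ∃ h, f - h * g ∈ P) (hI : Res I) : Res (I ⊓ P) := by
  obtain ⟨t, ψ, π, hψ, hex, hr⟩ := hI
  have hπI : ∀ a, π a ∈ I := fun a => hr ▸ LinearMap.mem_range_self π a
  obtain ⟨γ, hγ⟩ : g ∈ LinearMap.range π := hr ▸ hg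
  choose c hc using fun i => hdec (π (Pi.single i 1)) (hπI _)
  let χ : (Fin (t + 1) → R) →ₗ[R] R := ∑ i, c i • LinearMap.proj i
  have hχ : ∀ a, π a - χ a * g ∈ P := by
    intro a
    conv => arg 2; rw [pi_eq_sum_univ' a]
    simp only [map_sum, map_smul, Finset.sum_mul, ← Finset.sum_sub_distrib]
    refine Ideal.sum_mem _ fun i _ => ?_
    have hi : χ (Pi.single i 1) = c i := by
      simp [χ, Pi.single_apply]
    rw [hi, smul_eq_mul, smul_eq_mul, mul_assoc, ← mul_sub]
    exact Ideal.mul_mem_left _ _ (hc i)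
  obtain ⟨d₁, d₂, hd⟩ : ∃ d₁ d₂, d₁ * l₁ + d₂ * l₂ = 1 - χ γ := by
    refine Ideal.mem_span_pair.mp (hP ▸ hgP _ ?_)
    have := hχ γ
    rwa [hγ, ← one_sub_mul] at this
  have hrel : ∀ y, ∃ e₁ e₂, e₁ * l₁ + e₂ * l₂ = χ (ψ y) := by
    intro y
    refine Ideal.mem_span_pair.mp (hP ▸ hgP _ ?_)
    have := hχ (ψ y)
    rw [hex.apply_apply_eq_zero, zero_sub] at this
    exact neg_mem_iff.mp this
  choose e₁ e₂ he using fun i : Fin t => hrel (Pi.single i 1)
  let E₁ : (Fin t → R) →ₗ[R] R := ∑ i, e₁ i • LinearMap.proj i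
  let E₂ : (Fin t → R) →ₗ[R] R := ∑ i, e₂ i • LinearMap.proj i
  have hE : ∀ y, E₁ y * l₁ + E₂ y * l₂ = χ (ψ y) := by
    intro y
    conv => rhs; rw [pi_eq_sum_univ' y]
    simp only [E₁, E₂, map_sum, map_smul, LinearMap.sum_apply, LinearMap.smul_apply,
      LinearMap.proj_apply, smul_eq_mul, Finset.sum_mul, ← Finset.sum_add_distrib, ← he]
    exact Finset.sum_congr rfl fun i _ => by ring
  -- the new resolution
  let ψ' : ((Fin t → R) × R × R) →ₗ[R] ((Fin (t + 1) → R) × R × R) :=
    { toFun := fun x => (ψ x.1 + x.2.1 • γ, E₁ x.1 - d₁ * x.2.1 + x.2.2 * l₂,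
        E₂ x.1 - d₂ * x.2.1 - x.2.2 * l₁)
      map_add' := fun x y => by
        simp only [Prod.fst_add, Prod.snd_add, map_add, Prod.mk_add_mk, add_smul, Prod.mk.injEq]
        exact ⟨by abel, by ring, by ring⟩
      map_smul' := fun r x => by
        simp only [Prod.smul_fst, Prod.smul_snd, map_smul, Prod.smul_mk, smul_eq_mul, smul_add,
          mul_smul, RingHom.id_apply, Prod.mk.injEq, true_and]
        exact ⟨by ring, by ring⟩ }
  let π' : ((Fin (t + 1) → R) × R × R) →ₗ[R] R :=
    { toFun := fun a => π a.1 - (χ a.1 - a.2.1 * l₁ - a.2.2 * l₂) * g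
      map_add' := fun a b => by simp only [Prod.fst_add, Prod.snd_add, map_add]; ring
      map_smul' := fun r a => by
        simp only [Prod.smul_fst, Prod.smul_snd, map_smul, smul_eq_mul, RingHom.id_apply]; ring }
  have hψ' : Function.Injective ψ' := by
    rw [← LinearMap.ker_eq_bot, LinearMap.ker_eq_bot']
    rintro ⟨y, s, z⟩ h
    simp only [ψ', LinearMap.coe_mk, AddHom.coe_mk, Prod.mk_eq_zero] at h
    obtain ⟨h0, h1, h2⟩ := h
    have hs : s = 0 := by
      have hχ0 : χ (ψ y) + s * χ γ = 0 := by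
        simpa [map_add] using congrArg χ h0
      linear_combination hχ0 - l₁ * h1 - l₂ * h2 + hE y - s * hd
    subst hs
    have hy : y = 0 := hψ (by simpa using h0)
    subst hy
    simpa [hl] using h1
  have hex' : Function.Exact ψ' π' := by
    rw [LinearMap.exact_iff]
    apply le_antisymm
    · rintro ⟨a, b₁, b₂⟩ h
      simp only [LinearMap.mem_ker, π', LinearMap.coe_mk, AddHom.coe_mk] at h
      let s := χ a - b₁ * l₁ - b₂ * l₂
      have hk : π (a - s • γ) = 0 := by
        rw [map_sub, map_smul, hγ, smul_eq_mul]; exact h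
      obtain ⟨y, hy⟩ := (hex _).mp hk
      have hχy : χ (ψ y) = χ a - s * χ γ := by rw [hy, map_sub, map_smul, smul_eq_mul]
      obtain ⟨z, hz₁, hz₂⟩ := hreg (b₁ - E₁ y + d₁ * s) (b₂ - E₂ y + d₂ * s) (by
        linear_combination s * hd - hE y - hχy)
      refine ⟨(y, s, z), ?_⟩
      simp only [ψ', LinearMap.coe_mk, AddHom.coe_mk, Prod.mk.injEq]
      refine ⟨by rw [hy]; abel, ?_, ?_⟩
      · linear_combination -hz₁
      · linear_combination -hz₂
    · rintro _ ⟨⟨y, s, z⟩, rfl⟩
      simp only [LinearMap.mem_ker, π', ψ', LinearMap.coe_mk, AddHom.coe_mk, map_add, map_smul,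
        hex.apply_apply_eq_zero, hγ, smul_eq_mul]
      linear_combination g * hE y - s * g * hd
  have hr' : LinearMap.range π' = I ⊓ P := by
    apply le_antisymm
    · rintro _ ⟨⟨a, b₁, b₂⟩, rfl⟩
      refine ⟨?_, ?_⟩
      · exact I.sub_mem (hπI a) (Ideal.mul_mem_left _ _ hg)
      · have h12 : (b₁ * l₁ + b₂ * l₂) * g ∈ P :=
          Ideal.mul_mem_right _ _ (hP ▸ Ideal.mem_span_pair.mpr ⟨b₁, b₂, rfl⟩)
        have := add_mem (hχ a) h12
        have he : π' (a, b₁, b₂) = π a - χ a * g + (b₁ * l₁ + b₂ * l₂) * g := by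
          simp only [π', LinearMap.coe_mk, AddHom.coe_mk]
          ring
        exact he ▸ this
    · rintro f ⟨hf, hfP⟩
      obtain ⟨a, ha⟩ : f ∈ LinearMap.range π := hr ▸ hf
      have : χ a * g ∈ P := by
        have := sub_mem (ha ▸ hfP) (hχ a)
        simpa [ha] using this
      obtain ⟨b₁, b₂, hb⟩ := Ideal.mem_span_pair.mp (hP ▸ hgP _ this)
      refine ⟨(a, b₁, b₂), ?_⟩
      simp only [π', LinearMap.coe_mk, AddHom.coe_mk]
      linear_combination ha + g * hb
  -- transport
  let u₁ : Module.Basis (Fin (t + 2)) R ((Fin t → R) × R × R) :=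
    ((Pi.basisFun R (Fin t)).prod ((Module.Basis.singleton Unit R).prod
      (Module.Basis.singleton Unit R))).reindex (Fintype.equivFinOfCardEq (by simp))
  let u₀ : Module.Basis (Fin (t + 2 + 1)) R ((Fin (t + 1) → R) × R × R) :=
    ((Pi.basisFun R (Fin (t + 1))).prod ((Module.Basis.singleton Unit R).prod
      (Module.Basis.singleton Unit R))).reindex (Fintype.equivFinOfCardEq (by simp))
  refine ⟨t + 2, u₀.equivFun.toLinearMap ∘ₗ ψ' ∘ₗ u₁.equivFun.symm.toLinearMap,
    π' ∘ₗ u₀.equivFun.symm.toLinearMap, ?_, ?_, ?_⟩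
  · exact u₀.equivFun.injective.comp (hψ'.comp u₁.equivFun.symm.injective)
  · intro a
    constructor
    · intro h
      obtain ⟨x, hx⟩ := (hex' _).mp h
      exact ⟨u₁.equivFun x, by simp only [LinearMap.comp_apply, LinearEquiv.coe_coe, LinearEquiv.symm_apply_apply, hx, LinearEquiv.apply_symm_apply]⟩
    · rintro ⟨x, rfl⟩
      simp [hex'.apply_apply_eq_zero]
  · rw [LinearMap.range_comp_of_range_eq_top _ (LinearEquiv.range _), hr']

theorem exists_line (p : Fin 3 → k) (hp : p ≠ 0) :
    ∃ l₁ l₂ Y : R, l₂ ≠ 0 ∧ RingHom.ker (theta p) = Ideal.span {l₁, l₂} ∧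
      (∀ x y, x * l₁ + y * l₂ = 0 → ∃ z, x = z * l₂ ∧ y = -(z * l₁)) ∧
      theta p Y = Polynomial.X := by
  obtain ⟨i₀, hi₀⟩ := Function.ne_iff.mp hp
  simp only [Pi.zero_apply] at hi₀
  let Y : R := C (p i₀)⁻¹ * X i₀
  let S : Fin 3 → R := fun i => C (p i) * Y
  let j₁ := i₀.succAbove 0
  let j₂ := i₀.succAbove 1
  let l₁ : R := X j₁ - S j₁
  let l₂ : R := X j₂ - S j₂
  have h10 : j₁ ≠ i₀ := Fin.succAbove_ne _ _
  have h20 : j₂ ≠ i₀ := Fin.succAbove_ne _ _
  have h12 : j₁ ≠ j₂ := fun h => by simpa using Fin.succAbove_right_injective h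
  have hall : ∀ i, i = i₀ ∨ i = j₁ ∨ i = j₂ := by
    intro i
    rcases eq_or_ne i i₀ with h | h
    · exact Or.inl h
    · obtain ⟨j, rfl⟩ := Fin.exists_succAbove_eq h
      fin_cases j <;> simp [j₁, j₂]
  have hY : theta p Y = Polynomial.X := by
    simp only [theta, Y, map_mul, eval₂Hom_C, eval₂Hom_X']
    rw [← mul_assoc, ← map_mul, inv_mul_cancel₀ hi₀, map_one, one_mul]
  have hS : ∀ i, theta p (X i - S i) = 0 := by
    intro i
    simp only [S, map_sub, map_mul, hY]
    simp [theta]
  have hS0 : X i₀ - S i₀ = (0 : R) := by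
    simp only [S, Y, ← mul_assoc, ← map_mul, mul_inv_cancel₀ hi₀, map_one, one_mul, sub_self]
  have hev : ∀ j, j ≠ i₀ → eval (Pi.single j 1) (X j - S j) = (1 : k) := by
    intro j hj
    simp [S, Y, Pi.single_eq_of_ne (Ne.symm hj)]
  have hne : ∀ j, j ≠ i₀ → X j - S j ≠ (0 : R) := fun j hj h => by simpa [h] using hev j hj
  refine ⟨l₁, l₂, Y, hne _ h20, le_antisymm ?_ ?_, ?_, hY⟩
  · intro f hf
    let L : Ideal R := Ideal.span {l₁, l₂}
    have hcomp : ((Ideal.Quotient.mk L).comp
        ((Polynomial.aeval Y).toRingHom.comp (theta p))) = Ideal.Quotient.mk L := by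
      refine MvPolynomial.ringHom_ext (fun r => by simp [theta]) fun i => ?_
      have hi : X i - S i ∈ L := by
        rcases hall i with rfl | rfl | rfl
        · rw [hS0]; exact zero_mem _
        · exact Ideal.subset_span (Or.inl rfl)
        · exact Ideal.subset_span (Or.inr rfl)
      refine (Ideal.Quotient.eq.mpr ?_).symm
      simpa [theta, S] using hi
    have := RingHom.congr_fun hcomp f
    simp only [RingHom.comp_apply, RingHom.mem_ker.mp hf, map_zero] at this
    exact Ideal.Quotient.eq_zero_iff_mem.mp this.symm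
  · rw [Ideal.span_le]
    rintro _ (rfl | rfl) <;> exact hS _
  · intro x y h
    let φ : R →+* R := eval₂Hom C fun i => if i = j₂ then S j₂ else X i
    have hφ : (Ideal.Quotient.mk (Ideal.span {l₂})).comp φ = Ideal.Quotient.mk _ := by
      refine MvPolynomial.ringHom_ext (fun r => by simp [φ]) fun i => ?_
      simp only [φ, RingHom.comp_apply, eval₂Hom_X']
      split
      · subst i
        have hm : X j₂ - S j₂ ∈ Ideal.span ({l₂} : Set R) := Ideal.mem_span_singleton_self l₂
        exact (Ideal.Quotient.eq.mpr hm).symm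
      · rfl
    have hφX : ∀ i, i ≠ j₂ → φ (X i) = X i := fun i hi => by simp [φ, hi]
    have hφY : φ Y = Y := by
      simp only [Y, map_mul, hφX i₀ (Ne.symm h20)]
      simp [φ]
    have hφS : ∀ i, φ (S i) = S i := fun i => by
      simp only [S, map_mul, hφY]
      simp [φ]
    have hφ2 : φ l₂ = 0 := by
      simp only [l₂, map_sub, hφS]
      simp [φ]
    have hφ1 : φ l₁ = l₁ := by simp only [l₁, map_sub, hφS, hφX _ h12]
    have hx : φ x = 0 := by
      have := congrArg φ h
      rw [map_add, map_mul, map_mul, hφ1, hφ2, mul_zero, add_zero, map_zero] at this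
      exact (mul_eq_zero.mp this).resolve_right (hne _ h10)
    have := RingHom.congr_fun hφ x
    rw [RingHom.comp_apply, hx, map_zero] at this
    obtain ⟨z, hz⟩ := Ideal.mem_span_singleton'.mp (Ideal.Quotient.eq_zero_iff_mem.mp this.symm)
    refine ⟨z, hz.symm, mul_right_cancel₀ (hne _ h20 : l₂ ≠ 0) ?_⟩
    linear_combination h + l₁ * hz

theorem res_points (Z : Finset (Fin 3 → k)) (hZ : ∀ p ∈ Z, p ≠ 0) :
    Res (⨅ p ∈ Z, RingHom.ker (theta p) : Ideal R) := by
  classical
  induction Z using Finset.induction_on with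
  | empty =>
    refine ⟨0, 0, LinearMap.proj 0, Function.injective_of_subsingleton _, ?_, ?_⟩
    · intro a
      simp only [LinearMap.proj_apply, LinearMap.zero_apply, Set.mem_range, exists_const]
      exact ⟨fun h => funext fun i => by rw [Fin.eq_zero i, h]; rfl, fun h => h ▸ rfl⟩
    · simp only [Finset.notMem_empty, not_false_eq_true, iInf_neg, iInf_top]
      exact LinearMap.range_eq_top.mpr fun r => ⟨fun _ => r, rfl⟩
  | insert p Z hpZ IH =>
    rw [Finset.iInf_insert, inf_comm]
    have IH' := IH fun q hq => hZ q (Finset.mem_insert_of_mem hq)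
    set I : Ideal R := ⨅ q ∈ Z, RingHom.ker (theta q)
    by_cases hle : I ≤ RingHom.ker (theta p)
    · rwa [inf_eq_left.mpr hle]
    · obtain ⟨f₀, hf₀I, hf₀⟩ := SetLike.not_le_iff_exists.mp hle
      have hcl : ∀ f ∈ I, ∀ j, homogeneousComponent j f ∈ I := by
        intro f hf j
        simp only [I, Submodule.mem_iInf, RingHom.mem_ker] at hf ⊢
        intro q hq
        exact vanishes_iff.mp (vanishes_component (Z := (Z : Set (Fin 3 → k)))
          (vanishes_iff.mpr fun r hr => hf r hr) j) q hq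
      have hne : ∃ a, ∃ f ∈ I, (theta p f).coeff a ≠ 0 := by
        by_contra h
        push Not at h
        exact hf₀ (Polynomial.ext fun j => by simpa using h j f₀ hf₀I)
      classical
      obtain ⟨f₁, hf₁I, hf₁⟩ := Nat.find_spec hne
      set a := Nat.find hne
      have hdvd : ∀ f ∈ I, Polynomial.X ^ a ∣ theta p f := by
        intro f hf
        rw [Polynomial.X_pow_dvd_iff]
        intro d hd
        by_contra h
        exact Nat.find_min hne hd ⟨f, hf, h⟩
      let g : R := C ((theta p f₁).coeff a)⁻¹ * homogeneousComponent a f₁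
      have hg : g ∈ I := Ideal.mul_mem_left _ _ (hcl _ hf₁I a)
      have hθg : theta p g = Polynomial.X ^ a := by
        rw [map_mul, Groth.Agent.Points.theta_homogeneous p (homogeneousComponent_isHomogeneous a f₁),
          ← coeff_theta]
        rw [show ∀ r, theta p (C r) = Polynomial.C r from fun r => eval₂Hom_C _ _ r,
          ← mul_assoc, ← map_mul, inv_mul_cancel₀ hf₁, map_one, one_mul]
      obtain ⟨l₁, l₂, Y, hl, hker, hreg, hY⟩ := exists_line p (hZ p (Finset.mem_insert_self p Z))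
      refine res_inter I _ l₁ l₂ g hker hreg hl hg ?_ ?_ IH'
      · intro h hh
        rw [RingHom.mem_ker, map_mul, hθg] at hh
        exact (mul_eq_zero.mp hh).resolve_right (pow_ne_zero _ Polynomial.X_ne_zero)
      · intro f hf
        obtain ⟨q, hq⟩ := hdvd f hf
        refine ⟨Polynomial.aeval Y q, ?_⟩
        have hid : (theta p).comp (Polynomial.aeval Y).toRingHom = RingHom.id _ :=
          Polynomial.ringHom_ext (fun r => by simp [theta]) (by simp [hY])
        have hθ : theta p (Polynomial.aeval Y q) = q := RingHom.congr_fun hid q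
        rw [RingHom.mem_ker, map_sub, map_mul, hθ, hθg, hq, mul_comm q, sub_self]

end Groth.Agent.PointsResolution
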