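/-
Positive definite integral lattices: orthogonal complements and dual lattices.
-/
import Mathlib.LinearAlgebra.BilinearForm.Orthogonal
import Mathlib.LinearAlgebra.Dual.Lemmas
import Mathlib.LinearAlgebra.FreeModule.PID
import Mathlib.LinearAlgebra.Dimension.Localization
import Mathlib.RingTheory.Finiteness.Basic
import Mathlib.LinearAlgebra.Dimension.Finite
import Mathlib.Algebra.Module.Torsion.Basic
import Mathlib.LinearAlgebra.Dimension.Torsion.Finite
import Mathlib.Tactic.LinearCombination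

set_option autoImplicit false
set_option linter.unusedSectionVars false
set_option linter.style.haveILetI false

namespace PosDefLattice

variable {L : Type} [AddCommGroup L] [Module.Finite ℤ L] [Module.Free ℤ L]
  {B : LinearMap.BilinForm ℤ L}

/-- A multiple of every functional on a sublattice is represented inside it. -/
lemma exists_smul_rep (hpos : ∀ x, x ≠ 0 → 0 < B x x) (A : Submodule ℤ L) (ψ : Module.Dual ℤ A) :
    ∃ c : ℤ, c ≠ 0 ∧ ∃ a : A, ∀ a' : A, c * ψ a' = B a a' := by
  haveI : IsNoetherian ℤ L := isNoetherian_of_isNoetherianRing_of_finite ℤ L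
  let Φ : A →ₗ[ℤ] Module.Dual ℤ A := (B.compl₂ A.subtype) ∘ₗ A.subtype
  have hΦ : ∀ a a' : A, Φ a a' = B a a' := fun a a' => rfl
  have hinj : Function.Injective Φ := by
    rw [injective_iff_map_eq_zero]
    intro a ha
    by_contra hne
    have h1 := hpos a.1 fun e => hne (Subtype.ext e)
    rw [← hΦ, ha, LinearMap.zero_apply] at h1
    exact lt_irrefl _ h1
  have hq := Submodule.finrank_quotient_add_finrank (LinearMap.range Φ)
  rw [LinearMap.finrank_range_of_inj hinj] at hq
  have hd : Module.finrank ℤ (Module.Dual ℤ A) = Module.finrank ℤ A :=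
    ((Module.Free.chooseBasis ℤ A).toDualEquiv.finrank_eq).symm
  have h0 : Module.finrank ℤ (Module.Dual ℤ A ⧸ LinearMap.range Φ) = 0 := by omega
  rw [Module.finrank_eq_zero_iff_isTorsion] at h0
  obtain ⟨⟨c, hc⟩, hcx⟩ := @h0 (Submodule.Quotient.mk ψ)
  rw [Submonoid.mk_smul, ← Submodule.Quotient.mk_smul, Submodule.Quotient.mk_eq_zero] at hcx
  obtain ⟨a, ha⟩ := hcx
  refine ⟨c, nonZeroDivisors.ne_zero hc, a, fun a' => ?_⟩
  rw [← hΦ, ha, LinearMap.smul_apply, smul_eq_mul]

lemma mem_orth {A : Submodule ℤ L} (hs : B.IsSymm) {x : L} :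
    x ∈ B.orthogonal A ↔ ∀ a ∈ A, B x a = 0 := by
  refine ⟨fun h a ha => ?_, fun h a ha => ?_⟩
  · rw [hs.eq x a]; exact h a ha
  · show B a x = 0; rw [hs.eq a x]; exact h a ha

lemma orth_torsionFree (A : Submodule ℤ L) (c : ℤ) (x : L) (hc : c ≠ 0)
    (h : c • x ∈ B.orthogonal A) : x ∈ B.orthogonal A := fun a ha => by
  have h1 : B a (c • x) = 0 := h a ha
  rw [map_smul, smul_eq_mul] at h1
  exact (mul_eq_zero.1 h1).resolve_left hc

/-- A saturated sublattice is its double orthogonal. -/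
lemma orth_orth_le (hs : B.IsSymm) (hpos : ∀ x, x ≠ 0 → 0 < B x x) (A : Submodule ℤ L)
    (htf : ∀ (c : ℤ) (x : L), c ≠ 0 → c • x ∈ A → x ∈ A) {z : L} (hz : z ∈ B.orthogonal (B.orthogonal A)) :
    z ∈ A := by
  obtain ⟨c, hc, a, ha⟩ := exists_smul_rep hpos A ((B z).comp A.subtype)
  have h1 : c • z - a.1 ∈ B.orthogonal A := (mem_orth hs).2 fun b hb => by
    rw [map_sub, map_smul, LinearMap.sub_apply, LinearMap.smul_apply, smul_eq_mul, ← ha ⟨b, hb⟩]
    simp
  have h2 : c • z - a.1 ∈ B.orthogonal (B.orthogonal A) :=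
    sub_mem (Submodule.smul_mem _ c hz) fun n hn => (mem_orth hs).1 hn a.1 a.2
  refine htf c z hc ?_
  have h3 : c • z - a.1 = 0 := by
    by_contra hne
    have := hpos _ hne
    rw [show B (c • z - a.1) (c • z - a.1) = 0 from h2 _ h1] at this
    exact lt_irrefl _ this
  rw [sub_eq_zero.1 h3]
  exact a.2

omit B in
/-- Functionals on a saturated sublattice extend. -/
lemma exists_extend (A : Submodule ℤ L) (htf : ∀ (c : ℤ) (x : L), c ≠ 0 → c • x ∈ A → x ∈ A)
    (ψ : Module.Dual ℤ A) : ∃ φ : Module.Dual ℤ L, φ ∘ₗ A.subtype = ψ := by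
  haveI : Module.IsTorsionFree ℤ (L ⧸ A) := Module.IsTorsionFree.of_smul_eq_zero fun c q hq => by
    obtain ⟨x, rfl⟩ := Submodule.mkQ_surjective A q
    rw [← map_smul, Submodule.mkQ_apply, Submodule.Quotient.mk_eq_zero] at hq
    rcases eq_or_ne c 0 with h | h
    · exact Or.inl h
    · exact Or.inr ((Submodule.Quotient.mk_eq_zero A).2 (htf c x h hq))
  haveI : Module.Free ℤ (L ⧸ A) := Module.free_of_finite_type_torsion_free'
  obtain ⟨s, hs⟩ := Module.projective_lifting_property A.mkQ LinearMap.id A.mkQ_surjective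
  have hπ : ∀ x, ((LinearMap.id : L →ₗ[ℤ] L) - s ∘ₗ A.mkQ) x ∈ A := fun x => by
    have h1 := LinearMap.congr_fun hs (A.mkQ x)
    simp only [LinearMap.comp_apply, LinearMap.id_apply] at h1
    rw [← Submodule.Quotient.mk_eq_zero A, ← Submodule.mkQ_apply]
    simp only [LinearMap.sub_apply, LinearMap.id_apply, LinearMap.comp_apply, map_sub, h1, sub_self]
  refine ⟨ψ ∘ₗ ((LinearMap.id : L →ₗ[ℤ] L) - s ∘ₗ A.mkQ).codRestrict A hπ, LinearMap.ext fun a => ?_⟩
  simp only [LinearMap.comp_apply]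
  congr 1
  ext
  simp only [Submodule.subtype_apply, LinearMap.codRestrict_apply, LinearMap.sub_apply, LinearMap.id_apply,
    LinearMap.comp_apply, Submodule.mkQ_apply, (Submodule.Quotient.mk_eq_zero A).2 a.2, map_zero, sub_zero]

end PosDefLattice
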