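import Mathlib

/-!
Power series tools in characteristic two: cube roots of principal units, bijectivity of diagonal
substitutions, translations.
-/

namespace Groth.Agent.PSChar2

open MvPowerSeries

variable {R : Type*} [CommRing R]

/-- Coefficients of the series `∏ (1 + T ^ (4 ^ k))`. -/
def pCoeff : ℕ → ZMod 2
  | 0 => 1
  | n + 1 => if (n + 1) % 4 < 2 then pCoeff ((n + 1) / 4) else 0
decreasing_by omega

lemma pCoeff_eq (n : ℕ) : pCoeff n = if n % 4 < 2 then pCoeff (n / 4) else 0 := by
  rcases n with _ | n
  · rw [Nat.zero_mod, Nat.zero_div, if_pos two_pos]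
  · rw [pCoeff]

theorem exists_cube_root_one_add_X :
    ∃ g : PowerSeries (ZMod 2), g ^ 3 = 1 + PowerSeries.X := by
  set P : PowerSeries (ZMod 2) := PowerSeries.mk pCoeff with hP
  have h2 : ∀ f : PowerSeries (ZMod 2), f.expand 2 two_ne_zero = f ^ 2 := by
    intro f
    have := MvPowerSeries.map_frobenius_expand (σ := Unit) 2 two_ne_zero (f := f)
    rwa [ZMod.frobenius_zmod, MvPowerSeries.map_id, RingHom.id_apply] at this
  have h4 : P ^ 4 = P.expand 4 (by norm_num) := by
    have := PowerSeries.expand_mul 2 two_ne_zero 2 two_ne_zero P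
    rw [show (P ^ 4) = (P ^ 2) ^ 2 by ring, ← h2, ← h2]
    exact this.symm
  have key : (1 + PowerSeries.X) * P ^ 4 = P := by
    rw [h4]
    ext n
    rw [add_mul, one_mul, map_add]
    rcases n with _ | n
    · rw [PowerSeries.coeff_zero_X_mul, PowerSeries.coeff_expand, if_pos (dvd_zero _), add_zero]
    · rw [PowerSeries.coeff_succ_X_mul, PowerSeries.coeff_expand, PowerSeries.coeff_expand]
      simp only [hP, PowerSeries.coeff_mk]
      rw [pCoeff_eq (n + 1)]
      by_cases c0 : 4 ∣ n + 1
      · have : ¬ 4 ∣ n := by omega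
        rw [if_pos c0, if_neg this, if_pos (by omega), add_zero]
      · by_cases c1 : 4 ∣ n
        · rw [if_neg c0, if_pos c1, if_pos (by omega), zero_add]
          congr 1
          omega
        · rw [if_neg c0, if_neg c1, if_neg (by omega), add_zero]
  have hu : IsUnit P := by
    rw [PowerSeries.isUnit_iff_constantCoeff, hP, PowerSeries.constantCoeff_mk, pCoeff]
    exact isUnit_one
  obtain ⟨u, hu⟩ := hu
  refine ⟨((u⁻¹ : (PowerSeries (ZMod 2))ˣ) : PowerSeries (ZMod 2)), ?_⟩
  have h3 : (u : PowerSeries (ZMod 2)) ^ 3 * (1 + PowerSeries.X) = 1 :=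
    u.isUnit.mul_left_cancel (a := (u : PowerSeries (ZMod 2))) (by
      rw [mul_one, ← mul_assoc, ← pow_succ', hu, mul_comm]
      exact key)
  calc ((u⁻¹ : (PowerSeries (ZMod 2))ˣ) : PowerSeries (ZMod 2)) ^ 3
      = ((u⁻¹ : (PowerSeries (ZMod 2))ˣ) : PowerSeries (ZMod 2)) ^ 3 *
        ((u : PowerSeries (ZMod 2)) ^ 3 * (1 + PowerSeries.X)) := by rw [h3, mul_one]
    _ = 1 + PowerSeries.X := by rw [← mul_assoc, ← mul_pow, Units.inv_mul, one_pow, one_mul]

theorem exists_cube_root {σ : Type*} [CharP R 2] (w : MvPowerSeries σ R)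
    (hw : constantCoeff w = 0) : ∃ u : MvPowerSeries σ R, IsUnit u ∧ u ^ 3 = 1 + w := by
  obtain ⟨g, hg⟩ := exists_cube_root_one_add_X
  have hs : PowerSeries.HasSubst w := PowerSeries.HasSubst.of_constantCoeff_zero hw
  set u := PowerSeries.substAlgHom (R := R) hs
    (PowerSeries.map (ZMod.castHom (dvd_refl 2) R) g) with hu
  have h3 : u ^ 3 = 1 + w := by
    rw [hu, ← map_pow, ← map_pow, hg, map_add, map_one, PowerSeries.map_X, map_add, map_one,
      PowerSeries.substAlgHom_X hs]
  refine ⟨u, ?_, h3⟩
  have : IsUnit (u ^ 3) := by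
    rw [h3, MvPowerSeries.isUnit_iff_constantCoeff, map_add, map_one, hw, add_zero]
    exact isUnit_one
  exact isUnit_pow_iff three_ne_zero |>.1 this

section Diagonal

variable {σ : Type*} [Finite σ] (u : σ → MvPowerSeries σ R)

lemma hasSubst_diag : HasSubst (fun i => X i * u i) :=
  hasSubst_of_constantCoeff_zero fun i => by simp

lemma coeff_subst_diag (f : MvPowerSeries σ R) (n : σ →₀ ℕ) [DecidableEq σ] :
    coeff n (subst (fun i => X i * u i) f) =
      ∑ d ∈ Finset.Iic n, coeff d f * coeff (n - d) (d.prod fun i e => u i ^ e) := by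
  have e : ∀ d : σ →₀ ℕ, (d.prod fun i e => (X i * u i) ^ e) =
      monomial d (1 : R) * d.prod fun i e => u i ^ e := by
    intro d
    rw [show (monomial d (1 : R)) = d.prod fun i e => (X i : MvPowerSeries σ R) ^ e by
      rw [← MvPolynomial.coe_monomial, MvPolynomial.monomial_eq, map_one, one_mul,
        ← MvPolynomial.coeToMvPowerSeries.ringHom_apply, map_finsuppProd]
      simp, ← Finsupp.prod_mul]
    exact Finsupp.prod_congr fun i _ => mul_pow _ _ _
  rw [coeff_subst (hasSubst_diag u)]
  simp only [e, coeff_monomial_mul, one_mul, smul_eq_mul]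
  rw [finsum_eq_sum_of_support_subset _ (s := Finset.Iic n)]
  · exact Finset.sum_congr rfl fun d hd => by rw [if_pos (Finset.mem_Iic.1 hd)]
  · intro d hd
    simp only [Function.mem_support] at hd
    rw [Finset.coe_Iic, Set.mem_Iic]
    by_contra h
    rw [if_neg h, mul_zero] at hd
    exact hd rfl

theorem bijective_subst_diag (hu : ∀ i, IsUnit (u i)) :
    Function.Bijective (subst (R := R) fun i => X i * u i : MvPowerSeries σ R → MvPowerSeries σ R) := by
  classical
  let c : (σ →₀ ℕ) → (σ →₀ ℕ) → R := fun n d => coeff (n - d) (d.prod fun i e => u i ^ e)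
  have hc : ∀ n, IsUnit (c n n) := fun n => by
    simp only [c, tsub_self]
    rw [coeff_zero_eq_constantCoeff_apply, map_finsuppProd]
    exact IsUnit.prod_iff.2 fun i _ => by
      simp only [map_pow]
      exact (MvPowerSeries.isUnit_iff_constantCoeff.1 (hu i)).pow _
  have hsplit : ∀ f n, coeff n (subst (fun i => X i * u i) f) =
      coeff n f * c n n + ∑ d ∈ Finset.Iio n, coeff d f * c n d := by
    intro f n
    rw [coeff_subst_diag, ← Finset.Iio_insert, Finset.sum_insert Finset.notMem_Iio_self]
  constructor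
  · intro f g h
    ext n
    induction n using WellFoundedLT.induction with
    | _ n ih =>
    have h' : coeff n (subst (fun i => X i * u i) f) = coeff n (subst (fun i => X i * u i) g) := by
      rw [h]
    rw [hsplit, hsplit, Finset.sum_congr rfl fun d hd => by rw [ih d (Finset.mem_Iio.1 hd)]] at h'
    exact (hc n).mul_left_injective (add_right_cancel h')
  · intro g
    let F : (σ →₀ ℕ) → R := WellFounded.fix (wellFounded_lt (α := σ →₀ ℕ)) fun n rec =>
      (coeff n g - ∑ d ∈ (Finset.Iio n).attach, rec d.1 (Finset.mem_Iio.1 d.2) * c n d.1) *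
        ((hc n).unit⁻¹ : Rˣ)
    have hF : ∀ n, F n =
        (coeff n g - ∑ d ∈ (Finset.Iio n).attach, F d.1 * c n d.1) * ((hc n).unit⁻¹ : Rˣ) :=
      fun n => WellFounded.fix_eq _ _ n
    let Fs : MvPowerSeries σ R := F
    refine ⟨Fs, ?_⟩
    ext n
    rw [hsplit]
    change F n * c n n + ∑ d ∈ Finset.Iio n, F d * c n d = coeff n g
    rw [hF n, mul_assoc, IsUnit.val_inv_mul, mul_one,
      Finset.sum_attach (Finset.Iio n) (fun d => F d * c n d)]
    rw [sub_add_cancel]

/-- The diagonal substitution as an algebra automorphism. -/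
noncomputable def diagEquiv (hu : ∀ i, IsUnit (u i)) :
    MvPowerSeries σ R ≃ₐ[R] MvPowerSeries σ R :=
  AlgEquiv.ofBijective (substAlgHom (hasSubst_diag u)) (by
    rw [coe_substAlgHom]
    exact bijective_subst_diag u hu)

lemma diagEquiv_X (hu : ∀ i, IsUnit (u i)) (i : σ) : diagEquiv u hu (X i) = X i * u i :=
  substAlgHom_X (hasSubst_diag u) i

lemma diagEquiv_C (hu : ∀ i, IsUnit (u i)) (r : R) : diagEquiv u hu (C r) = C r := by
  rw [MvPowerSeries.c_eq_algebraMap]
  exact (diagEquiv u hu).commutes r

end Diagonal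

section Translate

variable [CharP R 2] (w : MvPolynomial (Fin 3) R)

/-- The substitution `X 2 ↦ X 2 + w`. -/
noncomputable def transl : Fin 3 → MvPowerSeries (Fin 3) R :=
  fun i => if i = 2 then X 2 + (w : MvPowerSeries (Fin 3) R) else X i

variable {w} (hw0 : MvPolynomial.constantCoeff w = 0)
include hw0

lemma hasSubst_transl : HasSubst (transl w) :=
  hasSubst_of_constantCoeff_zero fun i => by
    simp only [transl]
    split_ifs
    · rw [map_add, constantCoeff_X, zero_add, ← coeff_zero_eq_constantCoeff_apply,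
        MvPolynomial.coeff_coe, ← MvPolynomial.constantCoeff_eq, hw0]
    · exact constantCoeff_X i

variable (hw : (2 : Fin 3) ∉ w.vars)
include hw

lemma transl_fix : substAlgHom (hasSubst_transl hw0) (w : MvPowerSeries (Fin 3) R) = w := by
  rw [substAlgHom_coe, ← MvPolynomial.coeToMvPowerSeries.ringHom_apply]
  exact MvPolynomial.hom_congr_vars
    (f₁ := (MvPolynomial.aeval (transl w)).toRingHom)
    (f₂ := MvPolynomial.coeToMvPowerSeries.ringHom)
    (by ext r; simp [MvPowerSeries.c_eq_algebraMap])
    (fun i hi _ => by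
      have : i ≠ 2 := fun e => hw (e ▸ hi)
      simp [transl, this]) rfl

/-- The translation as an algebra automorphism. -/
noncomputable def translEquiv : MvPowerSeries (Fin 3) R ≃ₐ[R] MvPowerSeries (Fin 3) R :=
  AlgEquiv.ofBijective (substAlgHom (hasSubst_transl hw0)) (by
    have : Function.Involutive (substAlgHom (R := R) (hasSubst_transl hw0)) := by
      intro f
      rw [substAlgHom_comp_substAlgHom_apply, coe_substAlgHom]
      simp only [substAlgHom_apply]
      have e : (fun s => subst (transl w) (transl w s)) = (X : Fin 3 → MvPowerSeries (Fin 3) R) := by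
        funext i
        rw [← substAlgHom_apply (hasSubst_transl hw0)]
        by_cases h : i = 2
        · subst h
          have hchar : ((w : MvPowerSeries (Fin 3) R) + w) = 0 := by
            rw [← two_smul R, show (2 : R) = 0 from CharP.cast_eq_zero R 2, zero_smul]
          have h2 : transl w 2 = X 2 + (w : MvPowerSeries (Fin 3) R) := by simp [transl]
          rw [h2, map_add, substAlgHom_X, transl_fix hw0 hw, h2, add_assoc, hchar, add_zero]
        · rw [show transl w i = X i by simp [transl, h], substAlgHom_X]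
          simp [transl, h]
      rw [e, subst_self, id]
    exact this.bijective)

lemma translEquiv_X (i : Fin 3) : translEquiv hw0 hw (X i) = transl w i :=
  substAlgHom_X (hasSubst_transl hw0) i

lemma translEquiv_C (r : R) : translEquiv hw0 hw (C r) = C r := by
  rw [MvPowerSeries.c_eq_algebraMap]
  exact (translEquiv hw0 hw).commutes r

end Translate

end Groth.Agent.PSChar2
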