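/-
Perfect amplitude from pseudo-coherence and tor amplitude.
-/
import Mathlib
import Groth.Prelude.Def_DRing2
import Groth.Prelude.Def_DDual2
import Groth.Agent.Lib.H5DTen
import Groth.Agent.Lib.H5Perf
import Groth.Agent.Lib.H5Amp
import Groth.Agent.Lib.H5WayOut
import Groth.Agent.Lib.CoherentRings
import Groth.Agent.Lib.UnivInjective
import Groth.Agent.Lib.PseudoCoherentRing
import Groth.Agent.Lib.H7StupidGE
import Groth.Agent.Lib.PseudoCoherentRingMore

universe u v w

open CategoryTheory Limits Pretriangulated HomologicalComplex Groth.Agent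
open scoped ZeroObject
open Groth.Agent.PseudoCoherentRing Groth.Agent.PseudoCoherentRingMore

attribute [local instance] HasDerivedCategory.standard

namespace Groth.Agent.PseudoCoherentTorAmp


variable {R : Type u} [CommRing R]

theorem cycles_flat_ge {C : DRing.Cx R} {b c : ℤ} (hb : ∀ i, b < i → IsZero (C.X i))
    (hflat : ∀ i, Module.Flat R (C.X i)) (hex : ∀ i, c ≤ i → C.ExactAt i) :
    ∀ (n : ℕ) (i j : ℤ), i + 1 = j → b < i + n → c ≤ i → Module.Flat R (LinearMap.ker (C.d i j).hom) := by
  intro n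
  induction n with
  | zero =>
    intro i j hij hn _
    have := ModuleCat.subsingleton_of_isZero (hb i (by omega))
    infer_instance
  | succ n ih =>
    intro i j hij hn hc
    have h1 := ih j (j + 1) rfl (by omega) (by omega)
    have hex' := hex j (by omega)
    rw [exactAt_iff' _ i j (j + 1) (by simp; omega) (by simp)] at hex'
    have hrk : LinearMap.range (C.d i j).hom = LinearMap.ker (C.d j (j + 1)).hom :=
      hex'.moduleCat_range_eq_ker
    have : Module.Flat R (LinearMap.range (C.d i j).hom) :=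
      Module.Flat.of_linearEquiv (LinearEquiv.ofEq _ _ hrk)
    have := flat_ker (C.X i) _ (C.d i j).hom.rangeRestrict (C.d i j).hom.surjective_rangeRestrict
    rwa [LinearMap.ker_rangeRestrict] at this

theorem flat_opcycles_of_mI {E F : DRing.Cx R} (f : E ⟶ F) {a b : ℤ}
    (hf : MI (a - 1) (DerivedCategory.Q.map f))
    (hE : ∀ i, Module.Flat R (E.X i)) (hF : ∀ i, Module.Flat R (F.X i))
    (hEb : ∀ i, b < i → IsZero (E.X i)) (hFb : ∀ i, (i < a ∨ b < i) → IsZero (F.X i)) :
    Module.Flat R ((E.sc' (a - 1) a (a + 1)).opcycles) := by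
  let C := CochainComplex.mappingCone f
  have hex : ∀ i, a - 1 ≤ i → C.ExactAt i := fun i hi => by
    rw [← ex_iff]
    exact (mI_iff_ex f (a - 1)).1 hf i hi
  have hflat : ∀ i, Module.Flat R (C.X i) := fun i => by
    have := hE (i + 1); have := hF i
    exact @Module.Flat.of_linearEquiv R _ _ _ _ _ _ _ (flat_prod (E.X (i + 1)) (F.X i))
      ((HomologicalComplex.homotopyCofiber.XIsoBiprod f i (i + 1) rfl) ≪≫
        ModuleCat.biprodIsoProd _ _).toLinearEquiv
  have hCb : ∀ i, b < i → IsZero (C.X i) := fun i hi => by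
    rw [CochainComplex.mappingCone.isZero_X_iff]
    exact ⟨hEb (i + 1) (by omega), hFb i (Or.inr hi)⟩
  have hZ := cycles_flat_ge hCb hflat hex (b + 1 - a).toNat a (a + 1) rfl (by omega) (by omega)
  let φ : E.X a →ₗ[R] LinearMap.ker (C.d a (a + 1)).hom :=
    LinearMap.codRestrict _ ((C.d (a - 1) a).hom ∘ₗ mk' f (a - 1) a (by omega) ∘ₗ LinearMap.inl R _ _)
      (fun e => LinearMap.congr_fun (congrArg ModuleCat.Hom.hom (C.d_comp_d (a - 1) a (a + 1))) _)
  have hF0 : Subsingleton (F.X (a - 1)) := ModuleCat.subsingleton_of_isZero (hFb _ (Or.inl (by omega)))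
  have hsurj : Function.Surjective φ := by
    rintro ⟨c, hc⟩
    have h := hex a (by omega)
    rw [exactAt_iff' _ (a - 1) a (a + 1) (by simp) (by simp), ShortComplex.moduleCat_exact_iff] at h
    obtain ⟨(w : C.X (a - 1)), hw⟩ := h c hc
    refine ⟨p₁ f (a - 1) a (by omega) w, Subtype.ext (Eq.trans ?_ hw)⟩
    refine congrArg (C.d (a - 1) a).hom (cone_ext f (a - 1) a (by omega) ?_ (Subsingleton.elim _ _))
    exact p₁_mk f (a - 1) a (by omega) _ _
  have hker : LinearMap.ker φ = LinearMap.range (E.d (a - 1) a).hom := by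
    ext e
    constructor
    · intro h
      have h' : (C.d (a - 1) a).hom (mk' f (a - 1) a (by omega) (e, 0)) = 0 := congrArg Subtype.val h
      have hx := hex (a - 1) le_rfl
      rw [exactAt_iff' _ (a - 2) (a - 1) a (by simp; omega) (by simp), ShortComplex.moduleCat_exact_iff] at hx
      obtain ⟨(w : C.X (a - 2)), hw⟩ := hx _ h'
      have := (p₁_d f (a - 2) (a - 1) a (by omega) (by omega) w).symm.trans
        ((congrArg (p₁ f (a - 1) a (by omega)) hw).trans (p₁_mk f (a - 1) a (by omega) _ _))
      exact ⟨-p₁ f (a - 2) (a - 1) (by omega) w, by rw [map_neg]; exact this⟩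
    · rintro ⟨e', rfl⟩
      refine Subtype.ext (cone_ext f a (a + 1) rfl ?_ ?_)
      · refine (p₁_d f (a - 1) a (a + 1) (by omega) rfl _).trans ?_
        simp only [LinearMap.coe_comp, Function.comp_apply, LinearMap.inl_apply]
        erw [p₁_mk]
        rw [show (E.d a (a + 1)).hom ((E.d (a - 1) a).hom e') = 0 from
          LinearMap.congr_fun (congrArg ModuleCat.Hom.hom (E.d_comp_d (a - 1) a (a + 1))) e']
        simp
      · refine (p₂_d f (a - 1) a (by omega) _).trans ?_
        simp only [LinearMap.coe_comp, Function.comp_apply, LinearMap.inl_apply]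
        erw [p₁_mk, p₂_mk]
        rw [show (f.f a).hom ((E.d (a - 1) a).hom e') = (F.d (a - 1) a).hom ((f.f (a - 1)).hom e') from
          (LinearMap.congr_fun (congrArg ModuleCat.Hom.hom (f.comm (a - 1) a)) e').symm,
          Subsingleton.elim ((f.f (a - 1)).hom e') 0]
        simp
  let i₁ : (E.X a ⧸ LinearMap.range (E.d (a - 1) a).hom) ≃ₗ[R] LinearMap.ker (C.d a (a + 1)).hom :=
    (Submodule.quotEquivOfEq _ _ hker.symm).trans (φ.quotKerEquivOfSurjective hsurj)
  exact Module.Flat.of_linearEquiv ((E.sc' (a - 1) a (a + 1)).moduleCatOpcyclesIso.toLinearEquiv.trans i₁)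

end Groth.Agent.PseudoCoherentTorAmp
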