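/-
Half discriminants of quadratic forms of odd rank, and the minors of their polar matrices.
-/
import Groth.Prelude.Def_QuadGrp
import Mathlib.LinearAlgebra.Matrix.Adjugate
import Mathlib.RingTheory.Ideal.Maximal
import Mathlib.Data.ZMod.Basic
import Mathlib.Tactic.LinearCombination

set_option autoImplicit false
set_option linter.unusedSectionVars false

open Matrix MvPolynomial

namespace QuadLib

universe u

variable {R : Type u} [CommRing R] {n : ℕ}

/-- The universal alternating matrix in the same variables. -/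
noncomputable def univSkew (n : ℕ) : Matrix (Fin n) (Fin n) (MvPolynomial (Sym2 (Fin n)) ℤ) :=
  Matrix.of fun i j => if i < j then X (Sym2.mk i j) else if j < i then -X (Sym2.mk i j) else 0

lemma two_ne_zero_mvPoly : (2 : MvPolynomial (Sym2 (Fin n)) ℤ) ≠ 0 := by
  rw [← map_ofNat (C : ℤ →+* MvPolynomial (Sym2 (Fin n)) ℤ) 2, ne_eq, C_eq_zero]
  norm_num

lemma det_univSkew (hn : Odd n) : (univSkew n).det = 0 := by
  have h : (univSkew n)ᵀ = -univSkew n := by
    ext1 i j
    simp only [transpose_apply, neg_apply, univSkew, of_apply]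
    rcases lt_trichotomy i j with h | rfl | h
    · simp [h, h.not_gt, Sym2.eq_swap]
    · simp
    · simp [h, h.not_gt, Sym2.eq_swap]
  have h2 := congrArg Matrix.det h
  rw [det_transpose, det_neg, Fintype.card_fin, hn.neg_one_pow, neg_one_mul] at h2
  refine mul_left_cancel₀ two_ne_zero_mvPoly ?_
  linear_combination h2

lemma two_mul_halfDiscUniv (hn : Odd n) :
    2 * QuadGrp.halfDiscUniv n = QuadGrp.discUniv n := by
  set φ := MvPolynomial.map (σ := Sym2 (Fin n)) (Int.castRingHom (ZMod 2)) with hφ
  have hmap : (QuadGrp.univPolarMat n).map φ = (univSkew n).map φ := by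
    ext1 i j
    simp only [map_apply, QuadGrp.univPolarMat, univSkew, of_apply]
    rcases lt_trichotomy i j with h | rfl | h
    · simp [h, h.ne]
    · have h2 : (2 : MvPolynomial (Sym2 (Fin n)) (ZMod 2)) = 0 := by
        rw [← map_ofNat (C : ZMod 2 →+* MvPolynomial (Sym2 (Fin n)) (ZMod 2)) 2,
          show (2 : ZMod 2) = 0 from by decide, map_zero]
      simp [hφ, h2]
    · simp only [h, h.not_gt, h.ne', if_false, if_true, map_neg]
      have h2 : (2 : MvPolynomial (Sym2 (Fin n)) (ZMod 2)) = 0 := by
        rw [← map_ofNat (C : ZMod 2 →+* MvPolynomial (Sym2 (Fin n)) (ZMod 2)) 2,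
          show (2 : ZMod 2) = 0 from by decide, map_zero]
      simp only [hφ, map_X]
      linear_combination (X (Sym2.mk i j) : MvPolynomial (Sym2 (Fin n)) (ZMod 2)) * h2
  have hzero : φ (QuadGrp.discUniv n) = 0 := by
    rw [QuadGrp.discUniv, RingHom.map_det, RingHom.mapMatrix_apply, hmap, ← RingHom.mapMatrix_apply,
      ← RingHom.map_det, det_univSkew hn, map_zero]
  ext s
  have h := congrArg (MvPolynomial.coeff s) hzero
  rw [MvPolynomial.coeff_map, MvPolynomial.coeff_zero, eq_intCast,
    ZMod.intCast_zmod_eq_zero_iff_dvd] at h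
  rw [show (2 : MvPolynomial (Sym2 (Fin n)) ℤ) = C 2 from (map_ofNat C 2).symm, MvPolynomial.coeff_C_mul,
    QuadGrp.coeff_halfDiscUniv]
  exact Int.mul_ediv_cancel' (by exact_mod_cast h)

lemma mul_halfDiscUniv (hn : Odd n) :
    (n : MvPolynomial (Sym2 (Fin n)) ℤ) * QuadGrp.halfDiscUniv n =
      ∑ i, ∑ j, (if i ≤ j then X (Sym2.mk i j) * (QuadGrp.univPolarMat n).adjugate i j else 0) := by
  set A := QuadGrp.univPolarMat n with hA
  have hsym : Aᵀ = A := by
    ext1 i j
    simp only [hA, transpose_apply, QuadGrp.univPolarMat, of_apply]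
    by_cases h : i = j
    · subst h; rfl
    · simp [h, Ne.symm h, Sym2.eq_swap]
  have hadj : ∀ i j, A.adjugate j i = A.adjugate i j := fun i j => by
    conv_rhs => rw [← hsym, ← adjugate_transpose, transpose_apply]
  have h := congrArg Matrix.trace (mul_adjugate A)
  rw [trace_smul, trace_one, Fintype.card_fin, smul_eq_mul, hA, show (QuadGrp.univPolarMat n).det = QuadGrp.discUniv n from rfl,
    ← two_mul_halfDiscUniv hn] at h
  set S := ∑ i, ∑ j, (if i ≤ j then X (Sym2.mk i j) * A.adjugate i j else 0) with hS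
  have hterm : ∀ i j, A i j * A.adjugate j i =
      (if i ≤ j then X (Sym2.mk i j) * A.adjugate i j else 0) +
      (if j ≤ i then X (Sym2.mk j i) * A.adjugate j i else 0) := by
    intro i j
    have he : A i j = if i = j then 2 * X (Sym2.mk i j) else X (Sym2.mk i j) := rfl
    rw [he]
    rcases lt_trichotomy i j with hl | rfl | hl
    · rw [if_neg hl.ne, if_pos hl.le, if_neg hl.not_ge, add_zero, hadj i j]
    · rw [if_pos rfl, if_pos le_rfl]; ring
    · rw [if_neg hl.ne', if_neg hl.not_ge, if_pos hl.le, zero_add, Sym2.eq_swap]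
  have hS2 : (A * A.adjugate).trace = 2 * S := by
    simp only [Matrix.trace, Matrix.diag, Matrix.mul_apply, hterm, Finset.sum_add_distrib, hS]
    rw [Finset.sum_comm (f := fun i j => if j ≤ i then X (Sym2.mk j i) * A.adjugate j i else 0)]
    ring
  rw [← hA, hS2] at h
  refine mul_left_cancel₀ two_ne_zero_mvPoly ?_
  rw [h]; ring

/-- The polar matrix of a form in a basis. -/
noncomputable def polarMat {M : Type*} [AddCommGroup M] [Module R M] (b : Module.Basis (Fin n) R M)
    (Q : QuadraticForm R M) : Matrix (Fin n) (Fin n) R :=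
  Matrix.of fun i j => QuadraticMap.polar Q (b i) (b j)

lemma map_univPolarMat {M : Type*} [AddCommGroup M] [Module R M] (b : Module.Basis (Fin n) R M)
    (Q : QuadraticForm R M) :
    (QuadGrp.univPolarMat n).map (eval₂Hom (Int.castRingHom R) (QuadGrp.coeffs b (LinearEquiv.refl R R) Q)) =
      polarMat b Q := by
  ext i j
  simp only [map_apply, QuadGrp.univPolarMat, polarMat, of_apply]
  by_cases h : i = j
  · subst h
    rw [if_pos rfl, map_mul, map_ofNat, eval₂Hom_X', QuadGrp.coeffs_mk, if_pos rfl, QuadraticMap.polar_self,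
      two_nsmul]
    simp [two_mul]
  · rw [if_neg h, eval₂Hom_X', QuadGrp.coeffs_mk, if_neg h]
    rfl

lemma two_mul_halfDisc {M : Type*} [AddCommGroup M] [Module R M] (hn : Odd n) (b : Module.Basis (Fin n) R M)
    (Q : QuadraticForm R M) :
    2 * QuadGrp.halfDisc b (LinearEquiv.refl R R) Q = (polarMat b Q).det := by
  rw [← map_univPolarMat, ← RingHom.mapMatrix_apply, ← RingHom.map_det,
    show (QuadGrp.univPolarMat n).det = QuadGrp.discUniv n from rfl, ← two_mul_halfDiscUniv hn, map_mul,
    map_ofNat]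
  rfl

lemma mul_halfDisc {M : Type*} [AddCommGroup M] [Module R M] (hn : Odd n) (b : Module.Basis (Fin n) R M)
    (Q : QuadraticForm R M) :
    (n : R) * QuadGrp.halfDisc b (LinearEquiv.refl R R) Q =
      ∑ i, ∑ j, (if i ≤ j then QuadGrp.coeffs b (LinearEquiv.refl R R) Q (Sym2.mk i j) *
        (polarMat b Q).adjugate i j else 0) := by
  have h := congrArg (eval₂Hom (Int.castRingHom R) (QuadGrp.coeffs b (LinearEquiv.refl R R) Q))
    (mul_halfDiscUniv hn)
  simp only [map_mul, map_natCast, map_sum, apply_ite, map_zero, eval₂Hom_X'] at h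
  rw [show QuadGrp.halfDisc b (LinearEquiv.refl R R) Q = eval₂Hom (Int.castRingHom R)
    (QuadGrp.coeffs b (LinearEquiv.refl R R) Q) (QuadGrp.halfDiscUniv n) from rfl, h]
  rw [← map_univPolarMat, ← RingHom.mapMatrix_apply, ← RingHom.map_adjugate]
  rfl

/-- The ideal of two by two minors. -/
def minorIdeal (A : Matrix (Fin n) (Fin n) R) : Ideal R :=
  Ideal.span {x | ∃ p q k l, p ≠ q ∧ x = A p k * A q l - A p l * A q k}

lemma adjugate_eq_zero_of_minors {k : Type*} [Field k] (hn : 3 ≤ n) (A : Matrix (Fin n) (Fin n) k)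
    (h : ∀ p q i j, p ≠ q → A p i * A q j - A p j * A q i = 0) : A.adjugate = 0 := by
  ext i j
  rw [adjugate_apply, Matrix.zero_apply]
  obtain ⟨r, hr, s, hs, hrs⟩ : ∃ r, r ∈ Finset.univ.erase j ∧ ∃ s, s ∈ Finset.univ.erase j ∧ r ≠ s := by
    have hcard : 1 < (Finset.univ.erase j).card := by simp; omega
    obtain ⟨r, hr, s, hs, hrs⟩ := Finset.one_lt_card.1 hcard
    exact ⟨r, hr, s, hs, hrs⟩
  have hrj : r ≠ j := (Finset.mem_erase.1 hr).1
  have hsj : s ≠ j := (Finset.mem_erase.1 hs).1
  set B := A.updateRow j (Pi.single i 1)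
  have hBr : B r = A r := updateRow_ne hrj
  have hBs : B s = A s := updateRow_ne hsj
  by_cases h0 : ∀ l, A r l = 0
  · exact det_eq_zero_of_row_eq_zero r fun l => by rw [hBr]; exact h0 l
  push Not at h0
  obtain ⟨l, hl⟩ := h0
  have hprop : B s = (A s l / A r l) • B r := by
    rw [hBs, hBr]
    funext t
    have h2 := h r s l t hrs
    rw [sub_eq_zero] at h2
    rw [Pi.smul_apply, smul_eq_mul, div_mul_eq_mul_div, eq_div_iff hl]
    linear_combination h2
  have hupd : B.updateRow s (B s) = B := by
    ext a c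
    by_cases ha : a = s
    · subst ha; simp
    · simp [updateRow_ne ha]
  rw [← hupd, hprop, det_updateRow_smul, det_updateRow_eq_zero hrs, mul_zero]

/-- The two by two minors of the polar matrix of a nondegenerate form generate the unit ideal. -/
lemma minorIdeal_eq_top {M : Type*} [AddCommGroup M] [Module R M] (hn : 3 ≤ n) (b : Module.Basis (Fin n) R M)
    (Q : QuadraticForm R M)
    (h : IsUnit (polarMat b Q).det ∨ (Odd n ∧ IsUnit (QuadGrp.halfDisc b (LinearEquiv.refl R R) Q))) :
    minorIdeal (polarMat b Q) = ⊤ := by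
  by_contra hne
  obtain ⟨m, hm, hle⟩ := Ideal.exists_le_maximal _ hne
  let k := R ⧸ m
  let _ : Field k := Ideal.Quotient.field m
  let π : R →+* k := Ideal.Quotient.mk m
  have hmin : ∀ p q i j, p ≠ q →
      (polarMat b Q).map π p i * (polarMat b Q).map π q j - (polarMat b Q).map π p j * (polarMat b Q).map π q i = 0 := by
    intro p q i j hpq
    simp only [map_apply, ← map_mul, ← map_sub]
    exact Ideal.Quotient.eq_zero_iff_mem.2 (hle (Ideal.subset_span ⟨p, q, i, j, hpq, rfl⟩))
  have hadj := adjugate_eq_zero_of_minors hn _ hmin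
  have hdet : π (polarMat b Q).det = 0 := by
    have h1 := mul_adjugate ((polarMat b Q).map π)
    rw [hadj, Matrix.mul_zero] at h1
    have h2 := congrFun (congrFun h1 ⟨0, by omega⟩) ⟨0, by omega⟩
    simp only [Matrix.zero_apply, Matrix.smul_apply, one_apply_eq, smul_eq_mul, mul_one] at h2
    rw [RingHom.map_det, RingHom.mapMatrix_apply, ← h2]
  rcases h with h | ⟨hodd, h⟩
  · exact (h.map π).ne_zero hdet
  · apply (h.map π).ne_zero
    have hadj' : ∀ i j, π ((polarMat b Q).adjugate i j) = 0 := fun i j => by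
      have := congrFun (congrFun (RingHom.map_adjugate π (polarMat b Q)) i) j
      simp only [RingHom.mapMatrix_apply, map_apply] at this
      rw [this, hadj, Matrix.zero_apply]
    have h1 := congrArg π (mul_halfDisc hodd b Q)
    simp only [map_mul, map_natCast, map_sum, apply_ite, map_zero, hadj', mul_zero, ite_self,
      Finset.sum_const_zero] at h1
    have h2 := congrArg π (two_mul_halfDisc hodd b Q)
    rw [map_mul, map_ofNat, hdet] at h2
    obtain ⟨c, rfl⟩ := hodd
    push_cast at h1
    linear_combination h1 - (c : k) * h2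

lemma isUnit_det_of_isRegular {M : Type*} [AddCommGroup M] [Module R M] (b : Module.Basis (Fin n) R M)
    (Q : QuadraticForm R M) (hQ : QuadGrp.IsRegular Q) : IsUnit (polarMat b Q).det := by
  let e : M ≃ₗ[R] Module.Dual R M := LinearEquiv.ofBijective _ hQ
  have h : LinearMap.toMatrix b b.dualBasis (e : M →ₗ[R] Module.Dual R M) = polarMat b Q := by
    ext i j
    rw [LinearMap.toMatrix_apply, b.dualBasis_repr]
    exact QuadraticMap.polar_comm Q _ _
  rw [← h]
  exact LinearEquiv.isUnit_det e b b.dualBasis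

end QuadLib
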