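/-
The centraliser of the orthogonal groups: infinitesimal isometries and scalars.
-/
import Groth.Agent.Lib.QuadHalf
import Mathlib.Algebra.DualNumber
import Mathlib.LinearAlgebra.Trace
import Mathlib.LinearAlgebra.Matrix.Charpoly.Coeff
import Mathlib.LinearAlgebra.Dimension.Constructions

set_option autoImplicit false
set_option linter.unusedSectionVars false

open TensorProduct QuadraticMap

namespace QuadLib

universe u

/-! ### From the infinitesimal identity to scalars -/

section Scalar

variable {R : Type u} [CommRing R] {n : ℕ} {M : Type*} [AddCommGroup M] [Module R M]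

lemma minor_smul_scalar (hn : 3 ≤ n) (b : Module.Basis (Fin n) R M) (Q : QuadraticForm R M) (g : M →ₗ[R] M)
    (hE : ∀ u w v, polar Q u v • g w - polar Q w v • g u = polar Q u (g v) • w - polar Q w (g v) • u)
    (p q k l : Fin n) (hpq : p ≠ q) :
    ∃ s : R, ∀ v, (polar Q (b p) (b k) * polar Q (b q) (b l) - polar Q (b p) (b l) * polar Q (b q) (b k)) ^ 3 • g v =
      s • v := by
  classical
  set u := b p with hu
  set w := b q with hw
  set Δ := polar Q u (b k) * polar Q w (b l) - polar Q u (b l) * polar Q w (b k) with hΔ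
  set vu := polar Q w (b l) • b k - polar Q w (b k) • b l with hvu
  set vw := polar Q u (b k) • b l - polar Q u (b l) • b k with hvw
  have h1 : polar Q u vu = Δ := by
    simp only [hvu, polar_sub_right, polar_smul_right, smul_eq_mul, hΔ]; ring
  have h2 : polar Q w vu = 0 := by
    simp only [hvu, polar_sub_right, polar_smul_right, smul_eq_mul]; ring
  have h3 : polar Q u vw = 0 := by
    simp only [hvw, polar_sub_right, polar_smul_right, smul_eq_mul]; ring
  have h4 : polar Q w vw = Δ := by
    simp only [hvw, polar_sub_right, polar_smul_right, smul_eq_mul, hΔ] <;> ring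
  set a := polar Q u (g vu) with ha
  set y := polar Q w (g vu) with hy
  set a' := polar Q w (g vw) with ha'
  set x := polar Q u (g vw) with hx
  have e1 : Δ • g w = a • w - y • u := by
    have := hE u w vu
    rwa [h1, h2, zero_smul, sub_zero] at this
  have e2 : Δ • g u = a' • u - x • w := by
    have := hE w u vw
    rwa [h4, h3, zero_smul, sub_zero] at this
  have hcoef : ∀ {z₁ z₂ : M}, z₁ = z₂ → ∀ i, b.repr z₁ i = b.repr z₂ i := fun h i => by rw [h]
  have key : ∀ r, r ≠ p → r ≠ q →
      Δ * y = 0 ∧ Δ * x = 0 ∧ Δ * a = Δ * a' ∧ Δ ^ 3 • g (b r) = (Δ ^ 2 * a) • b r := by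
    intro r hrp hrq
    set z := b r with hz
    set f := polar Q z vu with hf
    set f' := polar Q z vw with hf'
    set z₀ := Δ • z - f • u - f' • w with hz₀
    have k1 : polar Q z₀ vu = 0 := by
      simp only [hz₀, polar_sub_left, polar_smul_left, smul_eq_mul, h1, h2, ← hf]; ring
    have k2 : polar Q z₀ vw = 0 := by
      simp only [hz₀, polar_sub_left, polar_smul_left, smul_eq_mul, h3, h4, ← hf']; ring
    have e3 : Δ • g z₀ = a • z₀ - polar Q z₀ (g vu) • u := by
      have := hE u z₀ vu
      rwa [h1, k1, zero_smul, sub_zero] at this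
    have e4 : Δ • g z₀ = a' • z₀ - polar Q z₀ (g vw) • w := by
      have := hE w z₀ vw
      rwa [h4, k2, zero_smul, sub_zero] at this
    have e5 : Δ • g w = polar Q (u + z₀) (g vu) • w - y • (u + z₀) := by
      have := hE (u + z₀) w vu
      rwa [polar_add_left, h1, k1, add_zero, h2, zero_smul, sub_zero] at this
    have e6 : Δ • g u = polar Q (w + z₀) (g vw) • u - x • (w + z₀) := by
      have := hE (w + z₀) u vw
      rwa [polar_add_left, h4, k2, add_zero, h3, zero_smul, sub_zero] at this
    have c5 := hcoef (e1.symm.trans e5) r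
    have c6 := hcoef (e2.symm.trans e6) r
    have c34r := hcoef (e3.symm.trans e4) r
    have c34p := hcoef (e3.symm.trans e4) p
    simp only [hz₀, hu, hw, hz, map_sub, map_add, map_smul, Module.Basis.repr_self, Finsupp.coe_sub,
      Finsupp.coe_add, Pi.add_apply, Pi.sub_apply, Finsupp.smul_apply, smul_eq_mul, Finsupp.single_apply,
      if_neg hrp.symm, if_neg hrq.symm, if_neg hpq.symm, if_neg hrp, if_neg hrq, if_true, if_pos rfl, mul_zero, sub_zero,
      mul_one, zero_sub, zero_add, add_zero] at c5 c6 c34r c34p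
    clear_value Δ
    have hy0 : Δ * y = 0 := by linear_combination c5
    have hx0 : Δ * x = 0 := by linear_combination c6
    have haa : Δ * a = Δ * a' := by linear_combination c34r
    have hc : Δ * polar Q z₀ (g vu) = 0 := by
      simp only [hz₀, hu, hw, hz]
      linear_combination (-Δ) * c34p - f * haa
    refine ⟨hy0, hx0, haa, ?_⟩
    have s1 : Δ ^ 2 • g w = (Δ * a) • w := by
      rw [pow_two, mul_smul, e1, smul_sub, smul_smul, smul_smul, hy0, zero_smul, sub_zero]
    have s2 : Δ ^ 2 • g u = (Δ * a) • u := by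
      rw [pow_two, mul_smul, e2, smul_sub, smul_smul, smul_smul, hx0, zero_smul, sub_zero, haa]
    have s3 : Δ ^ 2 • g z₀ = (Δ * a) • z₀ := by
      rw [pow_two, mul_smul, e3, smul_sub, smul_smul, smul_smul, hc, zero_smul, sub_zero]
    rw [hz₀, map_sub, map_sub, map_smul, map_smul, map_smul, smul_sub, smul_sub, smul_comm (Δ ^ 2) f,
      smul_comm (Δ ^ 2) f', s1, s2, smul_smul] at s3
    rw [show Δ ^ 3 = Δ ^ 2 * Δ by ring]
    linear_combination (norm := module) s3
  obtain ⟨r₀, hr₀⟩ : ∃ r, r ∈ (Finset.univ.erase p).erase q := by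
    refine Finset.card_pos.1 ?_
    rw [Finset.card_erase_of_mem (by simp [hpq.symm]), Finset.card_erase_of_mem (Finset.mem_univ _)]
    simp; omega
  simp only [Finset.mem_erase] at hr₀
  obtain ⟨hy0, hx0, haa, -⟩ := key r₀ hr₀.2.1 hr₀.1
  refine ⟨Δ ^ 2 * a, fun v => ?_⟩
  have hall : Δ ^ 3 • g = (Δ ^ 2 * a) • LinearMap.id := by
    refine b.ext fun r => ?_
    simp only [LinearMap.smul_apply, LinearMap.id_apply]
    by_cases hrq : r = q
    · subst hrq
      rw [show Δ ^ 3 = Δ ^ 2 * Δ by ring, mul_smul, e1, smul_sub, smul_smul, smul_smul, pow_two, mul_assoc Δ Δ y,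
        hy0, mul_zero, zero_smul, sub_zero, ← pow_two]
    by_cases hrp : r = p
    · subst hrp
      rw [show Δ ^ 3 = Δ ^ 2 * Δ by ring, mul_smul, e2, smul_sub, smul_smul, smul_smul, pow_two, mul_assoc Δ Δ x,
        hx0, mul_zero, zero_smul, sub_zero, mul_assoc Δ Δ a, haa, ← mul_assoc]
    exact (key r hrp hrq).2.2.2
  exact LinearMap.congr_fun hall v

theorem scalar_of_infinitesimal (hn : 3 ≤ n) (b : Module.Basis (Fin n) R M) (Q : QuadraticForm R M)
    (hQ : minorIdeal (polarMat b Q) = ⊤) (g : M →ₗ[R] M)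
    (hE : ∀ u w v, polar Q u v • g w - polar Q w v • g u = polar Q u (g v) • w - polar Q w (g v) • u) :
    ∃ c : R, ∀ v, g v = c • v := by
  classical
  let J : Ideal R :=
    { carrier := {r | ∀ (T : M →ₗ[R] M) (v : M), r • (g (T v) - T (g v)) = 0}
      zero_mem' := fun _ _ => zero_smul _ _
      add_mem' := fun {x y} hx hy T v => by rw [add_smul, hx T v, hy T v, add_zero]
      smul_mem' := fun c {x} hx T v => by rw [smul_eq_mul, mul_smul, hx T v, smul_zero] }
  have hJ : minorIdeal (polarMat b Q) ≤ J.radical := by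
    refine Ideal.span_le.2 ?_
    rintro _ ⟨p, q, k, l, hpq, rfl⟩
    obtain ⟨s, hs⟩ := minor_smul_scalar hn b Q g hE p q k l hpq
    refine ⟨3, fun T v => ?_⟩
    simp only [polarMat, Matrix.of_apply]
    rw [smul_sub, hs (T v), ← map_smul T _ (g v), hs v, map_smul, sub_self]
  rw [hQ, top_le_iff, Ideal.radical_eq_top] at hJ
  have hcomm : ∀ (T : M →ₗ[R] M) (v : M), g (T v) = T (g v) := fun T v => by
    have h1 : (1 : R) ∈ J := by rw [hJ]; trivial
    have := h1 T v
    rwa [one_smul, sub_eq_zero] at this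
  let i₀ : Fin n := ⟨0, by omega⟩
  refine ⟨b.coord i₀ (g (b i₀)), fun v => ?_⟩
  have h := hcomm ((b.coord i₀).smulRight v) (b i₀)
  simpa [LinearMap.smulRight_apply] using h

lemma sq_eq_one_of_scalar {Q : QuadraticForm R M} (b : Module.Basis (Fin n) R M)
    (hQ : minorIdeal (polarMat b Q) = ⊤) {g : M → M} (hg : ∀ v, Q (g v) = Q v) {c : R} (hc : ∀ v, g v = c • v) :
    c * c = 1 := by
  have h0 : ∀ v, (c * c - 1) * Q v = 0 := fun v => by
    have := hg v
    rw [hc, QuadraticMap.map_smul, smul_eq_mul] at this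
    linear_combination this
  have h1 : minorIdeal (polarMat b Q) ≤ (Ideal.span {c * c - 1}).annihilator := by
    refine Ideal.span_le.2 ?_
    rintro _ ⟨p, q, k, l, -, rfl⟩
    rw [SetLike.mem_coe, Submodule.mem_annihilator_span_singleton, smul_eq_mul]
    simp only [polarMat, Matrix.of_apply, QuadraticMap.polar]
    linear_combination (Q (b q + b l) - Q (b q) - Q (b l)) * (h0 (b p + b k) - h0 (b p) - h0 (b k)) -
      (Q (b q + b k) - Q (b q) - Q (b k)) * (h0 (b p + b l) - h0 (b p) - h0 (b l))
  rw [hQ, top_le_iff] at h1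
  have h2 : (1 : R) ∈ (Ideal.span {c * c - 1}).annihilator := by rw [h1]; trivial
  rw [Submodule.mem_annihilator_span_singleton, one_smul, sub_eq_zero] at h2
  exact h2

end Scalar

/-! ### Infinitesimal isometries -/

section Infinitesimal

variable {A : Type u} [CommRing A] {W : Type*} [AddCommGroup W] [Module A W]

/-- The endomorphism `v ↦ B(u,v) w - B(w,v) u`. -/
def wedgeEnd (Q : QuadraticForm A W) (u w : W) : W →ₗ[A] W :=
  (QuadraticMap.polarBilin Q u).smulRight w - (QuadraticMap.polarBilin Q w).smulRight u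

lemma wedgeEnd_apply (Q : QuadraticForm A W) (u w v : W) :
    wedgeEnd Q u w v = polar Q u v • w - polar Q w v • u := rfl

/-- The automorphism `1 + e X` for `e² = 0`. -/
def addSmul (X : W →ₗ[A] W) {e : A} (he : e * e = 0) : W ≃ₗ[A] W :=
  LinearEquiv.ofLinearMap (LinearMap.id + e • X) (LinearMap.id - e • X)
    (by ext v; simp [smul_sub, smul_smul, he])
    (by ext v; simp [smul_add, smul_smul, he])

lemma addSmul_apply (X : W →ₗ[A] W) {e : A} (he : e * e = 0) (v : W) : addSmul X he v = v + e • X v := rfl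

lemma addSmul_mem_O (Q : QuadraticForm A W) (u w : W) {e : A} (he : e * e = 0) :
    addSmul (wedgeEnd Q u w) he ∈ QuadGrp.O Q := by
  intro v
  rw [addSmul_apply, QuadraticMap.map_add (Q : W → A), QuadraticMap.map_smul, polar_smul_right, smul_eq_mul,
    smul_eq_mul, he, zero_mul, add_zero, wedgeEnd_apply, polar_sub_right, polar_smul_right, polar_smul_right,
    polar_comm Q v w, polar_comm Q v u, smul_eq_mul, smul_eq_mul, mul_comm (polar Q u v), sub_self, mul_zero,
    add_zero]

lemma det_addSmul [Module.Free A W] [Module.Finite A W] (Q : QuadraticForm A W) (u w : W) {e : A} (he : e * e = 0) :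
    LinearEquiv.det (addSmul (wedgeEnd Q u w) he) = 1 := by
  classical
  refine Units.ext ?_
  rw [LinearEquiv.coe_det, Units.val_one]
  let bb := Module.Free.chooseBasis A W
  have hcoe : ((addSmul (wedgeEnd Q u w) he : W ≃ₗ[A] W) : W →ₗ[A] W) = LinearMap.id + e • wedgeEnd Q u w := rfl
  rw [hcoe, ← LinearMap.det_toMatrix bb, map_add, map_smul, LinearMap.toMatrix_id, Matrix.det_one_add_smul,
    pow_two, he, mul_zero, add_zero, ← LinearMap.trace_eq_matrix_trace, wedgeEnd, map_sub,
    LinearMap.trace_smulRight, LinearMap.trace_smulRight]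
  simp [QuadraticMap.polarBilin, polar_comm Q u w]

lemma addSmul_dickson (Q : QuadraticForm A W) (u w : W) {e : A} (he : e * e = 0) :
    QuadGrp.IsDicksonTrivial Q (addSmul (wedgeEnd Q u w) he) (addSmul_mem_O Q u w he) := by
  classical
  intro z hz
  let s : CliffordAlgebra Q := CliffordAlgebra.ι Q u * CliffordAlgebra.ι Q w
  let φ : CliffordAlgebra Q →ₐ[A] CliffordAlgebra Q :=
    { toFun := fun x => x - e • (s * x - x * s)
      map_one' := by simp
      map_mul' := fun x y => by
        simp only [sub_mul, mul_sub, smul_sub, smul_mul_assoc, mul_smul_comm, smul_smul, he, zero_smul, mul_assoc]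
        abel
      map_zero' := by simp
      map_add' := fun x y => by
        simp only [mul_add, add_mul, smul_sub, smul_add]
        abel
      commutes' := fun r => by rw [Algebra.commutes r s, sub_self, smul_zero, sub_zero] }
  have hmap : CliffordAlgebra.map (QuadGrp.isometryOfMem Q _ (addSmul_mem_O Q u w he)) = φ := by
    refine CliffordAlgebra.hom_ext (LinearMap.ext fun v => ?_)
    simp only [LinearMap.coe_comp, Function.comp_apply, AlgHom.toLinearMap_apply]
    rw [CliffordAlgebra.map_apply_ι, QuadGrp.isometryOfMem_apply, addSmul_apply, map_add, map_smul, wedgeEnd_apply,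
      map_sub, map_smul, map_smul]
    show _ = CliffordAlgebra.ι Q v - e • (s * CliffordAlgebra.ι Q v - CliffordAlgebra.ι Q v * s)
    have h1 : CliffordAlgebra.ι Q w * CliffordAlgebra.ι Q v =
        algebraMap A _ (polar Q w v) - CliffordAlgebra.ι Q v * CliffordAlgebra.ι Q w :=
      eq_sub_of_add_eq (CliffordAlgebra.ι_mul_ι_add_swap w v)
    have h2 : CliffordAlgebra.ι Q v * CliffordAlgebra.ι Q u =
        algebraMap A _ (polar Q u v) - CliffordAlgebra.ι Q u * CliffordAlgebra.ι Q v :=
      eq_sub_of_add_eq (by rw [add_comm]; exact CliffordAlgebra.ι_mul_ι_add_swap u v)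
    simp only [s, mul_assoc, h1]
    rw [← mul_assoc (CliffordAlgebra.ι Q v), h2]
    simp only [mul_sub, sub_mul, Algebra.algebraMap_eq_smul_one, smul_mul_assoc, mul_smul_comm, one_mul, mul_one,
      smul_sub, mul_assoc]
    abel
  rw [hmap]
  show (z : CliffordAlgebra Q) - e • (s * z - z * s) = z
  have hs : s ∈ CliffordAlgebra.even Q := CliffordAlgebra.ι_mul_ι_mem_evenOdd_zero Q u w
  have hc := congrArg Subtype.val (Subalgebra.mem_center_iff.1 hz ⟨s, hs⟩)
  simp only [MulMemClass.coe_mul] at hc
  rw [hc, sub_self, smul_zero, sub_zero]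

end Infinitesimal

/-! ### Extracting the identity from dual numbers -/

section Dual

open DualNumber

variable {R : Type u} [CommRing R] {M : Type*} [AddCommGroup M] [Module R M] [Module.Free R M]

lemma baseChangeForm_tmul (A : Type u) [CommRing A] [Algebra R A] (Q : QuadraticForm R M) (a : A) (v : M) :
    QuadGrp.baseChangeForm A Q (a ⊗ₜ[R] v) = algebraMap R A (Q v) * (a * a) := by
  rw [QuadGrp.baseChangeForm, LinearMap.compQuadraticMap_apply, QuadGrp.baseChange_tmul]
  simp [Algebra.smul_def]

lemma polar_baseChangeForm (A : Type u) [CommRing A] [Algebra R A] (Q : QuadraticForm R M) (u v : M) :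
    polar (QuadGrp.baseChangeForm A Q) ((1 : A) ⊗ₜ[R] u) ((1 : A) ⊗ₜ[R] v) = algebraMap R A (polar Q u v) := by
  simp only [QuadraticMap.polar, ← TensorProduct.tmul_add, baseChangeForm_tmul, mul_one, map_sub]

lemma mem_O_baseChange_iff (A : Type u) [CommRing A] [Algebra R A] (Q : QuadraticForm R M)
    (h : (A ⊗[R] M) ≃ₗ[A] (A ⊗[R] M)) :
    h ∈ QuadGrp.O (QuadGrp.baseChangeForm A Q) ↔ h ∈ QuadGrp.O (QuadGrp.baseChange A Q) := by
  simp only [QuadGrp.mem_O, QuadGrp.baseChangeForm, LinearMap.compQuadraticMap_apply, LinearEquiv.coe_coe,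
    EmbeddingLike.apply_eq_iff_eq]

theorem infinitesimal_of_commute (Q : QuadraticForm R M) (g : M ≃ₗ[R] M)
    (h : ∀ u w : M,
      g.baseChange R R[ε] M M * addSmul (wedgeEnd (QuadGrp.baseChangeForm R[ε] Q) ((1 : R[ε]) ⊗ₜ u) (1 ⊗ₜ w)) (eps_mul_eps (R := R)) =
        addSmul (wedgeEnd (QuadGrp.baseChangeForm R[ε] Q) ((1 : R[ε]) ⊗ₜ u) (1 ⊗ₜ w)) (eps_mul_eps (R := R)) * g.baseChange R R[ε] M M)
    (u w v : M) :
    polar Q u v • g w - polar Q w v • g u = polar Q u (g v) • w - polar Q w (g v) • u := by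
  have h1 := LinearEquiv.congr_fun (h u w) ((1 : R[ε]) ⊗ₜ v)
  simp only [LinearEquiv.mul_apply, addSmul_apply, wedgeEnd_apply, LinearEquiv.baseChange_tmul,
    polar_baseChangeForm, map_add, map_smul, map_sub, algebraMap_smul, ← TensorProduct.tmul_smul,
    ← TensorProduct.tmul_sub] at h1
  have h2 := congrArg (fun t => TensorProduct.lid R M
    (LinearMap.rTensor M (TrivSqZeroExt.sndHom R R : R[ε] →ₗ[R] R) t)) (add_left_cancel h1)
  simpa [TensorProduct.smul_tmul'] using h2

end Dual

end QuadLib
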