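/-
Change of basis for the half discriminant.
-/
import Groth.Agent.Lib.QuadHalf
import Mathlib.LinearAlgebra.Matrix.BilinearForm

set_option autoImplicit false
set_option linter.unusedSectionVars false

open Matrix MvPolynomial

namespace QuadLib

universe u

variable {R : Type u} [CommRing R] {n : ℕ}

/-- The coefficients of the quadratic form of a (not necessarily symmetric) matrix. -/
def matCoeffs {S : Type*} [CommRing S] (T : Matrix (Fin n) (Fin n) S) : Sym2 (Fin n) → S :=
  Sym2.lift ⟨fun i j => if i = j then T i i else T i j + T j i, fun i j => by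
    by_cases h : i = j
    · subst h; rfl
    · simp [h, Ne.symm h, add_comm]⟩

/-- The half discriminant of the quadratic form of a matrix. -/
noncomputable def matHalf {S : Type*} [CommRing S] (T : Matrix (Fin n) (Fin n) S) : S :=
  eval₂Hom (Int.castRingHom S) (matCoeffs T) (QuadGrp.halfDiscUniv n)

lemma two_mul_matHalf {S : Type*} [CommRing S] (hn : Odd n) (T : Matrix (Fin n) (Fin n) S) :
    2 * matHalf T = (T + Tᵀ).det := by
  have hmap : (QuadGrp.univPolarMat n).map (eval₂Hom (Int.castRingHom S) (matCoeffs T)) = T + Tᵀ := by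
    ext i j
    simp only [map_apply, QuadGrp.univPolarMat, of_apply, Matrix.add_apply, transpose_apply]
    by_cases h : i = j
    · subst h
      rw [if_pos rfl, map_mul, map_ofNat, eval₂Hom_X']
      simp [matCoeffs, two_mul]
    · rw [if_neg h, eval₂Hom_X']
      simp [matCoeffs, h]
  rw [← hmap, ← RingHom.mapMatrix_apply, ← RingHom.map_det,
    show (QuadGrp.univPolarMat n).det = QuadGrp.discUniv n from rfl, ← two_mul_halfDiscUniv hn, map_mul,
    map_ofNat]
  rfl

lemma map_matHalf {S S' : Type*} [CommRing S] [CommRing S'] (f : S →+* S') (T : Matrix (Fin n) (Fin n) S) :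
    f (matHalf T) = matHalf (T.map f) := by
  simp only [matHalf, coe_eval₂Hom]
  rw [eval₂_comp_left, show f.comp (Int.castRingHom S) = Int.castRingHom S' from RingHom.ext_int _ _]
  congr 1
  funext s
  induction s using Sym2.ind with
  | h i j => simp [matCoeffs, apply_ite f]

lemma matHalf_congr {S : Type*} [CommRing S] (hn : Odd n) (T P : Matrix (Fin n) (Fin n) S) :
    matHalf (Pᵀ * T * P) = P.det ^ 2 * matHalf T := by
  let U := MvPolynomial ((Fin n × Fin n) ⊕ (Fin n × Fin n)) ℤ
  let T₀ : Matrix (Fin n) (Fin n) U := Matrix.of fun i j => X (Sum.inl (i, j))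
  let P₀ : Matrix (Fin n) (Fin n) U := Matrix.of fun i j => X (Sum.inr (i, j))
  have key : matHalf (P₀ᵀ * T₀ * P₀) = P₀.det ^ 2 * matHalf T₀ := by
    have h2 : (2 : U) ≠ 0 := by
      rw [← map_ofNat (C : ℤ →+* U) 2, ne_eq, C_eq_zero]
      norm_num
    refine mul_left_cancel₀ h2 ?_
    rw [two_mul_matHalf hn, mul_left_comm, two_mul_matHalf hn]
    have : P₀ᵀ * T₀ * P₀ + (P₀ᵀ * T₀ * P₀)ᵀ = P₀ᵀ * (T₀ + T₀ᵀ) * P₀ := by
      rw [transpose_mul, transpose_mul, transpose_transpose, Matrix.mul_add, Matrix.add_mul, Matrix.mul_assoc P₀ᵀ T₀ᵀ]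
    rw [this, det_mul, det_mul, det_transpose]
    ring
  let π : U →+* S := eval₂Hom (Int.castRingHom S) (Sum.elim (fun ij => T ij.1 ij.2) fun ij => P ij.1 ij.2)
  have hT : T₀.map π = T := by ext i j; exact eval₂_X _ _ _
  have hP : P₀.map π = P := by ext i j; exact eval₂_X _ _ _
  have h := congrArg π key
  rw [map_matHalf, map_mul, map_pow, map_matHalf, RingHom.map_det, RingHom.mapMatrix_apply, Matrix.map_mul,
    Matrix.map_mul, transpose_map, hT, hP] at h
  exact h

variable {M : Type*} [AddCommGroup M] [Module R M]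

lemma halfDisc_toQuadraticMap (b : Module.Basis (Fin n) R M) (B : LinearMap.BilinForm R M) :
    QuadGrp.halfDisc b (LinearEquiv.refl R R) B.toQuadraticMap = matHalf (LinearMap.BilinForm.toMatrix b B) := by
  rw [matHalf, coe_eval₂Hom]
  refine congrArg (fun c => eval₂ (Int.castRingHom R) c (QuadGrp.halfDiscUniv n)) (funext fun s => ?_)
  induction s using Sym2.ind with
  | h i j =>
    rw [QuadGrp.coeffs_mk]
    simp only [matCoeffs, Sym2.lift_mk, LinearMap.BilinForm.toMatrix_apply, LinearEquiv.refl_apply]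
    split_ifs with h
    · subst h; rfl
    · exact LinearMap.BilinMap.polar_toQuadraticMap _ _

lemma halfDisc_comp (hn : Odd n) (b : Module.Basis (Fin n) R M) (Q : QuadraticForm R M) (g : M →ₗ[R] M) :
    QuadGrp.halfDisc b (LinearEquiv.refl R R) (Q.comp g) =
      LinearMap.det g ^ 2 * QuadGrp.halfDisc b (LinearEquiv.refl R R) Q := by
  have : Module.Free R M := Module.Free.of_basis b
  obtain ⟨B, rfl⟩ := LinearMap.BilinMap.toQuadraticMap_surjective Q
  have : (LinearMap.BilinMap.toQuadraticMap B).comp g = LinearMap.BilinMap.toQuadraticMap (LinearMap.BilinForm.comp B g g) := by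
    ext x; rfl
  rw [this, halfDisc_toQuadraticMap, halfDisc_toQuadraticMap, ← LinearMap.det_toMatrix b g, ← matHalf_congr hn]
  exact congrArg matHalf (LinearMap.BilinForm.toMatrix_comp (b := b) b B g g)

end QuadLib
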