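/-
Root pairings with finite index set, crystallographic over a domain of characteristic zero:
integral Gram matrix, chains of roots, closed sets of roots, positive and simple systems.
-/
import Mathlib
import Groth.Prelude.Def_W4sga3xxiRoot

set_option autoImplicit false
set_option maxHeartbeats 400000
set_option linter.unusedSectionVars false
set_option linter.style.haveILetI false
set_option linter.unusedSimpArgs false

noncomputable section

open Set Function RootPairing

namespace RootLib

variable {ι R M N : Type*} [CommRing R] [AddCommGroup M] [Module R M] [AddCommGroup N] [Module R N]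
variable (P : RootPairing ι R M N)

/-- The opposite root. -/
abbrev nr (i : ι) : ι := P.reflectionPerm i i

lemma root_nr (i : ι) : P.root (nr P i) = -P.root i := by
  simp [nr]

lemma nr_nr (i : ι) : nr P (nr P i) = i := by
  apply P.root.injective
  rw [root_nr, root_nr, neg_neg]

lemma nr_eq_of_root {i j : ι} (h : P.root j = -P.root i) : j = nr P i := by
  apply P.root.injective
  rw [root_nr, h]

lemma mem_natSpan_iff_list {S : Set ι} {x : M} :
    x ∈ RootD.natSpan P S ↔ ∃ L : List ι, (∀ a ∈ L, a ∈ S) ∧ x = (L.map P.root).sum := by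
  constructor
  · intro hx
    induction hx using AddSubmonoid.closure_induction with
    | mem x hx =>
      obtain ⟨a, ha, rfl⟩ := hx
      exact ⟨[a], by simp [ha], by simp⟩
    | zero => exact ⟨[], by simp, by simp⟩
    | add x y _ _ hx hy =>
      obtain ⟨L, hL, rfl⟩ := hx
      obtain ⟨L', hL', rfl⟩ := hy
      exact ⟨L ++ L', by simp only [List.mem_append]; rintro a (h | h); exacts [hL a h, hL' a h],
        by simp⟩
  · rintro ⟨L, hL, rfl⟩
    refine AddSubmonoid.list_sum_mem _ ?_
    intro x hx
    obtain ⟨a, ha, rfl⟩ := List.mem_map.1 hx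
    exact AddSubmonoid.subset_closure ⟨a, hL a ha, rfl⟩

lemma root_mem_natSpan {S : Set ι} {a : ι} (ha : a ∈ S) : P.root a ∈ RootD.natSpan P S :=
  AddSubmonoid.subset_closure ⟨a, ha, rfl⟩

lemma natSpan_mono {S T : Set ι} (h : S ⊆ T) : RootD.natSpan P S ≤ RootD.natSpan P T :=
  AddSubmonoid.closure_mono (Set.image_mono h)

lemma natSpan_le_of_forall {S T : Set ι} (h : ∀ a ∈ S, P.root a ∈ RootD.natSpan P T) :
    RootD.natSpan P S ≤ RootD.natSpan P T := by
  refine AddSubmonoid.closure_le.2 ?_
  rintro _ ⟨a, ha, rfl⟩
  exact h a ha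

lemma sum_map_perm_erase [DecidableEq ι] {L : List ι} {a : ι} (h : a ∈ L) :
    (L.map P.root).sum = P.root a + ((L.erase a).map P.root).sum := by
  rw [((List.perm_cons_erase h).map P.root).sum_eq]
  simp

/-- `c` is supported in `S`. -/
def SuppIn {α : Type*} [Zero α] (S : Set ι) (c : ι → α) : Prop := ∀ i, i ∉ S → c i = 0

lemma root_ne_zero [CharZero R] (i : ι) : P.root i ≠ 0 := P.ne_zero i

include P in
lemma torsionFree [CharZero R] [IsDomain R] : IsAddTorsionFree M := by
  have : Module.IsReflexive R M := .of_isPerfPair P.toLinearMap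
  exact .of_isTorsionFree R M

section Finite

variable [Finite ι]

lemma mem_natSpan_iff_fun [Fintype ι] {S : Set ι} {x : M} :
    x ∈ RootD.natSpan P S ↔ ∃ c : ι → ℕ, SuppIn S c ∧ x = ∑ i, c i • P.root i := by
  classical
  constructor
  · intro hx
    induction hx using AddSubmonoid.closure_induction with
    | mem x hx =>
      obtain ⟨a, ha, rfl⟩ := hx
      refine ⟨Pi.single a 1, fun i hi => ?_, ?_⟩
      · have hne : i ≠ a := fun h => hi (h ▸ ha)
        simp [hne]
      · rw [Finset.sum_eq_single a] <;> simp +contextual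
    | zero => exact ⟨0, fun i _ => rfl, by simp⟩
    | add x y _ _ hx hy =>
      obtain ⟨c, hc, rfl⟩ := hx
      obtain ⟨d, hd, rfl⟩ := hy
      exact ⟨c + d, fun i hi => by simp [hc i hi, hd i hi], by
        simp [add_smul, Finset.sum_add_distrib]⟩
  · rintro ⟨c, hc, rfl⟩
    refine AddSubmonoid.sum_mem _ fun i _ => ?_
    by_cases hi : i ∈ S
    · exact AddSubmonoid.nsmul_mem _ (root_mem_natSpan P hi) _
    · simp [hc i hi]

variable [CharZero R] [IsDomain R] [P.IsCrystallographic]

/-- The integral pairing. -/
abbrev pZ (i j : ι) : ℤ := P.pairingIn ℤ i j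

/-- The integral Gram matrix of the canonical form. -/
def gram (i j : ι) : ℤ :=
  letI := Fintype.ofFinite ι
  ∑ k, pZ P i k * pZ P j k

omit [CharZero R] [IsDomain R] in
lemma cast_pZ (i j : ι) : ((pZ P i j : ℤ) : R) = P.pairing i j := by
  simpa using P.algebraMap_pairingIn ℤ i j

omit [CharZero R] [IsDomain R] in
lemma gram_eq [Fintype ι] (i j : ι) : gram P i j = ∑ k, pZ P i k * pZ P j k := by
  rw [gram]
  congr!

omit [CharZero R] [IsDomain R] in
lemma cast_gram [Fintype ι] (i j : ι) :
    ((gram P i j : ℤ) : R) = P.RootForm (P.root i) (P.root j) := by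
  rw [gram_eq, P.rootForm_apply_apply, Int.cast_sum]
  refine Finset.sum_congr rfl fun k _ => ?_
  rw [Int.cast_mul, cast_pZ, cast_pZ]
  simp [mul_comm]

omit [CharZero R] [IsDomain R] in
lemma gram_comm (i j : ι) : gram P i j = gram P j i := by
  simp only [gram, mul_comm]

lemma gram_self_pos (i : ι) : 0 < gram P i i := by
  letI := Fintype.ofFinite ι
  rw [gram_eq]
  refine Finset.sum_pos' (fun k _ => mul_self_nonneg _) ⟨i, Finset.mem_univ _, ?_⟩
  simp [pZ]

lemma two_mul_gram (i j : ι) : 2 * gram P i j = pZ P i j * gram P j j := by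
  letI := Fintype.ofFinite ι
  apply Int.cast_injective (α := R)
  push_cast
  rw [cast_gram, cast_pZ, cast_gram]
  simpa using P.toInvariantForm.two_mul_apply_root_root i j

lemma gram_pos_iff (i j : ι) : 0 < gram P i j ↔ 0 < pZ P i j := by
  have h := two_mul_gram P i j
  have hj := gram_self_pos P j
  constructor <;> intro hh
  · by_contra hc
    have : pZ P i j * gram P j j ≤ 0 := mul_nonpos_of_nonpos_of_nonneg (not_lt.1 hc) hj.le
    omega
  · have : 0 < pZ P i j * gram P j j := mul_pos hh hj
    omega

lemma gram_neg_iff (i j : ι) : gram P i j < 0 ↔ pZ P i j < 0 := by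
  have h := two_mul_gram P i j
  have hj := gram_self_pos P j
  constructor <;> intro hh
  · by_contra hc
    have : 0 ≤ pZ P i j * gram P j j := mul_nonneg (not_lt.1 hc) hj.le
    omega
  · have : pZ P i j * gram P j j < 0 := mul_neg_of_neg_of_pos hh hj
    omega

lemma gram_eq_zero_iff (i j : ι) : gram P i j = 0 ↔ pZ P i j = 0 := by
  have h1 := gram_pos_iff P i j
  have h2 := gram_neg_iff P i j
  omega

lemma pairing_eq_zero_iff_gram (i j : ι) : P.pairing i j = 0 ↔ gram P i j = 0 := by
  rw [gram_eq_zero_iff, ← cast_pZ, Int.cast_eq_zero]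

lemma isOrthogonal_iff_gram (i j : ι) : P.IsOrthogonal i j ↔ gram P i j = 0 := by
  rw [RootPairing.IsOrthogonal, pairing_eq_zero_iff_gram, pairing_eq_zero_iff_gram, gram_comm P j i,
    and_self]

/-- Linearity of the Gram matrix along an integral combination. -/
lemma gram_linear [Fintype ι] {k : ι} {c : ι → ℤ} (h : P.root k = ∑ i, c i • P.root i) (a : ι) :
    gram P k a = ∑ i, c i * gram P i a := by
  apply Int.cast_injective (α := R)
  push_cast
  simp only [cast_gram, h, map_sum, map_zsmul, LinearMap.sum_apply, LinearMap.smul_apply,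
    zsmul_eq_mul]

lemma gram_list {k : ι} {L : List ι} (h : P.root k = (L.map P.root).sum) (a : ι) :
    gram P k a = (L.map fun i => gram P i a).sum := by
  letI := Fintype.ofFinite ι
  apply Int.cast_injective (α := R)
  rw [cast_gram, h]
  clear h
  induction L with
  | nil => simp
  | cons b L ih => simp [cast_gram, ← ih]

lemma gram_add {i j k : ι} (h : P.root k = P.root i + P.root j) (a : ι) :
    gram P k a = gram P i a + gram P j a := by
  simpa using gram_list P (k := k) (L := [i, j]) (by simp [h]) a

lemma gram_nr_left (i a : ι) : gram P (nr P i) a = -gram P i a := by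
  letI := Fintype.ofFinite ι
  apply Int.cast_injective (α := R)
  push_cast
  rw [cast_gram, cast_gram, root_nr, map_neg, LinearMap.neg_apply]

lemma nr_ne (i : ι) : nr P i ≠ i := fun h => by
  have h1 := gram_nr_left P i i
  rw [h] at h1
  have := gram_self_pos P i
  omega

lemma exists_root_sub {i j : ι} (h : 0 < gram P i j) (hne : i ≠ j) :
    ∃ k, P.root k = P.root i - P.root j :=
  P.root_sub_root_mem_of_pairingIn_pos ((gram_pos_iff P i j).1 h) hne

lemma exists_root_add {i j : ι} (h : gram P i j < 0) (hne : j ≠ nr P i) :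
    ∃ k, P.root k = P.root i + P.root j := by
  refine P.root_add_root_mem_of_pairingIn_neg ((gram_neg_iff P i j).1 h) fun hh => hne ?_
  exact nr_eq_of_root P (by rw [hh, neg_neg])

/-- A root whose vector is a sum over `L` can be peeled at some member of `L`. -/
lemma peel [DecidableEq ι] {k : ι} {L : List ι} (h : P.root k = (L.map P.root).sum) :
    ∃ a ∈ L, k = a ∨ ∃ k', P.root k = P.root k' + P.root a ∧
      P.root k' = ((L.erase a).map P.root).sum := by
  have hpos := gram_self_pos P k
  rw [gram_list P h k] at hpos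
  obtain ⟨a, ha, hak⟩ : ∃ a ∈ L, 0 < gram P a k := by
    by_contra hc
    push Not at hc
    have : (L.map fun i => gram P i k).sum ≤ 0 := by
      refine le_trans (List.sum_le_sum (g := fun _ => (0 : ℤ)) hc) ?_
      simp
    omega
  refine ⟨a, ha, ?_⟩
  by_cases hka : k = a
  · exact Or.inl hka
  right
  obtain ⟨k', hk'⟩ := exists_root_sub P (by rw [gram_comm]; exact hak) hka
  refine ⟨k', by rw [hk', sub_add_cancel], ?_⟩
  rw [hk', h, sum_map_perm_erase P ha, add_sub_cancel_left]

/-- Every root which is a sum of roots from a list is reached by a chain of partial sums. -/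
lemma exists_chain {k : ι} {L : List ι} (h : P.root k = (L.map P.root).sum) :
    ∃ L' : List ι, L' ≠ [] ∧ (∀ a ∈ L', a ∈ L) ∧ P.root k = (L'.map P.root).sum ∧
      ∀ p < L'.length, ∃ j, P.root j = ((L'.take (p + 1)).map P.root).sum := by
  classical
  generalize hn : L.length = n
  induction n using Nat.strong_induction_on generalizing k L with
  | _ n ih =>
  obtain ⟨a, ha, hka | ⟨k', hk, hk'⟩⟩ := peel P h
  · subst hka
    refine ⟨[k], by simp, by simpa using ha, by simp, fun p hp => ⟨k, ?_⟩⟩
    simp only [List.length_singleton, Nat.lt_one_iff] at hp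
    subst hp; simp
  · have hlen : (L.erase a).length < n := by
      rw [List.length_erase_of_mem ha]
      have : 0 < L.length := List.length_pos_of_mem ha
      omega
    obtain ⟨L', hne, hmem, hsum, htake⟩ := ih _ hlen hk' rfl
    refine ⟨L' ++ [a], by simp, ?_, by simp [hk, hsum], ?_⟩
    · intro b hb
      rcases List.mem_append.1 hb with hb | hb
      · exact List.mem_of_mem_erase (hmem b hb)
      · simp at hb; exact hb ▸ ha
    · intro p hp
      simp only [List.length_append, List.length_singleton] at hp
      by_cases hp' : p < L'.length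
      · obtain ⟨j, hj⟩ := htake p hp'
        exact ⟨j, by rw [List.take_append_of_le_length (by omega), hj]⟩
      · have : p = L'.length := by omega
        subst this
        exact ⟨k, by simp [hk, hsum]⟩

lemma closed_mem {T : Set ι} (hT : RootD.IsClosedSub P T) {k : ι} {L : List ι}
    (hL : ∀ a ∈ L, a ∈ T) (h : P.root k = (L.map P.root).sum) : k ∈ T := by
  classical
  generalize hn : L.length = n
  induction n using Nat.strong_induction_on generalizing k L with
  | _ n ih =>
  obtain ⟨a, ha, hka | ⟨k', hk, hk'⟩⟩ := peel P h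
  · exact hka ▸ hL a ha
  · have hlen : (L.erase a).length < n := by
      rw [List.length_erase_of_mem ha]
      have : 0 < L.length := List.length_pos_of_mem ha
      omega
    exact hT (ih _ hlen (fun b hb => hL b (List.mem_of_mem_erase hb)) hk' rfl) (hL a ha) hk

lemma closed_mem_natSpan {T : Set ι} (hT : RootD.IsClosedSub P T) {k : ι}
    (h : P.root k ∈ RootD.natSpan P T) : k ∈ T := by
  obtain ⟨L, hL, hLs⟩ := (mem_natSpan_iff_list P).1 h
  exact closed_mem P hT hL hLs

lemma closed_sum_ne_zero {T : Set ι} (hT : RootD.IsClosedSub P T)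
    (h1 : ∀ i ∈ T, nr P i ∉ T) {L : List ι} (hL : ∀ a ∈ L, a ∈ T) (hne : L ≠ []) :
    (L.map P.root).sum ≠ 0 := by
  classical
  generalize hn : L.length = n
  induction n using Nat.strong_induction_on generalizing L with
  | _ n ih =>
  intro hsum
  obtain ⟨a, L', rfl⟩ := List.exists_cons_of_ne_nil hne
  simp only [List.map_cons, List.sum_cons] at hsum
  by_cases hL' : L' = []
  · subst hL'; simp [root_ne_zero P a] at hsum
  have hneg : P.root (nr P a) = (L'.map P.root).sum := by
    rw [root_nr]; exact (eq_neg_of_add_eq_zero_right hsum).symm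
  have hmem : ∀ b ∈ L', b ∈ T := fun b hb => hL b (List.mem_cons_of_mem _ hb)
  exact h1 a (hL a (List.mem_cons_self ..)) (closed_mem P hT hmem hneg)

lemma isPosSys_iff (S : Set ι) :
    RootD.IsPosSys P S ↔ ((∀ i ∈ S, nr P i ∉ S) ∧ (∀ i, i ∈ S ∨ nr P i ∈ S) ∧
      RootD.IsClosedSub P S) := by
  constructor
  · intro h
    refine ⟨fun i hi => h.disjoint hi, h.cover, ?_⟩
    intro i j k hi hj hk
    refine h.sat 1 one_pos ?_
    rw [one_smul, hk]
    exact AddSubmonoid.add_mem _ (root_mem_natSpan P hi) (root_mem_natSpan P hj)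
  · rintro ⟨h1, h2, h3⟩
    refine ⟨fun i hi => h1 i hi, h2, fun k n hn hk => ?_⟩
    by_contra hkS
    have hnk : nr P k ∈ S := (h2 k).resolve_left hkS
    obtain ⟨L, hL, hLs⟩ := (mem_natSpan_iff_list P).1 hk
    refine closed_sum_ne_zero P h3 h1 (L := L ++ List.replicate n (nr P k)) ?_ ?_ ?_
    · intro a ha
      rcases List.mem_append.1 ha with ha | ha
      · exact hL a ha
      · exact (List.eq_of_mem_replicate ha).symm ▸ hnk
    · simp only [ne_eq, List.append_eq_nil_iff, List.replicate_eq_nil_iff, not_and]
      exact fun _ => hn.ne'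
    · rw [List.map_append, List.sum_append, List.map_replicate, List.sum_replicate, ← hLs, root_nr]
      simp

lemma posSys_closed {S : Set ι} (h : RootD.IsPosSys P S) : RootD.IsClosedSub P S :=
  ((isPosSys_iff P S).1 h).2.2

/-- The positive roots of an odd additive function to an ordered group. -/
lemma isPosSys_of_fun {G : Type*} [AddCommGroup G] [PartialOrder G] [IsOrderedAddMonoid G]
    (f : ι → G) (hneg : ∀ i, f (nr P i) = -f i)
    (hadd : ∀ i j k, P.root k = P.root i + P.root j → f k = f i + f j)
    (hne : ∀ i, 0 < f i ∨ f i < 0) : RootD.IsPosSys P {i | 0 < f i} := by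
  rw [isPosSys_iff]
  refine ⟨fun i (hi : 0 < f i) => ?_, fun i => ?_, fun i j k (hi : 0 < f i) (hj : 0 < f j) h => ?_⟩
  · show ¬ (0 < f (nr P i))
    rw [hneg]; intro h
    exact lt_asymm hi (neg_pos.1 h)
  · rcases hne i with h | h
    · exact Or.inl h
    · right; show 0 < f (nr P i); rw [hneg]; exact neg_pos.2 h
  · show 0 < f k
    rw [hadd i j k h]; exact add_pos hi hj

/-- Definiteness of the form on integral combinations of roots. -/
lemma eq_zero_of_rootForm_self [Fintype ι] (c : ι → ℤ)
    (h : ∑ i, ∑ j, c i * c j * gram P i j = 0) : ∑ i, c i • P.root i = 0 := by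
  by_contra hne
  set x : P.rootSpan ℤ := ∑ i, c i • P.rootSpanMem ℤ i with hx
  have hxM : (x : M) = ∑ i, c i • P.root i := by simp [hx]
  have hx0 : x ≠ 0 := fun h0 => hne (by rw [← hxM, h0]; rfl)
  have hpos := P.posRootForm_posForm_pos_of_ne_zero ℤ hx0
  have hcast : (((P.posRootForm ℤ).posForm x x : ℤ) : R) = P.RootForm (x : M) (x : M) := by
    simpa using P.algebraMap_posRootForm_posForm ℤ x x
  have h0 : P.RootForm (x : M) (x : M) = 0 := by
    rw [hxM]
    simp only [map_sum, map_zsmul, LinearMap.sum_apply, LinearMap.smul_apply, ← cast_gram,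
      zsmul_eq_mul]
    have := congrArg (fun z : ℤ => (z : R)) h
    push_cast at this
    rw [← this]
    simp only [Finset.mul_sum]
    rw [Finset.sum_comm]
    refine Finset.sum_congr rfl fun i _ => Finset.sum_congr rfl fun j _ => ?_
    ring
  rw [h0, Int.cast_eq_zero] at hcast
  omega

end Finite

end RootLib
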