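/-
Simple systems and positive systems of roots (root-only definitions, possibly non-reduced).
-/
import Groth.Agent.Lib.RootCore

set_option autoImplicit false
set_option maxHeartbeats 400000
set_option linter.unusedSectionVars false
set_option linter.style.haveILetI false
set_option linter.unusedSimpArgs false

noncomputable section

open Set Function RootPairing

namespace RootLib

variable {ι R M N : Type*} [CommRing R] [AddCommGroup M] [Module R M] [AddCommGroup N] [Module R N]
variable (P : RootPairing ι R M N) [Finite ι] [CharZero R] [IsDomain R] [P.IsCrystallographic]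

attribute [local instance] Fintype.ofFinite

/-- Integral independence of the roots in `S`. -/
def IntIndep (S : Set ι) : Prop :=
  ∀ c : ι → ℤ, SuppIn S c → ∑ i, c i • P.root i = 0 → c = 0

/-- The indecomposable elements of `S`. -/
def simples (S : Set ι) : Set ι :=
  {k | k ∈ S ∧ ¬ ∃ i j, i ∈ S ∧ j ∈ S ∧ P.root k = P.root i + P.root j}

lemma simples_subset (S : Set ι) : simples P S ⊆ S := fun _ h => h.1

variable {P}

lemma posSys_nat_comb_eq_zero {S : Set ι} (h : RootD.IsPosSys P S) {c : ι → ℕ}
    (hc : SuppIn S c) (h0 : ∑ i, c i • P.root i = 0) : c = 0 := by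
  classical
  funext a
  by_contra ha
  replace ha : c a ≠ 0 := ha
  have haS : a ∈ S := by
    by_contra hh; exact ha (hc a hh)
  have hmem : P.root (nr P a) ∈ RootD.natSpan P S := by
    have h1 : (∑ i, (if i = a then c a - 1 else c i) • P.root i) + P.root a = 0 := by
      rw [← h0]
      rw [← Finset.sum_erase_add _ _ (Finset.mem_univ a), ← Finset.sum_erase_add _ _ (Finset.mem_univ a)]
      rw [add_assoc]
      have hstep : c a • P.root a = (c a - 1) • P.root a + P.root a := by
        conv_lhs => rw [show c a = (c a - 1) + 1 from by omega]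
        rw [add_smul, one_smul]
      rw [if_pos rfl, ← hstep]
      congr 1
      refine Finset.sum_congr rfl fun i hi => ?_
      rw [if_neg (Finset.ne_of_mem_erase hi)]
    rw [root_nr, neg_eq_of_add_eq_zero_left h1]
    refine (mem_natSpan_iff_fun P).2 ⟨_, fun i hi => ?_, rfl⟩
    have : i ≠ a := fun h => hi (h ▸ haS)
    simp [this, hc i hi]
  exact h.disjoint haS (h.sat 1 one_pos (by rwa [one_smul]))

lemma natSpan_simples {S : Set ι} (h : RootD.IsPosSys P S) {k : ι} (hk : k ∈ S) :
    P.root k ∈ RootD.natSpan P (simples P S) := by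
  classical
  obtain ⟨hd, -, hcl⟩ := (isPosSys_iff P S).1 h
  let r : ι → ι → Prop := fun a b => ∃ L : List ι, L ≠ [] ∧ (∀ x ∈ L, x ∈ S) ∧
    P.root b = P.root a + (L.map P.root).sum
  have : IsTrans ι r := ⟨fun a b c ⟨L, h1, h2, h3⟩ ⟨L', _, h2', h3'⟩ => ⟨L ++ L', by simp [h1],
    (by simp only [List.mem_append]; rintro x (hx | hx); exacts [h2 x hx, h2' x hx]),
    (by rw [h3', h3]; simp [add_assoc])⟩⟩
  have : Std.Irrefl r := ⟨fun a ⟨L, h1, h2, h3⟩ => closed_sum_ne_zero P hcl hd h2 h1
    (by simpa using h3)⟩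
  have hwf : WellFounded r := Finite.wellFounded_of_trans_of_irrefl r
  induction k using hwf.induction with
  | h k ih =>
  by_cases hs : k ∈ simples P S
  · exact root_mem_natSpan P hs
  · obtain ⟨i, j, hi, hj, hij⟩ : ∃ i j, i ∈ S ∧ j ∈ S ∧ P.root k = P.root i + P.root j := by
      by_contra hc; exact hs ⟨hk, hc⟩
    rw [hij]
    refine AddSubmonoid.add_mem _ (ih i ⟨[j], by simp, by simpa using hj, by simp [hij]⟩ hi)
      (ih j ⟨[i], by simp, by simpa using hi, by simp [hij, add_comm]⟩ hj)

lemma gram_nonpos_of_simples {S : Set ι} (h : RootD.IsPosSys P S) {a b : ι}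
    (ha : a ∈ simples P S) (hb : b ∈ simples P S) (hne : a ≠ b) : gram P a b ≤ 0 := by
  by_contra hpos
  obtain ⟨c, hc⟩ := exists_root_sub P (not_le.1 hpos) hne
  rcases h.cover c with hcS | hcS
  · exact ha.2 ⟨c, b, hcS, hb.1, by rw [hc, sub_add_cancel]⟩
  · refine hb.2 ⟨a, nr P c, ha.1, hcS, ?_⟩
    rw [root_nr, hc]; abel

lemma intIndep_simples {S : Set ι} (h : RootD.IsPosSys P S) : IntIndep P (simples P S) := by
  classical
  intro c hc h0
  have hx : ∑ i, (max (c i) 0) • P.root i = 0 := by
    refine eq_zero_of_rootForm_self P _ ?_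
    have hdiff : ∀ a, ∑ i, c i * gram P i a = 0 := by
      intro a
      apply Int.cast_injective (α := R)
      push_cast
      have := congrArg (fun x => P.RootForm x (P.root a)) h0
      simpa [map_sum, cast_gram, zsmul_eq_mul] using this
    have hcd : ∀ a, max (c a) 0 - max (-c a) 0 = c a := by intro a; omega
    have hle : ∑ i, ∑ j, max (c i) 0 * max (-c j) 0 * gram P i j ≤ 0 := by
      refine Finset.sum_nonpos fun i _ => Finset.sum_nonpos fun j _ => ?_
      rcases eq_or_ne i j with rfl | hij
      · rcases le_total (c i) 0 with h' | h' <;> simp [h']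
      by_cases hi : i ∈ simples P S
      · by_cases hj : j ∈ simples P S
        · exact mul_nonpos_of_nonneg_of_nonpos
            (mul_nonneg (le_max_right _ _) (le_max_right _ _)) (gram_nonpos_of_simples h hi hj hij)
        · simp [hc j hj]
      · simp [hc i hi]
    have heq : ∑ i, ∑ j, max (c i) 0 * max (c j) 0 * gram P i j
        = ∑ i, ∑ j, max (c i) 0 * max (-c j) 0 * gram P i j := by
      refine Finset.sum_congr rfl fun i _ => ?_
      have := hdiff i
      rw [← sub_eq_zero, ← Finset.sum_sub_distrib]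
      calc ∑ j, (max (c i) 0 * max (c j) 0 * gram P i j - max (c i) 0 * max (-c j) 0 * gram P i j)
          = max (c i) 0 * ∑ j, c j * gram P j i := by
            rw [Finset.mul_sum]
            refine Finset.sum_congr rfl fun j _ => ?_
            rw [gram_comm P j i]
            conv_rhs => rw [← hcd j]
            ring
        _ = 0 := by rw [this, mul_zero]
    have hge : 0 ≤ ∑ i, ∑ j, max (c i) 0 * max (c j) 0 * gram P i j := by
      calc (0 : ℤ) ≤ ∑ k, (∑ i, max (c i) 0 * pZ P i k) * (∑ i, max (c i) 0 * pZ P i k) :=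
            Finset.sum_nonneg fun k _ => mul_self_nonneg _
        _ = _ := by
            simp only [gram_eq, Finset.sum_mul, Finset.mul_sum]
            rw [Finset.sum_comm]
            refine Finset.sum_congr rfl fun i _ => ?_
            rw [Finset.sum_comm]
            refine Finset.sum_congr rfl fun j _ => Finset.sum_congr rfl fun k _ => ?_
            ring
    omega
  have hy : ∑ i, (max (-c i) 0) • P.root i = 0 := by
    have : ∑ i, c i • P.root i = ∑ i, (max (c i) 0) • P.root i - ∑ i, (max (-c i) 0) • P.root i := by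
      rw [← Finset.sum_sub_distrib]
      refine Finset.sum_congr rfl fun i _ => ?_
      rw [← sub_smul]; congr 1; omega
    rw [h0, hx, zero_sub] at this
    exact neg_eq_zero.1 this.symm
  have conv : ∀ d : ι → ℤ, (∀ i, 0 ≤ d i) → SuppIn S d → ∑ i, d i • P.root i = 0 → d = 0 := by
    intro d hd hs hsum
    have := posSys_nat_comb_eq_zero h (c := fun i => (d i).toNat) (fun i hi => by simp [hs i hi]) (by
      rw [← hsum]
      refine Finset.sum_congr rfl fun i _ => ?_
      rw [← natCast_zsmul, Int.toNat_of_nonneg (hd i)])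
    funext i
    have := congrFun this i
    simp at this
    have := hd i
    simp only [Pi.zero_apply]; omega
  have hsupp : ∀ i, i ∉ S → c i = 0 := fun i hi => hc i fun hh => hi (simples_subset P S hh)
  have h1 := conv _ (fun i => le_max_right _ _) (fun i hi => by simp [hsupp i hi]) hx
  have h2 := conv _ (fun i => le_max_right _ _) (fun i hi => by simp [hsupp i hi]) hy
  funext i
  have := congrFun h1 i
  have := congrFun h2 i
  simp only [Pi.zero_apply] at *
  omega

lemma linearIndepOn_of_intIndep {S : Set ι} (h : IntIndep P S) : LinearIndepOn R P.root S := by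
  classical
  let G : Matrix S S ℤ := Matrix.of fun a b => gram P a b
  have hdet : G.det ≠ 0 := by
    intro h0
    obtain ⟨v, hv, hv0⟩ := Matrix.exists_mulVec_eq_zero_iff.2 h0
    let c : ι → ℤ := fun i => if hi : i ∈ S then v ⟨i, hi⟩ else 0
    have hc : SuppIn S c := fun i hi => by simp [c, hi]
    have hconv : ∀ f : ι → ℤ, ∑ i, c i * f i = ∑ a : S, v a * f a := by
      intro f
      rw [← Finset.sum_subset (Finset.subset_univ S.toFinset)
        (fun i _ hi => by simp [hc i (by simpa using hi)])]
      rw [← Finset.sum_subtype S.toFinset (p := fun i => i ∈ S) (by simp) (fun i => c i * f i) |>.symm]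
      refine Finset.sum_congr rfl fun a _ => ?_
      simp [c, a.2]
    have hz := h c hc (eq_zero_of_rootForm_self P c ?_)
    · refine hv (funext fun a => ?_)
      have := congrFun hz a.1
      simpa [c, a.2] using this
    · have hrow : ∀ a : S, ∑ j, c j * gram P a.1 j = 0 := by
        intro a
        rw [hconv]
        have := congrFun hv0 a
        simpa [G, Matrix.mulVec, dotProduct, mul_comm] using this
      calc ∑ i, ∑ j, c i * c j * gram P i j = ∑ i, c i * ∑ j, c j * gram P i j := by
            simp only [Finset.mul_sum, mul_assoc]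
        _ = ∑ a : S, v a * ∑ j, c j * gram P a.1 j := hconv _
        _ = 0 := by simp [hrow]
  rw [LinearIndepOn, Fintype.linearIndependent_iff]
  intro g hg a
  have hmv : (G.map (Int.castRingHom R)).mulVec g = 0 := by
    funext b
    have := congrArg (fun x => P.RootForm x (P.root b.1)) hg
    simp only [map_sum, map_smul, LinearMap.sum_apply, LinearMap.smul_apply, smul_eq_mul,
      map_zero, LinearMap.zero_apply] at this
    rw [Pi.zero_apply, ← this]
    refine Finset.sum_congr rfl fun x _ => ?_
    simp [G, ← cast_gram, gram_comm P b.1 x.1, mul_comm]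
  have hdetR : (G.map (Int.castRingHom R)).det ≠ 0 := by
    rw [← RingHom.mapMatrix_apply, ← RingHom.map_det]
    simpa using hdet
  have hg0 : g = 0 := by
    by_contra hne
    exact hdetR (Matrix.exists_mulVec_eq_zero_iff.1 ⟨g, hne, hmv⟩)
  exact congrFun hg0 a

lemma intIndep_of_linearIndepOn {S : Set ι} (h : LinearIndepOn R P.root S) : IntIndep P S := by
  classical
  intro c hc h0
  have h' := (linearIndepOn_iff'.1 h) S.toFinset (fun i => (c i : R)) (by simp) ?_
  · funext i
    by_cases hi : i ∈ S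
    · have := h' i (by simpa using hi)
      simpa using this
    · exact hc i hi
  · rw [Finset.sum_subset (Finset.subset_univ _) (fun i _ hi => by simp [hc i (by simpa using hi)])]
    simpa [Int.cast_smul_eq_zsmul] using h0

lemma isSimpleSys_simples {S : Set ι} (h : RootD.IsPosSys P S) :
    RootD.IsSimpleSys P (simples P S) := by
  refine ⟨linearIndepOn_of_intIndep (intIndep_simples h), fun i => ?_⟩
  rcases h.cover i with hi | hi
  · exact Or.inl (natSpan_simples h hi)
  · right
    have := natSpan_simples h hi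
    rwa [root_nr] at this

lemma posOf_simples {S : Set ι} (h : RootD.IsPosSys P S) : RootD.posOf P (simples P S) = S := by
  ext k
  refine ⟨fun hk => closed_mem_natSpan P (posSys_closed P h) (natSpan_mono P (simples_subset P S) hk),
    fun hk => natSpan_simples h hk⟩

section Simple

variable {Δ : Set ι} (hΔ : RootD.IsSimpleSys P Δ)
include hΔ

lemma IsSimpleSys.indep : IntIndep P Δ := intIndep_of_linearIndepOn hΔ.linInd

lemma exists_coef (k : ι) : ∃ c : ι → ℤ, SuppIn Δ c ∧ P.root k = ∑ i, c i • P.root i ∧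
    ((∀ i, 0 ≤ c i) ∨ (∀ i, c i ≤ 0)) := by
  rcases hΔ.mem_or_neg_mem k with h | h
  · obtain ⟨c, hc, he⟩ := (mem_natSpan_iff_fun P).1 h
    exact ⟨fun i => c i, fun i hi => by simp [hc i hi], by simpa using he,
      Or.inl fun i => Int.natCast_nonneg _⟩
  · obtain ⟨c, hc, he⟩ := (mem_natSpan_iff_fun P).1 h
    refine ⟨fun i => -(c i : ℤ), fun i hi => by simp [hc i hi], ?_, Or.inr fun i => by simp⟩
    simpa [neg_eq_iff_eq_neg] using he

/-- The coordinates of a root along a simple system. -/
def coef (k : ι) : ι → ℤ := (exists_coef hΔ k).choose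

lemma coef_supp (k : ι) : SuppIn Δ (coef hΔ k) := (exists_coef hΔ k).choose_spec.1

lemma root_eq_coef (k : ι) : P.root k = ∑ i, coef hΔ k i • P.root i :=
  (exists_coef hΔ k).choose_spec.2.1

lemma coef_sign (k : ι) : (∀ i, 0 ≤ coef hΔ k i) ∨ (∀ i, coef hΔ k i ≤ 0) :=
  (exists_coef hΔ k).choose_spec.2.2

lemma coef_ext {c d : ι → ℤ} (hc : SuppIn Δ c) (hd : SuppIn Δ d)
    (h : ∑ i, c i • P.root i = ∑ i, d i • P.root i) : c = d :=
  sub_eq_zero.1 <| IsSimpleSys.indep hΔ (c - d) (fun i hi => by simp [hc i hi, hd i hi])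
    (by simp [sub_smul, h])

lemma coef_eq {k : ι} {c : ι → ℤ} (hc : SuppIn Δ c) (h : P.root k = ∑ i, c i • P.root i) :
    coef hΔ k = c :=
  coef_ext hΔ (coef_supp hΔ k) hc (by rw [← root_eq_coef, h])

lemma coef_simple [DecidableEq ι] {a : ι} (ha : a ∈ Δ) : coef hΔ a = Pi.single a 1 := by
  refine coef_eq hΔ (fun i hi => ?_) ?_
  · have : i ≠ a := fun h => hi (h ▸ ha)
    simp [this]
  · rw [Finset.sum_eq_single a] <;> simp +contextual

lemma coef_lin {k : ι} (c : ι → ℤ) (h : P.root k = ∑ j, c j • P.root j) :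
    coef hΔ k = fun i => ∑ j, c j * coef hΔ j i := by
  refine coef_eq hΔ (fun i hi => by simp [coef_supp hΔ _ i hi]) ?_
  simp only [Finset.sum_smul, mul_smul]
  rw [Finset.sum_comm, h]
  simp only [← Finset.smul_sum, ← root_eq_coef]

lemma coef_add {i j k : ι} (h : P.root k = P.root i + P.root j) :
    coef hΔ k = coef hΔ i + coef hΔ j := by
  refine coef_eq hΔ (fun a ha => by simp [coef_supp hΔ _ a ha]) ?_
  simp [add_smul, Finset.sum_add_distrib, ← root_eq_coef, h]

lemma coef_nr (k : ι) : coef hΔ (nr P k) = -coef hΔ k := by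
  refine coef_eq hΔ (fun a ha => by simp [coef_supp hΔ _ a ha]) ?_
  simp [← root_eq_coef]

lemma exists_coef_ne_zero (k : ι) : ∃ a ∈ Δ, coef hΔ k a ≠ 0 := by
  by_contra hc
  push Not at hc
  refine root_ne_zero P k ?_
  rw [root_eq_coef hΔ k]
  refine Finset.sum_eq_zero fun i _ => ?_
  by_cases hi : i ∈ Δ
  · simp [hc i hi]
  · simp [coef_supp hΔ k i hi]

lemma mem_posOf_iff {k : ι} : k ∈ RootD.posOf P Δ ↔ ∀ i, 0 ≤ coef hΔ k i := by
  constructor
  · intro h
    obtain ⟨c, hc, he⟩ := (mem_natSpan_iff_fun P).1 h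
    rw [coef_eq hΔ (c := fun i => (c i : ℤ)) (fun i hi => by simp [hc i hi]) (by simpa using he)]
    exact fun i => Int.natCast_nonneg _
  · intro h
    refine (mem_natSpan_iff_fun P).2 ⟨fun i => (coef hΔ k i).toNat,
      fun i hi => by simp [coef_supp hΔ k i hi], ?_⟩
    conv_lhs => rw [root_eq_coef hΔ k]
    refine Finset.sum_congr rfl fun i _ => ?_
    rw [← natCast_zsmul, Int.toNat_of_nonneg (h i)]

lemma mem_posOf_of_coef_pos {k a : ι} (h : 0 < coef hΔ k a) : k ∈ RootD.posOf P Δ := by
  rw [mem_posOf_iff hΔ]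
  rcases coef_sign hΔ k with h' | h'
  · exact h'
  · have := h' a; omega

lemma exists_coef_pos {k : ι} (hk : k ∈ RootD.posOf P Δ) : ∃ a ∈ Δ, 0 < coef hΔ k a := by
  obtain ⟨a, ha, hne⟩ := exists_coef_ne_zero hΔ k
  exact ⟨a, ha, lt_of_le_of_ne ((mem_posOf_iff hΔ).1 hk a) (Ne.symm hne)⟩

lemma simple_mem_posOf {a : ι} (ha : a ∈ Δ) : a ∈ RootD.posOf P Δ := root_mem_natSpan P ha

lemma nr_mem_posOf_iff {k : ι} : nr P k ∈ RootD.posOf P Δ ↔ k ∉ RootD.posOf P Δ := by
  constructor
  · intro h h'
    obtain ⟨a, _, ha⟩ := exists_coef_pos hΔ h'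
    have := (mem_posOf_iff hΔ).1 h a
    rw [coef_nr, Pi.neg_apply] at this
    omega
  · intro h
    have hn := h
    rw [mem_posOf_iff hΔ] at hn ⊢
    intro i
    rw [coef_nr, Pi.neg_apply]
    rcases coef_sign hΔ k with h' | h'
    · exact absurd h' hn
    · have := h' i; omega

lemma isPosSys_posOf : RootD.IsPosSys P (RootD.posOf P Δ) := by
  rw [isPosSys_iff]
  refine ⟨fun i hi h => (nr_mem_posOf_iff hΔ).1 h hi, fun i => ?_, fun i j k hi hj h => ?_⟩
  · by_cases h : i ∈ RootD.posOf P Δ
    · exact Or.inl h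
    · exact Or.inr ((nr_mem_posOf_iff hΔ).2 h)
  · show P.root k ∈ RootD.natSpan P Δ
    rw [h]; exact AddSubmonoid.add_mem _ hi hj

/-- The height of a root. -/
def ht (k : ι) : ℤ := ∑ i, coef hΔ k i

lemma ht_pos {k : ι} (hk : k ∈ RootD.posOf P Δ) : 0 < ht hΔ k := by
  obtain ⟨a, _, ha⟩ := exists_coef_pos hΔ hk
  exact Finset.sum_pos' (fun i _ => (mem_posOf_iff hΔ).1 hk i) ⟨a, Finset.mem_univ _, ha⟩

lemma ht_simple {a : ι} (ha : a ∈ Δ) : ht hΔ a = 1 := by
  classical
  simp [ht, coef_simple hΔ ha]

lemma ht_add {i j k : ι} (h : P.root k = P.root i + P.root j) :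
    ht hΔ k = ht hΔ i + ht hΔ j := by
  simp [ht, coef_add hΔ h, Finset.sum_add_distrib]

lemma simples_posOf : simples P (RootD.posOf P Δ) = Δ := by
  classical
  ext k
  constructor
  · rintro ⟨hk, hdec⟩
    by_contra hkΔ
    obtain ⟨L, hL, hLs⟩ := (mem_natSpan_iff_list P).1 hk
    obtain ⟨a, ha, hka | ⟨k', hk', hks⟩⟩ := peel P hLs
    · exact hkΔ (hka ▸ hL a ha)
    · refine hdec ⟨k', a, ?_, simple_mem_posOf hΔ (hL a ha), hk'⟩
      exact (mem_natSpan_iff_list P).2 ⟨_, fun b hb => hL b (List.mem_of_mem_erase hb), hks⟩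
  · intro hk
    refine ⟨simple_mem_posOf hΔ hk, ?_⟩
    rintro ⟨i, j, hi, hj, h⟩
    have h1 := ht_pos hΔ hi
    have h2 := ht_pos hΔ hj
    have h3 := ht_add hΔ h
    rw [ht_simple hΔ hk] at h3
    omega

lemma simple_isIndiv {a : ι} (ha : a ∈ Δ) : RootD.IsIndiv P a := by
  classical
  intro j hj
  have hj' : P.root a = P.root j + P.root j := by rw [← hj, two_smul]
  have := congrFun (coef_add hΔ hj') a
  rw [coef_simple hΔ ha, Pi.add_apply] at this
  simp at this
  omega

end Simple

lemma eq_simples_of_subset {S Δ : Set ι} (h : RootD.IsPosSys P S) (hΔ : RootD.IsSimpleSys P Δ)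
    (hsub : Δ ⊆ S) : RootD.posOf P Δ = S ∧ Δ = simples P S := by
  have h1 : RootD.posOf P Δ = S := by
    refine Set.Subset.antisymm (fun k hk => closed_mem_natSpan P (posSys_closed P h)
      (natSpan_mono P hsub hk)) fun k hk => ?_
    by_contra hn
    exact h.disjoint hk (closed_mem_natSpan P (posSys_closed P h)
      (natSpan_mono P hsub ((nr_mem_posOf_iff hΔ).2 hn)))
  exact ⟨h1, by rw [← h1, simples_posOf hΔ]⟩

end RootLib
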