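/-
The Weyl group and simple/positive systems: transitivity, generation, exchange.
-/
import Groth.Agent.Lib.RootSimple

set_option autoImplicit false
set_option maxHeartbeats 400000
set_option linter.unusedSectionVars false
set_option linter.style.haveILetI false
set_option linter.unusedSimpArgs false

noncomputable section

open Set Function RootPairing

namespace RootLib

variable {ι R M N : Type*} [CommRing R] [AddCommGroup M] [Module R M] [AddCommGroup N] [Module R N]
variable {P : RootPairing ι R M N}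

/-- The image of a set of root indices under an automorphism. -/
abbrev img (g : P.Aut) (S : Set ι) : Set ι := (fun i : ι => g • i) '' S

lemma root_smul (g : P.Aut) (i : ι) : P.root (g • i) = g • P.root i :=
  RootPairing.Equiv.root_indexEquiv_eq_smul P i g

lemma refl_smul_idx (a i : ι) : Equiv.reflection P a • i = P.reflectionPerm a i := rfl

lemma refl_smul_self (a : ι) : Equiv.reflection P a • a = nr P a := rfl

lemma refl_sq (a : ι) : Equiv.reflection P a * Equiv.reflection P a = 1 := by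
  rw [mul_eq_one_iff_eq_inv, RootPairing.Equiv.reflection_inv]

lemma smul_nr (g : P.Aut) (i : ι) : g • nr P i = nr P (g • i) := by
  apply nr_eq_of_root
  rw [root_smul, root_smul, root_nr, smul_neg]

lemma coroot'_smul (g : P.Aut) (i : ι) (y : M) : P.coroot' (g • i) (g • y) = P.coroot' i y := by
  have h := RootPairing.Hom.weight_coweight_transpose_apply P P (g • i |> P.coroot) g.toHom
  have hc : g.toHom.coweightMap (P.coroot (g • i)) = P.coroot i := by
    rw [RootPairing.Hom.coroot_coweightMap_apply]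
    congr 1
    exact g.indexEquiv.symm_apply_apply i
  rw [hc] at h
  exact LinearMap.congr_fun h y

lemma pairing_smul (g : P.Aut) (i j : ι) : P.pairing (g • i) (g • j) = P.pairing i j := by
  rw [← P.root_coroot'_eq_pairing, ← P.root_coroot'_eq_pairing, root_smul, coroot'_smul]

lemma aut_ext {g h : P.Aut} (e : ∀ x : M, g • x = h • x) : g = h :=
  RootPairing.Equiv.weightHom_injective P (LinearEquiv.ext e)

lemma refl_conj (g : P.Aut) (i : ι) :
    Equiv.reflection P (g • i) = g * Equiv.reflection P i * g⁻¹ := by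
  refine aut_ext fun x => ?_
  rw [mul_smul, mul_smul, RootPairing.Equiv.reflection_smul, RootPairing.Equiv.reflection_smul,
    P.reflection_apply, P.reflection_apply, smul_sub, smul_inv_smul, smul_comm g (P.coroot' i (g⁻¹ • x)), ← root_smul]
  congr 2
  conv_lhs => rw [← smul_inv_smul g x, coroot'_smul]

/-- A root indexed by an index whose image is indivisible is indivisible. -/
lemma isIndiv_smul (g : P.Aut) {i : ι} (h : RootD.IsIndiv P i) : RootD.IsIndiv P (g • i) := by
  intro j hj
  haveI := SMulCommClass.symm P.Aut R M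
  refine h (g⁻¹ • j) ?_
  rw [root_smul, smul_comm, hj, ← root_smul, inv_smul_smul]

/-- The product of the reflections along a word. -/
def wd (P : RootPairing ι R M N) (l : List ι) : P.Aut := (l.map fun a => Equiv.reflection P a).prod

lemma wd_cons (a : ι) (l : List ι) : wd P (a :: l) = Equiv.reflection P a * wd P l := by simp [wd]

lemma wd_append (l l' : List ι) : wd P (l ++ l') = wd P l * wd P l' := by simp [wd]

@[simp] lemma wd_nil : wd P ([] : List ι) = 1 := rfl

lemma wd_singleton (a : ι) : wd P [a] = Equiv.reflection P a := by simp [wd]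

lemma wd_mem {Δ : Set ι} {l : List ι} (h : ∀ a ∈ l, a ∈ Δ) :
    wd P l ∈ Subgroup.closure ((fun i : ι => Equiv.reflection P i) '' Δ) :=
  Subgroup.list_prod_mem _ fun x hx => by
    obtain ⟨a, ha, rfl⟩ := List.mem_map.1 hx
    exact Subgroup.subset_closure ⟨a, h a ha, rfl⟩

lemma exists_word {Δ : Set ι} {g : P.Aut}
    (hg : g ∈ Subgroup.closure ((fun i : ι => Equiv.reflection P i) '' Δ)) :
    ∃ l : List ι, (∀ a ∈ l, a ∈ Δ) ∧ wd P l = g := by
  induction hg using Subgroup.closure_induction'' with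
  | one => exact ⟨[], by simp, rfl⟩
  | mem x hx =>
    obtain ⟨a, ha, rfl⟩ := hx
    exact ⟨[a], by simpa using ha, wd_singleton a⟩
  | inv_mem x hx =>
    obtain ⟨a, ha, rfl⟩ := hx
    exact ⟨[a], by simpa using ha, by rw [wd_singleton, RootPairing.Equiv.reflection_inv]⟩
  | mul x y _ _ hx hy =>
    obtain ⟨l, hl, rfl⟩ := hx
    obtain ⟨l', hl', rfl⟩ := hy
    exact ⟨l ++ l', by simp only [List.mem_append]; rintro a (h | h); exacts [hl a h, hl' a h],
      wd_append l l'⟩

variable [Finite ι] [CharZero R] [IsDomain R] [P.IsCrystallographic]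

attribute [local instance] Fintype.ofFinite

lemma pZ_smul (g : P.Aut) (i j : ι) : pZ P (g • i) (g • j) = pZ P i j := by
  apply Int.cast_injective (α := R)
  simp [cast_pZ, pairing_smul]

lemma gram_smul (g : P.Aut) (i j : ι) : gram P (g • i) (g • j) = gram P i j := by
  rw [gram_eq, gram_eq]
  refine (Fintype.sum_equiv (MulAction.toPerm g) _ _ fun k => ?_).symm
  simp [pZ_smul]

lemma root_refl (a k : ι) :
    P.root (Equiv.reflection P a • k) = P.root k - pZ P k a • P.root a := by
  rw [refl_smul_idx, P.root_reflectionPerm, P.reflection_apply_root, ← cast_pZ,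
    Int.cast_smul_eq_zsmul]

lemma img_isPosSys (g : P.Aut) {S : Set ι} (h : RootD.IsPosSys P S) :
    RootD.IsPosSys P (img g S) := by
  rw [isPosSys_iff] at h ⊢
  obtain ⟨h1, h2, h3⟩ := h
  refine ⟨?_, fun i => ?_, ?_⟩
  · rintro _ ⟨i, hi, rfl⟩ ⟨j, hj, hji⟩
    refine h1 i hi ?_
    simp only at hji
    rw [← smul_nr] at hji
    rwa [← MulAction.injective g hji]
  · rcases h2 (g⁻¹ • i) with h | h
    · exact Or.inl ⟨_, h, smul_inv_smul g i⟩
    · exact Or.inr ⟨_, h, by simp only; rw [smul_nr, smul_inv_smul]⟩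
  · rintro _ _ k ⟨i, hi, rfl⟩ ⟨j, hj, rfl⟩ hk
    refine ⟨g⁻¹ • k, h3 hi hj ?_, smul_inv_smul g k⟩
    rw [root_smul, hk, smul_add, ← root_smul, ← root_smul]
    simp

lemma img_simples (g : P.Aut) (S : Set ι) : simples P (img g S) = img g (simples P S) := by
  ext k
  constructor
  · rintro ⟨⟨i, hi, rfl⟩, hdec⟩
    refine ⟨i, ⟨hi, ?_⟩, rfl⟩
    rintro ⟨a, b, ha, hb, h⟩
    exact hdec ⟨g • a, g • b, ⟨a, ha, rfl⟩, ⟨b, hb, rfl⟩, by
      rw [root_smul, root_smul, root_smul, h, smul_add]⟩
  · rintro ⟨i, ⟨hi, hdec⟩, rfl⟩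
    refine ⟨⟨i, hi, rfl⟩, ?_⟩
    rintro ⟨_, _, ⟨a, ha, rfl⟩, ⟨b, hb, rfl⟩, h⟩
    refine hdec ⟨a, b, ha, hb, ?_⟩
    rw [root_smul, root_smul, root_smul, ← smul_add] at h
    exact (smul_left_cancel_iff g).1 h

lemma img_isSimpleSys (g : P.Aut) {Δ : Set ι} (h : RootD.IsSimpleSys P Δ) :
    RootD.IsSimpleSys P (img g Δ) := by
  have := isSimpleSys_simples (img_isPosSys g (isPosSys_posOf h))
  rwa [img_simples, simples_posOf h] at this

lemma img_posOf (g : P.Aut) {Δ : Set ι} (h : RootD.IsSimpleSys P Δ) :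
    RootD.posOf P (img g Δ) = img g (RootD.posOf P Δ) := by
  have := posOf_simples (img_isPosSys g (isPosSys_posOf h))
  rwa [img_simples, simples_posOf h] at this

section Simple

variable {Δ : Set ι} (hΔ : RootD.IsSimpleSys P Δ)
include hΔ

lemma coef_refl [DecidableEq ι] {a : ι} (ha : a ∈ Δ) (k : ι) :
    coef hΔ (Equiv.reflection P a • k) = coef hΔ k - Pi.single a (pZ P k a) := by
  refine coef_eq hΔ (fun i hi => ?_) ?_
  · have : i ≠ a := fun h => hi (h ▸ ha)
    simp [coef_supp hΔ k i hi, this]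
  · rw [root_refl]
    simp only [Pi.sub_apply, sub_smul, Finset.sum_sub_distrib, ← root_eq_coef]
    congr 1
    rw [Finset.sum_eq_single a] <;> simp +contextual

lemma coef_refl_of_ne {a b : ι} (ha : a ∈ Δ) (hb : b ≠ a) (k : ι) :
    coef hΔ (Equiv.reflection P a • k) b = coef hΔ k b := by
  classical
  simp [coef_refl hΔ ha, hb]

lemma refl_mem_posOf {a b k : ι} (ha : a ∈ Δ) (hb : b ≠ a) (h : 0 < coef hΔ k b) :
    Equiv.reflection P a • k ∈ RootD.posOf P Δ :=
  mem_posOf_of_coef_pos hΔ (a := b) (by rwa [coef_refl_of_ne hΔ ha hb])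

lemma only_at {a k : ι} (ha : a ∈ Δ) (hk : k ∈ RootD.posOf P Δ)
    (h : ∀ b, b ≠ a → coef hΔ k b ≤ 0) : k = a ∨ P.root k = P.root a + P.root a := by
  classical
  have hr : P.root k = coef hΔ k a • P.root a := by
    conv_lhs => rw [root_eq_coef hΔ k]
    refine Finset.sum_eq_single a (fun b _ hb => ?_) (by simp)
    have := (mem_posOf_iff hΔ).1 hk b
    have := h b hb
    rw [show coef hΔ k b = 0 by omega, zero_smul]
  have h2 : pZ P k k = coef hΔ k a * pZ P a k := by
    apply Int.cast_injective (α := R)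
    push_cast
    rw [cast_pZ, cast_pZ]
    have := congrArg (P.coroot' k) hr
    simpa [zsmul_eq_mul] using this
  rw [show pZ P k k = 2 from P.pairingIn_same ℤ k] at h2
  have hpos : 0 < coef hΔ k a := by
    obtain ⟨b, -, hb⟩ := exists_coef_pos hΔ hk
    by_cases hba : b = a
    · exact hba ▸ hb
    · have := h b hba; omega
  have hle : coef hΔ k a ≤ 2 := Int.le_of_dvd (by norm_num) ⟨_, h2⟩
  interval_cases hh : coef hΔ k a
  · left; exact P.root.injective (by simpa using hr)
  · right; rw [hr]; exact two_zsmul _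

lemma only_at_indiv {a k : ι} (ha : a ∈ Δ) (hk : k ∈ RootD.posOf P Δ) (hi : RootD.IsIndiv P k)
    (h : ∀ b, b ≠ a → coef hΔ k b ≤ 0) : k = a := by
  rcases only_at hΔ ha hk h with h' | h'
  · exact h'
  · exact absurd (by rw [h', two_smul]) (hi a)

end Simple

/-- Descent: some element of the group generated by the simple reflections of `S` maps `S` into a
given closed covering set. -/
lemma exists_img_subset_closed {S : Set ι} (hS : RootD.IsPosSys P S) {T : Set ι}
    (hT2 : ∀ i, i ∈ T ∨ nr P i ∈ T) (hT : RootD.IsClosedSub P T) :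
    ∃ g ∈ Subgroup.closure ((fun i : ι => Equiv.reflection P i) '' simples P S),
      img g S ⊆ T := by
  classical
  generalize hn : (S \ T).ncard = n
  induction n using Nat.strong_induction_on generalizing S with
  | _ n ih =>
  have hΔ := isSimpleSys_simples hS
  have hpos := posOf_simples hS
  by_cases hsub : simples P S ⊆ T
  · refine ⟨1, Subgroup.one_mem _, ?_⟩
    rintro _ ⟨k, hk, rfl⟩
    simp only [one_smul]
    exact closed_mem_natSpan P hT (natSpan_mono P hsub (natSpan_simples hS hk))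
  obtain ⟨a, ha, haT⟩ := Set.not_subset.1 hsub
  set s := Equiv.reflection P a with hs
  have hsub' : img s S \ T ⊆ (S \ T) \ {a} := by
    rintro x ⟨⟨k, hk, rfl⟩, hxT⟩
    simp only at hxT ⊢
    rw [← hpos] at hk
    by_cases hb : ∀ b, b ≠ a → coef hΔ k b ≤ 0
    · exfalso
      refine hxT ?_
      have hna : nr P a ∈ T := (hT2 a).resolve_left haT
      rcases only_at hΔ ha hk hb with h | h
      · subst h; exact hna
      · refine hT hna hna ?_
        rw [root_smul, h, smul_add, ← root_smul, hs, refl_smul_self]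
    · push Not at hb
      obtain ⟨b, hb, hb'⟩ := hb
      have hmem := refl_mem_posOf hΔ ha hb hb'
      rw [hpos] at hmem
      refine ⟨⟨hmem, hxT⟩, fun hxa => ?_⟩
      have hc := coef_refl_of_ne hΔ ha hb k
      rw [← hs, Set.mem_singleton_iff.1 hxa, coef_simple hΔ ha] at hc
      simp [hb] at hc
      omega
  have hlt : (img s S \ T).ncard < n := by
    refine lt_of_le_of_lt (Set.ncard_le_ncard hsub' (Set.toFinite _)) ?_
    rw [← hn]
    exact Set.ncard_sdiff_singleton_lt_of_mem ⟨simples_subset P S ha, haT⟩ (Set.toFinite _)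
  obtain ⟨g, hg, hgT⟩ := ih _ hlt (img_isPosSys s hS) rfl
  have hsW : s ∈ Subgroup.closure ((fun i : ι => Equiv.reflection P i) '' simples P S) :=
    Subgroup.subset_closure ⟨a, ha, rfl⟩
  refine ⟨g * s, Subgroup.mul_mem _ ?_ hsW, ?_⟩
  · refine (Subgroup.closure_le _).2 ?_ hg
    rintro _ ⟨i, hi, rfl⟩
    rw [img_simples] at hi
    obtain ⟨j, hj, rfl⟩ := hi
    simp only [SetLike.mem_coe]
    rw [refl_conj]
    exact Subgroup.mul_mem _ (Subgroup.mul_mem _ hsW (Subgroup.subset_closure ⟨j, hj, rfl⟩))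
      (Subgroup.inv_mem _ hsW)
  · rintro _ ⟨k, hk, rfl⟩
    simp only [mul_smul]
    exact hgT ⟨s • k, ⟨k, hk, rfl⟩, rfl⟩

lemma closure_le_weylGroup (Δ : Set ι) :
    Subgroup.closure ((fun i : ι => Equiv.reflection P i) '' Δ) ≤ P.weylGroup :=
  (Subgroup.closure_le _).2 (by rintro _ ⟨i, _, rfl⟩; exact P.reflection_mem_weylGroup i)

lemma posSys_eq_of_subset {S S' : Set ι} (h : RootD.IsPosSys P S) (h' : RootD.IsPosSys P S')
    (hsub : S ⊆ S') : S = S' := by
  refine Set.Subset.antisymm hsub fun k hk => ?_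
  by_contra hn
  exact h'.disjoint hk (hsub ((h.cover k).resolve_left hn))

lemma exists_img_eq_posSys {S S' : Set ι} (h : RootD.IsPosSys P S) (h' : RootD.IsPosSys P S') :
    ∃ g ∈ P.weylGroup, img g S = S' := by
  obtain ⟨h1, h2, h3⟩ := (isPosSys_iff P S').1 h'
  obtain ⟨g, hg, hsub⟩ := exists_img_subset_closed h h2 h3
  exact ⟨g, closure_le_weylGroup _ hg, posSys_eq_of_subset (img_isPosSys g h) h' hsub⟩

lemma exists_img_eq_simpleSys {Δ Δ' : Set ι} (h : RootD.IsSimpleSys P Δ)
    (h' : RootD.IsSimpleSys P Δ') : ∃ g ∈ P.weylGroup, img g Δ = Δ' := by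
  obtain ⟨g, hg, hgS⟩ := exists_img_eq_posSys (isPosSys_posOf h) (isPosSys_posOf h')
  refine ⟨g, hg, ?_⟩
  rw [← simples_posOf h', ← hgS, img_simples, simples_posOf h]

lemma two_mul_coroot'_of_double {j k : ι} (h : P.root k = P.root j + P.root j) (x : M) :
    2 * P.coroot' k x = P.coroot' j x := by
  have key : ∀ i, (gram P i i : R) * P.coroot' i x = 2 * P.RootForm (P.root i) x := by
    intro i
    have := congrArg (fun y => P.toLinearMap x y) (P.rootForm_self_smul_coroot i)
    simp only [map_smul, map_nsmul, smul_eq_mul, nsmul_eq_mul, Nat.cast_ofNat,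
      P.toLinearMap_apply_apply_Polarization] at this
    rw [cast_gram]
    exact this
  have hg : gram P k k = 4 * gram P j j := by
    rw [gram_add P h, gram_comm P j k, gram_add P h]; ring
  have hk := key k
  have hj := key j
  rw [hg, h, map_add, LinearMap.add_apply] at hk
  push_cast at hk
  have h0 : (gram P j j : R) ≠ 0 := by exact_mod_cast (gram_self_pos P j).ne'
  refine mul_left_cancel₀ (a := 2 * (gram P j j : R)) (mul_ne_zero two_ne_zero h0) ?_
  linear_combination hk - 2 * hj

lemma refl_eq_of_double {j k : ι} (h : P.root k = P.root j + P.root j) :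
    Equiv.reflection P k = Equiv.reflection P j := by
  refine aut_ext fun x => ?_
  rw [RootPairing.Equiv.reflection_smul, RootPairing.Equiv.reflection_smul, P.reflection_apply,
    P.reflection_apply, h, ← two_mul_coroot'_of_double h, smul_add, two_mul, add_smul]

/-- For a divisible root, the half root is indivisible. -/
lemma isIndiv_half {j k : ι} (h : P.root k = P.root j + P.root j) : RootD.IsIndiv P j := by
  intro l hl
  rw [two_smul] at hl
  have h4 : pZ P k k = 2 * (2 * pZ P l k) := by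
    apply Int.cast_injective (α := R)
    push_cast
    rw [cast_pZ, cast_pZ]
    have := congrArg (P.coroot' k) h
    rw [map_add, ← hl, map_add] at this
    simp only [P.root_coroot'_eq_pairing] at this
    linear_combination this
  rw [show pZ P k k = 2 from P.pairingIn_same ℤ k] at h4
  omega

lemma indiv_or_double (k : ι) :
    RootD.IsIndiv P k ∨ ∃ j, RootD.IsIndiv P j ∧ P.root k = P.root j + P.root j := by
  by_cases h : RootD.IsIndiv P k
  · exact Or.inl h
  · simp only [RootD.IsIndiv, not_forall, not_not] at h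
    obtain ⟨j, hj⟩ := h
    rw [two_smul] at hj
    exact Or.inr ⟨j, isIndiv_half hj.symm, hj.symm⟩

section Simple

variable {Δ : Set ι} (hΔ : RootD.IsSimpleSys P Δ)
include hΔ

lemma exists_conj_simple_pos {k : ι} (hk : k ∈ RootD.posOf P Δ) (hi : RootD.IsIndiv P k) :
    ∃ g ∈ Subgroup.closure ((fun i : ι => Equiv.reflection P i) '' Δ), ∃ a ∈ Δ, g • a = k := by
  classical
  generalize hn : (ht hΔ k).toNat = n
  induction n using Nat.strong_induction_on generalizing k with
  | _ n ih =>
  by_cases hkΔ : k ∈ Δ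
  · exact ⟨1, Subgroup.one_mem _, k, hkΔ, one_smul _ _⟩
  have hpos := gram_self_pos P k
  rw [gram_linear P (root_eq_coef hΔ k)] at hpos
  obtain ⟨a, haΔ, hak⟩ : ∃ a ∈ Δ, 0 < gram P a k := by
    by_contra hc
    push Not at hc
    have : ∑ i, coef hΔ k i * gram P i k ≤ 0 := Finset.sum_nonpos fun i _ => by
      by_cases hi : i ∈ Δ
      · exact mul_nonpos_of_nonneg_of_nonpos ((mem_posOf_iff hΔ).1 hk i) (hc i hi)
      · simp [coef_supp hΔ k i hi]
    omega
  rw [gram_comm, gram_pos_iff] at hak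
  obtain ⟨b, hb, hb'⟩ : ∃ b, b ≠ a ∧ 0 < coef hΔ k b := by
    by_contra hc
    push Not at hc
    exact hkΔ (only_at_indiv hΔ haΔ hk hi hc ▸ haΔ)
  have hmem := refl_mem_posOf hΔ haΔ hb hb'
  have hht : ht hΔ (Equiv.reflection P a • k) = ht hΔ k - pZ P k a := by
    simp [ht, coef_refl hΔ haΔ, Finset.sum_sub_distrib]
  have h1 := ht_pos hΔ hmem
  obtain ⟨g, hg, c, hc, hgc⟩ := ih _ (by omega) hmem (isIndiv_smul _ hi) rfl
  refine ⟨Equiv.reflection P a * g, Subgroup.mul_mem _ (Subgroup.subset_closure ⟨a, haΔ, rfl⟩) hg,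
    c, hc, ?_⟩
  rw [mul_smul, hgc, ← mul_smul, refl_sq, one_smul]

lemma exists_conj_simple {k : ι} (hi : RootD.IsIndiv P k) :
    ∃ g ∈ Subgroup.closure ((fun i : ι => Equiv.reflection P i) '' Δ), ∃ a ∈ Δ, g • a = k := by
  by_cases hk : k ∈ RootD.posOf P Δ
  · exact exists_conj_simple_pos hΔ hk hi
  · have hneg : RootD.IsIndiv P (nr P k) := by
      exact isIndiv_smul (Equiv.reflection P k) hi
    obtain ⟨g, hg, a, ha, hga⟩ := exists_conj_simple_pos hΔ ((nr_mem_posOf_iff hΔ).2 hk) hneg
    refine ⟨g * Equiv.reflection P a, Subgroup.mul_mem _ hg (Subgroup.subset_closure ⟨a, ha, rfl⟩),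
      a, ha, ?_⟩
    rw [mul_smul, refl_smul_self, smul_nr, hga, nr_nr]

lemma closure_simple_eq_weylGroup :
    Subgroup.closure ((fun i : ι => Equiv.reflection P i) '' Δ) = P.weylGroup := by
  refine le_antisymm (closure_le_weylGroup Δ) ((Subgroup.closure_le _).2 ?_)
  rintro _ ⟨k, rfl⟩
  have key : ∀ j, RootD.IsIndiv P j →
      Equiv.reflection P j ∈ Subgroup.closure ((fun i : ι => Equiv.reflection P i) '' Δ) := by
    intro j hj
    obtain ⟨g, hg, a, ha, rfl⟩ := exists_conj_simple hΔ hj
    rw [refl_conj]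
    exact Subgroup.mul_mem _ (Subgroup.mul_mem _ hg (Subgroup.subset_closure ⟨a, ha, rfl⟩))
      (Subgroup.inv_mem _ hg)
  rcases indiv_or_double (P := P) k with h | ⟨j, hj, h⟩
  · exact key k h
  · rw [SetLike.mem_coe, refl_eq_of_double h]; exact key j hj

/-- The exchange lemma. -/
lemma exchange {l : List ι} (hl : ∀ x ∈ l, x ∈ Δ) {a : ι} (ha : a ∈ Δ)
    (h : wd P l • a ∉ RootD.posOf P Δ) :
    ∃ l' : List ι, l'.length + 1 = l.length ∧ (∀ x ∈ l', x ∈ Δ) ∧
      wd P l * Equiv.reflection P a = wd P l' := by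
  induction l with
  | nil => exact absurd (simple_mem_posOf hΔ ha) (by simpa using h)
  | cons b t ih =>
    by_cases ht : wd P t • a ∈ RootD.posOf P Δ
    · rw [wd_cons, mul_smul] at h
      have hb : b ∈ Δ := hl b (List.mem_cons_self ..)
      have hβ : wd P t • a = b := by
        refine only_at_indiv hΔ hb ht (isIndiv_smul _ (simple_isIndiv hΔ ha)) fun c hc => ?_
        by_contra hpos
        exact h (refl_mem_posOf hΔ hb hc (not_le.1 hpos))
      refine ⟨t, by simp, fun x hx => hl x (List.mem_cons_of_mem _ hx), ?_⟩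
      rw [wd_cons, ← hβ, refl_conj, inv_mul_cancel_right, mul_assoc, refl_sq, mul_one]
    · obtain ⟨l', h1, h2, h3⟩ := ih (fun x hx => hl x (List.mem_cons_of_mem _ hx)) ht
      refine ⟨b :: l', by simp; omega, ?_, by rw [wd_cons, wd_cons, mul_assoc, h3]⟩
      intro x hx
      rcases List.mem_cons.1 hx with hx | hx
      · exact hx ▸ hl b (List.mem_cons_self ..)
      · exact h2 x hx

lemma neg_last_of_minimal {l : List ι} (hl : ∀ a ∈ l, a ∈ Δ) (hne : l ≠ [])
    (hmin : ∀ l' : List ι, (∀ a ∈ l', a ∈ Δ) → wd P l' = wd P l → l.length ≤ l'.length) :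
    nr P (wd P l • l.getLast hne) ∈ RootD.posOf P Δ := by
  obtain ⟨t, a, rfl⟩ : ∃ t a, l = t ++ [a] :=
    ⟨l.dropLast, l.getLast hne, (List.dropLast_append_getLast hne).symm⟩
  rw [List.getLast_append_singleton, wd_append, wd_singleton, mul_smul, refl_smul_self, smul_nr,
    nr_nr]
  by_contra hneg
  obtain ⟨l', h1, h2, h3⟩ := exchange hΔ (fun x hx => hl x (List.mem_append_left _ hx))
    (hl a (List.mem_append_right _ (List.mem_singleton_self a))) hneg
  have := hmin l' h2 (by rw [← h3, wd_append, wd_singleton])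
  simp at this
  omega

lemma exists_minimal_word {g : P.Aut} (hg : g ∈ P.weylGroup) :
    ∃ l : List ι, (∀ a ∈ l, a ∈ Δ) ∧ wd P l = g ∧
      ∀ l' : List ι, (∀ a ∈ l', a ∈ Δ) → wd P l' = g → l.length ≤ l'.length := by
  classical
  rw [← closure_simple_eq_weylGroup hΔ] at hg
  have hex : ∃ n, ∃ l : List ι, (∀ a ∈ l, a ∈ Δ) ∧ wd P l = g ∧ l.length = n := by
    obtain ⟨l, h1, h2⟩ := exists_word hg
    exact ⟨_, l, h1, h2, rfl⟩
  obtain ⟨l, h1, h2, h3⟩ := Nat.find_spec hex
  exact ⟨l, h1, h2, fun l' a b => h3 ▸ Nat.find_min' hex ⟨l', a, b, rfl⟩⟩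

lemma eq_one_of_mapsTo_posOf {g : P.Aut} (hg : g ∈ P.weylGroup)
    (h : ∀ a ∈ Δ, g • a ∈ RootD.posOf P Δ) : g = 1 := by
  obtain ⟨l, h1, h2, h3⟩ := exists_minimal_word hΔ hg
  by_cases hne : l = []
  · subst hne; exact h2.symm
  have := neg_last_of_minimal hΔ h1 hne (fun l' a b => h3 l' a (b.trans h2))
  rw [h2, nr_mem_posOf_iff hΔ] at this
  exact absurd (h _ (h1 _ (List.getLast_mem hne))) this

lemma eq_one_of_img_eq {g : P.Aut} (hg : g ∈ P.weylGroup) (h : img g Δ = Δ) : g = 1 :=
  eq_one_of_mapsTo_posOf hΔ hg fun a ha => simple_mem_posOf hΔ (h ▸ ⟨a, ha, rfl⟩)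

end Simple

end RootLib
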