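/-
Existence of positive systems, extension of positive systems from rationally saturated subsets.
-/
import Groth.Agent.Lib.RootWeyl

set_option autoImplicit false
set_option maxHeartbeats 400000
set_option linter.unusedSectionVars false
set_option linter.style.haveILetI false
set_option linter.unusedSimpArgs false

noncomputable section

open Set Function RootPairing

namespace RootLib

variable {ι R M N : Type*} [CommRing R] [AddCommGroup M] [Module R M] [AddCommGroup N] [Module R N]
variable (P : RootPairing ι R M N) [Finite ι] [CharZero R] [IsDomain R] [P.IsCrystallographic]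

attribute [local instance] Fintype.ofFinite

/-- The rational coordinates of a root against all coroots. -/
def rowQ (k : ι) : ι → ℚ := fun j => (pZ P k j : ℚ)

lemma rowQ_self (k : ι) : rowQ P k k = 2 := by simp [rowQ, pZ]

lemma rowQ_ne_zero (k : ι) : rowQ P k ≠ 0 := fun h => by
  have := congrFun h k; simp [rowQ_self] at this

variable {P}

lemma pZ_lin {k : ι} {c : ι → ℤ} (h : P.root k = ∑ i, c i • P.root i) (j : ι) :
    pZ P k j = ∑ i, c i * pZ P i j := by
  apply Int.cast_injective (α := R)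
  push_cast
  simp only [cast_pZ]
  have := congrArg (P.coroot' j) h
  simpa [map_sum, zsmul_eq_mul] using this

lemma rowQ_lin {k : ι} {c : ι → ℤ} (h : P.root k = ∑ i, c i • P.root i) :
    rowQ P k = ∑ i, (c i : ℚ) • rowQ P i := by
  funext j
  simp [rowQ, pZ_lin h j]

lemma rowQ_add {i j k : ι} (h : P.root k = P.root i + P.root j) :
    rowQ P k = rowQ P i + rowQ P j := by
  funext a
  simp only [rowQ, Pi.add_apply]
  norm_cast
  apply Int.cast_injective (α := R)
  push_cast
  simp only [cast_pZ]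
  simpa using congrArg (P.coroot' a) h

lemma rowQ_nr (k : ι) : rowQ P (nr P k) = -rowQ P k := by
  funext a
  simp [rowQ, pZ, nr]

/-- An integral combination of roots vanishes if its rows vanish. -/
lemma comb_eq_zero_iff (c : ι → ℤ) :
    ∑ i, c i • P.root i = 0 ↔ ∑ i, (c i : ℚ) • rowQ P i = 0 := by
  constructor
  · intro h
    funext j
    have := congrArg (P.coroot' j) h
    simp only [map_sum, map_zsmul, zsmul_eq_mul, P.root_coroot'_eq_pairing, ← cast_pZ, map_zero] at this
    norm_cast at this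
    simp [rowQ]
    exact_mod_cast this
  · intro h
    refine eq_zero_of_rootForm_self P c ?_
    have hj : ∀ j, ∑ i, c i * pZ P i j = 0 := by
      intro j
      have := congrFun h j
      simp [rowQ] at this
      exact_mod_cast this
    calc ∑ i, ∑ j, c i * c j * gram P i j
        = ∑ i, c i * ∑ k, pZ P i k * ∑ j, c j * pZ P j k := by
          refine Finset.sum_congr rfl fun i _ => ?_
          simp only [gram_eq, Finset.mul_sum]
          rw [Finset.sum_comm]
          refine Finset.sum_congr rfl fun j _ => Finset.sum_congr rfl fun k _ => ?_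
          ring
      _ = 0 := by simp [hj]

/-- The rows of an independent set of roots are linearly independent. -/
lemma rowQ_linearIndepOn {Δ : Set ι} (h : IntIndep P Δ) : LinearIndepOn ℚ (rowQ P) Δ := by
  classical
  rw [LinearIndepOn, ← LinearIndependent.iff_fractionRing (R := ℤ) (K := ℚ), Fintype.linearIndependent_iff]
  intro g hg a
  let c : ι → ℤ := fun i => if hi : i ∈ Δ then g ⟨i, hi⟩ else 0
  have hc : SuppIn Δ c := fun i hi => by simp [c, hi]
  have := h c hc ((comb_eq_zero_iff c).2 ?_)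
  · simpa [c, a.2] using congrFun this a.1
  · rw [← Finset.sum_subset (Finset.subset_univ Δ.toFinset)
      (fun i _ hi => by simp [hc i (by simpa using hi)]),
      Finset.sum_subtype Δ.toFinset (p := fun i => i ∈ Δ) (by simp)]
    rw [← hg]
    refine Finset.sum_congr rfl fun x _ => ?_
    simp [c, x.2, zsmul_eq_mul, smul_eq_mul]
    rfl

/-- Some additive lexicographic function on the roots vanishing exactly on the rows in `W`. -/
lemma exists_fun_vanishing (W : Submodule ℚ (ι → ℚ)) :
    ∃ (d : ℕ) (f : ι → Lex (Fin d → ℚ)), (∀ i, f (nr P i) = -f i) ∧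
      (∀ i j k, P.root k = P.root i + P.root j → f k = f i + f j) ∧
      ∀ k, f k = 0 ↔ rowQ P k ∈ W := by
  let b := Module.finBasis ℚ ((ι → ℚ) ⧸ W)
  let φ : (ι → ℚ) →ₗ[ℚ] (Fin (Module.finrank ℚ ((ι → ℚ) ⧸ W)) → ℚ) :=
    b.equivFun.toLinearMap ∘ₗ W.mkQ
  refine ⟨_, fun k => toLex (φ (rowQ P k)), fun i => ?_, fun i j k h => ?_, fun k => ?_⟩
  · simp [rowQ_nr]
  · simp [rowQ_add h]
  · simp [φ, toLex_eq_zero, Submodule.Quotient.mk_eq_zero]

variable (P)

lemma exists_posSys : ∃ S : Set ι, RootD.IsPosSys P S := by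
  obtain ⟨d, f, hneg, hadd, h0⟩ := exists_fun_vanishing (P := P) ⊥
  exact ⟨_, isPosSys_of_fun P f hneg hadd fun i => by
    rcases lt_trichotomy 0 (f i) with h | h | h
    · exact Or.inl h
    · exact absurd ((h0 i).1 h.symm) (by simpa using rowQ_ne_zero P i)
    · exact Or.inr h⟩

lemma exists_simpleSys : ∃ Δ : Set ι, RootD.IsSimpleSys P Δ := by
  obtain ⟨S, hS⟩ := exists_posSys P
  exact ⟨_, isSimpleSys_simples hS⟩

/-- Extension of a positive system of the roots in a subspace, along a given function. -/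
lemma exists_posSys_extend_of_fun (W : Submodule ℚ (ι → ℚ)) {G : Type*} [AddCommGroup G] [LinearOrder G]
    [IsOrderedAddMonoid G] (f : ι → G) (hneg : ∀ i, f (nr P i) = -f i)
    (hadd : ∀ i j k, P.root k = P.root i + P.root j → f k = f i + f j)
    (h0 : ∀ k, f k = 0 ↔ rowQ P k ∈ W) {S₀ : Set ι}
    (h1 : ∀ i ∈ S₀, nr P i ∉ S₀) (h2 : ∀ i, rowQ P i ∈ W → i ∈ S₀ ∨ nr P i ∈ S₀)
    (h3 : RootD.IsClosedSub P S₀) (h4 : ∀ i ∈ S₀, rowQ P i ∈ W) :
    ∃ S, RootD.IsPosSys P S ∧ S₀ ⊆ S ∧ {i | 0 < f i} ⊆ S ∧ (∀ k ∈ S, rowQ P k ∈ W → k ∈ S₀) ∧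
      ∀ a, rowQ P a ∈ W → (a ∈ simples P S ↔ a ∈ simples P S₀) ∧
      (∀ k, rowQ P k ∈ W → k ∈ S → P.root k ∈ RootD.natSpan P {a ∈ simples P S | rowQ P a ∈ W}) := by
  set S : Set ι := {i | 0 < f i} ∪ S₀ with hSdef
  have hz : ∀ i ∈ S₀, f i = 0 := fun i hi => (h0 i).2 (h4 i hi)
  have hnn : ∀ i ∈ S, 0 ≤ f i := by
    rintro i (hi | hi)
    · exact le_of_lt hi
    · exact (hz i hi).ge
  have hW : ∀ i ∈ S, rowQ P i ∈ W → i ∈ S₀ := by
    rintro i (hi | hi) hw
    · exact absurd ((h0 i).2 hw) (ne_of_gt hi)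
    · exact hi
  have hpos : RootD.IsPosSys P S := by
    rw [isPosSys_iff]
    refine ⟨?_, fun i => ?_, fun i j k hi hj h => ?_⟩
    · rintro i (hi | hi) (hn | hn)
      · have hn' : 0 < f (nr P i) := hn
        rw [hneg] at hn'; exact lt_asymm (show 0 < f i from hi) (neg_pos.1 hn')
      · exact ne_of_gt (show 0 < f i from hi) (neg_eq_zero.1 (by rw [← hneg]; exact hz _ hn))
      · have hn' : 0 < f (nr P i) := hn
        rw [hneg, hz i hi, neg_zero] at hn'; exact lt_irrefl _ hn'
      · exact h1 i hi hn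
    · rcases lt_trichotomy 0 (f i) with h | h | h
      · exact Or.inl (Or.inl h)
      · rcases h2 i ((h0 i).1 h.symm) with h' | h'
        · exact Or.inl (Or.inr h')
        · exact Or.inr (Or.inr h')
      · exact Or.inr (Or.inl (show 0 < f (nr P i) by rw [hneg]; exact neg_pos.2 h))
    · have hk := hadd i j k h
      rcases hi with hi | hi
      · exact Or.inl (show 0 < f k by rw [hk]; exact add_pos_of_pos_of_nonneg hi (hnn j hj))
      · rcases hj with hj | hj
        · exact Or.inl (show 0 < f k by rw [hk, hz i hi, zero_add]; exact hj)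
        · exact Or.inr (h3 hi hj h)
  refine ⟨S, hpos, subset_union_right, subset_union_left, hW, fun a ha => ⟨⟨fun hs => ?_, fun hs => ?_⟩, fun k hk hkS => ?_⟩⟩
  · exact ⟨hW a hs.1 ha, fun ⟨i, j, hi, hj, h⟩ => hs.2 ⟨i, j, Or.inr hi, Or.inr hj, h⟩⟩
  · refine ⟨Or.inr hs.1, fun ⟨i, j, hi, hj, h⟩ => hs.2 ?_⟩
    have hsum := hadd i j a h
    rw [(h0 a).2 ha] at hsum
    have hi0 : f i = 0 := le_antisymm (by
      have := le_add_of_nonneg_right (a := f i) (hnn j hj); rwa [← hsum] at this) (hnn i hi)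
    have hj0 : f j = 0 := by rw [hi0, zero_add] at hsum; exact hsum.symm
    exact ⟨i, j, hW i hi ((h0 i).1 hi0), hW j hj ((h0 j).1 hj0), h⟩
  · have hΔ := isSimpleSys_simples hpos
    obtain ⟨L, hL, hLs⟩ := (mem_natSpan_iff_list P).1 (natSpan_simples hpos hkS)
    refine (mem_natSpan_iff_list P).2 ⟨L, ?_, hLs⟩
    have hfL : ∀ (L : List ι) (k : ι), P.root k = (L.map P.root).sum → f k = (L.map f).sum := by
      intro L
      induction' hn : L.length using Nat.strong_induction_on with n ih generalizing L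
      intro k hk
      classical
      obtain ⟨b, hb, hkb | ⟨k', hk', hks⟩⟩ := peel P hk
      · subst hkb
        have hzero : ((L.erase k).map P.root).sum = 0 := by
          have := sum_map_perm_erase P hb; rw [← hk] at this; simpa using this.symm
        rw [((List.perm_cons_erase hb).map f).sum_eq, List.map_cons, List.sum_cons]
        by_cases hne : L.erase k = []
        · simp [hne]
        · obtain ⟨c, t, hct⟩ := List.exists_cons_of_ne_nil hne
          rw [hct, List.map_cons, List.sum_cons] at hzero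
          have hroot : P.root (nr P c) = (t.map P.root).sum := by
            rw [root_nr]; exact (eq_neg_of_add_eq_zero_right hzero).symm
          have hlen : t.length < n := by
            have := List.length_erase_of_mem hb
            rw [hct] at this; simp at this; omega
          have := ih _ hlen t rfl _ hroot
          rw [hct, List.map_cons, List.sum_cons, ← this, hneg, add_neg_cancel, add_zero]
      · have hlen : (L.erase b).length < n := by
          rw [List.length_erase_of_mem hb]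
          have : 0 < L.length := List.length_pos_of_mem hb
          omega
        rw [((List.perm_cons_erase hb).map f).sum_eq, List.map_cons, List.sum_cons,
          ← ih _ hlen _ rfl _ hks, hadd _ _ _ hk', add_comm]
    have hsum := hfL L k hLs
    rw [(h0 k).2 hk] at hsum
    intro b hb
    refine ⟨hL b hb, (h0 b).1 (le_antisymm ?_ (hnn b (simples_subset P S (hL b hb))))⟩
    rw [hsum]
    exact List.single_le_sum (fun x hx => by
      obtain ⟨c, hc, rfl⟩ := List.mem_map.1 hx
      exact hnn c (simples_subset P S (hL c hc))) _ (List.mem_map.2 ⟨b, hb, rfl⟩)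

/-- Extension of a positive system of the roots in a subspace; `z` can be made positive. -/
lemma exists_posSys_extend (W : Submodule ℚ (ι → ℚ)) {S₀ : Set ι}
    (h1 : ∀ i ∈ S₀, nr P i ∉ S₀) (h2 : ∀ i, rowQ P i ∈ W → i ∈ S₀ ∨ nr P i ∈ S₀)
    (h3 : RootD.IsClosedSub P S₀) (h4 : ∀ i ∈ S₀, rowQ P i ∈ W) :
    ∃ S, RootD.IsPosSys P S ∧ S₀ ⊆ S ∧ (∀ k ∈ S, rowQ P k ∈ W → k ∈ S₀) ∧
      ∀ a, rowQ P a ∈ W → (a ∈ simples P S ↔ a ∈ simples P S₀) ∧
      (∀ k, rowQ P k ∈ W → k ∈ S → P.root k ∈ RootD.natSpan P {a ∈ simples P S | rowQ P a ∈ W}) := by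
  obtain ⟨d, f, hneg, hadd, h0⟩ := exists_fun_vanishing (P := P) W
  obtain ⟨S, a, b, -, c⟩ := exists_posSys_extend_of_fun P W f hneg hadd h0 h1 h2 h3 h4
  exact ⟨S, a, b, c⟩

lemma exists_posSys_extend' (W : Submodule ℚ (ι → ℚ)) {S₀ : Set ι}
    (h1 : ∀ i ∈ S₀, nr P i ∉ S₀) (h2 : ∀ i, rowQ P i ∈ W → i ∈ S₀ ∨ nr P i ∈ S₀)
    (h3 : RootD.IsClosedSub P S₀) (h4 : ∀ i ∈ S₀, rowQ P i ∈ W) {z : ι} (hz : rowQ P z ∉ W) :
    ∃ S, RootD.IsPosSys P S ∧ S₀ ⊆ S ∧ z ∈ S ∧ (∀ k ∈ S, rowQ P k ∈ W → k ∈ S₀) ∧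
      ∀ a, rowQ P a ∈ W → (a ∈ simples P S ↔ a ∈ simples P S₀) ∧
      (∀ k, rowQ P k ∈ W → k ∈ S → P.root k ∈ RootD.natSpan P {a ∈ simples P S | rowQ P a ∈ W}) := by
  obtain ⟨d, f, hneg, hadd, h0⟩ := exists_fun_vanishing (P := P) W
  rcases lt_trichotomy 0 (f z) with h | h | h
  · obtain ⟨S, a, b, hb, c⟩ := exists_posSys_extend_of_fun P W f hneg hadd h0 h1 h2 h3 h4
    exact ⟨S, a, b, hb h, c⟩
  · exact absurd ((h0 z).1 h.symm) hz
  · obtain ⟨S, a, b, hb, c⟩ := exists_posSys_extend_of_fun P W (fun i => -f i)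
      (fun i => by simp [hneg]) (fun i j k hk => by rw [hadd i j k hk, neg_add])
      (fun k => by rw [neg_eq_zero, h0]) h1 h2 h3 h4
    exact ⟨S, a, b, hb (show 0 < -f z from neg_pos.2 h), c⟩

end RootLib
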