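/-
Spans of roots, saturation, orthogonal decompositions, closed covering sets, parabolic subgroups.
-/
import Groth.Agent.Lib.RootFun

set_option autoImplicit false
set_option maxHeartbeats 400000
set_option linter.unusedSectionVars false
set_option linter.style.haveILetI false
set_option linter.unusedSimpArgs false

noncomputable section

open Set Function RootPairing

namespace RootLib

variable {ι R M N : Type*} [CommRing R] [AddCommGroup M] [Module R M] [AddCommGroup N] [Module R N]
variable {P : RootPairing ι R M N} [Finite ι] [CharZero R] [IsDomain R] [P.IsCrystallographic]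

attribute [local instance] Fintype.ofFinite

lemma mem_span_iff_fun {T : Set ι} {x : M} :
    x ∈ Submodule.span ℤ (P.root '' T) ↔ ∃ c : ι → ℤ, SuppIn T c ∧ x = ∑ i, c i • P.root i := by
  classical
  constructor
  · intro hx
    induction hx using Submodule.span_induction with
    | mem x hx =>
      obtain ⟨a, ha, rfl⟩ := hx
      refine ⟨Pi.single a 1, fun i hi => ?_, ?_⟩
      · have hne : i ≠ a := fun h => hi (h ▸ ha)
        simp [hne]
      · rw [Finset.sum_eq_single a] <;> simp +contextual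
    | zero => exact ⟨0, fun i _ => rfl, by simp⟩
    | add x y _ _ hx hy =>
      obtain ⟨c, hc, rfl⟩ := hx
      obtain ⟨d, hd, rfl⟩ := hy
      exact ⟨c + d, fun i hi => by simp [hc i hi, hd i hi], by simp [add_smul, Finset.sum_add_distrib]⟩
    | smul t x _ hx =>
      obtain ⟨c, hc, rfl⟩ := hx
      exact ⟨fun i => t * c i, fun i hi => by simp [hc i hi], by simp [Finset.smul_sum, mul_smul]⟩
  · rintro ⟨c, hc, rfl⟩
    refine Submodule.sum_mem _ fun i _ => ?_
    by_cases hi : i ∈ T
    · exact Submodule.smul_mem _ _ (Submodule.subset_span ⟨i, hi, rfl⟩)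
    · simp [hc i hi]

lemma natSpan_le_span {T : Set ι} {x : M} (h : x ∈ RootD.natSpan P T) :
    x ∈ Submodule.span ℤ (P.root '' T) :=
  (AddSubmonoid.closure_le (S := (Submodule.span ℤ (P.root '' T)).toAddSubmonoid)).2
    Submodule.subset_span h

lemma rowQ_mem_of_mem_span {T : Set ι} {k : ι} {n : ℕ} (hn : 0 < n)
    (h : n • P.root k ∈ Submodule.span ℤ (P.root '' T)) :
    rowQ P k ∈ Submodule.span ℚ (rowQ P '' T) := by
  classical
  obtain ⟨c, hc, he⟩ := mem_span_iff_fun.1 h
  have h0 : ∑ i, (Pi.single k (n : ℤ) - c : ι → ℤ) i • P.root i = 0 := by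
    simp only [Pi.sub_apply, sub_smul, Finset.sum_sub_distrib, ← he]
    rw [Finset.sum_eq_single k] <;> simp +contextual
  rw [comb_eq_zero_iff] at h0
  simp only [Pi.sub_apply, Int.cast_sub, sub_smul, Finset.sum_sub_distrib] at h0
  rw [Finset.sum_eq_single k (by simp +contextual) (by simp), Pi.single_eq_same, sub_eq_zero] at h0
  have : rowQ P k = ((n : ℚ))⁻¹ • ∑ i, (c i : ℚ) • rowQ P i := by
    rw [← h0, smul_smul]; simp [(Nat.pos_iff_ne_zero.1 hn)]
  rw [this]
  refine Submodule.smul_mem _ _ (Submodule.sum_mem _ fun i _ => ?_)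
  by_cases hi : i ∈ T
  · exact Submodule.smul_mem _ _ (Submodule.subset_span ⟨i, hi, rfl⟩)
  · simp [hc i hi]

lemma exists_nsmul_of_rowQ_mem {T : Set ι} {k : ι} (h : rowQ P k ∈ Submodule.span ℚ (rowQ P '' T)) :
    ∃ n : ℕ, 0 < n ∧ n • P.root k ∈ Submodule.span ℤ (P.root '' T) := by
  classical
  have key : ∀ x ∈ Submodule.span ℚ (rowQ P '' T), ∃ n : ℕ, 0 < n ∧ ∃ c : ι → ℤ, SuppIn T c ∧
      (n : ℚ) • x = ∑ i, (c i : ℚ) • rowQ P i := by
    intro x hx
    induction hx using Submodule.span_induction with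
    | mem x hx =>
      obtain ⟨a, ha, rfl⟩ := hx
      refine ⟨1, one_pos, Pi.single a 1, fun i hi => ?_, ?_⟩
      · have hne : i ≠ a := fun h => hi (h ▸ ha)
        simp [hne]
      · rw [Finset.sum_eq_single a] <;> simp +contextual
    | zero => exact ⟨1, one_pos, 0, fun i _ => rfl, by simp⟩
    | add x y _ _ hx hy =>
      obtain ⟨n, hn, c, hc, hx⟩ := hx
      obtain ⟨m, hm, d, hd, hy⟩ := hy
      refine ⟨n * m, Nat.mul_pos hn hm, fun i => m * c i + n * d i,
        fun i hi => by simp [hc i hi, hd i hi], ?_⟩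
      push_cast
      simp only [add_smul, mul_smul, Finset.sum_add_distrib, ← Finset.smul_sum, ← hx, ← hy, smul_add]
      congr 1
      exact smul_comm _ _ _
    | smul q x _ hx =>
      obtain ⟨n, hn, c, hc, hx⟩ := hx
      refine ⟨n * q.den, Nat.mul_pos hn q.pos, fun i => q.num * c i, fun i hi => by simp [hc i hi], ?_⟩
      push_cast
      simp only [mul_smul, ← Finset.smul_sum, ← hx]
      simp only [smul_smul]
      congr 1
      rw [← Rat.mul_den_eq_num q]; ring
  obtain ⟨n, hn, c, hc, he⟩ := key _ h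
  refine ⟨n, hn, mem_span_iff_fun.2 ⟨c, hc, ?_⟩⟩
  have h0 : ∑ i, (Pi.single k (n : ℤ) - c : ι → ℤ) i • P.root i = 0 := by
    rw [comb_eq_zero_iff]
    simp only [Pi.sub_apply, Int.cast_sub, sub_smul, Finset.sum_sub_distrib, ← he]
    rw [Finset.sum_eq_single k] <;> simp +contextual
  simp only [Pi.sub_apply, sub_smul, Finset.sum_sub_distrib, sub_eq_zero] at h0
  rw [← h0, Finset.sum_eq_single k] <;> simp +contextual

lemma eq_zero_of_mem_span_of_coroot' {x : M} (hx : x ∈ Submodule.span ℤ (Set.range P.root))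
    (h : ∀ k, P.coroot' k x = 0) : x = 0 := by
  rw [← Set.image_univ] at hx
  obtain ⟨c, -, rfl⟩ := mem_span_iff_fun.1 hx
  rw [comb_eq_zero_iff]
  funext j
  have := h j
  simp only [map_sum, map_zsmul, zsmul_eq_mul, P.root_coroot'_eq_pairing, ← cast_pZ] at this
  norm_cast at this
  simp [rowQ]
  exact_mod_cast this

/-- Proportional indivisible roots with positive ratio coincide. -/
lemma indiv_eq_of_prop {a b : ι} (ha : RootD.IsIndiv P a) (hb : RootD.IsIndiv P b) {n m : ℤ}
    (hn : 0 < n) (hm : 0 < m) (h : n • P.root b = m • P.root a) : b = a := by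
  have hpa : n * pZ P b a = m * 2 := by
    apply Int.cast_injective (α := R)
    push_cast
    rw [cast_pZ]
    have := congrArg (P.coroot' a) h
    simpa [zsmul_eq_mul] using this
  have hpb : n * 2 = m * pZ P a b := by
    apply Int.cast_injective (α := R)
    push_cast
    rw [cast_pZ]
    have := congrArg (P.coroot' b) h
    simpa [zsmul_eq_mul] using this
  have hba : 0 < pZ P b a := by
    rcases le_or_gt (pZ P b a) 0 with h' | h'
    · nlinarith
    · exact h'
  have hab : 0 < pZ P a b := by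
    rcases le_or_gt (pZ P a b) 0 with h' | h'
    · nlinarith
    · exact h'
  have h4 : pZ P b a * pZ P a b = 4 := by
    have : n * m * (pZ P b a * pZ P a b) = n * m * 4 := by
      calc n * m * (pZ P b a * pZ P a b) = (n * pZ P b a) * (m * pZ P a b) := by ring
        _ = n * m * 4 := by rw [hpa, ← hpb]; ring
    exact mul_left_cancel₀ (mul_ne_zero hn.ne' hm.ne') this
  by_contra hne
  have hg : 0 < gram P b a := (gram_pos_iff P b a).2 hba
  obtain ⟨c, hc⟩ := exists_root_sub P hg hne
  have hle : pZ P b a ≤ 4 := by nlinarith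
  have := torsionFree P
  interval_cases hp : pZ P b a
  · -- root a = 2 root b
    have hnm : n = 2 * m := by linarith
    refine ha b ?_
    rw [two_smul, ← two_zsmul]
    apply zsmul_right_injective hm.ne'
    simp only [smul_smul]
    rw [mul_comm m 2, ← hnm, h]
  · refine hne (P.root.injective ?_)
    apply zsmul_right_injective hm.ne'
    have : n = m := by linarith
    simpa [this] using h
  · omega
  · have hnm : m = 2 * n := by linarith
    refine hb a ?_
    rw [two_smul, ← two_zsmul]
    apply zsmul_right_injective hn.ne'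
    simp only [smul_smul]
    rw [mul_comm n 2, ← hnm, h]

lemma rowQ_mem_add {W : Submodule ℚ (ι → ℚ)} {i j k : ι} (h : P.root k = P.root i + P.root j)
    (hi : rowQ P i ∈ W) (hj : rowQ P j ∈ W) : rowQ P k ∈ W := by
  rw [rowQ_add h]; exact W.add_mem hi hj

lemma rowQ_mem_nr {W : Submodule ℚ (ι → ℚ)} {i : ι} (hi : rowQ P i ∈ W) : rowQ P (nr P i) ∈ W := by
  rw [rowQ_nr]; exact W.neg_mem hi

/-- A positive system intersected with a subspace gives data for extension. -/
lemma inter_subspace_data {S : Set ι} (h : RootD.IsPosSys P S) (W : Submodule ℚ (ι → ℚ)) :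
    (∀ i ∈ {x ∈ S | rowQ P x ∈ W}, nr P i ∉ {x ∈ S | rowQ P x ∈ W}) ∧
    (∀ i, rowQ P i ∈ W → i ∈ {x ∈ S | rowQ P x ∈ W} ∨ nr P i ∈ {x ∈ S | rowQ P x ∈ W}) ∧
    RootD.IsClosedSub P {x ∈ S | rowQ P x ∈ W} ∧
    ∀ i ∈ {x ∈ S | rowQ P x ∈ W}, rowQ P i ∈ W := by
  refine ⟨fun i hi hn => h.disjoint hi.1 hn.1, fun i hi => ?_, fun i j k hi hj hk => ?_,
    fun i hi => hi.2⟩
  · rcases h.cover i with h' | h'
    · exact Or.inl ⟨h', hi⟩
    · exact Or.inr ⟨h', rowQ_mem_nr hi⟩
  · exact ⟨posSys_closed P h hi.1 hj.1 hk, rowQ_mem_add hk hi.2 hj.2⟩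

section Simple

variable {Δ : Set ι} (hΔ : RootD.IsSimpleSys P Δ)
include hΔ

lemma coef_zero_of_nsmul_mem_span {Δ' : Set ι} (hsub : Δ' ⊆ Δ) {k : ι} {n : ℕ} (hn : 0 < n)
    (h : n • P.root k ∈ Submodule.span ℤ (P.root '' Δ')) : SuppIn Δ' (coef hΔ k) := by
  obtain ⟨c, hc, he⟩ := mem_span_iff_fun.1 h
  have hcΔ : SuppIn Δ c := fun i hi => hc i fun hh => hi (hsub hh)
  have := coef_ext hΔ (c := fun i => (n : ℤ) * coef hΔ k i) (d := c)
    (fun i hi => by simp [coef_supp hΔ k i hi]) hcΔ (by
      simp only [mul_smul, ← Finset.smul_sum, ← root_eq_coef, natCast_zsmul, ← he])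
  intro i hi
  have hi' := congrFun this i
  simp [hc i hi] at hi'
  omega

lemma mem_inSpan_iff {Δ' : Set ι} (hsub : Δ' ⊆ Δ) {k : ι} :
    P.root k ∈ Submodule.span ℤ (P.root '' Δ') ↔ SuppIn Δ' (coef hΔ k) := by
  refine ⟨fun h => coef_zero_of_nsmul_mem_span hΔ hsub one_pos (by rwa [one_smul]), fun h => ?_⟩
  exact mem_span_iff_fun.2 ⟨_, h, root_eq_coef hΔ k⟩

lemma span_range_root : Submodule.span ℤ (Set.range P.root) = Submodule.span ℤ (P.root '' Δ) := by
  refine le_antisymm (Submodule.span_le.2 ?_) (Submodule.span_mono (Set.image_subset_range _ _))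
  rintro _ ⟨k, rfl⟩
  exact mem_span_iff_fun.2 ⟨_, coef_supp hΔ k, root_eq_coef hΔ k⟩

lemma supp_dichotomy_pos {Δ' : Set ι} (hsub : Δ' ⊆ Δ)
    (horth : ∀ i ∈ Δ', ∀ j ∈ Δ \ Δ', gram P i j = 0) {k : ι} (hk : k ∈ RootD.posOf P Δ) :
    SuppIn Δ' (coef hΔ k) ∨ SuppIn (Δ \ Δ') (coef hΔ k) := by
  classical
  generalize hn : (ht hΔ k).toNat = n
  induction n using Nat.strong_induction_on generalizing k with
  | _ n ih =>
  obtain ⟨L, hL, hLs⟩ := (mem_natSpan_iff_list P).1 hk
  obtain ⟨a, ha, hka | ⟨k', hk', hks⟩⟩ := peel P hLs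
  · have haΔ := hL a ha
    subst hka
    by_cases h : k ∈ Δ'
    · left; intro i hi
      have : i ≠ k := fun hh => hi (hh ▸ h)
      simp [coef_simple hΔ haΔ, this]
    · right; intro i hi
      have : i ≠ k := fun hh => hi (hh ▸ ⟨haΔ, h⟩)
      simp [coef_simple hΔ haΔ, this]
  have haΔ := hL a ha
  have hk'pos : k' ∈ RootD.posOf P Δ :=
    (mem_natSpan_iff_list P).2 ⟨_, fun b hb => hL b (List.mem_of_mem_erase hb), hks⟩
  have hht := ht_add hΔ hk'
  rw [ht_simple hΔ haΔ] at hht
  have := ht_pos hΔ hk'pos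
  have hIH := ih _ (by omega) hk'pos rfl
  have key : ∀ T : Set ι, T ⊆ Δ → (∀ i ∈ T, ∀ j ∈ Δ, j ∉ T → gram P i j = 0) →
      SuppIn T (coef hΔ k') → SuppIn T (coef hΔ k) := by
    intro T hT ho hsupp
    by_cases haT : a ∈ T
    · intro i hi
      have : i ≠ a := fun hh => hi (hh ▸ haT)
      rw [coef_add hΔ hk', Pi.add_apply, hsupp i hi, coef_simple hΔ haΔ]
      simp [this]
    exfalso
    obtain ⟨b, -, hb⟩ := exists_coef_pos hΔ hk'pos
    have hbT : b ∈ T := by
      by_contra hh
      rw [hsupp b hh] at hb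
      omega
    have hba : b ≠ a := fun hh => haT (hh ▸ hbT)
    have hg : gram P k' a = 0 := by
      rw [gram_linear P (root_eq_coef hΔ k')]
      refine Finset.sum_eq_zero fun i _ => ?_
      by_cases hi : i ∈ T
      · simp [ho i hi a haΔ haT]
      · simp [hsupp i hi]
    have hp : pZ P k a = 2 := by
      have h1 := two_mul_gram P k a
      rw [gram_add P hk', hg, zero_add] at h1
      have := gram_self_pos P a
      exact (mul_right_cancel₀ this.ne' h1).symm
    have h1 : coef hΔ (Equiv.reflection P a • k) a = -1 := by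
      rw [coef_refl hΔ haΔ, coef_add hΔ hk', coef_simple hΔ haΔ]
      simp [hsupp a haT, hp]
    have h2 : coef hΔ (Equiv.reflection P a • k) b = coef hΔ k' b := by
      rw [coef_refl_of_ne hΔ haΔ hba, coef_add hΔ hk', coef_simple hΔ haΔ]
      simp [hba]
    rcases coef_sign hΔ (Equiv.reflection P a • k) with hs | hs
    · have := hs a; omega
    · have := hs b; omega
  rcases hIH with h | h
  · exact Or.inl (key Δ' hsub (fun i hi j hj hj' => horth i hi j ⟨hj, hj'⟩) h)
  · refine Or.inr (key _ sdiff_subset (fun i hi j hj hj' => ?_) h)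
    rw [gram_comm]
    refine horth j ?_ i hi
    by_contra hh
    exact hj' ⟨hj, hh⟩

lemma supp_dichotomy {Δ' : Set ι} (hsub : Δ' ⊆ Δ)
    (horth : ∀ i ∈ Δ', ∀ j ∈ Δ \ Δ', gram P i j = 0) (k : ι) :
    SuppIn Δ' (coef hΔ k) ∨ SuppIn (Δ \ Δ') (coef hΔ k) := by
  by_cases hk : k ∈ RootD.posOf P Δ
  · exact supp_dichotomy_pos hΔ hsub horth hk
  · have := supp_dichotomy_pos hΔ hsub horth ((nr_mem_posOf_iff hΔ).2 hk)
    simpa [coef_nr, SuppIn] using this

lemma exists_simple_gram_ne_zero (k : ι) : ∃ a ∈ Δ, gram P k a ≠ 0 := by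
  by_contra hc
  push Not at hc
  have h := gram_self_pos P k
  rw [gram_linear P (root_eq_coef hΔ k)] at h
  have : ∑ i, coef hΔ k i * gram P i k = 0 := Finset.sum_eq_zero fun i _ => by
    by_cases hi : i ∈ Δ
    · simp [gram_comm P i k, hc i hi]
    · simp [coef_supp hΔ k i hi]
  omega

end Simple

/-- Roots of a closed set containing a positive system. -/
lemma closed_superset_eq {S : Set ι} (hS : RootD.IsPosSys P S) {T : Set ι}
    (hT : RootD.IsClosedSub P T) (hST : S ⊆ T) :
    T = S ∪ {k | -P.root k ∈ RootD.natSpan P {a | a ∈ simples P S ∧ nr P a ∈ T}} := by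
  classical
  have hΔ := isSimpleSys_simples hS
  have hpos := posOf_simples hS
  have claim : ∀ n : ℕ, ∀ l, (ht hΔ l).toNat = n → l ∈ S → nr P l ∈ T →
      P.root l ∈ RootD.natSpan P {a | a ∈ simples P S ∧ nr P a ∈ T} := by
    intro n
    induction n using Nat.strong_induction_on with
    | _ n ih =>
    intro l hn hlS hlT
    obtain ⟨L, hL, hLs⟩ := (mem_natSpan_iff_list P).1 (natSpan_simples hS hlS)
    obtain ⟨a, ha, hla | ⟨l', hl', hls⟩⟩ := peel P hLs
    · exact root_mem_natSpan P ⟨hla ▸ hL a ha, hla ▸ hlT⟩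
    have hl'pos : l' ∈ RootD.posOf P (simples P S) :=
      (mem_natSpan_iff_list P).2 ⟨_, fun b hb => hL b (List.mem_of_mem_erase hb), hls⟩
    have hl'S : l' ∈ S := hpos ▸ hl'pos
    have haS : a ∈ S := simples_subset P S (hL a ha)
    have haT : nr P a ∈ T := hT hlT (hST hl'S) (by rw [root_nr, root_nr, hl']; abel)
    have hl'T : nr P l' ∈ T := hT hlT (hST haS) (by rw [root_nr, root_nr, hl']; abel)
    have hht := ht_add hΔ hl'
    rw [ht_simple hΔ (hL a ha)] at hht
    have := ht_pos hΔ hl'pos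
    rw [hl']
    exact AddSubmonoid.add_mem _ (ih _ (by omega) l' rfl hl'S hl'T)
      (root_mem_natSpan P ⟨hL a ha, haT⟩)
  ext k
  constructor
  · intro hk
    rcases hS.cover k with h | h
    · exact Or.inl h
    · right
      show -P.root k ∈ RootD.natSpan P _
      rw [← root_nr]
      exact claim _ _ rfl h (by rwa [nr_nr])
  · rintro (h | h)
    · exact hST h
    · refine closed_mem_natSpan P hT ?_
      have : ∀ x ∈ RootD.natSpan P {a | a ∈ simples P S ∧ nr P a ∈ T}, -x ∈ RootD.natSpan P T := by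
        intro x hx
        induction hx using AddSubmonoid.closure_induction with
        | mem x hx =>
          obtain ⟨a, ha, rfl⟩ := hx
          rw [← root_nr]; exact root_mem_natSpan P ha.2
        | zero => simp
        | add x y _ _ hx hy => rw [neg_add]; exact AddSubmonoid.add_mem _ hx hy
      have := this _ h
      rwa [neg_neg] at this

/-- Roots in different parts of a closed symmetric partition are orthogonal. -/
lemma partition_gram_eq_zero {T : Set ι} (hc : RootD.IsClosedSub P T) (hs : RootD.IsSymmSub P T)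
    (hc' : RootD.IsClosedSub P Tᶜ) (hs' : RootD.IsSymmSub P Tᶜ) {i j : ι} (hi : i ∈ T) (hj : j ∉ T) :
    gram P i j = 0 := by
  by_contra hne
  rcases lt_or_gt_of_ne hne with h | h
  · obtain ⟨k, hk⟩ := exists_root_add P h (fun hh => hj (hh ▸ hs hi))
    by_cases hkT : k ∈ T
    · exact hj (hc hkT (hs hi) (by rw [root_nr, hk]; abel))
    · exact (hc' hkT (hs' hj) (show P.root i = P.root k + P.root (nr P j) by rw [root_nr, hk]; abel)) hi
  · obtain ⟨k, hk⟩ := exists_root_sub P h (fun hh => hj (hh ▸ hi))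
    by_cases hkT : k ∈ T
    · exact hj (hc hi (hs hkT) (by rw [root_nr, hk]; abel))
    · exact (hc' hkT hj (show P.root i = P.root k + P.root j by rw [hk]; abel)) hi

/-- A symmetric set orthogonal to its complement is closed. -/
lemma closed_of_gram_eq_zero {T : Set ι} (h : ∀ i ∈ T, ∀ j, j ∉ T → gram P i j = 0) :
    RootD.IsClosedSub P T := by
  intro i j k hi hj hk
  by_contra hkT
  have h1 := gram_add P hk k
  rw [h i hi k hkT, h j hj k hkT] at h1
  have := gram_self_pos P k
  omega

lemma refl_triangle {i j : ι} (hl : gram P i i = gram P j j) (h : 0 < gram P i j) :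
    ∃ g ∈ P.weylGroup, g • i = j := by
  by_cases hne : i = j
  · exact ⟨1, Subgroup.one_mem _, by simp [hne]⟩
  obtain ⟨k, hk⟩ := exists_root_sub P h hne
  have hg := gram_self_pos P j
  have hk' : P.root i = P.root k + P.root j := by rw [hk]; abel
  have hkk : 0 < gram P i i - 2 * gram P i j + gram P j j := by
    have e1 := gram_add P hk' k
    have e2 := gram_add P hk' i
    have e3 := gram_add P hk' j
    have := gram_self_pos P k
    have := gram_comm P i k
    have := gram_comm P j k
    have := gram_comm P i j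
    omega
  have hp : pZ P i j = 1 := by
    have h1 := two_mul_gram P i j
    have h2 : pZ P i j * gram P j j < 2 * gram P j j := by omega
    have h3 : 0 < pZ P i j := (gram_pos_iff P i j).1 h
    have := (mul_lt_mul_iff_left₀ hg).1 h2
    omega
  have hq : pZ P j i = 1 := by
    have h1 := two_mul_gram P i j
    have h2 := two_mul_gram P j i
    rw [hp] at h1
    rw [gram_comm, h1, hl] at h2
    exact (mul_right_cancel₀ hg.ne' h2).symm
  have e1 : P.root (Equiv.reflection P j • i) = P.root i - P.root j := by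
    rw [root_refl, hp, one_smul]
  have hx : Equiv.reflection P j • i = k := P.root.injective (by rw [e1, hk])
  have hpk : pZ P k i = 1 := by
    apply Int.cast_injective (α := R)
    rw [cast_pZ, Int.cast_one]
    have h5 := congrArg (P.coroot' i) hk
    rw [map_sub, P.root_coroot'_eq_pairing, P.root_coroot'_eq_pairing, P.root_coroot'_eq_pairing,
      P.pairing_same, ← cast_pZ P j i, hq] at h5
    rw [h5]; norm_num
  refine ⟨Equiv.reflection P j * Equiv.reflection P i * Equiv.reflection P j,
    Subgroup.mul_mem _ (Subgroup.mul_mem _ (P.reflection_mem_weylGroup j) (P.reflection_mem_weylGroup i))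
      (P.reflection_mem_weylGroup j), ?_⟩
  rw [mul_smul, mul_smul, hx]
  have hy : Equiv.reflection P i • k = nr P j := nr_eq_of_root P (by
    rw [root_refl, hpk, one_smul, hk]; abel)
  rw [hy, smul_nr, refl_smul_self, nr_nr]

lemma exists_smul_eq_of_gram_ne_zero {i j : ι} (hl : gram P i i = gram P j j)
    (h : gram P i j ≠ 0) : ∃ g ∈ P.weylGroup, g • i = j := by
  rcases lt_or_gt_of_ne h with h | h
  · obtain ⟨g, hg, hgi⟩ := refl_triangle (P := P) (i := nr P i) (j := j)
      (by rw [gram_nr_left, gram_comm, gram_nr_left, neg_neg, hl])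
      (by rw [gram_nr_left]; omega)
    refine ⟨g * Equiv.reflection P i, Subgroup.mul_mem _ hg (P.reflection_mem_weylGroup i), ?_⟩
    rw [mul_smul, refl_smul_self, hgi]
  · exact refl_triangle hl h

section Parabolic

variable {Δ : Set ι} (hΔ : RootD.IsSimpleSys P Δ)
include hΔ

lemma coef_preserved_of_mem {Δ' : Set ι} (hsub : Δ' ⊆ Δ) {g : P.Aut}
    (hg : g ∈ Subgroup.closure ((fun i : ι => Equiv.reflection P i) '' Δ')) :
    ∀ k b, b ∉ Δ' → coef hΔ (g • k) b = coef hΔ k b := by
  induction hg using Subgroup.closure_induction'' with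
  | one => simp
  | mem x hx =>
    obtain ⟨a, ha, rfl⟩ := hx
    exact fun k b hb => coef_refl_of_ne hΔ (hsub ha) (fun h : b = a => hb (h ▸ ha)) k
  | inv_mem x hx =>
    obtain ⟨a, ha, rfl⟩ := hx
    rw [RootPairing.Equiv.reflection_inv]
    exact fun k b hb => coef_refl_of_ne hΔ (hsub ha) (fun h : b = a => hb (h ▸ ha)) k
  | mul x y _ _ hx hy => intro k b hb; rw [mul_smul, hx _ b hb, hy _ b hb]

lemma mem_of_coef_preserved {Δ' : Set ι} (hsub : Δ' ⊆ Δ) {g : P.Aut} (hg : g ∈ P.weylGroup)
    (h : ∀ k b, b ∉ Δ' → coef hΔ (g • k) b = coef hΔ k b) :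
    g ∈ Subgroup.closure ((fun i : ι => Equiv.reflection P i) '' Δ') := by
  classical
  obtain ⟨l, h1, h2, h3⟩ := exists_minimal_word hΔ hg
  generalize hn : l.length = n
  induction n using Nat.strong_induction_on generalizing g l with
  | _ n ih =>
  by_cases hne : l = []
  · subst hne; rw [← h2, wd_nil]; exact Subgroup.one_mem _
  have hneg := neg_last_of_minimal hΔ h1 hne (fun l' a b => h3 l' a (b.trans h2))
  set a := l.getLast hne with ha
  have haΔ : a ∈ Δ := h1 _ (List.getLast_mem hne)
  have haΔ' : a ∈ Δ' := by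
    by_contra hh
    have := h a a hh
    rw [coef_simple hΔ haΔ, Pi.single_eq_same] at this
    have h4 := (mem_posOf_iff hΔ).1 hneg a
    rw [h2, coef_nr, Pi.neg_apply, this] at h4
    omega
  have hs : Equiv.reflection P a ∈ Subgroup.closure ((fun i : ι => Equiv.reflection P i) '' Δ') :=
    Subgroup.subset_closure ⟨a, haΔ', rfl⟩
  have hg' : g * Equiv.reflection P a ∈ P.weylGroup :=
    Subgroup.mul_mem _ hg (P.reflection_mem_weylGroup a)
  have hd : wd P l.dropLast = g * Equiv.reflection P a := by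
    rw [← h2]
    conv_rhs => rw [← List.dropLast_append_getLast hne]
    rw [← ha, wd_append, wd_singleton, mul_assoc, refl_sq, mul_one]
  obtain ⟨l', g1, g2, g3⟩ := exists_minimal_word hΔ hg'
  have hlen : l'.length < n := by
    have := g3 _ (fun x hx => h1 x (List.dropLast_subset l hx)) hd
    rw [List.length_dropLast] at this
    have := List.length_pos_of_ne_nil hne
    omega
  have := ih _ hlen hg' (fun k b hb => by
    rw [mul_smul, h _ b hb, coef_refl_of_ne hΔ haΔ (fun hh : b = a => hb (hh ▸ haΔ')) k]) l' g1 g2 g3 rfl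
  have := Subgroup.mul_mem _ this hs
  rwa [mul_assoc, refl_sq, mul_one] at this

end Parabolic

end RootLib
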