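/-
Duality, non-orthogonality components, lengths, bridge to `RootPairing.Base`.
-/
import Groth.Agent.Lib.RootSub

set_option autoImplicit false
set_option maxHeartbeats 400000
set_option linter.unusedSectionVars false
set_option linter.style.haveILetI false
set_option linter.unusedSimpArgs false

noncomputable section

open Set Function RootPairing

namespace RootLib

variable {ι R M N : Type*} [CommRing R] [AddCommGroup M] [Module R M] [AddCommGroup N] [Module R N]
variable (P : RootPairing ι R M N) [Finite ι] [CharZero R] [IsDomain R] [P.IsCrystallographic]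

attribute [local instance] Fintype.ofFinite

lemma pZ_flip (i j : ι) : pZ P.flip i j = pZ P j i := by
  apply Int.cast_injective (α := R)
  rw [cast_pZ, cast_pZ, P.pairing_flip]

lemma two_mul_gram_flip (i j : ι) : 2 * gram P.flip i j = pZ P j i * gram P.flip j j := by
  rw [two_mul_gram, pZ_flip]

lemma pZ_mul_gram_swap (i j : ι) : pZ P i j * gram P j j = pZ P j i * gram P i i := by
  rw [← two_mul_gram, ← two_mul_gram, gram_comm]

lemma gram_smul_coroot (i : ι) :
    (gram P i i) • P.coroot i = 2 • P.Polarization (P.root i) := by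
  have := P.rootForm_self_smul_coroot i
  rwa [← cast_gram, Int.cast_smul_eq_zsmul] at this

variable {P}

/-- An integral relation between roots gives one between coroots. -/
lemma coroot_comb_eq_zero {c : ι → ℤ} (h : ∑ i, c i • P.root i = 0) :
    ∑ i, (c i * gram P i i) • P.coroot i = 0 := by
  simp only [mul_smul, gram_smul_coroot]
  simp only [smul_comm (c _) (2 : ℕ), ← map_zsmul, ← map_sum, ← Finset.smul_sum, h, map_zero, smul_zero]

lemma root_comb_eq_zero {c : ι → ℤ} (h : ∑ i, c i • P.coroot i = 0) :
    ∑ i, (c i * gram P.flip i i) • P.root i = 0 :=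
  coroot_comb_eq_zero (P := P.flip) h

lemma coroot_of_root_comb {k : ι} {c : ι → ℤ} (h : P.root k = ∑ i, c i • P.root i) :
    gram P k k • P.coroot k = ∑ i, (c i * gram P i i) • P.coroot i := by
  simp only [mul_smul, gram_smul_coroot]
  simp only [smul_comm (c _) (2 : ℕ), ← map_zsmul, ← map_sum, ← Finset.smul_sum, h]

lemma isPosSys_flip {S : Set ι} (h : RootD.IsPosSys P S) : RootD.IsPosSys P.flip S := by
  classical
  refine ⟨fun i hi => h.disjoint hi, h.cover, fun k n hn hk => ?_⟩
  obtain ⟨c, hc, he⟩ := (mem_natSpan_iff_fun P.flip).1 hk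
  have h0 : ∑ i, ((c i : ℤ) - Pi.single (M := fun _ : ι => ℤ) k (n : ℤ) i) • P.coroot i = 0 := by
    simp only [sub_smul, Finset.sum_sub_distrib, natCast_zsmul]
    rw [Finset.sum_eq_single (f := fun x => Pi.single (M := fun _ : ι => ℤ) k (n : ℤ) x • P.coroot x) k
      (by simp +contextual) (by simp), Pi.single_eq_same, natCast_zsmul, sub_eq_zero]
    exact he.symm
  have h1 := root_comb_eq_zero h0
  simp only [sub_mul, sub_smul, Finset.sum_sub_distrib] at h1
  rw [Finset.sum_eq_single (f := fun x => (Pi.single (M := fun _ : ι => ℤ) k (n : ℤ) x * gram P.flip x x) • P.root x) k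
      (by simp +contextual) (by simp), Pi.single_eq_same, sub_eq_zero] at h1
  have hk0 := gram_self_pos P.flip k
  refine h.sat (n * (gram P.flip k k).toNat) (Nat.mul_pos hn (by omega)) ?_
  refine (mem_natSpan_iff_fun P).2 ⟨fun i => c i * (gram P.flip i i).toNat,
    fun i hi => by simp [hc i hi], ?_⟩
  simp only [← natCast_zsmul, Nat.cast_mul, Int.toNat_of_nonneg (gram_self_pos P.flip _).le]
  exact h1.symm

lemma isClosedSub_flip_of_gram {T : Set ι} (h : ∀ i ∈ T, ∀ j, j ∉ T → gram P i j = 0) :
    RootD.IsClosedSub P.flip T := by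
  refine closed_of_gram_eq_zero fun i hi j hj => ?_
  rw [gram_eq_zero_iff, pZ_flip, ← gram_eq_zero_iff, gram_comm]
  exact h i hi j hj

/-- Irreducibility in the closed-symmetric-partition sense. -/
def Irred (P : RootPairing ι R M N) : Prop :=
  ∀ R' : Set ι, RootD.IsClosedSub P R' → RootD.IsSymmSub P R' → RootD.IsClosedSub P R'ᶜ →
    RootD.IsSymmSub P R'ᶜ → R' = ∅ ∨ R' = Set.univ

lemma partition_of_gram {T : Set ι} (hs : RootD.IsSymmSub P T)
    (h : ∀ i ∈ T, ∀ j, j ∉ T → gram P i j = 0) :
    RootD.IsClosedSub P T ∧ RootD.IsSymmSub P T ∧ RootD.IsClosedSub P Tᶜ ∧ RootD.IsSymmSub P Tᶜ := by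
  refine ⟨closed_of_gram_eq_zero h, hs, closed_of_gram_eq_zero fun i hi j hj => ?_, fun i hi hn => ?_⟩
  · rw [gram_comm]; exact h j (not_not.1 hj) i hi
  · exact hi (nr_nr P i ▸ hs hn)

lemma component_data (i : ι) :
    RootD.IsSymmSub P {j : ι | Relation.ReflTransGen (fun a b : ι => ¬ P.IsOrthogonal a b) i j} ∧
    ∀ a ∈ {j : ι | Relation.ReflTransGen (fun a b : ι => ¬ P.IsOrthogonal a b) i j}, ∀ b,
      b ∉ {j : ι | Relation.ReflTransGen (fun a b : ι => ¬ P.IsOrthogonal a b) i j} → gram P a b = 0 := by
  constructor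
  · intro a ha
    refine Relation.ReflTransGen.tail ha ?_
    rw [isOrthogonal_iff_gram, gram_comm, gram_nr_left]
    have := gram_self_pos P a
    omega
  · intro a ha b hb
    by_contra h
    exact hb (Relation.ReflTransGen.tail ha fun hh => h ((isOrthogonal_iff_gram P a b).1 hh))

lemma Irred.connected (hirr : Irred P) (i j : ι) :
    Relation.ReflTransGen (fun a b : ι => ¬ P.IsOrthogonal a b) i j := by
  obtain ⟨hs, h⟩ := component_data (P := P) i
  obtain ⟨h1, h2, h3, h4⟩ := partition_of_gram hs h
  rcases hirr _ h1 h2 h3 h4 with he | he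
  · exact absurd (he ▸ Relation.ReflTransGen.refl : i ∈ (∅ : Set ι)) (Set.notMem_empty i)
  · exact Set.eq_univ_iff_forall.1 he j

/-- A function constant on non-orthogonal pairs is constant. -/
lemma Irred.const {α : Type*} (hirr : Irred P) (f : ι → α)
    (h : ∀ a b, gram P a b ≠ 0 → f a = f b) (i j : ι) : f i = f j := by
  induction hirr.connected i j with
  | refl => rfl
  | tail _ hab ih => exact ih.trans (h _ _ fun h0 => hab ((isOrthogonal_iff_gram P _ _).2 h0))

/-- Some conjugate of `i` is non-orthogonal to `j`. -/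
lemma Irred.exists_conj_gram_ne_zero (hirr : Irred P) (i j : ι) :
    ∃ g ∈ P.weylGroup, gram P (g • i) j ≠ 0 := by
  classical
  by_contra hc
  push Not at hc
  set T : Set ι := {l | ∀ g ∈ P.weylGroup, gram P (g • i) l = 0} with hT
  have hs : RootD.IsSymmSub P T := fun l hl g hg => by
    show gram P (g • i) (nr P l) = 0
    rw [gram_comm, gram_nr_left, gram_comm, hl g hg, neg_zero]
  have hspan : ∀ l, l ∉ T → rowQ P l ∈ Submodule.span ℚ (rowQ P '' {x | ∃ g ∈ P.weylGroup, g • i = x}) := by
    intro l hl
    simp only [hT, Set.mem_setOf_eq, not_forall] at hl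
    obtain ⟨g, hg, hne⟩ := hl
    rw [gram_eq_zero_iff] at hne
    have hmem : Equiv.reflection P l • (g • i) ∈ {x | ∃ g ∈ P.weylGroup, g • i = x} :=
      ⟨Equiv.reflection P l * g, Subgroup.mul_mem _ (P.reflection_mem_weylGroup l) hg, mul_smul _ _ _⟩
    have hrow : rowQ P (Equiv.reflection P l • (g • i)) = rowQ P (g • i) - (pZ P (g • i) l : ℚ) • rowQ P l := by
      have h1 : P.root (Equiv.reflection P l • (g • i)) =
          ∑ t, (Pi.single (g • i) 1 - Pi.single l (pZ P (g • i) l) : ι → ℤ) t • P.root t := by
        simp only [Pi.sub_apply, sub_smul, Finset.sum_sub_distrib, root_refl]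
        rw [Finset.sum_eq_single (g • i), Finset.sum_eq_single l] <;> simp +contextual
      rw [rowQ_lin h1]
      simp only [Pi.sub_apply, Int.cast_sub, sub_smul, Finset.sum_sub_distrib]
      rw [Finset.sum_eq_single (g • i), Finset.sum_eq_single l] <;> simp +contextual
    have : rowQ P l = (pZ P (g • i) l : ℚ)⁻¹ • (rowQ P (g • i) - rowQ P (Equiv.reflection P l • (g • i))) := by
      rw [hrow, sub_sub_cancel, smul_smul, inv_mul_cancel₀ (by exact_mod_cast hne), one_smul]
    rw [this]
    exact Submodule.smul_mem _ _ (Submodule.sub_mem _ (Submodule.subset_span ⟨_, ⟨g, hg, rfl⟩, rfl⟩)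
      (Submodule.subset_span ⟨_, hmem, rfl⟩))
  have horth : ∀ a ∈ T, ∀ b, b ∉ T → gram P a b = 0 := by
    intro a ha b hb
    obtain ⟨n, hn, hmem⟩ := exists_nsmul_of_rowQ_mem (hspan b hb)
    obtain ⟨c, hcs, he⟩ := mem_span_iff_fun.1 hmem
    have h1 : (n : ℤ) * gram P b a = ∑ t, c t * gram P t a := by
      apply Int.cast_injective (α := R)
      push_cast
      have := congrArg (fun x => P.RootForm x (P.root a)) he
      simpa [map_sum, cast_gram, zsmul_eq_mul, nsmul_eq_mul] using this
    have h2 : ∑ t, c t * gram P t a = 0 := Finset.sum_eq_zero fun t _ => by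
      by_cases ht : t ∈ {x | ∃ g ∈ P.weylGroup, g • i = x}
      · obtain ⟨g, hg, rfl⟩ := ht
        simp [ha g hg]
      · simp [hcs t ht]
    rw [h2] at h1
    rw [gram_comm]
    have hn' : (n : ℤ) ≠ 0 := by exact_mod_cast hn.ne'
    exact (mul_eq_zero.1 h1).resolve_left hn'
  obtain ⟨h1, h2, h3, h4⟩ := partition_of_gram hs horth
  rcases hirr T h1 h2 h3 h4 with he | he
  · exact absurd (he ▸ (fun g hg => hc g hg : j ∈ T)) (Set.notMem_empty j)
  · have hi : i ∈ T := he ▸ Set.mem_univ i
    have := hi 1 (Subgroup.one_mem _)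
    rw [one_smul] at this
    have := gram_self_pos P i
    omega

lemma eq_zero_of_two (i j : ι) (a b : ℤ)
    (hi : P.coroot' i (a • P.root i + b • P.root j) = 0)
    (hj : P.coroot' j (a • P.root i + b • P.root j) = 0) : a • P.root i + b • P.root j = 0 := by
  classical
  have key : ∑ t, (Pi.single i a + Pi.single j b : ι → ℤ) t • P.root t = a • P.root i + b • P.root j := by
    simp only [Pi.add_apply, add_smul, Finset.sum_add_distrib]
    rw [Finset.sum_eq_single i, Finset.sum_eq_single j] <;> simp +contextual
  rw [← key]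
  refine eq_zero_of_rootForm_self P _ ?_
  have hr : ∀ t, P.coroot' t (a • P.root i + b • P.root j) = 0 → a * gram P i t + b * gram P j t = 0 := by
    intro t ht
    have hz : a * pZ P i t + b * pZ P j t = 0 := by
      apply Int.cast_injective (α := R)
      push_cast
      simp only [cast_pZ]
      simpa [zsmul_eq_mul] using ht
    have h1 := two_mul_gram P i t
    have h2 := two_mul_gram P j t
    have : 2 * (a * gram P i t + b * gram P j t) = 0 := by
      linear_combination a * h1 + b * h2 + gram P t t * hz
    omega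
  have e1 := hr i hi
  have e2 := hr j hj
  calc ∑ x, ∑ y, (Pi.single i a + Pi.single j b : ι → ℤ) x * (Pi.single i a + Pi.single j b : ι → ℤ) y * gram P x y
      = ∑ x, (Pi.single i a + Pi.single j b : ι → ℤ) x * (a * gram P i x + b * gram P j x) := by
        refine Finset.sum_congr rfl fun x _ => ?_
        simp only [mul_assoc, ← Finset.mul_sum]
        congr 1
        simp only [Pi.add_apply, add_mul, Finset.sum_add_distrib]
        rw [Finset.sum_eq_single i, Finset.sum_eq_single j] <;> simp +contextual [gram_comm P x]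
    _ = 0 := by
        simp only [Pi.add_apply, add_mul, Finset.sum_add_distrib]
        rw [Finset.sum_eq_single i, Finset.sum_eq_single j] <;> simp +contextual [e1, e2]

/-- Proportional roots have the same reflection. -/
lemma refl_eq_of_prop {i j : ι} {n m : ℤ} (hn : n ≠ 0) (h : n • P.root i = m • P.root j) :
    Equiv.reflection P i = Equiv.reflection P j := by
  refine aut_ext fun x => ?_
  rw [RootPairing.Equiv.reflection_smul, RootPairing.Equiv.reflection_smul, P.reflection_apply,
    P.reflection_apply, sub_right_inj]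
  have key : ∀ i, (gram P i i : R) * P.coroot' i x = 2 * P.RootForm (P.root i) x := by
    intro i
    have := congrArg (fun y => P.toLinearMap x y) (P.rootForm_self_smul_coroot i)
    simp only [map_smul, map_nsmul, smul_eq_mul, nsmul_eq_mul, Nat.cast_ofNat,
      P.toLinearMap_apply_apply_Polarization] at this
    rw [cast_gram]
    exact this
  have hm : m ≠ 0 := fun h0 => by
    have := torsionFree P
    rw [h0, zero_smul] at h
    exact root_ne_zero P i (zsmul_right_injective hn (by simpa using h))
  have hB : (n : R) * P.RootForm (P.root i) x = (m : R) * P.RootForm (P.root j) x := by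
    have := congrArg (fun y => P.RootForm y x) h
    simpa [zsmul_eq_mul] using this
  have hg : n * n * gram P i i = m * m * gram P j j := by
    apply Int.cast_injective (α := R)
    push_cast
    rw [cast_gram, cast_gram]
    have := congrArg (fun y => P.RootForm y y) h
    simp [zsmul_eq_mul] at this
    linear_combination this
  have hg' : (n : R) * n * (gram P i i : R) = (m : R) * m * (gram P j j : R) := by exact_mod_cast hg
  have hni : (n : R) ≠ 0 := by exact_mod_cast hn
  have hgj : (gram P j j : R) ≠ 0 := by exact_mod_cast (gram_self_pos P j).ne'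
  have hgi : (gram P i i : R) ≠ 0 := by exact_mod_cast (gram_self_pos P i).ne'
  have hc : (m : R) * P.coroot' i x = (n : R) * P.coroot' j x := by
    refine mul_left_cancel₀ (mul_ne_zero hni hgi) ?_
    linear_combination (m : R) * (n : R) * key i + 2 * (m : R) * hB - (m : R) * (m : R) * key j
      - P.coroot' j x * hg'
  have := Module.IsReflexive.of_isPerfPair P.toLinearMap
  have htf : Module.IsTorsionFree R M := inferInstance
  apply smul_right_injective M hni
  simp only [smul_smul]
  rw [mul_comm, mul_smul, Int.cast_smul_eq_zsmul, h, ← Int.cast_smul_eq_zsmul R, smul_smul, mul_comm, hc]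

/-- The simple system of a base. -/
lemma base_isSimpleSys (b : P.Base) : RootD.IsSimpleSys P (b.support : Set ι) :=
  ⟨b.linearIndepOn_root, b.root_mem_or_neg_mem⟩

lemma height_eq_ht (b : P.Base) (k : ι) : b.height k = ht (base_isSimpleSys b) k := by
  have hs : ∀ x, x ∉ b.support → coef (base_isSimpleSys b) k x = 0 :=
    fun x hx => coef_supp (base_isSimpleSys b) k x (by simpa using hx)
  rw [RootPairing.Base.height_eq_sum (f := coef (base_isSimpleSys b) k), ht]
  · exact Finset.sum_subset (Finset.subset_univ _) (fun x _ hx => hs x hx)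
  · rw [Finset.sum_subset (Finset.subset_univ _) (fun x _ hx => by simp [hs x hx])]
    exact root_eq_coef _ k

lemma isPos_iff_mem_posOf (b : P.Base) (k : ι) : b.IsPos k ↔ k ∈ RootD.posOf P (b.support : Set ι) := by
  rw [RootPairing.Base.isPos_iff, height_eq_ht]
  refine ⟨fun h => ?_, ht_pos _⟩
  by_contra hk
  have := ht_pos (base_isSimpleSys b) ((nr_mem_posOf_iff (base_isSimpleSys b)).2 hk)
  simp [ht, coef_nr, Finset.sum_neg_distrib] at this
  rw [ht] at h
  omega

lemma indiv_of_reduced [P.IsReduced] (k : ι) : RootD.IsIndiv P k := by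
  intro j hj
  rcases RootPairing.IsReduced.eq_or_eq_neg (P := P) j k (by
    rw [LinearIndependent.pair_iff]
    push Not
    exact ⟨2, -1, by rw [hj]; simp, fun h => absurd h two_ne_zero⟩) with h | h
  · rw [h, two_smul] at hj
    exact root_ne_zero P k (by simpa using hj)
  · rw [h, two_smul] at hj
    have h30 : (3 : ℕ) • P.root k = 0 := by
      have h3 : (3 : ℕ) • P.root k = P.root k - (-P.root k + -P.root k) := by abel
      rw [h3, hj, sub_self]
    have := torsionFree P
    exact root_ne_zero P k (IsAddTorsionFree.nsmul_right_injective (by norm_num : (3 : ℕ) ≠ 0) (by simpa using h30))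

lemma smul_sub_mem_span {g : P.Aut} {T : Set ι}
    (hg : g ∈ Subgroup.closure ((fun i : ι => Equiv.reflection P i) '' T)) (x : M) :
    g • x - x ∈ Submodule.span R (P.root '' T) := by
  induction hg using Subgroup.closure_induction'' generalizing x with
  | one => simp
  | mem y hy =>
    obtain ⟨a, ha, rfl⟩ := hy
    rw [RootPairing.Equiv.reflection_smul, P.reflection_apply]
    simpa using Submodule.smul_mem _ (P.coroot' a x) (Submodule.subset_span (R := R) (Set.mem_image_of_mem P.root ha))
  | inv_mem y hy =>
    obtain ⟨a, ha, rfl⟩ := hy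
    rw [RootPairing.Equiv.reflection_inv, RootPairing.Equiv.reflection_smul, P.reflection_apply]
    simpa using Submodule.smul_mem _ (P.coroot' a x) (Submodule.subset_span (R := R) (Set.mem_image_of_mem P.root ha))
  | mul y z _ _ hy hz =>
    rw [mul_smul, show y • z • x - x = (y • (z • x) - z • x) + (z • x - x) by abel]
    exact Submodule.add_mem _ (hy _) (hz x)

end RootLib
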