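/-
Simple systems of the dual, sums over positive roots, dominance, p-morphism helpers.
-/
import Groth.Agent.Lib.RootDual

set_option autoImplicit false
set_option maxHeartbeats 400000
set_option linter.unusedSectionVars false
set_option linter.style.haveILetI false
set_option linter.unusedSimpArgs false

noncomputable section

open Set Function RootPairing

namespace RootLib

variable {ι R M N : Type*} [CommRing R] [AddCommGroup M] [Module R M] [AddCommGroup N] [Module R N]
variable {P : RootPairing ι R M N} [Finite ι] [CharZero R] [IsDomain R] [P.IsCrystallographic]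

attribute [local instance] Fintype.ofFinite

lemma two_coroot_of_double {j k : ι} (h : P.root k = P.root j + P.root j) :
    P.coroot j = P.coroot k + P.coroot k := by
  classical
  have h1 : P.root k = ∑ t, (fun t => if t = j then (2 : ℤ) else 0) t • P.root t := by
    rw [Finset.sum_eq_single j (by simp +contextual) (by simp)]
    simp [two_zsmul, h]
  have h2 := coroot_of_root_comb h1
  rw [Finset.sum_eq_single j (by simp +contextual) (by simp)] at h2
  simp only [if_true] at h2
  have hg : gram P k k = 4 * gram P j j := by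
    rw [gram_add P h, gram_comm P j k, gram_add P h]; ring
  have htf : IsAddTorsionFree N := torsionFree P.flip
  refine zsmul_right_injective (G := N) (n := 2 * gram P j j) (by have := gram_self_pos P j; omega) ?_
  simp only
  rw [← h2, hg, ← two_zsmul, smul_smul]
  congr 1; ring

/-- Each simple root determines a simple coroot: itself, or its half if it is divisible. -/
lemma exists_simple_coroot {Δ : Set ι} (hΔ : RootD.IsSimpleSys P Δ) {a : ι} (ha : a ∈ Δ) :
    ∃ j ∈ simples P.flip (RootD.posOf P Δ),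
      (j = a ∧ RootD.IsIndiv P.flip a) ∨ P.coroot a = P.coroot j + P.coroot j := by
  classical
  have hS := isPosSys_posOf hΔ
  have hS' := isPosSys_flip hS
  have hΔ' := isSimpleSys_simples hS'
  obtain ⟨j, ε, hjI, hε, hja, hkind⟩ : ∃ (j : ι) (ε : ℤ), RootD.IsIndiv P.flip j ∧ 0 < ε ∧
      P.coroot a = ε • P.coroot j ∧
      ((j = a ∧ RootD.IsIndiv P.flip a) ∨ P.coroot a = P.coroot j + P.coroot j) := by
    rcases indiv_or_double (P := P.flip) a with h | ⟨j, hj, h⟩
    · exact ⟨a, 1, h, one_pos, by simp, Or.inl ⟨rfl, h⟩⟩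
    · exact ⟨j, 2, hj, two_pos, h.trans (two_zsmul _).symm, Or.inr h⟩
  have hjS : j ∈ RootD.posOf P Δ := by
    refine hS'.sat ε.toNat (by omega) ?_
    show ε.toNat • P.coroot j ∈ _
    rw [← natCast_zsmul, Int.toNat_of_nonneg hε.le, ← hja]
    exact root_mem_natSpan P.flip (simple_mem_posOf hΔ ha)
  rw [← posOf_simples hS'] at hjS
  have he := root_eq_coef hΔ' j
  have henn := (mem_posOf_iff hΔ').1 hjS
  obtain ⟨b, hb, hbpos⟩ := exists_coef_pos hΔ' hjS
  have hrel : ∑ t, (ε * coef hΔ' j t - (if t = a then 1 else 0)) • P.coroot t = 0 := by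
    simp only [sub_smul, Finset.sum_sub_distrib, mul_smul, ← Finset.smul_sum]
    rw [show ∑ t, coef hΔ' j t • P.coroot t = P.coroot j from he.symm,
      Finset.sum_eq_single a (by simp +contextual) (by simp), if_pos rfl, one_smul, ← hja, sub_self]
  have hrel' := root_comb_eq_zero hrel
  simp only [sub_mul, sub_smul, Finset.sum_sub_distrib, sub_eq_zero] at hrel'
  rw [Finset.sum_eq_single (f := fun t => ((if t = a then (1 : ℤ) else 0) * gram P.flip t t) • P.root t) a
    (by simp +contextual) (by simp), if_pos rfl, one_mul] at hrel'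
  have hco := coef_ext hΔ (c := fun i => ∑ t, ε * coef hΔ' j t * gram P.flip t t * coef hΔ t i)
    (d := fun i => if i = a then gram P.flip a a else 0)
    (fun i hi => Finset.sum_eq_zero fun t _ => by simp [coef_supp hΔ t i hi])
    (fun i hi => by
      have : i ≠ a := fun h => hi (h ▸ ha)
      simp [this]) (by
    simp only [Finset.sum_smul, mul_smul]
    rw [Finset.sum_comm]
    simp only [← Finset.smul_sum, ← root_eq_coef]
    rw [Finset.sum_eq_single (f := fun t => (if t = a then gram P.flip a a else 0) • P.root t) a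
      (by simp +contextual) (by simp), if_pos rfl, ← hrel']
    simp only [mul_smul, Finset.smul_sum])
  have hbS : b ∈ RootD.posOf P Δ := hb.1
  have hbnn := (mem_posOf_iff hΔ).1 hbS
  have honly : ∀ i, i ≠ a → coef hΔ b i ≤ 0 := by
    intro i hi
    by_contra hpos
    have h1 := congrFun hco i
    simp only [if_neg hi] at h1
    have hterm : ∀ t, 0 ≤ ε * coef hΔ' j t * gram P.flip t t * coef hΔ t i := by
      intro t
      by_cases ht : t ∈ simples P.flip (RootD.posOf P Δ)
      · exact mul_nonneg (mul_nonneg (mul_nonneg hε.le (henn t)) (gram_self_pos P.flip t).le)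
          ((mem_posOf_iff hΔ).1 ht.1 i)
      · simp [coef_supp hΔ' j t ht]
    have h2 := (Finset.sum_eq_zero_iff_of_nonneg fun t _ => hterm t).1 h1 b (Finset.mem_univ b)
    have : 0 < ε * coef hΔ' j b * gram P.flip b b * coef hΔ b i :=
      mul_pos (mul_pos (mul_pos hε hbpos) (gram_self_pos P.flip b)) (not_le.1 hpos)
    omega
  have hbI : RootD.IsIndiv P.flip b := simple_isIndiv hΔ' hb
  rcases only_at hΔ ha hbS honly with hba | hba
  · rcases hkind with ⟨rfl, h2⟩ | h2
    · exact ⟨j, hba ▸ hb, Or.inl ⟨rfl, h2⟩⟩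
    · refine absurd (show (2 : R) • P.coroot j = P.coroot a by rw [two_smul, h2]) ?_
      exact hba ▸ hbI j
  · exact ⟨b, hb, Or.inr (two_coroot_of_double hba)⟩

lemma exists_simple_of_simple_coroot {Δ : Set ι} (hΔ : RootD.IsSimpleSys P Δ) {b : ι}
    (hb : b ∈ simples P.flip (RootD.posOf P Δ)) :
    ∃ a ∈ Δ, (b = a ∧ RootD.IsIndiv P.flip a) ∨ P.coroot a = P.coroot b + P.coroot b := by
  classical
  have hS' := isPosSys_flip (isPosSys_posOf hΔ)
  have hΔ' := isSimpleSys_simples hS'
  choose j hj hjk using fun a : Δ => exists_simple_coroot hΔ a.2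
  have h1 := coroot_of_root_comb (root_eq_coef hΔ b)
  have hbnn := (mem_posOf_iff hΔ).1 hb.1
  have hco := coef_ext hΔ' (c := fun i => if i = b then gram P b b else 0)
    (d := fun i => ∑ t, coef hΔ b t * gram P t t * coef hΔ' t i)
    (fun i hi => by
      have : i ≠ b := fun h => hi (h ▸ hb)
      simp [this])
    (fun i hi => Finset.sum_eq_zero fun t _ => by simp [coef_supp hΔ' t i hi]) (by
    simp only [Finset.sum_smul, mul_smul]
    rw [Finset.sum_comm]
    simp only [← Finset.smul_sum, ← root_eq_coef]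
    rw [Finset.sum_eq_single (f := fun t => (if t = b then gram P b b else 0) • P.flip.root t) b
      (by simp +contextual) (by simp), if_pos rfl]
    simpa [mul_smul] using h1)
  obtain ⟨a, ha, hapos⟩ := exists_coef_pos hΔ hb.1
  have hja : 0 < coef hΔ' a (j ⟨a, ha⟩) := by
    rcases hjk ⟨a, ha⟩ with ⟨h, -⟩ | h
    · have h' : j ⟨a, ha⟩ = a := h
      have hm := hj ⟨a, ha⟩
      rw [h'] at hm ⊢
      rw [coef_simple hΔ' hm, Pi.single_eq_same]; exact one_pos
    · rw [coef_add hΔ' (i := j ⟨a, ha⟩) (j := j ⟨a, ha⟩) (k := a) h, coef_simple hΔ' (hj ⟨a, ha⟩)]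
      simp
  have hjb : j ⟨a, ha⟩ = b := by
    by_contra hne
    have h2 := congrFun hco (j ⟨a, ha⟩)
    simp only [if_neg hne] at h2
    have hterm : ∀ t, 0 ≤ coef hΔ b t * gram P t t * coef hΔ' t (j ⟨a, ha⟩) := by
      intro t
      by_cases ht : t ∈ Δ
      · refine mul_nonneg (mul_nonneg (hbnn t) (gram_self_pos P t).le) ((mem_posOf_iff hΔ').1 ?_ _)
        rw [posOf_simples hS']; exact simple_mem_posOf hΔ ht
      · simp [coef_supp hΔ b t ht]
    have h3 := (Finset.sum_eq_zero_iff_of_nonneg fun t _ => hterm t).1 h2.symm a (Finset.mem_univ a)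
    have : 0 < coef hΔ b a * gram P a a * coef hΔ' a (j ⟨a, ha⟩) :=
      mul_pos (mul_pos hapos (gram_self_pos P a)) hja
    omega
  refine ⟨a, ha, ?_⟩
  rw [← hjb]
  exact hjk ⟨a, ha⟩

lemma simples_flip_eq {Δ : Set ι} (hΔ : RootD.IsSimpleSys P Δ) :
    simples P.flip (RootD.posOf P Δ) =
      {j : ι | ∃ i ∈ Δ, (j = i ∧ RootD.IsIndiv P.flip i) ∨ P.coroot i = P.coroot j + P.coroot j} := by
  refine Set.Subset.antisymm (fun b hb => exists_simple_of_simple_coroot hΔ hb) ?_
  rintro j ⟨a, ha, hj⟩
  obtain ⟨j', hj', hk⟩ := exists_simple_coroot hΔ ha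
  suffices j = j' by rwa [this]
  rcases hj with ⟨rfl, hI⟩ | hj <;> rcases hk with ⟨rfl, hI'⟩ | hk
  · rfl
  · exact absurd (show (2 : R) • P.coroot j' = P.coroot j by rw [two_smul, hk]) (hI j')
  · exact absurd (show (2 : R) • P.coroot j = P.coroot j' by rw [two_smul, hj]) (hI' j)
  · have htf : IsAddTorsionFree N := torsionFree P.flip
    refine P.coroot.injective (zsmul_right_injective (G := N) (n := (2 : ℤ)) two_ne_zero ?_)
    simp only [two_zsmul]
    rw [← hj, ← hk]

/-- The sum of a function over the positive roots, transformed by a simple reflection. -/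
lemma pos_sum_refl [P.IsReduced] {Δ : Set ι} (hΔ : RootD.IsSimpleSys P Δ) [DecidablePred (· ∈ RootD.posOf P Δ)]
    {A : Type*} [AddCommGroup A] (F : ι → A) {a : ι} (ha : a ∈ Δ) :
    ∑ j, (if j ∈ RootD.posOf P Δ then F (Equiv.reflection P a • j) else 0) =
      (∑ j, if j ∈ RootD.posOf P Δ then F j else 0) - F a + F (nr P a) := by
  classical
  have hperm : ∀ j : ι, Equiv.reflection P a • (Equiv.reflection P a • j) = j := fun j => by
    rw [← mul_smul, refl_sq, one_smul]
  have key : ∀ j : ι, j ∈ RootD.posOf P Δ → j ≠ a → Equiv.reflection P a • j ∈ RootD.posOf P Δ ∧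
      Equiv.reflection P a • j ≠ a := by
    intro j hj hja
    have hb : ∃ b, b ≠ a ∧ 0 < coef hΔ j b := by
      by_contra hh
      push Not at hh
      exact hja (only_at_indiv hΔ ha hj (indiv_of_reduced j) hh)
    obtain ⟨b, hb, hb'⟩ := hb
    have h1 := refl_mem_posOf hΔ ha hb hb'
    refine ⟨h1, fun h => ?_⟩
    have : j = nr P a := by rw [← hperm j, h, refl_smul_self]
    exact (nr_mem_posOf_iff hΔ).1 (this ▸ hj) (simple_mem_posOf hΔ ha)
  rw [← Finset.sum_filter, ← Finset.sum_filter]
  have hamem : a ∈ Finset.univ.filter (fun j => j ∈ RootD.posOf P Δ) := by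
    simp [simple_mem_posOf hΔ ha]
  rw [← Finset.sum_erase_add _ _ hamem, ← Finset.sum_erase_add _ _ hamem, refl_smul_self,
    add_sub_cancel_right]
  congr 1
  refine Finset.sum_bij' (fun j _ => Equiv.reflection P a • j) (fun j _ => Equiv.reflection P a • j)
    ?_ ?_ (fun j _ => hperm j) (fun j _ => hperm j) (fun j _ => rfl) <;>
  · intro j hj
    simp only [Finset.mem_erase, Finset.mem_filter, Finset.mem_univ, true_and] at hj ⊢
    exact ⟨(key j hj.2 hj.1).2, (key j hj.2 hj.1).1⟩

lemma sum_pairing_pos_simple [P.IsReduced] {Δ : Set ι} (hΔ : RootD.IsSimpleSys P Δ) [DecidablePred (· ∈ RootD.posOf P Δ)]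
    {a : ι} (ha : a ∈ Δ) :
    ∑ j, (if j ∈ RootD.posOf P Δ then pZ P a j else 0) = 2 := by
  have h := pos_sum_refl hΔ (fun j => pZ P a j) ha
  have hflip : ∀ j : ι, pZ P a (Equiv.reflection P a • j) = -pZ P a j := fun j => by
    conv_lhs => rw [show pZ P a (Equiv.reflection P a • j)
      = pZ P (Equiv.reflection P a • (Equiv.reflection P a • a)) (Equiv.reflection P a • j) by
        rw [← mul_smul, refl_sq, one_smul]]
    rw [pZ_smul, refl_smul_self]
    simp [pZ, nr]
  simp only [hflip] at h
  have h1 : pZ P a a = 2 := P.pairingIn_same ℤ a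
  have h2 : pZ P a (nr P a) = -2 := by simp [pZ, nr]
  rw [h1, h2] at h
  have h3 : ∑ j, (if j ∈ RootD.posOf P Δ then -pZ P a j else 0)
      = -∑ j, (if j ∈ RootD.posOf P Δ then pZ P a j else 0) := by
    rw [← Finset.sum_neg_distrib]
    exact Finset.sum_congr rfl fun j _ => by split_ifs <;> simp
  rw [h3] at h
  omega

lemma sum_pairing_pos [P.IsReduced] {Δ : Set ι} (hΔ : RootD.IsSimpleSys P Δ) [DecidablePred (· ∈ RootD.posOf P Δ)] (k : ι) :
    ∑ j, (if j ∈ RootD.posOf P Δ then pZ P k j else 0) = 2 * ht hΔ k := by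
  classical
  have hz : ∀ j, pZ P k j = ∑ i, coef hΔ k i * pZ P i j := fun j => pZ_lin (root_eq_coef hΔ k) j
  rw [ht, Finset.mul_sum]
  calc ∑ j, (if j ∈ RootD.posOf P Δ then pZ P k j else 0)
      = ∑ j, ∑ i, coef hΔ k i * (if j ∈ RootD.posOf P Δ then pZ P i j else 0) := by
        refine Finset.sum_congr rfl fun j _ => ?_
        split_ifs with h
        · rw [hz]
        · simp
    _ = ∑ i, 2 * coef hΔ k i := by
        rw [Finset.sum_comm]
        refine Finset.sum_congr rfl fun i _ => ?_
        by_cases hi : i ∈ Δ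
        · rw [← Finset.mul_sum, mul_comm]
          congr 1
          exact sum_pairing_pos_simple hΔ hi
        · simp [coef_supp hΔ k i hi]

lemma posOf_flip_base (b : P.Base) :
    RootD.posOf P.flip (b.support : Set ι) = RootD.posOf P (b.support : Set ι) := by
  have hΔ := base_isSimpleSys b
  exact (eq_simples_of_subset (isPosSys_flip (isPosSys_posOf hΔ)) (base_isSimpleSys (P := P.flip) b.flip)
    (fun a ha => simple_mem_posOf hΔ ha)).1

lemma rootForm_eq_gram [Fintype ι] {P : RootPairing ι ℤ M N} (i j : ι) :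
    P.RootForm (P.root i) (P.root j) = gram P i j := by
  rw [← cast_gram P i j, Int.cast_id]

/-- Sign of a coroot functional as the sign of an additive function on roots. -/
lemma coroot'_scaled [Fintype ι] {P : RootPairing ι ℤ M N} (i : ι) (x : M) :
    gram P i i * P.coroot' i x = 2 * P.RootForm (P.root i) x := by
  have := congrArg (fun y => P.toLinearMap x y) (P.rootForm_self_smul_coroot i)
  simp only [map_smul, map_nsmul, smul_eq_mul, nsmul_eq_mul, Nat.cast_ofNat,
    P.toLinearMap_apply_apply_Polarization] at this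
  rw [← rootForm_eq_gram]
  exact this

lemma exists_dominant_conj {P : RootPairing ι ℤ M N} {S : Set ι} (hS : RootD.IsPosSys P S) (x : M) :
    ∃ g ∈ P.weylGroup, ∀ i ∈ S, 0 ≤ P.coroot' i (g • x) := by
  have key : ∀ i, 0 ≤ P.coroot' i x ↔ 0 ≤ P.RootForm (P.root i) x := fun i => by
    have h := coroot'_scaled (P := P) i x
    have hg := gram_self_pos P i
    constructor <;> intro h'
    · have : 0 ≤ gram P i i * P.coroot' i x := mul_nonneg hg.le h'
      omega
    · by_contra hneg
      have : gram P i i * P.coroot' i x < 0 := mul_neg_of_pos_of_neg hg (not_le.1 hneg)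
      omega
  have h2 : ∀ i, i ∈ {k | 0 ≤ P.coroot' k x} ∨ nr P i ∈ {k | 0 ≤ P.coroot' k x} := fun i => by
    simp only [Set.mem_setOf_eq, key, root_nr, map_neg, LinearMap.neg_apply]
    omega
  have h3 : RootD.IsClosedSub P {k | 0 ≤ P.coroot' k x} := fun i j k hi hj h => by
    simp only [Set.mem_setOf_eq, key] at hi hj ⊢
    rw [h, map_add, LinearMap.add_apply]; omega
  obtain ⟨g, hg, hsub⟩ := exists_img_subset_closed hS h2 h3
  refine ⟨g⁻¹, Subgroup.inv_mem _ (closure_le_weylGroup _ hg), fun i hi => ?_⟩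
  have h4 : 0 ≤ P.coroot' (g • i) x := hsub ⟨i, hi, rfl⟩
  rwa [← smul_inv_smul g x, coroot'_smul] at h4

lemma exists_regular_dominant {P : RootPairing ι ℤ M N} {S : Set ι} (hS : RootD.IsPosSys P S) :
    ∃ m : M, ∀ i ∈ S, 0 < P.coroot' i m := by
  classical
  have hΔ := isSimpleSys_simples hS
  have hpos := posOf_simples hS
  set m : M := ∑ k, if k ∈ S then P.root k else 0 with hm
  have hsimple : ∀ a ∈ simples P S, 0 < P.coroot' a m := by
    intro a ha
    set Z : Finset ι := Finset.univ.filter (fun k => k ∈ S ∧ ∀ b, b ≠ a → coef hΔ k b ≤ 0) with hZ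
    set O : Finset ι := Finset.univ.filter (fun k => k ∈ S ∧ ¬ ∀ b, b ≠ a → coef hΔ k b ≤ 0) with hO
    have hsplit : m = ∑ k ∈ Z, P.root k + ∑ k ∈ O, P.root k := by
      rw [hm, ← Finset.sum_filter, ← Finset.sum_filter_add_sum_filter_not _ (fun k => ∀ b, b ≠ a → coef hΔ k b ≤ 0),
        Finset.filter_filter, Finset.filter_filter]
    have hOperm : ∀ k ∈ O, Equiv.reflection P a • k ∈ O := by
      intro k hk
      simp only [hO, Finset.mem_filter, Finset.mem_univ, true_and, not_forall, not_le] at hk ⊢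
      obtain ⟨hkS, b, hb, hb'⟩ := hk
      refine ⟨hpos ▸ refl_mem_posOf hΔ ha hb hb', b, hb, ?_⟩
      rwa [coef_refl_of_ne hΔ ha hb]
    have hO0 : P.coroot' a (∑ k ∈ O, P.root k) = 0 := by
      rw [map_sum]
      have h1 : ∑ k ∈ O, P.coroot' a (P.root k) = ∑ k ∈ O, -P.coroot' a (P.root k) := by
        refine Finset.sum_bij' (fun k _ => Equiv.reflection P a • k) (fun k _ => Equiv.reflection P a • k)
          hOperm hOperm (fun k _ => by rw [← mul_smul, refl_sq, one_smul])
          (fun k _ => by rw [← mul_smul, refl_sq, one_smul]) fun k _ => ?_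
        rw [root_refl, map_sub, map_zsmul, P.root_coroot'_eq_pairing, P.root_coroot'_eq_pairing,
          P.pairing_same, ← cast_pZ, Int.cast_id, smul_eq_mul]
        ring
      rw [Finset.sum_neg_distrib] at h1
      omega
    rw [hsplit, map_add, hO0, add_zero, map_sum]
    refine Finset.sum_pos (fun k hk => ?_) ⟨a, by
      simp only [hZ, Finset.mem_filter, Finset.mem_univ, true_and]
      exact ⟨ha.1, fun b hb => by simp [coef_simple hΔ ha, hb]⟩⟩
    simp only [hZ, Finset.mem_filter, Finset.mem_univ, true_and] at hk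
    rw [P.root_coroot'_eq_pairing]
    have haa : P.pairing a a = 2 := P.pairing_same a
    rcases only_at hΔ ha (hpos.symm ▸ hk.1) hk.2 with h | h
    · rw [h, haa]; norm_num
    · rw [← P.root_coroot'_eq_pairing, h, map_add, P.root_coroot'_eq_pairing, haa]; norm_num
  refine ⟨m, fun i hi => ?_⟩
  have hiΔ : i ∈ RootD.posOf P (simples P S) := hpos.symm ▸ hi
  have h1 := congrArg (fun y => P.toLinearMap m y) (coroot_of_root_comb (root_eq_coef hΔ i))
  simp only [map_sum, map_zsmul, smul_eq_mul] at h1
  obtain ⟨a, ha, hapos⟩ := exists_coef_pos hΔ hiΔ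
  have h2 : 0 < ∑ t, coef hΔ i t * gram P t t * P.coroot' t m := by
    refine Finset.sum_pos' (fun t _ => ?_) ⟨a, Finset.mem_univ _, ?_⟩
    · by_cases ht : t ∈ simples P S
      · exact mul_nonneg (mul_nonneg ((mem_posOf_iff hΔ).1 hiΔ t) (gram_self_pos P t).le) (hsimple t ht).le
      · simp [coef_supp hΔ i t ht]
    · exact mul_pos (mul_pos hapos (gram_self_pos P a)) (hsimple a ha)
  have h3 : 0 < gram P i i * P.coroot' i m := by
    calc (0 : ℤ) < _ := h2
      _ = _ := h1.symm
  exact pos_of_mul_pos_right h3 (gram_self_pos P i).le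

lemma wd_dropLast {l : List ι} (hne : l ≠ []) :
    wd P l = wd P l.dropLast * Equiv.reflection P (l.getLast hne) := by
  conv_lhs => rw [← List.dropLast_append_getLast hne]
  rw [wd_append, wd_singleton]

lemma word_dropLast_pos {Δ : Set ι} (hΔ : RootD.IsSimpleSys P Δ) {g : P.Aut} {l : List ι}
    (h1 : ∀ a ∈ l, a ∈ Δ) (h2 : wd P l = g)
    (h3 : ∀ l' : List ι, (∀ a ∈ l', a ∈ Δ) → wd P l' = g → l.length ≤ l'.length) (hne : l ≠ []) :
    wd P l.dropLast • l.getLast hne ∈ RootD.posOf P Δ := by
  have h := neg_last_of_minimal hΔ h1 hne (fun l' a b => h3 l' a (b.trans h2))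
  rw [wd_dropLast hne, mul_smul, refl_smul_self, smul_nr, nr_nr] at h
  exact h

lemma exists_word_induction {Δ : Set ι} (hΔ : RootD.IsSimpleSys P Δ) {g : P.Aut} (hg : g ∈ P.weylGroup)
    {Q : P.Aut → Prop} (h1 : Q 1)
    (hstep : ∀ (g' : P.Aut) (a : ι), g' ∈ P.weylGroup → a ∈ Δ → g' • a ∈ RootD.posOf P Δ →
      Q g' → Q (g' * Equiv.reflection P a)) : Q g := by
  obtain ⟨l, l1, l2, l3⟩ := exists_minimal_word hΔ hg
  generalize hn : l.length = n
  induction n using Nat.strong_induction_on generalizing g l with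
  | _ n ih =>
  by_cases hne : l = []
  · subst hne; rw [← l2, wd_nil]; exact h1
  have hpos := word_dropLast_pos hΔ l1 l2 l3 hne
  have hg' : wd P l.dropLast ∈ P.weylGroup :=
    closure_le_weylGroup _ (wd_mem fun x hx => l1 x (List.dropLast_subset l hx))
  rw [← l2, wd_dropLast hne]
  obtain ⟨l', m1, m2, m3⟩ := exists_minimal_word hΔ hg'
  have hlen := m3 _ (fun x hx => l1 x (List.dropLast_subset l hx)) rfl
  rw [List.length_dropLast] at hlen
  have := List.length_pos_of_ne_nil hne
  exact hstep _ _ hg' (l1 _ (List.getLast_mem hne)) hpos (ih _ (by omega) hg' l' m1 m2 m3 rfl)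

lemma mem_simples_iff_refl [P.IsReduced] {S : Set ι} (hS : RootD.IsPosSys P S) (a : ι) :
    a ∈ simples P S ↔ a ∈ S ∧ ∀ k ∈ S, k ≠ a → Equiv.reflection P a • k ∈ S := by
  classical
  have hΔ := isSimpleSys_simples hS
  have hpos := posOf_simples hS
  constructor
  · refine fun ha => ⟨ha.1, fun k hk hka => ?_⟩
    have hb : ∃ b, b ≠ a ∧ 0 < coef hΔ k b := by
      by_contra hh
      push Not at hh
      exact hka (only_at_indiv hΔ ha (hpos.symm ▸ hk) (indiv_of_reduced k) hh)
    obtain ⟨b, hb, hb'⟩ := hb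
    exact hpos ▸ refl_mem_posOf hΔ ha hb hb'
  · rintro ⟨haS, h⟩
    refine ⟨haS, ?_⟩
    rintro ⟨x, y, hx, hy, hxy⟩
    wlog hp : 1 ≤ pZ P x a generalizing x y
    · refine this y x hy hx (by rw [hxy, add_comm]) ?_
      have h2 : pZ P a a = pZ P x a + pZ P y a := by
        apply Int.cast_injective (α := R)
        push_cast
        simp only [cast_pZ]
        simpa using congrArg (P.coroot' a) hxy
      rw [show pZ P a a = 2 from P.pairingIn_same ℤ a] at h2
      omega
    have hxa : x ≠ a := fun e => root_ne_zero P y (by rw [e] at hxy; simpa using hxy.symm)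
    have hsx := h x hx hxa
    refine hS.disjoint hsx (closed_mem_natSpan P (posSys_closed P hS) ?_)
    show P.root (nr P _) ∈ _
    rw [root_nr, root_refl, neg_sub]
    have : pZ P x a • P.root a - P.root x = ((pZ P x a - 1).toNat) • P.root a + P.root y := by
      rw [← natCast_zsmul, Int.toNat_of_nonneg (by omega), sub_smul, one_smul, hxy]
      abel
    rw [this]
    exact AddSubmonoid.add_mem _ (AddSubmonoid.nsmul_mem _ (root_mem_natSpan P haS) _) (root_mem_natSpan P hy)

/-- Rank-nullity for the roots. -/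
lemma finrank_orth_add {M N : Type*} [AddCommGroup M] [AddCommGroup N] (Q : RootPairing ι ℤ M N)
    [Module.Finite ℤ M] :
    Module.finrank ℤ (⨅ i : ι, LinearMap.ker (Q.coroot' i) : Submodule ℤ M) +
      Module.finrank ℤ (Submodule.span ℤ (Set.range Q.root)) = Module.finrank ℤ M := by
  classical
  have hN : IsAddTorsionFree N := torsionFree Q.flip
  let T : M →ₗ[ℤ] (ι → ℤ) := LinearMap.pi fun k => Q.coroot' k
  have hker : LinearMap.ker T = ⨅ i : ι, LinearMap.ker (Q.coroot' i) := LinearMap.ker_pi _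
  have hadd := (LinearMap.ker T).finrank_quotient_add_finrank
  rw [LinearEquiv.finrank_eq T.quotKerEquivRange] at hadd
  have h1 : Module.finrank ℤ (Submodule.span ℤ (Set.range Q.root)) ≤ Module.finrank ℤ (LinearMap.range T) := by
    have hinj : Function.Injective (T.rangeRestrict.comp (Submodule.span ℤ (Set.range Q.root)).subtype) := by
      intro x y hxy
      refine Subtype.ext (sub_eq_zero.1 (eq_zero_of_mem_span_of_coroot' (Submodule.sub_mem _ x.2 y.2) fun k => ?_))
      have := congrFun (congrArg Subtype.val hxy) k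
      rw [map_sub, sub_eq_zero]
      exact this
    exact LinearMap.finrank_le_finrank_of_injective hinj
  have h2 : Module.finrank ℤ (LinearMap.range T) ≤ Module.finrank ℤ (Submodule.span ℤ (Set.range Q.coroot)) := by
    let C := Submodule.span ℤ (Set.range Q.coroot)
    haveI : Module.Finite ℤ C := Module.Finite.span_of_finite ℤ (Set.finite_range _)
    haveI : Module.Free ℤ C := Module.free_of_finite_type_torsion_free'
    let A : Module.Dual ℤ C →ₗ[ℤ] (ι → ℤ) :=
      LinearMap.pi fun k => Module.Dual.eval ℤ C ⟨Q.coroot k, Submodule.subset_span ⟨k, rfl⟩⟩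
    let B : M →ₗ[ℤ] Module.Dual ℤ C := C.subtype.dualMap.comp Q.toLinearMap
    have hT : T = A.comp B := by ext x k; rfl
    calc Module.finrank ℤ (LinearMap.range T) ≤ Module.finrank ℤ (LinearMap.range A) :=
          Submodule.finrank_mono (by rw [hT]; exact LinearMap.range_comp_le_range _ _)
      _ ≤ Module.finrank ℤ (Module.Dual ℤ C) := LinearMap.finrank_range_le A
      _ = Module.finrank ℤ C := by rw [Module.finrank_linearMap, Module.finrank_self, mul_one]
  have h3 : Module.finrank ℤ (Submodule.span ℤ (Set.range Q.coroot)) =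
      Module.finrank ℤ (Submodule.span ℤ (Set.range Q.root)) := Q.finrank_corootSpan_eq'
  rw [← hker]
  omega

end RootLib
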