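/-
Chambers, fundamental weights, facets and parabolic sets of finite reduced root systems.
-/
import Groth.Agent.Lib.RootBase
import Groth.Prelude.Def_RootCh2

set_option autoImplicit false
set_option maxHeartbeats 400000
set_option linter.unusedSectionVars false
set_option linter.style.haveILetI false
set_option linter.unusedSimpArgs false

noncomputable section

open Set Function RootPairing Module

namespace RootLib

variable {ι R M N : Type*} [Field R] [LinearOrder R] [IsStrictOrderedRing R]
  [AddCommGroup M] [Module R M] [AddCommGroup N] [Module R N]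
variable {P : RootPairing ι R M N} [Finite ι] [P.IsRootSystem] [P.IsCrystallographic] [P.IsReduced]

attribute [local instance] Fintype.ofFinite

lemma flip_indiv (i : ι) : RootD.IsIndiv P.flip i := by
  have : Module.IsReflexive R N := .of_isPerfPair P.flip.toLinearMap
  exact indiv_of_reduced i

lemma simples_flip_of_reduced {S : Set ι} (h : RootD.IsPosSys P S) :
    simples P.flip S = simples P S := by
  have hΔ := isSimpleSys_simples h
  conv_lhs => rw [← posOf_simples h]
  rw [simples_flip_eq hΔ]
  ext j
  constructor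
  · rintro ⟨a, ha, ⟨rfl, -⟩ | h2⟩
    · exact ha
    · exact absurd (by rw [two_smul]; exact h2.symm) (flip_indiv (P := P) a j)
  · exact fun hj => ⟨j, hj, Or.inl ⟨rfl, flip_indiv j⟩⟩

/-- The base attached to a positive system. -/
def baseOfPos {S : Set ι} (h : RootD.IsPosSys P S) : P.Base where
  support := (Set.toFinite (simples P S)).toFinset
  linearIndepOn_root := by simpa using (isSimpleSys_simples h).linInd
  linearIndepOn_coroot := by
    have h2 := (isSimpleSys_simples (isPosSys_flip h)).linInd
    rw [simples_flip_of_reduced h] at h2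
    rw [Set.Finite.coe_toFinset]
    exact h2
  root_mem_or_neg_mem i := by
    rw [Set.Finite.coe_toFinset]
    exact (isSimpleSys_simples h).mem_or_neg_mem i
  coroot_mem_or_neg_mem i := by
    have h2 := (isSimpleSys_simples (isPosSys_flip h)).mem_or_neg_mem i
    rw [simples_flip_of_reduced h] at h2
    rw [Set.Finite.coe_toFinset]
    exact h2

lemma coe_baseOfPos {S : Set ι} (h : RootD.IsPosSys P S) :
    ((baseOfPos h).support : Set ι) = simples P S := by
  simp [baseOfPos]

lemma posOf_baseOfPos {S : Set ι} (h : RootD.IsPosSys P S) :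
    RootD.posOf P ((baseOfPos h).support : Set ι) = S := by
  rw [coe_baseOfPos, posOf_simples h]

lemma base_ext {b b' : P.Base} (h : (b.support : Set ι) = b'.support) : b = b' := by
  obtain ⟨s, _, _, _, _⟩ := b
  obtain ⟨s', _, _, _, _⟩ := b'
  obtain rfl : s = s' := Finset.coe_injective h
  rfl

lemma finite_base : Finite P.Base :=
  Finite.of_injective (fun b : P.Base => b.support) fun b b' h =>
    base_ext (by
      have h' : b.support = b'.support := h
      rw [h'])

/-- The image of a base under an automorphism. -/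
def baseImg (g : P.Aut) (b : P.Base) : P.Base :=
  baseOfPos (img_isPosSys g (isPosSys_posOf (base_isSimpleSys b)))

lemma coe_baseImg (g : P.Aut) (b : P.Base) :
    ((baseImg g b).support : Set ι) = img g (b.support : Set ι) := by
  rw [baseImg, coe_baseOfPos, img_simples, simples_posOf (base_isSimpleSys b)]

lemma mem_baseImg (g : P.Aut) (b : P.Base) (i : b.support) : g • (i : ι) ∈ (baseImg g b).support := by
  have : g • (i : ι) ∈ ((baseImg g b).support : Set ι) := by
    rw [coe_baseImg]; exact ⟨i, i.2, rfl⟩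
  exact this

lemma exists_baseImg_eq (b b' : P.Base) : ∃ g ∈ P.weylGroup, baseImg g b = b' := by
  obtain ⟨g, hg, h⟩ := exists_img_eq_simpleSys (base_isSimpleSys b) (base_isSimpleSys b')
  exact ⟨g, hg, base_ext (by rw [coe_baseImg, h])⟩

/-- Coefficients of a coroot functional along the simple coroots. -/
lemma coroot'_comb (b : P.Base) (k : ι) (ξ : M) :
    (gram P k k : R) * P.coroot' k ξ =
      ∑ t, (coef (base_isSimpleSys b) k t : R) * (gram P t t : R) * P.coroot' t ξ := by
  have h := congrArg (fun y => P.toLinearMap ξ y) (coroot_of_root_comb (root_eq_coef (base_isSimpleSys b) k))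
  simp only [map_sum, map_zsmul, zsmul_eq_mul, Int.cast_mul] at h
  simpa using h

lemma gramR_pos (i : ι) : (0 : R) < gram P i i := by exact_mod_cast gram_self_pos P i

lemma scaled_add {i j k : ι} (h : P.root k = P.root i + P.root j) (ξ : M) :
    (gram P k k : R) * P.coroot' k ξ =
      (gram P i i : R) * P.coroot' i ξ + (gram P j j : R) * P.coroot' j ξ := by
  classical
  have h1 : P.root k = ∑ t, (Pi.single i 1 + Pi.single j 1 : ι → ℤ) t • P.root t := by
    simp only [Pi.add_apply, add_smul, Finset.sum_add_distrib]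
    rw [Finset.sum_eq_single i, Finset.sum_eq_single j] <;> simp +contextual [h]
  have h2 := congrArg (fun y => P.toLinearMap ξ y) (coroot_of_root_comb h1)
  simp only [Pi.add_apply, add_mul, add_smul, Finset.sum_add_distrib] at h2
  rw [Finset.sum_eq_single i (by simp +contextual) (by simp),
    Finset.sum_eq_single j (by simp +contextual) (by simp)] at h2
  simp only [Pi.single_eq_same, one_mul, map_add, map_zsmul, zsmul_eq_mul] at h2
  exact h2

lemma eq_of_coroot' (b : P.Base) {x y : M} (h : ∀ j ∈ b.support, P.coroot' j x = P.coroot' j y) :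
    x = y := by
  apply P.toPerfPair.injective
  refine b.toCoweightBasis.ext fun j => ?_
  rw [Base.toCoweightBasis_apply, LinearMap.toPerfPair_apply, LinearMap.toPerfPair_apply]
  exact h j j.2

lemma eq_of_root' (b : P.Base) {x y : N} (h : ∀ j ∈ b.support, P.root' j x = P.root' j y) : x = y :=
  eq_of_coroot' (P := P.flip) b.flip h

lemma coroot'_fundWeight [DecidableEq ι] (b : P.Base) (i : b.support) {j : ι} (hj : j ∈ b.support) :
    P.coroot' j (RootCh.fundWeight b i) = if j = i then 1 else 0 := by
  split_ifs with h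
  · rw [h]; exact RootCh.coroot'_fundWeight_self b i
  · exact RootCh.coroot'_fundWeight_of_ne b i ⟨j, hj⟩ fun e => h (congrArg Subtype.val e)

lemma expansion (b : P.Base) (ξ : M) :
    ξ = ∑ i : b.support, P.coroot' i ξ • RootCh.fundWeight b i := by
  classical
  refine eq_of_coroot' b fun j hj => ?_
  rw [map_sum, Finset.sum_eq_single (⟨j, hj⟩ : b.support)]
  · rw [map_smul, RootCh.coroot'_fundWeight_self b ⟨j, hj⟩, smul_eq_mul, mul_one]
  · intro i _ hi
    rw [map_smul, RootCh.coroot'_fundWeight_of_ne b i ⟨j, hj⟩ (Ne.symm hi), smul_zero]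
  · simp

lemma fundWeight_injective (b : P.Base) : Injective (RootCh.fundWeight b) := by
  intro i j h
  by_contra hne
  have h1 := RootCh.coroot'_fundWeight_self b i
  rw [h, RootCh.coroot'_fundWeight_of_ne b j i hne] at h1
  exact zero_ne_one h1

lemma fundWeight_mem_closedChamber (b : P.Base) (i : b.support) :
    RootCh.fundWeight b i ∈ RootCh.closedChamber b := by
  classical
  intro j hj
  rw [coroot'_fundWeight b i hj]
  split_ifs <;> norm_num

lemma fundWeight_linearIndependent (b : P.Base) :
    LinearIndependent R (RootCh.fundWeight b) := by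
  classical
  rw [Fintype.linearIndependent_iff]
  intro g hg j
  have := congrArg (P.coroot' (j : ι)) hg
  rw [map_sum, map_zero, Finset.sum_eq_single j] at this
  · rw [map_smul, RootCh.coroot'_fundWeight_self, smul_eq_mul, mul_one] at this
    exact this
  · intro i _ hi
    rw [map_smul, RootCh.coroot'_fundWeight_of_ne b i j (Ne.symm hi), smul_zero]
  · simp

lemma coroot'_nonneg {b : P.Base} {ξ : M} (h : ξ ∈ RootCh.closedChamber b) {k : ι}
    (hk : k ∈ RootD.posOf P (b.support : Set ι)) : 0 ≤ P.coroot' k ξ := by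
  have hΔ := base_isSimpleSys b
  have h1 := coroot'_comb b k ξ
  have h2 : 0 ≤ ∑ t, (coef hΔ k t : R) * (gram P t t : R) * P.coroot' t ξ := by
    refine Finset.sum_nonneg fun t _ => ?_
    by_cases ht : t ∈ b.support
    · exact mul_nonneg (mul_nonneg (by exact_mod_cast (mem_posOf_iff hΔ).1 hk t) (gramR_pos t).le) (h t ht)
    · simp [coef_supp hΔ k t (by simpa using ht)]
  rw [← h1] at h2
  exact nonneg_of_mul_nonneg_right h2 (gramR_pos k)

/-- A dominant vector has only one dominant conjugate. -/
lemma dominant_fix (b : P.Base) {g : P.Aut} (hg : g ∈ P.weylGroup) {ξ : M}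
    (h1 : ξ ∈ RootCh.closedChamber b) (h2 : g • ξ ∈ RootCh.closedChamber b) : g • ξ = ξ := by
  have hΔ := base_isSimpleSys b
  revert h2
  refine exists_word_induction hΔ hg (Q := fun g => g • ξ ∈ RootCh.closedChamber b → g • ξ = ξ)
    (fun _ => one_smul _ _) ?_
  intro g' a _ ha hpos ih h2
  have h3 := coroot'_nonneg h2 hpos
  rw [mul_smul, coroot'_smul, RootPairing.Equiv.reflection_smul, P.reflection_apply] at h3
  simp only [map_sub, map_smul, P.root_coroot'_eq_pairing, P.pairing_same, smul_eq_mul] at h3
  have h4 := h1 a (by simpa using ha)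
  have h5 : P.coroot' a ξ = 0 := by linarith
  have hfix : Equiv.reflection P a • ξ = ξ := by
    rw [RootPairing.Equiv.reflection_smul, P.reflection_apply, h5, zero_smul, sub_zero]
  rw [mul_smul, hfix] at h2 ⊢
  exact ih h2

lemma smul_fundWeight (g : P.Aut) (b : P.Base) (i : b.support) :
    g • RootCh.fundWeight b i = RootCh.fundWeight (baseImg g b) ⟨g • (i : ι), mem_baseImg g b i⟩ := by
  classical
  refine eq_of_coroot' (baseImg g b) fun j hj => ?_
  have hj' : j ∈ img g (b.support : Set ι) := by rw [← coe_baseImg]; exact hj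
  obtain ⟨t, ht, rfl⟩ := hj'
  rw [coroot'_smul, coroot'_fundWeight b i (by simpa using ht), coroot'_fundWeight _ _ hj]
  simp [(MulAction.injective g).eq_iff]

lemma baseCorners_eq (b : P.Base) : RootCh.baseCorners b = Set.range (RootCh.fundWeight b) := by
  refine Set.Subset.antisymm ?_ ?_
  · rintro w ⟨⟨b', i, rfl⟩, hw⟩
    obtain ⟨g, hg, rfl⟩ := exists_baseImg_eq b b'
    have hi : (i : ι) ∈ img g (b.support : Set ι) := by rw [← coe_baseImg]; exact i.2
    obtain ⟨t, ht, hti⟩ := hi
    have he : RootCh.fundWeight (baseImg g b) i = g • RootCh.fundWeight b ⟨t, by simpa using ht⟩ := by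
      rw [smul_fundWeight]
      congr 1
      exact Subtype.ext hti.symm
    rw [he] at hw ⊢
    exact ⟨_, (dominant_fix b hg (fundWeight_mem_closedChamber b _) hw).symm⟩
  · rintro w ⟨i, rfl⟩
    exact ⟨⟨b, i, rfl⟩, fundWeight_mem_closedChamber b i⟩

lemma fundWeights_inter_closedChamber (b : P.Base) {w : M} (hw : w ∈ RootCh.fundWeights P)
    (h : w ∈ RootCh.closedChamber b) : ∃ i : b.support, RootCh.fundWeight b i = w :=
  (baseCorners_eq b).subset ⟨hw, h⟩

lemma fundWeight_pair_gram {b b' : P.Base} {i : b.support} {i' : b'.support}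
    (h : RootCh.fundWeight b i = RootCh.fundWeight b' i') : gram P (i : ι) i = gram P (i' : ι) i' := by
  obtain ⟨g, hg, rfl⟩ := exists_baseImg_eq b b'
  have hfix : g • RootCh.fundWeight b i = RootCh.fundWeight b i := by
    refine dominant_fix (baseImg g b) hg ?_ ?_
    · rw [h]; exact fundWeight_mem_closedChamber _ _
    · rw [smul_fundWeight]; exact fundWeight_mem_closedChamber _ _
  rw [smul_fundWeight, h] at hfix
  have hi := congrArg Subtype.val (fundWeight_injective _ hfix)
  simp only at hi
  rw [← hi, gram_smul]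

lemma root'_fundCoweight (b : P.Base) (i : b.support) (k : ι) :
    (gram P (i : ι) i : R) * P.root' k (RootCh.fundCoweight b i) =
      (gram P k k : R) * P.coroot' k (RootCh.fundWeight b i) := by
  classical
  have hΔ := base_isSimpleSys b
  rw [coroot'_comb b k]
  have h1 : P.root' k (RootCh.fundCoweight b i) =
      ∑ t, (coef hΔ k t : R) * P.root' t (RootCh.fundCoweight b i) := by
    have := congrArg (fun x => P.toLinearMap x (RootCh.fundCoweight b i)) (root_eq_coef hΔ k)
    simpa [map_sum, zsmul_eq_mul] using this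
  rw [h1, Finset.mul_sum]
  refine Finset.sum_congr rfl fun t _ => ?_
  by_cases ht : t ∈ b.support
  · by_cases hti : t = i
    · rw [hti, RootCh.root'_fundCoweight_self, RootCh.coroot'_fundWeight_self]; ring
    · rw [RootCh.root'_fundCoweight_of_ne b i ⟨t, ht⟩ fun e => hti (congrArg Subtype.val e),
        RootCh.coroot'_fundWeight_of_ne b i ⟨t, ht⟩ fun e => hti (congrArg Subtype.val e)]
      simp
  · simp [coef_supp hΔ k t (by simpa using ht)]

lemma root'_fundCoweight_eq_coef (b : P.Base) (i : b.support) (k : ι) :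
    P.root' k (RootCh.fundCoweight b i) = (coef (base_isSimpleSys b) k i : R) := by
  classical
  have hΔ := base_isSimpleSys b
  have h1 : P.root' k (RootCh.fundCoweight b i) =
      ∑ t, (coef hΔ k t : R) * P.root' t (RootCh.fundCoweight b i) := by
    have := congrArg (fun x => P.toLinearMap x (RootCh.fundCoweight b i)) (root_eq_coef hΔ k)
    simpa [map_sum, zsmul_eq_mul] using this
  rw [h1, Finset.sum_eq_single (i : ι)]
  · rw [RootCh.root'_fundCoweight_self, mul_one]
  · intro t _ hti
    by_cases ht : t ∈ b.support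
    · rw [RootCh.root'_fundCoweight_of_ne b i ⟨t, ht⟩ fun e => hti (congrArg Subtype.val e), mul_zero]
    · simp [coef_supp hΔ k t (by simpa using ht)]
  · simp

lemma fundCoweight_unique {b b' : P.Base} {i : b.support} {i' : b'.support}
    (h : RootCh.fundWeight b i = RootCh.fundWeight b' i') :
    RootCh.fundCoweight b i = RootCh.fundCoweight b' i' := by
  refine eq_of_root' b fun k _ => ?_
  refine mul_left_cancel₀ (gramR_pos (P := P) (i : ι)).ne' ?_
  rw [root'_fundCoweight, h, fundWeight_pair_gram h, root'_fundCoweight]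

lemma corr_fundWeight_iff (b : P.Base) (i : b.support) {x : N} :
    RootCh.Corr P (RootCh.fundWeight b i) x ↔ x = RootCh.fundCoweight b i := by
  refine ⟨?_, fun h => ⟨b, i, rfl, h.symm⟩⟩
  rintro ⟨b', i', h, rfl⟩
  exact fundCoweight_unique h

section Facets

open RootCh

lemma nr_root' (k : ι) (x : N) : P.root' (nr P k) x = -P.root' k x := by
  show P.toLinearMap (P.root (nr P k)) x = _
  rw [root_nr, map_neg, LinearMap.neg_apply]

lemma nr_coroot' (k : ι) (ξ : M) : P.coroot' (nr P k) ξ = -P.coroot' k ξ := by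
  have h := nr_root' (P := P.flip) k ξ
  simpa [nr] using h

variable (F : Facet P)

lemma sgn_eq {ξ : M} (h : ξ ∈ F.carrier) (i : ι) : F.sgn i = SignType.sign (P.coroot' i ξ) := by
  have := congrFun h i
  exact this.symm

lemma carrier_nonempty : F.carrier.Nonempty := F.exists_sgnVec_eq

lemma mem_parab_iff {ξ : M} (h : ξ ∈ F.carrier) (i : ι) : i ∈ F.parab ↔ 0 ≤ P.coroot' i ξ := by
  show F.sgn i ≠ -1 ↔ _
  rw [sgn_eq F h, ne_eq, sign_eq_neg_one_iff, not_lt]

lemma sgn_nr (i : ι) : F.sgn (nr P i) = -F.sgn i := by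
  obtain ⟨ξ, hξ⟩ := carrier_nonempty F
  rw [sgn_eq F hξ, sgn_eq F hξ, nr_coroot', Left.sign_neg]

lemma parab_isParabolic : IsParabolicSubset P F.parab := by
  obtain ⟨ξ, hξ⟩ := carrier_nonempty F
  refine ⟨fun i j k hi hj h => ?_, fun i => ?_⟩
  · rw [mem_parab_iff F hξ] at hi hj ⊢
    have h1 := scaled_add h ξ
    have h2 := mul_nonneg (gramR_pos (P := P) i).le hi
    have h3 := mul_nonneg (gramR_pos (P := P) j).le hj
    exact nonneg_of_mul_nonneg_right (h1 ▸ add_nonneg h2 h3) (gramR_pos k)
  · rw [mem_parab_iff F hξ, mem_parab_iff F hξ, nr_coroot']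
    rcases le_total 0 (P.coroot' i ξ) with h | h
    · exact Or.inl h
    · exact Or.inr (neg_nonneg.2 h)

lemma exists_base_subset {S : Set ι} (h : IsParabolicSubset P S) :
    ∃ b : P.Base, RootD.posOf P (b.support : Set ι) ⊆ S := by
  obtain ⟨T, hT⟩ := exists_posSys P
  obtain ⟨g, hg, hsub⟩ := exists_img_subset_closed hT h.2 (fun i j k hi hj hk => h.1 i j k hi hj hk)
  exact ⟨baseOfPos (img_isPosSys g hT), by rw [posOf_baseOfPos]; exact hsub⟩

lemma mem_cham_iff {ξ : M} (h : ξ ∈ F.carrier) (b : P.Base) :
    b ∈ F.cham ↔ ξ ∈ closedChamber b := by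
  refine ⟨fun hb => hb h, fun hb η hη i hi => ?_⟩
  rw [← mem_parab_iff F hη, mem_parab_iff F h]
  exact hb i hi

lemma mem_cham_iff_subset (b : P.Base) :
    b ∈ F.cham ↔ RootD.posOf P (b.support : Set ι) ⊆ F.parab := by
  obtain ⟨ξ, hξ⟩ := carrier_nonempty F
  rw [mem_cham_iff F hξ]
  refine ⟨fun h k hk => (mem_parab_iff F hξ k).2 (coroot'_nonneg h hk),
    fun h i hi => (mem_parab_iff F hξ i).1 (h (simple_mem_posOf (base_isSimpleSys b) (by simpa using hi)))⟩

lemma cham_nonempty : F.cham.Nonempty := by
  obtain ⟨b, hb⟩ := exists_base_subset (parab_isParabolic F)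
  exact ⟨b, (mem_cham_iff_subset F b).2 hb⟩

variable {F}

/-- The simple indices of a facet in an adjacent chamber. -/
def simpleSupp (F : Facet P) (b : P.Base) : Set b.support := {i | F.sgn i = 1}

lemma sgn_simple {b : P.Base} (hb : b ∈ F.cham) {i : ι} (hi : i ∈ b.support) :
    F.sgn i = 1 ∨ F.sgn i = 0 := by
  have h := (mem_cham_iff_subset F b).1 hb (simple_mem_posOf (base_isSimpleSys b) (by simpa using hi))
  have h' : F.sgn i ≠ -1 := h
  revert h'
  generalize F.sgn i = s
  cases s <;> simp

lemma coef_sgn_zero {b : P.Base} (hb : b ∈ F.cham) {k : ι} (hk : F.sgn k = 0) {t : ι}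
    (ht : t ∈ b.support) (ht1 : F.sgn t = 1) : coef (base_isSimpleSys b) k t = 0 := by
  obtain ⟨ξ, hξ⟩ := carrier_nonempty F
  have hΔ := base_isSimpleSys b
  by_cases hkp : k ∈ RootD.posOf P (b.support : Set ι)
  · have h1 := coroot'_comb b k ξ
    rw [sgn_eq F hξ, sign_eq_zero_iff] at hk
    rw [hk, mul_zero, eq_comm] at h1
    have hterm : ∀ s, 0 ≤ (coef hΔ k s : R) * (gram P s s : R) * P.coroot' s ξ := fun s => by
      by_cases hs : s ∈ b.support
      · exact mul_nonneg (mul_nonneg (by exact_mod_cast (mem_posOf_iff hΔ).1 hkp s) (gramR_pos s).le)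
          ((mem_cham_iff F hξ b).1 hb s hs)
      · simp [coef_supp hΔ k s (by simpa using hs)]
    have h2 := (Finset.sum_eq_zero_iff_of_nonneg fun s _ => hterm s).1 h1 t (Finset.mem_univ t)
    rw [sgn_eq F hξ, sign_eq_one_iff] at ht1
    rcases mul_eq_zero.1 h2 with h | h
    · rcases mul_eq_zero.1 h with h | h
      · exact_mod_cast h
      · exact absurd h (gramR_pos t).ne'
    · exact absurd h ht1.ne'
  · have hk' := (nr_mem_posOf_iff hΔ).2 hkp
    have h1 := coroot'_comb b (nr P k) ξ
    rw [sgn_eq F hξ, sign_eq_zero_iff] at hk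
    rw [nr_coroot', hk, neg_zero, mul_zero, eq_comm] at h1
    have hterm : ∀ s, 0 ≤ (coef hΔ (nr P k) s : R) * (gram P s s : R) * P.coroot' s ξ := fun s => by
      by_cases hs : s ∈ b.support
      · exact mul_nonneg (mul_nonneg (by exact_mod_cast (mem_posOf_iff hΔ).1 hk' s) (gramR_pos s).le)
          ((mem_cham_iff F hξ b).1 hb s hs)
      · simp [coef_supp hΔ (nr P k) s (by simpa using hs)]
    have h2 := (Finset.sum_eq_zero_iff_of_nonneg fun s _ => hterm s).1 h1 t (Finset.mem_univ t)
    rw [sgn_eq F hξ, sign_eq_one_iff] at ht1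
    rcases mul_eq_zero.1 h2 with h | h
    · rcases mul_eq_zero.1 h with h | h
      · rw [coef_nr] at h
        simpa using h
      · exact absurd h (gramR_pos t).ne'
    · exact absurd h ht1.ne'

lemma coroot'_eq_zero_of_sgn {b : P.Base} (hb : b ∈ F.cham) {η : M}
    (h0 : ∀ i ∈ b.support, F.sgn i = 0 → P.coroot' i η = 0) {k : ι} (hk : F.sgn k = 0) :
    P.coroot' k η = 0 := by
  have h1 := coroot'_comb b k η
  rw [Finset.sum_eq_zero fun t _ => ?_] at h1
  · exact (mul_eq_zero.1 h1).resolve_left (gramR_pos k).ne'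
  by_cases ht : t ∈ b.support
  · rcases sgn_simple hb ht with h | h
    · simp [coef_sgn_zero hb hk ht h]
    · simp [h0 t ht h]
  · simp [coef_supp (base_isSimpleSys b) k t (by simpa using ht)]

lemma mem_closure_iff {b : P.Base} (hb : b ∈ F.cham) (η : M) :
    η ∈ F.closure ↔ η ∈ closedChamber b ∧ ∀ i ∈ b.support, F.sgn i = 0 → P.coroot' i η = 0 := by
  constructor
  · intro h
    refine ⟨fun i hi => ?_, fun i _ h0 => ?_⟩
    · rcases h i with h' | h'
      · exact (sign_eq_zero_iff.1 h').ge
      · rcases sgn_simple hb hi with h1 | h1 <;> rw [h1] at h'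
        · exact (sign_eq_one_iff.1 h').le
        · exact (sign_eq_zero_iff.1 h').ge
    · rcases h i with h' | h'
      · exact sign_eq_zero_iff.1 h'
      · rw [h0] at h'; exact sign_eq_zero_iff.1 h'
  · rintro ⟨hc, h0⟩ k
    show SignType.sign (P.coroot' k η) = 0 ∨ SignType.sign (P.coroot' k η) = F.sgn k
    rcases lt_trichotomy 0 (P.coroot' k η) with h | h | h
    · right
      rw [sign_pos h]
      have hne : F.sgn k ≠ 0 := fun h' => h.ne' (coroot'_eq_zero_of_sgn hb h0 h')
      have hkp : k ∈ RootD.posOf P (b.support : Set ι) := by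
        by_contra hh
        have := coroot'_nonneg hc ((nr_mem_posOf_iff (base_isSimpleSys b)).2 hh)
        rw [nr_coroot'] at this
        linarith
      have hne' : F.sgn k ≠ -1 := (mem_cham_iff_subset F b).1 hb hkp
      revert hne hne'
      generalize F.sgn k = s
      cases s <;> simp
    · left; rw [← h, sign_zero]
    · right
      rw [sign_neg h]
      have hne : F.sgn k ≠ 0 := fun h' => h.ne (coroot'_eq_zero_of_sgn hb h0 h')
      have hkp : nr P k ∈ RootD.posOf P (b.support : Set ι) := by
        rw [nr_mem_posOf_iff (base_isSimpleSys b)]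
        intro hh
        have := coroot'_nonneg hc hh
        linarith
      have hne' : F.sgn (nr P k) ≠ -1 := (mem_cham_iff_subset F b).1 hb hkp
      rw [sgn_nr] at hne'
      revert hne hne'
      generalize F.sgn k = s
      cases s <;> simp

lemma corners_eq {b : P.Base} (hb : b ∈ F.cham) :
    F.corners = fundWeight b '' simpleSupp F b := by
  classical
  ext w
  constructor
  · rintro ⟨hw, hcl⟩
    obtain ⟨hc, h0⟩ := (mem_closure_iff hb w).1 hcl
    obtain ⟨i, rfl⟩ := fundWeights_inter_closedChamber b hw hc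
    refine ⟨i, (sgn_simple hb i.2).resolve_right fun h => ?_, rfl⟩
    have := h0 i i.2 h
    rw [coroot'_fundWeight_self] at this
    exact one_ne_zero this
  · rintro ⟨i, hi, rfl⟩
    refine ⟨⟨b, i, rfl⟩, (mem_closure_iff hb _).2 ⟨fundWeight_mem_closedChamber b i, fun j hj h0 => ?_⟩⟩
    refine coroot'_fundWeight_of_ne b i ⟨j, hj⟩ fun e => ?_
    have hi' : F.sgn i = 1 := hi
    rw [← e] at hi'
    rw [hi'] at h0
    exact one_ne_zero h0

lemma mem_carrier_iff {b : P.Base} (hb : b ∈ F.cham) (η : M) :
    η ∈ F.carrier ↔ ∀ i ∈ b.support, SignType.sign (P.coroot' i η) = F.sgn i := by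
  refine ⟨fun h i _ => congrFun h i, fun h => ?_⟩
  have hcl : η ∈ F.closure := by
    refine (mem_closure_iff hb η).2 ⟨fun i hi => ?_, fun i hi h0 => sign_eq_zero_iff.1 (by rw [h i hi, h0])⟩
    rcases sgn_simple hb hi with h1 | h1 <;> have h2 := h i hi <;> rw [h1] at h2
    · exact (sign_eq_one_iff.1 h2).le
    · exact (sign_eq_zero_iff.1 h2).ge
  funext k
  rcases hcl k with h' | h'
  · show sgnVec P η k = F.sgn k
    rw [h']
    by_contra hne
    obtain ⟨ξ, hξ⟩ := carrier_nonempty F
    have h1 := coroot'_comb b k η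
    rw [show P.coroot' k η = 0 from sign_eq_zero_iff.1 h', mul_zero, eq_comm] at h1
    have hΔ := base_isSimpleSys b
    have key : ∀ t, (coef hΔ k t : R) * (gram P t t : R) * P.coroot' t η = 0 := by
      rcases coef_sign hΔ k with hs | hs
      · refine fun t => (Finset.sum_eq_zero_iff_of_nonneg fun s _ => ?_).1 h1 t (Finset.mem_univ t)
        by_cases hs' : s ∈ b.support
        · exact mul_nonneg (mul_nonneg (by exact_mod_cast hs s) (gramR_pos s).le)
            (((mem_closure_iff hb η).1 hcl).1 s hs')
        · simp [coef_supp hΔ k s (by simpa using hs')]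
      · refine fun t => (Finset.sum_eq_zero_iff_of_nonpos fun s _ => ?_).1 h1 t (Finset.mem_univ t)
        by_cases hs' : s ∈ b.support
        · exact mul_nonpos_of_nonpos_of_nonneg (mul_nonpos_of_nonpos_of_nonneg
            (by exact_mod_cast hs s) (gramR_pos s).le) (((mem_closure_iff hb η).1 hcl).1 s hs')
        · simp [coef_supp hΔ k s (by simpa using hs')]
    have h2 := coroot'_comb b k ξ
    rw [Finset.sum_eq_zero fun t _ => ?_] at h2
    · refine hne ?_
      rw [sgn_eq F hξ, (mul_eq_zero.1 h2).resolve_left (gramR_pos k).ne', sign_zero]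
    by_cases ht : t ∈ b.support
    · rcases mul_eq_zero.1 (key t) with hz | hz
      · rcases mul_eq_zero.1 hz with hz | hz
        · simp [hz]
        · exact absurd hz (gramR_pos t).ne'
      · have h3 := h t ht
        rw [hz, sign_zero, sgn_eq F hξ, eq_comm, sign_eq_zero_iff] at h3
        simp [h3]
    · simp [coef_supp hΔ k t (by simpa using ht)]
  · exact h'

lemma carrier_eq_comb : F.carrier = {ξ : M | ∃ c : M →₀ R, (c.support : Set M) ⊆ F.corners ∧
      (∀ m ∈ F.corners, 0 < c m) ∧ c.sum (fun m r => r • m) = ξ} := by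
  classical
  obtain ⟨b, hb⟩ := cham_nonempty F
  ext ξ
  constructor
  · intro hξ
    let c : M →₀ R := ∑ i : b.support, Finsupp.single (fundWeight b i) (P.coroot' i ξ)
    have hc : ∀ i : b.support, c (fundWeight b i) = P.coroot' i ξ := fun i => by
      simp only [c, Finsupp.finsetSum_apply]
      rw [Finset.sum_eq_single i] <;> simp +contextual [(fundWeight_injective b).ne]
    refine ⟨c, fun w hw => ?_, fun m hm => ?_, ?_⟩
    · obtain ⟨i, -, hi⟩ := Finset.mem_biUnion.1 (Finsupp.support_finsetSum hw)
      obtain rfl : w = fundWeight b i := Finset.mem_singleton.1 (Finsupp.support_single_subset hi)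
      rw [corners_eq hb]
      refine ⟨i, (sgn_simple hb i.2).resolve_right fun h0 => ?_, rfl⟩
      rw [Finset.mem_coe, Finsupp.mem_support_iff, hc] at hw
      rw [sgn_eq F hξ, sign_eq_zero_iff] at h0
      exact hw h0
    · rw [corners_eq hb] at hm
      obtain ⟨i, hi, rfl⟩ := hm
      have hi' : F.sgn i = 1 := hi
      rw [sgn_eq F hξ, sign_eq_one_iff] at hi'
      rw [hc]; exact hi'
    · simp only [c]
      rw [← Finsupp.sum_finsetSum_index (by simp) (by simp [add_smul])]
      simp only [Finsupp.sum_single_index, zero_smul]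
      exact (expansion b ξ).symm
  · rintro ⟨c, hsupp, hpos, rfl⟩
    refine (mem_carrier_iff hb _).2 fun j hj => ?_
    have h1 : P.coroot' j (c.sum fun m r => r • m) = c (fundWeight b ⟨j, hj⟩) := by
      rw [map_finsuppSum, Finsupp.sum, Finset.sum_eq_single (fundWeight b ⟨j, hj⟩)]
      · rw [map_smul, coroot'_fundWeight_self b ⟨j, hj⟩, smul_eq_mul, mul_one]
      · intro m hm hne
        have hmc := hsupp hm
        rw [corners_eq hb] at hmc
        obtain ⟨i, hi, rfl⟩ := hmc
        rw [map_smul, coroot'_fundWeight_of_ne b i ⟨j, hj⟩ (fun e => hne (e ▸ rfl)), smul_zero]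
      · intro hn
        rw [Finsupp.notMem_support_iff.1 hn, zero_smul, map_zero]
    rw [h1]
    rcases sgn_simple hb hj with h | h
    · rw [h, sign_pos (hpos _ (corners_eq hb ▸ ⟨⟨j, hj⟩, h, rfl⟩))]
    · rw [h]
      have h2 : c (fundWeight b ⟨j, hj⟩) = 0 := by
        by_contra hne
        have hmc := hsupp (Finsupp.mem_support_iff.2 hne)
        rw [corners_eq hb] at hmc
        obtain ⟨i, hi, he⟩ := hmc
        have hi' : F.sgn i = 1 := hi
        rw [fundWeight_injective b he] at hi'
        rw [hi'] at h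
        exact one_ne_zero h
      rw [h2, sign_zero]

lemma span_carrier : Submodule.span R F.carrier = Submodule.span R F.corners := by
  classical
  refine le_antisymm (Submodule.span_le.2 ?_) (Submodule.span_le.2 fun m hm => ?_)
  · rw [carrier_eq_comb]
    rintro _ ⟨c, hsupp, -, rfl⟩
    exact Submodule.sum_mem _ fun w hw => Submodule.smul_mem _ _ (Submodule.subset_span (hsupp hw))
  · obtain ⟨ξ, hξ⟩ := carrier_nonempty F
    have h2 : ξ + m ∈ F.carrier := by
      funext i
      show SignType.sign (P.coroot' i (ξ + m)) = F.sgn i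
      rw [map_add]
      rcases hm.2 i with h | h
      · rw [show P.coroot' i m = 0 from sign_eq_zero_iff.1 h, add_zero, sgn_eq F hξ]
      · have h' : SignType.sign (P.coroot' i m) = F.sgn i := h
        rw [sgn_eq F hξ] at h' ⊢
        rcases lt_trichotomy 0 (P.coroot' i ξ) with h1 | h1 | h1
        · rw [sign_pos h1] at h' ⊢
          exact sign_pos (add_pos h1 (sign_eq_one_iff.1 h'))
        · rw [← h1, sign_zero, sign_eq_zero_iff] at h'
          rw [h', ← h1, add_zero]
        · rw [sign_neg h1] at h' ⊢
          exact sign_neg (add_neg h1 (sign_eq_neg_one_iff.1 h'))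
    have := Submodule.sub_mem _ (Submodule.subset_span (R := R) h2) (Submodule.subset_span hξ)
    simpa using this

/-- The facet of a base with prescribed positive simple indices. -/
lemma exists_facet_of_supp (b : P.Base) (J : Set b.support) :
    ∃ G : Facet P, b ∈ G.cham ∧ simpleSupp G b = J := by
  classical
  let ξ : M := ∑ i ∈ J.toFinset, fundWeight b i
  have hc : ∀ j : b.support, P.coroot' j ξ = if j ∈ J then 1 else 0 := fun j => by
    rw [map_sum]
    split_ifs with h
    · rw [Finset.sum_eq_single j (fun i _ hi => coroot'_fundWeight_of_ne b i j (Ne.symm hi)) (by simp [h]),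
        coroot'_fundWeight_self]
    · exact Finset.sum_eq_zero fun i hi => coroot'_fundWeight_of_ne b i j fun e => h (e ▸ Set.mem_toFinset.1 hi)
  refine ⟨Facet.ofVec P ξ, ?_, ?_⟩
  · rw [mem_cham_iff (Facet.ofVec P ξ) (ξ := ξ) rfl]
    intro i hi
    rw [hc ⟨i, hi⟩]; split_ifs <;> norm_num
  · ext j
    show SignType.sign (P.coroot' j ξ) = 1 ↔ j ∈ J
    rw [hc]; split_ifs with h <;> simp [h]

lemma facet_eq_of_corners {G : Facet P} (h : F.corners = G.corners) : F = G := by
  obtain ⟨ξ, hξ⟩ := carrier_nonempty F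
  have hξ' : ξ ∈ G.carrier := by
    rw [carrier_eq_comb, ← h, ← carrier_eq_comb]; exact hξ
  apply Facet.ext
  funext i
  rw [sgn_eq F hξ, sgn_eq G hξ']

lemma le_iff_parab {G : Facet P} : F ≤ G ↔ F.parab ⊆ G.parab := by
  rw [Facet.le_def]
  constructor
  · intro h i hi
    show G.sgn i ≠ -1
    rcases h i with h' | h' <;> rw [h']
    · simp
    · exact hi
  · intro h i
    have h1 : F.sgn i ≠ -1 → G.sgn i ≠ -1 := @h i
    have h2 : F.sgn (nr P i) ≠ -1 → G.sgn (nr P i) ≠ -1 := @h (nr P i)
    rw [sgn_nr, sgn_nr] at h2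
    revert h1 h2
    generalize F.sgn i = s
    generalize G.sgn i = t
    cases s <;> cases t <;> simp

lemma facet_eq_of_parab {G : Facet P} (h : F.parab = G.parab) : F = G :=
  le_antisymm (le_iff_parab.2 h.subset) (le_iff_parab.2 h.symm.subset)

lemma exists_facet_of_parabolic {S : Set ι} (hS : IsParabolicSubset P S) :
    ∃ G : Facet P, G.parab = S := by
  classical
  obtain ⟨b, hb⟩ := exists_base_subset hS
  have hΔ := base_isSimpleSys b
  have hpos := isPosSys_posOf hΔ
  have heq := closed_superset_eq hpos (T := S) (fun i j k hi hj hk => hS.1 i j k hi hj hk) hb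
  rw [simples_posOf hΔ] at heq
  obtain ⟨G, hG, hJ⟩ := exists_facet_of_supp b {i | nr P (i : ι) ∉ S}
  refine ⟨G, Set.ext fun k => ?_⟩
  obtain ⟨ξ, hξ⟩ := carrier_nonempty G
  constructor
  · intro hk
    by_cases hkp : k ∈ RootD.posOf P (b.support : Set ι)
    · exact hb hkp
    have hnk := (nr_mem_posOf_iff hΔ).2 hkp
    have hkge : 0 ≤ P.coroot' k ξ := (mem_parab_iff G hξ k).1 hk
    have hge := coroot'_nonneg ((mem_cham_iff G hξ b).1 hG) hnk
    rw [nr_coroot'] at hge
    have h0 : G.sgn (nr P k) = 0 := by
      rw [sgn_eq G hξ, nr_coroot', show P.coroot' k ξ = 0 by linarith, neg_zero, sign_zero]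
    rw [heq]
    right
    show -P.root k ∈ RootD.natSpan P _
    rw [← root_nr, mem_natSpan_iff_fun]
    refine ⟨fun i => (coef hΔ (nr P k) i).toNat, fun i hi => ?_, ?_⟩
    · by_cases hib : i ∈ b.support
      · have hi1 : G.sgn i = 1 := by
          have : (⟨i, hib⟩ : b.support) ∈ simpleSupp G b := by
            rw [hJ]; exact fun h => hi ⟨by simpa using hib, h⟩
          exact this
        simp [coef_sgn_zero hG h0 hib hi1]
      · simp [coef_supp hΔ _ i (by simpa using hib)]
    · conv_lhs => rw [root_eq_coef hΔ (nr P k)]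
      exact Finset.sum_congr rfl fun i _ => by
        rw [← natCast_zsmul, Int.toNat_of_nonneg ((mem_posOf_iff hΔ).1 hnk i)]
  · intro hk
    rw [mem_parab_iff G hξ]
    rw [heq] at hk
    rcases hk with hk | hk
    · exact coroot'_nonneg ((mem_cham_iff G hξ b).1 hG) hk
    · obtain ⟨c, hc, he⟩ := (mem_natSpan_iff_fun P).1 hk
      have hcoef : coef hΔ (nr P k) = fun i => (c i : ℤ) :=
        coef_eq hΔ (fun i hi => by simp [hc i fun h => hi h.1]) (by rw [root_nr, he]; simp)
      have h1 := coroot'_comb b (nr P k) ξ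
      rw [Finset.sum_eq_zero fun t _ => ?_] at h1
      · have h2 := (mul_eq_zero.1 h1).resolve_left (gramR_pos _).ne'
        rw [nr_coroot', neg_eq_zero] at h2
        exact h2.ge
      by_cases ht : c t = 0
      · simp [hcoef, ht]
      · have htm : t ∈ (b.support : Set ι) ∧ nr P t ∈ S := by
          by_contra hh; exact ht (hc t hh)
        have htb : t ∈ b.support := by simpa using htm.1
        have h0 : G.sgn t = 0 := (sgn_simple hG htb).resolve_left fun h1 => by
          have : (⟨t, htb⟩ : b.support) ∈ simpleSupp G b := h1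
          rw [hJ] at this
          exact this htm.2
        rw [sgn_eq G hξ, sign_eq_zero_iff] at h0
        simp [h0]

lemma corners_eq_parab_weights :
    F.corners = {m : M | m ∈ fundWeights P ∧ ∀ y : N, Corr P m y → ∀ i ∈ F.parab, 0 ≤ P.root' i y} := by
  obtain ⟨ξ, hξ⟩ := carrier_nonempty F
  ext m
  constructor
  · rintro ⟨hm, hcl⟩
    refine ⟨hm, ?_⟩
    rintro y ⟨b', i', rfl, rfl⟩ k hk
    have h2 : 0 ≤ P.coroot' k (fundWeight b' i') := by
      rcases hcl k with h | h
      · exact (sign_eq_zero_iff.1 h).ge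
      · have h' : SignType.sign (P.coroot' k (fundWeight b' i')) = F.sgn k := h
        by_contra hneg
        rw [sign_neg (not_le.1 hneg)] at h'
        exact hk h'.symm
    have h3 := root'_fundCoweight b' i' k
    have h4 : (0 : R) ≤ (gram P k k : R) * P.coroot' k (fundWeight b' i') :=
      mul_nonneg (gramR_pos k).le h2
    rw [← h3] at h4
    exact nonneg_of_mul_nonneg_right h4 (gramR_pos _)
  · rintro ⟨hm, h⟩
    refine ⟨hm, ?_⟩
    obtain ⟨b', i', rfl⟩ := hm
    have key : ∀ k ∈ F.parab, 0 ≤ P.coroot' k (fundWeight b' i') := fun k hk => by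
      have h3 := root'_fundCoweight b' i' k
      have h5 : (0 : R) ≤ P.root' k (fundCoweight b' i') :=
        h (fundCoweight b' i') ⟨b', i', rfl, rfl⟩ k hk
      have h4 : (0 : R) ≤ (gram P (i' : ι) i' : R) * P.root' k (fundCoweight b' i') :=
        mul_nonneg (gramR_pos _).le h5
      rw [h3] at h4
      exact nonneg_of_mul_nonneg_right h4 (gramR_pos k)
    intro k
    show SignType.sign (P.coroot' k (fundWeight b' i')) = 0 ∨ SignType.sign (P.coroot' k (fundWeight b' i')) = F.sgn k
    have k1 : F.sgn k ≠ -1 → 0 ≤ P.coroot' k (fundWeight b' i') := key k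
    have k2 : F.sgn (nr P k) ≠ -1 → 0 ≤ P.coroot' (nr P k) (fundWeight b' i') := key (nr P k)
    rw [sgn_nr, nr_coroot', neg_nonneg] at k2
    rcases lt_trichotomy 0 (P.coroot' k (fundWeight b' i')) with h' | h' | h'
    · right
      rw [sign_pos h']
      rcases SignType.trichotomy (F.sgn k) with hs | hs | hs <;> rw [hs] at k1 k2 ⊢
      · linarith [k2 (by decide)]
      · linarith [k2 (by decide)]
    · left; rw [← h', sign_zero]
    · right
      rw [sign_neg h']
      rcases SignType.trichotomy (F.sgn k) with hs | hs | hs <;> rw [hs] at k1 k2 ⊢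
      · linarith [k1 (by decide)]
      · linarith [k1 (by decide)]

lemma dual_exists (F : Facet P) : ∃ x : N, sgnVec P.flip x = F.sgn := by
  classical
  obtain ⟨b, hb⟩ := cham_nonempty F
  obtain ⟨ξ, hξ⟩ := carrier_nonempty F
  let x : N := ∑ i : b.support, ((gram P (i : ι) i : R) * P.coroot' i ξ) • fundCoweight b i
  refine ⟨x, funext fun k => ?_⟩
  show SignType.sign (P.root' k x) = F.sgn k
  have h1 : P.root' k x = (gram P k k : R) * P.coroot' k ξ := by
    rw [map_sum]
    conv_rhs => rw [expansion b ξ, map_sum, Finset.mul_sum]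
    refine Finset.sum_congr rfl fun i _ => ?_
    rw [map_smul, map_smul, smul_eq_mul, smul_eq_mul, mul_comm (gram P (i : ι) i : R), mul_assoc,
      root'_fundCoweight]
    ring
  rw [h1, sgn_eq F hξ, sign_mul, sign_pos (gramR_pos (P := P) k), one_mul]

/-- The dual facet. -/
def dual (F : Facet P) : Facet P.flip := ⟨F.sgn, dual_exists F⟩

lemma dual_cham {b : P.Base} (hb : b ∈ F.cham) : b.flip ∈ (dual F).cham := by
  have hinst : P.flip.IsReduced := by
    have : Module.IsReflexive R N := .of_isPerfPair P.flip.toLinearMap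
    infer_instance
  rw [mem_cham_iff_subset]
  exact (posOf_flip_base b).trans_subset ((mem_cham_iff_subset F b).1 hb)

lemma dualCorners_eq {b : P.Base} (hb : b ∈ F.cham) :
    F.dualCorners = fundCoweight b '' simpleSupp F b := by
  have hinst : P.flip.IsReduced := by
    have : Module.IsReflexive R N := .of_isPerfPair P.flip.toLinearMap
    infer_instance
  exact corners_eq (P := P.flip) (F := dual F) (dual_cham hb)

lemma span_dualCarrier {b : P.Base} (hb : b ∈ F.cham) :
    Submodule.span R F.dualCarrier = Submodule.span R (fundCoweight b '' simpleSupp F b) := by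
  have hinst : P.flip.IsReduced := by
    have : Module.IsReflexive R N := .of_isPerfPair P.flip.toLinearMap
    infer_instance
  rw [← dualCorners_eq hb]
  exact span_carrier (P := P.flip) (F := dual F)

end Facets

end RootLib
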