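/-
Minimum of a positive definite quadratic form on the convex hull of a finite set, over any ordered field.
-/
import Mathlib.Analysis.Convex.Hull
import Mathlib.Analysis.Convex.Combination
import Mathlib.LinearAlgebra.BilinearForm.Properties
import Mathlib.LinearAlgebra.Dual.Lemmas
import Mathlib.LinearAlgebra.FiniteDimensional.Basic
import Mathlib.Tactic.Linarith
import Mathlib.Tactic.FieldSimp
import Mathlib.Tactic.LinearCombination
import Mathlib.Tactic.Ring

set_option autoImplicit false

open Module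

namespace RootLib

variable {R N : Type*} [Field R] [LinearOrder R] [IsStrictOrderedRing R]
  [AddCommGroup N] [Module R N]

omit [LinearOrder R] [IsStrictOrderedRing R] in
lemma form_sum_weights (B : LinearMap.BilinForm R N) (p : N) {s : Finset N} {c : N → R}
    (hp : ∀ w ∈ s, B p w = B p p) (hc : ∑ w ∈ s, c w = 1) :
    B p (∑ w ∈ s, c w • w) = B p p := by
  rw [map_sum]
  simp only [map_smul, smul_eq_mul]
  rw [Finset.sum_congr rfl fun w hw => by rw [hp w hw], ← Finset.sum_mul, hc, one_mul]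

/-- The foot of the perpendicular from the origin to the affine span of a finite set. -/
lemma exists_affine_min (B : LinearMap.BilinForm R N) (hBp : ∀ y : N, y ≠ 0 → 0 < B y y)
    {s : Finset N} (hs : s.Nonempty) :
    ∃ q : N → R, ∑ w ∈ s, q w = 1 ∧
      ∀ w ∈ s, B (∑ w ∈ s, q w • w) w = B (∑ w ∈ s, q w • w) (∑ w ∈ s, q w • w) := by
  classical
  obtain ⟨a, ha⟩ := hs
  let W : Submodule R N := Submodule.span R (↑(s.image fun w => w - a) : Set N)
  have : FiniteDimensional R W := FiniteDimensional.span_finset R _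
  let φ : W →ₗ[R] Module.Dual R W := LinearMap.compl₁₂ B W.subtype W.subtype
  have hinj : Function.Injective φ := by
    rw [injective_iff_map_eq_zero]
    intro v hv
    by_contra hne
    have h1 : B (v : N) (v : N) = 0 := LinearMap.congr_fun hv v
    exact (hBp v fun h => hne (Subtype.ext h)).ne' h1
  have hsurj : Function.Surjective φ :=
    (LinearMap.injective_iff_surjective_of_finrank_eq_finrank Subspace.dual_finrank_eq.symm).1 hinj
  obtain ⟨v, hv⟩ := hsurj (-(B a).comp W.subtype)
  have hperp : ∀ u ∈ W, B (a + v) u = 0 := fun u hu => by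
    have h1 : B (v : N) u = -(B a u) := LinearMap.congr_fun hv ⟨u, hu⟩
    rw [map_add, LinearMap.add_apply, h1, add_neg_cancel]
  obtain ⟨f, -, hf⟩ := Submodule.mem_span_finset.1 v.2
  rw [Finset.sum_image (fun x _ y _ h => sub_left_injective h)] at hf
  refine ⟨fun w => f (w - a) + if w = a then 1 - ∑ t ∈ s, f (t - a) else 0, ?_, ?_⟩
  · rw [Finset.sum_add_distrib, Finset.sum_ite_eq', if_pos ha]; ring
  have hp : ∑ w ∈ s, (f (w - a) + if w = a then 1 - ∑ t ∈ s, f (t - a) else 0) • w = a + v := by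
    simp only [smul_sub, Finset.sum_sub_distrib, ← Finset.sum_smul] at hf
    simp only [add_smul, Finset.sum_add_distrib, ite_smul, zero_smul, Finset.sum_ite_eq', if_pos ha,
      sub_smul, one_smul, ← hf]
    abel
  intro w hw
  rw [hp]
  have h1 : B (a + v) (w - a) = 0 :=
    hperp _ (Submodule.subset_span (Finset.mem_coe.2 (Finset.mem_image_of_mem _ hw)))
  have h2 : B (a + v) (v : N) = 0 := hperp _ v.2
  rw [map_sub, sub_eq_zero] at h1
  rw [h1, map_add (B (a + v)) a v, h2, add_zero]

lemma form_add_self (B : LinearMap.BilinForm R N) (hBs : ∀ y z : N, B y z = B z y) (t : R) (x y : N) :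
    B (x + t • y) (x + t • y) = B x x + 2 * t * B x y + t * t * B y y := by
  simp only [map_add, LinearMap.add_apply, map_smul, LinearMap.smul_apply, smul_eq_mul]
  rw [hBs y x]
  ring

/-- A positive definite form attains its minimum on the convex hull of a finite set. -/
lemma exists_min_convexHull (B : LinearMap.BilinForm R N) (hBs : ∀ y z : N, B y z = B z y)
    (hBp : ∀ y : N, y ≠ 0 → 0 < B y y) (s : Finset N) (hs : s.Nonempty) :
    ∃ z ∈ convexHull R (s : Set N), ∀ x ∈ convexHull R (s : Set N), B z z ≤ B x x := by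
  classical
  induction s using Finset.strongInduction with
  | H s ih =>
    obtain ⟨q, hq, hperp⟩ := exists_affine_min B hBp hs
    set p := ∑ w ∈ s, q w • w with hp
    have hle : ∀ x ∈ convexHull R (s : Set N), B p p ≤ B x x ∧ B p x = B p p := by
      intro x hx
      obtain ⟨c, -, hc, rfl⟩ := Finset.mem_convexHull'.1 hx
      have h1 := form_sum_weights B p hperp hc
      refine ⟨?_, h1⟩
      by_cases h : ∑ w ∈ s, c w • w = p
      · rw [h]
      have h2 := (hBp _ (sub_ne_zero.2 h)).le
      simp only [map_sub, LinearMap.sub_apply] at h2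
      rw [hBs _ p, h1] at h2
      linarith
    by_cases hpos : ∀ w ∈ s, 0 ≤ q w
    · exact ⟨p, Finset.mem_convexHull'.2 ⟨q, hpos, hq, rfl⟩, fun x hx => (hle x hx).1⟩
    have key : ∀ x ∈ convexHull R (s : Set N),
        ∃ w ∈ s, ∃ x' ∈ convexHull R (↑(s.erase w) : Set N), B x' x' ≤ B x x := by
      intro x hx
      obtain ⟨hx1, hx2⟩ := hle x hx
      obtain ⟨c, hc0, hc, rfl⟩ := Finset.mem_convexHull'.1 hx
      push Not at hpos
      obtain ⟨w₁, hw₁, hw₁'⟩ := hpos
      obtain ⟨w₀, hw₀, hmin⟩ := Finset.exists_min_image (s.filter fun w => q w < 0)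
        (fun w => c w / (c w - q w)) ⟨w₁, Finset.mem_filter.2 ⟨hw₁, hw₁'⟩⟩
      obtain ⟨hw₀s, hw₀'⟩ := Finset.mem_filter.1 hw₀
      have hd₀ : 0 < c w₀ - q w₀ := by linarith [hc0 w₀ hw₀s]
      set θ := c w₀ / (c w₀ - q w₀) with hθ
      have hθ0 : 0 ≤ θ := div_nonneg (hc0 w₀ hw₀s) hd₀.le
      have hθ1 : θ ≤ 1 := by rw [hθ, div_le_one hd₀]; linarith
      let e : N → R := fun w => (1 - θ) * c w + θ * q w
      have he0 : e w₀ = 0 := by
        show (1 - θ) * c w₀ + θ * q w₀ = 0
        rw [hθ]; field_simp; ring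
      have he : ∀ w ∈ s, 0 ≤ e w := by
        intro w hw
        show 0 ≤ (1 - θ) * c w + θ * q w
        by_cases hqw : q w < 0
        · have hd : 0 < c w - q w := by linarith [hc0 w hw]
          have h3 := (le_div_iff₀ hd).1 (hmin w (Finset.mem_filter.2 ⟨hw, hqw⟩))
          linarith
        · exact add_nonneg (mul_nonneg (by linarith) (hc0 w hw)) (mul_nonneg hθ0 (not_lt.1 hqw))
      have hesum : ∑ w ∈ s, e w = 1 := by
        simp only [e, Finset.sum_add_distrib, ← Finset.mul_sum, hc, hq]; ring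
      have hcomb : ∑ w ∈ s, e w • w = p + (1 - θ) • ((∑ w ∈ s, c w • w) - p) := by
        simp only [e, add_smul, mul_smul, Finset.sum_add_distrib, ← Finset.smul_sum, ← hp, smul_sub,
          sub_smul, one_smul, Finset.sum_sub_distrib]
        abel
      refine ⟨w₀, hw₀s, ∑ w ∈ s, e w • w, ?_, ?_⟩
      · refine Finset.mem_convexHull'.2 ⟨e, fun w hw => he w (Finset.mem_of_mem_erase hw), ?_, ?_⟩
        · rw [Finset.sum_erase _ he0, hesum]
        · rw [Finset.sum_erase _ (by rw [he0, zero_smul])]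
      · rw [hcomb, form_add_self B hBs]
        simp only [map_sub, LinearMap.sub_apply]
        rw [hBs (∑ w ∈ s, c w • w) p, hx2]
        set u := B (∑ w ∈ s, c w • w) (∑ w ∈ s, c w • w)
        nlinarith [mul_nonneg hθ0 (sub_nonneg.2 hx1),
          mul_nonneg (mul_nonneg hθ0 (sub_nonneg.2 hθ1)) (sub_nonneg.2 hx1)]
    let T := s.filter fun w => (s.erase w).Nonempty
    have hmem : ∀ w ∈ T, ∃ z ∈ convexHull R (↑(s.erase w) : Set N),
        ∀ x ∈ convexHull R (↑(s.erase w) : Set N), B z z ≤ B x x := fun w hw =>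
      ih _ (Finset.erase_ssubset (Finset.mem_filter.1 hw).1) (Finset.mem_filter.1 hw).2
    choose! f hf1 hf2 using hmem
    have key' : ∀ x ∈ convexHull R (s : Set N), ∃ w ∈ T, B (f w) (f w) ≤ B x x := by
      intro x hx
      obtain ⟨w, hw, x', hx', hx''⟩ := key x hx
      have hne : (s.erase w).Nonempty :=
        Finset.coe_nonempty.1 (convexHull_nonempty_iff.1 ⟨x', hx'⟩)
      have hT : w ∈ T := Finset.mem_filter.2 ⟨hw, hne⟩
      exact ⟨w, hT, (hf2 w hT x' hx').trans hx''⟩
    obtain ⟨a, ha⟩ := hs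
    obtain ⟨w₁, hw₁, -⟩ := key' a (subset_convexHull R _ (Finset.mem_coe.2 ha))
    obtain ⟨w₀, hw₀, hmin⟩ := T.exists_min_image (fun w => B (f w) (f w)) ⟨w₁, hw₁⟩
    refine ⟨f w₀, convexHull_mono (Finset.coe_subset.2 (Finset.erase_subset _ _)) (hf1 w₀ hw₀),
      fun x hx => ?_⟩
    obtain ⟨w, hw, h⟩ := key' x hx
    exact (hmin w hw).trans h

/-- First order condition at a minimum on a convex set. -/
lemma form_le_of_min (B : LinearMap.BilinForm R N) (hBs : ∀ y z : N, B y z = B z y)
    (hBp : ∀ y : N, y ≠ 0 → 0 < B y y) {C : Set N} (hC : Convex R C) {z : N} (hz : z ∈ C)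
    (hmin : ∀ x ∈ C, B z z ≤ B x x) {w : N} (hw : w ∈ C) : B z z ≤ B z w := by
  by_contra hlt
  push Not at hlt
  have hne : w - z ≠ 0 := fun h => by rw [sub_eq_zero.1 h] at hlt; exact lt_irrefl _ hlt
  have hq := hBp _ hne
  have hb : B z (w - z) < 0 := by rw [map_sub]; linarith
  set t := min 1 (-(B z (w - z)) / B (w - z) (w - z)) with ht
  have ht1 : t ≤ 1 := min_le_left _ _
  have ht0 : 0 < t := lt_min one_pos (div_pos (by linarith) hq)
  have ht2 : t * B (w - z) (w - z) ≤ -(B z (w - z)) := (le_div_iff₀ hq).1 (min_le_right _ _)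
  have h1 := hmin _ (hC.add_smul_sub_mem hz hw ⟨ht0.le, ht1⟩)
  rw [form_add_self B hBs] at h1
  nlinarith [mul_le_mul_of_nonneg_left ht2 ht0.le, mul_neg_of_pos_of_neg ht0 hb]

end RootLib
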