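/-
Complementary convex solids: monotonicity along chambers, dual solids, special facets.
-/
import Groth.Agent.Lib.RootChFacet
import Groth.Agent.Lib.RootChMin

set_option autoImplicit false
set_option maxHeartbeats 400000
set_option linter.unusedSectionVars false
set_option linter.style.haveILetI false
set_option linter.unusedSimpArgs false

noncomputable section

open Set Function RootPairing Module RootCh

namespace RootLib

variable {ι R M N : Type*} [Field R] [LinearOrder R] [IsStrictOrderedRing R]
  [AddCommGroup M] [Module R M] [AddCommGroup N] [Module R N]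
variable {P : RootPairing ι R M N} [Finite ι] [P.IsRootSystem] [P.IsCrystallographic] [P.IsReduced]

attribute [local instance] Fintype.ofFinite

/-! ### Adjacent chambers -/

lemma root'_refl (a k : ι) (y : N) :
    P.root' (Equiv.reflection P a • k) y = P.root' k (P.coreflection a y) := by
  show P.toLinearMap (P.root (P.reflectionPerm a k)) y = P.toLinearMap (P.root k) (P.coreflection a y)
  rw [P.root_reflectionPerm, P.reflection_apply, P.coreflection_apply]
  simp [mul_comm]

lemma coroot'_refl (a k : ι) (ξ : M) :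
    P.coroot' (Equiv.reflection P a • k) ξ = P.coroot' k (P.reflection a ξ) :=
  root'_refl (P := P.flip) a k ξ

lemma refl_refl_idx (a k : ι) : Equiv.reflection P a • Equiv.reflection P a • k = k := by
  rw [← mul_smul, refl_sq, one_smul]

/-- The chamber across the wall of the simple root `a`. -/
def nbr (b : P.Base) (a : ι) : P.Base := baseImg (Equiv.reflection P a) b

lemma mem_posOf_nbr (b : P.Base) (a k : ι) :
    k ∈ RootD.posOf P ((nbr b a).support : Set ι) ↔
      Equiv.reflection P a • k ∈ RootD.posOf P (b.support : Set ι) := by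
  rw [nbr, coe_baseImg, img_posOf _ (base_isSimpleSys b)]
  constructor
  · rintro ⟨t, ht, rfl⟩
    rwa [refl_refl_idx]
  · exact fun h => ⟨_, h, refl_refl_idx a k⟩

lemma nbr_wall {b : P.Base} {a : ι} (ha : a ∈ b.support) (k : ι) :
    (k ∈ RootD.posOf P (b.support : Set ι) ∧
      Equiv.reflection P a • k ∉ RootD.posOf P (b.support : Set ι)) ↔ k = a := by
  have hΔ := base_isSimpleSys b
  have ha' : a ∈ (b.support : Set ι) := by simpa using ha
  constructor
  · rintro ⟨hk, hk'⟩
    refine only_at_indiv hΔ ha' hk (indiv_of_reduced k) fun t ht => ?_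
    by_contra hh
    exact hk' (refl_mem_posOf hΔ ha' ht (not_le.1 hh))
  · rintro rfl
    exact ⟨simple_mem_posOf hΔ ha', by
      rw [refl_smul_self, nr_mem_posOf_iff hΔ, not_not]; exact simple_mem_posOf hΔ ha'⟩

lemma reflection_fundWeight {b : P.Base} {a : ι} (i : b.support) (h : a ∈ b.support) (hne : (i : ι) ≠ a) :
    Equiv.reflection P a • fundWeight b i = fundWeight b i := by
  show P.reflection a (fundWeight b i) = _
  rw [P.reflection_apply, coroot'_fundWeight_of_ne b i ⟨a, h⟩ (fun e => hne (congrArg Subtype.val e).symm),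
    zero_smul, sub_zero]

lemma baseCorners_inter_nbr {b : P.Base} {a : ι} (ha : a ∈ b.support) :
    baseCorners b ∩ baseCorners (nbr b a) = fundWeight b '' {i | (i : ι) ≠ a} := by
  rw [baseCorners_eq, baseCorners_eq]
  ext w
  constructor
  · rintro ⟨⟨i, rfl⟩, hw⟩
    refine ⟨i, fun hia => ?_, rfl⟩
    have hw' : fundWeight b i ∈ closedChamber (nbr b a) := by
      obtain ⟨j, hj⟩ := hw
      rw [← hj]; exact fundWeight_mem_closedChamber _ j
    have h := hw' _ (mem_baseImg (Equiv.reflection P a) b i)
    rw [coroot'_refl, hia, P.reflection_apply, map_sub, map_smul, P.root_coroot'_eq_pairing,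
      P.pairing_same, smul_eq_mul] at h
    have h1 : P.coroot' a (fundWeight b i) = 1 := by
      rw [← hia]; exact coroot'_fundWeight_self b i
    rw [h1] at h
    linarith
  · rintro ⟨i, hi, rfl⟩
    refine ⟨⟨i, rfl⟩, ⟨⟨Equiv.reflection P a • (i : ι), mem_baseImg _ b i⟩, ?_⟩⟩
    exact (smul_fundWeight _ b i).symm.trans (reflection_fundWeight i ha hi)

lemma pair_expansion (b : P.Base) (ξ : M) (y : N) :
    P.toLinearMap ξ y = ∑ i : b.support, P.coroot' i ξ * P.toLinearMap (fundWeight b i) y := by
  conv_lhs => rw [expansion b ξ]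
  simp [map_sum, LinearMap.sum_apply]

lemma eq_of_pair (b : P.Base) {x y : N}
    (h : ∀ i : b.support, P.toLinearMap (fundWeight b i) x = P.toLinearMap (fundWeight b i) y) :
    x = y := by
  apply P.flip.toPerfPair.injective
  ext ξ
  show P.toLinearMap ξ x = P.toLinearMap ξ y
  rw [pair_expansion b, pair_expansion b ξ y]
  simp only [h]

variable {d : P.Base → N}

lemma ccs_step (hd : IsCCS d) {b : P.Base} {a : ι} (ha : a ∈ b.support) :
    ∃ t : R, 0 ≤ t ∧ d (nbr b a) = d b + t • P.coroot a := by
  classical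
  set b' := nbr b a with hb'
  set t := P.toLinearMap (fundWeight b ⟨a, ha⟩) (d b' - d b) with ht
  have hcs : ∀ i : b.support, P.toLinearMap (fundWeight b i) (P.coroot a) = if a = i then 1 else 0 :=
    fun i => coroot'_fundWeight b i ha
  have hdiff : d b' = d b + t • P.coroot a := by
    refine eq_of_pair b fun i => ?_
    rw [map_add, map_smul, smul_eq_mul, hcs i]
    by_cases hi : (i : ι) = a
    · obtain rfl : i = ⟨a, ha⟩ := Subtype.ext hi
      rw [if_pos rfl, ht, map_sub]; ring
    · rw [if_neg (Ne.symm hi), mul_zero, add_zero]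
      have hmem : fundWeight b i ∈ baseCorners b ∩ baseCorners b' := by
        rw [baseCorners_inter_nbr ha]; exact ⟨i, hi, rfl⟩
      exact (hd.corner_eq b b' _ hmem.1 hmem.2).symm
  refine ⟨t, ?_, hdiff⟩
  have hcard : (baseCorners b ∩ baseCorners b').ncard + 1 = b.support.card := by
    rw [baseCorners_inter_nbr ha, Set.ncard_image_of_injective _ (fundWeight_injective b)]
    have h1 : {i : b.support | (i : ι) ≠ a} = (Finset.univ.erase (⟨a, ha⟩ : b.support) : Set b.support) := by
      ext i; simp [Subtype.ext_iff]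
    rw [h1, Set.ncard_coe_finset, Finset.card_erase_add_one (Finset.mem_univ _)]
    simp
  have huniq : ∀ j : ι, (b.IsPos j ∧ ¬ b'.IsPos j) ↔ j = a := fun j => by
    rw [isPos_iff_mem_posOf, isPos_iff_mem_posOf, mem_posOf_nbr]
    exact nbr_wall ha j
  have h := hd.wall_le b b' a hcard huniq
  rw [hdiff, map_add, map_smul, smul_eq_mul] at h
  have h2 : P.root' a (P.coroot a) = 2 := by
    show P.pairing a a = 2
    exact P.pairing_same a
  rw [h2] at h
  linarith

lemma exists_simple_not_pos {b b' : P.Base} (h : b' ≠ b) :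
    ∃ a ∈ b'.support, a ∉ RootD.posOf P (b.support : Set ι) := by
  by_contra hh
  push Not at hh
  apply h
  have hsub : RootD.posOf P (b'.support : Set ι) ⊆ RootD.posOf P (b.support : Set ι) := by
    intro k hk
    by_contra hk'
    have hk'' := (nr_mem_posOf_iff (base_isSimpleSys b)).2 hk'
    obtain ⟨ξ, hξ⟩ : ∃ ξ : M, ∀ i ∈ b.support, P.coroot' i ξ = 1 :=
      ⟨∑ i : b.support, fundWeight b i, fun i hi => by
        classical
        rw [map_sum, Finset.sum_eq_single (⟨i, hi⟩ : b.support)]
        · exact coroot'_fundWeight_self b ⟨i, hi⟩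
        · exact fun j _ hj => coroot'_fundWeight_of_ne b j ⟨i, hi⟩ (Ne.symm hj)
        · simp⟩
    have hpos : ∀ t ∈ RootD.posOf P (b.support : Set ι), 0 < P.coroot' t ξ := by
      intro t ht
      obtain ⟨i, hi, hit⟩ := exists_coef_pos (base_isSimpleSys b) ht
      have h1 := coroot'_comb b t ξ
      have h2 : (0 : R) < ∑ s, (coef (base_isSimpleSys b) t s : R) * (gram P s s : R) * P.coroot' s ξ := by
        refine Finset.sum_pos' (fun s _ => ?_) ⟨i, Finset.mem_univ _, ?_⟩
        · by_cases hs : s ∈ b.support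
          · rw [hξ s hs, mul_one]
            exact mul_nonneg (by exact_mod_cast (mem_posOf_iff (base_isSimpleSys b)).1 ht s) (gramR_pos s).le
          · simp [coef_supp (base_isSimpleSys b) t s (by simpa using hs)]
        · rw [hξ i (by simpa using hi), mul_one]
          exact mul_pos (by exact_mod_cast hit) (gramR_pos i)
      rw [← h1] at h2
      exact pos_of_mul_pos_right h2 (gramR_pos t).le
    have hξ' : ξ ∈ closedChamber b' := fun i hi => (hpos i (hh i hi)).le
    have h1 := coroot'_nonneg hξ' hk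
    have h2 := hpos _ hk''
    rw [nr_coroot'] at h2
    linarith
  have heq : RootD.posOf P (b'.support : Set ι) = RootD.posOf P (b.support : Set ι) := by
    refine hsub.antisymm fun k hk => ?_
    by_contra hk'
    exact (nr_mem_posOf_iff (base_isSimpleSys b)).1 (hsub ((nr_mem_posOf_iff (base_isSimpleSys b')).2 hk')) hk
  apply base_ext
  rw [← simples_posOf (base_isSimpleSys b'), heq, simples_posOf (base_isSimpleSys b)]

/-- A dominant functional is smallest at its own chamber. -/
lemma ccs_le (hd : IsCCS d) {b : P.Base} {ξ : M} (hξ : ξ ∈ closedChamber b) (b' : P.Base) :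
    P.toLinearMap ξ (d b) ≤ P.toLinearMap ξ (d b') := by
  suffices ∀ n (b' : P.Base),
      (RootD.posOf P (b'.support : Set ι) \ RootD.posOf P (b.support : Set ι)).ncard = n →
      P.toLinearMap ξ (d b) ≤ P.toLinearMap ξ (d b') from this _ b' rfl
  intro n
  induction n using Nat.strong_induction_on with
  | _ n ih =>
    intro b' hn
    by_cases hbb : b' = b
    · rw [hbb]
    obtain ⟨a, ha, ha'⟩ := exists_simple_not_pos hbb
    have hΔ' := base_isSimpleSys b'
    have hpa : a ∈ RootD.posOf P (b'.support : Set ι) := simple_mem_posOf hΔ' (by simpa using ha)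
    have hlt : (RootD.posOf P ((nbr b' a).support : Set ι) \ RootD.posOf P (b.support : Set ι)).ncard < n := by
      rw [← hn]
      refine Set.ncard_lt_ncard ⟨fun k hk => ?_, fun hcon => ?_⟩ (Set.toFinite _)
      · refine ⟨?_, hk.2⟩
        by_contra hk1
        have hk2 := (mem_posOf_nbr b' a k).1 hk.1
        have h3 : nr P k = a := (nbr_wall ha (nr P k)).1
          ⟨(nr_mem_posOf_iff hΔ').2 hk1, by rw [smul_nr, nr_mem_posOf_iff hΔ', not_not]; exact hk2⟩
        have h4 := (nr_mem_posOf_iff (base_isSimpleSys b)).2 hk.2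
        rw [h3] at h4
        exact ha' h4
      · have h5 := (mem_posOf_nbr b' a a).1 (hcon ⟨hpa, ha'⟩).1
        rw [refl_smul_self, nr_mem_posOf_iff hΔ'] at h5
        exact h5 hpa
    obtain ⟨t, ht, he⟩ := ccs_step hd ha
    refine (ih _ hlt (nbr b' a) rfl).trans ?_
    rw [he, map_add, map_smul, smul_eq_mul]
    have h6 := coroot'_nonneg hξ ((nr_mem_posOf_iff (base_isSimpleSys b)).2 ha')
    rw [nr_coroot'] at h6
    have h7 : P.toLinearMap ξ (P.coroot a) ≤ 0 := by
      have : P.coroot' a ξ ≤ 0 := by linarith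
      exact this
    nlinarith

lemma le_of_convexHull {f : N →ₗ[R] R} {c : R} {s : Set N} (h : ∀ z ∈ s, c ≤ f z) {y : N}
    (hy : y ∈ convexHull R s) : c ≤ f y :=
  convexHull_min (t := {z | c ≤ f z}) h (convex_halfSpace_ge f.isLinear c) hy

lemma eq_of_convexHull {f : N →ₗ[R] R} {c : R} {s : Set N} (h : ∀ z ∈ s, f z = c) {y : N}
    (hy : y ∈ convexHull R s) : f y = c :=
  convexHull_min (t := {z | f z = c}) h (convex_hyperplane f.isLinear c) hy

lemma ccs_le_solid (hd : IsCCS d) {b : P.Base} {ξ : M} (hξ : ξ ∈ closedChamber b) {y : N}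
    (hy : y ∈ solid d) : P.toLinearMap ξ (d b) ≤ P.toLinearMap ξ y :=
  le_of_convexHull (by rintro _ ⟨b', rfl⟩; exact ccs_le hd hξ b') hy

/-! ### Facets and solids -/

variable {F : Facet P}

lemma corners_subset_baseCorners {b : P.Base} (hb : b ∈ F.cham) : F.corners ⊆ baseCorners b := by
  rw [corners_eq hb, baseCorners_eq]
  exact Set.image_subset_range _ _

lemma pair_eq_of_span (hd : IsCCS d) {b b' : P.Base} (hb : b ∈ F.cham) (hb' : b' ∈ F.cham) {ξ : M}
    (hξ : ξ ∈ Submodule.span R F.corners) : P.toLinearMap ξ (d b) = P.toLinearMap ξ (d b') := by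
  induction hξ using Submodule.span_induction with
  | mem m hm => exact hd.corner_eq b b' m (corners_subset_baseCorners hb hm) (corners_subset_baseCorners hb' hm)
  | zero => simp
  | add x y _ _ h1 h2 => simp [h1, h2]
  | smul c x _ h1 => simp [h1]

lemma pair_congr_span {x y : N} {S : Set M} (h : ∀ m ∈ S, P.toLinearMap m x = P.toLinearMap m y) {ξ : M}
    (hξ : ξ ∈ Submodule.span R S) : P.toLinearMap ξ x = P.toLinearMap ξ y :=
  LinearMap.eqOn_span (f := P.toLinearMap.flip x) (g := P.toLinearMap.flip y) h hξ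

lemma pair_dualSolid (hd : IsCCS d) {b : P.Base} (hb : b ∈ F.cham) {ξ : M}
    (hξ : ξ ∈ Submodule.span R F.corners) {y : N} (hy : y ∈ dualSolid d F) :
    P.toLinearMap ξ y = P.toLinearMap ξ (d b) :=
  eq_of_convexHull (by rintro _ ⟨b', hb', rfl⟩; exact pair_eq_of_span hd hb' hb hξ) hy

lemma dualSolid_subset_solid : dualSolid d F ⊆ solid d :=
  convexHull_mono (Set.image_subset_range _ _)

lemma dualSolid_nonempty (F : Facet P) : (dualSolid d F).Nonempty := by
  obtain ⟨b, hb⟩ := cham_nonempty F
  exact ⟨d b, subset_convexHull R _ ⟨b, hb, rfl⟩⟩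

lemma mem_span_corners {b : P.Base} (hb : b ∈ F.cham) {η : M}
    (h : ∀ i ∈ b.support, F.sgn i = 0 → P.coroot' i η = 0) : η ∈ Submodule.span R F.corners := by
  rw [expansion b η]
  refine Submodule.sum_mem _ fun i _ => ?_
  rcases sgn_simple hb i.2 with h1 | h1
  · exact Submodule.smul_mem _ _ (Submodule.subset_span (by rw [corners_eq hb]; exact ⟨i, h1, rfl⟩))
  · rw [h i i.2 h1, zero_smul]; exact Submodule.zero_mem _

lemma root'_zero_of_span_dual {y : N} (hy : y ∈ Submodule.span R F.dualCarrier) {k : ι}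
    (hk : F.sgn k = 0) : P.root' k y = 0 := by
  induction hy using Submodule.span_induction with
  | mem x hx =>
    have h1 : SignType.sign (P.root' k x) = 0 := by rw [← hk]; exact congrFun hx k
    exact sign_eq_zero_iff.1 h1
  | zero => simp
  | add x y _ _ h1 h2 => rw [map_add, h1, h2, add_zero]
  | smul c x _ h1 => rw [map_smul, h1, smul_zero]

/-- An invariant positive definite form. -/
def form0 (P : RootPairing ι R M N) [Finite ι] : LinearMap.BilinForm R N :=
  ∑ k, (P.root' k).smulRight (P.root' k)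

lemma form0_apply (y z : N) : form0 P y z = ∑ k, P.root' k y * P.root' k z := by
  simp [form0, LinearMap.sum_apply]

lemma form0_symm (y z : N) : form0 P y z = form0 P z y := by
  simp only [form0_apply, mul_comm]

lemma form0_pos {y : N} (hy : y ≠ 0) : 0 < form0 P y y := by
  rw [form0_apply]
  by_contra hh
  apply hy
  have hz : ∀ k, P.root' k y = 0 := fun k => by
    have h1 : ∑ k, P.root' k y * P.root' k y = 0 :=
      le_antisymm (not_lt.1 hh) (Finset.sum_nonneg fun k _ => mul_self_nonneg _)
    exact mul_self_eq_zero.1 ((Finset.sum_eq_zero_iff_of_nonneg fun k _ => mul_self_nonneg _).1 h1 k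
      (Finset.mem_univ _))
  obtain ⟨T, hT⟩ := exists_posSys P
  exact eq_of_root' (baseOfPos hT) fun j _ => by rw [hz, map_zero]

lemma form0_invariant (i : ι) (y z : N) :
    form0 P (P.coreflection i y) (P.coreflection i z) = form0 P y z := by
  simp only [form0_apply, ← root'_refl]
  exact _root_.Equiv.sum_comp (MulAction.toPerm (Equiv.reflection P i)) fun k => P.root' k y * P.root' k z

section Form

variable (B : LinearMap.BilinForm R N) (hBs : ∀ y z : N, B y z = B z y) (hBp : ∀ y : N, y ≠ 0 → 0 < B y y)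
  (hBi : ∀ (i : ι) (y z : N), B (P.coreflection i y) (P.coreflection i z) = B y z)

/-- The vector of `M` representing `B y`. -/
def toM (P : RootPairing ι R M N) (B : LinearMap.BilinForm R N) (y : N) : M := P.toPerfPair.symm (B y)

lemma pair_toM (y z : N) : P.toLinearMap (toM P B y) z = B y z :=
  LinearMap.congr_fun (P.toLinearMap.apply_symm_toPerfPair_self (B y)) z

include hBs hBp hBi

lemma coroot'_toM (y : N) (k : ι) :
    ∃ c : R, 0 < c ∧ P.coroot' k (toM P B y) = c * P.root' k y := by
  refine ⟨B (P.coroot k) (P.coroot k) / 2, half_pos (hBp _ (P.flip.ne_zero k)), ?_⟩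
  have h1 := hBi k (P.coroot k) y
  rw [P.coreflection_apply_self, P.coreflection_apply, map_neg, LinearMap.neg_apply, map_sub, map_smul,
    smul_eq_mul] at h1
  show P.toLinearMap (toM P B y) (P.coroot k) = _
  rw [pair_toM, hBs]
  linarith

lemma sgnVec_toM (y : N) : sgnVec P (toM P B y) = cosgnVec P y := by
  funext k
  obtain ⟨c, hc, h⟩ := coroot'_toM B hBs hBp hBi y k
  show SignType.sign (P.coroot' k (toM P B y)) = SignType.sign (P.root' k y)
  rw [h, sign_mul, sign_pos hc, one_mul]

lemma toM_mem_carrier {y : N} (hy : y ∈ F.dualCarrier) : toM P B y ∈ F.carrier :=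
  (sgnVec_toM B hBs hBp hBi y).trans hy

lemma toM_mem_span_corners {y : N} (hy : y ∈ Submodule.span R F.dualCarrier) :
    toM P B y ∈ Submodule.span R F.corners := by
  obtain ⟨b, hb⟩ := cham_nonempty F
  refine mem_span_corners hb fun i _ hi => ?_
  obtain ⟨c, -, h⟩ := coroot'_toM B hBs hBp hBi y i
  rw [h, root'_zero_of_span_dual hy hi, mul_zero]

end Form

/-- Two points of the span of the dual facet with the same pairings with the corners are equal. -/
lemma eq_of_pair_corners {y z : N} (hy : y ∈ Submodule.span R F.dualCarrier)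
    (hz : z ∈ Submodule.span R F.dualCarrier)
    (h : ∀ m ∈ F.corners, P.toLinearMap m y = P.toLinearMap m z) : y = z := by
  by_contra hne
  have hpos := form0_pos (P := P) (sub_ne_zero.2 hne)
  have hspan := toM_mem_span_corners (form0 P) form0_symm (fun _ => form0_pos) form0_invariant
    (Submodule.sub_mem _ hy hz)
  have h1 : ∀ ξ ∈ Submodule.span R F.corners, P.toLinearMap ξ (y - z) = 0 := by
    intro ξ hξ
    induction hξ using Submodule.span_induction with
    | mem m hm => rw [map_sub, h m hm, sub_self]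
    | zero => simp
    | add x y _ _ h1 h2 => rw [map_add, LinearMap.add_apply, h1, h2, add_zero]
    | smul c x _ h1 => rw [map_smul, LinearMap.smul_apply, h1, smul_zero]
  have h2 := h1 _ hspan
  rw [pair_toM] at h2
  exact hpos.ne' h2

lemma hyper_of_dualSolid (hd : IsCCS d) {y : N} (hy : y ∈ dualSolid d F) {m : M} (hm : m ∈ F.corners) :
    y ∈ hyper d m := by
  intro b' hmb'
  obtain ⟨b, hb⟩ := cham_nonempty F
  rw [pair_dualSolid hd hb (Submodule.subset_span hm) hy]
  exact hd.corner_eq b b' m (corners_subset_baseCorners hb hm) hmb'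

lemma yLocus_subsingleton {y z : N} (hy : y ∈ yLocus d F) (hz : z ∈ yLocus d F) : y = z := by
  obtain ⟨b, hb⟩ := cham_nonempty F
  refine eq_of_pair_corners hy.2 hz.2 fun m hm => ?_
  rw [Set.mem_iInter₂.1 hy.1 m hm b (corners_subset_baseCorners hb hm),
    Set.mem_iInter₂.1 hz.1 m hm b (corners_subset_baseCorners hb hm)]

lemma mem_yLocus (hd : IsCCS d) {y : N} (h1 : y ∈ dualSolid d F)
    (h2 : y ∈ Submodule.span R F.dualCarrier) : y ∈ yLocus d F :=
  ⟨Set.mem_iInter₂.2 fun _ hm => hyper_of_dualSolid hd h1 hm, h2⟩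

lemma special_point (hd : IsCCS d) {y : N} (h1 : y ∈ F.dualCarrier) (h2 : y ∈ dualSolid d F) :
    yLocus d F = {y} ∧ F.dualCarrier ∩ dualSolid d F = {y} := by
  have hy := mem_yLocus hd h2 (Submodule.subset_span h1)
  exact ⟨Set.eq_singleton_iff_unique_mem.2 ⟨hy, fun z hz => yLocus_subsingleton hz hy⟩,
    Set.eq_singleton_iff_unique_mem.2 ⟨⟨h1, h2⟩,
      fun z hz => yLocus_subsingleton (mem_yLocus hd hz.2 (Submodule.subset_span hz.1)) hy⟩⟩

/-- The dual solid of a facet is cut out by hyperplanes and half spaces. -/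
theorem dualSolid_eq (hd : IsCCS d) (F : Facet P) :
    dualSolid d F = (⋂ m ∈ F.corners, hyper d m) ∩ ⋂ m ∈ F.corners', halfClosed d m := by
  classical
  refine Set.Subset.antisymm (fun y hy => ⟨Set.mem_iInter₂.2 fun m hm => hyper_of_dualSolid hd hy hm,
    Set.mem_iInter₂.2 fun m _ b hmb => ccs_le_solid hd hmb.2 (dualSolid_subset_solid hy)⟩) ?_
  rintro y ⟨hy1, hy2⟩
  by_contra hy
  have : Finite P.Base := finite_base
  let s : Finset N := ((Set.toFinite (F.cham)).toFinset).image fun b => d b - y
  have hs : s.Nonempty := by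
    obtain ⟨b, hb⟩ := cham_nonempty F
    exact ⟨_, Finset.mem_image_of_mem _ ((Set.Finite.mem_toFinset _).2 hb)⟩
  obtain ⟨z, hz, hmin⟩ := exists_min_convexHull (form0 P) form0_symm (fun _ => form0_pos) s hs
  have hzne : z ≠ 0 := by
    rintro rfl
    obtain ⟨w, hw0, hw1, hw⟩ := Finset.mem_convexHull'.1 hz
    apply hy
    have hyc : ∑ u ∈ s, w u • (u + y) = y := by
      simp only [smul_add, Finset.sum_add_distrib, hw, ← Finset.sum_smul, hw1, one_smul, zero_add]
    rw [← hyc]
    refine (convex_convexHull R _).sum_mem hw0 hw1 fun u hu => subset_convexHull R _ ?_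
    obtain ⟨b, hb, rfl⟩ := Finset.mem_image.1 hu
    exact ⟨b, (Set.Finite.mem_toFinset _).1 hb, (sub_add_cancel _ _).symm⟩
  let l₀ : M := toM P (form0 P) z
  obtain ⟨ξ, hξ⟩ := carrier_nonempty F
  let c : R := 1 + ∑ i, |P.coroot' i l₀| / |P.coroot' i ξ|
  let l : M := l₀ + c • ξ
  obtain ⟨b, hb⟩ := cham_nonempty (Facet.ofVec P l)
  have hl : l ∈ closedChamber b := hb rfl
  have hbF : b ∈ F.cham := by
    rw [mem_cham_iff F hξ]
    intro i hi
    by_contra hneg
    push Not at hneg
    have h1 := hl i hi
    have habs : 0 < |P.coroot' i ξ| := abs_pos.2 hneg.ne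
    have h2 : |P.coroot' i l₀| / |P.coroot' i ξ| < c := by
      have := Finset.single_le_sum (f := fun j => |P.coroot' j l₀| / |P.coroot' j ξ|)
        (fun j _ => div_nonneg (abs_nonneg _) (abs_nonneg _)) (Finset.mem_univ i)
      simp only [c]; linarith
    rw [div_lt_iff₀ habs, abs_of_neg hneg] at h2
    simp only [l, map_add, map_smul, smul_eq_mul] at h1
    linarith [le_abs_self (P.coroot' i l₀)]
  have hξs : ξ ∈ Submodule.span R F.corners := by rw [← span_carrier]; exact Submodule.subset_span hξ
  have hξy : P.toLinearMap ξ y = P.toLinearMap ξ (d b) :=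
    pair_congr_span (fun m hm => Set.mem_iInter₂.1 hy1 m hm b (corners_subset_baseCorners hbF hm)) hξs
  have hge : P.toLinearMap l (d b) ≤ P.toLinearMap l y := by
    rw [pair_expansion b l, pair_expansion b l y]
    refine Finset.sum_le_sum fun i _ => mul_le_mul_of_nonneg_left ?_ (hl i i.2)
    have hi : fundWeight b i ∈ baseCorners b := by rw [baseCorners_eq]; exact ⟨i, rfl⟩
    exact Set.mem_iInter₂.1 hy2 _ (Set.mem_biUnion hbF hi) b hi
  have hmem : d b - y ∈ convexHull R (s : Set N) :=
    subset_convexHull R _ (Finset.mem_coe.2 (Finset.mem_image_of_mem _ ((Set.Finite.mem_toFinset _).2 hbF)))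
  have h3 := form_le_of_min (form0 P) form0_symm (fun _ => form0_pos) (convex_convexHull R _) hz hmin hmem
  rw [← pair_toM (P := P) (form0 P) z z, ← pair_toM (P := P) (form0 P) z (d b - y), map_sub] at h3
  simp only [l, map_add, map_smul, LinearMap.add_apply, LinearMap.smul_apply, smul_eq_mul, hξy] at hge
  have h4 : 0 < P.toLinearMap l₀ z := by rw [pair_toM]; exact form0_pos hzne
  linarith

/-- The origin facet. -/
lemma mem_cham_origin (b : P.Base) : b ∈ (Facet.origin P).cham :=
  (mem_cham_iff (Facet.origin P) (ξ := 0) rfl b).2 fun i _ => by simp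

lemma dualSolid_origin : dualSolid d (Facet.origin P) = solid d := by
  rw [dualSolid, Set.eq_univ_of_forall mem_cham_origin, Set.image_univ]
  rfl

lemma corners_origin : (Facet.origin P).corners = (∅ : Set M) := by
  obtain ⟨b, hb⟩ := cham_nonempty (Facet.origin P)
  rw [corners_eq hb, Set.image_eq_empty]
  ext i
  simp only [Set.mem_empty_iff_false, iff_false]
  intro h
  have h' : SignType.sign (P.coroot' (i : ι) (0 : M)) = 1 := h
  rw [map_zero, sign_zero] at h'
  exact absurd h' (by decide)

theorem semistable_iff (hd : IsCCS d) :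
    IsSemistable d ↔ ∀ (b : P.Base), ∀ m ∈ baseCorners b, P.toLinearMap m (d b) ≤ 0 := by
  rw [IsSemistable, ← dualSolid_origin, dualSolid_eq hd, corners_origin]
  constructor
  · intro h b m hm
    have h1 := Set.mem_iInter₂.1 h.2 m (Set.mem_biUnion (mem_cham_origin b) hm) b hm
    simpa using h1
  · intro h
    exact ⟨by simp, Set.mem_iInter₂.2 fun m _ b hm => by simpa using h b m hm⟩

/-! ### The degree -/

/-- The sum of the roots of the parabolic set of a facet. -/
def rho (F : Facet P) : M := ∑ k ∈ (Set.toFinite F.parab).toFinset, P.root k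

lemma deg_eq (F : Facet P) (b : P.Base) : F.deg d b = P.toLinearMap (rho F) (d b) := by
  rw [rho, map_sum, LinearMap.sum_apply]
  rfl

lemma pairing_simple_nonpos {b : P.Base} {a t : ι} (ha : a ∈ b.support) (ht : t ∈ b.support) (h : t ≠ a) :
    P.pairing t a ≤ 0 := by
  classical
  have hΔ := base_isSimpleSys b
  have ha' : a ∈ (b.support : Set ι) := by simpa using ha
  have ht' : t ∈ (b.support : Set ι) := by simpa using ht
  have hpos := refl_mem_posOf hΔ ha' (b := t) h (k := t) (by simp [coef_simple hΔ ht'])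
  have h1 := (mem_posOf_iff hΔ).1 hpos a
  rw [coef_refl hΔ ha', coef_simple hΔ ht'] at h1
  simp [h.symm] at h1
  rw [← cast_pZ]
  exact_mod_cast h1

lemma pairing_coef (b : P.Base) (k a : ι) :
    P.pairing k a = ∑ t, (coef (base_isSimpleSys b) k t : R) * P.pairing t a := by
  have h := congrArg (P.coroot' a) (root_eq_coef (base_isSimpleSys b) k)
  rw [map_sum, P.root_coroot'_eq_pairing] at h
  rw [h]
  exact Finset.sum_congr rfl fun t _ => by rw [map_zsmul, zsmul_eq_mul, P.root_coroot'_eq_pairing]

lemma pairing_levi_nonpos {b : P.Base} (hb : b ∈ F.cham) {a k : ι} (ha : a ∈ b.support)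
    (ha1 : F.sgn a = 1) (hk : F.sgn k = 0) (hkp : k ∈ RootD.posOf P (b.support : Set ι)) :
    P.pairing k a ≤ 0 := by
  rw [pairing_coef b]
  refine Finset.sum_nonpos fun t _ => ?_
  by_cases ht : t ∈ b.support
  · by_cases hta : t = a
    · subst hta; simp [coef_sgn_zero hb hk ha ha1]
    · exact mul_nonpos_iff.2 (Or.inl ⟨by exact_mod_cast (mem_posOf_iff (base_isSimpleSys b)).1 hkp t,
        pairing_simple_nonpos ha ht hta⟩)
  · simp [coef_supp (base_isSimpleSys b) k t (by simpa using ht)]

lemma sum_pos_pairing {b : P.Base} {a : ι} (ha : a ∈ b.support)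
    [DecidablePred (· ∈ RootD.posOf P (b.support : Set ι))] :
    ∑ k, (if k ∈ RootD.posOf P (b.support : Set ι) then P.pairing k a else 0) = 2 := by
  have h := pos_sum_refl (base_isSimpleSys b) (fun k => P.pairing k a) (a := a) (by simpa using ha)
  have h1 : ∀ k, P.pairing (Equiv.reflection P a • k) a = -P.pairing k a := fun k =>
    show P.root' (Equiv.reflection P a • k) (P.coroot a) = -P.root' k (P.coroot a) by
      rw [root'_refl, P.coreflection_apply_self, map_neg]
  have h2 : P.pairing (nr P a) a = -2 := by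
    rw [← refl_smul_self, h1, P.pairing_same]
  simp only [h1, h2, P.pairing_same] at h
  have h3 : ∑ j, (if j ∈ RootD.posOf P (b.support : Set ι) then -P.pairing j a else 0) =
      -∑ k, (if k ∈ RootD.posOf P (b.support : Set ι) then P.pairing k a else 0) := by
    rw [← Finset.sum_neg_distrib]
    exact Finset.sum_congr rfl fun j _ => by split_ifs <;> simp
  rw [h3] at h
  linarith

lemma rho_mem_carrier (F : Facet P) : rho F ∈ F.carrier := by
  classical
  obtain ⟨b, hb⟩ := cham_nonempty F
  have hΔ := base_isSimpleSys b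
  rw [mem_carrier_iff hb]
  intro a ha
  obtain ⟨ξ, hξ⟩ := carrier_nonempty F
  rcases sgn_simple hb ha with h1 | h0
  · rw [h1]
    refine sign_pos ?_
    have he : P.coroot' a (rho F) = ∑ k, if k ∈ F.parab then P.pairing k a else 0 := by
      rw [rho, map_sum, ← Finset.sum_filter]
      refine Finset.sum_congr (by ext; simp) fun k _ => P.root_coroot'_eq_pairing a k
    rw [he]
    have hsplit : ∀ k, (if k ∈ F.parab then P.pairing k a else 0) =
        (if k ∈ RootD.posOf P (b.support : Set ι) then P.pairing k a else 0) +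
        (if k ∈ F.parab ∧ k ∉ RootD.posOf P (b.support : Set ι) then P.pairing k a else 0) := by
      intro k
      by_cases hk : k ∈ RootD.posOf P (b.support : Set ι)
      · simp [hk, (mem_cham_iff_subset F b).1 hb hk]
      · simp [hk]
    rw [Finset.sum_congr rfl fun k _ => hsplit k, Finset.sum_add_distrib, sum_pos_pairing ha]
    have hnn : 0 ≤ ∑ k, if k ∈ F.parab ∧ k ∉ RootD.posOf P (b.support : Set ι) then P.pairing k a else 0 := by
      refine Finset.sum_nonneg fun k _ => ?_
      split_ifs with hk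
      · have hkp := (nr_mem_posOf_iff hΔ).2 hk.2
        have h2 : F.sgn (nr P k) ≠ -1 := (mem_cham_iff_subset F b).1 hb hkp
        have h3 : F.sgn k ≠ -1 := hk.1
        rw [sgn_nr] at h2
        have hk0 : F.sgn (nr P k) = 0 := by
          rw [sgn_nr]
          revert h2 h3
          generalize F.sgn k = s
          cases s <;> simp
        have h4 := pairing_levi_nonpos hb ha h1 hk0 hkp
        have h5 : P.pairing (nr P k) a = -P.pairing k a := by
          show P.toLinearMap (P.root (nr P k)) (P.coroot a) = -P.toLinearMap (P.root k) (P.coroot a)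
          rw [root_nr, map_neg, LinearMap.neg_apply]
        linarith
      · exact le_rfl
    linarith
  · rw [h0, sign_eq_zero_iff]
    have hfix : P.reflection a ξ = ξ := by
      have : P.coroot' a ξ = 0 := by rw [← sign_eq_zero_iff, ← sgn_eq F hξ, h0]
      rw [P.reflection_apply, this, zero_smul, sub_zero]
    have hinv : ∀ k, k ∈ F.parab ↔ Equiv.reflection P a • k ∈ F.parab := fun k => by
      rw [mem_parab_iff F hξ, mem_parab_iff F hξ, coroot'_refl, hfix]
    have hr : P.reflection a (rho F) = rho F := by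
      rw [rho, map_sum]
      refine Finset.sum_equiv (MulAction.toPerm (Equiv.reflection P a)) (fun k => by simpa using hinv k)
        fun k _ => ?_
      exact (P.root_reflectionPerm a k).symm
    rw [P.reflection_apply, sub_eq_self, smul_eq_zero] at hr
    exact hr.resolve_right (P.ne_zero a)

lemma rho_mem_span (F : Facet P) : rho F ∈ Submodule.span R F.corners := by
  rw [← span_carrier]; exact Submodule.subset_span (rho_mem_carrier F)

lemma deg_indep (hd : IsCCS d) {b b' : P.Base} (hb : b ∈ F.cham) (hb' : b' ∈ F.cham) :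
    F.deg d b = F.deg d b' := by
  rw [deg_eq, deg_eq, pair_eq_of_span hd hb hb' (rho_mem_span F)]

theorem deg_nonpos_of_semistable (hd : IsCCS d) (h : IsSemistable d) {b : P.Base} (hb : b ∈ F.cham) :
    F.deg d b ≤ 0 := by
  rw [deg_eq, pair_expansion b]
  refine Finset.sum_nonpos fun i _ => mul_nonpos_iff.2 (Or.inl ⟨hb (rho_mem_carrier F) i i.2, ?_⟩)
  exact (semistable_iff hd).1 h b _ (by rw [baseCorners_eq]; exact ⟨i, rfl⟩)

theorem semistable_of_deg_one (hd : IsCCS d)
    (h : ∀ (F : Facet P) (b : P.Base), F.dim = 1 → b ∈ F.cham → F.deg d b ≤ 0) : IsSemistable d := by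
  classical
  rw [semistable_iff hd]
  intro b m hm
  rw [baseCorners_eq] at hm
  obtain ⟨i, rfl⟩ := hm
  obtain ⟨G, hG, hJ⟩ := exists_facet_of_supp b {i}
  have hne : fundWeight b i ≠ 0 := (fundWeight_linearIndependent b).ne_zero i
  have hdim : G.dim = 1 := by
    rw [Facet.dim, span_carrier, corners_eq hG, hJ, Set.image_singleton, finrank_span_singleton hne]
  have h1 := h G b hdim hG
  have hcar := (mem_carrier_iff hG _).1 (rho_mem_carrier G)
  rw [deg_eq, pair_expansion b, Finset.sum_eq_single i] at h1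
  · have hi : G.sgn i = 1 := by
      have : i ∈ simpleSupp G b := by rw [hJ]; rfl
      exact this
    have hpos : 0 < P.coroot' i (rho G) := by
      have := hcar i i.2
      rwa [hi, sign_eq_one_iff] at this
    exact nonpos_of_mul_nonpos_right h1 hpos
  · intro j _ hj
    have h0 : G.sgn j = 0 := (sgn_simple hG j.2).resolve_left fun h1 => by
      have : j ∈ simpleSupp G b := h1
      rw [hJ] at this
      exact hj this
    have := hcar j j.2
    rw [h0, sign_eq_zero_iff] at this
    rw [this, zero_mul]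
  · simp

/-! ### The elementary sets -/

lemma mem_Psi_iff {b : P.Base} (hb : b ∈ F.cham) {i : b.support} (hi : i ∈ simpleSupp F b) (k : ι) :
    k ∈ F.Psi (fundWeight b i) ↔ coef (base_isSimpleSys b) k i = 1 ∧
      ∀ j ∈ simpleSupp F b, j ≠ i → coef (base_isSimpleSys b) k j = 0 := by
  constructor
  · rintro ⟨h1, h2⟩
    refine ⟨?_, fun j hj hne => ?_⟩
    · have := h1 _ ((corr_fundWeight_iff b i).2 rfl)
      rw [root'_fundCoweight_eq_coef] at this
      exact_mod_cast this
    · have := h2 (fundWeight b j) (by rw [corners_eq hb]; exact ⟨j, hj, rfl⟩)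
        (fun e => hne (fundWeight_injective b e)) _ ((corr_fundWeight_iff b j).2 rfl)
      rw [root'_fundCoweight_eq_coef] at this
      exact_mod_cast this
  · rintro ⟨h1, h2⟩
    refine ⟨fun x hx => ?_, fun m hm hne x hx => ?_⟩
    · rw [(corr_fundWeight_iff b i).1 hx, root'_fundCoweight_eq_coef, h1, Int.cast_one]
    · rw [corners_eq hb] at hm
      obtain ⟨j, hj, rfl⟩ := hm
      rw [(corr_fundWeight_iff b j).1 hx, root'_fundCoweight_eq_coef, h2 j hj (fun e => hne (by rw [e])),
        Int.cast_zero]

lemma psi_mem_span {m : M} (hm : m ∈ F.corners) :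
    (∑ k ∈ (Set.toFinite (F.Psi m)).toFinset, P.root k) ∈ Submodule.span R F.corners := by
  obtain ⟨b, hb⟩ := cham_nonempty F
  rw [corners_eq hb] at hm
  obtain ⟨i, hi, rfl⟩ := hm
  refine mem_span_corners hb fun a ha h0 => ?_
  have hne : ∀ j ∈ simpleSupp F b, (j : ι) ≠ a := fun j hj e => by
    have h1 : F.sgn j = 1 := hj
    rw [e, h0] at h1
    exact absurd h1 (by decide)
  have hinv : ∀ k, k ∈ F.Psi (fundWeight b i) ↔
      Equiv.reflection P a • k ∈ F.Psi (fundWeight b i) := by
    intro k
    have hc : ∀ j ∈ simpleSupp F b, coef (base_isSimpleSys b) (Equiv.reflection P a • k) j =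
        coef (base_isSimpleSys b) k j := fun j hj =>
      coef_refl_of_ne (base_isSimpleSys b) (by simpa using ha) (hne j hj) k
    rw [mem_Psi_iff hb hi, mem_Psi_iff hb hi, hc i hi]
    exact and_congr_right fun _ => forall₂_congr fun j hj => by rw [hc j hj]
  have hr : P.reflection a (∑ k ∈ (Set.toFinite (F.Psi (fundWeight b i))).toFinset, P.root k) =
      ∑ k ∈ (Set.toFinite (F.Psi (fundWeight b i))).toFinset, P.root k := by
    rw [map_sum]
    exact Finset.sum_equiv (MulAction.toPerm (Equiv.reflection P a)) (fun k => by simpa using hinv k)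
      fun k _ => (P.root_reflectionPerm a k).symm
  rw [P.reflection_apply, sub_eq_self, smul_eq_zero] at hr
  exact hr.resolve_right (P.ne_zero a)

lemma numInv_eq (m : M) (b : P.Base) : F.numInv d m b =
    P.toLinearMap (∑ k ∈ (Set.toFinite (F.Psi m)).toFinset, P.root k) (d b) := by
  rw [map_sum, LinearMap.sum_apply]
  rfl

lemma numInv_indep (hd : IsCCS d) {m : M} (hm : m ∈ F.corners) {b b' : P.Base} (hb : b ∈ F.cham)
    (hb' : b' ∈ F.cham) : F.numInv d m b = F.numInv d m b' := by
  rw [numInv_eq, numInv_eq, pair_eq_of_span hd hb hb' (psi_mem_span hm)]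

lemma numInv_pos_iff (hd : IsCCS d) {b : P.Base} (hb : b ∈ F.cham) {y : N} (h1 : y ∈ dualSolid d F)
    (h2 : y ∈ Submodule.span R F.dualCarrier) {i : b.support} (hi : i ∈ simpleSupp F b) {b' : P.Base}
    (hb' : b' ∈ F.cham) :
    0 < F.numInv d (fundWeight b i) b' ↔ 0 < P.root' i y := by
  classical
  have hm : fundWeight b i ∈ F.corners := by rw [corners_eq hb]; exact ⟨i, hi, rfl⟩
  rw [numInv_eq, ← pair_dualSolid hd hb' (psi_mem_span hm) h1, map_sum, LinearMap.sum_apply]
  have hval : ∀ k ∈ (Set.toFinite (F.Psi (fundWeight b i))).toFinset,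
      P.toLinearMap (P.root k) y = P.root' i y := by
    intro k hk
    obtain ⟨hk1, hk2⟩ := (mem_Psi_iff hb hi k).1 ((Set.Finite.mem_toFinset _).1 hk)
    conv_lhs => rw [root_eq_coef (base_isSimpleSys b) k]
    rw [map_sum, LinearMap.sum_apply, Finset.sum_eq_single (i : ι)]
    · rw [hk1, one_smul]
    · intro t _ hti
      by_cases ht : t ∈ b.support
      · rcases sgn_simple hb ht with h | h
        · rw [hk2 ⟨t, ht⟩ h (fun e => hti (congrArg Subtype.val e)), zero_smul, map_zero, LinearMap.zero_apply]
        · rw [map_zsmul, LinearMap.smul_apply]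
          have : P.toLinearMap (P.root t) y = 0 := root'_zero_of_span_dual h2 h
          rw [this, smul_zero]
      · rw [coef_supp (base_isSimpleSys b) k t (by simpa using ht), zero_smul, map_zero, LinearMap.zero_apply]
    · simp
  rw [Finset.sum_congr rfl hval, Finset.sum_const, nsmul_eq_mul]
  have hne : (0 : R) < ((Set.toFinite (F.Psi (fundWeight b i))).toFinset.card : R) := by
    rw [Nat.cast_pos, Finset.card_pos]
    refine ⟨i, (Set.Finite.mem_toFinset _).2 ((mem_Psi_iff hb hi i).2 ?_)⟩
    rw [coef_simple (base_isSimpleSys b) (by simp : (i : ι) ∈ (b.support : Set ι))]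
    refine ⟨by simp, fun j _ hj => ?_⟩
    rw [Pi.single_apply, if_neg fun e => hj (Subtype.ext e)]
  exact mul_pos_iff_of_pos_left hne

theorem special_iff (hd : IsCCS d) :
    ((∀ m ∈ F.corners, ∀ b ∈ F.cham, 0 < F.numInv d m b) ∧
        (dualSolid d F ∩ (Submodule.span R F.dualCarrier : Set N)).Nonempty) ↔ IsSpecial d F := by
  obtain ⟨b, hb⟩ := cham_nonempty F
  constructor
  · rintro ⟨hS, y, hy1, hy2⟩
    refine ⟨y, ?_, hy1⟩
    have hinst : P.flip.IsReduced := by
      have : Module.IsReflexive R N := .of_isPerfPair P.flip.toLinearMap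
      infer_instance
    refine (mem_carrier_iff (P := P.flip) (F := dual F) (dual_cham hb) y).2 fun i hi => ?_
    show SignType.sign (P.root' i y) = F.sgn i
    rcases sgn_simple hb hi with h | h
    · rw [h]
      exact sign_pos ((numInv_pos_iff hd hb hy1 hy2 (i := ⟨i, hi⟩) h hb).1
        (hS _ (by rw [corners_eq hb]; exact ⟨⟨i, hi⟩, h, rfl⟩) b hb))
    · rw [h, root'_zero_of_span_dual hy2 h, sign_zero]
  · rintro ⟨y, hy1, hy2⟩
    refine ⟨fun m hm b' hb' => ?_, y, hy2, Submodule.subset_span hy1⟩
    rw [corners_eq hb] at hm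
    obtain ⟨i, hi, rfl⟩ := hm
    refine (numInv_pos_iff hd hb hy2 (Submodule.subset_span hy1) hi hb').2 ?_
    have h1 : SignType.sign (P.root' (i : ι) y) = F.sgn i := congrFun hy1 (i : ι)
    rw [show F.sgn i = 1 from hi] at h1
    exact sign_eq_one_iff.1 h1

/-! ### The special facet -/

section Min

variable (B : LinearMap.BilinForm R N) (hBs : ∀ y z : N, B y z = B z y) (hBp : ∀ y : N, y ≠ 0 → 0 < B y y)
  (hBi : ∀ (i : ι) (y z : N), B (P.coreflection i y) (P.coreflection i z) = B y z)

include hBs hBp hBi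

lemma special_min (hd : IsCCS d) {y : N} (h1 : y ∈ F.dualCarrier) (h2 : y ∈ dualSolid d F) {z : N}
    (hz : z ∈ solid d) (hne : z ≠ y) : B y y < B z z := by
  obtain ⟨b, hb⟩ := cham_nonempty F
  have h3 := ccs_le_solid hd (hb (toM_mem_carrier B hBs hBp hBi h1)) hz
  rw [← pair_dualSolid hd hb (toM_mem_span_corners B hBs hBp hBi (Submodule.subset_span h1)) h2,
    pair_toM, pair_toM] at h3
  have h4 := hBp _ (sub_ne_zero.2 hne)
  simp only [map_sub, LinearMap.sub_apply] at h4
  rw [hBs z y] at h4
  linarith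

lemma special_of_min (hd : IsCCS d) {y : N} (hy : y ∈ solid d) (hmin : ∀ z ∈ solid d, B y y ≤ B z z)
    (hF : y ∈ F.dualCarrier) : y ∈ dualSolid d F := by
  rw [dualSolid_eq hd F]
  refine ⟨Set.mem_iInter₂.2 fun m hm b' hmb' => ?_,
    Set.mem_iInter₂.2 fun m _ b hmb => ccs_le_solid hd hmb.2 hy⟩
  obtain ⟨b, hb⟩ := cham_nonempty F
  set l := toM P B y
  have hl : l ∈ F.carrier := toM_mem_carrier B hBs hBp hBi hF
  have hle : P.toLinearMap l y ≤ P.toLinearMap l (d b) := by
    rw [pair_toM, pair_toM]
    exact form_le_of_min B hBs hBp (convex_convexHull R _) hy hmin (subset_convexHull R _ ⟨b, rfl⟩)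
  rw [pair_expansion b l, pair_expansion b l (d b)] at hle
  have hterm : ∀ i : b.support, P.coroot' i l * P.toLinearMap (fundWeight b i) (d b) ≤
      P.coroot' i l * P.toLinearMap (fundWeight b i) y := fun i =>
    mul_le_mul_of_nonneg_left (ccs_le_solid hd (fundWeight_mem_closedChamber b i) hy) (hb hl i i.2)
  have heq := (Finset.sum_eq_sum_iff_of_le fun i _ => hterm i).1
    (le_antisymm (Finset.sum_le_sum fun i _ => hterm i) hle)
  rw [hd.corner_eq b' b m hmb' (corners_subset_baseCorners hb hm)]
  rw [corners_eq hb] at hm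
  obtain ⟨i, hi, rfl⟩ := hm
  refine (mul_left_cancel₀ ?_ (heq i (Finset.mem_univ _))).symm
  have h1 := congrFun hl (i : ι)
  have h1' : SignType.sign (P.coroot' (i : ι) l) = 1 := h1.trans hi
  exact (sign_eq_one_iff.1 h1').ne'

end Min

theorem exists_unique_special (hd : IsCCS d) : ∃! F : Facet P, IsSpecial d F := by
  classical
  have : Finite P.Base := finite_base
  let s : Finset N := (Set.finite_range d).toFinset
  have hs' : (s : Set N) = Set.range d := by simp [s]
  have hs : s.Nonempty := by
    obtain ⟨b, -⟩ := cham_nonempty (Facet.origin P)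
    exact ⟨d b, by simp [s]⟩
  obtain ⟨y, hy, hmin⟩ := exists_min_convexHull (form0 P) form0_symm (fun _ => form0_pos) s hs
  rw [hs'] at hy hmin
  let F : Facet P := ⟨cosgnVec P y, toM P (form0 P) y,
    sgnVec_toM (form0 P) form0_symm (fun _ => form0_pos) form0_invariant y⟩
  have hys : y ∈ dualSolid d F :=
    special_of_min (form0 P) form0_symm (fun _ => form0_pos) form0_invariant hd hy hmin rfl
  refine ⟨F, ⟨y, rfl, hys⟩, ?_⟩
  rintro G ⟨z, hz1, hz2⟩
  by_contra hne
  have hzy : z ≠ y := by
    rintro rfl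
    exact hne (Facet.ext hz1.symm)
  have h1 := special_min (form0 P) form0_symm (fun _ => form0_pos) form0_invariant hd hz1 hz2 hy hzy.symm
  have h2 := hmin z (dualSolid_subset_solid hz2)
  linarith

lemma deg_special (hd : IsCCS d) {y : N} (h1 : y ∈ F.dualCarrier) (h2 : y ∈ dualSolid d F) {b : P.Base}
    (hb : b ∈ F.cham) : F.deg d b = ∑ k, max (P.root' k y) 0 := by
  classical
  rw [deg_eq, ← pair_dualSolid hd hb (rho_mem_span F) h2, rho, map_sum, LinearMap.sum_apply]
  have h : ∀ k, max (P.root' k y) 0 = if k ∈ F.parab then P.root' k y else 0 := by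
    intro k
    have hs : SignType.sign (P.root' k y) = F.sgn k := congrFun h1 k
    split_ifs with hk
    · refine max_eq_left ?_
      have : F.sgn k ≠ -1 := hk
      rw [← hs, ne_eq, sign_eq_neg_one_iff, not_lt] at this
      exact this
    · refine max_eq_right ?_
      have : F.sgn k = -1 := not_not.1 hk
      rw [← hs, sign_eq_neg_one_iff] at this
      exact this.le
  simp only [h, ← Finset.sum_filter]
  exact Finset.sum_congr (by ext; simp) fun _ _ => rfl

theorem special_max (hd : IsCCS d) {b : P.Base} (hb : b ∈ F.cham) (hF : IsSpecial d F)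
    (G : Facet P) (c : P.Base) (hc : c ∈ G.cham) :
    G.deg d c ≤ F.deg d b ∧ (G.deg d c = F.deg d b → G ≤ F) := by
  classical
  obtain ⟨y, hy1, hy2⟩ := hF
  have hle1 : G.deg d c ≤ P.toLinearMap (rho G) y := by
    rw [deg_eq]
    exact ccs_le_solid hd (hc (rho_mem_carrier G)) (dualSolid_subset_solid hy2)
  have hrho : P.toLinearMap (rho G) y = ∑ k, if k ∈ G.parab then P.root' k y else 0 := by
    rw [rho, map_sum, LinearMap.sum_apply, ← Finset.sum_filter]
    exact Finset.sum_congr (by ext; simp) fun _ _ => rfl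
  have hterm : ∀ k, (if k ∈ G.parab then P.root' k y else 0) ≤ max (P.root' k y) 0 := fun k => by
    split_ifs
    · exact le_max_left _ _
    · exact le_max_right _ _
  have hle2 : P.toLinearMap (rho G) y ≤ F.deg d b := by
    rw [hrho, deg_special hd hy1 hy2 hb]
    exact Finset.sum_le_sum fun k _ => hterm k
  refine ⟨hle1.trans hle2, fun heq => le_iff_parab.2 fun k hk => ?_⟩
  have hsum : P.toLinearMap (rho G) y = F.deg d b := le_antisymm hle2 (by linarith)
  rw [hrho, deg_special hd hy1 hy2 hb] at hsum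
  have hk' := (Finset.sum_eq_sum_iff_of_le fun k _ => hterm k).1 hsum k (Finset.mem_univ _)
  rw [if_pos hk] at hk'
  have hnn : 0 ≤ P.root' k y := hk' ▸ le_max_right _ _
  show F.sgn k ≠ -1
  rw [← show SignType.sign (P.root' k y) = F.sgn k from congrFun hy1 k, ne_eq, sign_eq_neg_one_iff, not_lt]
  exact hnn

theorem special_of_max (hd : IsCCS d) {b : P.Base} (hb : b ∈ F.cham)
    (hmax : ∀ (G : Facet P) (c : P.Base), c ∈ G.cham → G.deg d c ≤ F.deg d b)
    (hmaxl : ∀ (G : Facet P) (c : P.Base), c ∈ G.cham → G.deg d c = F.deg d b → F ≤ G → G = F) :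
    IsSpecial d F := by
  obtain ⟨S, hS, -⟩ := exists_unique_special hd
  obtain ⟨c, hc⟩ := cham_nonempty S
  obtain ⟨h1, h2⟩ := special_max hd hc hS F b hb
  have heq : F.deg d b = S.deg d c := le_antisymm h1 (hmax S c hc)
  rw [← hmaxl S c hc heq.symm (h2 heq)]
  exact hS

end RootLib
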