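/-
Frobenius-semilinear endomorphisms over algebraically closed fields.
-/
import Mathlib

open Polynomial
universe u

namespace Groth.Agent.SemilinearFrobenius


variable {p : ℕ} [hp : Fact p.Prime] {k : Type u} [Field k] [CharP k p] {V : Type u} [AddCommGroup V] [Module k V]

theorem exists_int (c : k) (hc : c ^ p = c) : ∃ z : ℤ, (z : k) = c := by
  have h := (Subfield.mem_bot_iff_pow_eq_self k p).mpr hc
  rw [← ZMod.fieldRange_castHom_eq_bot p] at h
  obtain ⟨z, rfl⟩ := h
  exact ⟨z.val, by
    rw [Int.cast_natCast]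
    show _ = ZMod.castHom dvd_rfl k z
    conv_rhs => rw [← ZMod.natCast_zmod_val z, map_natCast]⟩

theorem frob_sum (F : V →+ V) (hF : ∀ (a : k) (v : V), F (a • v) = a ^ p • F v) {ι : Type*}
    (s : Finset ι) (c : ι → k) (v : ι → V) : F (∑ i ∈ s, c i • v i) = ∑ i ∈ s, c i ^ p • F (v i) := by
  simp [map_sum, hF]

variable [IsAlgClosed k]

theorem exists_root_nonzero (m : ℕ) (a : ℕ → k) (ha : ∃ i ≤ m, a i ≠ 0) :
    ∃ x : ℕ → k, x m ≠ 0 ∧ x 0 = x m ^ p * a 0 ∧ ∀ i < m, x (i + 1) = x i ^ p + x m ^ p * a (i + 1) := by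
  have hp1 := hp.out.one_lt
  let P : ℕ → k[X] := fun i => Nat.rec (C (a 0)) (fun i Pi => Pi ^ p * X ^ (p * p - p) + C (a (i + 1))) i
  have h0 : ∀ i, (P i).coeff 0 = a i := by
    intro i
    cases i with
    | zero => simp [P]
    | succ i =>
      show ((P i) ^ p * X ^ (p * p - p) + C (a (i + 1))).coeff 0 = _
      rw [coeff_add, coeff_C_zero, coeff_mul_X_pow', if_neg, zero_add]
      have : p < p * p := by nlinarith
      omega
  have hne : P m ≠ 0 := by
    intro h
    obtain ⟨i, hi, hai⟩ := ha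
    have : ∀ j, j ≤ m → P (m - j) = 0 := by
      intro j
      induction j with
      | zero => intro _; simpa using h
      | succ j ih =>
        intro hj
        have h1 := ih (by omega)
        rw [show m - j = (m - (j + 1)) + 1 by omega] at h1
        have h2 : a (m - (j + 1) + 1) = 0 := by rw [← h0, h1, coeff_zero]
        have h3 : (P (m - (j + 1))) ^ p * X ^ (p * p - p) + C (a (m - (j + 1) + 1)) = 0 := h1
        rw [h2, map_zero, add_zero, mul_eq_zero] at h3
        exact (pow_eq_zero_iff hp.out.ne_zero).mp (h3.resolve_right (pow_ne_zero _ X_ne_zero))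
    have := this (m - i) (Nat.sub_le _ _)
    rw [show m - (m - i) = i by omega] at this
    exact hai (by rw [← h0, this, coeff_zero])
  let Q : k[X] := P m * X ^ (p - 1) - C 1
  have hQ : Q.degree ≠ 0 := by
    simp only [Q]
    rw [degree_sub_eq_left_of_degree_lt (by
      rw [degree_C one_ne_zero, degree_mul, degree_X_pow]
      calc (0 : WithBot ℕ) < ((p - 1 : ℕ) : WithBot ℕ) := by exact_mod_cast (by omega : 0 < p - 1)
        _ ≤ _ := le_add_of_nonneg_left (zero_le_degree_iff.mpr hne))]
    rw [degree_mul, degree_X_pow, degree_eq_natDegree hne]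
    norm_cast
    omega
  obtain ⟨t, ht⟩ := IsAlgClosed.exists_root Q hQ
  simp only [Q, IsRoot, eval_sub, eval_mul, eval_pow, eval_X, eval_C, sub_eq_zero] at ht
  have htp : t ^ p = t * t ^ (p - 1) := by
    rw [← pow_succ', show p - 1 + 1 = p by omega]
  refine ⟨fun i => (P i).eval t * t ^ p, ?_, ?_, fun i hi => ?_⟩
  · show (P m).eval t * t ^ p ≠ 0
    rw [htp, mul_left_comm, ht, mul_one]
    intro h0'; subst h0'
    rw [zero_pow (by omega), mul_zero] at ht
    exact zero_ne_one ht
  · have : (P m).eval t * t ^ p = t := by rw [htp, mul_left_comm, ht, mul_one]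
    show (C (a 0)).eval t * t ^ p = ((P m).eval t * t ^ p) ^ p * a 0
    rw [this, eval_C]
    ring
  · have : (P m).eval t * t ^ p = t := by rw [htp, mul_left_comm, ht, mul_one]
    simp only [this]
    show ((P i) ^ p * X ^ (p * p - p) + C (a (i + 1))).eval t * t ^ p = _
    have h2 : t ^ (p * p - p) * t ^ p = (t ^ p) ^ p := by
      rw [← pow_add, ← pow_mul, Nat.sub_add_cancel (Nat.le_mul_self p)]
    simp only [eval_add, eval_mul, eval_pow, eval_X, eval_C, mul_pow, add_mul, mul_assoc, h2]
    ring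

theorem exists_fixed_mod (F : V →+ V) (hF : ∀ (a : k) (v : V), F (a • v) = a ^ p • F v)
    [FiniteDimensional k V] (W U : Submodule k V) (hU : U ≤ W) (hFW : ∀ w ∈ W, F w ∈ W)
    (hFU : ∀ w ∈ U, F w ∈ U) (hinj : ∀ w ∈ W, F w ∈ U → w ∈ U) (hne : U ≠ W) :
    ∃ x ∈ W, x ∉ U ∧ F x - x ∈ U := by
  obtain ⟨v, hvW, hvU⟩ := SetLike.exists_of_lt (lt_of_le_of_ne hU hne)
  let M : ℕ → Submodule k V := fun n =>
    U ⊔ Submodule.span k (Set.range fun i : Fin n => F^[(i : ℕ)] v)
  have hM : Monotone M := fun a b hab => sup_le_sup_left (Submodule.span_mono (by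
    rintro _ ⟨i, rfl⟩; exact ⟨⟨i, lt_of_lt_of_le i.2 hab⟩, rfl⟩)) U
  have hex : ∃ m, F^[m] v ∈ M m := by
    obtain ⟨n, hn⟩ := monotone_stabilizes_iff_noetherian.mpr (inferInstance : IsNoetherian k V) ⟨M, hM⟩
    refine ⟨n, ?_⟩
    rw [show M n = M (n + 1) from hn (n + 1) (Nat.le_succ n)]
    exact Submodule.mem_sup_right (Submodule.subset_span ⟨⟨n, Nat.lt_succ_self n⟩, rfl⟩)
  classical
  obtain ⟨m, hm, hmin⟩ : ∃ m, F^[m + 1] v ∈ M (m + 1) ∧ F^[m] v ∉ M m := by
    have h0 : Nat.find hex ≠ 0 := by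
      intro h
      have := Nat.find_spec hex
      rw [h] at this
      exact hvU (by simpa [M] using this)
    obtain ⟨m, hm⟩ := Nat.exists_eq_succ_of_ne_zero h0
    refine ⟨m, ?_, Nat.find_min hex (by omega)⟩
    have := Nat.find_spec hex
    rwa [hm] at this
  obtain ⟨u, hu, y, hy, huy⟩ := Submodule.mem_sup.mp hm
  obtain ⟨a', ha'⟩ := (Submodule.mem_span_range_iff_exists_fun k).mp hy
  let a : ℕ → k := fun i => if h : i < m + 1 then a' ⟨i, h⟩ else 0
  have hsum : ∑ i ∈ Finset.range (m + 1), a i • F^[i] v = y := by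
    rw [← Fin.sum_univ_eq_sum_range (fun i => a i • F^[i] v) (m + 1), ← ha']
    exact Finset.sum_congr rfl fun i _ => by simp only [a]; rw [dif_pos i.2]
  have hWi : ∀ i, F^[i] v ∈ W := by
    intro i
    induction i with
    | zero => exact hvW
    | succ i ih => rw [Function.iterate_succ_apply']; exact hFW _ ih
  have ha : ∃ i ≤ m, a i ≠ 0 := by
    by_contra h
    push Not at h
    have hy0 : y = 0 := by
      rw [← hsum]
      exact Finset.sum_eq_zero fun i hi => by
        rw [h i (Nat.le_of_lt_succ (Finset.mem_range.mp hi)), zero_smul]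
    rw [hy0, add_zero, Function.iterate_succ_apply'] at huy
    exact hmin (Submodule.mem_sup_left (hinj _ (hWi m) (huy ▸ hu)))
  obtain ⟨x, hxm, hx0, hxs⟩ := exists_root_nonzero (p := p) m a ha
  let z : V := ∑ i ∈ Finset.range (m + 1), x i • F^[i] v
  refine ⟨z, W.sum_mem fun i _ => W.smul_mem _ (hWi i), fun hz => hmin ?_, ?_⟩
  · have h1 : x m • F^[m] v = z - ∑ i ∈ Finset.range m, x i • F^[i] v := by
      simp [z, Finset.sum_range_succ]
    have h2 : x m • F^[m] v ∈ M m := by
      rw [h1]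
      exact sub_mem (Submodule.mem_sup_left hz) (Submodule.mem_sup_right (Submodule.sum_mem _ fun i hi =>
        Submodule.smul_mem _ _ (Submodule.subset_span ⟨⟨i, Finset.mem_range.mp hi⟩, rfl⟩)))
    exact ((M m).smul_mem_iff hxm).mp h2
  · have h1 : F z - z = x m ^ p • u := by
      have hFz : F z = ∑ i ∈ Finset.range m, x i ^ p • F^[i + 1] v + x m ^ p • F^[m + 1] v := by
        simp only [Function.iterate_succ_apply']
        show F (∑ i ∈ Finset.range (m + 1), x i • F^[i] v) = _
        rw [frob_sum F hF, Finset.sum_range_succ]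
      have hz : z = ∑ i ∈ Finset.range m, x (i + 1) • F^[i + 1] v + x 0 • v := by
        simp only [z, Finset.sum_range_succ']
        simp
      have hy' : y = ∑ i ∈ Finset.range m, a (i + 1) • F^[i + 1] v + a 0 • v := by
        rw [← hsum, Finset.sum_range_succ']
        simp
      rw [hFz, hz, ← huy, hy', hx0]
      have : ∑ i ∈ Finset.range m, x (i + 1) • F^[i + 1] v = ∑ i ∈ Finset.range m, x i ^ p • F^[i + 1] v +
          x m ^ p • ∑ i ∈ Finset.range m, a (i + 1) • F^[i + 1] v := by
        rw [Finset.smul_sum, ← Finset.sum_add_distrib]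
        exact Finset.sum_congr rfl fun i hi => by
          rw [hxs i (Finset.mem_range.mp hi), add_smul, mul_smul]
      rw [this, smul_add, smul_add, mul_smul]
      abel
    rw [h1]
    exact U.smul_mem _ hu

theorem indep (F : V →+ V) (hF : ∀ (a : k) (v : V), F (a • v) = a ^ p • F v) (s : Finset V)
    (hs : ∀ v ∈ s, F v = v)
    (hind : ∀ c : s → ℤ, (∑ v : s, c v • (v : V)) = 0 → ∀ v : s, (p : ℤ) ∣ c v) :
    LinearIndependent k (fun v : s => (v : V)) := by
  classical
  rw [Fintype.linearIndependent_iff]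
  by_contra h
  push Not at h
  have hex : ∃ n, ∃ c : s → k, ∑ v, c v • (v : V) = 0 ∧ (∃ v, c v ≠ 0) ∧
      (Finset.univ.filter fun v => c v ≠ 0).card = n := by
    obtain ⟨c, hc, hc'⟩ := h; exact ⟨_, c, hc, hc', rfl⟩
  obtain ⟨c, hc, ⟨w, hw⟩, hn⟩ := Nat.find_spec hex
  let d : s → k := fun v => (c w)⁻¹ * c v
  have hd : ∑ v, d v • (v : V) = 0 := by
    simp only [d, mul_smul, ← Finset.smul_sum, hc, smul_zero]
  have hdw : d w = 1 := inv_mul_cancel₀ hw
  have hdp : ∑ v, (d v ^ p - d v) • (v : V) = 0 := by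
    simp only [sub_smul, Finset.sum_sub_distrib, hd, sub_zero]
    have := congrArg F hd
    rw [frob_sum F hF, map_zero] at this
    rw [← this]
    exact Finset.sum_congr rfl fun v _ => by rw [hs v v.2]
  have hall : ∀ v, d v ^ p = d v := by
    intro v
    by_contra hv
    have hlt : (Finset.univ.filter fun v => d v ^ p - d v ≠ 0).card < Nat.find hex := by
      rw [← hn]
      refine Finset.card_lt_card (Finset.ssubset_iff_subset_ne.mpr ⟨fun x hx => ?_, fun he => ?_⟩)
      · simp only [Finset.mem_filter, Finset.mem_univ, true_and] at hx ⊢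
        exact fun h0 => hx (by simp [d, h0, zero_pow hp.out.ne_zero])
      · have : w ∈ Finset.univ.filter fun v => d v ^ p - d v ≠ 0 := he ▸ by simp [hw]
        simp [hdw] at this
    exact Nat.find_min hex hlt ⟨fun v => d v ^ p - d v, hdp, ⟨v, sub_ne_zero.mpr hv⟩, rfl⟩
  choose z hz using fun v => exists_int (p := p) (d v) (hall v)
  have := hind z (by simpa [← hz, Int.cast_smul_eq_zsmul] using hd) w
  rw [← CharP.intCast_eq_zero_iff k p, hz, hdw] at this
  exact one_ne_zero this

end Groth.Agent.SemilinearFrobenius
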