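import Groth.Agent.Lib.SeqColim
import Mathlib

/-! Homological functors on homotopy colimits; colimits of complexes as homotopy colimits. -/

set_option autoImplicit false
set_option backward.isDefEq.respectTransparency.types false
set_option backward.isDefEq.respectTransparency false

universe w v u v' u'

open CategoryTheory CategoryTheory.Limits CategoryTheory.Pretriangulated
open Groth.Agent.Lib.SeqColim

noncomputable section

namespace Groth.Agent.Lib.SeqHocolim

section Comparison

variable {D : Type u} [Category.{v} D] [Preadditive D] {A : Type u'} [Category.{v'} A] [Preadditive A]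
  (G : D ⥤ A) [G.Additive] (K : ℕ → D) (f : ∀ n, K n ⟶ K (n + 1)) [HasCoproduct K]
  [HasCoproduct (fun n => G.obj (K n))]

theorem map_one_sub :
    (𝟙 (∐ fun n => G.obj (K n)) - DerLim.shiftMap (fun n => G.obj (K n)) (fun n => G.map (f n))) ≫ sigmaComparison G K =
      sigmaComparison G K ≫ G.map (𝟙 (∐ K) - DerLim.shiftMap K f) := by
  refine Sigma.hom_ext _ _ fun n => ?_
  rw [← Category.assoc, ι_one_sub, Preadditive.sub_comp, Category.assoc, ι_comp_sigmaComparison,
    ι_comp_sigmaComparison, ← Category.assoc, ι_comp_sigmaComparison, ← G.map_comp, ← G.map_comp, ι_one_sub,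
    G.map_sub]

theorem comparison_desc {L : D} (i : ∀ n, K n ⟶ L) :
    sigmaComparison G K ≫ G.map (Sigma.desc i) = Sigma.desc fun n => G.map (i n) := by
  refine Sigma.hom_ext _ _ fun n => ?_
  rw [← Category.assoc, ι_comp_sigmaComparison, ← G.map_comp, Sigma.ι_desc, Sigma.ι_desc]

end Comparison

section Coproducts

variable {A : Type u} [Category.{v} A] [Abelian A] [HasColimitsOfShape ℕ A]

/-- countable coproducts from sequential colimits -/
theorem hasCoproduct (K : ℕ → A) : HasCoproduct K := by
  refine ⟨⟨⟨Cofan.mk (colimit (F₁ K)) (fun n => last K n ≫ colimit.ι (F₁ K) n), ?_⟩⟩⟩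
  let jj : (t : Cofan K) → (n : ℕ) → (P K n ⟶ t.pt) := fun t n => Nat.rec (motive := fun n => P K n ⟶ t.pt)
    (t.inj 0) (fun m x => (biprod.desc x (t.inj (m + 1)) : P K m ⊞ K (m + 1) ⟶ t.pt)) n
  refine mkCofanColimit _ (fun t => colimit.desc (F₁ K) ⟨t.pt, NatTrans.ofSequence (jj t) (fun n => ?_)⟩) ?_ ?_
  · rw [Functor.ofSequence_map_homOfLE_succ]
    exact (biprod.inl_desc _ _).trans (Category.comp_id _).symm
  · intro t n
    show (last K n ≫ colimit.ι (F₁ K) n) ≫ _ = _
    refine ((Category.assoc _ _ _).trans (congrArg (last K n ≫ ·) (colimit.ι_desc _ _))).trans ?_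
    cases n with
    | zero => exact Category.id_comp _
    | succ n => exact biprod.inr_desc _ _
  · intro t m hm
    refine (colimit.isColimit (F₁ K)).uniq ⟨t.pt, NatTrans.ofSequence (jj t) _⟩ m fun n => ?_
    induction n with
    | zero => exact Eq.trans (Category.id_comp _).symm ((Category.assoc _ _ _).symm.trans (hm 0))
    | succ n ih =>
      refine biprod.hom_ext' _ _ ?_ ?_
      · refine Eq.trans ?_ (biprod.inl_desc (W := t.pt) _ _).symm
        refine Eq.trans ?_ ih
        have := colimit.w (F₁ K) (homOfLE (Nat.le_add_right n 1))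
        rw [Functor.ofSequence_map_homOfLE_succ] at this
        exact (Category.assoc _ _ _).symm.trans (congrArg (· ≫ m) this)
      · exact ((Category.assoc _ _ _).symm.trans (hm (n + 1))).trans (biprod.inr_desc (W := t.pt) _ _).symm

theorem hasColimitsOfShapeDiscrete : HasColimitsOfShape (Discrete ℕ) A :=
  ⟨fun F =>
    haveI : HasColimit (Discrete.functor (F.obj ∘ Discrete.mk)) := hasCoproduct (fun n => F.obj ⟨n⟩)
    hasColimit_of_iso Discrete.natIsoFunctor⟩

variable [HasExactColimitsOfShape ℕ A]

/-- short exactness for complexes -/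
theorem shortExact_complex (L : ℕ ⥤ CochainComplex A ℤ) [HasCoproduct L.obj] :
    ∃ w : (𝟙 (∐ L.obj) - DerLim.shiftMap L.obj (fun n => L.map (homOfLE (Nat.le_succ n)))) ≫
      Sigma.desc (fun n => colimit.ι L n) = 0, (ShortComplex.mk _ _ w).ShortExact := by
  refine ⟨one_sub_desc _ _ _ fun n => colimit.w L _, ?_⟩
  have hC := isCokernel L (colimit.isColimit L) (one_sub_desc _ _ _ fun n => colimit.w L _)
  haveI := hasColimitsOfShapeDiscrete (A := A)
  haveI : Mono (𝟙 (∐ L.obj) - DerLim.shiftMap L.obj (fun n => L.map (homOfLE (Nat.le_succ n)))) := by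
    refine @HomologicalComplex.mono_of_mono_f _ _ _ _ _ _ _ _ fun k => ?_
    let G := HomologicalComplex.eval A (ComplexShape.up ℤ) k
    haveI : G.Additive := inferInstance
    have h := mono_one_sub (fun n => G.obj (L.obj n)) (fun n => G.map (L.map (homOfLE (Nat.le_succ n))))
    have h' : G.map (𝟙 (∐ L.obj) - DerLim.shiftMap L.obj (fun n => L.map (homOfLE (Nat.le_succ n)))) =
        inv (sigmaComparison G L.obj) ≫ (𝟙 _ - DerLim.shiftMap (fun n => G.obj (L.obj n))
          (fun n => G.map (L.map (homOfLE (Nat.le_succ n))))) ≫ sigmaComparison G L.obj := by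
      rw [map_one_sub, IsIso.inv_hom_id_assoc]
    have h'' : Mono (G.map (𝟙 (∐ L.obj) - DerLim.shiftMap L.obj (fun n => L.map (homOfLE (Nat.le_succ n))))) := by
      rw [h']; infer_instance
    exact h''
  exact
    { exact := ShortComplex.exact_of_g_is_cokernel _ hC
      mono_f := inferInstance
      epi_g := Cofork.IsColimit.epi hC }

variable [HasDerivedCategory.{w} A]

theorem isHocolim (L : ℕ ⥤ CochainComplex A ℤ) [HasCoproduct L.obj]
    [PreservesColimit (Discrete.functor L.obj) (DerivedCategory.Q (C := A))]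
    [HasCoproduct (fun n => DerivedCategory.Q.obj (L.obj n))] :
    DerLim.IsHocolim (fun n => DerivedCategory.Q.obj (L.obj n)) (fun n => DerivedCategory.Q.map (L.map (homOfLE (Nat.le_succ n))))
      (DerivedCategory.Q.obj (colimit L)) (fun n => DerivedCategory.Q.map (colimit.ι L n)) := by
  obtain ⟨w, hS⟩ := shortExact_complex L
  let e := asIso (sigmaComparison (DerivedCategory.Q (C := A)) L.obj)
  refine ⟨(DerivedCategory.triangleOfSES hS).mor₃ ≫ (shiftFunctor _ (1 : ℤ)).map e.inv, ?_⟩
  refine isomorphic_distinguished _ (DerivedCategory.triangleOfSES_distinguished hS) _ ?_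
  refine Triangle.isoMk _ _ e e (Iso.refl _) (map_one_sub _ _ _) ?_ ?_
  · exact (Category.comp_id _).trans (comparison_desc _ _ _).symm
  · show ((DerivedCategory.triangleOfSES hS).mor₃ ≫ (shiftFunctor _ (1 : ℤ)).map e.inv) ≫ (shiftFunctor _ (1 : ℤ)).map e.hom = _
    refine (Category.assoc _ _ _).trans (Eq.trans ?_ (Category.id_comp _).symm)
    refine (congrArg ((DerivedCategory.triangleOfSES hS).mor₃ ≫ ·) ((shiftFunctor _ (1 : ℤ)).map_comp e.inv e.hom).symm).trans ?_
    refine (congrArg (fun x => (DerivedCategory.triangleOfSES hS).mor₃ ≫ (shiftFunctor _ (1 : ℤ)).map x) e.inv_hom_id).trans ?_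
    exact (congrArg ((DerivedCategory.triangleOfSES hS).mor₃ ≫ ·) ((shiftFunctor _ (1 : ℤ)).map_id _)).trans (Category.comp_id _)

end Coproducts

section Homological

variable {D : Type u} [Category.{v} D] [Preadditive D] [HasZeroObject D] [HasShift D ℤ]
  [∀ n : ℤ, (shiftFunctor D n).Additive] [Pretriangulated D] [HasColimitsOfShape (Discrete ℕ) D]
  {A : Type u'} [Category.{v'} A] [Abelian A] [HasColimitsOfShape ℕ A] [HasExactColimitsOfShape ℕ A]

theorem mono_map (G : D ⥤ A) [G.Additive] [PreservesColimitsOfShape (Discrete ℕ) G] (K : ℕ → D)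
    (f : ∀ n, K n ⟶ K (n + 1)) : Mono (G.map (𝟙 (∐ K) - DerLim.shiftMap K f)) := by
  haveI := hasColimitsOfShapeDiscrete (A := A)
  haveI := mono_one_sub (fun n => G.obj (K n)) (fun n => G.map (f n))
  have h' : G.map (𝟙 (∐ K) - DerLim.shiftMap K f) =
      inv (sigmaComparison G K) ≫ (𝟙 _ - DerLim.shiftMap (fun n => G.obj (K n)) (fun n => G.map (f n))) ≫ sigmaComparison G K := by
    rw [map_one_sub, IsIso.inv_hom_id_assoc]
  rw [h']
  infer_instance

theorem hocolim_homological (H : D ⥤ A) [H.IsHomological] [PreservesColimitsOfShape (Discrete ℕ) H]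
    (K : ℕ → D) (f : ∀ n, K n ⟶ K (n + 1)) (L : D) (i : ∀ n, K n ⟶ L) (hL : DerLim.IsHocolim K f L i) :
    ∃ e : colimit (Functor.ofSequence (fun n => H.map (f n))) ≅ H.obj L,
      ∀ n : ℕ, colimit.ι (Functor.ofSequence (fun n => H.map (f n))) n ≫ e.hom = H.map (i n) := by
  obtain ⟨c, hT⟩ := hL
  haveI := hasColimitsOfShapeDiscrete (A := A)
  let T := Triangle.mk (𝟙 (∐ K) - DerLim.shiftMap K f) (Sigma.desc i) c
  have hw : (𝟙 (∐ K) - DerLim.shiftMap K f) ≫ Sigma.desc i = 0 := comp_distTriang_mor_zero₁₂ T hT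
  have hi : ∀ n, f n ≫ i (n + 1) = i n := fun n => by
    have := (one_sub_comp_eq_zero_iff K f _).1 hw n
    rwa [Sigma.ι_desc, Sigma.ι_desc] at this
  have hex := H.map_distinguished_exact T hT
  haveI : Mono (H.map ((shiftFunctor D (1 : ℤ)).map T.mor₁)) :=
    mono_map (shiftFunctor D (1 : ℤ) ⋙ H) K f
  haveI : Epi (H.map (Sigma.desc i)) := by
    have h2 := H.map_distinguished_exact _ (rot_of_distTriang _ hT)
    have hz : H.map T.mor₃ = 0 := by
      have := congrArg H.map (comp_distTriang_mor_zero₃₁ T hT)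
      rw [H.map_comp, H.map_zero] at this
      exact zero_of_comp_mono _ this
    exact h2.epi_f hz
  let G : ℕ ⥤ A := Functor.ofSequence (fun n => H.map (f n))
  let s : Cocone G := ⟨H.obj L, NatTrans.ofSequence (fun n => H.map (i n)) (fun n => by
    rw [Functor.ofSequence_map_homOfLE_succ]
    exact ((H.map_comp _ _).symm.trans (congrArg H.map (hi n))).trans (Category.comp_id _).symm)⟩
  haveI : Epi (ShortComplex.mk _ _ ((H.map_comp _ _).symm.trans ((congrArg H.map hw).trans (H.map_zero _ _)))).g :=
    (inferInstance : Epi (H.map (Sigma.desc i)))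
  have hC := ShortComplex.Exact.gIsCokernel
    (S := ShortComplex.mk _ _ ((H.map_comp _ _).symm.trans ((congrArg H.map hw).trans (H.map_zero _ _))))
    (by exact hex)
  have key : ∀ t : Cocone G, H.map (𝟙 (∐ K) - DerLim.shiftMap K f) ≫
      inv (sigmaComparison H K) ≫ Sigma.desc (fun n => t.ι.app n) = 0 := fun t => by
    rw [← cancel_epi (sigmaComparison H K), ← Category.assoc, ← map_one_sub, Category.assoc, IsIso.hom_inv_id_assoc,
      comp_zero]
    refine one_sub_desc _ _ _ fun n => ?_
    have := t.w (homOfLE (Nat.le_add_right n 1))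
    rwa [Functor.ofSequence_map_homOfLE_succ] at this
  have hs : IsColimit s :=
    { desc := fun t => hC.desc (CokernelCofork.ofπ _ (key t))
      fac := fun t n => by
        have h1 : H.map (Sigma.desc i) ≫ hC.desc (CokernelCofork.ofπ _ (key t)) =
            inv (sigmaComparison H K) ≫ Sigma.desc (fun n => t.ι.app n) :=
          hC.fac (CokernelCofork.ofπ _ (key t)) WalkingParallelPair.one
        show H.map (i n) ≫ _ = _
        rw [← Sigma.ι_desc i n, H.map_comp, Category.assoc, h1, ← ι_comp_sigmaComparison, Category.assoc,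
          IsIso.hom_inv_id_assoc, Sigma.ι_desc]
      uniq := fun t m hm => by
        refine Cofork.IsColimit.hom_ext hC ?_
        refine Eq.trans ?_ (hC.fac (CokernelCofork.ofπ _ (key t)) WalkingParallelPair.one).symm
        show H.map (Sigma.desc i) ≫ m = inv (sigmaComparison H K) ≫ Sigma.desc (fun n => t.ι.app n)
        rw [← cancel_epi (sigmaComparison H K), IsIso.hom_inv_id_assoc]
        refine Sigma.hom_ext _ _ fun n => ?_
        rw [Sigma.ι_desc, ← Category.assoc, ι_comp_sigmaComparison, ← Category.assoc, ← H.map_comp, Sigma.ι_desc]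
        exact hm n }
  exact ⟨(colimit.isColimit G).coconePointUniqueUpToIso hs, fun n =>
    (colimit.isColimit G).comp_coconePointUniqueUpToIso_hom hs n⟩

end Homological

end Groth.Agent.Lib.SeqHocolim
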