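/-
smooth lifting along nil ideals; small Jacobson algebras
-/
import Mathlib

open TensorProduct Cardinal

universe u

namespace Groth.Agent.SmoothLiftJacobson


theorem algebraic_quot {k T σ : Type u} [Field k] [CommRing T] [Algebra k T]
    (f : MvPolynomial σ k →ₐ[k] T) (hf : Function.Surjective f) (hσ : Finite σ ∨ #σ < #k)
    (n : Ideal T) [n.IsMaximal] : Algebra.IsAlgebraic k (T ⧸ n) := by
  letI := Ideal.Quotient.field n
  let g : MvPolynomial σ k →ₐ[k] T ⧸ n := (Ideal.Quotient.mkₐ k n).comp f
  have hg : Function.Surjective g := Ideal.Quotient.mk_surjective.comp hf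
  by_cases hfin : Finite σ
  · haveI : Algebra.FiniteType k (T ⧸ n) :=
      Algebra.FiniteType.of_surjective g hg
    haveI : Module.Finite k (T ⧸ n) := finite_of_finite_type_of_isJacobsonRing k (T ⧸ n)
    exact Algebra.IsAlgebraic.of_finite k (T ⧸ n)
  · haveI : Infinite σ := not_finite_iff_infinite.mp hfin
    have hlt : #σ < #k := hσ.resolve_left hfin
    refine ⟨fun x => ?_⟩
    by_contra hx
    have h1 := (Transcendental.linearIndependent_sub_inv (F := k) (x := x) hx).cardinal_le_rank
    have h2 : Module.rank k (T ⧸ n) ≤ #(σ →₀ ℕ) := by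
      refine (g.toLinearMap.rank_le_of_surjective hg).trans ?_
      rw [← (MvPolynomial.basisMonomials σ k).mk_eq_rank'']
    rw [Cardinal.mk_finsupp_nat] at h2
    have h3 : max #σ ℵ₀ = #σ := max_eq_left (Cardinal.aleph0_le_mk σ)
    rw [h3] at h2
    exact absurd (lt_of_le_of_lt (h1.trans h2) hlt) (lt_irrefl _)

end Groth.Agent.SmoothLiftJacobson
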