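import Mathlib

/-! Finite type and finite presentation descend along smooth faithfully flat algebras (source descent). -/

universe u

open TensorProduct

namespace Groth.Agent.SourceDescent

variable (R A B : Type u) [CommRing R] [CommRing A] [CommRing B] [Algebra R A] [Algebra A B]

/-- A smooth faithfully flat algebra has a smooth faithfully flat model over a finitely generated subring. -/
theorem exists_model [Algebra.Smooth A B] [Module.FaithfullyFlat A B] :
    ∃ (A₀ : Subalgebra ℤ A) (B₀ : Type u) (_ : CommRing B₀) (_ : Algebra A₀ B₀),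
      A₀.FG ∧ Algebra.Smooth A₀ B₀ ∧ Module.FaithfullyFlat A₀ B₀ ∧ Nonempty (B ≃ₐ[A] A ⊗[A₀] B₀) := by
  obtain ⟨A₀, B₀, _, _, hfg, hsm, ⟨e⟩⟩ := Algebra.Smooth.exists_subalgebra_fg ℤ A B
  have : Module.Flat A₀ B₀ := inferInstance
  obtain ⟨J, hJ⟩ := (PrimeSpectrum.isClosed_iff_zeroLocus _).1
    ((PrimeSpectrum.isOpenMap_comap_of_hasGoingDown_of_finitePresentation
      (R := A₀) (S := B₀) _ isOpen_univ).isClosed_compl)
  have hJA : Ideal.span (algebraMap A₀ A '' J) = ⊤ := by
    by_contra hne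
    obtain ⟨m, hm, hle⟩ := Ideal.exists_le_maximal _ hne
    obtain ⟨q, hq⟩ := PrimeSpectrum.comap_surjective_of_faithfullyFlat (A := A) (B := B) ⟨m, hm.isPrime⟩
    let g : B₀ →+* B := (e.symm : A ⊗[A₀] B₀ →+* B).comp Algebra.TensorProduct.includeRight.toRingHom
    have hg : g.comp (algebraMap A₀ B₀) = (algebraMap A B).comp (algebraMap A₀ A) := by
      ext x
      change e.symm (1 ⊗ₜ algebraMap A₀ B₀ x) = algebraMap A B (algebraMap A₀ A x)
      rw [← e.symm.commutes, Algebra.TensorProduct.algebraMap_apply]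
      congr 1
      simp only [Algebra.algebraMap_self, RingHom.id_apply]
      rw [Algebra.TensorProduct.tmul_one_eq_one_tmul]
    have h₁ : PrimeSpectrum.comap (algebraMap A₀ A) ⟨m, hm.isPrime⟩ ∈
        PrimeSpectrum.comap (algebraMap A₀ B₀) '' Set.univ :=
      ⟨PrimeSpectrum.comap g q, trivial, by
        rw [← hq, ← PrimeSpectrum.comap_comp_apply, ← PrimeSpectrum.comap_comp_apply, hg]⟩
    have h₂ : PrimeSpectrum.comap (algebraMap A₀ A) ⟨m, hm.isPrime⟩ ∈ PrimeSpectrum.zeroLocus J := by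
      intro x hx
      exact hle (Ideal.subset_span ⟨x, hx, rfl⟩)
    rw [← hJ] at h₂
    exact h₂ h₁
  obtain ⟨c, hc⟩ := (Finsupp.mem_span_image_iff_linearCombination A).1
    (show (1 : A) ∈ Submodule.span A (algebraMap A₀ A '' J) from (Ideal.eq_top_iff_one _).1 hJA)
  let A₁ : Subalgebra ℤ A := A₀ ⊔ Algebra.adjoin ℤ (Set.range fun x : c.support => c x)
  have hle : A₀ ≤ A₁ := le_sup_left
  letI : Algebra A₀ A₁ := (Subalgebra.inclusion hle).toRingHom.toAlgebra
  haveI : IsScalarTower A₀ A₁ A := IsScalarTower.of_algebraMap_eq fun _ => rfl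
  refine ⟨A₁, A₁ ⊗[A₀] B₀, inferInstance, inferInstance, ?_, inferInstance, ?_,
    ⟨e.trans (Algebra.TensorProduct.cancelBaseChange A₀ A₁ A A B₀).symm⟩⟩
  · exact hfg.sup (Subalgebra.fg_def.2 ⟨_, Set.finite_range _, rfl⟩)
  refine Module.FaithfullyFlat.of_comap_surjective fun p => ?_
  have hp : PrimeSpectrum.comap (algebraMap A₀ A₁) p ∈ PrimeSpectrum.comap (algebraMap A₀ B₀) '' Set.univ := by
    by_contra hcon
    have hcon' : PrimeSpectrum.comap (algebraMap A₀ A₁) p ∈
        (PrimeSpectrum.comap (algebraMap A₀ B₀) '' Set.univ)ᶜ := hcon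
    rw [hJ] at hcon'
    apply p.2.ne_top
    rw [Ideal.eq_top_iff_one]
    have h1 : (1 : A₁) = ∑ x ∈ c.support.attach,
        (⟨c x.1, (le_sup_right : _ ≤ A₁) (Algebra.subset_adjoin ⟨x, rfl⟩)⟩ : A₁) * algebraMap A₀ A₁ x.1 := by
      apply Subtype.ext
      rw [AddSubmonoidClass.coe_finset_sum, OneMemClass.coe_one]
      refine hc.2.symm.trans ?_
      rw [Finsupp.linearCombination_apply, Finsupp.sum, ← Finset.sum_attach]
      rfl
    rw [h1]
    exact Ideal.sum_mem _ fun x _ => Ideal.mul_mem_left _ _ (hcon' (hc.1 x.2))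
  obtain ⟨q, -, hq⟩ := hp
  obtain ⟨Ω, _, i₁, i₂, hi⟩ : ∃ (Ω : Type u) (_ : Field Ω) (i₁ : A₁ →+* Ω) (i₂ : B₀ →+* Ω),
      RingHom.ker i₁ = p.asIdeal ∧ i₁.comp (algebraMap A₀ A₁) = i₂.comp (algebraMap A₀ B₀) := by
    letI := p.asIdeal
    have h : q.asIdeal.comap (algebraMap A₀ B₀) = p.asIdeal.comap (algebraMap A₀ A₁) := congrArg (·.asIdeal) hq
    let k := PrimeSpectrum.comap (algebraMap A₀ A₁) p
    let f₁ : k.asIdeal.ResidueField →+* p.asIdeal.ResidueField :=
      Ideal.ResidueField.map k.asIdeal p.asIdeal (algebraMap A₀ A₁) rfl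
    let f₂ : k.asIdeal.ResidueField →+* q.asIdeal.ResidueField :=
      Ideal.ResidueField.map k.asIdeal q.asIdeal (algebraMap A₀ B₀) h.symm
    letI := f₁.toAlgebra
    letI := f₂.toAlgebra
    haveI : Nontrivial (p.asIdeal.ResidueField ⊗[k.asIdeal.ResidueField] q.asIdeal.ResidueField) :=
      Algebra.TensorProduct.nontrivial_of_algebraMap_injective_of_isDomain _ _ _
        f₁.injective f₂.injective
    obtain ⟨M, hM⟩ := Ideal.exists_maximal
      (p.asIdeal.ResidueField ⊗[k.asIdeal.ResidueField] q.asIdeal.ResidueField)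
    let j₁ : p.asIdeal.ResidueField →+* _ :=
      (Ideal.Quotient.mk M).comp Algebra.TensorProduct.includeLeftRingHom
    let j₂ : q.asIdeal.ResidueField →+* _ := (Ideal.Quotient.mk M).comp
      (Algebra.TensorProduct.includeRight (R := k.asIdeal.ResidueField)
        (A := p.asIdeal.ResidueField) (B := q.asIdeal.ResidueField)).toRingHom
    have hj : j₁.comp f₁ = j₂.comp f₂ := by
      refine RingHom.ext fun x => ?_
      change Ideal.Quotient.mk M (algebraMap _ p.asIdeal.ResidueField x ⊗ₜ 1) =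
        Ideal.Quotient.mk M (1 ⊗ₜ algebraMap _ q.asIdeal.ResidueField x)
      rw [Algebra.TensorProduct.tmul_one_eq_one_tmul]
    refine ⟨_, Ideal.Quotient.field M, j₁.comp (algebraMap A₁ _), j₂.comp (algebraMap B₀ _), ?_, ?_⟩
    · rw [RingHom.ker_comp_of_injective _ j₁.injective, Ideal.ker_algebraMap_residueField]
    · ext x
      have := congr($hj (algebraMap A₀ k.asIdeal.ResidueField x))
      simp only [RingHom.coe_comp, Function.comp_apply, f₁, f₂] at this
      erw [Ideal.ResidueField.map_algebraMap, Ideal.ResidueField.map_algebraMap] at this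
      exact this
  letI : Algebra A₀ Ω := (i₁.comp (algebraMap A₀ A₁)).toAlgebra
  let ψ : A₁ ⊗[A₀] B₀ →ₐ[A₀] Ω := Algebra.TensorProduct.productMap
    ⟨i₁, fun _ => rfl⟩ ⟨i₂, fun r => congr($(hi.2.symm) r)⟩
  refine ⟨PrimeSpectrum.comap ψ.toRingHom ⟨⊥, Ideal.isPrime_bot⟩, PrimeSpectrum.ext ?_⟩
  rw [← hi.1]
  ext a
  change ψ (a ⊗ₜ 1) = 0 ↔ i₁ a = 0
  simp [ψ]

theorem finiteType_of_smooth [Algebra R B] [IsScalarTower R A B] [Algebra.Smooth A B]
    [Module.FaithfullyFlat A B] [Algebra.FiniteType R B] : Algebra.FiniteType R A := by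
  obtain ⟨A₀, B₀, _, _, hfg, -, hff, ⟨e⟩⟩ := exists_model A B
  obtain ⟨s, hs⟩ := Algebra.FiniteType.out (R := R) (A := B)
  choose t ht using fun x : s => TensorProduct.exists_finset (e x)
  obtain ⟨g, hg⟩ := hfg
  classical
  let T : Finset A := g ∪ s.attach.biUnion fun x => (t x).image Prod.fst
  let A₁ := Algebra.adjoin R (T : Set A)
  suffices A₁ = ⊤ from ⟨⟨T, this⟩⟩
  have h₀ : ∀ x : A₀, (x : A) ∈ A₁ := fun x => by
    obtain ⟨y, hy⟩ := x
    have hx : y ∈ Algebra.adjoin ℤ (g : Set A) := hg ▸ hy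
    change y ∈ A₁
    clear hy
    induction hx using Algebra.adjoin_induction with
    | mem y hy => exact Algebra.subset_adjoin (Finset.mem_union_left _ hy)
    | algebraMap r => simpa using A₁.intCast_mem r
    | add _ _ _ _ h₁ h₂ => exact A₁.add_mem h₁ h₂
    | mul _ _ _ _ h₁ h₂ => exact A₁.mul_mem h₁ h₂
  let M : Submodule A₀ A :=
    { A₁.toSubmodule.toAddSubmonoid with smul_mem' := fun r a ha => A₁.mul_mem (h₀ r) ha }
  suffices hsurj : Function.Surjective (M.subtype.rTensor B₀) by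
    have := (Module.FaithfullyFlat.lTensor_surjective_iff_surjective A₀ B₀ M.subtype).1
      ((LinearMap.lTensor_surj_iff_rTensor_surj B₀ M.subtype).2 hsurj)
    rw [eq_top_iff]
    intro a _
    obtain ⟨⟨b, hb⟩, rfl⟩ := this a
    exact hb
  have hmem : ∀ (a : A) (b : B₀), a ∈ A₁ → a ⊗ₜ[A₀] b ∈ LinearMap.range (M.subtype.rTensor B₀) :=
    fun a b ha => ⟨(⟨a, ha⟩ : M) ⊗ₜ b, rfl⟩
  let C : Subalgebra R (A ⊗[A₀] B₀) :=
    { carrier := LinearMap.range (M.subtype.rTensor B₀)
      mul_mem' := by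
        rintro _ _ ⟨x, rfl⟩ ⟨y, rfl⟩
        induction x using TensorProduct.induction_on with
        | zero => simp
        | add x₁ x₂ h₁ h₂ => rw [map_add, add_mul]; exact Submodule.add_mem _ h₁ h₂
        | tmul a b =>
          induction y using TensorProduct.induction_on with
          | zero => simp
          | add y₁ y₂ h₁ h₂ => rw [map_add, mul_add]; exact Submodule.add_mem _ h₁ h₂
          | tmul a' b' =>
            simp only [LinearMap.rTensor_tmul, Algebra.TensorProduct.tmul_mul_tmul]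
            exact hmem _ _ (A₁.mul_mem a.2 a'.2)
      add_mem' := fun hx hy => Submodule.add_mem _ hx hy
      algebraMap_mem' := fun r => hmem _ _ (A₁.algebraMap_mem r) }
  let φ : B →ₐ[R] A ⊗[A₀] B₀ := (e : B →ₐ[A] A ⊗[A₀] B₀).restrictScalars R
  have hC : C.comap φ = ⊤ := by
    rw [eq_top_iff, ← hs, Algebra.adjoin_le_iff]
    intro x hx
    change e x ∈ C
    rw [ht ⟨x, hx⟩]
    refine sum_mem fun i hi => hmem _ _ (Algebra.subset_adjoin (Finset.mem_union_right _ ?_))
    exact Finset.mem_biUnion.2 ⟨⟨x, hx⟩, Finset.mem_attach _ _, Finset.mem_image_of_mem _ hi⟩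
  intro z
  obtain ⟨b, rfl⟩ := e.surjective z
  have : b ∈ C.comap φ := hC ▸ Algebra.mem_top
  exact this

theorem ker_fg_aux {A₀ B₀ Q : Type u} [CommRing A₀] [CommRing B₀] [CommRing Q] [Algebra A₀ A]
    [Algebra A₀ B₀] [Algebra A₀ Q] [Module.FaithfullyFlat A₀ B₀] [Algebra.FinitePresentation A₀ B₀]
    [Algebra R Q] [Algebra.FinitePresentation R Q] [Algebra.FinitePresentation R (A ⊗[A₀] B₀)]
    (πR : Q →ₐ[R] A) (hπ : Function.Surjective πR)
    (hc : ∀ r, πR (algebraMap A₀ Q r) = algebraMap A₀ A r) : (RingHom.ker πR.toRingHom).FG := by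
  let π : Q →ₐ[A₀] A := { πR.toRingHom with commutes' := hc }
  have : Algebra.FinitePresentation R (Q ⊗[A₀] B₀) := Algebra.FinitePresentation.trans R Q (Q ⊗[A₀] B₀)
  let fT : Q ⊗[A₀] B₀ →ₐ[R] A ⊗[A₀] B₀ :=
    { (Algebra.TensorProduct.map π (AlgHom.id A₀ B₀)).toRingHom with
      commutes' := fun r => by
        change Algebra.TensorProduct.map π (AlgHom.id A₀ B₀) (algebraMap R Q r ⊗ₜ 1) = algebraMap R A r ⊗ₜ 1
        rw [Algebra.TensorProduct.map_tmul]
        exact congrArg (· ⊗ₜ[A₀] (1 : B₀)) (πR.commutes r) }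
  have hfT : Function.Surjective fT :=
    Algebra.TensorProduct.map_surjective π (AlgHom.id A₀ B₀) hπ Function.surjective_id
  have h1 : RingHom.ker fT.toRingHom = (RingHom.ker π).map (algebraMap Q (Q ⊗[A₀] B₀)) :=
    Algebra.TensorProduct.rTensor_ker (C := B₀) π hπ
  exact Ideal.FG.of_FG_map_of_faithfullyFlat (S := Q ⊗[A₀] B₀) (I := RingHom.ker π)
    (h1 ▸ Algebra.FinitePresentation.ker_fG_of_surjective fT hfT)

theorem finitePresentation_of_smooth [Algebra R B] [IsScalarTower R A B] [Algebra.Smooth A B]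
    [Module.FaithfullyFlat A B] [Algebra.FinitePresentation R B] : Algebra.FinitePresentation R A := by
  have hft : Algebra.FiniteType R A := finiteType_of_smooth R A B
  obtain ⟨n, φ, hφ⟩ := Algebra.FiniteType.iff_quotient_mvPolynomial''.1 hft
  obtain ⟨A₀, B₀, _, _, hfg, hsm, hff, ⟨e⟩⟩ := exists_model A B
  have : Algebra.FiniteType ℤ A₀ := (Subalgebra.fg_iff_finiteType A₀).1 hfg
  have : Algebra.FinitePresentation ℤ A₀ := Algebra.FinitePresentation.of_finiteType.1 this
  obtain ⟨m, ψ, hψ, hker⟩ := Algebra.FinitePresentation.out (R := ℤ) (A := A₀)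
  choose c hc using fun i => hφ (ψ (MvPolynomial.X i) : A)
  let χ : MvPolynomial (Fin m) ℤ →ₐ[ℤ] MvPolynomial (Fin n) R := MvPolynomial.aeval c
  have hχ : ∀ z, φ (χ z) = (ψ z : A) := fun z => by
    induction z using MvPolynomial.induction_on with
    | C r => simp [χ]
    | add p q hp hq => simp [hp, hq]
    | mul_X p i hp => simp [hp, χ, hc]
  let I₀ : Ideal (MvPolynomial (Fin n) R) := Ideal.map χ.toRingHom (RingHom.ker ψ.toRingHom)
  have hI₀ : I₀.FG := hker.map _
  have hI₀φ : I₀ ≤ RingHom.ker φ.toRingHom := Ideal.map_le_iff_le_comap.2 fun z hz => by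
    change φ (χ z) = 0
    rw [hχ, show ψ z = 0 from hz, ZeroMemClass.coe_zero]
  let Q := MvPolynomial (Fin n) R ⧸ I₀
  let j : A₀ →+* Q := RingHom.liftOfSurjective ψ.toRingHom hψ ⟨(Ideal.Quotient.mk I₀).comp χ.toRingHom,
    fun z hz => Ideal.Quotient.eq_zero_iff_mem.2 (Ideal.mem_map_of_mem _ hz)⟩
  have hj : ∀ z, j (ψ z) = Ideal.Quotient.mk I₀ (χ z) := fun z =>
    RingHom.liftOfRightInverse_comp_apply _ _ _ _ z
  letI : Algebra A₀ Q := j.toAlgebra
  haveI : Algebra.FinitePresentation R Q := Algebra.FinitePresentation.quotient hI₀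
  let πR : Q →ₐ[R] A := Ideal.Quotient.liftₐ I₀ φ fun a ha => hI₀φ ha
  have hπ : Function.Surjective πR := Ideal.Quotient.lift_surjective_of_surjective I₀ _ hφ
  haveI : Algebra.FinitePresentation R (A ⊗[A₀] B₀) :=
    Algebra.FinitePresentation.equiv (e.restrictScalars R)
  refine Algebra.FinitePresentation.of_surjective hπ
    (ker_fg_aux R A (A₀ := A₀) (B₀ := B₀) πR hπ fun r => ?_)
  obtain ⟨z, rfl⟩ := hψ r
  change πR (j (ψ z)) = (ψ z : A)
  rw [hj]
  exact hχ z

end Groth.Agent.SourceDescent
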