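/-
Symbolic powers under flat maps with prime extended ideal
-/
import Mathlib
import Groth.Agent.Lib.TorsionFreeEmbed

open TensorProduct Groth.Agent.TorsionFreeEmbed

universe u

namespace Groth.Agent.SymbolicPowerFlat


theorem smul_quot_inj {R S : Type u} [CommRing R] [CommRing S] [Algebra R S] {p : Ideal R}
    [(p.map (algebraMap R S)).IsPrime] {t : S} (ht : t ∉ p.map (algebraMap R S))
    (w : S ⊗[R] (R ⧸ p)) (hw : t • w = 0) : w = 0 := by
  let e := Algebra.TensorProduct.quotIdealMapEquivTensorQuot S p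
  have h1 : t • e.symm w = 0 := by rw [← map_smul, hw, map_zero]
  rw [Algebra.smul_def] at h1
  have h2 : e.symm w = 0 := (mul_eq_zero.mp h1).resolve_left
    (fun h => ht (Ideal.Quotient.eq_zero_iff_mem.mp h))
  simpa using congrArg e h2

theorem comap_map_eq_of_flat {R S : Type u} [CommRing R] [CommRing S] [Algebra R S] [Module.Flat R S]
    (p : Ideal R) [p.IsPrime] [hq : (p.map (algebraMap R S)).IsPrime] :
    (p.map (algebraMap R S)).comap (algebraMap R S) = p := by
  refine le_antisymm (fun s hs => ?_) Ideal.le_comap_map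
  by_contra hsp
  let f : (R ⧸ p) →ₗ[R] (R ⧸ p) := LinearMap.lsmul R (R ⧸ p) s
  have hf : Function.Injective f := by
    rw [← LinearMap.ker_eq_bot, LinearMap.ker_eq_bot']
    intro x hx
    have : (Ideal.Quotient.mk p s) * x = 0 := by
      simpa [f, Algebra.smul_def] using hx
    exact (mul_eq_zero.mp this).resolve_left (fun h => hsp (Ideal.Quotient.eq_zero_iff_mem.mp h))
  let e := Algebra.TensorProduct.quotIdealMapEquivTensorQuot S p
  have h0 : f.lTensor S (1 ⊗ₜ (1 : R ⧸ p)) = f.lTensor S 0 := by
    rw [map_zero, LinearMap.lTensor_tmul]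
    simp only [f, LinearMap.lsmul_apply]
    rw [← TensorProduct.smul_tmul, Algebra.smul_def, mul_one]
    have : e.symm ((algebraMap R S s) ⊗ₜ (1 : R ⧸ p)) = 0 := by
      rw [show (algebraMap R S s) ⊗ₜ[R] (1 : R ⧸ p) = algebraMap S (S ⊗[R] (R ⧸ p)) (algebraMap R S s) from rfl,
        AlgEquiv.commutes]
      exact Ideal.Quotient.eq_zero_iff_mem.mpr hs
    simpa using congrArg e this
  have h1 := Module.Flat.lTensor_preserves_injective_linearMap f hf h0
  have h2 : (Ideal.Quotient.mk (p.map (algebraMap R S)) 1) = 0 := by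
    have := congrArg e.symm h1
    rwa [← Algebra.TensorProduct.one_def, map_one, map_zero] at this
  exact hq.one_notMem (Ideal.Quotient.eq_zero_iff_mem.mp h2)

theorem smul_tensor_inj {R S : Type u} [CommRing R] [CommRing S] [Algebra R S] [Module.Flat R S]
    (p : Ideal R) [p.IsPrime] [(p.map (algebraMap R S)).IsPrime] {M : Type u} [AddCommGroup M] [Module R M]
    [Module (R ⧸ p) M] [IsScalarTower R (R ⧸ p) M] [Module.IsTorsionFree (R ⧸ p) M]
    {t : S} (ht : t ∉ p.map (algebraMap R S)) (z : S ⊗[R] M) (hz : t • z = 0) : z = 0 := by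
  classical
  obtain ⟨N, hN, hzN⟩ := TensorProduct.exists_finite_submodule_right_of_setFinite {z} (Set.finite_singleton z)
  obtain ⟨s, hs⟩ := Module.Finite.iff_fg.mp hN
  let N' : Submodule (R ⧸ p) M := Submodule.span (R ⧸ p) (s : Set M)
  haveI : Module.Finite (R ⧸ p) N' := Module.Finite.iff_fg.mpr ⟨s, rfl⟩
  let i : N' →ₗ[R] M := N'.subtype.restrictScalars R
  have hle : LinearMap.range N.subtype ≤ LinearMap.range i := by
    rintro x ⟨⟨x, hx⟩, rfl⟩
    rw [← hs] at hx
    exact ⟨⟨x, Submodule.span_le_restrictScalars R (R ⧸ p) _ hx⟩, rfl⟩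
  have hrange : ∀ v, N.subtype.lTensor S v ∈ LinearMap.range (i.lTensor S) := by
    intro v
    induction v with
    | zero => simp
    | tmul a b =>
      obtain ⟨c, hc⟩ := hle ⟨b, rfl⟩
      exact ⟨a ⊗ₜ c, by simp [hc]⟩
    | add a b ha hb => rw [map_add]; exact add_mem ha hb
  obtain ⟨v, hv⟩ := hzN rfl
  obtain ⟨w, hw⟩ := hrange v
  rw [hv] at hw
  subst hw
  obtain ⟨k, f, hf⟩ := torsionFree_embed (R := R ⧸ p) (M := N')
  let g : N' →ₗ[R] (Fin k → R ⧸ p) := f.restrictScalars R
  have hinj := Module.Flat.lTensor_preserves_injective_linearMap (M := S) i Subtype.val_injective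
  have hginj := Module.Flat.lTensor_preserves_injective_linearMap (M := S) g hf
  have htw : t • w = 0 := hinj (by
    rw [map_zero, ← hz]
    exact (TensorProduct.AlgebraTensorModule.lTensor S S i).map_smul t w)
  have hg0 : g.lTensor S w = 0 := by
    have hsum : g = ∑ j, (LinearMap.single R (fun _ => R ⧸ p) j).comp ((LinearMap.proj j).comp g) := by
      ext x j
      simp [LinearMap.sum_apply, Finset.sum_pi_single']
    have hj : ∀ j, ((LinearMap.proj j).comp g).lTensor S w = 0 := fun j =>
      smul_quot_inj ht _ (by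
        show t • (TensorProduct.AlgebraTensorModule.lTensor S S ((LinearMap.proj j).comp g)) w = 0
        rw [← map_smul, htw, map_zero])
    rw [hsum, ← LinearMap.coe_lTensorHom, map_sum, LinearMap.sum_apply]
    simp only [LinearMap.coe_lTensorHom]
    exact Finset.sum_eq_zero fun j _ => by rw [LinearMap.lTensor_comp, LinearMap.comp_apply, hj j, map_zero]
  rw [hginj (hg0.trans (map_zero _).symm), map_zero]

abbrev sp {R : Type u} [CommRing R] (p : Ideal R) [p.IsPrime] (n : ℕ) : Ideal R :=
  ((p ^ n).map (algebraMap R (Localization.AtPrime p))).comap (algebraMap R (Localization.AtPrime p))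

theorem mem_sp {R : Type u} [CommRing R] {p : Ideal R} [p.IsPrime] {n : ℕ} {x : R} :
    x ∈ sp p n ↔ ∃ s, s ∉ p ∧ s * x ∈ p ^ n := by
  rw [Ideal.mem_comap, IsLocalization.algebraMap_mem_map_algebraMap_iff p.primeCompl]
  rfl

theorem exists_pre {R S : Type u} [CommRing R] [CommRing S] [Algebra R S] (I : Ideal R) {y : S}
    (hy : y ∈ I.map (algebraMap R S)) :
    ∃ z : S ⊗[R] I, (AlgebraTensorModule.rid R S S) (AlgebraTensorModule.lTensor S S I.subtype z) = y := by
  let μ := (AlgebraTensorModule.rid R S S).toLinearMap ∘ₗ AlgebraTensorModule.lTensor S S I.subtype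
  have : I.map (algebraMap R S) ≤ LinearMap.range μ := by
    rw [Ideal.map, Ideal.span_le]
    rintro _ ⟨x, hx, rfl⟩
    exact ⟨1 ⊗ₜ ⟨x, hx⟩, by simp [μ, Algebra.smul_def]⟩
  exact this hy

theorem mem_of_pre {R S : Type u} [CommRing R] [CommRing S] [Algebra R S] (I : Ideal R) (z : S ⊗[R] I) :
    (AlgebraTensorModule.rid R S S) (AlgebraTensorModule.lTensor S S I.subtype z) ∈ I.map (algebraMap R S) := by
  induction z with
  | zero => simp
  | tmul a b =>
    simpa [Algebra.smul_def] using Ideal.mul_mem_right a _ (Ideal.mem_map_of_mem _ b.2)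
  | add a b ha hb => rw [map_add, map_add]; exact add_mem ha hb

theorem cancel_sp {R S : Type u} [CommRing R] [CommRing S] [Algebra R S] [Module.Flat R S]
    (p : Ideal R) [p.IsPrime] [(p.map (algebraMap R S)).IsPrime] {t : S} (ht : t ∉ p.map (algebraMap R S)) :
    ∀ (n : ℕ) (y : S), t * y ∈ (sp p n).map (algebraMap R S) → y ∈ (sp p n).map (algebraMap R S) := by
  intro n
  induction n with
  | zero => intro y _; simp [sp, Ideal.map_top]
  | succ n ih =>
    intro y hy
    have hle : sp p (n + 1) ≤ sp p n :=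
      Ideal.comap_mono (Ideal.map_mono (Ideal.pow_le_pow_right n.le_succ))
    have hy0 := ih y (Ideal.map_mono hle hy)
    obtain ⟨z, hz⟩ := exists_pre _ hy0
    obtain ⟨z', hz'⟩ := exists_pre _ hy
    let J : Submodule R (sp p n) := Submodule.comap (Submodule.subtype (sp p n)) (sp p (n + 1))
    let incl : (sp p (n + 1)) →ₗ[R] (sp p n) := Submodule.inclusion hle
    have hexact : Function.Exact incl J.mkQ := by
      intro x
      constructor
      · intro hx
        exact ⟨⟨x, (Submodule.Quotient.mk_eq_zero J).mp hx⟩, rfl⟩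
      · rintro ⟨a, rfl⟩
        exact (Submodule.Quotient.mk_eq_zero J).mpr a.2
    have hμinj : Function.Injective (fun w => (AlgebraTensorModule.rid R S S)
        (AlgebraTensorModule.lTensor S S (sp p n).subtype w)) :=
      (AlgebraTensorModule.rid R S S).injective.comp
        (Module.Flat.lTensor_preserves_injective_linearMap (M := S) _ Subtype.val_injective)
    have hcomp : ∀ w, AlgebraTensorModule.lTensor S S (sp p n).subtype (AlgebraTensorModule.lTensor S S incl w) =
        AlgebraTensorModule.lTensor S S (sp p (n + 1)).subtype w := by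
      intro w
      induction w with
      | zero => simp
      | tmul a b => simp [incl]
      | add a b ha hb => simp only [map_add, ha, hb]
    have htz : t • z = AlgebraTensorModule.lTensor S S incl z' := hμinj (by
      simp only [hcomp, hz', map_smul, hz, smul_eq_mul])
    have hp : Module.IsTorsionBySet R ((sp p n) ⧸ J) p := by
      rintro x ⟨a, ha⟩
      obtain ⟨⟨x, hx⟩, rfl⟩ := J.mkQ_surjective x
      obtain ⟨s, hs, hsx⟩ := mem_sp.mp hx
      refine (Submodule.Quotient.mk_eq_zero J).mpr (mem_sp.mpr ⟨s, hs, ?_⟩)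
      show s * (a * x) ∈ _
      rw [mul_left_comm, pow_succ']
      exact Ideal.mul_mem_mul ha hsx
    letI := hp.module
    haveI : IsScalarTower R (R ⧸ p) ((sp p n) ⧸ J) := hp.isScalarTower
    haveI : Module.IsTorsionFree (R ⧸ p) ((sp p n) ⧸ J) := by
      refine ⟨fun {r} hr => ?_⟩
      obtain ⟨r, rfl⟩ := Ideal.Quotient.mk_surjective r
      have hrp : r ∉ p := fun h => hr.ne_zero (Ideal.Quotient.eq_zero_iff_mem.mpr h)
      refine isSMulRegular_iff_right_eq_zero_of_smul.mpr fun x hx => ?_
      obtain ⟨⟨x, hx'⟩, rfl⟩ := J.mkQ_surjective x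
      rw [Module.IsTorsionBySet.mk_smul] at hx
      obtain ⟨s, hs, hsx⟩ := mem_sp.mp ((Submodule.Quotient.mk_eq_zero J).mp hx)
      refine (Submodule.Quotient.mk_eq_zero J).mpr (mem_sp.mpr ⟨s * r, ?_, ?_⟩)
      · exact Ideal.IsPrime.mul_notMem inferInstance hs hrp
      · show s * r * x ∈ _
        simpa [mul_assoc] using hsx
    have h0 : AlgebraTensorModule.lTensor S S J.mkQ z = 0 := by
      refine smul_tensor_inj p ht _ ?_
      rw [← map_smul, htz]
      exact congrFun (congrArg DFunLike.coe ((LinearMap.lTensor_comp S J.mkQ incl).symm.trans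
        (by rw [hexact.linearMap_comp_eq_zero, LinearMap.lTensor_zero]))) z'
    obtain ⟨w, hw⟩ := ((lTensor_exact S hexact J.mkQ_surjective) z).mp h0
    rw [← hz, show z = AlgebraTensorModule.lTensor S S incl w from hw.symm, hcomp]
    exact mem_of_pre _ w

end Groth.Agent.SymbolicPowerFlat
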