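/-
Leading coefficients of a Todd-class product.
-/
import Mathlib.NumberTheory.Bernoulli
import Mathlib.NumberTheory.ZetaValues
import Mathlib.RingTheory.PowerSeries.Exp
import Mathlib.RingTheory.PowerSeries.Inverse
import Mathlib.RingTheory.PowerSeries.NoZeroDivisors
import Mathlib.Algebra.Polynomial.Degree.Lemmas

set_option autoImplicit false

open PowerSeries Finset

namespace ToddCoeff

noncomputable abbrev B : ℚ⟦X⟧ := bernoulli'PowerSeries ℚ

lemma coeff_B (i : ℕ) : coeff i B = bernoulli' i / (Nat.factorial i : ℚ) := by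
  simp [B, bernoulli'PowerSeries, coeff_mk]

lemma const_B : constantCoeff B = 1 := by
  rw [← coeff_zero_eq_constantCoeff_apply, coeff_B]
  simp [bernoulli'_zero]

lemma const_rescale_B (c : ℚ) : constantCoeff (rescale c B) = 1 := by
  rw [← coeff_zero_eq_constantCoeff_apply, coeff_rescale, coeff_B]
  simp [bernoulli'_zero]

/-- Reflection of the Bernoulli series. -/
lemma rescale_neg_mul_exp (c : ℚ) : rescale (-c) B * rescale c (exp ℚ) = rescale c B := by
  have hee : rescale (-c) (exp ℚ) * rescale c (exp ℚ) = 1 := by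
    rw [exp_mul_exp_eq_exp_add, neg_add_cancel, rescale_zero]
    simp
  rcases eq_or_ne c 0 with rfl | hc
  · rw [neg_zero, rescale_zero]
    simp [const_B]
  have h1 := congrArg (rescale c) (bernoulli'PowerSeries_mul_exp_sub_one ℚ)
  have h2 := congrArg (rescale (-c)) (bernoulli'PowerSeries_mul_exp_sub_one ℚ)
  simp only [map_mul, map_sub, map_one, rescale_X, map_neg] at h1 h2
  have hne : rescale c (exp ℚ) - 1 ≠ 0 := fun h => by
    have := congrArg (coeff 1) h
    rw [map_sub, coeff_rescale, coeff_exp, coeff_one] at this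
    simp at this
    exact hc this
  refine mul_right_cancel₀ hne ?_
  have h3 : rescale (-c) B * (rescale c (exp ℚ) - 1) = C c * X := by
    linear_combination (-(rescale c (exp ℚ))) * h2 + (rescale (-c) B + C c * X) * hee
  rw [h1, mul_comm (rescale (-c) B), mul_assoc, h3]
  ring

/-- The factor which does not depend on the variable. -/
noncomputable def Q (n : ℕ) (d t : ℚ) : ℚ⟦X⟧ := (rescale (-d) B)⁻¹ * B ^ (n + 1) * rescale t (exp ℚ)

lemma split (n : ℕ) (d P e : ℚ) :
    (rescale (-d) B)⁻¹ * rescale (-P) B * B ^ (n + 1) * rescale (P + e) (exp ℚ) = rescale P B * Q n d e := by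
  rw [← exp_mul_exp_eq_exp_add, Q, ← rescale_neg_mul_exp P]
  ring

lemma coeff_one_pow' (f : ℚ⟦X⟧) (hf : constantCoeff f = 1) : ∀ m : ℕ, coeff 1 (f ^ m) = m * coeff 1 f
  | 0 => by simp [coeff_one]
  | m + 1 => by
    rw [pow_succ, coeff_one_mul, coeff_one_pow' f hf m, map_pow, hf, one_pow]
    push_cast; ring

lemma Q_zero (n : ℕ) (d e : ℚ) : coeff 0 (Q n d e) = 1 := by
  rw [coeff_zero_eq_constantCoeff_apply, Q]
  simp [map_mul, map_pow, constantCoeff_inv, const_rescale_B, const_B, rescale]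

lemma Q_one (n : ℕ) (d e : ℚ) : coeff 1 (Q n d e) = d / 2 + (n + 1) / 2 + e := by
  have h0 := const_rescale_B (-d)
  have hmul : rescale (-d) B * (rescale (-d) B)⁻¹ = 1 := PowerSeries.mul_inv_cancel _ (by rw [h0]; exact one_ne_zero)
  have h1 := congrArg (coeff 1) hmul
  have hi : constantCoeff (rescale (-d) B)⁻¹ = 1 := by rw [constantCoeff_inv, h0, inv_one]
  have he : constantCoeff (rescale e (exp ℚ)) = 1 := by
    rw [← coeff_zero_eq_constantCoeff_apply, coeff_rescale, coeff_exp]; simp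
  have hb : coeff 1 B = 1 / 2 := by rw [coeff_B]; simp [bernoulli'_one]
  rw [coeff_one_mul, h0, hi, coeff_one, coeff_rescale, hb] at h1
  norm_num at h1
  rw [Q, coeff_one_mul, coeff_one_mul, map_mul, map_pow, hi, he, const_B, coeff_one_pow' _ const_B, hb, coeff_rescale, coeff_exp]
  push_cast
  simp only [pow_one, one_pow, mul_one, Nat.factorial_one, Nat.cast_one, div_one, map_one]
  linarith

/-- The coefficient as a polynomial in the variable, with its two leading terms. -/
theorem main (n : ℕ) (d : ℚ) (e : ℚ) (hn : 2 ≤ n) :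
    ∃ P : Polynomial ℚ, P.natDegree ≤ n - 2 ∧ ∀ x : ℚ,
      coeff n ((rescale (-d) B)⁻¹ * rescale (-(d * x)) B * B ^ (n + 1) * rescale (d * x + e) (exp ℚ)) =
        bernoulli' n * (d * x) ^ n / (Nat.factorial n : ℚ) +
          (d / 2 + (n + 1) / 2 + e) * bernoulli' (n - 1) * (d * x) ^ (n - 1) / (Nat.factorial (n - 1) : ℚ) + P.eval x := by
  refine ⟨∑ i ∈ range (n - 1), Polynomial.C (bernoulli' i / (Nat.factorial i : ℚ) * d ^ i * coeff (n - i) (Q n d e)) * Polynomial.X ^ i,
    Polynomial.natDegree_sum_le_of_forall_le _ _ fun i hi => (Polynomial.natDegree_C_mul_X_pow_le _ i).trans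
      (by have := Finset.mem_range.1 hi; omega), fun x => ?_⟩
  rw [split, coeff_mul, Finset.Nat.sum_antidiagonal_eq_sum_range_succ (fun i j => coeff i (rescale (d * x) B) * coeff j (Q n d e)) n,
    Finset.sum_range_succ, show (range n) = range (n - 1 + 1) by rw [show n - 1 + 1 = n by omega], Finset.sum_range_succ,
    Nat.sub_self, Q_zero, show n - (n - 1) = 1 by omega, Q_one, Polynomial.eval_finsetSum]
  simp only [coeff_rescale, coeff_B, Polynomial.eval_mul, Polynomial.eval_C, Polynomial.eval_pow, Polynomial.eval_X]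
  rw [Finset.sum_congr rfl fun i _ => show (d * x) ^ i * (bernoulli' i / (Nat.factorial i : ℚ)) * coeff (n - i) (Q n d e) =
    bernoulli' i / (Nat.factorial i : ℚ) * d ^ i * coeff (n - i) (Q n d e) * x ^ i by rw [mul_pow]; ring]
  ring

/-- A negative leading term wins. -/
lemma eventually_neg (P : Polynomial ℚ) (m : ℕ) (hP : P.natDegree < m) (L : ℚ) (hL : L < 0) :
    ∃ N : ℕ, ∀ p : ℕ, N ≤ p → L * (p : ℚ) ^ m + P.eval (p : ℚ) < 0 := by
  obtain ⟨K, hK⟩ : ∃ K : ℚ, K = ∑ i ∈ range m, |P.coeff i| := ⟨_, rfl⟩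
  obtain ⟨N, hN⟩ := exists_nat_gt (K / -L)
  refine ⟨N + 1, fun p hp => ?_⟩
  have hp1 : (1 : ℚ) ≤ p := by exact_mod_cast (show 1 ≤ p by omega)
  have h1 : P.eval (p : ℚ) ≤ K * (p : ℚ) ^ (m - 1) := by
    rw [Polynomial.eval_eq_sum_range' hP, hK, Finset.sum_mul]
    refine Finset.sum_le_sum fun i hi => ?_
    calc P.coeff i * (p : ℚ) ^ i ≤ |P.coeff i| * (p : ℚ) ^ i := mul_le_mul_of_nonneg_right (le_abs_self _) (by positivity)
      _ ≤ |P.coeff i| * (p : ℚ) ^ (m - 1) :=
          mul_le_mul_of_nonneg_left (pow_le_pow_right₀ hp1 (by have := Finset.mem_range.1 hi; omega)) (abs_nonneg _)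
  have h2 : K / -L < p := lt_of_lt_of_le hN (by exact_mod_cast (show N ≤ p by omega))
  rw [div_lt_iff₀ (neg_pos.2 hL)] at h2
  have h3 : (p : ℚ) ^ m = (p : ℚ) ^ (m - 1) * p := by rw [← pow_succ]; congr 1; omega
  have h4 : (0 : ℚ) < (p : ℚ) ^ (m - 1) := by positivity
  rw [h3]
  nlinarith [mul_lt_mul_of_pos_right h2 h4]

lemma bernoulli'_sign (k : ℕ) (hk : k ≠ 0) : 0 < (-1 : ℚ) ^ (k + 1) * bernoulli' (2 * k) := by
  rw [← bernoulli_eq_bernoulli'_of_ne_one (by omega)]
  have h := hasSum_zeta_nat hk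
  have hpos : (0 : ℝ) < (-1 : ℝ) ^ (k + 1) * 2 ^ (2 * k - 1) * Real.pi ^ (2 * k) * bernoulli (2 * k) / (2 * k).factorial := by
    rw [← h.tsum_eq]
    exact h.summable.tsum_pos (fun i => by positivity) 1 (by norm_num)
  have hA : (0 : ℝ) < 2 ^ (2 * k - 1) * Real.pi ^ (2 * k) / (2 * k).factorial := by
    have := Real.pi_pos; positivity
  have h2 : (0 : ℝ) < (((-1 : ℚ) ^ (k + 1) * bernoulli (2 * k) : ℚ) : ℝ) := by
    push_cast
    refine (mul_pos_iff_of_pos_left hA).1 (hpos.trans_eq ?_)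
    ring
  exact_mod_cast h2

lemma neg_of_mod_four {n : ℕ} (hn : n % 4 = 0) (h0 : n ≠ 0) : bernoulli' n < 0 := by
  have h := bernoulli'_sign (n / 2) (by omega)
  rw [show 2 * (n / 2) = n by omega, Odd.neg_one_pow ⟨n / 4, by omega⟩] at h
  linarith

lemma pos_of_mod_four {n : ℕ} (hn : n % 4 = 2) : 0 < bernoulli' n := by
  have h := bernoulli'_sign (n / 2) (by omega)
  rw [show 2 * (n / 2) = n by omega, Even.neg_one_pow ⟨n / 4 + 1, by omega⟩] at h
  linarith

/-- The coefficient is eventually negative in each of the three residue classes. -/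
theorem neg_eventually (n : ℕ) (d e : ℚ) (hn : 2 ≤ n) (hd : 0 < d)
    (h : n % 4 = 0 ∨ (n % 4 = 1 ∧ 0 < d / 2 + (n + 1) / 2 + e) ∨ (n % 4 = 3 ∧ d / 2 + (n + 1) / 2 + e < 0)) :
    ∃ N : ℕ, ∀ p : ℕ, N ≤ p →
      coeff n ((rescale (-d) B)⁻¹ * rescale (-(d * p)) B * B ^ (n + 1) * rescale (d * p + e) (exp ℚ)) < 0 := by
  obtain ⟨P, hP, hval⟩ := main n d e hn
  set q := d / 2 + ((n : ℚ) + 1) / 2 + e with hq
  have hfac : ∀ m : ℕ, (0 : ℚ) < (Nat.factorial m : ℚ) := fun m => by exact_mod_cast Nat.factorial_pos m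
  rcases h with h | h
  · obtain ⟨N, hN⟩ := eventually_neg (P + Polynomial.C (q * bernoulli' (n - 1) * d ^ (n - 1) / (Nat.factorial (n - 1) : ℚ)) * Polynomial.X ^ (n - 1))
      n (lt_of_le_of_lt (Polynomial.natDegree_add_le _ _) (max_lt (by omega)
        (lt_of_le_of_lt (Polynomial.natDegree_C_mul_X_pow_le _ _) (by omega))))
      (bernoulli' n * d ^ n / (Nat.factorial n : ℚ))
      (div_neg_of_neg_of_pos (mul_neg_of_neg_of_pos (neg_of_mod_four h (by omega)) (pow_pos hd n)) (hfac n))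
    refine ⟨N, fun p hp => ?_⟩
    refine lt_of_eq_of_lt ?_ (hN p hp)
    rw [hval]
    simp only [Polynomial.eval_add, Polynomial.eval_mul, Polynomial.eval_C, Polynomial.eval_pow, Polynomial.eval_X]
    ring
  · have hodd : bernoulli' n = 0 := bernoulli'_eq_zero_of_odd (Nat.odd_iff.2 (by omega)) (by omega)
    have hneg : q * bernoulli' (n - 1) < 0 := by
      rcases h with ⟨h, h'⟩ | ⟨h, h'⟩
      · exact mul_neg_of_pos_of_neg h' (neg_of_mod_four (by omega) (by omega))
      · exact mul_neg_of_neg_of_pos h' (pos_of_mod_four (by omega))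
    obtain ⟨N, hN⟩ := eventually_neg P (n - 1) (by omega) (q * bernoulli' (n - 1) * d ^ (n - 1) / (Nat.factorial (n - 1) : ℚ))
      (div_neg_of_neg_of_pos (mul_neg_of_neg_of_pos hneg (pow_pos hd _)) (hfac _))
    refine ⟨N, fun p hp => ?_⟩
    refine lt_of_eq_of_lt ?_ (hN p hp)
    rw [hval, hodd]
    ring

end ToddCoeff
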