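import Mathlib

/-!
Orthogonality of alternants at roots of unity: the vanishing of a twisted Schur pairing.
-/

namespace Groth.Agent.Verlinde

open Complex Finset

variable {r : ℕ}

/-- The `j`-th point attached to an exponent. -/
noncomputable def e1 (n : ℕ) (x : ℂ) : ℂ := exp (2 * Real.pi * I * x / n)

lemma e1_add (n : ℕ) (x y : ℂ) : e1 n (x + y) = e1 n x * e1 n y := by
  rw [e1, e1, e1, ← exp_add, mul_add, add_div]

lemma e1_zero (n : ℕ) : e1 n 0 = 1 := by simp [e1]

lemma e1_sum (n : ℕ) {ι : Type*} (s : Finset ι) (f : ι → ℂ) :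
    e1 n (∑ i ∈ s, f i) = ∏ i ∈ s, e1 n (f i) := by
  classical
  induction s using Finset.induction_on with
  | empty => simp [e1_zero]
  | insert a s ha ih => rw [Finset.sum_insert ha, Finset.prod_insert ha, e1_add, ih]

lemma e1_int_mul (n : ℕ) (hn : n ≠ 0) (a : ℤ) : e1 n ((a : ℂ) * n) = 1 := by
  have hn' : (n : ℂ) ≠ 0 := Nat.cast_ne_zero.2 hn
  rw [e1, exp_eq_one_iff]
  exact ⟨a, by field_simp⟩

lemma e1_pow (n : ℕ) (x : ℂ) (a : ℕ) : e1 n x ^ a = e1 n (x * a) := by
  rw [e1, e1, ← exp_nat_mul]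
  congr 1
  ring

lemma e1_eq_one_iff (n : ℕ) (hn : n ≠ 0) (a : ℤ) : e1 n (a : ℂ) = 1 ↔ (n : ℤ) ∣ a := by
  have hn' : (n : ℂ) ≠ 0 := Nat.cast_ne_zero.2 hn
  constructor
  · intro h
    obtain ⟨c, hc⟩ := exp_eq_one_iff.1 h
    refine ⟨c, ?_⟩
    have hp : (2 * (Real.pi : ℂ) * I) ≠ 0 := by simp [Real.pi_ne_zero, I_ne_zero]
    have : (a : ℂ) = (n : ℂ) * c := by
      field_simp at hc
      exact hc
    exact_mod_cast this
  · rintro ⟨c, rfl⟩
    have := e1_int_mul n hn c
    push_cast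
    rwa [mul_comm]

/-- The alternant. -/
noncomputable def alt (n : ℕ) (μ : Fin r → ℕ) (v : Fin r → ℤ) : ℂ :=
  (Matrix.of fun i j : Fin r => e1 n ((μ i : ℂ) * (v j : ℂ))).det

/-- The summand. -/
noncomputable def T (n : ℕ) (c : ℂ) (m m' : Fin r → ℕ) (v : Fin r → ℤ) : ℂ :=
  e1 n (-(c * ∑ j, (v j : ℂ))) * alt n m v * alt n m' v

variable {n : ℕ} {c : ℂ} {m m' : Fin r → ℕ}

lemma alt_perm (μ : Fin r → ℕ) (v : Fin r → ℤ) (σ : Equiv.Perm (Fin r)) :
    alt n μ (v ∘ σ) = (Equiv.Perm.sign σ : ℤ) * alt n μ v := by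
  unfold alt
  rw [← Matrix.det_permute' σ (Matrix.of fun i j : Fin r => e1 n ((μ i : ℂ) * (v j : ℂ)))]
  rfl

lemma T_perm (v : Fin r → ℤ) (σ : Equiv.Perm (Fin r)) : T n c m m' (v ∘ σ) = T n c m m' v := by
  rw [T, T, alt_perm, alt_perm]
  have h1 : ∑ j, ((v ∘ σ) j : ℂ) = ∑ j, (v j : ℂ) := Equiv.sum_comp σ fun j => (v j : ℂ)
  have h2 : ((Equiv.Perm.sign σ : ℤ) : ℂ) * ((Equiv.Perm.sign σ : ℤ) : ℂ) = 1 := by
    rcases Int.units_eq_one_or (Equiv.Perm.sign σ) with h | h <;> simp [h]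
  rw [h1]
  linear_combination (e1 n (-(c * ∑ j, (v j : ℂ))) * alt n m v * alt n m' v) * h2

lemma alt_add_const (μ : Fin r → ℕ) (v : Fin r → ℤ) (t : ℤ) :
    alt n μ (fun j => v j + t) = e1 n ((∑ i, (μ i : ℂ)) * t) * alt n μ v := by
  unfold alt
  rw [Finset.sum_mul, e1_sum, ← Matrix.det_mul_column (fun i => e1 n ((μ i : ℂ) * (t : ℂ)))
    (Matrix.of fun i j : Fin r => e1 n ((μ i : ℂ) * (v j : ℂ)))]
  congr 1
  ext i j
  simp only [Matrix.of_apply, ← e1_add]
  congr 1
  push_cast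
  ring

lemma T_add_const (hc : ∑ i, (m i : ℂ) + ∑ i, (m' i : ℂ) = c * r) (v : Fin r → ℤ) (t : ℤ) :
    T n c m m' (fun j => v j + t) = T n c m m' v := by
  rw [T, T, alt_add_const, alt_add_const]
  have h : e1 n (-(c * ∑ j, ((v j + t : ℤ) : ℂ))) * e1 n ((∑ i, (m i : ℂ)) * t) *
      e1 n ((∑ i, (m' i : ℂ)) * t) = e1 n (-(c * ∑ j, (v j : ℂ))) := by
    rw [← e1_add, ← e1_add]
    congr 1
    push_cast
    rw [Finset.sum_add_distrib, Finset.sum_const, Finset.card_univ, Fintype.card_fin, nsmul_eq_mul]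
    linear_combination (t : ℂ) * hc
  linear_combination (alt n m v * alt n m' v) * h

lemma T_update (hn : n ≠ 0) (v : Fin r → ℤ) (a : Fin r) :
    T n c m m' (Function.update v a (v a + n)) = e1 n (-(c * n)) * T n c m m' v := by
  have halt : ∀ μ : Fin r → ℕ, alt n μ (Function.update v a (v a + n)) = alt n μ v := by
    intro μ
    unfold alt
    congr 1
    ext i j
    simp only [Matrix.of_apply]
    by_cases h : j = a
    · subst h
      rw [Function.update_self]
      push_cast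
      rw [mul_add, e1_add]
      have := e1_int_mul n hn (μ i)
      push_cast at this
      rw [this, mul_one]
    · rw [Function.update_of_ne h]
  rw [T, T, halt, halt]
  have hs : ∑ j, ((Function.update v a (v a + n) j : ℤ) : ℂ) = ∑ j, (v j : ℂ) + n := by
    rw [← Finset.add_sum_erase _ _ (Finset.mem_univ a),
      ← Finset.add_sum_erase _ (fun j => (v j : ℂ)) (Finset.mem_univ a), Function.update_self,
      Finset.sum_congr rfl fun j hj => by rw [Function.update_of_ne (Finset.ne_of_mem_erase hj)]]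
    push_cast
    ring
  rw [hs, mul_add, neg_add, e1_add]
  ring

lemma T_eq_zero_of_not_injective (v : Fin r → ℤ) (h : ¬ Function.Injective v) :
    T n c m m' v = 0 := by
  simp only [Function.Injective, not_forall] at h
  obtain ⟨i, j, hv, hij⟩ := h
  rw [T, alt, Matrix.det_zero_of_column_eq hij fun k => by simp [hv], mul_zero, zero_mul]

lemma T_expand (v : Fin r → ℤ) : T n c m m' v = ∑ σ : Equiv.Perm (Fin r), ∑ τ : Equiv.Perm (Fin r),
    ((Equiv.Perm.sign σ : ℤ) : ℂ) * ((Equiv.Perm.sign τ : ℤ) : ℂ) *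
      ∏ j, e1 n (((m (σ j) : ℂ) + (m' (τ j) : ℂ) - c) * (v j : ℂ)) := by
  rw [T, mul_assoc, alt, alt, Matrix.det_apply', Matrix.det_apply', Finset.sum_mul_sum,
    Finset.mul_sum]
  refine Finset.sum_congr rfl fun σ _ => ?_
  rw [Finset.mul_sum]
  refine Finset.sum_congr rfl fun τ _ => ?_
  simp only [Matrix.of_apply]
  have : ∏ j, e1 n (((m (σ j) : ℂ) + (m' (τ j) : ℂ) - c) * (v j : ℂ)) =
      e1 n (-(c * ∑ j, (v j : ℂ))) * (∏ j, e1 n ((m (σ j) : ℂ) * v j)) *
        (∏ j, e1 n ((m' (τ j) : ℂ) * v j)) := by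
    rw [← e1_sum, ← e1_sum, ← e1_sum, ← e1_add, ← e1_add, Finset.mul_sum, ← Finset.sum_neg_distrib,
      ← Finset.sum_add_distrib, ← Finset.sum_add_distrib]
    congr 1
    exact Finset.sum_congr rfl fun j _ => by ring
  rw [this]
  ring

/-- Strictly decreasing tuples in `[0, n)` ending with `0`. -/
noncomputable def W (m0 n : ℕ) : Finset (Fin (m0 + 2) → Fin n) :=
  univ.filter fun v => StrictAnti v ∧ (v (Fin.last (m0 + 1)) : ℕ) = 0

/-- The rotation of a tuple. -/
def rot {m0 n : ℕ} (w : Fin (m0 + 2) → Fin n) : Fin (m0 + 2) → ℕ :=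
  Fin.cons (n - w (Fin.last m0).castSucc) fun i => (w i.castSucc : ℕ) - w (Fin.last m0).castSucc

theorem sum_W_eq_zero_of_twist {m0 : ℕ} {m m' : Fin (m0 + 2) → ℕ} (hn : n ≠ 0)
    (hc : ∑ i, (m i : ℂ) + ∑ i, (m' i : ℂ) = c * ((m0 + 2 : ℕ) : ℂ))
    (hζ : e1 n (-(c * n)) ≠ 1) :
    ∑ w ∈ W m0 n, T n c m m' (fun j => ((w j : ℕ) : ℤ)) = 0 := by
  have hprop : ∀ w ∈ W m0 n, StrictAnti w ∧ (w (Fin.last (m0 + 1)) : ℕ) = 0 := fun w hw =>
    (Finset.mem_filter.1 hw).2
  have ht0 : ∀ w ∈ W m0 n, 0 < (w (Fin.last m0).castSucc : ℕ) := fun w hw => by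
    have := Fin.lt_def.1 ((hprop w hw).1 (Fin.castSucc_lt_last (Fin.last m0)))
    omega
  have hge : ∀ w ∈ W m0 n, ∀ i : Fin (m0 + 1),
      (w (Fin.last m0).castSucc : ℕ) ≤ (w i.castSucc : ℕ) := fun w hw i =>
    Fin.le_def.1 ((hprop w hw).1.antitone (Fin.castSucc_le_castSucc_iff.2 (Fin.le_last i)))
  have hlt : ∀ w ∈ W m0 n, ∀ j, rot w j < n := by
    intro w hw j
    refine Fin.cases ?_ (fun i => ?_) j
    · simp only [rot, Fin.cons_zero]
      have := ht0 w hw
      omega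
    · simp only [rot, Fin.cons_succ]
      have := (w i.castSucc).2
      omega
  let R : (w : Fin (m0 + 2) → Fin n) → w ∈ W m0 n → Fin (m0 + 2) → Fin n :=
    fun w hw j => ⟨rot w j, hlt w hw j⟩
  have hmem : ∀ w hw, R w hw ∈ W m0 n := by
    intro w hw
    refine Finset.mem_filter.2 ⟨Finset.mem_univ _, Fin.strictAnti_iff_succ_lt.2 fun i => ?_, ?_⟩
    · refine Fin.cases ?_ (fun j => ?_) i
      · rw [Fin.lt_def]
        simp only [R]
        simp only [rot, Fin.castSucc_zero, Fin.cons_zero, Fin.cons_succ]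
        have := (w (0 : Fin (m0 + 1)).castSucc).2
        have := ht0 w hw
        have := (w (Fin.last m0).castSucc).2
        omega
      · rw [Fin.lt_def]
        simp only [R]
        simp only [rot, ← Fin.succ_castSucc, Fin.cons_succ]
        have h1 : (w j.succ.castSucc : ℕ) < (w j.castSucc.castSucc : ℕ) :=
          Fin.lt_def.1 ((hprop w hw).1 (Fin.castSucc_lt_castSucc_iff.2 Fin.castSucc_lt_succ))
        have := hge w hw j.succ
        rw [← Fin.succ_castSucc] at h1 this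
        omega
    · simp only [R]
      rw [← Fin.succ_last, rot, Fin.cons_succ, Nat.sub_self]
  have hT : ∀ w (hw : w ∈ W m0 n), T n c m m' (fun j => ((R w hw j : ℕ) : ℤ)) =
      e1 n (-(c * n)) * T n c m m' (fun j => ((w j : ℕ) : ℤ)) := by
    intro w hw
    set t : ℕ := (w (Fin.last m0).castSucc : ℕ) with ht
    rw [← T_update hn _ (Fin.last (m0 + 1)), ← T_perm (Function.update (fun j => ((w j : ℕ) : ℤ))
        (Fin.last (m0 + 1)) (((w (Fin.last (m0 + 1)) : ℕ) : ℤ) + n)) (finRotate (m0 + 2)).symm,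
      ← T_add_const (c := c) (m := m) (m' := m') hc (fun j => ((R w hw j : ℕ) : ℤ)) t]
    congr 1
    funext j
    simp only [Function.comp_apply, R]
    refine Fin.cases ?_ (fun i => ?_) j
    · have e : (finRotate (m0 + 2)).symm 0 = Fin.last (m0 + 1) := by
        rw [Equiv.symm_apply_eq, finRotate_apply, Fin.last_add_one]
      rw [e, Function.update_self, (hprop w hw).2]
      simp only [rot, Fin.cons_zero]
      have := (w (Fin.last m0).castSucc).2
      omega
    · have e : (finRotate (m0 + 2)).symm i.succ = i.castSucc := by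
        rw [Equiv.symm_apply_eq, finRotate_apply, Fin.coeSucc_eq_succ]
      rw [e, Function.update_of_ne (Fin.castSucc_lt_last i).ne]
      simp only [rot, Fin.cons_succ]
      have := hge w hw i
      omega
  have hinj : ∀ a₁ h₁ a₂ h₂, R a₁ h₁ = R a₂ h₂ → a₁ = a₂ := by
    intro a₁ h₁ a₂ h₂ h
    have h0 := congrArg Fin.val (congrFun h 0)
    simp only [R, rot, Fin.cons_zero] at h0
    have hs : ∀ i : Fin (m0 + 1), (a₁ i.castSucc : ℕ) - a₁ (Fin.last m0).castSucc =
        (a₂ i.castSucc : ℕ) - a₂ (Fin.last m0).castSucc := fun i => by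
      have := congrArg Fin.val (congrFun h i.succ)
      simpa only [R, rot, Fin.cons_succ] using this
    funext j
    refine Fin.lastCases ?_ (fun i => ?_) j
    · exact Fin.ext ((hprop a₁ h₁).2.trans (hprop a₂ h₂).2.symm)
    · apply Fin.ext
      have := hs i
      have := hge a₁ h₁ i
      have := hge a₂ h₂ i
      have := (a₁ (Fin.last m0).castSucc).2
      have := (a₂ (Fin.last m0).castSucc).2
      omega
  have hsum : ∑ w ∈ (W m0 n).attach, T n c m m' (fun j => ((R w.1 w.2 j : ℕ) : ℤ)) =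
      ∑ w ∈ W m0 n, T n c m m' (fun j => ((w j : ℕ) : ℤ)) := by
    refine Finset.sum_bij (fun w _ => R w.1 w.2) (fun w _ => hmem w.1 w.2)
      (fun a _ b _ h => Subtype.ext (hinj _ a.2 _ b.2 h)) (fun b hb => ?_) (fun w _ => rfl)
    have := Finset.surj_on_of_inj_on_of_card_le (fun w _ => R w.1 w.2)
      (fun w (_ : w ∈ (W m0 n).attach) => hmem w.1 w.2)
      (fun a b _ _ h => Subtype.ext (hinj _ a.2 _ b.2 h)) (by rw [Finset.card_attach]) b hb
    obtain ⟨a, ha, e⟩ := this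
    exact ⟨a, ha, e.symm⟩
  rw [Finset.sum_congr rfl (fun w _ => hT w.1 w.2), ← Finset.mul_sum,
    Finset.sum_attach (W m0 n) (fun w => T n c m m' (fun j => ((w j : ℕ) : ℤ)))] at hsum
  have h0 : (e1 n (-(c * n)) - 1) * ∑ w ∈ W m0 n, T n c m m' (fun j => ((w j : ℕ) : ℤ)) = 0 := by
    rw [sub_mul, one_mul, hsum, sub_self]
  exact (mul_eq_zero.1 h0).resolve_left (sub_ne_zero.2 hζ)

theorem sum_W_eq_zero_of_periodic {m0 : ℕ} {m m' : Fin (m0 + 2) → ℕ} (hn : n ≠ 0) (K : ℤ)
    (hK : c = (K : ℂ))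
    (hne : ∀ σ τ : Equiv.Perm (Fin (m0 + 2)), ∃ j, j ≠ Fin.last (m0 + 1) ∧
      ¬ ((n : ℤ) ∣ (m (σ j) : ℤ) + (m' (τ j) : ℤ) - K)) :
    ∑ w ∈ W m0 n, T n c m m' (fun j => ((w j : ℕ) : ℤ)) = 0 := by
  classical
  have : NeZero n := ⟨hn⟩
  let t : Fin (m0 + 2) → Finset (Fin n) := fun j => if j = Fin.last (m0 + 1) then {0} else univ
  set P := Fintype.piFinset t with hP
  have hmemP : ∀ v, v ∈ P ↔ v (Fin.last (m0 + 1)) = 0 := by
    intro v
    rw [hP, Fintype.mem_piFinset]
    constructor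
    · intro h
      simpa [t] using h (Fin.last (m0 + 1))
    · intro h j
      by_cases hj : j = Fin.last (m0 + 1)
      · subst hj; simp [t, h]
      · simp [t, hj]
  -- the total sum vanishes
  have htot : ∑ v ∈ P, T n c m m' (fun j => ((v j : ℕ) : ℤ)) = 0 := by
    simp only [T_expand]
    rw [Finset.sum_comm]
    refine Finset.sum_eq_zero fun σ _ => ?_
    rw [Finset.sum_comm]
    refine Finset.sum_eq_zero fun τ _ => ?_
    rw [← Finset.mul_sum, hP, ← Finset.prod_univ_sum t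
      (fun j a => e1 n (((m (σ j) : ℂ) + (m' (τ j) : ℂ) - c) * (((a : ℕ) : ℤ) : ℂ)))]
    obtain ⟨j, hj, hdvd⟩ := hne σ τ
    rw [Finset.prod_eq_zero (Finset.mem_univ j), mul_zero]
    simp only [t, if_neg hj, Int.cast_natCast, ← e1_pow]
    rw [Fin.sum_univ_eq_sum_range (fun a => e1 n ((m (σ j) : ℂ) + (m' (τ j) : ℂ) - c) ^ a)]
    have hq : ((m (σ j) : ℂ) + (m' (τ j) : ℂ) - c) = (((m (σ j) : ℤ) + (m' (τ j) : ℤ) - K : ℤ) : ℂ) := by
      rw [hK]; push_cast; ring
    rw [geom_sum_eq (by rw [hq, Ne, e1_eq_one_iff n hn]; exact hdvd), e1_pow, hq,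
      e1_int_mul n hn, sub_self, zero_div]
  -- regroup by sorted tuple
  set Pi := P.filter fun v => Function.Injective v
  have hinjsum : ∑ v ∈ Pi, T n c m m' (fun j => ((v j : ℕ) : ℤ)) =
      ∑ v ∈ P, T n c m m' (fun j => ((v j : ℕ) : ℤ)) := by
    refine Finset.sum_filter_of_ne fun v _ hv => ?_
    by_contra hni
    exact hv (T_eq_zero_of_not_injective _ fun h => hni fun a b hab => h (by simp [hab]))
  set S := univ.filter fun σ : Equiv.Perm (Fin (m0 + 2)) => σ (Fin.last (m0 + 1)) = Fin.last (m0 + 1)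
  have hreg : ∑ p ∈ W m0 n ×ˢ S, T n c m m' (fun j => ((p.1 j : ℕ) : ℤ)) =
      ∑ v ∈ Pi, T n c m m' (fun j => ((v j : ℕ) : ℤ)) := by
    refine Finset.sum_bij (fun p _ => p.1 ∘ p.2) ?_ ?_ ?_ ?_
    · rintro ⟨w, σ⟩ hp
      simp only [W, S, Finset.mem_product, Finset.mem_filter, Finset.mem_univ, true_and] at hp
      refine Finset.mem_filter.2 ⟨(hmemP _).2 ?_, hp.1.1.injective.comp σ.injective⟩
      simp only [Function.comp_apply, hp.2]
      exact Fin.ext hp.1.2
    · rintro ⟨w, σ⟩ hp ⟨w', σ'⟩ hp' h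
      simp only [W, S, Finset.mem_product, Finset.mem_filter, Finset.mem_univ, true_and] at hp hp'
      simp only at h
      have hr : Set.range w = Set.range w' := by
        have := congrArg Set.range h
        rwa [EquivLike.range_comp, EquivLike.range_comp] at this
      have h1 : StrictMono (w ∘ Fin.rev) := fun a b hab => hp.1.1 (Fin.rev_lt_rev.2 hab)
      have h2 : StrictMono (w' ∘ Fin.rev) := fun a b hab => hp'.1.1 (Fin.rev_lt_rev.2 hab)
      have h3 : w ∘ Fin.rev = w' ∘ Fin.rev := (StrictMono.range_inj h1 h2).1 (by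
        rw [Set.range_comp, Set.range_comp, Fin.rev_involutive.surjective.range_eq, Set.image_univ,
          Set.image_univ, hr])
      have hww : w = w' := funext fun j => by
        have := congrFun h3 j.rev
        simpa using this
      subst hww
      exact Prod.ext rfl (Equiv.ext fun j => hp.1.1.injective (congrFun h j))
    · intro v hv
      simp only [Pi, Finset.mem_filter] at hv
      let ρ : Equiv.Perm (Fin (m0 + 2)) := Fin.revPerm.trans (Tuple.sort v)
      have hw : StrictAnti (v ∘ ρ) := by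
        have hmono : StrictMono (v ∘ Tuple.sort v) :=
          (Tuple.monotone_sort v).strictMono_of_injective (hv.2.comp (Tuple.sort v).injective)
        exact fun a b hab => hmono (Fin.rev_lt_rev.2 hab)
      have hlast : (v (ρ (Fin.last (m0 + 1))) : ℕ) = 0 := by
        have h1 : (v ∘ ρ) (Fin.last (m0 + 1)) ≤ (v ∘ ρ) (ρ.symm (Fin.last (m0 + 1))) :=
          hw.antitone (Fin.le_last _)
        simp only [Function.comp_apply, Equiv.apply_symm_apply, (hmemP v).1 hv.1] at h1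
        simpa using Fin.le_def.1 h1
      refine ⟨(v ∘ ρ, ρ.symm), ?_, ?_⟩
      · simp only [W, S, Finset.mem_product, Finset.mem_filter, Finset.mem_univ, true_and]
        refine ⟨⟨hw, hlast⟩, ?_⟩
        rw [Equiv.symm_apply_eq]
        exact hv.2 (by rw [(hmemP v).1 hv.1]; exact (Fin.ext hlast).symm)
      · funext j
        simp
    · rintro ⟨w, σ⟩ _
      exact (T_perm (fun j => ((w j : ℕ) : ℤ)) σ).symm
  rw [hinjsum, htot, Finset.sum_product] at hreg
  simp only [Finset.sum_const, ← Finset.smul_sum, smul_eq_zero] at hreg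
  exact hreg.resolve_left (Finset.card_ne_zero_of_mem
    (Finset.mem_filter.2 ⟨Finset.mem_univ 1, rfl⟩))

end Groth.Agent.Verlinde
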