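/-
Hirzebruch-Jung continuants and the exponent arithmetic of the graded three variable ring.
-/
import Groth.Prelude.Def_W4c2invhilbsl2HJ
import Mathlib.RingTheory.Coprime.Basic
import Mathlib.RingTheory.Int.Basic
import Mathlib.Algebra.Order.Field.Basic
import Mathlib.Tactic.FieldSimp
import Mathlib.Tactic.Linarith
import Mathlib.Tactic.LinearCombination
import Mathlib.Tactic.Ring

set_option autoImplicit false

namespace W4c2HJ

/-- Euclidean remainder sequence of a digit list. -/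
def S : List ℤ → ℤ → ℤ → ℕ → ℤ
  | _, a, _, 0 => a
  | _, _, b, 1 => b
  | c, a, b, i + 2 => c.getD i 0 * S c a b (i + 1) - S c a b i

lemma S_cons (x : ℤ) (l : List ℤ) (a b : ℤ) : ∀ i, S (x :: l) a b (i + 1) = S l b (x * b - a) i
  | 0 => by simp [S]
  | 1 => by simp [S]
  | i + 2 => by
    have h1 := S_cons x l a b i
    have h2 := S_cons x l a b (i + 1)
    show (x :: l).getD (i + 1) 0 * S (x :: l) a b (i + 1 + 1) - S (x :: l) a b (i + 1) = _
    rw [h1, h2, List.getD_cons_succ]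
    rfl

lemma hjVal_gt_one : ∀ (l : List ℤ), l ≠ [] → (∀ x ∈ l, (2 : ℤ) ≤ x) → 1 < HJFrac.hjVal l
  | [], h, _ => absurd rfl h
  | x :: l, _, h => by
    have hx : (2 : ℚ) ≤ x := by exact_mod_cast h x List.mem_cons_self
    rw [HJFrac.hjVal]
    rcases l with _ | ⟨y, l'⟩
    · simp [HJFrac.hjVal]; linarith
    · have := hjVal_gt_one (y :: l') (List.cons_ne_nil _ _) fun z hz => h z (List.mem_cons_of_mem _ hz)
      have : (HJFrac.hjVal (y :: l'))⁻¹ < 1 := inv_lt_one_of_one_lt₀ this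
      linarith

/-- The remainder sequence decreases from `a` to `1`, then `0`. -/
theorem S_spec : ∀ (l : List ℤ) (a b : ℤ), (∀ x ∈ l, (2 : ℤ) ≤ x) → 0 < b → b < a → IsCoprime a b →
    HJFrac.hjVal l = (a : ℚ) / b →
    (∀ i, i ≤ l.length → S l a b (i + 1) < S l a b i) ∧ S l a b l.length = 1 ∧ S l a b (l.length + 1) = 0
  | [], a, b, _, hb, hab, _, h => by
    rw [HJFrac.hjVal, eq_comm, div_eq_zero_iff] at h
    rcases h with h | h <;> · norm_cast at h; omega
  | [x], a, b, hl, hb, hab, hco, h => by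
    have hbq : (b : ℚ) ≠ 0 := by exact_mod_cast hb.ne'
    simp only [HJFrac.hjVal, inv_zero, sub_zero] at h
    have h' : x * b = a := by
      rw [eq_div_iff hbq] at h; exact_mod_cast h
    have hb1 : b = 1 := by
      obtain ⟨u, v, huv⟩ := hco
      have hd : b ∣ 1 := ⟨u * x + v, by rw [← huv, ← h']; ring⟩
      exact le_antisymm (Int.le_of_dvd one_pos hd) hb
    subst hb1
    refine ⟨fun i hi => ?_, rfl, ?_⟩
    · simp only [List.length_singleton] at hi
      interval_cases i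
      · exact hab
      · show x * 1 - a < 1
        linarith
    · show x * 1 - a = 0
      linarith
  | x :: y :: l, a, b, hl, hb, hab, hco, h => by
    have hbq : (0 : ℚ) < b := by exact_mod_cast hb
    have hl' : ∀ z ∈ y :: l, (2 : ℤ) ≤ z := fun z hz => hl z (List.mem_cons_of_mem _ hz)
    have hv := hjVal_gt_one (y :: l) (List.cons_ne_nil _ _) hl'
    rw [HJFrac.hjVal] at h
    set v := HJFrac.hjVal (y :: l) with hvdef
    have hv0 : 0 < v := by linarith
    have he : ((x * b - a : ℤ) : ℚ) = b / v := by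
      push_cast
      field_simp at h ⊢
      linarith
    have hb2 : 0 < x * b - a := by
      have : (0 : ℚ) < ((x * b - a : ℤ) : ℚ) := by rw [he]; positivity
      exact_mod_cast this
    have hb2' : x * b - a < b := by
      have : ((x * b - a : ℤ) : ℚ) < b := by rw [he, div_lt_iff₀ hv0]; nlinarith
      exact_mod_cast this
    have hco' : IsCoprime b (x * b - a) := by
      obtain ⟨u, w, huv⟩ := hco
      exact ⟨w + u * x, -u, by linear_combination huv⟩
    have hval : v = (b : ℚ) / ((x * b - a : ℤ) : ℚ) := by rw [he]; field_simp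
    obtain ⟨h1, h2, h3⟩ := S_spec (y :: l) b (x * b - a) hl' hb2 hb2' hco' hval
    refine ⟨fun i hi => ?_, ?_, ?_⟩
    · rcases i with _ | i
      · exact hab
      · rw [S_cons x (y :: l) a b (i + 1), S_cons x (y :: l) a b i]
        exact h1 i (by simpa using hi)
    · rw [show (x :: y :: l).length = (y :: l).length + 1 from rfl, S_cons x (y :: l) a b]; exact h2
    · rw [show (x :: y :: l).length = (y :: l).length + 1 from rfl, S_cons x (y :: l) a b]; exact h3

variable {p q m : ℕ} {c : List ℤ}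

open W4c2invhilbsl2

/-- The value `tᵢ`. -/
def T (p q m : ℕ) (c : List ℤ) (i : ℕ) : ℤ := (tT p q m : ℤ) * hjP c i - (bB p q m : ℤ) * hjQ c i

lemma T_eq_S : ∀ i, T p q m c i = S c (bB p q m) (tT p q m) i
  | 0 => by simp [T, hjP, hjQ, S]
  | 1 => by simp [T, hjP, hjQ, S]
  | i + 2 => by
    rw [S, ← T_eq_S (i + 1), ← T_eq_S i]
    simp only [T, hjP, hjQ]
    ring

lemma T_rec (i : ℕ) : T p q m c (i + 2) = c.getD i 0 * T p q m c (i + 1) - T p q m c i := by
  simp only [T, hjP, hjQ]; ring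

lemma det_eq : ∀ i, hjP c (i + 1) * hjQ c i - hjP c i * hjQ c (i + 1) = -1
  | 0 => by simp [hjP, hjQ]
  | i + 1 => by
    have := det_eq i
    simp only [hjP, hjQ]
    linear_combination this

lemma gcdK_pos (hpq : p < q) : 0 < gcdK p q m :=
  Nat.gcd_pos_of_pos_right _ (by omega)

lemma g_mul_b : gcdK p q m * bB p q m = q - p :=
  Nat.mul_div_cancel' (Nat.gcd_dvd_right _ _)

lemma g_mul_t (hpq : p < q) : gcdK p q m * tT p q m = q - p - m * p % (q - p) := by
  refine Nat.mul_div_cancel' (Nat.dvd_sub (Nat.gcd_dvd_right _ _) ?_)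
  exact (Nat.dvd_mod_iff (Nat.gcd_dvd_right _ _)).2 (Dvd.dvd.mul_right (Nat.gcd_dvd_left _ _) _)

/-- `mp ≡ -gt` modulo `q - p`. -/
lemma mp_eq (hpq : p < q) :
    (m : ℤ) * p = ((q : ℤ) - p) * ((alpha p q m : ℤ) + 1) - (gcdK p q m : ℤ) * (tT p q m : ℤ) := by
  have h1 := g_mul_t (m := m) hpq
  have h2 := Nat.div_add_mod (m * p) (q - p)
  have h3 := Nat.mod_lt (m * p) (show q - p > 0 by omega)
  have h1' : ((gcdK p q m : ℤ) * (tT p q m : ℤ)) = ((q - p : ℕ) : ℤ) - ((m * p % (q - p) : ℕ) : ℤ) := by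
    rw [← Nat.cast_mul, h1, Nat.cast_sub h3.le]
  have h2' : ((q - p : ℕ) : ℤ) * (alpha p q m : ℤ) + ((m * p % (q - p) : ℕ) : ℤ) = (m : ℤ) * p := by
    unfold alpha
    exact_mod_cast h2
  have h4 : ((q - p : ℕ) : ℤ) = (q : ℤ) - p := by omega
  rw [h4] at h1' h2'
  linear_combination -h2' + h1'

lemma delta_eq (hpq : p < q) : (q : ℤ) - p = (gcdK p q m : ℤ) * (bB p q m : ℤ) := by
  have h := g_mul_b (p := p) (q := q) (m := m)
  have : ((gcdK p q m * bB p q m : ℕ) : ℤ) = ((q - p : ℕ) : ℤ) := by rw [h]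
  push_cast at this
  omega

lemma lL_sub (i : ℕ) : eE p q m c i = lL p q m c i + m * hjP c i := by
  unfold eE lL; push_cast; ring

lemma nN_eq (hpq : p < q) (i : ℕ) : nN p q m c i = (gcdK p q m : ℤ) * T p q m c i := by
  have h1 := mp_eq (m := m) hpq
  have h2 := delta_eq (m := m) hpq
  unfold nN eE lL T
  push_cast
  linear_combination -(hjP c i) * h1 - (hjQ c i) * h2

lemma nN_eq' (i : ℕ) : nN p q m c i = ((q : ℤ) - p) * lL p q m c i - (p : ℤ) * m * hjP c i := by
  unfold nN; rw [lL_sub]; ring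

lemma coprime_tb (hcop : Nat.Coprime p q) (hpq : p < q) : IsCoprime (bB p q m : ℤ) (tT p q m : ℤ) := by
  have hg := gcdK_pos (m := m) hpq
  have hmg : Nat.Coprime (m / gcdK p q m) (bB p q m) := Nat.coprime_div_gcd_div_gcd hg
  have hpb : Nat.Coprime p (bB p q m) :=
    Nat.Coprime.coprime_dvd_right ⟨gcdK p q m, by rw [mul_comm]; exact (g_mul_b).symm⟩
      ((Nat.coprime_sub_self_right hpq.le).2 hcop)
  have h := mp_eq (m := m) hpq
  rw [delta_eq (m := m) hpq] at h
  obtain ⟨m', hm'⟩ : gcdK p q m ∣ m := Nat.gcd_dvd_left _ _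
  rw [show m / gcdK p q m = m' by nth_rewrite 1 [hm']; exact Nat.mul_div_cancel_left _ hg] at hmg
  have hmz : (m : ℤ) = (gcdK p q m : ℤ) * m' := by exact_mod_cast hm'
  rw [hmz] at h
  have h' : (tT p q m : ℤ) = -((m' : ℤ) * p) + ((alpha p q m : ℤ) + 1) * (bB p q m : ℤ) :=
    mul_left_cancel₀ (show (gcdK p q m : ℤ) ≠ 0 by exact_mod_cast hg.ne') (by linear_combination h)
  rw [h']
  refine IsCoprime.add_mul_right_right (IsCoprime.neg_right ?_) _
  rw [← Nat.cast_mul]
  exact Nat.Coprime.isCoprime ((hmg.symm).mul_right hpb.symm)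

lemma t_pos (hpq : p < q) : 0 < tT p q m := by
  have h1 := g_mul_t (m := m) hpq
  have := Nat.mod_lt (m * p) (show q - p > 0 by omega)
  refine Nat.pos_of_ne_zero fun h => ?_
  rw [h, mul_zero] at h1
  omega

lemma t_lt_b (hcop : Nat.Coprime p q) (hpq : p < q) (hnt : ¬ (q - p ∣ m)) : tT p q m < bB p q m := by
  have h1 := g_mul_t (m := m) hpq
  have h2 := g_mul_b (p := p) (q := q) (m := m)
  have hg := gcdK_pos (m := m) hpq
  have hne : m * p % (q - p) ≠ 0 := fun h => hnt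
    (((Nat.coprime_sub_self_right hpq.le).2 hcop).symm.dvd_of_dvd_mul_right (Nat.dvd_of_mod_eq_zero h))
  by_contra hle
  have : gcdK p q m * bB p q m ≤ gcdK p q m * tT p q m := Nat.mul_le_mul_left _ (by omega)
  have := Nat.mod_lt (m * p) (show q - p > 0 by omega)
  omega

section digits

variable (hpq : p < q) (hcop : Nat.Coprime p q) (hnt : ¬ (q - p ∣ m)) (hc : IsHJDigits p q m c)
include hpq hcop hnt hc

lemma T_spec : (∀ i, i ≤ c.length → T p q m c (i + 1) < T p q m c i) ∧ T p q m c c.length = 1 ∧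
    T p q m c (c.length + 1) = 0 := by
  simp only [T_eq_S]
  refine S_spec c _ _ hc.1 (by exact_mod_cast t_pos hpq) (by exact_mod_cast t_lt_b hcop hpq hnt)
    (coprime_tb hcop hpq) ?_
  rw [hc.2]; push_cast; rfl

lemma T_antitone {i : ℕ} : ∀ {j : ℕ}, i ≤ j → j ≤ c.length + 1 → T p q m c j ≤ T p q m c i := by
  intro j hij
  induction hij with
  | refl => exact fun _ => le_rfl
  | @step k _ ih => exact fun hk => le_trans ((T_spec hpq hcop hnt hc).1 k (by omega)).le (ih (by omega))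

lemma T_pos {i : ℕ} (hi : i ≤ c.length) : 0 < T p q m c i := by
  have := T_antitone hpq hcop hnt hc hi (Nat.le_succ _)
  rw [(T_spec hpq hcop hnt hc).2.1] at this
  omega

lemma T_nonneg {i : ℕ} (hi : i ≤ c.length + 1) : 0 ≤ T p q m c i := by
  have := T_antitone hpq hcop hnt hc hi le_rfl
  rw [(T_spec hpq hcop hnt hc).2.2] at this
  omega

lemma T_lt_b {i : ℕ} (h1 : 1 ≤ i) (hi : i ≤ c.length + 1) : T p q m c i < bB p q m := by
  refine lt_of_le_of_lt (T_antitone hpq hcop hnt hc h1 hi) ?_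
  simp only [T, hjP, hjQ, mul_one, mul_zero, sub_zero]
  exact_mod_cast t_lt_b hcop hpq hnt

lemma P_lt {i : ℕ} : i ≤ c.length → 0 ≤ hjP c i ∧ hjP c i < hjP c (i + 1) := by
  induction i with
  | zero => exact fun _ => ⟨le_rfl, one_pos⟩
  | succ i ih =>
    intro hi
    obtain ⟨h1, h2⟩ := ih (by omega)
    refine ⟨by linarith, ?_⟩
    have hcd : 2 ≤ c.getD i 0 := by
      rw [List.getD_eq_getElem _ _ (show i < c.length by omega)]
      exact hc.1 _ (List.getElem_mem _)
    show hjP c (i + 1) < c.getD i 0 * hjP c (i + 1) - hjP c i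
    nlinarith

lemma P_pos {i : ℕ} (h1 : 1 ≤ i) (hi : i ≤ c.length + 1) : 0 < hjP c i := by
  obtain ⟨j, rfl⟩ : ∃ j, i = j + 1 := ⟨i - 1, by omega⟩
  have := P_lt hpq hcop hnt hc (i := j) (by omega)
  linarith

/-- Best approximation: below `Pᵢ` all residues are at least `tᵢ₋₁`. -/
lemma res_ge {i : ℕ} (hi : i + 1 ≤ c.length) {x r K : ℤ} (hx0 : 0 < x) (hx : x < hjP c (i + 1))
    (hr0 : 0 ≤ r) (hr : r = (tT p q m : ℤ) * x + (bB p q m : ℤ) * K) : T p q m c i ≤ r := by
  have hd := det_eq (c := c) i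
  set P1 := hjP c i
  set P2 := hjP c (i + 1)
  set Q1 := hjQ c i
  set Q2 := hjQ c (i + 1)
  set A := x * Q2 + K * P2 with hA
  set B := -(x * Q1 + K * P1) with hB
  have hxe : x = A * P1 + B * P2 := by rw [hA, hB]; linear_combination x * hd
  have hre : r = A * T p q m c i + B * T p q m c (i + 1) := by
    rw [hr, hA, hB]
    unfold T
    linear_combination (((tT p q m : ℤ) * x + (bB p q m : ℤ) * K)) * hd
  obtain ⟨hP1, hP12⟩ : 0 ≤ P1 ∧ P1 < P2 := P_lt hpq hcop hnt hc (by omega)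
  have hT12 : T p q m c (i + 1) < T p q m c i := (T_spec hpq hcop hnt hc).1 i (by omega)
  have hT2 : 0 < T p q m c (i + 1) := T_pos hpq hcop hnt hc hi
  have hA1 : 1 ≤ A := by
    by_contra h
    have hA0 : A ≤ 0 := by omega
    have hB1 : 1 ≤ B := by
      by_contra h'
      have : B ≤ 0 := by omega
      nlinarith
    by_cases hAB : -A < B
    · nlinarith
    · have hBA : B ≤ -A := by omega
      nlinarith [mul_le_mul_of_nonneg_right hBA hT2.le]
  by_cases hB0 : 0 ≤ B
  · nlinarith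
  · have hAB : -B < A := by
      by_contra h
      have : A ≤ -B := by omega
      nlinarith [mul_le_mul_of_nonneg_right this hP1]
    nlinarith

/-- The key step: small positive values `qd₂ - pd₁` force divisibility. -/
lemma ge_of_small {i : ℕ} (hi1 : 1 ≤ i) (hir : i ≤ c.length) {j D u : ℤ} (hj : 1 ≤ j) (hD : 0 < D)
    (hD' : D < nN p q m c (i - 1)) (hu : ((q : ℤ) - p) * u = D + (p : ℤ) * m * j) :
    lL p q m c i ≤ u ∧ eE p q m c i ≤ u + m * j := by
  have hg : (0 : ℤ) < (gcdK p q m : ℤ) := by exact_mod_cast gcdK_pos hpq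
  have hP : hjP c i ≤ j := by
    by_contra hlt
    rw [not_le] at hlt
    obtain ⟨i', rfl⟩ : ∃ i', i = i' + 1 := ⟨i - 1, by omega⟩
    have hD2 : D = (gcdK p q m : ℤ) * ((tT p q m : ℤ) * j + (bB p q m : ℤ) * (u - j * ((alpha p q m : ℤ) + 1))) := by
      have h1 := mp_eq (m := m) hpq
      have h2 := delta_eq (m := m) hpq
      linear_combination -hu - j * h1 + (u - j * ((alpha p q m : ℤ) + 1)) * h2
    rw [hD2] at hD hD'
    rw [nN_eq hpq, Nat.add_sub_cancel] at hD'
    have h3 := lt_of_mul_lt_mul_left hD' hg.le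
    have h4 : 0 ≤ (tT p q m : ℤ) * j + (bB p q m : ℤ) * (u - j * ((alpha p q m : ℤ) + 1)) :=
      (pos_of_mul_pos_right hD hg.le).le
    exact absurd (res_ge hpq hcop hnt hc hir (by omega) hlt h4 rfl) (not_le.2 h3)
  have hd : (0 : ℤ) < (q : ℤ) - p := by omega
  have hn : nN p q m c i < (q : ℤ) - p := by
    rw [nN_eq hpq, delta_eq hpq]
    exact mul_lt_mul_of_pos_left (T_lt_b hpq hcop hnt hc hi1 (by omega)) hg
  rw [nN_eq' i] at hn
  have hpm : (0 : ℤ) ≤ (p : ℤ) * m := by positivity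
  have hlt : ((q : ℤ) - p) * (lL p q m c i - 1) < ((q : ℤ) - p) * u := by
    rw [hu]; nlinarith [mul_le_mul_of_nonneg_left hP hpm]
  have h1 : lL p q m c i ≤ u := by
    have := lt_of_mul_lt_mul_left hlt hd.le
    omega
  refine ⟨h1, ?_⟩
  rw [lL_sub]
  nlinarith [mul_le_mul_of_nonneg_left hP (show (0 : ℤ) ≤ m by positivity)]

lemma nN_le_delta {i : ℕ} (hi : i ≤ c.length + 1) : nN p q m c i ≤ (q : ℤ) - p := by
  rw [nN_eq hpq, delta_eq hpq]
  refine mul_le_mul_of_nonneg_left (le_trans (T_antitone hpq hcop hnt hc (Nat.zero_le i) hi) ?_) (by positivity)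
  simp [T, hjP, hjQ]

lemma nN_lt_delta {i : ℕ} (h1 : 1 ≤ i) (hi : i ≤ c.length + 1) : nN p q m c i < (q : ℤ) - p := by
  rw [nN_eq hpq, delta_eq hpq]
  exact mul_lt_mul_of_pos_left (T_lt_b hpq hcop hnt hc h1 hi) (by exact_mod_cast gcdK_pos hpq)

lemma nN_nonneg {i : ℕ} (hi : i ≤ c.length + 1) : 0 ≤ nN p q m c i := by
  rw [nN_eq hpq]
  exact mul_nonneg (by positivity) (T_nonneg hpq hcop hnt hc hi)

lemma lL_nonneg {i : ℕ} (hi : i ≤ c.length + 1) : 0 ≤ lL p q m c i ∧ 0 ≤ eE p q m c i := by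
  rcases Nat.eq_zero_or_pos i with rfl | hi1
  · simp [lL, eE, hjP, hjQ]
  have h := nN_nonneg hpq hcop hnt hc hi
  have hP := (P_pos hpq hcop hnt hc hi1 hi).le
  rw [nN_eq' i] at h
  have h0 : (0 : ℤ) ≤ ((q : ℤ) - p) * lL p q m c i := by
    have : (0 : ℤ) ≤ (p : ℤ) * m * hjP c i := by positivity
    linarith
  have hl : 0 ≤ lL p q m c i := nonneg_of_mul_nonneg_right h0 (by omega)
  refine ⟨hl, ?_⟩
  rw [lL_sub]
  positivity

lemma eE_pos {i : ℕ} (hm : 0 < m) (h1 : 1 ≤ i) (hi : i ≤ c.length + 1) : 0 < eE p q m c i := by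
  have hl := (lL_nonneg hpq hcop hnt hc hi).1
  have hP := P_pos hpq hcop hnt hc h1 hi
  rw [lL_sub]
  have : (0 : ℤ) < (m : ℤ) * hjP c i := mul_pos (by exact_mod_cast hm) hP
  omega

end digits

end W4c2HJ
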