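/-
Monomials of given weight in the graded rings of three and five variables.
-/
import Groth.Prelude.Def_W4c2invhilbsl2HJ
import Mathlib.LinearAlgebra.Dimension.FreeAndStrongRankCondition
import Mathlib.Data.ZMod.Basic
import Mathlib.Tactic.Linarith
import Mathlib.Tactic.Ring

set_option autoImplicit false

namespace W4c2Mon
open MvPolynomial W4c2invhilbsl2

variable {p q m : ℕ}

lemma weight3_iff (d : Fin 3 →₀ ℕ) (n : ℤ) (z : ZMod m) :
    Finsupp.weight (wt3 p q m) d = (n, z) ↔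
      ((d 0 : ℤ) - (p : ℤ) * d 1 + (q : ℤ) * d 2 = n) ∧ (((d 2 : ℤ) - d 1 : ℤ) : ZMod m) = z := by
  rw [Finsupp.weight_apply, Finsupp.sum_fintype _ _ (by simp), Fin.sum_univ_three, Prod.ext_iff]
  simp [wt3]
  refine and_congr ⟨fun h => by linarith, fun h => by linarith⟩ ⟨fun h => by rw [← h]; ring, fun h => by rw [← h]; ring⟩

lemma weight5_iff (d : Fin 5 →₀ ℕ) (n : ℤ) (z : ZMod m) :
    Finsupp.weight (wt5 p q m) d = (n, z) ↔
      ((d 0 : ℤ) - (p : ℤ) * ((d 1 : ℤ) + d 2) + (q : ℤ) * ((d 3 : ℤ) + d 4) = n) ∧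
        (((d 3 : ℤ) + d 4 - ((d 1 : ℤ) + d 2) : ℤ) : ZMod m) = z := by
  rw [Finsupp.weight_apply, Finsupp.sum_fintype _ _ (by simp), Fin.sum_univ_five, Prod.ext_iff]
  simp [wt5]
  refine and_congr ⟨fun h => by linarith, fun h => by linarith⟩ ⟨fun h => by rw [← h]; ring, fun h => by rw [← h]; ring⟩

lemma monomial3 {k : Type*} [CommRing k] (d : Fin 3 →₀ ℕ) (r : k) :
    monomial d r = C r * (X 0 ^ d 0 * X 1 ^ d 1 * X 2 ^ d 2 : MvPolynomial (Fin 3) k) := by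
  rw [monomial_eq, Finsupp.prod_fintype _ _ (by simp), Fin.prod_univ_three]

lemma monomial5 {k : Type*} [CommRing k] (d : Fin 5 →₀ ℕ) (r : k) :
    monomial d r = C r * (X 0 ^ d 0 * X 1 ^ d 1 * X 2 ^ d 2 * X 3 ^ d 3 * X 4 ^ d 4 : MvPolynomial (Fin 5) k) := by
  rw [monomial_eq, Finsupp.prod_fintype _ _ (by simp), Fin.prod_univ_five]

/-- The exponent vector in three variables. -/
noncomputable def v3 (a b c : ℕ) : Fin 3 →₀ ℕ := Finsupp.equivFunOnFinite.symm ![a, b, c]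

@[simp] lemma v3_0 (a b c : ℕ) : v3 a b c 0 = a := rfl
@[simp] lemma v3_1 (a b c : ℕ) : v3 a b c 1 = b := rfl
@[simp] lemma v3_2 (a b c : ℕ) : v3 a b c 2 = c := rfl

/-- The exponent vector in five variables. -/
noncomputable def v5 (a b c d e : ℕ) : Fin 5 →₀ ℕ := Finsupp.equivFunOnFinite.symm ![a, b, c, d, e]

@[simp] lemma v5_0 (a b c d e : ℕ) : v5 a b c d e 0 = a := rfl
@[simp] lemma v5_1 (a b c d e : ℕ) : v5 a b c d e 1 = b := rfl
@[simp] lemma v5_2 (a b c d e : ℕ) : v5 a b c d e 2 = c := rfl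
@[simp] lemma v5_3 (a b c d e : ℕ) : v5 a b c d e 3 = d := rfl
@[simp] lemma v5_4 (a b c d e : ℕ) : v5 a b c d e 4 = e := rfl

lemma prod3_eq {k : Type*} [CommRing k] (a b c : ℕ) :
    (X 0 ^ a * X 1 ^ b * X 2 ^ c : MvPolynomial (Fin 3) k) = monomial (v3 a b c) 1 := by
  rw [monomial3]; simp

lemma prod5_eq {k : Type*} [CommRing k] (a b c d e : ℕ) :
    (X 0 ^ a * X 1 ^ b * X 2 ^ c * X 3 ^ d * X 4 ^ e : MvPolynomial (Fin 5) k) = monomial (v5 a b c d e) 1 := by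
  rw [monomial5]; simp

lemma prod3_mem_zero {k : Type*} [CommRing k] (r : k) {a b c : ℕ}
    (h1 : (a : ℤ) - (p : ℤ) * b + (q : ℤ) * c = 0) (h2 : (m : ℤ) ∣ (c : ℤ) - b) :
    C r * (X 0 ^ a * X 1 ^ b * X 2 ^ c) ∈ weightedHomogeneousSubmodule k (wt3 p q m) 0 := by
  rw [show C r * (X 0 ^ a * X 1 ^ b * X 2 ^ c : MvPolynomial (Fin 3) k) = monomial (v3 a b c) r by
    rw [monomial3]; simp]
  refine isWeightedHomogeneous_monomial _ _ _ ?_
  rw [show (0 : ℤ × ZMod m) = (0, 0) from rfl, weight3_iff]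
  exact ⟨by simpa using h1, (ZMod.intCast_zmod_eq_zero_iff_dvd _ _).2 (by simpa using h2)⟩

lemma prod5_mem_zero {k : Type*} [CommRing k] (r : k) {a b c d e : ℕ}
    (h1 : (a : ℤ) - (p : ℤ) * ((b : ℤ) + c) + (q : ℤ) * ((d : ℤ) + e) = 0) (h2 : (m : ℤ) ∣ (d : ℤ) + e - ((b : ℤ) + c)) :
    C r * (X 0 ^ a * X 1 ^ b * X 2 ^ c * X 3 ^ d * X 4 ^ e) ∈ weightedHomogeneousSubmodule k (wt5 p q m) 0 := by
  rw [show C r * (X 0 ^ a * X 1 ^ b * X 2 ^ c * X 3 ^ d * X 4 ^ e : MvPolynomial (Fin 5) k) = monomial (v5 a b c d e) r by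
    rw [monomial5]; simp]
  refine isWeightedHomogeneous_monomial _ _ _ ?_
  rw [show (0 : ℤ × ZMod m) = (0, 0) from rfl, weight5_iff]
  exact ⟨by simpa using h1, (ZMod.intCast_zmod_eq_zero_iff_dvd _ _).2 (by simpa using h2)⟩

/-- A predicate closed under addition holds on a homogeneous polynomial once it holds on its monomials. -/
lemma induction_wh {σ k M : Type*} [CommRing k] [AddCommMonoid M] {w : σ → M} {ν : M}
    (P : MvPolynomial σ k → Prop) (h0 : P 0) (hadd : ∀ f g, P f → P g → P (f + g))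
    (hmon : ∀ (d : σ →₀ ℕ) (r : k), Finsupp.weight w d = ν → P (monomial d r))
    {f : MvPolynomial σ k} (hf : f ∈ weightedHomogeneousSubmodule k w ν) : P f := by
  rw [mem_weightedHomogeneousSubmodule] at hf
  rw [f.as_sum]
  exact Finset.sum_induction _ P hadd h0 fun d hd => hmon d _ (hf (mem_support_iff.1 hd))

/-- A piece is a line as soon as the images of its monomials lie on a line. -/
lemma rank_piece_le_one {σ k M : Type*} [Field k] [AddCommMonoid M] {w : σ → M}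
    {I : Ideal (MvPolynomial σ k)} {ν : M} (z : MvPolynomial σ k ⧸ I)
    (h : ∀ d : σ →₀ ℕ, Finsupp.weight w d = ν → Ideal.Quotient.mk I (monomial d 1) ∈ Submodule.span k {z}) :
    Module.rank k (piece k w I ν) ≤ 1 := by
  rw [rank_submodule_le_one_iff']
  refine ⟨z, ?_⟩
  rintro _ ⟨f, hf, rfl⟩
  refine induction_wh (fun f => (Ideal.Quotient.mkₐ k I).toLinearMap f ∈ Submodule.span k {z}) ?_ ?_ ?_ hf
  · simp
  · intro f g h1 h2
    rw [map_add]; exact Submodule.add_mem _ h1 h2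
  · intro d r hd
    rw [show monomial d r = r • monomial d (1 : k) by rw [MvPolynomial.smul_monomial, smul_eq_mul, mul_one], map_smul]
    exact Submodule.smul_mem _ _ (h d hd)

/-- Two monomials on the same class agree modulo `x₀^δ = x₁x₂`. -/
lemma same_class {A : Type*} [CommRing A] {δ : ℕ} {x0 x1 x2 : A} (hrel : x0 ^ δ = x1 * x2)
    {a b c a' b' c' : ℕ} (u : ℕ) (ha : a = a' + δ * u) (hb : b' = b + u) (hc : c' = c + u) :
    x0 ^ a * x1 ^ b * x2 ^ c = x0 ^ a' * x1 ^ b' * x2 ^ c' := by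
  subst ha hb hc
  rw [pow_add, pow_mul, hrel, mul_pow, pow_add, pow_add]
  ring

lemma same_class' {A : Type*} [CommRing A] {δ : ℕ} {x0 x1 x2 : A} (hrel : x0 ^ δ = x1 * x2)
    {a b c a' b' c' : ℕ} {n : ℤ} {p q : ℕ} (hδ : (δ : ℤ) = (q : ℤ) - p)
    (h1 : (a : ℤ) - (p : ℤ) * b + (q : ℤ) * c = n) (h2 : (a' : ℤ) - (p : ℤ) * b' + (q : ℤ) * c' = n)
    (hk : (b : ℤ) - c = (b' : ℤ) - c') :
    x0 ^ a * x1 ^ b * x2 ^ c = x0 ^ a' * x1 ^ b' * x2 ^ c' := by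
  have key : (a : ℤ) - a' = (δ : ℤ) * ((b' : ℤ) - b) := by
    have hc : (c' : ℤ) = (b' : ℤ) - b + c := by linarith
    rw [hc] at h2
    rw [hδ]; nlinarith
  rcases le_total b b' with h | h
  · obtain ⟨u, rfl⟩ : ∃ u, b' = b + u := ⟨b' - b, by omega⟩
    refine same_class hrel u ?_ rfl (by omega)
    have : (a : ℤ) = (a' : ℤ) + (δ : ℤ) * u := by push_cast at key; linarith
    exact_mod_cast this
  · obtain ⟨u, rfl⟩ : ∃ u, b = b' + u := ⟨b - b', by omega⟩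
    refine (same_class hrel u ?_ rfl (by omega)).symm
    have : (a' : ℤ) = (a : ℤ) + (δ : ℤ) * u := by push_cast at key; linarith
    exact_mod_cast this

/-- Moving down by `j` steps multiplies by `(x₀^{mp}x₁^m)^j`. -/
lemma shift_class {A : Type*} [CommRing A] {δ : ℕ} {x0 x1 x2 : A} (hrel : x0 ^ δ = x1 * x2)
    {a b c a' b' c' : ℕ} {n : ℤ} {p q m : ℕ} (hδ : (δ : ℤ) = (q : ℤ) - p) (j : ℕ)
    (h1 : (a : ℤ) - (p : ℤ) * b + (q : ℤ) * c = n) (h2 : (a' : ℤ) - (p : ℤ) * b' + (q : ℤ) * c' = n)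
    (hk : (b : ℤ) - c = (b' : ℤ) - c' + (m : ℤ) * j) :
    x0 ^ a * x1 ^ b * x2 ^ c = (x0 ^ (m * p) * x1 ^ m) ^ j * (x0 ^ a' * x1 ^ b' * x2 ^ c') := by
  rw [same_class' hrel hδ (a' := a' + m * p * j) (b' := b' + m * j) (c' := c') h1 (by push_cast; linarith)
    (by push_cast; linarith), mul_pow, ← pow_mul, ← pow_mul, pow_add, pow_add]
  ring

/-- Monomials in `(x₁^{aq}x₂^{ap})`-orbits. -/
lemma orbit_J {δ p q m g : ℕ} (hg : g = Nat.gcd m δ) (hδ : (δ : ℤ) = (q : ℤ) - p) (hp : 0 < p) (hm : 0 < m)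
    (hcop : Nat.Coprime p q) {d0 d1 d2 e0 e1 e2 : ℕ}
    (hn : (e0 : ℤ) - (p : ℤ) * e1 + (q : ℤ) * e2 = (d0 : ℤ) - (p : ℤ) * d1 + (q : ℤ) * d2)
    (hc : (m : ℤ) ∣ ((d2 : ℤ) - d1) - ((e2 : ℤ) - e1)) (hd : d0 < g) (he : e0 < g) :
    d0 = e0 ∧ ∃ u : ℤ, (e1 : ℤ) - d1 = u * ((m / g * q : ℕ) : ℤ) ∧ (e2 : ℤ) - d2 = u * ((m / g * p : ℕ) : ℤ) := by
  have hg1 : (g : ℤ) ∣ m := by rw [hg]; exact_mod_cast Nat.gcd_dvd_left m δ
  have hg2 : (g : ℤ) ∣ δ := by rw [hg]; exact_mod_cast Nat.gcd_dvd_right m δ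
  have hd0 : d0 = e0 := by
    have h1 : (g : ℤ) ∣ (e0 : ℤ) - d0 := by
      have h2 : (e0 : ℤ) - d0 = -((δ : ℤ) * ((e2 : ℤ) - d2)) + (p : ℤ) * (((d2 : ℤ) - d1) - ((e2 : ℤ) - e1)) := by
        rw [hδ]; linarith
      rw [h2]
      exact dvd_add (dvd_neg.2 (Dvd.dvd.mul_right hg2 _)) (Dvd.dvd.mul_left (hg1.trans hc) _)
    have := Int.eq_zero_of_abs_lt_dvd h1 (abs_lt.2 ⟨by omega, by omega⟩)
    omega
  refine ⟨hd0, ?_⟩
  subst hd0
  have hpq : (p : ℤ) * ((e1 : ℤ) - d1) = (q : ℤ) * ((e2 : ℤ) - d2) := by linarith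
  have hco : IsCoprime (p : ℤ) (q : ℤ) := Nat.Coprime.isCoprime hcop
  obtain ⟨w, hw⟩ : (p : ℤ) ∣ (e2 : ℤ) - d2 := hco.dvd_of_dvd_mul_left ⟨_, hpq.symm⟩
  have hw1 : (e1 : ℤ) - d1 = q * w :=
    mul_left_cancel₀ (show (p : ℤ) ≠ 0 by exact_mod_cast hp.ne') (by rw [hpq, hw]; ring)
  have hmw : (m : ℤ) ∣ (δ : ℤ) * w := by
    have : ((d2 : ℤ) - d1) - ((e2 : ℤ) - e1) = (δ : ℤ) * w := by rw [hδ]; linarith
    rwa [this] at hc
  have hgpos : 0 < g := by rw [hg]; exact Nat.gcd_pos_of_pos_left _ hm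
  obtain ⟨m', hm'⟩ : g ∣ m := hg ▸ Nat.gcd_dvd_left m δ
  obtain ⟨δ', hδ'⟩ : g ∣ δ := hg ▸ Nat.gcd_dvd_right m δ
  have hco' : Nat.Coprime m' δ' := by
    have := Nat.coprime_div_gcd_div_gcd (m := m) (n := δ) (hg ▸ hgpos)
    rwa [← hg, hm', hδ', Nat.mul_div_cancel_left _ hgpos, Nat.mul_div_cancel_left _ hgpos] at this
  rw [hm', hδ'] at hmw
  push_cast at hmw
  rw [mul_assoc] at hmw
  have h5 := (mul_dvd_mul_iff_left (show (g : ℤ) ≠ 0 by exact_mod_cast hgpos.ne')).1 hmw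
  obtain ⟨u, hu⟩ := (Nat.Coprime.isCoprime hco').dvd_of_dvd_mul_left h5
  have hdiv : m / g = m' := by rw [hm', Nat.mul_div_cancel_left _ hgpos]
  exact ⟨u, by rw [hdiv, hw1, hu]; push_cast; ring, by rw [hdiv, hw, hu]; push_cast; ring⟩

end W4c2Mon
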