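/-
The weight pieces of the quotients by the ideals `idealL` are lines.
-/
import Groth.Agent.Lib.W4c2HJ
import Groth.Agent.Lib.W4c2Mon

set_option autoImplicit false

namespace W4c2Line
open MvPolynomial W4c2invhilbsl2

theorem rank_idealL {k : Type*} [Field k] {p q m : ℕ} {c : List ℤ} (hp : 0 < p) (hpq : p < q)
    (hcop : Nat.Coprime p q) (hm : 0 < m) (hnt : ¬ (q - p ∣ m)) (hc : IsHJDigits p q m c) {i : ℕ}
    (hi : 1 ≤ i) (hir : i ≤ c.length) (s : k) (ν : ℤ × ZMod m) :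
    Module.rank k (piece k (wt3 p q m) (idealL k p q m c i s) ν) ≤ 1 := by
  classical
  obtain ⟨n, z0⟩ := ν
  set I := idealL k p q m c i s
  set N' := (nN p q m c (i - 1)).toNat
  set N := (nN p q m c i).toNat
  set E := (eE p q m c i).toNat
  set L := (lL p q m c i).toNat
  obtain ⟨hl0, he0⟩ := W4c2HJ.lL_nonneg hpq hcop hnt hc (i := i) (by omega)
  have hEz : (E : ℤ) = eE p q m c i := Int.toNat_of_nonneg he0
  have hLz : (L : ℤ) = lL p q m c i := Int.toNat_of_nonneg hl0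
  have hNz : (N : ℤ) = nN p q m c i := Int.toNat_of_nonneg (W4c2HJ.nN_nonneg hpq hcop hnt hc (by omega))
  have hN'z : (N' : ℤ) = nN p q m c (i - 1) := Int.toNat_of_nonneg (W4c2HJ.nN_nonneg hpq hcop hnt hc (by omega))
  have hN'δ : (N' : ℤ) ≤ (q : ℤ) - p := hN'z ▸ W4c2HJ.nN_le_delta hpq hcop hnt hc (by omega)
  have hE1 : 0 < E := by have := W4c2HJ.eE_pos hpq hcop hnt hc hm hi (by omega); omega
  let img : ℕ → ℕ → ℕ → MvPolynomial (Fin 3) k ⧸ I := fun a b c => Ideal.Quotient.mk I (X 0 ^ a * X 1 ^ b * X 2 ^ c)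
  have hx0 : ∀ a b c : ℕ, N' ≤ a → img a b c = 0 := fun a b c h => by
    obtain ⟨a', rfl⟩ : ∃ a', a = N' + a' := ⟨a - N', by omega⟩
    refine Ideal.Quotient.eq_zero_iff_mem.2 ?_
    rw [pow_add, mul_assoc, mul_assoc]
    exact Ideal.mul_mem_right _ _ (Ideal.mem_sup_left (Ideal.subset_span (Set.mem_insert _ _)))
  have hred : ∀ a b c : ℕ, img a (b + E) (c + L) = s • img (a + N) b c := fun a b c => by
    have hr : C s * X 0 ^ N - X 1 ^ E * X 2 ^ L ∈ I :=
      Ideal.mem_sup_left (Ideal.subset_span (Set.mem_insert_of_mem _ rfl))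
    show Ideal.Quotient.mk I _ = s • Ideal.Quotient.mk I _
    rw [← Ideal.Quotient.mkₐ_eq_mk k, ← map_smul, Ideal.Quotient.mkₐ_eq_mk, Ideal.Quotient.mk_eq_mk_iff_sub_mem, MvPolynomial.smul_eq_C_mul]
    convert I.mul_mem_left (-(X 0 ^ a * X 1 ^ b * X 2 ^ c)) hr using 1
    ring
  have hK : ∀ a b c a' b' c' : ℕ, a' ≤ a → b' ≤ b → c' ≤ c → (a' : ℤ) - (p : ℤ) * b' + (q : ℤ) * c' = 0 →
      (m : ℤ) ∣ (c' : ℤ) - b' → 0 < b' → img a b c = 0 := by
    intro a b c a' b' c' ha hb hc' h1 h2 h3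
    refine Ideal.Quotient.eq_zero_iff_mem.2 (Ideal.mem_sup_right ?_)
    have hmem : (monomial (W4c2Mon.v3 a' b' c') (1 : k)) ∈ idealK k p q m := by
      refine Ideal.subset_span ⟨_, fun h => ?_, ?_, rfl⟩
      · have := DFunLike.congr_fun h 1
        simp at this; omega
      · rw [show (0 : ℤ × ZMod m) = (0, 0) from rfl, W4c2Mon.weight3_iff]
        exact ⟨by simpa using h1, (ZMod.intCast_zmod_eq_zero_iff_dvd _ _).2 (by simpa using h2)⟩
    rw [← W4c2Mon.prod3_eq] at hmem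
    obtain ⟨a'', rfl⟩ : ∃ x, a = a' + x := ⟨a - a', by omega⟩
    obtain ⟨b'', rfl⟩ : ∃ x, b = b' + x := ⟨b - b', by omega⟩
    obtain ⟨c'', rfl⟩ : ∃ x, c = c' + x := ⟨c - c', by omega⟩
    convert (idealK k p q m).mul_mem_right (X 0 ^ a'' * X 1 ^ b'' * X 2 ^ c'') hmem using 1
    ring
  let W : ℕ → ℕ → ℕ → Prop := fun a b c => ((a : ℤ) - (p : ℤ) * b + (q : ℤ) * c = n) ∧ (((c : ℤ) - b : ℤ) : ZMod m) = z0
  let Term : ℕ → ℕ → ℕ → Prop := fun a b c => W a b c ∧ img a b c ≠ 0 ∧ ¬ (E ≤ b ∧ L ≤ c)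
  have key : ∀ {a b c a' b' c' : ℕ}, Term a b c → Term a' b' c' → ∀ j : ℕ,
      ((b' : ℤ) - c') - ((b : ℤ) - c) = m * j → a = a' ∧ b = b' ∧ c = c' := by
    intro a b c₁ a' b' c' h h' j hj
    have ha : (a : ℤ) < N' := by
      by_contra hh; exact h.2.1 (hx0 _ _ _ (by omega))
    have ha' : (a' : ℤ) < N' := by
      by_contra hh; exact h'.2.1 (hx0 _ _ _ (by omega))
    have hu : ((q : ℤ) - p) * ((c' : ℤ) - c₁) = ((a : ℤ) - a') + (p : ℤ) * m * j := by
      rw [mul_assoc, ← hj]; linarith [h.1.1, h'.1.1]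
    rcases Nat.eq_zero_or_pos j with rfl | hj0
    · have : (c' : ℤ) - c₁ = 0 := by
        simp only [Nat.cast_zero, mul_zero, add_zero] at hu
        refine Int.eq_zero_of_abs_lt_dvd (m := (1 : ℤ)) (one_dvd _) ?_
        by_contra hge
        rw [not_lt] at hge
        have h1 : ((q : ℤ) - p) ≤ |((q : ℤ) - p) * ((c' : ℤ) - c₁)| := by
          rw [abs_mul, abs_of_nonneg (show (0 : ℤ) ≤ (q : ℤ) - p by omega)]; nlinarith
        rw [hu] at h1
        have : |(a : ℤ) - a'| < (q : ℤ) - p := abs_lt.2 ⟨by omega, by omega⟩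
        linarith
      rw [this, mul_zero] at hu
      simp only [Nat.cast_zero, mul_zero] at hj hu
      omega
    exfalso
    have hpm : (0 : ℤ) < (p : ℤ) * m * j := by positivity
    by_cases hD : 0 < (a : ℤ) - a'
    · obtain ⟨h1, h2⟩ := W4c2HJ.ge_of_small hpq hcop hnt hc hi hir (j := (j : ℤ)) (D := (a : ℤ) - a')
        (u := (c' : ℤ) - c₁) (by omega) hD (by omega) hu
      exact h'.2.2 ⟨by omega, by omega⟩
    · have hu0 : 0 ≤ (c' : ℤ) - c₁ := by nlinarith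
      have hjm : (1 : ℤ) ≤ (m : ℤ) * j := by exact_mod_cast Nat.mul_pos hm hj0
      refine h'.2.1 (hK a' b' c' (((a' : ℤ) - a).toNat) (((b' : ℤ) - b).toNat) (((c' : ℤ) - c₁).toNat)
        (by omega) (by omega) (by omega) ?_ ?_ (by omega))
      · rw [Int.toNat_of_nonneg (by omega), Int.toNat_of_nonneg (by omega), Int.toNat_of_nonneg hu0]
        linarith [h.1.1, h'.1.1]
      · rw [Int.toNat_of_nonneg (show (0 : ℤ) ≤ (b' : ℤ) - b by omega)]
        rw [show (((c' : ℤ) - c₁).toNat : ℤ) = (c' : ℤ) - c₁ from Int.toNat_of_nonneg hu0]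
        exact ⟨-(j : ℤ), by linarith⟩
  have huniq : ∀ {a b c a' b' c' : ℕ}, Term a b c → Term a' b' c' → a = a' ∧ b = b' ∧ c = c' := by
    intro a b c₁ a' b' c' h h'
    obtain ⟨t, ht⟩ : (m : ℤ) ∣ (((b' : ℤ) - c') - ((b : ℤ) - c₁)) := by
      have := h.1.2.trans h'.1.2.symm
      rw [ZMod.intCast_eq_intCast_iff_dvd_sub] at this
      obtain ⟨t, ht⟩ := this
      exact ⟨-t, by linarith⟩
    rcases le_total 0 t with htt | htt
    · exact key h h' t.toNat (by rw [Int.toNat_of_nonneg htt, ht])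
    · obtain ⟨r1, r2, r3⟩ := key h' h (-t).toNat (by rw [Int.toNat_of_nonneg (by omega)]; linarith)
      exact ⟨r1.symm, r2.symm, r3.symm⟩
  obtain ⟨z, hz⟩ : ∃ z : MvPolynomial (Fin 3) k ⧸ I, ∀ a b c, Term a b c → img a b c = z := by
    by_cases h : ∃ a b c, Term a b c
    · obtain ⟨a, b, c₁, habc⟩ := h
      exact ⟨img a b c₁, fun a' b' c' h' => by obtain ⟨rfl, rfl, rfl⟩ := huniq h' habc; rfl⟩
    · exact ⟨0, fun a b c h' => absurd ⟨a, b, c, h'⟩ h⟩
  have hall : ∀ b a c : ℕ, W a b c → img a b c ∈ Submodule.span k {z} := by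
    intro b
    induction b using Nat.strong_induction_on with
    | _ b ih =>
      intro a c₁ hW
      by_cases h0 : img a b c₁ = 0
      · rw [h0]; exact Submodule.zero_mem _
      by_cases hr : E ≤ b ∧ L ≤ c₁
      · obtain ⟨b', rfl⟩ : ∃ x, b = x + E := ⟨b - E, by omega⟩
        obtain ⟨c', rfl⟩ : ∃ x, c₁ = x + L := ⟨c₁ - L, by omega⟩
        rw [hred]
        refine Submodule.smul_mem _ _ (ih b' (by omega) _ _ ⟨?_, ?_⟩)
        · have := hW.1
          have hn2 : nN p q m c i = -(p : ℤ) * eE p q m c i + (q : ℤ) * lL p q m c i := rfl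
          push_cast at this ⊢
          rw [hNz, hn2, ← hEz, ← hLz]; linarith
        · rw [← hW.2]
          rw [ZMod.intCast_eq_intCast_iff_dvd_sub]
          refine ⟨-hjP c i, ?_⟩
          push_cast
          rw [hEz, hLz, W4c2HJ.lL_sub]; ring
      · rw [hz a b c₁ ⟨hW, h0, hr⟩]; exact Submodule.mem_span_singleton_self z
  refine W4c2Mon.rank_piece_le_one z fun d hd => ?_
  rw [W4c2Mon.monomial3, map_one, one_mul]
  exact hall _ _ _ ((W4c2Mon.weight3_iff d n z0).1 hd)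

end W4c2Line
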