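/-
Birational quasi-finite extensions of normal local rings.
-/
import Mathlib

universe u

namespace Groth.Agent.ZmtBirational


theorem quasiFiniteAt_of_min {A B : Type u} [CommRing A] [CommRing B] [IsNoetherianRing A] [Algebra A B]
    [Algebra.FiniteType A B] (m : Ideal A) (n : Ideal B) [n.IsMaximal]
    (hn : n.comap (algebraMap A B) = m)
    (hmin : ∀ q : Ideal B, q.IsPrime → q.comap (algebraMap A B) = m → q ≤ n → q = n) [m.IsMaximal] :
    Algebra.QuasiFiniteAt A n := by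
  classical
  haveI : IsNoetherianRing B := Algebra.FiniteType.isNoetherianRing A B
  let J := m.map (algebraMap A B)
  have hover : ∀ q : Ideal B, q.IsPrime → J ≤ q → q.comap (algebraMap A B) = m := fun q hq hle =>
    ((‹m.IsMaximal›).eq_of_le (Ideal.comap_ne_top _ hq.ne_top) (Ideal.map_le_iff_le_comap.mp hle)).symm
  have hfin : {P ∈ J.minimalPrimes | P ≠ n}.Finite :=
    (Ideal.finite_minimalPrimes_of_isNoetherianRing B J).subset (Set.sep_subset _ _)
  have hnot : ∀ P ∈ {P ∈ J.minimalPrimes | P ≠ n}, ∃ x ∈ P, x ∉ n := fun P hP => by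
    by_contra h
    push Not at h
    exact hP.2 (hmin P hP.1.1.1 (hover P hP.1.1.1 hP.1.1.2) h)
  choose! x hx hxn using hnot
  let r := ∏ P ∈ hfin.toFinset, x P
  have hr : r ∉ n := fun h => by
    obtain ⟨P, hP, hPn⟩ := (‹n.IsMaximal›.isPrime.prod_mem_iff).mp h
    exact hxn P (hfin.mem_toFinset.mp hP) hPn
  refine Algebra.QuasiFiniteAt.of_isOpen_singleton_fiber ⟨n, inferInstance⟩ ?_
  refine ⟨PrimeSpectrum.basicOpen r, PrimeSpectrum.isOpen_basicOpen, ?_⟩
  ext ⟨q, hq⟩
  simp only [Set.mem_preimage, Set.mem_singleton_iff]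
  refine ⟨fun hrq => ?_, fun h => by rw [Subtype.ext_iff] at h; subst h; exact hr⟩
  have hq' : q.asIdeal.comap (algebraMap A B) = m := (congrArg PrimeSpectrum.asIdeal hq).trans hn
  have hJq : J ≤ q.asIdeal := Ideal.map_le_iff_le_comap.mpr hq'.ge
  obtain ⟨P, hP, hPq⟩ := Ideal.exists_minimalPrimes_le hJq
  by_cases hPn : P = n
  · exact Subtype.ext (PrimeSpectrum.ext (((‹n.IsMaximal›).eq_of_le q.isPrime.ne_top (hPn ▸ hPq)).symm))
  · exact absurd (q.asIdeal.prod_mem (hfin.mem_toFinset.mpr ⟨hP, hPn⟩) (hPq (hx P ⟨hP, hPn⟩))) hrq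

end Groth.Agent.ZmtBirational
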